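import Mathlib
import Cfsg.Prelude.Def_Characters

set_option autoImplicit false

namespace Cfsg.Agent.Helper8

open Representation

section
variable {k G G' V : Type*} [Field k] [Group G] [Group G'] [AddCommGroup V] [Module k V]

/-- sub-representations of `ρ ∘ f` for surjective `f` are the sub-representations of `ρ`. -/
def subrepCompOrderIso (ρ : Representation k G V) (f : G' →* G) (hf : Function.Surjective f) :
    Subrepresentation ρ ≃o Subrepresentation (MonoidHom.comp ρ f : Representation k G' V) where
  toFun σ := ⟨σ.toSubmodule, fun g _ hv => σ.apply_mem_toSubmodule (f g) hv⟩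
  invFun τ := ⟨τ.toSubmodule, fun g v hv => by
    obtain ⟨g', rfl⟩ := hf g
    exact τ.apply_mem_toSubmodule g' hv⟩
  left_inv _ := rfl
  right_inv _ := rfl
  map_rel_iff' := Iff.rfl

theorem isIrreducible_comp_surjective (ρ : Representation k G V) (f : G' →* G)
    (hf : Function.Surjective f) (h : ρ.IsIrreducible) :
    Representation.IsIrreducible (MonoidHom.comp ρ f : Representation k G' V) :=
  (OrderIso.isSimpleOrder_iff (subrepCompOrderIso ρ f hf)).mp h

theorem character_comp [FiniteDimensional k V] (ρ : Representation k G V) (f : G' →* G) (g : G') :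
    Representation.character (MonoidHom.comp ρ f : Representation k G' V) g = ρ.character (f g) := rfl

end

/-- Composition of a character with a group hom is a character (restriction, inflation). -/
theorem isCharacter_comp {G G' : Type*} [Group G] [Group G'] (f : G' →* G) {χ : G → ℂ}
    (h : Cfsg.IsCharacter G χ) : Cfsg.IsCharacter G' (fun g => χ (f g)) := by
  obtain ⟨n, ρ, rfl⟩ := h
  exact ⟨n, MonoidHom.comp ρ f, rfl⟩

/-- Composition of an irreducible character with a surjective group hom is an irreducible character
(inflation, conjugation by automorphisms). -/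
theorem isIrrCharacter_comp_surjective {G G' : Type*} [Group G] [Group G'] (f : G' →* G)
    (hf : Function.Surjective f) {χ : G → ℂ}
    (h : Cfsg.IsIrrCharacter G χ) : Cfsg.IsIrrCharacter G' (fun g => χ (f g)) := by
  obtain ⟨n, ρ, hρ, rfl⟩ := h
  exact ⟨n, MonoidHom.comp ρ f, isIrreducible_comp_surjective ρ f hf hρ, rfl⟩

/-- the conjugate `h ↦ θ (g h g⁻¹)` of an irreducible character of a normal subgroup is irreducible. -/
theorem isIrrCharacter_conj {G : Type*} [Group G] (H : Subgroup G) [hN : H.Normal] (θ : H → ℂ)
    (hθ : Cfsg.IsIrrCharacter H θ) (g : G) :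
    Cfsg.IsIrrCharacter H (fun h : H => θ ⟨g * h * g⁻¹, hN.conj_mem h h.2 g⟩) := by
  have := isIrrCharacter_comp_surjective ((MulAut.conjNormal g : MulAut H) : H ≃* H).toMonoidHom
    (MulEquiv.surjective _) hθ
  convert this using 2
  congr 1

/-- the conjugate of a character of a normal subgroup is a character. -/
theorem isCharacter_conj {G : Type*} [Group G] (H : Subgroup G) [hN : H.Normal] (θ : H → ℂ)
    (hθ : Cfsg.IsCharacter H θ) (g : G) :
    Cfsg.IsCharacter H (fun h : H => θ ⟨g * h * g⁻¹, hN.conj_mem h h.2 g⟩) := by
  have := isCharacter_comp ((MulAut.conjNormal g : MulAut H) : H ≃* H).toMonoidHom hθ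
  convert this using 2
  congr 1

/-- restriction of a character to a subgroup is a character. -/
theorem isCharacter_restrict {G : Type*} [Group G] (H : Subgroup G) {χ : G → ℂ}
    (h : Cfsg.IsCharacter G χ) : Cfsg.IsCharacter H (fun x : H => χ x) :=
  isCharacter_comp H.subtype h

end Cfsg.Agent.Helper8
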