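import Mathlib
import Cfsg.Prelude.Def_Characters
import Cfsg.Agent.Helper23.CharOrtho

set_option autoImplicit false

namespace Cfsg.Agent.Helper8

open Cfsg.Agent.Helper23

open scoped ComplexConjugate

variable {G : Type*} [Group G] [Fintype G]

theorem classInner_conj_symm (φ ψ : G → ℂ) :
    Cfsg.classInner ψ φ = conj (Cfsg.classInner φ ψ) := by
  unfold Cfsg.classInner
  rw [map_mul, map_sum, map_inv₀, Complex.conj_natCast]
  congr 1
  refine Finset.sum_congr rfl ?_
  intro g _
  rw [map_mul, Complex.conj_conj, mul_comm]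

theorem classInner_add_right (φ ψ₁ ψ₂ : G → ℂ) :
    Cfsg.classInner φ (ψ₁ + ψ₂) = Cfsg.classInner φ ψ₁ + Cfsg.classInner φ ψ₂ := by
  rw [classInner_conj_symm, classInner_add_left, map_add, ← classInner_conj_symm,
    ← classInner_conj_symm]

theorem classInner_smul_right (c : ℂ) (φ ψ : G → ℂ) :
    Cfsg.classInner φ (c • ψ) = conj c * Cfsg.classInner φ ψ := by
  rw [classInner_conj_symm, classInner_smul_left, map_mul, ← classInner_conj_symm]

theorem classInner_zero_right (φ : G → ℂ) : Cfsg.classInner φ (0 : G → ℂ) = 0 := by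
  unfold Cfsg.classInner
  simp

theorem classInner_neg_left (φ ψ : G → ℂ) :
    Cfsg.classInner (-φ) ψ = - Cfsg.classInner φ ψ := by
  have : -φ = (-1 : ℂ) • φ := by simp
  rw [this, classInner_smul_left]; ring

theorem classInner_neg_right (φ ψ : G → ℂ) :
    Cfsg.classInner φ (-ψ) = - Cfsg.classInner φ ψ := by
  have : -ψ = (-1 : ℂ) • ψ := by simp
  rw [this, classInner_smul_right]; simp

theorem classInner_sub_left (φ₁ φ₂ ψ : G → ℂ) :
    Cfsg.classInner (φ₁ - φ₂) ψ = Cfsg.classInner φ₁ ψ - Cfsg.classInner φ₂ ψ := by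
  rw [sub_eq_add_neg, classInner_add_left, classInner_neg_left, ← sub_eq_add_neg]

theorem classInner_sub_right (φ ψ₁ ψ₂ : G → ℂ) :
    Cfsg.classInner φ (ψ₁ - ψ₂) = Cfsg.classInner φ ψ₁ - Cfsg.classInner φ ψ₂ := by
  rw [sub_eq_add_neg, classInner_add_right, classInner_neg_right, ← sub_eq_add_neg]

theorem classInner_sum_right {ι : Type*} (s : Finset ι) (φ : G → ℂ) (ψ : ι → G → ℂ) :
    Cfsg.classInner φ (∑ i ∈ s, ψ i) = ∑ i ∈ s, Cfsg.classInner φ (ψ i) := by
  classical
  induction s using Finset.induction_on with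
  | empty => simp [classInner_zero_right]
  | insert a s ha ih => rw [Finset.sum_insert ha, Finset.sum_insert ha, classInner_add_right, ih]

/-- The degree of an irreducible character is a positive natural number. -/
theorem irr_degree_pos {G : Type*} [Group G] {χ : G → ℂ} (h : Cfsg.IsIrrCharacter G χ) :
    ∃ n : ℕ, 0 < n ∧ χ 1 = n := by
  obtain ⟨n, ρ, hρ, rfl⟩ := h
  refine ⟨n, ?_, ?_⟩
  · by_contra hn
    have hn0 : n = 0 := by omega
    subst hn0
    have : Nontrivial (Subrepresentation ρ) := hρ.toNontrivial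
    obtain ⟨a, b, hab⟩ := this
    apply hab
    apply SetLike.ext
    intro x
    have hx : x = 0 := Subsingleton.elim _ _
    subst hx
    constructor
    · intro _; exact b.toSubmodule.zero_mem
    · intro _; exact a.toSubmodule.zero_mem
  · rw [Representation.char_one]; simp

/-- The degree of a character is a natural number. -/
theorem char_degree_nat {G : Type*} [Group G] {χ : G → ℂ} (h : Cfsg.IsCharacter G χ) :
    ∃ n : ℕ, χ 1 = n := by
  obtain ⟨n, ρ, rfl⟩ := h
  exact ⟨n, by rw [Representation.char_one]; simp⟩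

end Cfsg.Agent.Helper8
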