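import Mathlib
import Cfsg.Prelude.Def_Characters
import Cfsg.Agent.Helper8.Inner

set_option autoImplicit false

namespace Cfsg.Agent.Helper8

open scoped ComplexConjugate

variable {G : Type*} [Group G]

theorem ebz_mem (H : Subgroup G) (θ : H → ℂ) {g : G} (hg : g ∈ H) :
    Cfsg.extendByZero H θ g = θ ⟨g, hg⟩ :=
  Subtype.val_injective.extend_apply θ 0 (⟨g, hg⟩ : H)

theorem ebz_coe (H : Subgroup G) (θ : H → ℂ) (h : H) :
    Cfsg.extendByZero H θ (h : G) = θ h :=
  Subtype.val_injective.extend_apply θ 0 h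

theorem ebz_not_mem (H : Subgroup G) (θ : H → ℂ) {g : G} (hg : g ∉ H) :
    Cfsg.extendByZero H θ g = 0 := by
  unfold Cfsg.extendByZero
  rw [Function.extend_apply']
  · rfl
  · rintro ⟨a, rfl⟩
    exact hg a.2

theorem ebz_add (H : Subgroup G) (θ φ : H → ℂ) (g : G) :
    Cfsg.extendByZero H (θ + φ) g = Cfsg.extendByZero H θ g + Cfsg.extendByZero H φ g := by
  by_cases hg : g ∈ H
  · rw [ebz_mem H _ hg, ebz_mem H _ hg, ebz_mem H _ hg]; rfl
  · rw [ebz_not_mem H _ hg, ebz_not_mem H _ hg, ebz_not_mem H _ hg]; simp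

theorem ebz_smul (H : Subgroup G) (c : ℂ) (θ : H → ℂ) (g : G) :
    Cfsg.extendByZero H (c • θ) g = c * Cfsg.extendByZero H θ g := by
  by_cases hg : g ∈ H
  · rw [ebz_mem H _ hg, ebz_mem H _ hg]; rfl
  · rw [ebz_not_mem H _ hg, ebz_not_mem H _ hg]; simp

/-- Sum over `G` against the extension by zero is a sum over `H`. -/
theorem sum_ebz_mul [Fintype G] (H : Subgroup G) [Fintype H] (θ : H → ℂ) (F : G → ℂ) :
    ∑ g : G, Cfsg.extendByZero H θ g * F g = ∑ h : H, θ h * F h := by
  classical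
  rw [← Fintype.sum_subtype_add_sum_subtype (fun g : G => g ∈ H)]
  have h2 : ∑ i : {x : G // ¬ x ∈ H}, Cfsg.extendByZero H θ i * F i = 0 := by
    apply Finset.sum_eq_zero
    intro i _
    rw [ebz_not_mem H θ i.2, zero_mul]
  rw [h2, add_zero]
  have h3 : ∀ (i1 i2 : Fintype H),
      (@Finset.univ H i1).sum (fun i => Cfsg.extendByZero H θ i * F i)
        = (@Finset.univ H i2).sum (fun h => θ h * F h) := by
    intro i1 i2
    rw [Subsingleton.elim i1 i2]
    apply Finset.sum_congr rfl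
    intro h _
    rw [ebz_coe H θ h]
  exact h3 _ _

variable [Fintype G]

theorem indFun_def (H : Subgroup G) (θ : H → ℂ) (g : G) :
    Cfsg.indFun H θ g = (Nat.card H : ℂ)⁻¹ * ∑ x : G, Cfsg.extendByZero H θ (x⁻¹ * g * x) := rfl

/-- induced functions are class functions -/
theorem indFun_conj (H : Subgroup G) (θ : H → ℂ) (g y : G) :
    Cfsg.indFun H θ (y * g * y⁻¹) = Cfsg.indFun H θ g := by
  rw [indFun_def, indFun_def]
  congr 1
  rw [← Equiv.sum_comp (Equiv.mulLeft y)]
  apply Finset.sum_congr rfl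
  intro x _
  congr 1
  simp only [Equiv.coe_mulLeft]
  group

theorem indFun_isClassFunction (H : Subgroup G) (θ : H → ℂ) :
    Cfsg.IsClassFunction G (Cfsg.indFun H θ) := fun g h => indFun_conj H θ g h

theorem indFun_add (H : Subgroup G) (θ φ : H → ℂ) :
    Cfsg.indFun H (θ + φ) = Cfsg.indFun H θ + Cfsg.indFun H φ := by
  funext g
  simp only [Pi.add_apply, indFun_def, ebz_add, Finset.sum_add_distrib, mul_add]

theorem indFun_smul (H : Subgroup G) (c : ℂ) (θ : H → ℂ) :
    Cfsg.indFun H (c • θ) = c • Cfsg.indFun H θ := by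
  funext g
  simp only [Pi.smul_apply, indFun_def, ebz_smul, ← Finset.mul_sum, smul_eq_mul]
  ring

theorem indFun_zero (H : Subgroup G) : Cfsg.indFun H (0 : H → ℂ) = 0 := by
  have := indFun_smul H 0 (0 : H → ℂ)
  simpa using this

theorem indFun_neg (H : Subgroup G) (θ : H → ℂ) :
    Cfsg.indFun H (-θ) = - Cfsg.indFun H θ := by
  have := indFun_smul H (-1) θ
  simpa using this

theorem indFun_sub (H : Subgroup G) (θ φ : H → ℂ) :
    Cfsg.indFun H (θ - φ) = Cfsg.indFun H θ - Cfsg.indFun H φ := by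
  rw [sub_eq_add_neg, indFun_add, indFun_neg, ← sub_eq_add_neg]

theorem indFun_sum {ι : Type*} (H : Subgroup G) (s : Finset ι) (θ : ι → H → ℂ) :
    Cfsg.indFun H (∑ i ∈ s, θ i) = ∑ i ∈ s, Cfsg.indFun H (θ i) := by
  classical
  induction s using Finset.induction_on with
  | empty => simp [indFun_zero]
  | insert a s ha ih => rw [Finset.sum_insert ha, Finset.sum_insert ha, indFun_add, ih]

/-- **Frobenius reciprocity** for class functions. -/
theorem frobenius_reciprocity (H : Subgroup G) [Fintype H] (θ : H → ℂ) (χ : G → ℂ)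
    (hχ : Cfsg.IsClassFunction G χ) :
    Cfsg.classInner (Cfsg.indFun H θ) χ = Cfsg.classInner θ (fun h : H => χ h) := by
  unfold Cfsg.classInner
  have hG : (Nat.card G : ℂ) ≠ 0 := Nat.cast_ne_zero.mpr Nat.card_pos.ne'
  have h1 : ∑ g : G, Cfsg.indFun H θ g * conj (χ g)
      = (Nat.card H : ℂ)⁻¹ * ∑ x : G, ∑ g : G, Cfsg.extendByZero H θ (x⁻¹ * g * x) * conj (χ g) := by
    rw [Finset.sum_comm, Finset.mul_sum]
    apply Finset.sum_congr rfl
    intro g _
    rw [indFun_def, mul_assoc, Finset.sum_mul]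
  have h2 : ∀ x : G, ∑ g : G, Cfsg.extendByZero H θ (x⁻¹ * g * x) * conj (χ g)
      = ∑ h : H, θ h * conj (χ h) := by
    intro x
    rw [← sum_ebz_mul H θ (fun g => conj (χ g))]
    rw [← Equiv.sum_comp (MulAut.conj x).toEquiv]
    apply Finset.sum_congr rfl
    intro g _
    simp only [MulEquiv.toEquiv_eq_coe, EquivLike.coe_coe, MulAut.conj_apply]
    have e : x⁻¹ * (x * g * x⁻¹) * x = g := by group
    rw [e, hχ g x]
  rw [h1, Finset.sum_congr rfl (fun x _ => h2 x), Finset.sum_const, Finset.card_univ,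
    nsmul_eq_mul, Nat.card_eq_fintype_card (α := G)]
  have hG' : (Fintype.card G : ℂ) ≠ 0 := by
    rw [← Nat.card_eq_fintype_card]; exact hG
  field_simp

/-- For normal `H`, the induced function vanishes off `H`. -/
theorem indFun_eq_zero_of_not_mem (H : Subgroup G) [hN : H.Normal] (θ : H → ℂ) {g : G} (hg : g ∉ H) :
    Cfsg.indFun H θ g = 0 := by
  rw [indFun_def]
  have : ∀ x : G, Cfsg.extendByZero H θ (x⁻¹ * g * x) = 0 := by
    intro x
    apply ebz_not_mem
    intro h
    apply hg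
    have := hN.conj_mem _ h x
    simpa [mul_assoc] using this
  simp [this]

/-- For normal `H`, the induced function on `H` is the average of the conjugates. -/
theorem indFun_normal_apply (H : Subgroup G) [hN : H.Normal] (θ : H → ℂ) (h : H) :
    Cfsg.indFun H θ (h : G) = (Nat.card H : ℂ)⁻¹ *
      ∑ x : G, θ ⟨x * h * x⁻¹, hN.conj_mem h h.2 x⟩ := by
  rw [indFun_def]
  congr 1
  rw [← Equiv.sum_comp (Equiv.inv G)]
  apply Finset.sum_congr rfl
  intro x _
  simp only [Equiv.inv_apply, inv_inv]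
  exact ebz_coe H θ (⟨x * h * x⁻¹, hN.conj_mem h h.2 x⟩ : H)

end Cfsg.Agent.Helper8
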