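import Mathlib
import Cfsg.Prelude.Def_Characters
import Cfsg.Agent.Helper8.Ind

set_option autoImplicit false

namespace Cfsg.Agent.Helper8

open scoped ComplexConjugate

variable {G : Type*} [Group G] [Fintype G]

/-- a function on `H ≤ T` viewed on `H.subgroupOf T` -/
def toSubgroupOf (H T : Subgroup G) (θ : H → ℂ) : ↥(H.subgroupOf T) → ℂ :=
  fun x => θ ⟨((x : T) : G), Subgroup.mem_subgroupOf.mp x.2⟩

omit [Fintype G] in
theorem ebz_toSubgroupOf (H T : Subgroup G) (θ : H → ℂ) (t : T) :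
    Cfsg.extendByZero (H.subgroupOf T) (toSubgroupOf H T θ) t = Cfsg.extendByZero H θ (t : G) := by
  by_cases ht : (t : G) ∈ H
  · rw [ebz_mem H θ ht, ebz_mem (H.subgroupOf T) _ (Subgroup.mem_subgroupOf.mpr ht)]
    rfl
  · rw [ebz_not_mem H θ ht, ebz_not_mem (H.subgroupOf T) _ (fun h => ht (Subgroup.mem_subgroupOf.mp h))]

omit [Fintype G] in
theorem card_subgroupOf_of_le {H T : Subgroup G} (hHT : H ≤ T) :
    Nat.card ↥(H.subgroupOf T) = Nat.card H :=
  Nat.card_congr (Subgroup.subgroupOfEquivOfLe hHT).toEquiv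

/-- **Transitivity of induction.** -/
theorem indFun_trans (H T : Subgroup G) [Fintype T] (hHT : H ≤ T) (θ : H → ℂ) :
    Cfsg.indFun T (Cfsg.indFun (H.subgroupOf T) (toSubgroupOf H T θ)) = Cfsg.indFun H θ := by
  classical
  funext g
  have hT0 : (Nat.card T : ℂ) ≠ 0 := Nat.cast_ne_zero.mpr Nat.card_pos.ne'
  have hH0 : (Nat.card H : ℂ) ≠ 0 := Nat.cast_ne_zero.mpr Nat.card_pos.ne'
  -- the extension by zero of the inner induced function
  have key : ∀ y : G, Cfsg.extendByZero T (Cfsg.indFun (H.subgroupOf T) (toSubgroupOf H T θ)) y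
      = (Nat.card H : ℂ)⁻¹ * ∑ s : T, Cfsg.extendByZero H θ ((s : G)⁻¹ * y * (s : G)) := by
    intro y
    by_cases hy : y ∈ T
    · rw [ebz_mem T _ hy, indFun_def, card_subgroupOf_of_le hHT]
      congr 1
      apply Finset.sum_congr rfl
      intro s _
      rw [ebz_toSubgroupOf]
      rfl
    · rw [ebz_not_mem T _ hy]
      symm
      rw [Finset.sum_eq_zero, mul_zero]
      intro s _
      apply ebz_not_mem
      intro h
      apply hy
      have := T.mul_mem (T.mul_mem s.2 (hHT h)) (T.inv_mem s.2)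
      simpa [mul_assoc] using this
  rw [indFun_def, indFun_def]
  simp only [key]
  rw [← Finset.mul_sum, Finset.sum_comm]
  have h2 : ∀ s : T, ∑ x : G, Cfsg.extendByZero H θ ((s : G)⁻¹ * (x⁻¹ * g * x) * (s : G))
      = ∑ x : G, Cfsg.extendByZero H θ (x⁻¹ * g * x) := by
    intro s
    rw [← Equiv.sum_comp (Equiv.mulRight (s : G))
      (fun x => Cfsg.extendByZero H θ (x⁻¹ * g * x))]
    apply Finset.sum_congr rfl
    intro x _
    simp only [Equiv.coe_mulRight]
    congr 1
    group
  rw [Finset.sum_congr rfl (fun s _ => h2 s), Finset.sum_const, Finset.card_univ, nsmul_eq_mul,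
    ← Nat.card_eq_fintype_card]
  field_simp

end Cfsg.Agent.Helper8
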