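import Mathlib
import Cfsg.Prelude.Def_Characters
import Cfsg.Agent.Helper8.Ind
import Cfsg.Agent.Helper8.CharComp
import Cfsg.Agent.Helper24.ColumnOrth
import Cfsg.Agent.Helper24.Linear

set_option autoImplicit false

namespace Cfsg.Agent.Helper8

open scoped ComplexConjugate

variable {G : Type*} [Group G] [Fintype G]

/-- the conjugate `h ↦ θ (g h g⁻¹)` of a function on a normal subgroup -/
def conjChar (H : Subgroup G) [hN : H.Normal] (θ : H → ℂ) (g : G) : H → ℂ :=
  fun h : H => θ ⟨g * h * g⁻¹, hN.conj_mem h h.2 g⟩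

omit [Fintype G] in
theorem conjChar_apply (H : Subgroup G) [hN : H.Normal] (θ : H → ℂ) (g : G) (h : H) :
    conjChar H θ g h = θ ⟨g * h * g⁻¹, hN.conj_mem h h.2 g⟩ := rfl

/-- **Norm of an induced character from a normal subgroup**: `|H| ⟨Ind θ, Ind θ⟩` is the order
of the stabiliser of `θ`. -/
theorem card_mul_classInner_indFun_self (H : Subgroup G) [hN : H.Normal] (θ : H → ℂ)
    (hθ : Cfsg.IsIrrCharacter H θ) :
    (Nat.card H : ℂ) * Cfsg.classInner (Cfsg.indFun H θ) (Cfsg.indFun H θ)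
      = (Nat.card {g : G // ∀ h : H, θ ⟨g * h * g⁻¹, hN.conj_mem h h.2 g⟩ = θ h} : ℂ) := by
  classical
  have : Fintype H := Fintype.ofFinite H
  rw [frobenius_reciprocity H θ _ (indFun_isClassFunction H θ)]
  have h1 : (fun h : H => Cfsg.indFun H θ (h : G))
      = (Nat.card H : ℂ)⁻¹ • ∑ x : G, (fun h : H => θ ⟨x * h * x⁻¹, hN.conj_mem h h.2 x⟩) := by
    funext h
    rw [indFun_normal_apply]
    simp [Finset.sum_apply]
  rw [h1, classInner_smul_right, classInner_sum_right]
  have h2 : ∀ x : G, Cfsg.classInner θ (fun h : H => θ ⟨x * h * x⁻¹, hN.conj_mem h h.2 x⟩)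
      = if (∀ h : H, θ ⟨x * h * x⁻¹, hN.conj_mem h h.2 x⟩ = θ h) then 1 else 0 := by
    intro x
    rw [Cfsg.Agent.Helper23.classInner_irrCharacter θ _ hθ (isIrrCharacter_conj H θ hθ x)]
    by_cases hx : ∀ h : H, θ ⟨x * h * x⁻¹, hN.conj_mem h h.2 x⟩ = θ h
    · rw [if_pos hx, if_pos]
      funext h
      exact (hx h).symm
    · rw [if_neg hx, if_neg]
      intro h
      apply hx
      intro y
      exact (congrFun h y).symm
  have hcard : (Nat.card {g : G // ∀ h : H, θ ⟨g * h * g⁻¹, hN.conj_mem h h.2 g⟩ = θ h} : ℂ)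
      = ((Finset.univ.filter
          (fun g : G => ∀ h : H, θ ⟨g * h * g⁻¹, hN.conj_mem h h.2 g⟩ = θ h)).card : ℂ) := by
    rw [Nat.card_eq_fintype_card, Fintype.card_subtype]
  rw [Finset.sum_congr rfl (fun x _ => h2 x), Finset.sum_boole, map_inv₀, Complex.conj_natCast,
    hcard]
  have hH : (Nat.card H : ℂ) ≠ 0 := Nat.cast_ne_zero.mpr Nat.card_pos.ne'
  field_simp

open Classical in
/-- **Brauer's permutation lemma**, counting form: the number of irreducible characters of a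
normal subgroup `H` fixed by `x` is the average over `n ∈ H` of `|C_H(n)|` over those `n` with
`x n x⁻¹` conjugate to `n` in `H`. -/
theorem card_fixed_irr (H : Subgroup G) [hN : H.Normal] [Fintype H] (x : G) :
    (Nat.card {φ : Cfsg.IrrCharacter H // conjChar H (φ : H → ℂ) x = (φ : H → ℂ)} : ℂ)
      = (Nat.card H : ℂ)⁻¹ * ∑ n : H,
          if IsConj (⟨x * n * x⁻¹, hN.conj_mem n n.2 x⟩ : H) n then
            (Nat.card (Subgroup.centralizer
              ({(⟨x * n * x⁻¹, hN.conj_mem n n.2 x⟩ : H)} : Set H)) : ℂ) else 0 := by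
  classical
  have : Fintype (Cfsg.IrrCharacter H) := Fintype.ofFinite _
  have h1 : ∀ φ : Cfsg.IrrCharacter H,
      Cfsg.classInner (conjChar H (φ : H → ℂ) x) (φ : H → ℂ)
        = if conjChar H (φ : H → ℂ) x = (φ : H → ℂ) then 1 else 0 := fun φ =>
    Cfsg.Agent.Helper23.classInner_irrCharacter _ _ (isIrrCharacter_conj H _ φ.2 x) φ.2
  have h2 : ∑ φ : Cfsg.IrrCharacter H, Cfsg.classInner (conjChar H (φ : H → ℂ) x) (φ : H → ℂ)
      = (Nat.card {φ : Cfsg.IrrCharacter H // conjChar H (φ : H → ℂ) x = (φ : H → ℂ)} : ℂ) := by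
    rw [Finset.sum_congr rfl (fun φ _ => h1 φ), Finset.sum_boole,
      Nat.card_eq_fintype_card, Fintype.card_subtype]
  rw [← h2]
  unfold Cfsg.classInner
  rw [← Finset.mul_sum, Finset.sum_comm]
  congr 1
  apply Finset.sum_congr rfl
  intro n _
  exact Cfsg.Agent.Helper24.sum_irr_mul_conj (⟨x * n * x⁻¹, hN.conj_mem n n.2 x⟩ : H) n

end Cfsg.Agent.Helper8
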