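import Mathlib
import Cfsg.Prelude.Def_Characters

set_option autoImplicit false

namespace Cfsg.Agent.Helper8

/-- positive definiteness of the inner product of functions on a finite group -/
theorem eq_zero_of_classInner_self_eq_zero {G : Type*} [Group G] [Fintype G] {f : G → ℂ}
    (h : Cfsg.classInner f f = 0) : f = 0 := by
  unfold Cfsg.classInner at h
  have hG : (Nat.card G : ℂ)⁻¹ ≠ 0 := inv_ne_zero (Nat.cast_ne_zero.mpr Nat.card_pos.ne')
  have h1 : ∑ g : G, f g * (starRingEnd ℂ) (f g) = 0 := by
    rcases mul_eq_zero.mp h with h | h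
    · exact absurd h hG
    · exact h
  have h2 : ∑ g : G, ((Complex.normSq (f g) : ℝ) : ℂ) = 0 := by
    rw [← h1]
    apply Finset.sum_congr rfl
    intro g _
    rw [Complex.mul_conj]
  have h3 : ∑ g : G, Complex.normSq (f g) = 0 := by exact_mod_cast h2
  funext g
  have := (Finset.sum_eq_zero_iff_of_nonneg (fun g _ => Complex.normSq_nonneg (f g))).mp h3 g
    (Finset.mem_univ g)
  exact Complex.normSq_eq_zero.mp this

/-- the norm of a function is a nonnegative real number -/
theorem classInner_self_eq_ofReal {G : Type*} [Group G] [Fintype G] (f : G → ℂ) :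
    ∃ r : ℝ, 0 ≤ r ∧ Cfsg.classInner f f = (r : ℂ) := by
  refine ⟨(Nat.card G : ℝ)⁻¹ * ∑ g : G, Complex.normSq (f g), ?_, ?_⟩
  · apply mul_nonneg
    · exact inv_nonneg.mpr (Nat.cast_nonneg _)
    · exact Finset.sum_nonneg (fun g _ => Complex.normSq_nonneg _)
  · unfold Cfsg.classInner
    push_cast
    congr 1
    apply Finset.sum_congr rfl
    intro g _
    rw [Complex.mul_conj]

/-- an integer-valued norm is a nonnegative integer -/
theorem int_nonneg_of_classInner_self {G : Type*} [Group G] [Fintype G] {f : G → ℂ} {m : ℤ}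
    (h : Cfsg.classInner f f = (m : ℂ)) : 0 ≤ m := by
  obtain ⟨r, hr, hr'⟩ := classInner_self_eq_ofReal f
  rw [h] at hr'
  have : (m : ℝ) = r := by exact_mod_cast hr'
  have : (0 : ℝ) ≤ (m : ℝ) := by rw [this]; exact hr
  exact_mod_cast this

end Cfsg.Agent.Helper8
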