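import Mathlib
import Cfsg.Prelude.Def_Characters
import Cfsg.Agent.Helper8.Inner

set_option autoImplicit false

namespace Cfsg.Agent.Helper8

open scoped ComplexConjugate

/-- values of a homomorphism from a finite group to `ℂˣ` have norm one -/
theorem norm_hom_units {W : Type*} [Group W] [Finite W] (ω : W →* ℂˣ) (w : W) :
    ‖((ω w : ℂˣ) : ℂ)‖ = 1 := by
  have h : ((ω w : ℂˣ) : ℂ) ^ orderOf w = 1 := by
    rw [← Units.val_pow_eq_pow_val, ← map_pow, pow_orderOf_eq_one, map_one, Units.val_one]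
  exact Complex.norm_eq_one_of_pow_eq_one h (orderOf_pos w).ne'

theorem conj_hom_units {W : Type*} [Group W] [Finite W] (ω : W →* ℂˣ) (w : W) :
    conj ((ω w : ℂˣ) : ℂ) = ((ω⁻¹ w : ℂˣ) : ℂ) := by
  rw [← Complex.inv_eq_conj (norm_hom_units ω w)]
  simp

/-- orthogonality of linear characters of a finite group -/
theorem classInner_hom_units {W : Type*} [Group W] [Fintype W] (ω ω' : W →* ℂˣ) :
    Cfsg.classInner (fun w => ((ω w : ℂˣ) : ℂ)) (fun w => ((ω' w : ℂˣ) : ℂ))
      = if ω = ω' then 1 else 0 := by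
  classical
  unfold Cfsg.classInner
  have h1 : ∀ w : W, ((ω w : ℂˣ) : ℂ) * conj ((ω' w : ℂˣ) : ℂ)
      = ((Units.coeHom ℂ).comp (ω * ω'⁻¹)) w := by
    intro w
    rw [conj_hom_units]
    simp
  rw [Finset.sum_congr rfl (fun w _ => h1 w)]
  have hW : (Nat.card W : ℂ) ≠ 0 := Nat.cast_ne_zero.mpr Nat.card_pos.ne'
  split_ifs with h
  · subst h
    have : ∀ w : W, ((Units.coeHom ℂ).comp (ω * ω⁻¹)) w = 1 := by
      intro w; simp
    rw [Finset.sum_congr rfl (fun w _ => this w), Finset.sum_const, Finset.card_univ,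
      nsmul_eq_mul, mul_one, ← Nat.card_eq_fintype_card]
    exact inv_mul_cancel₀ hW
  · rw [sum_hom_units_eq_zero, mul_zero]
    intro h2
    apply h
    ext w
    have := DFunLike.congr_fun h2 w
    simp only [MonoidHom.coe_comp, Units.coeHom_apply, Function.comp_apply, MonoidHom.mul_apply,
      MonoidHom.inv_apply, MonoidHom.one_apply, Units.val_mul] at this
    have h3 : ω w * (ω' w)⁻¹ = 1 := by
      apply Units.ext
      simpa using this
    rw [mul_inv_eq_one] at h3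
    rw [h3]

/-- `ℂ` has enough roots of unity for any finite group. -/
theorem hasEnoughRootsOfUnity_exponent (W : Type*) [Group W] [Finite W] :
    HasEnoughRootsOfUnity ℂ (Monoid.exponent W) := by
  have : NeZero ((Monoid.exponent W : ℕ) : ℂ) :=
    ⟨Nat.cast_ne_zero.mpr Monoid.exponent_ne_zero_of_finite⟩
  infer_instance

/-- For a finite commutative group, an element outside a subgroup `H` is detected by a linear
character trivial on `H`. -/
theorem exists_hom_units_of_not_mem {W : Type*} [Group W] [Finite W]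
    (hc : ∀ a b : W, a * b = b * a) (H : Subgroup W) {x : W} (hx : x ∉ H) :
    ∃ φ : W →* ℂˣ, (∀ y ∈ H, φ y = 1) ∧ φ x ≠ 1 := by
  let _ : CommGroup W := { ‹Group W› with mul_comm := hc }
  have := hasEnoughRootsOfUnity_exponent W
  by_contra hcon
  push Not at hcon
  exact hx ((CommGroup.forall_monoidHom_apply_eq_one_iff (M := ℂ) H x).mp hcon)

theorem finite_hom_units {W : Type*} [Group W] [Finite W] (hc : ∀ a b : W, a * b = b * a) :
    Finite (W →* ℂˣ) := by
  let _ : CommGroup W := { ‹Group W› with mul_comm := hc }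
  have := hasEnoughRootsOfUnity_exponent W
  have h := CommGroup.card_monoidHom_of_hasEnoughRootsOfUnity W ℂ
  apply Nat.finite_of_card_ne_zero
  rw [h]
  exact Nat.card_pos.ne'

/-- Summing the values at `x` of all linear characters trivial on `H`. -/
theorem sum_annihilator {W : Type*} [Group W] [Finite W]
    (hc : ∀ a b : W, a * b = b * a) [Fintype (W →* ℂˣ)] (H : Subgroup W)
    [DecidablePred (fun φ : W →* ℂˣ => ∀ y ∈ H, φ y = 1)] (x : W) [Decidable (x ∈ H)] :
    ∑ φ ∈ Finset.univ.filter (fun φ : W →* ℂˣ => ∀ y ∈ H, φ y = 1), ((φ x : ℂˣ) : ℂ)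
      = if x ∈ H then
          ((Finset.univ.filter (fun φ : W →* ℂˣ => ∀ y ∈ H, φ y = 1)).card : ℂ) else 0 := by
  classical
  split_ifs with hx
  · rw [Finset.card_eq_sum_ones, Nat.cast_sum]
    apply Finset.sum_congr rfl
    intro φ hφ
    rw [Finset.mem_filter] at hφ
    rw [hφ.2 x hx]
    simp
  · obtain ⟨φ₀, h0, h1⟩ := exists_hom_units_of_not_mem hc H hx
    set S := Finset.univ.filter (fun φ : W →* ℂˣ => ∀ y ∈ H, φ y = 1) with hS
    have h2 : ∑ φ ∈ S, ((φ x : ℂˣ) : ℂ) = ∑ φ ∈ S, (((φ₀ * φ) x : ℂˣ) : ℂ) := by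
      symm
      apply Finset.sum_nbij' (fun φ => φ₀ * φ) (fun φ => φ₀⁻¹ * φ)
      · intro φ hφ
        rw [hS, Finset.mem_filter] at hφ ⊢
        refine ⟨Finset.mem_univ _, fun y hy => ?_⟩
        rw [MonoidHom.mul_apply, h0 y hy, hφ.2 y hy, one_mul]
      · intro φ hφ
        rw [hS, Finset.mem_filter] at hφ ⊢
        refine ⟨Finset.mem_univ _, fun y hy => ?_⟩
        rw [MonoidHom.mul_apply, MonoidHom.inv_apply, h0 y hy, hφ.2 y hy, inv_one, one_mul]
      · intro φ _
        ext w; simp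
      · intro φ _
        ext w; simp
      · intro φ _
        rfl
    have h3 : ∑ φ ∈ S, (((φ₀ * φ) x : ℂˣ) : ℂ) = ((φ₀ x : ℂˣ) : ℂ) * ∑ φ ∈ S, ((φ x : ℂˣ) : ℂ) := by
      rw [Finset.mul_sum]
      apply Finset.sum_congr rfl
      intro φ _
      simp
    have h4 : (1 - ((φ₀ x : ℂˣ) : ℂ)) * ∑ φ ∈ S, ((φ x : ℂˣ) : ℂ) = 0 := by
      rw [sub_mul, one_mul, ← h3, ← h2, sub_self]
    rcases mul_eq_zero.mp h4 with h5 | h5
    · exfalso
      apply h1
      apply Units.ext
      rw [Units.val_one]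
      exact (sub_eq_zero.mp h5).symm
    · exact h5

/-- The annihilator of `H` in the dual group contains the trivial character. -/
theorem card_annihilator_ne_zero {W : Type*} [Group W] [Fintype (W →* ℂˣ)] (H : Subgroup W)
    [DecidablePred (fun φ : W →* ℂˣ => ∀ y ∈ H, φ y = 1)] :
    ((Finset.univ.filter (fun φ : W →* ℂˣ => ∀ y ∈ H, φ y = 1)).card : ℂ) ≠ 0 := by
  rw [Nat.cast_ne_zero]
  apply Finset.card_ne_zero_of_mem (a := 1)
  rw [Finset.mem_filter]
  exact ⟨Finset.mem_univ _, fun y _ => rfl⟩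

/-- A weighted sum over the annihilator of `H` isolating the coset `w₀ H`. -/
theorem sum_annihilator_conj_mul {W : Type*} [Group W] [Finite W]
    (hc : ∀ a b : W, a * b = b * a) [Fintype (W →* ℂˣ)] (H : Subgroup W)
    [DecidablePred (fun φ : W →* ℂˣ => ∀ y ∈ H, φ y = 1)] (w₀ w : W) [Decidable (w₀⁻¹ * w ∈ H)]
    (hw₀ : w₀ ∉ H) :
    ∑ φ ∈ Finset.univ.filter (fun φ : W →* ℂˣ => ∀ y ∈ H, φ y = 1),
        conj ((φ w₀ : ℂˣ) : ℂ) * (1 - ((φ w : ℂˣ) : ℂ))
      = - (if w₀⁻¹ * w ∈ H then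
          ((Finset.univ.filter (fun φ : W →* ℂˣ => ∀ y ∈ H, φ y = 1)).card : ℂ) else 0) := by
  classical
  have h1 : ∀ φ : W →* ℂˣ, conj ((φ w₀ : ℂˣ) : ℂ) * (1 - ((φ w : ℂˣ) : ℂ))
      = ((φ w₀⁻¹ : ℂˣ) : ℂ) - ((φ (w₀⁻¹ * w) : ℂˣ) : ℂ) := by
    intro φ
    rw [conj_hom_units, MonoidHom.inv_apply, ← map_inv, mul_sub, mul_one, map_mul, Units.val_mul]
  rw [Finset.sum_congr rfl (fun φ _ => h1 φ), Finset.sum_sub_distrib, sum_annihilator hc,
    sum_annihilator hc, if_neg (fun h => hw₀ (by simpa using H.inv_mem h)), zero_sub]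

end Cfsg.Agent.Helper8
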