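import Mathlib
import Cfsg.Prelude.Def_Characters
import Cfsg.Agent.Helper8.Ind
import Cfsg.Agent.Helper8.Inner
import Cfsg.Agent.Helper8.Brauer
import Cfsg.Agent.Helper8.DualGroup
import Cfsg.Agent.Helper24.Clifford
import Cfsg.Agent.Helper24.Product
import Cfsg.Agent.Helper24.Linear
import Cfsg.Agent.Helper24.SmallDegree
import Cfsg.Agent.Helper5.IndFun

/-!
Clifford theory over an invariant irreducible character with abelian quotient.
-/

set_option autoImplicit false

namespace Cfsg.Agent.Helper8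

open Cfsg.Agent.Helper24 (isCharacter_indFun isIrrCharacter_iff_classInner_self classInner_sum_irr
  classInner_sum_sum clifford_finset conjFun classInner_of_isIrrCharacter isCharacter_of_monoidHom
  irrDeg irrDeg_dvd_card irrDeg_spec)

variable {G : Type*} [Group G] [Fintype G]

/-- values on `H` of the function induced from an invariant function on the normal subgroup `H` -/
theorem indFun_invariant_apply (H : Subgroup G) [hN : H.Normal] (θ : H → ℂ)
    (hinv : ∀ (g : G) (h : H), θ ⟨g * h * g⁻¹, hN.conj_mem h h.2 g⟩ = θ h) (h : H) :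
    Cfsg.indFun H θ (h : G) = (H.index : ℂ) * θ h := by
  rw [indFun_normal_apply]
  simp only [hinv]
  rw [Finset.sum_const, Finset.card_univ, nsmul_eq_mul, ← Nat.card_eq_fintype_card]
  have h1 : (Nat.card G : ℂ) = (H.index : ℂ) * (Nat.card H : ℂ) := by
    rw [← Nat.cast_mul, Subgroup.index_mul_card]
  have hH0 : (Nat.card H : ℂ) ≠ 0 := Nat.cast_ne_zero.mpr Nat.card_pos.ne'
  rw [h1]
  field_simp

/-- an irreducible constituent of the function induced from an invariant irreducible character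
restricts to a multiple of that character -/
theorem restrict_eq_of_invariant (H : Subgroup G) [hN : H.Normal] (θ : H → ℂ)
    (hθ : Cfsg.IsIrrCharacter H θ)
    (hinv : ∀ (g : G) (h : H), θ ⟨g * h * g⁻¹, hN.conj_mem h h.2 g⟩ = θ h)
    (ξ : G → ℂ) (hξ : Cfsg.IsIrrCharacter G ξ)
    (hne : Cfsg.classInner (Cfsg.indFun H θ) ξ ≠ 0) :
    (fun h : H => ξ h) = Cfsg.classInner (Cfsg.indFun H θ) ξ • θ := by
  classical
  have fH : Fintype H := Fintype.ofFinite H
  have fI : Fintype (Cfsg.IrrCharacter H) := Fintype.ofFinite _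
  have hξc : Cfsg.IsClassFunction G ξ :=
    Cfsg.Agent.Helper24.IsCharacter.isClassFunction (Cfsg.Agent.Helper24.IsIrrCharacter.isCharacter hξ)
  have hfr := frobenius_reciprocity H θ ξ hξc
  obtain ⟨m, hm⟩ := Cfsg.Agent.Helper24.IsCharacter.classInner_nat
    (isCharacter_restrict H (Cfsg.Agent.Helper24.IsIrrCharacter.isCharacter hξ))
    (Cfsg.Agent.Helper24.IsIrrCharacter.isCharacter hθ)
  have hsymm : Cfsg.classInner θ (fun h : H => ξ h) = (m : ℂ) := by
    rw [classInner_conj_symm (fun h : H => ξ h) θ, hm, Complex.conj_natCast]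
  have hconst : Cfsg.classInner (fun h : H => ξ h) θ ≠ 0 := by
    rw [hm, ← hsymm, ← hfr]
    exact hne
  have hcl := clifford_finset H hξ hθ hconst
  have himg : Finset.univ.image (conjFun H θ) = {θ} := by
    ext ψ
    simp only [Finset.mem_image, Finset.mem_univ, true_and, Finset.mem_singleton]
    constructor
    · rintro ⟨g, rfl⟩
      funext h
      exact hinv g h
    · rintro rfl
      exact ⟨1, funext (fun h => hinv 1 h)⟩
  rw [himg, Finset.sum_singleton] at hcl
  rw [hcl, hfr, hsymm, hm]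

/-- multiplying an irreducible character by a linear character gives an irreducible character -/
theorem isIrrCharacter_linear_mul (φ : G →* ℂˣ) {ξ : G → ℂ} (hξ : Cfsg.IsIrrCharacter G ξ) :
    Cfsg.IsIrrCharacter G (fun g => ((φ g : ℂˣ) : ℂ) * ξ g) := by
  have fI : Fintype (Cfsg.IrrCharacter G) := Fintype.ofFinite _
  rw [isIrrCharacter_iff_classInner_self]
  constructor
  · exact Cfsg.Agent.Helper24.IsCharacter.mul
      (isCharacter_of_monoidHom ((Units.coeHom ℂ).comp φ))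
      (Cfsg.Agent.Helper24.IsIrrCharacter.isCharacter hξ)
  · have h1 := (isIrrCharacter_iff_classInner_self.mp hξ).2
    rw [← h1]
    unfold Cfsg.classInner
    congr 1
    apply Finset.sum_congr rfl
    intro g _
    have hn : ((φ g : ℂˣ) : ℂ) * (starRingEnd ℂ) ((φ g : ℂˣ) : ℂ) = 1 := by
      rw [Complex.mul_conj, Complex.normSq_eq_norm_sq, norm_hom_units]
      simp
    rw [map_mul]
    calc ((φ g : ℂˣ) : ℂ) * ξ g * ((starRingEnd ℂ) ((φ g : ℂˣ) : ℂ) * (starRingEnd ℂ) (ξ g))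
        = (((φ g : ℂˣ) : ℂ) * (starRingEnd ℂ) ((φ g : ℂˣ) : ℂ)) * (ξ g * (starRingEnd ℂ) (ξ g)) := by
          ring
      _ = ξ g * (starRingEnd ℂ) (ξ g) := by rw [hn, one_mul]

/-- sum of the values at a coset of all linear characters of an abelian quotient -/
theorem sum_dual_quotient (H : Subgroup G) [hN : H.Normal]
    (hQc : ∀ a b : G ⧸ H, a * b = b * a) [Fintype ((G ⧸ H) →* ℂˣ)] (g : G) [Decidable (g ∈ H)] :
    ∑ φ : (G ⧸ H) →* ℂˣ, ((φ (g : G ⧸ H) : ℂˣ) : ℂ)
      = if g ∈ H then (Fintype.card ((G ⧸ H) →* ℂˣ) : ℂ) else 0 := by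
  classical
  have h := sum_annihilator hQc (⊥ : Subgroup (G ⧸ H)) (g : G ⧸ H)
  have hfil : Finset.univ.filter (fun φ : (G ⧸ H) →* ℂˣ => ∀ y ∈ (⊥ : Subgroup (G ⧸ H)), φ y = 1)
      = Finset.univ := by
    apply Finset.filter_true_of_mem
    intro φ _ y hy
    rw [Subgroup.mem_bot] at hy
    rw [hy, map_one]
  rw [hfil] at h
  rw [h, Finset.card_univ]
  have hiff : ((g : G ⧸ H) ∈ (⊥ : Subgroup (G ⧸ H))) ↔ g ∈ H := by
    rw [Subgroup.mem_bot, QuotientGroup.eq_one_iff]
  by_cases hg : g ∈ H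
  · rw [if_pos hg, if_pos (hiff.mpr hg)]
  · rw [if_neg hg, if_neg (fun h' => hg (hiff.mp h'))]

/-- **Clifford theory over an invariant character with abelian quotient.**  If `θ` is an
irreducible character of the normal subgroup `H`, invariant in `G`, and `G/H` is abelian, then
`θ^G = e (ψ₁ + ... + ψ_t)` with distinct irreducible `ψ_i` all restricting to `e θ`, and
`e² t |H| = |G|`. -/
theorem clifford_abelian_quotient (H : Subgroup G) [hN : H.Normal] (θ : H → ℂ)
    (hθ : Cfsg.IsIrrCharacter H θ)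
    (hinv : ∀ (g : G) (h : H), θ ⟨g * h * g⁻¹, hN.conj_mem h h.2 g⟩ = θ h)
    (hab : ∀ x y : G, x * y * x⁻¹ * y⁻¹ ∈ H) :
    ∃ (e : ℕ) (C : Finset (G → ℂ)), 0 < e ∧ (∀ ψ ∈ C, Cfsg.IsIrrCharacter G ψ) ∧
      (∀ ψ ∈ C, Cfsg.classInner (Cfsg.indFun H θ) ψ ≠ 0) ∧
      (∀ ψ ∈ C, ∀ h : H, ψ h = (e : ℂ) * θ h) ∧
      Cfsg.indFun H θ = (e : ℂ) • ∑ ψ ∈ C, ψ ∧ e ^ 2 * C.card * Nat.card H = Nat.card G := by
  classical
  have fH : Fintype H := Fintype.ofFinite H
  have fI : Fintype (Cfsg.IrrCharacter G) := Fintype.ofFinite _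
  have hΦchar : Cfsg.IsCharacter G (Cfsg.indFun H θ) :=
    isCharacter_indFun H (Cfsg.Agent.Helper24.IsIrrCharacter.isCharacter hθ)
  obtain ⟨n, hn⟩ := Cfsg.Agent.Helper24.IsCharacter.exists_nat_coeff hΦchar
  have hcoef : ∀ ξ : Cfsg.IrrCharacter G, Cfsg.classInner (Cfsg.indFun H θ) (ξ : G → ℂ) = n ξ := by
    intro ξ
    rw [hn]
    exact classInner_sum_irr _ ξ
  obtain ⟨d, hd, hd1⟩ := irr_degree_pos hθ
  have hd0 : (d : ℂ) ≠ 0 := Nat.cast_ne_zero.mpr hd.ne'
  have hi0 : (H.index : ℂ) ≠ 0 := Nat.cast_ne_zero.mpr Subgroup.index_ne_zero_of_finite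
  have hΦ1 : Cfsg.indFun H θ 1 = (H.index : ℂ) * d := by
    rw [Cfsg.Agent.Helper5.indFun_apply_one, hd1]
  have hΦ1ne : Cfsg.indFun H θ 1 ≠ 0 := by
    rw [hΦ1]
    exact mul_ne_zero hi0 hd0
  have hex : ∃ ξ₀, n ξ₀ ≠ 0 := by
    by_contra hcon
    push Not at hcon
    apply hΦ1ne
    rw [hn]
    simp [hcon]
  obtain ⟨ξ₀, hξ₀⟩ := hex
  -- restriction of constituents
  have hres : ∀ ξ : Cfsg.IrrCharacter G, n ξ ≠ 0 → ∀ h : H, (ξ : G → ℂ) h = (n ξ : ℂ) * θ h := by
    intro ξ hξ h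
    have h1 := restrict_eq_of_invariant H θ hθ hinv ξ ξ.2
      (by rw [hcoef]; exact Nat.cast_ne_zero.mpr hξ)
    have h2 := congrFun h1 h
    rw [hcoef] at h2
    simpa using h2
  -- the dual of the quotient
  have hQc : ∀ a b : G ⧸ H, a * b = b * a := by
    intro a b
    induction a using QuotientGroup.induction_on with
    | H x =>
      induction b using QuotientGroup.induction_on with
      | H y =>
        rw [← QuotientGroup.mk_mul, ← QuotientGroup.mk_mul, QuotientGroup.eq]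
        have h1 := hab y⁻¹ x⁻¹
        have h2 : (x * y)⁻¹ * (y * x) = y⁻¹ * x⁻¹ * y⁻¹⁻¹ * x⁻¹⁻¹ := by group
        rw [h2]
        exact h1
  have fQ : Finite ((G ⧸ H) →* ℂˣ) := finite_hom_units hQc
  have fQ' : Fintype ((G ⧸ H) →* ℂˣ) := Fintype.ofFinite _
  have hM0 : (Fintype.card ((G ⧸ H) →* ℂˣ) : ℂ) ≠ 0 :=
    Nat.cast_ne_zero.mpr Fintype.card_ne_zero
  -- products of ξ₀ with linear characters of the quotient
  have hLirr : ∀ φ : (G ⧸ H) →* ℂˣ, Cfsg.IsIrrCharacter G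
      (fun g => ((φ (g : G ⧸ H) : ℂˣ) : ℂ) * (ξ₀ : G → ℂ) g) := by
    intro φ
    exact isIrrCharacter_linear_mul (φ.comp (QuotientGroup.mk' H)) ξ₀.2
  -- key identity
  have hkey : ∀ g : G, ∑ φ : (G ⧸ H) →* ℂˣ, ((φ (g : G ⧸ H) : ℂˣ) : ℂ) * (ξ₀ : G → ℂ) g
      = ((Fintype.card ((G ⧸ H) →* ℂˣ) : ℂ) * (n ξ₀ : ℂ) / (H.index : ℂ)) * Cfsg.indFun H θ g := by
    intro g
    rw [← Finset.sum_mul, sum_dual_quotient H hQc g]
    by_cases hg : g ∈ H
    · rw [if_pos hg]
      have h1 := hres ξ₀ hξ₀ ⟨g, hg⟩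
      have h2 := indFun_invariant_apply H θ hinv ⟨g, hg⟩
      simp only at h1 h2
      rw [h1, h2]
      field_simp
    · rw [if_neg hg, indFun_eq_zero_of_not_mem H θ hg]
      simp
  have hc0 : ((Fintype.card ((G ⧸ H) →* ℂˣ) : ℂ) * (n ξ₀ : ℂ) / (H.index : ℂ)) ≠ 0 :=
    div_ne_zero (mul_ne_zero hM0 (Nat.cast_ne_zero.mpr hξ₀)) hi0
  -- all multiplicities agree
  have hall : ∀ ξ : Cfsg.IrrCharacter G, n ξ ≠ 0 → n ξ = n ξ₀ := by
    intro ξ hξ
    have h1 : Cfsg.classInner (∑ φ : (G ⧸ H) →* ℂˣ,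
        fun g : G => ((φ (g : G ⧸ H) : ℂˣ) : ℂ) * (ξ₀ : G → ℂ) g) (ξ : G → ℂ) ≠ 0 := by
      have e1 : (∑ φ : (G ⧸ H) →* ℂˣ, fun g : G => ((φ (g : G ⧸ H) : ℂˣ) : ℂ) * (ξ₀ : G → ℂ) g)
          = ((Fintype.card ((G ⧸ H) →* ℂˣ) : ℂ) * (n ξ₀ : ℂ) / (H.index : ℂ)) • Cfsg.indFun H θ := by
        funext g
        rw [Finset.sum_apply, Pi.smul_apply, smul_eq_mul]
        exact hkey g
      rw [e1, Cfsg.Agent.Helper24.classInner_smul_left, hcoef]
      exact mul_ne_zero hc0 (Nat.cast_ne_zero.mpr hξ)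
    rw [Cfsg.Agent.Helper24.classInner_sum_left] at h1
    obtain ⟨φ, -, hφ⟩ := Finset.exists_ne_zero_of_sum_ne_zero h1
    have h2 := classInner_of_isIrrCharacter (hLirr φ) ξ.2
    have h3 : (fun g : G => ((φ (g : G ⧸ H) : ℂˣ) : ℂ) * (ξ₀ : G → ℂ) g) = (ξ : G → ℂ) := by
      by_contra hne
      rw [if_neg hne] at h2
      exact hφ h2
    have h4 := hres ξ hξ 1
    have h5 := hres ξ₀ hξ₀ 1
    have h6 := congrFun h3 1
    simp only [OneMemClass.coe_one, QuotientGroup.mk_one, map_one, Units.val_one, one_mul] at h4 h5 h6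
    rw [h4, h5, hd1] at h6
    have h7 : (n ξ₀ : ℂ) = (n ξ : ℂ) := mul_right_cancel₀ hd0 h6
    exact_mod_cast h7.symm
  -- the set of constituents
  refine ⟨n ξ₀, (Finset.univ.filter (fun ξ : Cfsg.IrrCharacter G => n ξ ≠ 0)).image Subtype.val,
    Nat.pos_of_ne_zero hξ₀, ?_, ?_, ?_, ?_, ?_⟩
  · intro ψ hψ
    obtain ⟨ξ, -, rfl⟩ := Finset.mem_image.mp hψ
    exact ξ.2
  · intro ψ hψ
    obtain ⟨ξ, hξ, rfl⟩ := Finset.mem_image.mp hψ
    rw [hcoef]
    exact Nat.cast_ne_zero.mpr (Finset.mem_filter.mp hξ).2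
  · intro ψ hψ h
    obtain ⟨ξ, hξ, rfl⟩ := Finset.mem_image.mp hψ
    have hξ' := (Finset.mem_filter.mp hξ).2
    rw [hres ξ hξ' h, hall ξ hξ']
  · rw [Finset.sum_image (fun a _ b _ hab' => Subtype.ext hab'), Finset.smul_sum]
    conv_lhs => rw [hn]
    rw [Finset.sum_filter]
    apply Finset.sum_congr rfl
    intro ξ _
    by_cases hξ : n ξ = 0
    · rw [if_neg (by simpa using hξ), hξ]
      simp
    · rw [if_pos hξ, hall ξ hξ]
  · -- the norm count
    have e1 : (Nat.card H : ℂ) * Cfsg.classInner (Cfsg.indFun H θ) (Cfsg.indFun H θ)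
        = (Nat.card G : ℂ) := by
      rw [card_mul_classInner_indFun_self H θ hθ]
      congr 1
      apply Nat.card_congr
      exact Equiv.subtypeUnivEquiv (fun g h => hinv g h)
    have e2 : Cfsg.classInner (Cfsg.indFun H θ) (Cfsg.indFun H θ)
        = ((∑ ξ : Cfsg.IrrCharacter G, n ξ * n ξ : ℕ) : ℂ) := by
      conv_lhs => rw [hn]
      rw [classInner_sum_sum]
      push_cast
      apply Finset.sum_congr rfl
      intro ξ _
      rw [Complex.conj_natCast]
    have e3 : ∑ ξ : Cfsg.IrrCharacter G, n ξ * n ξ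
        = (Finset.univ.filter (fun ξ : Cfsg.IrrCharacter G => n ξ ≠ 0)).card * (n ξ₀ * n ξ₀) := by
      rw [← smul_eq_mul, ← Finset.sum_const, Finset.sum_filter]
      apply Finset.sum_congr rfl
      intro ξ _
      by_cases hξ : n ξ = 0
      · rw [if_neg (by simpa using hξ), hξ, Nat.mul_zero]
      · rw [if_pos hξ, hall ξ hξ]
    rw [Finset.card_image_of_injective _ Subtype.val_injective]
    rw [e2, e3] at e1
    have e4 : Nat.card H * ((Finset.univ.filter (fun ξ : Cfsg.IrrCharacter G => n ξ ≠ 0)).card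
        * (n ξ₀ * n ξ₀)) = Nat.card G := by exact_mod_cast e1
    rw [← e4]
    ring

/-- In the situation of `clifford_abelian_quotient`, if moreover `|H|` is coprime to `|G : H|`
then the ramification `e` equals one. -/
theorem ramification_eq_one_of_coprime (H : Subgroup G) [hN : H.Normal] (θ : H → ℂ)
    (hθ : Cfsg.IsIrrCharacter H θ) (e : ℕ) (C : Finset (G → ℂ))
    (hC : ∀ ψ ∈ C, Cfsg.IsIrrCharacter G ψ)
    (hsum : Cfsg.indFun H θ = (e : ℂ) • ∑ ψ ∈ C, ψ)
    (hcard : e ^ 2 * C.card * Nat.card H = Nat.card G)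
    (hcop : Nat.Coprime (Nat.card H) H.index) : e = 1 := by
  classical
  have fH : Fintype H := Fintype.ofFinite H
  obtain ⟨A, hA⟩ := Subgroup.exists_right_complement'_of_coprime hcop
  have fA : Fintype A := Fintype.ofFinite A
  have fIA : Fintype (Cfsg.IrrCharacter A) := Fintype.ofFinite _
  have hAcard : Nat.card A = H.index := by
    have h1 := hA.card_mul_card
    have h2 := H.index_mul_card
    have hpos : 0 < Nat.card H := Nat.card_pos
    have : Nat.card H * Nat.card A = Nat.card H * H.index := by rw [h1, ← h2, mul_comm]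
    exact Nat.eq_of_mul_eq_mul_left hpos this
  have hdisj : ∀ a : A, (a : G) ∈ H → a = 1 := by
    intro a ha
    have := hA.disjoint
    rw [Subgroup.disjoint_def] at this
    exact Subtype.ext (this ha a.2)
  -- the degree of θ
  let θ' : Cfsg.IrrCharacter H := ⟨θ, hθ⟩
  have hdeg : θ 1 = (irrDeg θ' : ℂ) := irrDeg_spec θ'
  have hdvdH : irrDeg θ' ∣ Nat.card H := irrDeg_dvd_card θ'
  -- inner product of the restriction of the induced function with the trivial character of `A`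
  have hA0 : (Nat.card A : ℂ) ≠ 0 := Nat.cast_ne_zero.mpr Nat.card_pos.ne'
  have h1 : Cfsg.classInner (fun a : A => Cfsg.indFun H θ a) (fun _ => (1 : ℂ))
      = (irrDeg θ' : ℂ) := by
    unfold Cfsg.classInner
    rw [Finset.sum_eq_single (1 : A)]
    · simp only [OneMemClass.coe_one, map_one, mul_one]
      rw [Cfsg.Agent.Helper5.indFun_apply_one, hdeg, ← hAcard]
      field_simp
    · intro a _ ha
      have : (a : G) ∉ H := fun h => ha (hdisj a h)
      simp only
      rw [indFun_eq_zero_of_not_mem H θ this, zero_mul]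
    · intro h
      exact absurd (Finset.mem_univ _) h
  -- the same inner product through the decomposition
  have h2 : ∀ ψ ∈ C, ∃ m : ℕ, Cfsg.classInner (fun a : A => ψ a) (fun _ => (1 : ℂ)) = m := by
    intro ψ hψ
    exact Cfsg.Agent.Helper24.IsCharacter.classInner_nat
      (isCharacter_restrict A (Cfsg.Agent.Helper24.IsIrrCharacter.isCharacter (hC ψ hψ)))
      Cfsg.Agent.Helper24.isCharacter_const_one
  choose! m hm using h2
  have h3 : Cfsg.classInner (fun a : A => Cfsg.indFun H θ a) (fun _ => (1 : ℂ))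
      = ((e * ∑ ψ ∈ C, m ψ : ℕ) : ℂ) := by
    have e1 : (fun a : A => Cfsg.indFun H θ a) = (e : ℂ) • ∑ ψ ∈ C, (fun a : A => ψ a) := by
      funext a
      rw [hsum]
      simp only [Pi.smul_apply, Finset.sum_apply, smul_eq_mul]
    rw [e1, Cfsg.Agent.Helper24.classInner_smul_left, Cfsg.Agent.Helper24.classInner_sum_left]
    push_cast
    congr 1
    apply Finset.sum_congr rfl
    intro ψ hψ
    exact hm ψ hψ
  have h4 : irrDeg θ' = e * ∑ ψ ∈ C, m ψ := by
    rw [h1] at h3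
    exact_mod_cast h3
  have hdvd1 : e ∣ Nat.card H := Dvd.dvd.trans ⟨_, h4⟩ hdvdH
  have hdvd2 : e ∣ H.index := by
    have hpos : 0 < Nat.card H := Nat.card_pos
    have h5 : e ^ 2 * C.card * Nat.card H = H.index * Nat.card H := by
      rw [hcard, H.index_mul_card]
    have h6 : e ^ 2 * C.card = H.index := Nat.eq_of_mul_eq_mul_right hpos h5
    rw [← h6]
    exact ⟨e * C.card, by ring⟩
  exact Nat.eq_one_of_dvd_coprimes hcop hdvd1 hdvd2

end Cfsg.Agent.Helper8
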