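import Mathlib
import Cfsg.Prelude.Def_OddOrderLocal

set_option autoImplicit false

namespace Cfsg.Agent.Helper8

/-- For a TI-subset `X`, if `h ∈ X`, `h ≠ 1` then `y * h * y⁻¹ ∈ X ↔ y ∈ N(X)`. -/
theorem ti_conj_mem_iff {G : Type*} [Group G] {X : Set G} (hTI : Cfsg.IsTISubset X) {h : G} (hh : h ∈ X)
    (h1 : h ≠ 1) (y : G) : y * h * y⁻¹ ∈ X ↔ y ∈ Subgroup.normalizer X := by
  constructor
  · intro hy
    by_contra hn
    exact h1 (hTI y hn h hh hy)
  · intro hy
    exact (Subgroup.mem_set_normalizer_iff.mp hy h).mp hh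

/-- Counting the non-identity elements conjugate into a TI-subset. -/
theorem ti_card {G : Type*} [Group G] [Finite G] (X : Set G) (hTI : Cfsg.IsTISubset X) :
    Nat.card {g : G // g ≠ 1 ∧ ∃ x : G, x * g * x⁻¹ ∈ X} * Nat.card (Subgroup.normalizer X)
      = Nat.card G * Nat.card {h : G // h ∈ X ∧ h ≠ 1} := by
  classical
  -- the set of pairs
  let P := {p : G × G // p.2 ≠ 1 ∧ p.1 * p.2 * p.1⁻¹ ∈ X}
  have e1 : P ≃ G × {h : G // h ∈ X ∧ h ≠ 1} :=
    { toFun := fun p => (p.1.1, ⟨p.1.1 * p.1.2 * p.1.1⁻¹, p.2.2, by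
          intro h
          apply p.2.1
          have : p.1.2 = p.1.1⁻¹ * (p.1.1 * p.1.2 * p.1.1⁻¹) * p.1.1 := by group
          rw [this, h]; group⟩)
      invFun := fun q => ⟨(q.1, q.1⁻¹ * q.2.1 * q.1), by
          constructor
          · intro h
            apply q.2.2.2
            have h' : q.1⁻¹ * (q.2.1 : G) * q.1 = 1 := h
            have : (q.2.1 : G) = q.1 * (q.1⁻¹ * q.2.1 * q.1) * q.1⁻¹ := by group
            rw [this, h']; group
          · have : q.1 * (q.1⁻¹ * q.2.1 * q.1) * q.1⁻¹ = q.2.1 := by group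
            simp only [this]
            exact q.2.2.1⟩
      left_inv := by
        rintro ⟨⟨y, u⟩, hp⟩
        apply Subtype.ext
        simp only [Prod.mk.injEq, true_and]
        group
      right_inv := by
        rintro ⟨y, ⟨h, hh⟩⟩
        simp only [Prod.mk.injEq, true_and]
        apply Subtype.ext
        simp only
        group }
  -- choice of conjugating element
  have hx : ∀ u : {g : G // g ≠ 1 ∧ ∃ x : G, x * g * x⁻¹ ∈ X}, ∃ x : G, x * u.1 * x⁻¹ ∈ X := fun u => u.2.2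
  choose xu hxu using hx
  have hne : ∀ u : {g : G // g ≠ 1 ∧ ∃ x : G, x * g * x⁻¹ ∈ X}, xu u * u.1 * (xu u)⁻¹ ≠ 1 := by
    intro u h
    apply u.2.1
    have : u.1 = (xu u)⁻¹ * (xu u * u.1 * (xu u)⁻¹) * (xu u) := by group
    rw [this, h]; group
  have e2 : P ≃ {g : G // g ≠ 1 ∧ ∃ x : G, x * g * x⁻¹ ∈ X} × (Subgroup.normalizer X) :=
    { toFun := fun p => (⟨p.1.2, p.2.1, p.1.1, p.2.2⟩, ⟨p.1.1 * (xu ⟨p.1.2, p.2.1, p.1.1, p.2.2⟩)⁻¹, by
          set u : {g : G // g ≠ 1 ∧ ∃ x : G, x * g * x⁻¹ ∈ X} := ⟨p.1.2, p.2.1, p.1.1, p.2.2⟩ with hu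
          rw [← ti_conj_mem_iff hTI (hxu u) (hne u)]
          have : p.1.1 * (xu u)⁻¹ * (xu u * u.1 * (xu u)⁻¹) * (p.1.1 * (xu u)⁻¹)⁻¹ = p.1.1 * p.1.2 * p.1.1⁻¹ := by
            simp only [hu]; group
          rw [this]
          exact p.2.2⟩)
      invFun := fun q => ⟨(q.2.1 * xu q.1, q.1.1), q.1.2.1, by
          have := (ti_conj_mem_iff hTI (hxu q.1) (hne q.1) q.2.1).mpr q.2.2
          have e : q.2.1 * xu q.1 * q.1.1 * (q.2.1 * xu q.1)⁻¹ = q.2.1 * (xu q.1 * q.1.1 * (xu q.1)⁻¹) * (q.2.1 : G)⁻¹ := by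
            group
          simp only [e]
          exact this⟩
      left_inv := by
        rintro ⟨⟨y, u⟩, hp⟩
        apply Subtype.ext
        simp only [Prod.mk.injEq, and_true]
        group
      right_inv := by
        rintro ⟨u, n⟩
        simp only [Prod.mk.injEq, true_and]
        apply Subtype.ext
        simp only
        group }
  rw [← Nat.card_prod, ← Nat.card_prod]
  exact Nat.card_congr (e2.symm.trans e1)

end Cfsg.Agent.Helper8
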