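import Mathlib
import Cfsg.Agent.Lead.GlaubermanRel

/-!
Glauberman's lemma for conjugacy classes: for `x` acting coprimely on the normal subgroup `K`,
the `x`-fixed conjugacy classes of `K` correspond to the conjugacy classes of `C_K(x)`.
-/

set_option autoImplicit false

namespace Cfsg.Agent.Helper8

open Subgroup

variable {L : Type*} [Group L]

/-- the conjugation action of `L` on a normal subgroup `K` -/
@[reducible] def conjNormalAction (K : Subgroup L) [K.Normal] : MulAction L K :=
  MulAction.compHom K (MulAut.conjNormal (H := K))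

theorem conjNormalAction_smul (K : Subgroup L) [hK : K.Normal] (g : L) (k : K) :
    (@HSMul.hSMul L K K (@instHSMul L K (conjNormalAction K).toSMul) g k)
      = ⟨g * k * g⁻¹, hK.conj_mem k k.2 g⟩ := by
  apply Subtype.ext
  exact MulAut.conjNormal_apply g k

/-- Glauberman's lemma for the conjugation action on a normal subgroup -/
theorem glauberman_conj [Finite L] (K A : Subgroup L) [hK : K.Normal]
    (hcop : (Nat.card A).Coprime (Nat.card K))
    (hsolv : Group.IsSolvable A ∨ Group.IsSolvable K) (Ω : Set K)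
    (hΩinv : ∀ g ∈ K ⊔ A, ∀ k ∈ Ω, (⟨g * k * g⁻¹, hK.conj_mem k k.2 g⟩ : K) ∈ Ω)
    (htrans : ∀ k ∈ Ω, ∀ k' ∈ Ω, ∃ c ∈ K, c * (k : L) * c⁻¹ = (k' : L)) :
    (Ω.Nonempty → ∃ k ∈ Ω, ∀ a ∈ A, a * (k : L) * a⁻¹ = (k : L)) ∧
    (∀ k ∈ Ω, ∀ k' ∈ Ω, (∀ a ∈ A, a * (k : L) * a⁻¹ = (k : L)) →
      (∀ a ∈ A, a * (k' : L) * a⁻¹ = (k' : L)) →
      ∃ c ∈ K ⊓ centralizer (A : Set L), c * (k : L) * c⁻¹ = (k' : L)) := by
  have hAnorm : A ≤ normalizer (K : Set L) := by
    intro a _
    rw [normalizer_eq_top]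
    exact mem_top a
  have key := @Cfsg.Agent.Lead.glauberman_rel L _ _ K (conjNormalAction K) K A hAnorm hcop hsolv Ω
    (by
      intro g hg k hk
      rw [conjNormalAction_smul]
      exact hΩinv g hg k hk)
    (by
      intro k hk k' hk'
      obtain ⟨c, hc, hck⟩ := htrans k hk k' hk'
      refine ⟨c, hc, ?_⟩
      rw [conjNormalAction_smul]
      exact Subtype.ext hck)
  constructor
  · intro hne
    obtain ⟨k, hk, hfix⟩ := key.1 hne
    refine ⟨k, hk, ?_⟩
    intro a ha
    have := hfix a ha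
    rw [conjNormalAction_smul] at this
    exact congrArg Subtype.val this
  · intro k hk k' hk' hfk hfk'
    obtain ⟨c, hc, hck⟩ := key.2 k hk k' hk'
      (by
        intro a ha
        rw [conjNormalAction_smul]
        exact Subtype.ext (hfk a ha))
      (by
        intro a ha
        rw [conjNormalAction_smul]
        exact Subtype.ext (hfk' a ha))
    refine ⟨c, hc, ?_⟩
    rw [conjNormalAction_smul] at hck
    exact congrArg Subtype.val hck

theorem conjClasses_map_mk {α β : Type*} [Monoid α] [Monoid β] (f : α →* β) (a : α) :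
    ConjClasses.map f (ConjClasses.mk a) = ConjClasses.mk (f a) := rfl

/-- the subgroup of elements of `L` whose conjugation preserves a subset of the normal subgroup
`K` -/
def setStabilizerConj (K : Subgroup L) [hK : K.Normal] (Ω : Set K) : Subgroup L where
  carrier := {g | ∀ k : K, (⟨g * k * g⁻¹, hK.conj_mem k k.2 g⟩ : K) ∈ Ω ↔ k ∈ Ω}
  one_mem' := by
    intro k
    have : (⟨1 * (k : L) * 1⁻¹, hK.conj_mem k k.2 1⟩ : K) = k := Subtype.ext (by simp)
    rw [this]
  mul_mem' := by
    intro a b ha hb k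
    have : (⟨a * b * (k : L) * (a * b)⁻¹, hK.conj_mem k k.2 (a * b)⟩ : K)
        = ⟨a * ((⟨b * k * b⁻¹, hK.conj_mem k k.2 b⟩ : K) : L) * a⁻¹,
            hK.conj_mem _ (hK.conj_mem k k.2 b) a⟩ := Subtype.ext (by simp; group)
    rw [this, ha, hb]
  inv_mem' := by
    intro a ha k
    have h := ha ⟨a⁻¹ * k * a⁻¹⁻¹, hK.conj_mem k k.2 a⁻¹⟩
    have : (⟨a * ((⟨a⁻¹ * k * a⁻¹⁻¹, hK.conj_mem k k.2 a⁻¹⟩ : K) : L) * a⁻¹,
        hK.conj_mem _ (hK.conj_mem k k.2 a⁻¹) a⟩ : K) = k := Subtype.ext (by simp; group)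
    rw [this] at h
    exact h.symm

theorem card_fixed_conjClasses_coprime [Finite L] (K : Subgroup L) [hK : K.Normal] (x : L)
    (hcop : (orderOf x).Coprime (Nat.card K)) :
    Nat.card {C : ConjClasses K //
        ConjClasses.map (MulAut.conjNormal x : K ≃* K).toMonoidHom C = C}
      = Nat.card (ConjClasses ↥(K ⊓ Subgroup.centralizer ({x} : Set L))) := by
  classical
  -- notation
  let ι : ↥(K ⊓ Subgroup.centralizer ({x} : Set L)) →* K := Subgroup.inclusion inf_le_left
  have hα : ∀ k : K, (MulAut.conjNormal x : K ≃* K) k = ⟨x * k * x⁻¹, hK.conj_mem k k.2 x⟩ := by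
    intro k
    apply Subtype.ext
    exact MulAut.conjNormal_apply x k
  have hcopA : (Nat.card (Subgroup.zpowers x)).Coprime (Nat.card K) := by
    rw [Nat.card_zpowers]
    exact hcop
  have hsolv : Group.IsSolvable (Subgroup.zpowers x) ∨ Group.IsSolvable K := by
    left
    have : IsMulCommutative (Subgroup.zpowers x) := ⟨⟨fun a b => by
      obtain ⟨g, hg⟩ := IsCyclic.exists_generator (α := Subgroup.zpowers x)
      obtain ⟨m, rfl⟩ := Subgroup.mem_zpowers_iff.mp (hg a)
      obtain ⟨n, rfl⟩ := Subgroup.mem_zpowers_iff.mp (hg b)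
      exact (Commute.zpow_zpow_self g m n)⟩⟩
    infer_instance
  -- elements of the centralizer are fixed
  have hfixD : ∀ d : ↥(K ⊓ Subgroup.centralizer ({x} : Set L)), ∀ a ∈ Subgroup.zpowers x,
      a * ((ι d : K) : L) * a⁻¹ = ((ι d : K) : L) := by
    intro d a ha
    have hd : (d : L) ∈ Subgroup.centralizer ({x} : Set L) := d.2.2
    have hx : x ∈ Subgroup.centralizer ({(d : L)} : Set L) := by
      rw [Subgroup.mem_centralizer_iff] at hd ⊢
      intro h hh
      rw [Set.mem_singleton_iff] at hh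
      subst hh
      exact (hd x rfl).symm
    have ha' : a ∈ Subgroup.centralizer ({(d : L)} : Set L) :=
      (Subgroup.zpowers_le.mpr hx) ha
    rw [Subgroup.mem_centralizer_iff] at ha'
    have := ha' (d : L) rfl
    show a * (d : L) * a⁻¹ = (d : L)
    rw [← this, mul_inv_cancel_right]
  -- invariance of fixed classes
  have hinvΩ : ∀ k₀ : K, ConjClasses.map (MulAut.conjNormal x : K ≃* K).toMonoidHom
      (ConjClasses.mk k₀) = ConjClasses.mk k₀ →
      ∀ g ∈ K ⊔ Subgroup.zpowers x, ∀ k ∈ {k : K | ConjClasses.mk k = ConjClasses.mk k₀},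
        (⟨g * k * g⁻¹, hK.conj_mem k k.2 g⟩ : K) ∈ {k : K | ConjClasses.mk k = ConjClasses.mk k₀} := by
    intro k₀ hk₀
    have hle : K ⊔ Subgroup.zpowers x
        ≤ setStabilizerConj K {k : K | ConjClasses.mk k = ConjClasses.mk k₀} := by
      apply sup_le
      · intro g hg k
        have : (⟨g * k * g⁻¹, hK.conj_mem k k.2 g⟩ : K) = (⟨g, hg⟩ : K) * k * (⟨g, hg⟩ : K)⁻¹ :=
          Subtype.ext rfl
        simp only [Set.mem_ofPred_eq]
        rw [this]
        have hc : ConjClasses.mk ((⟨g, hg⟩ : K) * k * (⟨g, hg⟩ : K)⁻¹) = ConjClasses.mk k := by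
          rw [ConjClasses.mk_eq_mk_iff_isConj]
          exact (isConj_iff.mpr ⟨(⟨g, hg⟩ : K), rfl⟩).symm
        rw [hc]
      · rw [Subgroup.zpowers_le]
        intro k
        simp only [Set.mem_ofPred_eq]
        rw [← hα k]
        have hmk : ConjClasses.mk ((MulAut.conjNormal x : K ≃* K) k)
            = ConjClasses.map (MulAut.conjNormal x : K ≃* K).toMonoidHom (ConjClasses.mk k) := rfl
        rw [hmk]
        constructor
        · intro h
          have h2 := congrArg
            (ConjClasses.map ((MulAut.conjNormal x : K ≃* K).symm).toMonoidHom) (h.trans hk₀.symm)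
          rw [conjClasses_map_mk, conjClasses_map_mk, conjClasses_map_mk, conjClasses_map_mk] at h2
          simpa using h2
        · intro h
          rw [h, hk₀]
    intro g hg k hk
    exact ((hle hg) k).mpr hk
  have htransΩ : ∀ k₀ : K, ∀ k ∈ {k : K | ConjClasses.mk k = ConjClasses.mk k₀},
      ∀ k' ∈ {k : K | ConjClasses.mk k = ConjClasses.mk k₀},
        ∃ c ∈ K, c * (k : L) * c⁻¹ = (k' : L) := by
    intro k₀ k hk k' hk'
    simp only [Set.mem_ofPred_eq] at hk hk'
    have h1 : ConjClasses.mk k = ConjClasses.mk k' := hk.trans hk'.symm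
    rw [ConjClasses.mk_eq_mk_iff_isConj, isConj_iff] at h1
    obtain ⟨c, hc⟩ := h1
    exact ⟨c, c.2, congrArg Subtype.val hc⟩
  -- the map
  have hwell : ∀ c : ConjClasses ↥(K ⊓ Subgroup.centralizer ({x} : Set L)),
      ConjClasses.map (MulAut.conjNormal x : K ≃* K).toMonoidHom (ConjClasses.map ι c)
        = ConjClasses.map ι c := by
    intro c
    obtain ⟨d, rfl⟩ := ConjClasses.exists_rep c
    rw [conjClasses_map_mk, conjClasses_map_mk]
    congr 1
    show (MulAut.conjNormal x : K ≃* K) (ι d) = ι d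
    rw [hα]
    apply Subtype.ext
    exact hfixD d x (Subgroup.mem_zpowers x)
  let f : ConjClasses ↥(K ⊓ Subgroup.centralizer ({x} : Set L)) →
      {C : ConjClasses K // ConjClasses.map (MulAut.conjNormal x : K ≃* K).toMonoidHom C = C} :=
    fun c => ⟨ConjClasses.map ι c, hwell c⟩
  have hinj : Function.Injective f := by
    intro c c' hcc'
    obtain ⟨d, rfl⟩ := ConjClasses.exists_rep c
    obtain ⟨d', rfl⟩ := ConjClasses.exists_rep c'
    have h1 : ConjClasses.mk (ι d) = ConjClasses.mk (ι d') := congrArg Subtype.val hcc'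
    have hk₀ := hwell (ConjClasses.mk d)
    rw [conjClasses_map_mk] at hk₀
    have key := (glauberman_conj K (Subgroup.zpowers x) hcopA hsolv
      {k : K | ConjClasses.mk k = ConjClasses.mk (ι d)} (hinvΩ (ι d) hk₀) (htransΩ (ι d))).2
      (ι d) rfl (ι d') h1.symm (hfixD d) (hfixD d')
    obtain ⟨c, hc, hcd⟩ := key
    have hcx : c ∈ Subgroup.centralizer ({x} : Set L) := by
      have hc2 : c ∈ Subgroup.centralizer ((Subgroup.zpowers x : Subgroup L) : Set L) := hc.2
      rw [Subgroup.mem_centralizer_iff] at hc2 ⊢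
      intro h hh
      rw [Set.mem_singleton_iff] at hh
      subst hh
      exact hc2 h (Subgroup.mem_zpowers h)
    rw [ConjClasses.mk_eq_mk_iff_isConj, isConj_iff]
    refine ⟨⟨c, ⟨hc.1, hcx⟩⟩, ?_⟩
    apply Subtype.ext
    exact hcd
  have hsurj : Function.Surjective f := by
    rintro ⟨C, hC⟩
    obtain ⟨k₀, rfl⟩ := ConjClasses.exists_rep C
    have key := (glauberman_conj K (Subgroup.zpowers x) hcopA hsolv
      {k : K | ConjClasses.mk k = ConjClasses.mk k₀} (hinvΩ k₀ hC) (htransΩ k₀)).1 ⟨k₀, rfl⟩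
    obtain ⟨k, hk, hfix⟩ := key
    have hkx : (k : L) ∈ Subgroup.centralizer ({x} : Set L) := by
      rw [Subgroup.mem_centralizer_iff]
      intro h hh
      rw [Set.mem_singleton_iff] at hh
      subst hh
      have := hfix h (Subgroup.mem_zpowers h)
      calc h * (k : L) = h * (k : L) * h⁻¹ * h := by group
        _ = (k : L) * h := by rw [this]
    refine ⟨ConjClasses.mk ⟨(k : L), ⟨k.2, hkx⟩⟩, ?_⟩
    apply Subtype.ext
    show ConjClasses.map ι (ConjClasses.mk _) = ConjClasses.mk k₀
    rw [conjClasses_map_mk]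
    have : ι ⟨(k : L), ⟨k.2, hkx⟩⟩ = k := Subtype.ext rfl
    rw [this]
    exact hk
  exact (Nat.card_congr (Equiv.ofBijective f ⟨hinj, hsurj⟩)).symm

end Cfsg.Agent.Helper8
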