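import Mathlib
import Cfsg.Prelude.Def_Characters
import Cfsg.Agent.Helper23.CharGalois
import Cfsg.Agent.Helper24.Expansion

set_option autoImplicit false

namespace Cfsg.Agent.Helper8

open Cfsg.Agent.Helper23

/-- the representation obtained by applying a ring endomorphism of `ℂ` to the matrix entries -/
noncomputable def repMapRingHom {G : Type*} [Group G] {n : ℕ} (τ : ℂ →+* ℂ)
    (ρ : Representation ℂ G (Fin n → ℂ)) : Representation ℂ G (Fin n → ℂ) where
  toFun g := Matrix.toLin' ((LinearMap.toMatrix' (ρ g)).map τ)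
  map_one' := by
    rw [map_one, LinearMap.toMatrix'_one, Matrix.map_one τ (map_zero τ) (map_one τ),
      Matrix.toLin'_one]
    rfl
  map_mul' g h := by
    rw [map_mul, LinearMap.toMatrix'_mul, Matrix.map_mul, Matrix.toLin'_mul]
    rfl

theorem repMapRingHom_character {G : Type*} [Group G] {n : ℕ} (τ : ℂ →+* ℂ)
    (ρ : Representation ℂ G (Fin n → ℂ)) (g : G) :
    (repMapRingHom τ ρ).character g = τ (ρ.character g) := by
  unfold Representation.character
  change LinearMap.trace ℂ _ (Matrix.toLin' ((LinearMap.toMatrix' (ρ g)).map τ)) = _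
  rw [Matrix.trace_toLin'_eq]
  have h1 : LinearMap.trace ℂ _ (ρ g) = (LinearMap.toMatrix' (ρ g)).trace := by
    conv_lhs => rw [← Matrix.toLin'_toMatrix' (ρ g)]
    rw [Matrix.trace_toLin'_eq]
  rw [h1]
  unfold Matrix.trace
  rw [map_sum]
  rfl

/-- applying a ring endomorphism of `ℂ` to the values of a character gives a character -/
theorem isCharacter_ringHom_comp {G : Type*} [Group G] (τ : ℂ →+* ℂ) {χ : G → ℂ}
    (hχ : Cfsg.IsCharacter G χ) : Cfsg.IsCharacter G (fun g => τ (χ g)) := by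
  obtain ⟨n, ρ, rfl⟩ := hχ
  exact ⟨n, repMapRingHom τ ρ, funext (repMapRingHom_character τ ρ)⟩

/-- any automorphism of a subfield `K` of `ℂ` extends to an automorphism of `ℂ` -/
theorem exists_ringEquiv_extending (K : IntermediateField ℚ ℂ) (σ : K ≃+* K) :
    ∃ τ : ℂ ≃+* ℂ, ∀ x : K, τ (x : ℂ) = ((σ x : K) : ℂ) := by
  obtain ⟨ι, v, hv⟩ := exists_isTranscendenceBasis' K ℂ
  have h1 : IsAlgClosure (Algebra.adjoin K (Set.range v)) ℂ :=
    IsAlgClosed.isAlgClosure_of_transcendence_basis v hv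
  have hai : AlgebraicIndependent K v := hv.1
  let e : Algebra.adjoin K (Set.range v) ≃+* Algebra.adjoin K (Set.range v) :=
    (hai.aevalEquiv.symm.toRingEquiv.trans (MvPolynomial.mapEquiv ι σ)).trans
      hai.aevalEquiv.toRingEquiv
  refine ⟨IsAlgClosure.equivOfEquiv ℂ ℂ e, ?_⟩
  intro x
  have hx : (x : ℂ) = algebraMap (Algebra.adjoin K (Set.range v)) ℂ
      (algebraMap K (Algebra.adjoin K (Set.range v)) x) := rfl
  rw [hx, IsAlgClosure.equivOfEquiv_algebraMap]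
  have he : e (algebraMap K (Algebra.adjoin K (Set.range v)) x)
      = algebraMap K (Algebra.adjoin K (Set.range v)) (σ x) := by
    simp only [e, RingEquiv.trans_apply, AlgEquiv.coe_ringEquiv]
    have h2 : hai.aevalEquiv.symm (algebraMap K (Algebra.adjoin K (Set.range v)) x)
        = MvPolynomial.C x := by
      exact hai.aevalEquiv.symm.commutes x
    rw [h2]
    have h3 : (MvPolynomial.mapEquiv ι σ) (MvPolynomial.C x) = MvPolynomial.C (σ x) := by
      simp
    rw [h3]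
    have h4 : hai.aevalEquiv (MvPolynomial.C (σ x))
        = algebraMap K (Algebra.adjoin K (Set.range v)) (σ x) :=
      hai.aevalEquiv.commutes (σ x)
    exact h4
  rw [he]
  rfl

theorem cyclo_eq_adjoin_rootSet (N : ℕ) (hN : 0 < N) :
    cyclo N = IntermediateField.adjoin ℚ ((Polynomial.X ^ N - 1 : Polynomial ℚ).rootSet ℂ) := by
  unfold cyclo
  congr 1
  ext μ
  rw [Polynomial.mem_rootSet]
  simp only [Set.mem_ofPred_eq, map_sub, map_pow, Polynomial.aeval_X, map_one]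
  constructor
  · intro h
    refine ⟨?_, by rw [h, sub_self]⟩
    have := Polynomial.X_pow_sub_C_ne_zero (R := ℚ) hN 1
    simpa using this
  · intro h
    exact sub_eq_zero.mp h.2

theorem normal_cyclo (N : ℕ) (hN : 0 < N) : Normal ℚ (cyclo N) := by
  rw [cyclo_eq_adjoin_rootSet N hN]
  exact Normal.of_isSplittingField (Polynomial.X ^ N - 1 : Polynomial ℚ)
    (hFEp := IntermediateField.adjoin_rootSet_isSplittingField (IsAlgClosed.splits _))

theorem exists_cyclo_aut (N : ℕ) (hN : 0 < N) (k : ℕ) (hk : k.Coprime N) :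
    ∃ σ : cyclo N ≃ₐ[ℚ] cyclo N, ∀ (μ : ℂ) (hμ : μ ^ N = 1),
      ((σ ⟨μ, mem_cyclo hμ⟩ : cyclo N) : ℂ) = μ ^ k := by
  have : NeZero N := ⟨hN.ne'⟩
  set ζ : ℂ := Complex.exp (2 * Real.pi * Complex.I / N) with hζdef
  have hζ : IsPrimitiveRoot ζ N := Complex.isPrimitiveRoot_exp N hN.ne'
  have hζ1 : ζ ^ N = 1 := hζ.pow_eq_one
  have hζk : IsPrimitiveRoot (ζ ^ k) N := hζ.pow_of_coprime k hk
  have hK : ∀ s ∈ {μ : ℂ | μ ^ N = 1}, IsIntegral ℚ s ∧
      ((minpoly ℚ s).map (algebraMap ℚ ℂ)).Splits := by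
    intro s hs
    refine ⟨?_, IsAlgClosed.splits _⟩
    have h1 : IsIntegral ℤ s := IsIntegral.of_pow hN (by rw [hs]; exact isIntegral_one)
    exact h1.tower_top
  have hy : Polynomial.aeval (ζ ^ k) (minpoly ℚ ζ) = 0 := by
    rw [← Polynomial.cyclotomic_eq_minpoly_rat hζ hN]
    have := hζk.isRoot_cyclotomic hN
    rw [Polynomial.aeval_def, Polynomial.eval₂_eq_eval_map, Polynomial.map_cyclotomic]
    exact this
  obtain ⟨φ, hφ⟩ := IntermediateField.exists_algHom_adjoin_of_splits_of_aeval hK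
    (IntermediateField.subset_adjoin ℚ _ hζ1) hy
  have hnorm : Normal ℚ (cyclo N) := normal_cyclo N hN
  let φ' : cyclo N →ₐ[ℚ] ℂ := φ
  refine ⟨φ'.restrictNormal' (cyclo N), ?_⟩
  intro μ hμ
  have h1 := φ'.restrictNormal_commutes (cyclo N) ⟨μ, mem_cyclo hμ⟩
  have h2 : ((φ'.restrictNormal' (cyclo N) ⟨μ, mem_cyclo hμ⟩ : cyclo N) : ℂ)
      = φ' ⟨μ, mem_cyclo hμ⟩ := h1
  rw [h2]
  obtain ⟨j, -, hj⟩ := hζ.eq_pow_of_pow_eq_one hμ
  have h3 : (⟨μ, mem_cyclo hμ⟩ : cyclo N) = (⟨ζ, mem_cyclo hζ1⟩ : cyclo N) ^ j := by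
    apply Subtype.ext
    exact hj.symm
  rw [h3, map_pow]
  have h4 : φ' ⟨ζ, mem_cyclo hζ1⟩ = ζ ^ k := hφ
  rw [h4, ← hj, ← pow_mul, ← pow_mul, mul_comm]


/-- for `k` coprime to `N` there is an automorphism of `ℂ` raising all `N`-th roots of unity
to the `k`-th power -/
theorem exists_complex_aut_pow (N : ℕ) (hN : 0 < N) (k : ℕ) (hk : k.Coprime N) :
    ∃ τ : ℂ ≃+* ℂ, ∀ μ : ℂ, μ ^ N = 1 → τ μ = μ ^ k := by
  obtain ⟨σ, hσ⟩ := exists_cyclo_aut N hN k hk
  obtain ⟨τ, hτ⟩ := exists_ringEquiv_extending (cyclo N) σ.toRingEquiv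
  refine ⟨τ, ?_⟩
  intro μ hμ
  have := hτ ⟨μ, mem_cyclo hμ⟩
  rw [← hσ μ hμ]
  exact this

/-- **Galois conjugation of characters**: for `k` coprime to `|G|` there is an automorphism `τ` of
`ℂ` with `τ (χ g) = χ (g ^ k)` for all characters `χ` of `G`. -/
theorem exists_complex_aut_char (G : Type*) [Group G] [Finite G] (k : ℕ)
    (hk : k.Coprime (Nat.card G)) :
    ∃ τ : ℂ ≃+* ℂ, (∀ μ : ℂ, μ ^ Nat.card G = 1 → τ μ = μ ^ k) ∧
      ∀ χ : G → ℂ, Cfsg.IsCharacter G χ → ∀ g : G, τ (χ g) = χ (g ^ k) := by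
  obtain ⟨τ, hτ⟩ := exists_complex_aut_pow (Nat.card G) Nat.card_pos k hk
  refine ⟨τ, hτ, ?_⟩
  rintro χ ⟨n, ρ, rfl⟩ g
  let σ' : cyclo (Nat.card G) →ₐ[ℚ] ℂ :=
    ((τ : ℂ →+* ℂ).comp (algebraMap (cyclo (Nat.card G)) ℂ)).toRatAlgHom
  have h := embedding_char ρ σ' k (fun μ hμ => hτ μ hμ) g
  exact h

/-- `g ↦ χ (g ^ k)` is a character when `k` is coprime to the group order. -/
theorem isCharacter_pow_of_coprime {G : Type*} [Group G] [Finite G] (k : ℕ)
    (hk : k.Coprime (Nat.card G)) {χ : G → ℂ} (hχ : Cfsg.IsCharacter G χ) :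
    Cfsg.IsCharacter G (fun g => χ (g ^ k)) := by
  obtain ⟨τ, -, hτ⟩ := exists_complex_aut_char G k hk
  have h := isCharacter_ringHom_comp (τ : ℂ →+* ℂ) hχ
  have e : (fun g => (τ : ℂ →+* ℂ) (χ g)) = fun g => χ (g ^ k) := by
    funext g
    exact hτ χ hχ g
  rw [e] at h
  exact h

/-- `g ↦ χ (g ^ k)` is an irreducible character when `χ` is and `k` is coprime to the group
order. -/
theorem isIrrCharacter_pow_of_coprime {G : Type*} [Group G] [Finite G] (k : ℕ)
    (hk : k.Coprime (Nat.card G)) {χ : G → ℂ} (hχ : Cfsg.IsIrrCharacter G χ) :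
    Cfsg.IsIrrCharacter G (fun g => χ (g ^ k)) := by
  have fG : Fintype G := Fintype.ofFinite G
  have fI : Fintype (Cfsg.IrrCharacter G) := Fintype.ofFinite _
  rw [Cfsg.Agent.Helper24.isIrrCharacter_iff_classInner_self]
  refine ⟨isCharacter_pow_of_coprime k hk (Cfsg.Agent.Helper24.IsIrrCharacter.isCharacter hχ), ?_⟩
  have h1 := (Cfsg.Agent.Helper24.isIrrCharacter_iff_classInner_self.mp hχ).2
  rw [← h1]
  unfold Cfsg.classInner
  congr 1
  exact Equiv.sum_comp (powCoprime hk.symm) (fun g => χ g * (starRingEnd ℂ) (χ g))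

end Cfsg.Agent.Helper8
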