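import Mathlib
import Cfsg.Prelude.Def_Characters
import Cfsg.Agent.Helper24.CharBasic
import Cfsg.Agent.Helper24.Rep

set_option autoImplicit false

namespace Cfsg.Agent.Helper8

open scoped ComplexConjugate

/-- The value of a character at `1` is a natural number bounding the norm of all values. -/
theorem char_norm_le {G : Type*} [Group G] [Finite G] {χ : G → ℂ} (h : Cfsg.IsCharacter G χ) :
    ∃ n : ℕ, χ 1 = n ∧ ∀ g : G, ‖χ g‖ ≤ (n : ℝ) := by
  obtain ⟨n, ρ, rfl⟩ := h
  refine ⟨n, ?_, ?_⟩
  · rw [Representation.char_one]; simp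
  · intro g
    have := Cfsg.Agent.Helper24.norm_char_le ρ g
    simpa using this

/-- the real part of a character value is at most the degree -/
theorem char_re_le {G : Type*} [Group G] [Finite G] {χ : G → ℂ} (h : Cfsg.IsCharacter G χ) (g : G) :
    (χ g).re ≤ (χ 1).re := by
  obtain ⟨n, h1, h2⟩ := char_norm_le h
  rw [h1]
  simp only [Complex.natCast_re]
  exact le_trans (Complex.re_le_norm _) (h2 g)

/-- A complex number of norm at most `r` with real part `r` equals `r`. -/
theorem eq_of_norm_le_of_re_eq {z : ℂ} {r : ℝ} (h1 : ‖z‖ ≤ r) (h2 : z.re = r) : z = r := by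
  have hr : 0 ≤ r := le_trans (norm_nonneg _) h1
  have h3 : ‖z‖ ^ 2 ≤ r ^ 2 := by
    exact pow_le_pow_left₀ (norm_nonneg _) h1 2
  rw [Complex.sq_norm, Complex.normSq_apply, h2] at h3
  have him : z.im = 0 := by nlinarith
  apply Complex.ext
  · simpa using h2
  · simpa using him

/-- If the real part of a character value equals the degree then the value equals the degree. -/
theorem char_eq_of_re_eq {G : Type*} [Group G] [Finite G] {χ : G → ℂ} (h : Cfsg.IsCharacter G χ)
    (g : G) (hg : (χ g).re = (χ 1).re) : χ g = χ 1 := by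
  obtain ⟨n, h1, h2⟩ := char_norm_le h
  rw [h1] at hg ⊢
  simp only [Complex.natCast_re] at hg
  have := eq_of_norm_le_of_re_eq (h2 g) hg
  simpa using this

end Cfsg.Agent.Helper8
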