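import Mathlib

/-!
Counting for a "Frobenius quotient": if the elements of `L` outside `K` centralize no non-identity
element of `K / H₁`, then `|L : K|` divides `|N : H₁| - 1` for every normal `N` with
`H₁ ≤ N ≤ K`.
-/

set_option autoImplicit false
set_option linter.unusedSectionVars false
set_option linter.style.haveILetI false

namespace Cfsg.Agent.Helper8

open scoped commutatorElement

section Action

variable {L : Type*} [Group L] (N H₁ : Subgroup L) [hN : N.Normal] [hH : H₁.Normal]

/-- conjugation by `x` on `N / H₁` -/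
noncomputable def conjQuot (x : L) : (↥N ⧸ H₁.subgroupOf N) →* (↥N ⧸ H₁.subgroupOf N) :=
  QuotientGroup.map _ _ (MulAut.conjNormal x : ↥N ≃* ↥N).toMonoidHom (by
    intro k hk
    rw [Subgroup.mem_comap, Subgroup.mem_subgroupOf]
    rw [Subgroup.mem_subgroupOf] at hk
    rw [MulEquiv.coe_toMonoidHom, MulAut.conjNormal_apply]
    exact hH.conj_mem _ hk x)

theorem conjQuot_mk (x : L) (k : N) :
    conjQuot N H₁ x (QuotientGroup.mk k) = QuotientGroup.mk (MulAut.conjNormal x k) := rfl

/-- the conjugation action of `L` on `N / H₁` -/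
@[reducible] noncomputable def conjQuotAction : MulAction L (↥N ⧸ H₁.subgroupOf N) where
  smul x v := conjQuot N H₁ x v
  one_smul v := by
    induction v using QuotientGroup.induction_on with
    | H k =>
      show conjQuot N H₁ 1 (QuotientGroup.mk k) = QuotientGroup.mk k
      rw [conjQuot_mk, map_one]
      rfl
  mul_smul x y v := by
    induction v using QuotientGroup.induction_on with
    | H k =>
      show conjQuot N H₁ (x * y) (QuotientGroup.mk k)
        = conjQuot N H₁ x (conjQuot N H₁ y (QuotientGroup.mk k))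
      rw [conjQuot_mk, conjQuot_mk, conjQuot_mk, map_mul]
      rfl

end Action

section Count

variable {L : Type*} [Group L] [Finite L]

/-- **Counting in a Frobenius quotient.** -/
theorem index_dvd_relIndex_sub_one (K N H₁ : Subgroup L) [hK : K.Normal] [hN : N.Normal]
    [hH : H₁.Normal] (hNK : N ≤ K) (hcomm : ⁅K, K⁆ ≤ H₁)
    (hfrob : ∀ k ∈ K, k ∉ H₁ → ∀ x : L, x * k * x⁻¹ * k⁻¹ ∈ H₁ → x ∈ K) :
    K.index ∣ H₁.relIndex N - 1 := by
  classical
  haveI : Fintype L := Fintype.ofFinite L
  letI := conjQuotAction N H₁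
  haveI : Fintype (↥N ⧸ H₁.subgroupOf N) := Fintype.ofFinite _
  haveI : ∀ x : L, Fintype (MulAction.fixedBy (↥N ⧸ H₁.subgroupOf N) x) :=
    fun x => Fintype.ofFinite _
  haveI : Fintype (Quotient (MulAction.orbitRel L (↥N ⧸ H₁.subgroupOf N))) := Fintype.ofFinite _
  have hB := MulAction.sum_card_fixedBy_eq_card_orbits_mul_card_group L (↥N ⧸ H₁.subgroupOf N)
  have hsmul : ∀ (x : L) (k : N), x • (QuotientGroup.mk k : ↥N ⧸ H₁.subgroupOf N)
      = QuotientGroup.mk (MulAut.conjNormal x k) := fun x k => rfl
  have hfix_iff : ∀ (x : L) (k : N), x • (QuotientGroup.mk k : ↥N ⧸ H₁.subgroupOf N)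
      = QuotientGroup.mk k ↔ x * k * x⁻¹ * (k : L)⁻¹ ∈ H₁ := by
    intro x k
    rw [hsmul, QuotientGroup.eq, Subgroup.mem_subgroupOf]
    have e1 : (((MulAut.conjNormal x k)⁻¹ * k : N) : L) = (x * k * x⁻¹)⁻¹ * k := by
      rw [Subgroup.coe_mul, Subgroup.coe_inv, MulAut.conjNormal_apply]
    rw [e1]
    constructor
    · intro h
      have h2 := hH.conj_mem _ (H₁.inv_mem h) (k : L)
      have e2 : (k : L) * ((x * k * x⁻¹)⁻¹ * k)⁻¹ * (k : L)⁻¹ = x * k * x⁻¹ * (k : L)⁻¹ := by group
      rwa [e2] at h2
    · intro h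
      have h2 := hH.conj_mem _ (H₁.inv_mem h) (k : L)⁻¹
      have e2 : (k : L)⁻¹ * (x * k * x⁻¹ * (k : L)⁻¹)⁻¹ * (k : L)⁻¹⁻¹ = (x * k * x⁻¹)⁻¹ * k := by
        group
      rwa [e2] at h2
  have hfixK : ∀ x ∈ K, Fintype.card (MulAction.fixedBy (↥N ⧸ H₁.subgroupOf N) x)
      = H₁.relIndex N := by
    intro x hx
    have huniv : MulAction.fixedBy (↥N ⧸ H₁.subgroupOf N) x = Set.univ := by
      ext v
      simp only [Set.mem_univ, iff_true, MulAction.mem_fixedBy]
      induction v using QuotientGroup.induction_on with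
      | H k =>
        rw [hfix_iff]
        apply hcomm
        have := Subgroup.commutator_mem_commutator hx (hNK k.2)
        rwa [commutatorElement_def] at this
    rw [← Nat.card_eq_fintype_card, huniv, Nat.card_coe_set_eq, Set.ncard_univ]
    rfl
  have hfixNK : ∀ x ∉ K, Fintype.card (MulAction.fixedBy (↥N ⧸ H₁.subgroupOf N) x) = 1 := by
    intro x hx
    have hone : MulAction.fixedBy (↥N ⧸ H₁.subgroupOf N) x = {1} := by
      ext v
      simp only [Set.mem_singleton_iff, MulAction.mem_fixedBy]
      induction v using QuotientGroup.induction_on with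
      | H k =>
        rw [hfix_iff]
        constructor
        · intro h
          by_contra hne
          have hk : (k : L) ∉ H₁ := by
            intro hk
            apply hne
            exact (QuotientGroup.eq_one_iff k).mpr (Subgroup.mem_subgroupOf.mpr hk)
          exact hx (hfrob k (hNK k.2) hk x h)
        · intro h
          have hk : (k : L) ∈ H₁ :=
            Subgroup.mem_subgroupOf.mp ((QuotientGroup.eq_one_iff k).mp h)
          exact H₁.mul_mem (hH.conj_mem _ hk x) (H₁.inv_mem hk)
    rw [← Nat.card_eq_fintype_card, hone, Nat.card_coe_set_eq, Set.ncard_singleton]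
  have hsum : ∑ x : L, Fintype.card (MulAction.fixedBy (↥N ⧸ H₁.subgroupOf N) x)
      = Nat.card K * H₁.relIndex N + (Nat.card L - Nat.card K) := by
    have h1 : ∀ x : L, Fintype.card (MulAction.fixedBy (↥N ⧸ H₁.subgroupOf N) x)
        = if x ∈ K then H₁.relIndex N else 1 := by
      intro x
      by_cases hx : x ∈ K
      · rw [if_pos hx, hfixK x hx]
      · rw [if_neg hx, hfixNK x hx]
    rw [Finset.sum_congr rfl (fun x _ => h1 x), Finset.sum_ite, Finset.sum_const, Finset.sum_const,
      smul_eq_mul, smul_eq_mul, mul_one]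
    have hcK : (Finset.univ.filter (fun x : L => x ∈ K)).card = Nat.card K := by
      rw [Nat.card_eq_fintype_card, Fintype.card_subtype]
    have hcNK : (Finset.univ.filter (fun x : L => ¬ x ∈ K)).card = Nat.card L - Nat.card K := by
      rw [← hcK, Finset.filter_not, Finset.card_sdiff_of_subset (Finset.filter_subset _ _),
        Finset.card_univ, Nat.card_eq_fintype_card]
    rw [hcK, hcNK]
  rw [hsum, ← Nat.card_eq_fintype_card (α := L)] at hB
  have hL : Nat.card L = K.index * Nat.card K := (Subgroup.index_mul_card K).symm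
  have hκ : 0 < Nat.card K := Nat.card_pos
  have he : 0 < K.index := Nat.pos_of_ne_zero Subgroup.index_ne_zero_of_finite
  have hr : 1 ≤ H₁.relIndex N :=
    Nat.one_le_iff_ne_zero.mpr (Subgroup.index_ne_zero_of_finite (H := H₁.subgroupOf N))
  set c := Fintype.card (Quotient (MulAction.orbitRel L (↥N ⧸ H₁.subgroupOf N))) with hc
  set r := H₁.relIndex N with hrdef
  set e := K.index with hedef
  set κ := Nat.card K with hκdef
  rw [hL] at hB
  -- κ * r + (e * κ - κ) = c * (e * κ)
  have h2 : e * κ - κ = (e - 1) * κ := by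
    rw [Nat.sub_mul, one_mul]
  rw [h2] at hB
  have h3 : κ * (r + (e - 1)) = κ * (c * e) := by
    calc κ * (r + (e - 1)) = κ * r + (e - 1) * κ := by ring
      _ = c * (e * κ) := hB
      _ = κ * (c * e) := by ring
  have h4 : r + (e - 1) = c * e := Nat.eq_of_mul_eq_mul_left hκ h3
  have h5 : (r - 1) + e = c * e := by omega
  have h6 : e ∣ (r - 1) + e := ⟨c, by rw [h5, mul_comm]⟩
  exact (Nat.dvd_add_left (dvd_refl e)).mp h6

end Count

end Cfsg.Agent.Helper8
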