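import Mathlib

/-!
Finite nilpotent groups and their abelianization: every prime dividing the order divides the
order of the abelianization; a nilpotent group with abelianization of prime order is abelian.
-/

set_option autoImplicit false
set_option linter.unusedSectionVars false
set_option linter.style.haveILetI false

namespace Cfsg.Agent.Helper8

open scoped commutatorElement

section

variable {G : Type*} [Group G] [Finite G]

/-- every prime dividing the order of a finite nilpotent group divides the index of its
commutator subgroup -/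
theorem prime_dvd_index_commutator_of_nilpotent [hn : Group.IsNilpotent G] {q : ℕ} (hq : q.Prime)
    (hdvd : q ∣ Nat.card G) : q ∣ (commutator G).index := by
  classical
  haveI : Fact q.Prime := ⟨hq⟩
  obtain ⟨e⟩ := (Group.isNilpotent_of_finite_tfae (G := G)).out 0 4 rfl rfl |>.mp hn
  have hqmem : q ∈ (Nat.card G).primeFactors :=
    Nat.mem_primeFactors.mpr ⟨hq, hdvd, Nat.card_pos.ne'⟩
  let Q : Sylow q G := default
  -- the projection onto the Sylow subgroup
  let ev : (∀ p : (Nat.card G).primeFactors, ∀ P : Sylow p G, (↑P : Subgroup G)) →* (↑Q : Subgroup G) :=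
    (Pi.evalMonoidHom (fun P : Sylow q G => (↑P : Subgroup G)) Q).comp
      (Pi.evalMonoidHom (fun p : (Nat.card G).primeFactors => ∀ P : Sylow p G, (↑P : Subgroup G))
        ⟨q, hqmem⟩)
  have hev : Function.Surjective ev := by
    intro x
    obtain ⟨f, hf⟩ := Function.surjective_eval (β := fun p : (Nat.card G).primeFactors =>
      ∀ P : Sylow p G, (↑P : Subgroup G)) ⟨q, hqmem⟩
      (Function.update (fun P : Sylow q G => (1 : (↑P : Subgroup G))) Q x)
    refine ⟨f, ?_⟩
    show f ⟨q, hqmem⟩ Q = x
    have := congrFun hf Q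
    simpa using this
  let ψ : G →* (↑Q : Subgroup G) := ev.comp e.symm.toMonoidHom
  have hψ : Function.Surjective ψ := hev.comp e.symm.surjective
  -- the Sylow subgroup is a nontrivial nilpotent group
  have hQcard : q ∣ Nat.card (↑Q : Subgroup G) := by
    have h1 := Q.card_eq_multiplicity
    rw [h1]
    apply dvd_pow_self
    intro h0
    have := (Nat.factorization_eq_zero_iff (Nat.card G) q).mp h0
    rcases this with h | h | h
    · exact h hq
    · exact h hdvd
    · exact Nat.card_pos.ne' h
  haveI : Nontrivial (↑Q : Subgroup G) := by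
    rw [← Finite.one_lt_card_iff_nontrivial]
    have := Nat.le_of_dvd Nat.card_pos hQcard
    exact lt_of_lt_of_le hq.one_lt this
  have hQp : IsPGroup q (↑Q : Subgroup G) := Q.isPGroup'
  haveI : Group.IsNilpotent (↑Q : Subgroup G) := hQp.isNilpotent
  have hlt := Group.IsSolvable.commutator_lt_top_of_nontrivial (↑Q : Subgroup G)
  -- the composite onto the abelianization of `Q`
  let φ : G →* Abelianization (↑Q : Subgroup G) := Abelianization.of.comp ψ
  have hφ : Function.Surjective φ := (QuotientGroup.mk_surjective).comp hψ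
  have hker : commutator G ≤ φ.ker := by
    rw [commutator_eq_closure, Subgroup.closure_le]
    rintro x ⟨a, b, rfl⟩
    rw [SetLike.mem_coe, MonoidHom.mem_ker, map_commutatorElement]
    exact commutatorElement_eq_one_iff_commute.mpr (Commute.all _ _)
  have h1 : φ.ker.index ∣ (commutator G).index := Subgroup.index_dvd_of_le hker
  have h2 : φ.ker.index = Nat.card (Abelianization (↑Q : Subgroup G)) := by
    rw [Subgroup.index_ker, MonoidHom.range_eq_top.mpr hφ, Subgroup.card_top]
  have h3 : Nat.card (Abelianization (↑Q : Subgroup G)) = (commutator (↑Q : Subgroup G)).index :=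
    (Subgroup.index_eq_card _).symm
  have h4 : (commutator (↑Q : Subgroup G)).index ∣ Nat.card (↑Q : Subgroup G) :=
    Subgroup.index_dvd_card _
  have h5 : (commutator (↑Q : Subgroup G)).index ≠ 1 := by
    intro h
    exact hlt.ne (Subgroup.index_eq_one.mp h)
  obtain ⟨k, hk⟩ := (IsPGroup.iff_card.mp hQp)
  rw [hk] at h4
  obtain ⟨j, -, hj⟩ := (Nat.dvd_prime_pow hq).mp h4
  have hj0 : j ≠ 0 := by
    rintro rfl
    exact h5 (by rw [hj, pow_zero])
  have h6 : q ∣ (commutator (↑Q : Subgroup G)).index := by
    rw [hj]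
    exact dvd_pow_self q hj0
  rw [← h3, ← h2] at h6
  exact h6.trans h1

end

section Cyclic

variable {G : Type*} [Group G]

/-- if `G = ⟨g⟩ G'` then `G' ≤ [G', G]` -/
theorem commutator_le_of_cyclic_mod (g : G)
    (hgen : ∀ x : G, ∃ i : ℤ, ∃ a ∈ commutator G, x = g ^ i * a) :
    commutator G ≤ ⁅commutator G, (⊤ : Subgroup G)⁆ := by
  have hΓ : (⁅commutator G, (⊤ : Subgroup G)⁆ : Subgroup G).Normal := inferInstance
  rw [commutator_def, Subgroup.commutator_le]
  intro x _ y _
  obtain ⟨i, a, ha, rfl⟩ := hgen x
  obtain ⟨j, b, hb, rfl⟩ := hgen y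
  rw [commutatorElement_mul_left_eq_conj_mul]
  apply Subgroup.mul_mem
  · exact hΓ.conj_mem _ (Subgroup.commutator_mem_commutator ha (Subgroup.mem_top _)) _
  · rw [commutatorElement_mul_right_eq_mul_conj]
    have h1 : ⁅g ^ i, g ^ j⁆ = 1 :=
      commutatorElement_eq_one_iff_commute.mpr ((Commute.refl g).zpow_zpow i j)
    rw [h1, one_mul]
    apply hΓ.conj_mem
    have h2 : ⁅g ^ i, b⁆ = (⁅b, g ^ i⁆)⁻¹ := (commutatorElement_inv b (g ^ i)).symm
    rw [h2]
    exact Subgroup.inv_mem _ (Subgroup.commutator_mem_commutator hb (Subgroup.mem_top _))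

variable [Finite G]

/-- a nilpotent group whose abelianization has prime order is abelian -/
theorem commutator_eq_bot_of_prime_index [hn : Group.IsNilpotent G] {p : ℕ} (hp : p.Prime)
    (hidx : (commutator G).index = p) : commutator G = ⊥ := by
  -- an element outside the commutator subgroup
  have hne : commutator G ≠ ⊤ := by
    intro h
    rw [h, Subgroup.index_top] at hidx
    exact hp.one_lt.ne hidx
  obtain ⟨g, hg⟩ : ∃ g : G, g ∉ commutator G := by
    by_contra hcon
    push Not at hcon
    exact hne (eq_top_iff.mpr (fun x _ => hcon x))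
  -- `G = ⟨g⟩ G'`
  have hsup : Subgroup.zpowers g ⊔ commutator G = ⊤ := by
    have h1 : commutator G ≤ Subgroup.zpowers g ⊔ commutator G := le_sup_right
    have h2 := Subgroup.index_dvd_of_le h1
    rw [hidx] at h2
    rcases (Nat.dvd_prime hp).mp h2 with h | h
    · exact Subgroup.index_eq_one.mp h
    · exfalso
      have h3 : Subgroup.zpowers g ⊔ commutator G = commutator G := by
        apply le_antisymm _ h1
        apply Subgroup.relIndex_eq_one.mp
        have h4 := Subgroup.relIndex_mul_index h1
        rw [h, hidx] at h4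
        exact Nat.eq_of_mul_eq_mul_right hp.pos (by rw [h4, one_mul])
      apply hg
      rw [← h3]
      exact Subgroup.mem_sup_left (Subgroup.mem_zpowers g)
  have hgen : ∀ x : G, ∃ i : ℤ, ∃ a ∈ commutator G, x = g ^ i * a := by
    intro x
    have hx : x ∈ Subgroup.zpowers g ⊔ commutator G := by rw [hsup]; exact Subgroup.mem_top x
    rw [← SetLike.mem_coe, Subgroup.mul_normal] at hx
    obtain ⟨y, hy, a, ha, rfl⟩ := hx
    obtain ⟨i, rfl⟩ := Subgroup.mem_zpowers_iff.mp hy
    exact ⟨i, a, ha, rfl⟩
  have hstep := commutator_le_of_cyclic_mod g hgen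
  obtain ⟨n, hn⟩ := Subgroup.nilpotent_iff_lowerCentralSeries.mp hn
  have key : ∀ m : ℕ, commutator G ≤ (⊤ : Subgroup G).lowerCentralSeries (m + 1) := by
    intro m
    induction m with
    | zero => exact le_of_eq rfl
    | succ m ih =>
      calc commutator G ≤ ⁅commutator G, (⊤ : Subgroup G)⁆ := hstep
        _ ≤ ⁅(⊤ : Subgroup G).lowerCentralSeries (m + 1), (⊤ : Subgroup G)⁆ :=
            Subgroup.commutator_mono ih le_rfl
        _ = (⊤ : Subgroup G).lowerCentralSeries (m + 1 + 1) := rfl
  rw [eq_bot_iff]
  calc commutator G ≤ (⊤ : Subgroup G).lowerCentralSeries (n + 1) := key n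
    _ ≤ (⊤ : Subgroup G).lowerCentralSeries n :=
        Subgroup.lowerCentralSeries_antitone _ (Nat.le_succ n)
    _ = ⊥ := hn

end Cyclic

end Cfsg.Agent.Helper8
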