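import Mathlib
import Cfsg.Prelude.Def_Characters
import Cfsg.Agent.Helper8.Inner
import Cfsg.Agent.Helper8.PosDef

/-!
Bessel identity for an indexed orthogonal family of class functions.
-/

set_option autoImplicit false

namespace Cfsg.Agent.Helper8

open scoped ComplexConjugate

variable {G : Type*} [Group G] [Fintype G]

/-- **Bessel identity** for an orthogonal family with nonzero norms. -/
theorem bessel_orth {ι : Type*} (s : Finset ι) (u : ι → (G → ℂ))
    (horth : ∀ i ∈ s, ∀ j ∈ s, i ≠ j → Cfsg.classInner (u i) (u j) = 0)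
    (hne : ∀ i ∈ s, Cfsg.classInner (u i) (u i) ≠ 0) (β : G → ℂ) :
    (∀ i ∈ s, Cfsg.classInner
      (β - ∑ j ∈ s, (Cfsg.classInner β (u j) / Cfsg.classInner (u j) (u j)) • u j) (u i) = 0) ∧
    Cfsg.classInner (β - ∑ j ∈ s, (Cfsg.classInner β (u j) / Cfsg.classInner (u j) (u j)) • u j)
        (β - ∑ j ∈ s, (Cfsg.classInner β (u j) / Cfsg.classInner (u j) (u j)) • u j)
      = Cfsg.classInner β β - ∑ i ∈ s, Cfsg.classInner β (u i) * conj (Cfsg.classInner β (u i))
          / Cfsg.classInner (u i) (u i) := by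
  classical
  have h1 : ∀ i ∈ s, Cfsg.classInner
      (β - ∑ j ∈ s, (Cfsg.classInner β (u j) / Cfsg.classInner (u j) (u j)) • u j) (u i) = 0 := by
    intro i hi
    rw [classInner_sub_left, Cfsg.Agent.Helper23.classInner_sum_left]
    rw [Finset.sum_eq_single i]
    · rw [Cfsg.Agent.Helper23.classInner_smul_left, div_mul_cancel₀ _ (hne i hi), sub_self]
    · intro j hj hne'
      rw [Cfsg.Agent.Helper23.classInner_smul_left, horth j hj i hi hne', mul_zero]
    · intro h; exact absurd hi h
  refine ⟨h1, ?_⟩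
  set γ := β - ∑ j ∈ s, (Cfsg.classInner β (u j) / Cfsg.classInner (u j) (u j)) • u j with hγ
  have h2 : Cfsg.classInner γ γ = Cfsg.classInner γ β := by
    conv_lhs => rw [hγ]
    rw [← hγ, classInner_sub_right, classInner_sum_right]
    have : ∑ j ∈ s, Cfsg.classInner γ
        ((Cfsg.classInner β (u j) / Cfsg.classInner (u j) (u j)) • u j) = 0 := by
      apply Finset.sum_eq_zero
      intro j hj
      rw [classInner_smul_right, h1 j hj, mul_zero]
    rw [this, sub_zero]
  rw [h2, hγ, classInner_sub_left, Cfsg.Agent.Helper23.classInner_sum_left]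
  congr 1
  apply Finset.sum_congr rfl
  intro i _
  rw [Cfsg.Agent.Helper23.classInner_smul_left, classInner_conj_symm β (u i)]
  ring

end Cfsg.Agent.Helper8
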