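import Mathlib
import Cfsg.Prelude.Def_Characters
import Cfsg.Prelude.Def_OddOrderChar
import Cfsg.Agent.Helper8.Inner
import Cfsg.Agent.Helper24.Generalized
import Cfsg.Agent.Helper23.CharOrtho

/-!
Toolkit for integer spans of sets of irreducible characters and linear isometries on them
(coherence arguments).
-/

set_option autoImplicit false
set_option linter.unusedSectionVars false

namespace Cfsg.Agent.Helper8

open Cfsg.Agent.Helper24 (IsGeneralizedCharacter.zsmul IsGeneralizedCharacter.add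
  isGeneralizedCharacter_zero IsGeneralizedCharacter.classInner_irr_int
  IsGeneralizedCharacter.eq_sum_classInner isGeneralizedCharacter_sum)

variable {N : Type*} [Group N] [Fintype N]

omit [Fintype N] in
theorem mem_zspanOn_compl_one {S : Set (N → ℂ)} {α : N → ℂ} :
    α ∈ Cfsg.zspanOn S {1}ᶜ ↔ α ∈ Cfsg.zspan S ∧ α 1 = 0 := by
  unfold Cfsg.zspanOn
  simp only [Set.mem_ofPred_eq, Set.mem_compl_iff, Set.mem_singleton_iff, not_not]
  constructor
  · rintro ⟨h1, h2⟩
    exact ⟨h1, h2 1 rfl⟩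
  · rintro ⟨h1, h2⟩
    exact ⟨h1, fun x hx => hx ▸ h2⟩

theorem zspan_mono {X : Type*} {S T : Set (X → ℂ)} (h : S ⊆ T) : Cfsg.zspan S ⊆ Cfsg.zspan T := by
  intro f hf
  exact Submodule.span_mono h hf

theorem mem_zspan_of_mem {X : Type*} {S : Set (X → ℂ)} {f : X → ℂ} (h : f ∈ S) : f ∈ Cfsg.zspan S :=
  Submodule.subset_span h

theorem zspan_add_mem {X : Type*} {S : Set (X → ℂ)} {f g : X → ℂ} (hf : f ∈ Cfsg.zspan S)
    (hg : g ∈ Cfsg.zspan S) : f + g ∈ Cfsg.zspan S :=
  Submodule.add_mem _ hf hg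

theorem zspan_sub_mem {X : Type*} {S : Set (X → ℂ)} {f g : X → ℂ} (hf : f ∈ Cfsg.zspan S)
    (hg : g ∈ Cfsg.zspan S) : f - g ∈ Cfsg.zspan S :=
  Submodule.sub_mem _ hf hg

theorem zspan_zsmul_mem {X : Type*} {S : Set (X → ℂ)} {f : X → ℂ} (n : ℤ) (hf : f ∈ Cfsg.zspan S) :
    n • f ∈ Cfsg.zspan S :=
  Submodule.smul_mem _ n hf

theorem zspan_zero_mem {X : Type*} (S : Set (X → ℂ)) : (0 : X → ℂ) ∈ Cfsg.zspan S :=
  Submodule.zero_mem _

omit [Fintype N] in
/-- members of the integer span of a set of characters are generalized characters -/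
theorem isGeneralizedCharacter_of_mem_zspan {S : Set (N → ℂ)}
    (hS : ∀ ξ ∈ S, Cfsg.IsGeneralizedCharacter N ξ) {f : N → ℂ} (hf : f ∈ Cfsg.zspan S) :
    Cfsg.IsGeneralizedCharacter N f := by
  induction hf using Submodule.span_induction with
  | mem x hx => exact hS x hx
  | zero => exact isGeneralizedCharacter_zero
  | add x y _ _ hx hy => exact IsGeneralizedCharacter.add hx hy
  | smul a x _ hx =>
    rw [← Int.cast_smul_eq_zsmul ℂ a x]
    exact IsGeneralizedCharacter.zsmul hx a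

/-- a member of the integer span of a set `S` of irreducible characters is orthogonal to the
irreducible characters outside `S` -/
theorem classInner_eq_zero_of_mem_zspan {S : Set (N → ℂ)}
    (hirr : ∀ ξ ∈ S, Cfsg.IsIrrCharacter N ξ) {f : N → ℂ} (hf : f ∈ Cfsg.zspan S)
    {η : N → ℂ} (hη : Cfsg.IsIrrCharacter N η) (hηS : η ∉ S) : Cfsg.classInner f η = 0 := by
  induction hf using Submodule.span_induction with
  | mem x hx =>
    rw [Cfsg.Agent.Helper23.classInner_irrCharacter x η (hirr x hx) hη, if_neg]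
    rintro rfl
    exact hηS hx
  | zero => exact Cfsg.Agent.Helper24.classInner_zero_left η
  | add x y _ _ hx hy => rw [Cfsg.Agent.Helper24.classInner_add_left, hx, hy, add_zero]
  | smul a x _ hx =>
    rw [← Int.cast_smul_eq_zsmul ℂ a x, Cfsg.Agent.Helper24.classInner_smul_left, hx, mul_zero]

/-- the value at the identity of a member of the integer span of characters is an integer -/
theorem apply_one_int_of_mem_zspan {S : Set (N → ℂ)}
    (hS : ∀ ξ ∈ S, Cfsg.IsGeneralizedCharacter N ξ) {f : N → ℂ} (hf : f ∈ Cfsg.zspan S) :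
    ∃ n : ℤ, f 1 = n :=
  Cfsg.Agent.Helper24.IsGeneralizedCharacter.apply_one_int (isGeneralizedCharacter_of_mem_zspan hS hf)

section CoordExt

open Cfsg.Agent.Helper24 (classInner_add_left classInner_smul_left classInner_sum_left
  classInner_zero_left)

variable {G : Type*} [Group G] [Fintype G] [Fintype (Cfsg.IrrCharacter N)]

open Classical in
/-- the coefficient of `f` at the irreducible character `ξ` if it belongs to `S`, else zero -/
noncomputable def coef (S : Set (N → ℂ)) (f : N → ℂ) (ξ : Cfsg.IrrCharacter N) : ℂ :=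
  if (ξ : N → ℂ) ∈ S then Cfsg.classInner f (ξ : N → ℂ) else 0

omit [Fintype (Cfsg.IrrCharacter N)] in
theorem coef_of_mem {S : Set (N → ℂ)} (f : N → ℂ) {ξ : Cfsg.IrrCharacter N}
    (h : (ξ : N → ℂ) ∈ S) : coef S f ξ = Cfsg.classInner f (ξ : N → ℂ) := by
  unfold coef; rw [if_pos h]

omit [Fintype (Cfsg.IrrCharacter N)] in
theorem coef_of_not_mem {S : Set (N → ℂ)} (f : N → ℂ) {ξ : Cfsg.IrrCharacter N}
    (h : (ξ : N → ℂ) ∉ S) : coef S f ξ = 0 := by
  unfold coef; rw [if_neg h]

omit [Fintype (Cfsg.IrrCharacter N)] in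
theorem coef_add (S : Set (N → ℂ)) (f g : N → ℂ) (ξ : Cfsg.IrrCharacter N) :
    coef S (f + g) ξ = coef S f ξ + coef S g ξ := by
  unfold coef
  split_ifs
  · rw [classInner_add_left]
  · rw [add_zero]

omit [Fintype (Cfsg.IrrCharacter N)] in
theorem coef_smul (S : Set (N → ℂ)) (c : ℂ) (f : N → ℂ) (ξ : Cfsg.IrrCharacter N) :
    coef S (c • f) ξ = c * coef S f ξ := by
  unfold coef
  split_ifs
  · rw [classInner_smul_left]
  · rw [mul_zero]

omit [Fintype (Cfsg.IrrCharacter N)] in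
theorem coef_zsmul (S : Set (N → ℂ)) (n : ℤ) (f : N → ℂ) (ξ : Cfsg.IrrCharacter N) :
    coef S (n • f) ξ = (n : ℂ) * coef S f ξ := by
  rw [← Int.cast_smul_eq_zsmul ℂ n f, coef_smul]

/-- the extension by linearity to all functions of a map defined on `S` -/
noncomputable def coordExt (S : Set (N → ℂ)) (e : (N → ℂ) → (G → ℂ)) (f : N → ℂ) : G → ℂ :=
  ∑ ξ : Cfsg.IrrCharacter N, coef S f ξ • e (ξ : N → ℂ)

omit [Fintype G] in
theorem coordExt_add (S : Set (N → ℂ)) (e : (N → ℂ) → (G → ℂ)) (f g : N → ℂ) :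
    coordExt S e (f + g) = coordExt S e f + coordExt S e g := by
  unfold coordExt
  rw [← Finset.sum_add_distrib]
  apply Finset.sum_congr rfl
  intro ξ _
  rw [coef_add, add_smul]

omit [Fintype G] in
theorem coordExt_smul (S : Set (N → ℂ)) (e : (N → ℂ) → (G → ℂ)) (c : ℂ) (f : N → ℂ) :
    coordExt S e (c • f) = c • coordExt S e f := by
  unfold coordExt
  rw [Finset.smul_sum]
  apply Finset.sum_congr rfl
  intro ξ _
  rw [coef_smul, mul_smul]

omit [Fintype G] in
theorem coordExt_zsmul (S : Set (N → ℂ)) (e : (N → ℂ) → (G → ℂ)) (n : ℤ) (f : N → ℂ) :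
    coordExt S e (n • f) = n • coordExt S e f := by
  rw [← Int.cast_smul_eq_zsmul ℂ n f, coordExt_smul, Int.cast_smul_eq_zsmul]

omit [Fintype G] in
theorem coordExt_sub (S : Set (N → ℂ)) (e : (N → ℂ) → (G → ℂ)) (f g : N → ℂ) :
    coordExt S e (f - g) = coordExt S e f - coordExt S e g := by
  have h : f - g = f + (-1 : ℂ) • g := by rw [neg_one_smul, sub_eq_add_neg]
  rw [h, coordExt_add, coordExt_smul, neg_one_smul, sub_eq_add_neg]

omit [Fintype G] in
/-- on a member of `S` the extension returns the prescribed value -/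
theorem coordExt_of_mem {S : Set (N → ℂ)} (hirr : ∀ ξ ∈ S, Cfsg.IsIrrCharacter N ξ)
    (e : (N → ℂ) → (G → ℂ)) {χ : N → ℂ} (hχ : χ ∈ S) : coordExt S e χ = e χ := by
  classical
  unfold coordExt
  rw [Finset.sum_eq_single (⟨χ, hirr χ hχ⟩ : Cfsg.IrrCharacter N)]
  · rw [coef_of_mem _ hχ]
    simp only
    rw [Cfsg.Agent.Helper23.classInner_irrCharacter χ χ (hirr χ hχ) (hirr χ hχ), if_pos rfl,
      one_smul]
  · intro ξ _ hne
    by_cases hξ : (ξ : N → ℂ) ∈ S
    · rw [coef_of_mem _ hξ, Cfsg.Agent.Helper23.classInner_irrCharacter χ ξ (hirr χ hχ) ξ.2,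
        if_neg, zero_smul]
      intro h
      exact hne (Subtype.ext h.symm)
    · rw [coef_of_not_mem _ hξ, zero_smul]
  · intro h
    exact absurd (Finset.mem_univ _) h

/-- inner products of extensions, for an orthonormal family of images -/
theorem classInner_coordExt {S : Set (N → ℂ)} (e : (N → ℂ) → (G → ℂ))
    (horth : ∀ ξ ∈ S, ∀ η ∈ S, Cfsg.classInner (e ξ) (e η) = if ξ = η then 1 else 0)
    (f g : N → ℂ) :
    Cfsg.classInner (coordExt S e f) (coordExt S e g)
      = ∑ ξ : Cfsg.IrrCharacter N, coef S f ξ * (starRingEnd ℂ) (coef S g ξ) := by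
  classical
  unfold coordExt
  rw [classInner_sum_left]
  apply Finset.sum_congr rfl
  intro ξ _
  rw [classInner_smul_left, classInner_sum_right]
  by_cases hξ : (ξ : N → ℂ) ∈ S
  · congr 1
    rw [Finset.sum_eq_single ξ]
    · rw [classInner_smul_right, horth _ hξ _ hξ, if_pos rfl, mul_one]
    · intro η _ hne
      rw [classInner_smul_right]
      by_cases hη : (η : N → ℂ) ∈ S
      · rw [horth _ hξ _ hη, if_neg, mul_zero]
        intro h
        exact hne (Subtype.ext h.symm)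
      · rw [coef_of_not_mem _ hη, map_zero, zero_mul]
    · intro h
      exact absurd (Finset.mem_univ _) h
  · rw [coef_of_not_mem f hξ, zero_mul, zero_mul]

/-- inner products of members of the integer span in coordinates -/
theorem classInner_of_mem_zspan {S : Set (N → ℂ)} (hirr : ∀ ξ ∈ S, Cfsg.IsIrrCharacter N ξ)
    {f g : N → ℂ} (hf : f ∈ Cfsg.zspan S) (hg : g ∈ Cfsg.zspan S) :
    Cfsg.classInner f g
      = ∑ ξ : Cfsg.IrrCharacter N, coef S f ξ * (starRingEnd ℂ) (coef S g ξ) := by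
  have hS : ∀ ξ ∈ S, Cfsg.IsGeneralizedCharacter N ξ := fun ξ hξ =>
    Cfsg.Agent.Helper24.IsIrrCharacter.isGeneralizedCharacter (hirr ξ hξ)
  have hf' := IsGeneralizedCharacter.eq_sum_classInner (isGeneralizedCharacter_of_mem_zspan hS hf)
  have hg' := IsGeneralizedCharacter.eq_sum_classInner (isGeneralizedCharacter_of_mem_zspan hS hg)
  have h1 : Cfsg.classInner f g
      = Cfsg.classInner (∑ ψ : Cfsg.IrrCharacter N, Cfsg.classInner f (ψ : N → ℂ) • (ψ : N → ℂ))
          (∑ ψ : Cfsg.IrrCharacter N, Cfsg.classInner g (ψ : N → ℂ) • (ψ : N → ℂ)) := by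
    rw [← hf', ← hg']
  rw [h1, Cfsg.Agent.Helper24.classInner_sum_sum]
  apply Finset.sum_congr rfl
  intro ξ _
  by_cases hξ : (ξ : N → ℂ) ∈ S
  · rw [coef_of_mem _ hξ, coef_of_mem _ hξ]
  · rw [coef_of_not_mem _ hξ, classInner_eq_zero_of_mem_zspan hirr hf ξ.2 hξ, zero_mul, zero_mul]

/-- the extension by linearity of an orthonormal family of generalized characters indexed by a
set `S` of irreducible characters is a linear isometry on the integer span of `S` -/
theorem isLinearIsometryOn_coordExt {S : Set (N → ℂ)} (hirr : ∀ ξ ∈ S, Cfsg.IsIrrCharacter N ξ)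
    (e : (N → ℂ) → (G → ℂ))
    (horth : ∀ ξ ∈ S, ∀ η ∈ S, Cfsg.classInner (e ξ) (e η) = if ξ = η then 1 else 0)
    (hgen : ∀ ξ ∈ S, Cfsg.IsGeneralizedCharacter G (e ξ)) :
    Cfsg.IsLinearIsometryOn (Cfsg.zspan S) (coordExt S e) := by
  have hS : ∀ ξ ∈ S, Cfsg.IsGeneralizedCharacter N ξ := fun ξ hξ =>
    Cfsg.Agent.Helper24.IsIrrCharacter.isGeneralizedCharacter (hirr ξ hξ)
  refine ⟨fun α _ β _ => coordExt_add S e α β, fun α _ n => coordExt_zsmul S e n α, ?_, ?_⟩
  · intro α hα β hβ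
    rw [classInner_coordExt e horth, classInner_of_mem_zspan hirr hα hβ]
  · intro α hα
    unfold coordExt
    apply isGeneralizedCharacter_sum
    intro ξ _
    by_cases hξ : (ξ : N → ℂ) ∈ S
    · rw [coef_of_mem _ hξ]
      obtain ⟨n, hn⟩ := IsGeneralizedCharacter.classInner_irr_int
        (isGeneralizedCharacter_of_mem_zspan hS hα) ξ
      rw [hn]
      exact IsGeneralizedCharacter.zsmul (hgen _ hξ) n
    · rw [coef_of_not_mem _ hξ, zero_smul]
      exact isGeneralizedCharacter_zero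

omit [Fintype (Cfsg.IrrCharacter N)] in
theorem map_zero_of_isLinearIsometryOn {S : Set (N → ℂ)} {σ : (N → ℂ) → (G → ℂ)}
    (hσ : Cfsg.IsLinearIsometryOn (Cfsg.zspan S) σ) : σ 0 = 0 := by
  have := hσ.2.1 0 (zspan_zero_mem S) 0
  simpa using this

/-- a linear isometry on the integer span of `S` is the extension by linearity of its values
on `S` -/
theorem eq_coordExt_of_isLinearIsometryOn {S : Set (N → ℂ)}
    (hirr : ∀ ξ ∈ S, Cfsg.IsIrrCharacter N ξ) {σ : (N → ℂ) → (G → ℂ)}
    (hσ : Cfsg.IsLinearIsometryOn (Cfsg.zspan S) σ) {f : N → ℂ} (hf : f ∈ Cfsg.zspan S) :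
    σ f = coordExt S σ f := by
  induction hf using Submodule.span_induction with
  | mem x hx => rw [coordExt_of_mem hirr σ hx]
  | zero =>
    rw [map_zero_of_isLinearIsometryOn hσ]
    have := coordExt_zsmul S σ 0 (0 : N → ℂ)
    simpa using this.symm
  | add x y hx hy ihx ihy =>
    rw [hσ.1 x hx y hy, coordExt_add, ihx, ihy]
  | smul a x hx ih =>
    rw [hσ.2.1 x hx a, coordExt_zsmul, ih]

omit [Fintype (Cfsg.IrrCharacter N)] in
/-- a linear isometry on the integer span of `S` maps `S` to an orthonormal family -/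
theorem orthonormal_of_isLinearIsometryOn {S : Set (N → ℂ)}
    (hirr : ∀ ξ ∈ S, Cfsg.IsIrrCharacter N ξ) {σ : (N → ℂ) → (G → ℂ)}
    (hσ : Cfsg.IsLinearIsometryOn (Cfsg.zspan S) σ) :
    ∀ ξ ∈ S, ∀ η ∈ S, Cfsg.classInner (σ ξ) (σ η) = if ξ = η then 1 else 0 := by
  intro ξ hξ η hη
  rw [hσ.2.2.1 ξ (mem_zspan_of_mem hξ) η (mem_zspan_of_mem hη)]
  exact Cfsg.Agent.Helper23.classInner_irrCharacter ξ η (hirr ξ hξ) (hirr η hη)

end CoordExt

end Cfsg.Agent.Helper8
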