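import Mathlib
import Cfsg.Prelude.Def_Characters
import Cfsg.Prelude.Def_OddOrderChar
import Cfsg.Agent.Helper8.Inner
import Cfsg.Agent.Helper8.PosDef
import Cfsg.Agent.Helper8.ZSpan

/-!
Extension by linearity from an orthogonal family of class functions, and a Bessel-type identity
for orthonormal families.
-/

set_option autoImplicit false

namespace Cfsg.Agent.Helper8

open scoped ComplexConjugate

variable {N G : Type*} [Group N] [Fintype N] [Group G] [Fintype G]

/-- extension by linearity from a finite orthogonal family -/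
noncomputable def orthExt (T : Finset (N → ℂ)) (v : (N → ℂ) → (G → ℂ)) (f : N → ℂ) : G → ℂ :=
  ∑ χ ∈ T, (Cfsg.classInner f χ / Cfsg.classInner χ χ) • v χ

omit [Fintype G] [Group G] in
theorem orthExt_add (T : Finset (N → ℂ)) (v : (N → ℂ) → (G → ℂ)) (f g : N → ℂ) :
    orthExt T v (f + g) = orthExt T v f + orthExt T v g := by
  unfold orthExt
  rw [← Finset.sum_add_distrib]
  apply Finset.sum_congr rfl
  intro χ _
  rw [Cfsg.Agent.Helper23.classInner_add_left, add_div, add_smul]

omit [Fintype G] [Group G] in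
theorem orthExt_smul (T : Finset (N → ℂ)) (v : (N → ℂ) → (G → ℂ)) (c : ℂ) (f : N → ℂ) :
    orthExt T v (c • f) = c • orthExt T v f := by
  unfold orthExt
  rw [Finset.smul_sum]
  apply Finset.sum_congr rfl
  intro χ _
  rw [Cfsg.Agent.Helper23.classInner_smul_left, mul_div_assoc, mul_smul]

omit [Fintype G] [Group G] in
theorem orthExt_zsmul (T : Finset (N → ℂ)) (v : (N → ℂ) → (G → ℂ)) (n : ℤ) (f : N → ℂ) :
    orthExt T v (n • f) = n • orthExt T v f := by
  rw [← Int.cast_smul_eq_zsmul ℂ n f, orthExt_smul, Int.cast_smul_eq_zsmul]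

omit [Fintype G] [Group G] in
theorem orthExt_of_mem {T : Finset (N → ℂ)}
    (horth : ∀ χ ∈ T, ∀ ψ ∈ T, χ ≠ ψ → Cfsg.classInner χ ψ = 0)
    (hne : ∀ χ ∈ T, Cfsg.classInner χ χ ≠ 0) (v : (N → ℂ) → (G → ℂ)) {χ : N → ℂ} (hχ : χ ∈ T) :
    orthExt T v χ = v χ := by
  classical
  unfold orthExt
  rw [Finset.sum_eq_single χ]
  · rw [div_self (hne χ hχ), one_smul]
  · intro ψ hψ hne'
    rw [horth χ hχ ψ hψ (Ne.symm hne'), zero_div, zero_smul]
  · intro h; exact absurd hχ h

/-- an additive, `ℤ`-homogeneous map preserving inner products on a set preserves them on its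
integer span -/
theorem classInner_eq_of_span {S : Set (N → ℂ)} {σ : (N → ℂ) → (G → ℂ)}
    (hadd : ∀ f g, σ (f + g) = σ f + σ g) (hsmul : ∀ (n : ℤ) f, σ (n • f) = n • σ f)
    (hS : ∀ χ ∈ S, ∀ ψ ∈ S, Cfsg.classInner (σ χ) (σ ψ) = Cfsg.classInner χ ψ) :
    ∀ f ∈ Cfsg.zspan S, ∀ g ∈ Cfsg.zspan S,
      Cfsg.classInner (σ f) (σ g) = Cfsg.classInner f g := by
  have h0 : σ 0 = 0 := by
    have := hsmul 0 0
    simpa using this
  intro f hf
  induction hf using Submodule.span_induction with
  | mem χ hχ =>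
    intro g hg
    induction hg using Submodule.span_induction with
    | mem ψ hψ => exact hS χ hχ ψ hψ
    | zero => rw [h0, classInner_zero_right, classInner_zero_right]
    | add x y _ _ hx hy => rw [hadd, classInner_add_right, classInner_add_right, hx, hy]
    | smul n x _ hx =>
      rw [hsmul, ← Int.cast_smul_eq_zsmul ℂ n (σ x), ← Int.cast_smul_eq_zsmul ℂ n x,
        classInner_smul_right, classInner_smul_right, hx]
  | zero =>
    intro g _
    rw [h0, Cfsg.Agent.Helper23.classInner_zero_left, Cfsg.Agent.Helper23.classInner_zero_left]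
  | add x y _ _ hx hy =>
    intro g hg
    rw [hadd, Cfsg.Agent.Helper23.classInner_add_left, Cfsg.Agent.Helper23.classInner_add_left,
      hx g hg, hy g hg]
  | smul n x _ hx =>
    intro g hg
    rw [hsmul, ← Int.cast_smul_eq_zsmul ℂ n (σ x), ← Int.cast_smul_eq_zsmul ℂ n x,
      Cfsg.Agent.Helper23.classInner_smul_left, Cfsg.Agent.Helper23.classInner_smul_left, hx g hg]

theorem isLinearIsometryOn_orthExt {T : Finset (N → ℂ)}
    (horth : ∀ χ ∈ T, ∀ ψ ∈ T, χ ≠ ψ → Cfsg.classInner χ ψ = 0)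
    (hne : ∀ χ ∈ T, Cfsg.classInner χ χ ≠ 0) (v : (N → ℂ) → (G → ℂ))
    (hv : ∀ χ ∈ T, ∀ ψ ∈ T, Cfsg.classInner (v χ) (v ψ) = Cfsg.classInner χ ψ)
    (hgen : ∀ χ ∈ T, Cfsg.IsGeneralizedCharacter G (v χ)) :
    Cfsg.IsLinearIsometryOn (Cfsg.zspan (↑T : Set (N → ℂ))) (orthExt T v) := by
  refine ⟨fun α _ β _ => orthExt_add T v α β, fun α _ n => orthExt_zsmul T v n α, ?_, ?_⟩
  · apply classInner_eq_of_span (orthExt_add T v) (fun n f => orthExt_zsmul T v n f)
    intro χ hχ ψ hψ
    rw [orthExt_of_mem horth hne v hχ, orthExt_of_mem horth hne v hψ]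
    exact hv χ hχ ψ hψ
  · intro α hα
    induction hα using Submodule.span_induction with
    | mem χ hχ =>
      rw [orthExt_of_mem horth hne v hχ]
      exact hgen χ hχ
    | zero =>
      have : orthExt T v 0 = 0 := by
        have := orthExt_zsmul T v 0 0
        simpa using this
      rw [this]
      exact Cfsg.Agent.Helper24.isGeneralizedCharacter_zero
    | add x y _ _ hx hy =>
      rw [orthExt_add]
      exact Cfsg.Agent.Helper24.IsGeneralizedCharacter.add hx hy
    | smul n x _ hx =>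
      rw [orthExt_zsmul, ← Int.cast_smul_eq_zsmul ℂ]
      exact Cfsg.Agent.Helper24.IsGeneralizedCharacter.zsmul hx n

/-- **Bessel identity**: removing the components along an orthonormal family. -/
theorem bessel_sub (B : Finset (G → ℂ))
    (horth : ∀ α ∈ B, ∀ α' ∈ B, Cfsg.classInner α α' = if α = α' then 1 else 0) (β : G → ℂ) :
    (∀ α ∈ B, Cfsg.classInner (β - ∑ α' ∈ B, Cfsg.classInner β α' • α') α = 0) ∧
    Cfsg.classInner (β - ∑ α' ∈ B, Cfsg.classInner β α' • α') (β - ∑ α' ∈ B, Cfsg.classInner β α' • α')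
      = Cfsg.classInner β β - ∑ α ∈ B, Cfsg.classInner β α * conj (Cfsg.classInner β α) := by
  classical
  have h1 : ∀ α ∈ B, Cfsg.classInner (β - ∑ α' ∈ B, Cfsg.classInner β α' • α') α = 0 := by
    intro α hα
    rw [classInner_sub_left, Cfsg.Agent.Helper23.classInner_sum_left]
    rw [Finset.sum_eq_single α]
    · rw [Cfsg.Agent.Helper23.classInner_smul_left, horth α hα α hα, if_pos rfl, mul_one, sub_self]
    · intro α' hα' hne
      rw [Cfsg.Agent.Helper23.classInner_smul_left, horth α' hα' α hα, if_neg hne, mul_zero]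
    · intro h; exact absurd hα h
  refine ⟨h1, ?_⟩
  set γ := β - ∑ α' ∈ B, Cfsg.classInner β α' • α' with hγ
  have h2 : Cfsg.classInner γ γ = Cfsg.classInner γ β := by
    conv_lhs => rw [hγ]
    rw [← hγ, classInner_sub_right, classInner_sum_right]
    have : ∑ α ∈ B, Cfsg.classInner γ (Cfsg.classInner β α • α) = 0 := by
      apply Finset.sum_eq_zero
      intro α hα
      rw [classInner_smul_right, h1 α hα, mul_zero]
    rw [this, sub_zero]
  rw [h2, hγ, classInner_sub_left, Cfsg.Agent.Helper23.classInner_sum_left]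
  congr 1
  apply Finset.sum_congr rfl
  intro α _
  rw [Cfsg.Agent.Helper23.classInner_smul_left, classInner_conj_symm β α]

end Cfsg.Agent.Helper8
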