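import Mathlib
import Cfsg.Prelude.Def_Characters
import Cfsg.Prelude.Def_OddOrderChar
import Cfsg.Agent.Helper8.OrthExt
import Cfsg.Agent.Helper24.Generalized

/-!
Coherence systems all of whose members have the same degree.
-/

set_option autoImplicit false

namespace Cfsg.Agent.Helper8

open scoped ComplexConjugate

theorem int_sq_sub_nonneg (x : ℤ) : 0 ≤ x * x - x := by
  rcases le_or_gt x 0 with h | h
  · nlinarith
  · nlinarith

theorem int_sq_add_nonneg (x : ℤ) : 0 ≤ x * x + x := by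
  rcases le_or_gt x (-1) with h | h
  · nlinarith
  · nlinarith

theorem int_eq_zero_or_one_of_sq (x : ℤ) (h : x * x - x = 0) : x = 0 ∨ x = 1 := by
  have : x * (x - 1) = 0 := by ring_nf; ring_nf at h; linarith
  rcases mul_eq_zero.mp this with h | h
  · exact Or.inl h
  · exact Or.inr (by linarith)

variable {L G : Type*} [Group L] [Fintype L] [Group G] [Fintype G]

omit [Group L] [Fintype L] in
theorem conjFun_conjFun (χ : L → ℂ) : Cfsg.conjFun (Cfsg.conjFun χ) = χ := by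
  funext x
  unfold Cfsg.conjFun
  simp

theorem classInner_conjFun_conjFun (φ ψ : L → ℂ) :
    Cfsg.classInner (Cfsg.conjFun φ) (Cfsg.conjFun ψ) = conj (Cfsg.classInner φ ψ) := by
  unfold Cfsg.classInner Cfsg.conjFun
  rw [map_mul, map_sum, map_inv₀, Complex.conj_natCast]
  congr 1
  apply Finset.sum_congr rfl
  intro g _
  rw [map_mul]

section System

variable {S : Set (L → ℂ)} {τ : (L → ℂ) → (G → ℂ)} {R : (L → ℂ) → Finset (G → ℂ)}

theorem cs_ne_zero (hS : Cfsg.IsCoherenceSystem S τ R) {χ : L → ℂ} (hχ : χ ∈ S) :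
    χ ≠ 0 := by
  rintro rfl
  apply hS.conj_ne 0 hχ
  funext x
  unfold Cfsg.conjFun
  simp

theorem cs_norm_ne_zero (hS : Cfsg.IsCoherenceSystem S τ R) {χ : L → ℂ}
    (hχ : χ ∈ S) : Cfsg.classInner χ χ ≠ 0 :=
  fun h => cs_ne_zero hS hχ (eq_zero_of_classInner_self_eq_zero h)

theorem cs_classInner_conj (hS : Cfsg.IsCoherenceSystem S τ R) {χ : L → ℂ}
    (hχ : χ ∈ S) : Cfsg.classInner χ (Cfsg.conjFun χ) = 0 :=
  hS.orthogonal χ hχ _ (hS.conj_mem χ hχ) (hS.conj_ne χ hχ).symm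

theorem cs_classInner_conj' (hS : Cfsg.IsCoherenceSystem S τ R) {χ : L → ℂ}
    (hχ : χ ∈ S) : Cfsg.classInner (Cfsg.conjFun χ) χ = 0 :=
  hS.orthogonal _ (hS.conj_mem χ hχ) χ hχ (hS.conj_ne χ hχ)

theorem cs_isGen (hS : Cfsg.IsCoherenceSystem S τ R) :
    ∀ χ ∈ S, Cfsg.IsGeneralizedCharacter L χ :=
  fun χ hχ => Cfsg.Agent.Helper24.IsCharacter.isGeneralizedCharacter (hS.isCharacter χ hχ)

/-- the squared norm of a member is real -/
theorem classInner_self_conj (χ : L → ℂ) :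
    conj (Cfsg.classInner χ χ) = Cfsg.classInner χ χ :=
  (classInner_conj_symm χ χ).symm

omit [Fintype L] [Group G] [Fintype G] in
theorem sub_mem_zspanOn (hdeg : ∀ φ ∈ S, ∀ ψ ∈ S, φ 1 = ψ 1) {χ ψ : L → ℂ} (hχ : χ ∈ S)
    (hψ : ψ ∈ S) : χ - ψ ∈ Cfsg.zspanOn S {1}ᶜ := by
  rw [mem_zspanOn_compl_one]
  refine ⟨zspan_sub_mem (mem_zspan_of_mem hχ) (mem_zspan_of_mem hψ), ?_⟩
  rw [Pi.sub_apply, hdeg χ hχ ψ hψ, sub_self]

variable (hS : Cfsg.IsCoherenceSystem S τ R) (hdeg : ∀ φ ∈ S, ∀ ψ ∈ S, φ 1 = ψ 1)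

include hS hdeg

theorem tau_sub_add {χ ψ φ : L → ℂ} (hχ : χ ∈ S) (hψ : ψ ∈ S) (hφ : φ ∈ S) :
    τ (χ - ψ) + τ (ψ - φ) = τ (χ - φ) := by
  rw [← hS.isometry.1 _ (sub_mem_zspanOn hdeg hχ hψ) _ (sub_mem_zspanOn hdeg hψ hφ)]
  congr 1
  abel

theorem tau_sub_self {χ : L → ℂ} (hχ : χ ∈ S) : τ (χ - χ) = 0 := by
  have := hS.isometry.2.1 _ (sub_mem_zspanOn hdeg hχ hχ) 0
  rw [zero_smul, zero_smul] at this
  rw [sub_self]
  exact this

theorem tau_sub_neg {χ ψ : L → ℂ} (hχ : χ ∈ S) (hψ : ψ ∈ S) : τ (ψ - χ) = - τ (χ - ψ) := by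
  have := tau_sub_add hS hdeg hχ hψ hχ
  rw [tau_sub_self hS hdeg hχ] at this
  exact (neg_eq_of_add_eq_zero_right this).symm

theorem classInner_tau_sub {χ ψ χ' ψ' : L → ℂ} (hχ : χ ∈ S) (hψ : ψ ∈ S) (hχ' : χ' ∈ S)
    (hψ' : ψ' ∈ S) :
    Cfsg.classInner (τ (χ - ψ)) (τ (χ' - ψ')) = Cfsg.classInner (χ - ψ) (χ' - ψ') :=
  hS.isometry.2.2.1 _ (sub_mem_zspanOn hdeg hχ hψ) _ (sub_mem_zspanOn hdeg hχ' hψ')

theorem isGen_tau_sub {χ ψ : L → ℂ} (hχ : χ ∈ S) (hψ : ψ ∈ S) :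
    Cfsg.IsGeneralizedCharacter G (τ (χ - ψ)) :=
  hS.isometry.2.2.2 _ (sub_mem_zspanOn hdeg hχ hψ)

/-- the sum of the components of `τ (χ - ψ)` along `R φ` -/
theorem sum_classInner_tau_R {χ ψ φ : L → ℂ} (hχ : χ ∈ S) (hψ : ψ ∈ S) (hφ : φ ∈ S) :
    ∑ α ∈ R φ, Cfsg.classInner (τ (χ - ψ)) α
      = Cfsg.classInner (χ - ψ) (φ - Cfsg.conjFun φ) := by
  rw [← classInner_sum_right, ← hS.sum_eq φ hφ,
    classInner_tau_sub hS hdeg hχ hψ hφ (hS.conj_mem φ hφ)]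

/-- **The splitting lemma**: `τ (χ - ψ)` is a sum of members of `R χ` minus a sum of members
of `R ψ`. -/
theorem tau_sub_split {χ ψ : L → ℂ} (hχ : χ ∈ S) (hψ : ψ ∈ S) (h1 : ψ ≠ χ)
    (h2 : ψ ≠ Cfsg.conjFun χ) :
    (∀ α ∈ R χ, Cfsg.classInner (τ (χ - ψ)) α = 0 ∨ Cfsg.classInner (τ (χ - ψ)) α = 1) ∧
    τ (χ - ψ) = ∑ α ∈ R χ, Cfsg.classInner (τ (χ - ψ)) α • α
      + ∑ α ∈ R ψ, Cfsg.classInner (τ (χ - ψ)) α • α := by
  classical
  have hfI : Fintype (Cfsg.IrrCharacter G) :=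
    @Fintype.ofFinite _ (Cfsg.Agent.Helper23.finite_irrCharacter G)
  have hχc := hS.conj_mem χ hχ
  have hψc := hS.conj_mem ψ hψ
  have o1 : Cfsg.classInner ψ χ = 0 := hS.orthogonal ψ hψ χ hχ h1
  have o1' : Cfsg.classInner χ ψ = 0 := hS.orthogonal χ hχ ψ hψ h1.symm
  have o2 : Cfsg.classInner ψ (Cfsg.conjFun χ) = 0 := hS.orthogonal ψ hψ _ hχc h2
  have h3 : χ ≠ Cfsg.conjFun ψ := by
    intro e
    apply h2
    rw [e, conjFun_conjFun]
  have o3 : Cfsg.classInner χ (Cfsg.conjFun ψ) = 0 := hS.orthogonal χ hχ _ hψc h3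
  have o4 := cs_classInner_conj hS hχ
  have o5 := cs_classInner_conj hS hψ
  have hperp : ∀ α ∈ R ψ, ∀ α' ∈ R χ, Cfsg.classInner α α' = 0 := hS.disjoint χ hχ ψ hψ o1 o2
  have hperp' : ∀ α ∈ R χ, ∀ α' ∈ R ψ, Cfsg.classInner α α' = 0 := by
    intro α hα α' hα'
    rw [classInner_conj_symm α' α, hperp α' hα' α hα, map_zero]
  have hdisj : Disjoint (R χ) (R ψ) := by
    rw [Finset.disjoint_left]
    intro α a b
    have := hperp α b α a
    rw [hS.orthonormal χ hχ α a α a, if_pos rfl] at this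
    exact one_ne_zero this
  have hβgen := isGen_tau_sub hS hdeg hχ hψ
  have horthB : ∀ α ∈ R χ ∪ R ψ, ∀ α' ∈ R χ ∪ R ψ,
      Cfsg.classInner α α' = if α = α' then 1 else 0 := by
    intro α hα α' hα'
    rcases Finset.mem_union.mp hα with a | a <;> rcases Finset.mem_union.mp hα' with b | b
    · exact hS.orthonormal χ hχ α a α' b
    · rw [hperp' α a α' b, if_neg]
      rintro rfl
      exact Finset.disjoint_left.mp hdisj a b
    · rw [hperp α a α' b, if_neg]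
      rintro rfl
      exact Finset.disjoint_left.mp hdisj b a
    · exact hS.orthonormal ψ hψ α a α' b
  obtain ⟨-, hγnorm⟩ := bessel_sub (R χ ∪ R ψ) horthB (τ (χ - ψ))
  have hgenB : ∀ α ∈ R χ ∪ R ψ, Cfsg.IsGeneralizedCharacter G α := by
    intro α hα
    rcases Finset.mem_union.mp hα with a | a
    · exact hS.virtual χ hχ α a
    · exact hS.virtual ψ hψ α a
  have hx : ∀ α : G → ℂ, ∃ n : ℤ, α ∈ R χ ∪ R ψ → Cfsg.classInner (τ (χ - ψ)) α = n := by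
    intro α
    by_cases hα : α ∈ R χ ∪ R ψ
    · obtain ⟨n, hn⟩ := Cfsg.Agent.Helper24.IsGeneralizedCharacter.classInner_int hβgen (hgenB α hα)
      exact ⟨n, fun _ => hn⟩
    · exact ⟨0, fun h => absurd h hα⟩
  choose x hx using hx
  have hγgen : Cfsg.IsGeneralizedCharacter G
      (τ (χ - ψ) - ∑ α' ∈ R χ ∪ R ψ, Cfsg.classInner (τ (χ - ψ)) α' • α') := by
    apply Cfsg.Agent.Helper24.IsGeneralizedCharacter.sub hβgen
    apply Cfsg.Agent.Helper24.isGeneralizedCharacter_sum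
    intro α hα
    rw [hx α hα]
    exact Cfsg.Agent.Helper24.IsGeneralizedCharacter.zsmul (hgenB α hα) (x α)
  obtain ⟨m, hm⟩ := Cfsg.Agent.Helper24.IsGeneralizedCharacter.classInner_int hγgen hγgen
  have hm0 : 0 ≤ m := int_nonneg_of_classInner_self hm
  have hββ : Cfsg.classInner (τ (χ - ψ)) (τ (χ - ψ)) = Cfsg.classInner χ χ + Cfsg.classInner ψ ψ := by
    rw [classInner_tau_sub hS hdeg hχ hψ hχ hψ, classInner_sub_left, classInner_sub_right,
      classInner_sub_right, o1, o1']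
    ring
  have hsumχ : ∑ α ∈ R χ, Cfsg.classInner (τ (χ - ψ)) α = Cfsg.classInner χ χ := by
    rw [sum_classInner_tau_R hS hdeg hχ hψ hχ, classInner_sub_left, classInner_sub_right,
      classInner_sub_right, o4, o1, o2]
    ring
  have hsumψ : ∑ α ∈ R ψ, Cfsg.classInner (τ (χ - ψ)) α = - Cfsg.classInner ψ ψ := by
    rw [sum_classInner_tau_R hS hdeg hχ hψ hψ, classInner_sub_left, classInner_sub_right,
      classInner_sub_right, o1', o3, o5]
    ring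
  have hX1 : ∑ α ∈ R χ, Cfsg.classInner (τ (χ - ψ)) α = ∑ α ∈ R χ, ((x α : ℤ) : ℂ) :=
    Finset.sum_congr rfl (fun α hα => hx α (Finset.mem_union_left _ hα))
  have hX2 : ∑ α ∈ R ψ, Cfsg.classInner (τ (χ - ψ)) α = ∑ α ∈ R ψ, ((x α : ℤ) : ℂ) :=
    Finset.sum_congr rfl (fun α hα => hx α (Finset.mem_union_right _ hα))
  have hX3 : ∑ α ∈ R χ ∪ R ψ, Cfsg.classInner (τ (χ - ψ)) α * conj (Cfsg.classInner (τ (χ - ψ)) α)
      = ∑ α ∈ R χ, ((x α : ℤ) : ℂ) * ((x α : ℤ) : ℂ) + ∑ α ∈ R ψ, ((x α : ℤ) : ℂ) * ((x α : ℤ) : ℂ) := by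
    rw [Finset.sum_union hdisj]
    congr 1
    · apply Finset.sum_congr rfl
      intro α hα
      rw [hx α (Finset.mem_union_left _ hα), map_intCast]
    · apply Finset.sum_congr rfl
      intro α hα
      rw [hx α (Finset.mem_union_right _ hα), map_intCast]
  have keyZ : m + ∑ α ∈ R χ, (x α * x α - x α) + ∑ α ∈ R ψ, (x α * x α + x α) = 0 := by
    have : ((m + ∑ α ∈ R χ, (x α * x α - x α) + ∑ α ∈ R ψ, (x α * x α + x α) : ℤ) : ℂ) = 0 := by
      push_cast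
      rw [Finset.sum_sub_distrib, Finset.sum_add_distrib, ← hm, hγnorm, hββ, hX3, ← hX1, ← hX2,
        hsumχ, hsumψ]
      ring
    exact_mod_cast this
  have s1 : 0 ≤ ∑ α ∈ R χ, (x α * x α - x α) := Finset.sum_nonneg (fun α _ => int_sq_sub_nonneg _)
  have s2 : 0 ≤ ∑ α ∈ R ψ, (x α * x α + x α) := Finset.sum_nonneg (fun α _ => int_sq_add_nonneg _)
  have hm0' : m = 0 := by linarith
  have hs1 : ∑ α ∈ R χ, (x α * x α - x α) = 0 := by linarith
  have hγ0 : τ (χ - ψ) - ∑ α' ∈ R χ ∪ R ψ, Cfsg.classInner (τ (χ - ψ)) α' • α' = 0 := by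
    apply eq_zero_of_classInner_self_eq_zero
    rw [hm, hm0', Int.cast_zero]
  refine ⟨?_, ?_⟩
  · intro α hα
    have := (Finset.sum_eq_zero_iff_of_nonneg (fun α _ => int_sq_sub_nonneg (x α))).mp hs1 α hα
    rw [hx α (Finset.mem_union_left _ hα)]
    rcases int_eq_zero_or_one_of_sq (x α) this with e | e
    · left; rw [e, Int.cast_zero]
    · right; rw [e, Int.cast_one]
  · rw [← Finset.sum_union hdisj]
    exact sub_eq_zero.mp hγ0

end System

end Cfsg.Agent.Helper8
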