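import Mathlib
import Cfsg.Prelude.Def_Characters
import Cfsg.Prelude.Def_OddOrderChar
import Cfsg.Agent.Helper8.Subcoherent
import Cfsg.Agent.Helper24.Expansion

/-!
A coherence system all of whose members have the same degree is coherent.
-/

set_option autoImplicit false

namespace Cfsg.Agent.Helper8

open scoped ComplexConjugate

theorem isCharacter_eq_zero_of_apply_one {G : Type*} [Group G] {χ : G → ℂ}
    (h : Cfsg.IsCharacter G χ) (h1 : χ 1 = 0) : χ = 0 := by
  obtain ⟨n, ρ, rfl⟩ := h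
  rw [Representation.char_one] at h1
  have hn : n = 0 := by
    have : ((n : ℕ) : ℂ) = 0 := by simpa using h1
    exact_mod_cast this
  subst hn
  funext g
  unfold Representation.character
  have : ρ g = 0 := Subsingleton.elim _ _
  rw [this, map_zero]
  rfl

variable {L G : Type*} [Group L] [Fintype L] [Group G] [Fintype G]

/-- an orthogonal family of nonzero class functions is finite -/
theorem finite_of_orthogonal {S : Set (L → ℂ)}
    (horth : ∀ χ ∈ S, ∀ ψ ∈ S, χ ≠ ψ → Cfsg.classInner χ ψ = 0)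
    (hne : ∀ χ ∈ S, Cfsg.classInner χ χ ≠ 0) : S.Finite := by
  classical
  have hli : LinearIndependent ℂ (fun x : S => (x : L → ℂ)) := by
    rw [linearIndependent_iff']
    intro s c hc χ hχ
    have h1 := congrArg (fun f => Cfsg.classInner f (χ : L → ℂ)) hc
    simp only [Cfsg.Agent.Helper23.classInner_zero_left] at h1
    rw [Cfsg.Agent.Helper23.classInner_sum_left] at h1
    have h2 : ∀ i ∈ s, Cfsg.classInner (c i • (i : L → ℂ)) (χ : L → ℂ)
        = if i = χ then c i * Cfsg.classInner (χ : L → ℂ) (χ : L → ℂ) else 0 := by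
      intro i _
      rw [Cfsg.Agent.Helper23.classInner_smul_left]
      by_cases h : i = χ
      · rw [if_pos h, h]
      · rw [if_neg h, horth i i.2 χ χ.2 (fun h' => h (Subtype.ext h')), mul_zero]
    rw [Finset.sum_congr rfl h2, Finset.sum_ite_eq' s χ, if_pos hχ] at h1
    rcases mul_eq_zero.mp h1 with e | e
    · exact e
    · exact absurd e (hne χ χ.2)
  exact hli.set_finite_of_isNoetherian

section Main

variable {S : Set (L → ℂ)} {τ : (L → ℂ) → (G → ℂ)} {R : (L → ℂ) → Finset (G → ℂ)}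

omit [Fintype L] in
/-- functions in `ℤ[S, L ∖ 1]` are integer combinations of the differences `χ - χ₀` -/
theorem mem_span_sub_of_mem_zspanOn (hdeg : ∀ φ ∈ S, ∀ ψ ∈ S, φ 1 = ψ 1) {χ₀ : L → ℂ}
    (hχ₀ : χ₀ ∈ S) (hd : χ₀ 1 ≠ 0) {f : L → ℂ} (hf : f ∈ Cfsg.zspanOn S {1}ᶜ) :
    f ∈ Submodule.span ℤ {g : L → ℂ | ∃ χ ∈ S, g = χ - χ₀} := by
  rw [mem_zspanOn_compl_one] at hf
  obtain ⟨hf1, hf2⟩ := hf
  have h1 : ∀ g ∈ Submodule.span ℤ {g : L → ℂ | ∃ χ ∈ S, g = χ - χ₀}, g 1 = 0 := by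
    intro g hg
    induction hg using Submodule.span_induction with
    | mem x hx =>
      obtain ⟨χ, hχ, rfl⟩ := hx
      rw [Pi.sub_apply, hdeg χ hχ χ₀ hχ₀, sub_self]
    | zero => rfl
    | add x y _ _ hx hy => rw [Pi.add_apply, hx, hy, add_zero]
    | smul n x _ hx => rw [Pi.smul_apply, hx, smul_zero]
  have h2 : ∀ f' ∈ Submodule.span ℤ S,
      ∃ m : ℤ, f' - m • χ₀ ∈ Submodule.span ℤ {g : L → ℂ | ∃ χ ∈ S, g = χ - χ₀} := by
    intro f' hf'
    induction hf' using Submodule.span_induction with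
    | mem x hx =>
      refine ⟨1, ?_⟩
      rw [one_smul]
      exact Submodule.subset_span ⟨x, hx, rfl⟩
    | zero =>
      refine ⟨0, ?_⟩
      rw [zero_smul, sub_zero]
      exact Submodule.zero_mem _
    | add x y _ _ hx hy =>
      obtain ⟨m₁, h₁⟩ := hx
      obtain ⟨m₂, h₂⟩ := hy
      refine ⟨m₁ + m₂, ?_⟩
      have : x + y - (m₁ + m₂) • χ₀ = (x - m₁ • χ₀) + (y - m₂ • χ₀) := by
        rw [add_smul]; abel
      rw [this]
      exact Submodule.add_mem _ h₁ h₂
    | smul n x _ hx =>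
      obtain ⟨m, hm⟩ := hx
      refine ⟨n * m, ?_⟩
      have : n • x - (n * m) • χ₀ = n • (x - m • χ₀) := by
        rw [smul_sub, mul_smul]
      rw [this]
      exact Submodule.smul_mem _ n hm
  obtain ⟨m, hm⟩ := h2 f hf1
  have h3 := h1 _ hm
  rw [Pi.sub_apply, hf2, zero_sub, neg_eq_zero, Pi.smul_apply, zsmul_eq_mul] at h3
  have hm0 : m = 0 := by
    rcases mul_eq_zero.mp h3 with e | e
    · exact_mod_cast e
    · exact absurd e hd
  rw [hm0, zero_smul, sub_zero] at hm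
  exact hm

/-- **Coherence when all degrees coincide.** -/
theorem uniform_degree_coherent (hS : Cfsg.IsCoherenceSystem S τ R)
    (hdeg : ∀ φ ∈ S, ∀ ψ ∈ S, φ 1 = ψ 1) : Cfsg.IsCoherent S {1}ᶜ τ := by
  classical
  have hfI : Fintype (Cfsg.IrrCharacter L) :=
    @Fintype.ofFinite _ (Cfsg.Agent.Helper23.finite_irrCharacter L)
  obtain ⟨χ₀, hχ₀⟩ := hS.nonempty
  have hχ₀c := hS.conj_mem χ₀ hχ₀
  have hd : χ₀ 1 ≠ 0 := fun h =>
    cs_ne_zero hS hχ₀ (isCharacter_eq_zero_of_apply_one (hS.isCharacter χ₀ hχ₀) h)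
  have horthS : ∀ χ ∈ S, ∀ ψ ∈ S, χ ≠ ψ → Cfsg.classInner χ ψ = 0 := hS.orthogonal
  have hneS : ∀ χ ∈ S, Cfsg.classInner χ χ ≠ 0 := fun χ hχ => cs_norm_ne_zero hS hχ
  have hfin : S.Finite := finite_of_orthogonal horthS hneS
  refine ⟨⟨χ₀ - Cfsg.conjFun χ₀, sub_mem_zspanOn hdeg hχ₀ hχ₀c, ?_⟩, ?_⟩
  · intro h
    exact hS.conj_ne χ₀ hχ₀ (sub_eq_zero.mp h).symm
  -- the set `A`
  obtain ⟨A, hAsub, hAG⟩ : ∃ A : Finset (G → ℂ), A ⊆ R χ₀ ∧
      ∀ χ ∈ S, ∑ α ∈ A, Cfsg.classInner (τ (χ₀ - χ)) α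
        = Cfsg.classInner χ₀ χ₀ - Cfsg.classInner χ χ₀ := by
    -- components of `τ (χ₀ - conj χ₀)`
    have hconj : ∀ α ∈ R χ₀, Cfsg.classInner (τ (χ₀ - Cfsg.conjFun χ₀)) α = 1 := by
      intro α hα
      rw [hS.sum_eq χ₀ hχ₀, Cfsg.Agent.Helper23.classInner_sum_left, Finset.sum_eq_single α]
      · rw [hS.orthonormal χ₀ hχ₀ α hα α hα, if_pos rfl]
      · intro α' hα' hne
        rw [hS.orthonormal χ₀ hχ₀ α' hα' α hα, if_neg hne]
      · intro h; exact absurd hα h
    by_cases hB : ∃ ψ₀ ∈ S, ψ₀ ≠ χ₀ ∧ ψ₀ ≠ Cfsg.conjFun χ₀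
    · obtain ⟨ψ₀, hψ₀, hψ₀1, hψ₀2⟩ := hB
      obtain ⟨h01, -⟩ := tau_sub_split hS hdeg hχ₀ hψ₀ hψ₀1 hψ₀2
      have hcardA : ((Finset.filter (fun α => Cfsg.classInner (τ (χ₀ - ψ₀)) α = 1) (R χ₀)).card : ℂ)
          = Cfsg.classInner χ₀ χ₀ := by
        have h1 : ∑ α ∈ R χ₀, Cfsg.classInner (τ (χ₀ - ψ₀)) α
            = ∑ α ∈ R χ₀, if Cfsg.classInner (τ (χ₀ - ψ₀)) α = 1 then (1 : ℂ) else 0 := by
          apply Finset.sum_congr rfl
          intro α hα
          rcases h01 α hα with e | e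
          · rw [e, if_neg zero_ne_one]
          · rw [e, if_pos rfl]
        rw [sum_classInner_tau_R hS hdeg hχ₀ hψ₀ hχ₀, Finset.sum_ite, Finset.sum_const_zero,
          add_zero, Finset.sum_const, nsmul_eq_mul, mul_one] at h1
        rw [← h1, classInner_sub_left, classInner_sub_right, classInner_sub_right,
          cs_classInner_conj hS hχ₀, hS.orthogonal ψ₀ hψ₀ χ₀ hχ₀ hψ₀1,
          hS.orthogonal ψ₀ hψ₀ _ hχ₀c hψ₀2]
        ring
      refine ⟨Finset.filter (fun α => Cfsg.classInner (τ (χ₀ - ψ₀)) α = 1) (R χ₀),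
        Finset.filter_subset _ _, ?_⟩
      intro χ hχ
      by_cases e1 : χ = χ₀
      · rw [e1, tau_sub_self hS hdeg hχ₀, sub_self]
        apply Finset.sum_eq_zero
        intro α _
        exact Cfsg.Agent.Helper23.classInner_zero_left α
      by_cases e2 : χ = Cfsg.conjFun χ₀
      · rw [e2, cs_classInner_conj' hS hχ₀, sub_zero, ← hcardA, Finset.card_eq_sum_ones,
          Nat.cast_sum]
        apply Finset.sum_congr rfl
        intro α hα
        rw [hconj α (Finset.mem_of_mem_filter α hα), Nat.cast_one]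
      · -- independence of `χ`
        have hindep : ∀ α ∈ R χ₀, Cfsg.classInner (τ (χ₀ - χ)) α
            = Cfsg.classInner (τ (χ₀ - ψ₀)) α := by
          intro α hα
          have hadd := tau_sub_add hS hdeg hχ₀ hψ₀ hχ
          rw [← hadd, Cfsg.Agent.Helper23.classInner_add_left]
          have hz : Cfsg.classInner (τ (ψ₀ - χ)) α = 0 := by
            have oχ : Cfsg.classInner χ χ₀ = 0 := hS.orthogonal χ hχ χ₀ hχ₀ e1
            have oχ' : Cfsg.classInner χ (Cfsg.conjFun χ₀) = 0 := hS.orthogonal χ hχ _ hχ₀c e2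
            have oψ : Cfsg.classInner ψ₀ χ₀ = 0 := hS.orthogonal ψ₀ hψ₀ χ₀ hχ₀ hψ₀1
            have oψ' : Cfsg.classInner ψ₀ (Cfsg.conjFun χ₀) = 0 :=
              hS.orthogonal ψ₀ hψ₀ _ hχ₀c hψ₀2
            have pχ : ∀ α' ∈ R χ, Cfsg.classInner α' α = 0 :=
              fun α' hα' => hS.disjoint χ₀ hχ₀ χ hχ oχ oχ' α' hα' α hα
            have pψ : ∀ α' ∈ R ψ₀, Cfsg.classInner α' α = 0 :=
              fun α' hα' => hS.disjoint χ₀ hχ₀ ψ₀ hψ₀ oψ oψ' α' hα' α hα
            by_cases e3 : χ = ψ₀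
            · rw [e3, tau_sub_self hS hdeg hψ₀, Cfsg.Agent.Helper23.classInner_zero_left]
            by_cases e4 : χ = Cfsg.conjFun ψ₀
            · rw [e4, hS.sum_eq ψ₀ hψ₀, Cfsg.Agent.Helper23.classInner_sum_left]
              exact Finset.sum_eq_zero (fun α' hα' => pψ α' hα')
            · obtain ⟨-, hsplit⟩ := tau_sub_split hS hdeg hψ₀ hχ e3 e4
              rw [hsplit, Cfsg.Agent.Helper23.classInner_add_left,
                Cfsg.Agent.Helper23.classInner_sum_left, Cfsg.Agent.Helper23.classInner_sum_left]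
              rw [Finset.sum_eq_zero, Finset.sum_eq_zero, add_zero]
              · intro α' hα'
                rw [Cfsg.Agent.Helper23.classInner_smul_left, pχ α' hα', mul_zero]
              · intro α' hα'
                rw [Cfsg.Agent.Helper23.classInner_smul_left, pψ α' hα', mul_zero]
          rw [hz, add_zero]
        rw [hS.orthogonal χ hχ χ₀ hχ₀ e1, sub_zero, ← hcardA, Finset.card_eq_sum_ones,
          Nat.cast_sum]
        apply Finset.sum_congr rfl
        intro α hα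
        rw [hindep α (Finset.mem_of_mem_filter α hα), (Finset.mem_filter.mp hα).2, Nat.cast_one]
    · -- only one pair
      push Not at hB
      obtain ⟨m, hm⟩ := Cfsg.Agent.Helper24.IsCharacter.classInner_nat
        (hS.isCharacter χ₀ hχ₀) (hS.isCharacter χ₀ hχ₀)
      have hcardR : (R χ₀).card = 2 * m := by
        have h1 : ((R χ₀).card : ℂ) = 2 * (m : ℂ) := by
          rw [← hm]
          have h2 := sum_classInner_tau_R hS hdeg hχ₀ hχ₀c hχ₀
          rw [Finset.sum_congr rfl hconj, Finset.sum_const, nsmul_eq_mul, mul_one,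
            classInner_sub_left, classInner_sub_right, classInner_sub_right,
            cs_classInner_conj hS hχ₀, cs_classInner_conj' hS hχ₀,
            classInner_conjFun_conjFun, classInner_self_conj] at h2
          rw [h2]; ring
        exact_mod_cast h1
      obtain ⟨A, hAsub, hAcard⟩ := Finset.exists_subset_card_eq (s := R χ₀) (n := m) (by omega)
      refine ⟨A, hAsub, ?_⟩
      intro χ hχ
      by_cases e1 : χ = χ₀
      · rw [e1, tau_sub_self hS hdeg hχ₀, sub_self]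
        apply Finset.sum_eq_zero
        intro α _
        exact Cfsg.Agent.Helper23.classInner_zero_left α
      · have e2 : χ = Cfsg.conjFun χ₀ := hB χ hχ e1
        rw [e2, cs_classInner_conj' hS hχ₀, sub_zero, hm, ← hAcard, Finset.card_eq_sum_ones,
          Nat.cast_sum]
        apply Finset.sum_congr rfl
        intro α hα
        rw [hconj α (hAsub hα), Nat.cast_one]
  -- the extension
  have hAA : Cfsg.classInner (∑ α ∈ A, α) (∑ α ∈ A, α) = Cfsg.classInner χ₀ χ₀ := by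
    have h1 := hAG (Cfsg.conjFun χ₀) hχ₀c
    rw [cs_classInner_conj' hS hχ₀, sub_zero] at h1
    rw [← h1, Cfsg.Agent.Helper23.classInner_sum_left]
    apply Finset.sum_congr rfl
    intro α hα
    rw [hS.sum_eq χ₀ hχ₀, Cfsg.Agent.Helper23.classInner_sum_left, classInner_sum_right]
    rw [Finset.sum_eq_single α, Finset.sum_eq_single α]
    · intro α' hα' hne
      rw [hS.orthonormal χ₀ hχ₀ α' hα' α (hAsub hα), if_neg hne]
    · intro h; exact absurd (hAsub hα) h
    · intro α' hα' hne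
      rw [hS.orthonormal χ₀ hχ₀ α (hAsub hα) α' (hAsub hα'), if_neg (Ne.symm hne)]
    · intro h; exact absurd hα h
  have hAτ : ∀ χ ∈ S, Cfsg.classInner (τ (χ₀ - χ)) (∑ α ∈ A, α)
      = Cfsg.classInner χ₀ χ₀ - Cfsg.classInner χ χ₀ := by
    intro χ hχ
    rw [classInner_sum_right]
    exact hAG χ hχ
  set v : (L → ℂ) → (G → ℂ) := fun χ => (∑ α ∈ A, α) - τ (χ₀ - χ) with hv
  have hvsub : ∀ χ ∈ S, ∀ ψ ∈ S, v χ - v ψ = τ (χ - ψ) := by
    intro χ hχ ψ hψ
    have h1 := tau_sub_add hS hdeg hχ₀ hχ hψ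
    simp only [hv]
    rw [← h1]
    abel
  have hvgen : ∀ χ ∈ S, Cfsg.IsGeneralizedCharacter G (v χ) := by
    intro χ hχ
    apply Cfsg.Agent.Helper24.IsGeneralizedCharacter.sub
    · apply Cfsg.Agent.Helper24.isGeneralizedCharacter_sum
      intro α hα
      exact hS.virtual χ₀ hχ₀ α (hAsub hα)
    · exact isGen_tau_sub hS hdeg hχ₀ hχ
  have hvinner : ∀ χ ∈ S, ∀ ψ ∈ S, Cfsg.classInner (v χ) (v ψ) = Cfsg.classInner χ ψ := by
    intro χ hχ ψ hψ
    simp only [hv]
    rw [classInner_sub_left, classInner_sub_right, classInner_sub_right, hAA, hAτ χ hχ,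
      classInner_conj_symm (τ (χ₀ - ψ)) (∑ α ∈ A, α), hAτ ψ hψ,
      classInner_tau_sub hS hdeg hχ₀ hχ hχ₀ hψ, classInner_sub_left, classInner_sub_right,
      classInner_sub_right, map_sub, classInner_self_conj, ← classInner_conj_symm ψ χ₀]
    ring
  have hcoe : (↑hfin.toFinset : Set (L → ℂ)) = S := hfin.coe_toFinset
  have hiso := isLinearIsometryOn_orthExt (T := hfin.toFinset)
    (fun χ hχ ψ hψ => horthS χ (hfin.mem_toFinset.mp hχ) ψ (hfin.mem_toFinset.mp hψ))
    (fun χ hχ => hneS χ (hfin.mem_toFinset.mp hχ)) v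
    (fun χ hχ ψ hψ => hvinner χ (hfin.mem_toFinset.mp hχ) ψ (hfin.mem_toFinset.mp hψ))
    (fun χ hχ => hvgen χ (hfin.mem_toFinset.mp hχ))
  rw [hcoe] at hiso
  refine ⟨orthExt hfin.toFinset v, hiso, ?_⟩
  -- agreement with `τ`
  have hval : ∀ χ ∈ S, orthExt hfin.toFinset v χ = v χ := fun χ hχ =>
    orthExt_of_mem
      (fun χ hχ ψ hψ => horthS χ (hfin.mem_toFinset.mp hχ) ψ (hfin.mem_toFinset.mp hψ))
      (fun χ hχ => hneS χ (hfin.mem_toFinset.mp hχ)) v (hfin.mem_toFinset.mpr hχ)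
  intro f hf
  have hmem := mem_span_sub_of_mem_zspanOn hdeg hχ₀ hd hf
  have key : ∀ g ∈ Submodule.span ℤ {g : L → ℂ | ∃ χ ∈ S, g = χ - χ₀},
      g ∈ Cfsg.zspanOn S {1}ᶜ ∧ orthExt hfin.toFinset v g = τ g := by
    intro g hg
    induction hg using Submodule.span_induction with
    | mem x hx =>
      obtain ⟨χ, hχ, rfl⟩ := hx
      refine ⟨sub_mem_zspanOn hdeg hχ hχ₀, ?_⟩
      have hsub : χ - χ₀ = χ + (-1 : ℤ) • χ₀ := by rw [neg_smul, one_smul, sub_eq_add_neg]
      rw [hsub, orthExt_add, orthExt_zsmul, hval χ hχ, hval χ₀ hχ₀, ← hsub,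
        ← hvsub χ hχ χ₀ hχ₀, neg_smul, one_smul, sub_eq_add_neg]
    | zero =>
      have h0 : (0 : L → ℂ) ∈ Cfsg.zspanOn S {1}ᶜ := by
        rw [mem_zspanOn_compl_one]
        exact ⟨zspan_zero_mem S, rfl⟩
      refine ⟨h0, ?_⟩
      have h1 := orthExt_zsmul hfin.toFinset v 0 0
      have h2 := hS.isometry.2.1 0 h0 0
      rw [zero_smul, zero_smul] at h1 h2
      rw [h1, h2]
    | add x y _ _ hx hy =>
      have hmemxy : x + y ∈ Cfsg.zspanOn S {1}ᶜ := by
        rw [mem_zspanOn_compl_one]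
        refine ⟨zspan_add_mem (mem_zspanOn_compl_one.mp hx.1).1 (mem_zspanOn_compl_one.mp hy.1).1, ?_⟩
        rw [Pi.add_apply, (mem_zspanOn_compl_one.mp hx.1).2, (mem_zspanOn_compl_one.mp hy.1).2,
          add_zero]
      refine ⟨hmemxy, ?_⟩
      rw [orthExt_add, hx.2, hy.2, hS.isometry.1 x hx.1 y hy.1]
    | smul n x _ hx =>
      have hmemx : n • x ∈ Cfsg.zspanOn S {1}ᶜ := by
        rw [mem_zspanOn_compl_one]
        refine ⟨zspan_zsmul_mem n (mem_zspanOn_compl_one.mp hx.1).1, ?_⟩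
        rw [Pi.smul_apply, (mem_zspanOn_compl_one.mp hx.1).2, smul_zero]
      refine ⟨hmemx, ?_⟩
      rw [orthExt_zsmul, hx.2, hS.isometry.2.1 x hx.1 n]
  exact (key f hmem).2

end Main

end Cfsg.Agent.Helper8
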