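import Mathlib
import Cfsg.Prelude.Def_Characters
import Cfsg.Prelude.Def_OddOrderChar
import Cfsg.Agent.Helper8.Subcoherent
import Cfsg.Agent.Helper8.BesselOrth
import Cfsg.Agent.Helper8.UniformDegree
import Cfsg.Agent.Helper24.Expansion

/-!
Extending a coherent subset of a coherence system by one more pair of conjugate characters.
-/

set_option autoImplicit false

namespace Cfsg.Agent.Helper8

open scoped ComplexConjugate

/-- the arithmetic heart of the extension criterion -/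
theorem coherence_arith {ι : Type*} [DecidableEq ι] (s : Finset ι) (i₁ : ι) (hi₁ : i₁ ∈ s)
    (dd nn : ι → ℕ) (hdd : dd i₁ ≠ 0) (hnn : nn i₁ ≠ 0) (y : ι → ℤ) (a : ℕ) (c : ℤ)
    (hc : y i₁ = c - a * nn i₁)
    (hy : ∀ i ∈ s, i ≠ i₁ → (dd i₁ : ℤ) * y i = dd i * c)
    (hineq : (2 * ((dd i₁ * a : ℕ) : ℝ) * dd i₁ : ℝ) < ∑ i ∈ s, ((dd i : ℝ) ^ 2 / nn i))
    (P : ℝ) (hP : 0 ≤ P) (r : ℝ) (hr : 0 ≤ r)
    (hmain : r = (a : ℝ) ^ 2 * nn i₁ - P - ∑ i ∈ s, ((y i : ℝ)) ^ 2 / nn i) :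
    c = 0 ∧ r = 0 ∧ P = 0 := by
  have hd₁ : (0 : ℝ) < dd i₁ := by exact_mod_cast Nat.pos_of_ne_zero hdd
  have hn₁ : (0 : ℝ) < nn i₁ := by exact_mod_cast Nat.pos_of_ne_zero hnn
  set Sig0 : ℝ := ∑ i ∈ s, ((dd i : ℝ) ^ 2 / nn i) with hSig0
  have hyreal : ∀ i ∈ s.erase i₁, ((y i : ℝ)) ^ 2 / nn i
      = ((c : ℝ) / dd i₁) ^ 2 * ((dd i : ℝ) ^ 2 / nn i) := by
    intro i hi
    obtain ⟨hne, his⟩ := Finset.mem_erase.mp hi
    have h1 := hy i his hne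
    have h2 : (dd i₁ : ℝ) * (y i : ℝ) = (dd i : ℝ) * (c : ℝ) := by exact_mod_cast h1
    have h3 : (y i : ℝ) = (c : ℝ) / dd i₁ * dd i := by
      field_simp
      linarith
    rw [h3]
    ring
  have hsplit1 : ∑ i ∈ s, ((y i : ℝ)) ^ 2 / nn i
      = ((y i₁ : ℝ)) ^ 2 / nn i₁ + ∑ i ∈ s.erase i₁, ((y i : ℝ)) ^ 2 / nn i :=
    (Finset.add_sum_erase s (fun i => ((y i : ℝ)) ^ 2 / nn i) hi₁).symm
  have hsplit2 : Sig0 = (dd i₁ : ℝ) ^ 2 / nn i₁ + ∑ i ∈ s.erase i₁, ((dd i : ℝ) ^ 2 / nn i) :=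
    (Finset.add_sum_erase s (fun i => ((dd i : ℝ) ^ 2 / nn i)) hi₁).symm
  have hT : ∑ i ∈ s, ((y i : ℝ)) ^ 2 / nn i
      = (c : ℝ) ^ 2 * Sig0 / (dd i₁ : ℝ) ^ 2 - 2 * a * c + (a : ℝ) ^ 2 * nn i₁ := by
    rw [hsplit1, Finset.sum_congr rfl hyreal, ← Finset.mul_sum]
    have : ∑ i ∈ s.erase i₁, ((dd i : ℝ) ^ 2 / nn i) = Sig0 - (dd i₁ : ℝ) ^ 2 / nn i₁ := by
      rw [hsplit2]; ring
    rw [this, hc]
    push_cast
    field_simp
    ring
  rw [hT] at hmain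
  have hkey : (c : ℝ) ^ 2 * Sig0 / (dd i₁ : ℝ) ^ 2 - 2 * a * c = -P - r := by linarith
  have hq : 2 * (a : ℝ) < Sig0 / (dd i₁ : ℝ) ^ 2 := by
    rw [lt_div_iff₀ (by positivity)]
    have : (2 * ((dd i₁ * a : ℕ) : ℝ) * dd i₁ : ℝ) = 2 * a * (dd i₁ : ℝ) ^ 2 := by
      push_cast; ring
    rw [this] at hineq
    exact hineq
  have hc0 : c = 0 := by
    by_contra hne
    have hc2 : (0 : ℝ) < (c : ℝ) ^ 2 := by positivity
    have hcc : (c : ℝ) ≤ (c : ℝ) ^ 2 := by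
      have : c ≤ c ^ 2 := by
        rcases le_or_gt c 0 with h | h
        · nlinarith
        · nlinarith
      exact_mod_cast this
    have h1 : (c : ℝ) ^ 2 * Sig0 / (dd i₁ : ℝ) ^ 2 = (c : ℝ) ^ 2 * (Sig0 / (dd i₁ : ℝ) ^ 2) := by ring
    have h2 : (c : ℝ) ^ 2 * (2 * (a : ℝ)) < (c : ℝ) ^ 2 * (Sig0 / (dd i₁ : ℝ) ^ 2) :=
      mul_lt_mul_of_pos_left hq hc2
    have h3 : 2 * (a : ℝ) * c ≤ (c : ℝ) ^ 2 * (2 * (a : ℝ)) := by
      have ha0 : (0 : ℝ) ≤ a := Nat.cast_nonneg a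
      nlinarith
    linarith
  refine ⟨hc0, ?_, ?_⟩
  · rw [hc0] at hkey
    simp at hkey
    linarith
  · rw [hc0] at hkey
    simp at hkey
    linarith

variable {L G : Type*} [Group L] [Fintype L] [Group G] [Fintype G]

/-- A generalized character whose squared norm equals the sum of its components along an
orthonormal family of generalized characters lies in the span of the family. -/
theorem eq_sum_of_norm_eq_sum (B : Finset (G → ℂ))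
    (horth : ∀ α ∈ B, ∀ α' ∈ B, Cfsg.classInner α α' = if α = α' then 1 else 0)
    (hgenB : ∀ α ∈ B, Cfsg.IsGeneralizedCharacter G α) {β : G → ℂ}
    (hβ : Cfsg.IsGeneralizedCharacter G β)
    (hnorm : Cfsg.classInner β β = ∑ α ∈ B, Cfsg.classInner β α) :
    β = ∑ α ∈ B, Cfsg.classInner β α • α := by
  classical
  have hfI : Fintype (Cfsg.IrrCharacter G) :=
    @Fintype.ofFinite _ (Cfsg.Agent.Helper23.finite_irrCharacter G)
  obtain ⟨-, hγnorm⟩ := bessel_sub B horth β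
  have hx : ∀ α : G → ℂ, ∃ n : ℤ, α ∈ B → Cfsg.classInner β α = n := by
    intro α
    by_cases hα : α ∈ B
    · obtain ⟨n, hn⟩ := Cfsg.Agent.Helper24.IsGeneralizedCharacter.classInner_int hβ (hgenB α hα)
      exact ⟨n, fun _ => hn⟩
    · exact ⟨0, fun h => absurd h hα⟩
  choose x hx using hx
  have hγgen : Cfsg.IsGeneralizedCharacter G (β - ∑ α' ∈ B, Cfsg.classInner β α' • α') := by
    apply Cfsg.Agent.Helper24.IsGeneralizedCharacter.sub hβ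
    apply Cfsg.Agent.Helper24.isGeneralizedCharacter_sum
    intro α hα
    rw [hx α hα]
    exact Cfsg.Agent.Helper24.IsGeneralizedCharacter.zsmul (hgenB α hα) (x α)
  obtain ⟨m, hm⟩ := Cfsg.Agent.Helper24.IsGeneralizedCharacter.classInner_int hγgen hγgen
  have hm0 : 0 ≤ m := int_nonneg_of_classInner_self hm
  have keyZ : m + ∑ α ∈ B, (x α * x α - x α) = 0 := by
    have : ((m + ∑ α ∈ B, (x α * x α - x α) : ℤ) : ℂ) = 0 := by
      push_cast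
      rw [Finset.sum_sub_distrib, ← hm, hγnorm, hnorm]
      have h1 : ∑ α ∈ B, Cfsg.classInner β α = ∑ α ∈ B, ((x α : ℤ) : ℂ) :=
        Finset.sum_congr rfl (fun α hα => hx α hα)
      have h2 : ∑ α ∈ B, Cfsg.classInner β α * conj (Cfsg.classInner β α)
          = ∑ α ∈ B, ((x α : ℤ) : ℂ) * ((x α : ℤ) : ℂ) := by
        apply Finset.sum_congr rfl
        intro α hα
        rw [hx α hα, map_intCast]
      rw [h1, h2]
      ring
    exact_mod_cast this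
  have s1 : 0 ≤ ∑ α ∈ B, (x α * x α - x α) := Finset.sum_nonneg (fun α _ => int_sq_sub_nonneg _)
  have hm0' : m = 0 := by linarith
  have hγ0 : β - ∑ α' ∈ B, Cfsg.classInner β α' • α' = 0 := by
    apply eq_zero_of_classInner_self_eq_zero
    rw [hm, hm0', Int.cast_zero]
  exact sub_eq_zero.mp hγ0

/-- the data of a coherent subset inside a coherence system -/
structure CohData (S : Set (L → ℂ)) (τ : (L → ℂ) → (G → ℂ)) (R : (L → ℂ) → Finset (G → ℂ))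
    (d : (L → ℂ) → ℕ) (S₁ : Finset (L → ℂ)) (τ₁ : (L → ℂ) → (G → ℂ)) : Prop where
  sys : Cfsg.IsCoherenceSystem S τ R
  deg : ∀ φ ∈ S, φ 1 = (d φ : ℂ)
  sub : (↑S₁ : Set (L → ℂ)) ⊆ S
  conj_mem : ∀ φ ∈ S₁, Cfsg.conjFun φ ∈ S₁
  iso : Cfsg.IsLinearIsometryOn (Cfsg.zspan (↑S₁ : Set (L → ℂ))) τ₁
  agree : ∀ α ∈ Cfsg.zspanOn (↑S₁ : Set (L → ℂ)) {1}ᶜ, τ₁ α = τ α

section Data

variable {S : Set (L → ℂ)} {τ : (L → ℂ) → (G → ℂ)} {R : (L → ℂ) → Finset (G → ℂ)}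
  {d : (L → ℂ) → ℕ} {S₁ : Finset (L → ℂ)} {τ₁ : (L → ℂ) → (G → ℂ)}

omit [Fintype L] [Group L] in
theorem conjFun_apply_one_of_nat {φ : L → ℂ} {k : ℕ} [One L] (h : φ 1 = (k : ℂ)) :
    Cfsg.conjFun φ 1 = (k : ℂ) := by
  unfold Cfsg.conjFun
  rw [h, Complex.conj_natCast]

theorem CohData.mem_zspan (D : CohData S τ R d S₁ τ₁) {φ : L → ℂ} (hφ : φ ∈ S₁) :
    φ ∈ Cfsg.zspan (↑S₁ : Set (L → ℂ)) := mem_zspan_of_mem (Finset.mem_coe.mpr hφ)

theorem CohData.sub_conj_mem (D : CohData S τ R d S₁ τ₁) {φ : L → ℂ} (hφ : φ ∈ S₁) :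
    φ - Cfsg.conjFun φ ∈ Cfsg.zspanOn (↑S₁ : Set (L → ℂ)) {1}ᶜ := by
  rw [mem_zspanOn_compl_one]
  refine ⟨zspan_sub_mem (D.mem_zspan hφ) (D.mem_zspan (D.conj_mem φ hφ)), ?_⟩
  have h1 := D.deg φ (D.sub hφ)
  rw [Pi.sub_apply, conjFun_apply_one_of_nat h1, h1, sub_self]

/-- the image of a member of `S₁` lies in the span of `R φ` -/
theorem CohData.tau1_eq_sum_R (D : CohData S τ R d S₁ τ₁) {φ : L → ℂ} (hφ : φ ∈ S₁) :
    τ₁ φ = ∑ α ∈ R φ, Cfsg.classInner (τ₁ φ) α • α := by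
  have hφS := D.sub hφ
  apply eq_sum_of_norm_eq_sum (R φ) (D.sys.orthonormal φ hφS) (D.sys.virtual φ hφS)
    (D.iso.2.2.2 φ (D.mem_zspan hφ))
  rw [← classInner_sum_right, ← D.sys.sum_eq φ hφS, ← D.agree _ (D.sub_conj_mem hφ),
    D.iso.2.2.1 φ (D.mem_zspan hφ) _
      (zspan_sub_mem (D.mem_zspan hφ) (D.mem_zspan (D.conj_mem φ hφ))),
    D.iso.2.2.1 φ (D.mem_zspan hφ) φ (D.mem_zspan hφ), classInner_sub_right,
    cs_classInner_conj D.sys hφS, sub_zero]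

/-- members of `R χ` are orthogonal to the images of members of `S₁` when `χ, conj χ ∉ S₁` -/
theorem CohData.classInner_R_tau1 (D : CohData S τ R d S₁ τ₁) {χ : L → ℂ} (hχ : χ ∈ S)
    (hχ₁ : χ ∉ S₁) (hχ₂ : Cfsg.conjFun χ ∉ S₁) {φ : L → ℂ} (hφ : φ ∈ S₁) {α : G → ℂ}
    (hα : α ∈ R χ) : Cfsg.classInner α (τ₁ φ) = 0 := by
  have hφS := D.sub hφ
  have e1 : φ ≠ χ := fun e => hχ₁ (e ▸ hφ)
  have e2 : φ ≠ Cfsg.conjFun χ := fun e => hχ₂ (e ▸ hφ)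
  have o1 : Cfsg.classInner φ χ = 0 := D.sys.orthogonal φ hφS χ hχ e1
  have o2 : Cfsg.classInner φ (Cfsg.conjFun χ) = 0 :=
    D.sys.orthogonal φ hφS _ (D.sys.conj_mem χ hχ) e2
  have hperp := D.sys.disjoint χ hχ φ hφS o1 o2
  rw [D.tau1_eq_sum_R hφ, classInner_sum_right]
  apply Finset.sum_eq_zero
  intro α' hα'
  rw [classInner_smul_right, classInner_conj_symm α' α, hperp α' hα' α hα, map_zero, mul_zero]

omit [Group L] [Fintype L] in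
theorem zsmul_eq_cast_smul {X : Type*} (k : ℤ) (f : X → ℂ) : k • f = (k : ℂ) • f :=
  (Int.cast_smul_eq_zsmul ℂ k f).symm

omit [Group L] [Fintype L] in
theorem classInner_zsmul_left (k : ℤ) (f g : G → ℂ) :
    Cfsg.classInner (k • f) g = (k : ℂ) * Cfsg.classInner f g := by
  rw [zsmul_eq_cast_smul, Cfsg.Agent.Helper23.classInner_smul_left]

omit [Group L] [Fintype L] in
theorem classInner_zsmul_right (k : ℤ) (f g : G → ℂ) :
    Cfsg.classInner f (k • g) = (k : ℂ) * Cfsg.classInner f g := by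
  rw [zsmul_eq_cast_smul, classInner_smul_right, map_intCast]

theorem map_zsmul_sub_zsmul {T : Set (L → ℂ)} {σ : (L → ℂ) → (G → ℂ)}
    (h : Cfsg.IsLinearIsometryOn (Cfsg.zspan T) σ) {f g : L → ℂ} (hf : f ∈ Cfsg.zspan T)
    (hg : g ∈ Cfsg.zspan T) (p q : ℤ) : σ (p • f - q • g) = p • σ f - q • σ g := by
  have h1 : p • f - q • g = p • f + (-q) • g := by rw [neg_smul, sub_eq_add_neg]
  rw [h1, h.1 _ (zspan_zsmul_mem p hf) _ (zspan_zsmul_mem (-q) hg), h.2.1 f hf p,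
    h.2.1 g hg (-q), neg_smul, sub_eq_add_neg]

/-- the key step: the image of `χ - a χ₁` is `X - a τ₁ χ₁` with `X` supported on `R χ` -/
theorem CohData.exists_X (D : CohData S τ R d S₁ τ₁) (n : (L → ℂ) → ℕ)
    (hn : ∀ φ ∈ S, Cfsg.classInner φ φ = (n φ : ℂ))
    {χ : L → ℂ} (hχ : χ ∈ S) (hχ₁ : χ ∉ S₁) (hχ₂ : Cfsg.conjFun χ ∉ S₁)
    {χ₁ : L → ℂ} (hχ₁S : χ₁ ∈ S₁) (a : ℕ) (ha : d χ = d χ₁ * a)
    (hineq : (2 * d χ * d χ₁ : ℝ) < ∑ φ ∈ S₁, ((d φ : ℝ) ^ 2 / (n φ : ℝ))) :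
    ∃ X : G → ℂ, Cfsg.IsGeneralizedCharacter G X ∧
      Cfsg.classInner X X = Cfsg.classInner χ χ ∧
      (∀ φ ∈ S₁, Cfsg.classInner X (τ₁ φ) = 0) ∧
      Cfsg.classInner X (∑ α ∈ R χ, α) = Cfsg.classInner χ χ ∧
      τ (χ - (a : ℤ) • χ₁) = X - (a : ℤ) • τ₁ χ₁ := by
  classical
  have hfI : Fintype (Cfsg.IrrCharacter G) :=
    @Fintype.ofFinite _ (Cfsg.Agent.Helper23.finite_irrCharacter G)
  have hS := D.sys
  have hχ₁S' : χ₁ ∈ S := D.sub hχ₁S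
  have hχc : Cfsg.conjFun χ ∈ S := hS.conj_mem χ hχ
  have hne1 : χ₁ ≠ χ := fun e => hχ₁ (e ▸ hχ₁S)
  have hne2 : χ₁ ≠ Cfsg.conjFun χ := fun e => hχ₂ (e ▸ hχ₁S)
  have o1 : Cfsg.classInner χ χ₁ = 0 := hS.orthogonal χ hχ χ₁ hχ₁S' (Ne.symm hne1)
  have o1' : Cfsg.classInner χ₁ χ = 0 := hS.orthogonal χ₁ hχ₁S' χ hχ hne1
  have o2 : Cfsg.classInner χ₁ (Cfsg.conjFun χ) = 0 := hS.orthogonal χ₁ hχ₁S' _ hχc hne2
  have o3 : Cfsg.classInner χ (Cfsg.conjFun χ) = 0 := cs_classInner_conj hS hχ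
  -- degrees and norms are nonzero
  have hd₁ : d χ₁ ≠ 0 := by
    intro h
    have h1 := D.deg χ₁ hχ₁S'
    rw [h, Nat.cast_zero] at h1
    exact cs_ne_zero hS hχ₁S' (isCharacter_eq_zero_of_apply_one (hS.isCharacter χ₁ hχ₁S') h1)
  have hnpos : ∀ φ ∈ S, n φ ≠ 0 := by
    intro φ hφ h
    have h1 := hn φ hφ
    rw [h, Nat.cast_zero] at h1
    exact cs_norm_ne_zero hS hφ h1
  -- the element `χ - a χ₁`
  have hβ₀ : χ - (a : ℤ) • χ₁ ∈ Cfsg.zspanOn S {1}ᶜ := by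
    rw [mem_zspanOn_compl_one]
    refine ⟨zspan_sub_mem (mem_zspan_of_mem hχ) (zspan_zsmul_mem _ (mem_zspan_of_mem hχ₁S')), ?_⟩
    rw [Pi.sub_apply, Pi.smul_apply, D.deg χ hχ, D.deg χ₁ hχ₁S', ha]
    push_cast
    rw [zsmul_eq_mul]
    push_cast
    ring
  have hχχ : χ - Cfsg.conjFun χ ∈ Cfsg.zspanOn S {1}ᶜ := by
    rw [mem_zspanOn_compl_one]
    refine ⟨zspan_sub_mem (mem_zspan_of_mem hχ) (mem_zspan_of_mem hχc), ?_⟩
    have h1 := D.deg χ hχ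
    rw [Pi.sub_apply, conjFun_apply_one_of_nat h1, h1, sub_self]
  set β := τ (χ - (a : ℤ) • χ₁) with hβdef
  have hβgen : Cfsg.IsGeneralizedCharacter G β := hS.isometry.2.2.2 _ hβ₀
  -- the integers `x`
  have hx : ∀ α : G → ℂ, ∃ k : ℤ, α ∈ R χ → Cfsg.classInner β α = k := by
    intro α
    by_cases hα : α ∈ R χ
    · obtain ⟨k, hk⟩ := Cfsg.Agent.Helper24.IsGeneralizedCharacter.classInner_int hβgen
        (hS.virtual χ hχ α hα)
      exact ⟨k, fun _ => hk⟩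
    · exact ⟨0, fun h => absurd h hα⟩
  choose x hx using hx
  -- the integers `y`
  have hy : ∀ φ : L → ℂ, ∃ k : ℤ, φ ∈ S₁ → Cfsg.classInner β (τ₁ φ) = k := by
    intro φ
    by_cases hφ : φ ∈ S₁
    · obtain ⟨k, hk⟩ := Cfsg.Agent.Helper24.IsGeneralizedCharacter.classInner_int hβgen
        (D.iso.2.2.2 φ (D.mem_zspan hφ))
      exact ⟨k, fun _ => hk⟩
    · exact ⟨0, fun h => absurd h hφ⟩
  choose y hy using hy
  -- sum of the `x`
  have hsumx : ∑ α ∈ R χ, Cfsg.classInner β α = Cfsg.classInner χ χ := by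
    rw [← classInner_sum_right, ← hS.sum_eq χ hχ, hβdef, hS.isometry.2.2.1 _ hβ₀ _ hχχ,
      classInner_sub_left, classInner_sub_right, classInner_sub_right, classInner_zsmul_left,
      classInner_zsmul_left, o1', o2, o3]
    ring
  -- the norm of `β`
  have hnormβ : Cfsg.classInner β β
      = Cfsg.classInner χ χ + ((a : ℤ) : ℂ) ^ 2 * Cfsg.classInner χ₁ χ₁ := by
    rw [hβdef, hS.isometry.2.2.1 _ hβ₀ _ hβ₀, classInner_sub_left, classInner_sub_right,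
      classInner_sub_right, classInner_zsmul_left, classInner_zsmul_left, classInner_zsmul_right,
      classInner_zsmul_right, o1, o1']
    ring
  -- stage 1: remove the components along `R χ`
  obtain ⟨hγ₁perp, hγ₁norm⟩ := bessel_sub (R χ) (hS.orthonormal χ hχ) β
  set X : G → ℂ := ∑ α ∈ R χ, Cfsg.classInner β α • α with hXdef
  have hXgen : Cfsg.IsGeneralizedCharacter G X := by
    apply Cfsg.Agent.Helper24.isGeneralizedCharacter_sum
    intro α hα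
    rw [hx α hα]
    exact Cfsg.Agent.Helper24.IsGeneralizedCharacter.zsmul (hS.virtual χ hχ α hα) (x α)
  have hXα : ∀ α ∈ R χ, Cfsg.classInner X α = Cfsg.classInner β α := by
    intro α hα
    have h1 := hγ₁perp α hα
    rw [classInner_sub_left, sub_eq_zero] at h1
    exact h1.symm
  have hXτ₁ : ∀ φ ∈ S₁, Cfsg.classInner X (τ₁ φ) = 0 := by
    intro φ hφ
    rw [hXdef, Cfsg.Agent.Helper23.classInner_sum_left]
    apply Finset.sum_eq_zero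
    intro α hα
    rw [Cfsg.Agent.Helper23.classInner_smul_left, D.classInner_R_tau1 hχ hχ₁ hχ₂ hφ hα, mul_zero]
  have hγ₁y : ∀ φ ∈ S₁, Cfsg.classInner (β - X) (τ₁ φ) = y φ := by
    intro φ hφ
    rw [classInner_sub_left, hXτ₁ φ hφ, sub_zero, hy φ hφ]
  -- stage 2: remove the components along the `τ₁ φ`
  have horth₁ : ∀ φ ∈ S₁, ∀ ψ ∈ S₁, φ ≠ ψ → Cfsg.classInner (τ₁ φ) (τ₁ ψ) = 0 := by
    intro φ hφ ψ hψ hne
    rw [D.iso.2.2.1 φ (D.mem_zspan hφ) ψ (D.mem_zspan hψ)]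
    exact hS.orthogonal φ (D.sub hφ) ψ (D.sub hψ) hne
  have hnorm₁ : ∀ φ ∈ S₁, Cfsg.classInner (τ₁ φ) (τ₁ φ) = (n φ : ℂ) := by
    intro φ hφ
    rw [D.iso.2.2.1 φ (D.mem_zspan hφ) φ (D.mem_zspan hφ), hn φ (D.sub hφ)]
  have hne₁ : ∀ φ ∈ S₁, Cfsg.classInner (τ₁ φ) (τ₁ φ) ≠ 0 := by
    intro φ hφ
    rw [hnorm₁ φ hφ]
    exact_mod_cast hnpos φ (D.sub hφ)
  obtain ⟨-, hγ₂norm⟩ := bessel_orth S₁ τ₁ horth₁ hne₁ (β - X)
  -- the relation between the `y`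
  have hyrel : ∀ φ ∈ S₁, φ ≠ χ₁ →
      (d χ₁ : ℤ) * y φ = (d φ : ℤ) * (y χ₁ + (a : ℤ) * (n χ₁ : ℤ)) := by
    intro φ hφ hne
    have hφS := D.sub hφ
    have hφχ : φ ≠ χ := fun e => hχ₁ (e ▸ hφ)
    have o4 : Cfsg.classInner χ φ = 0 := hS.orthogonal χ hχ φ hφS (Ne.symm hφχ)
    have o5 : Cfsg.classInner χ₁ φ = 0 := hS.orthogonal χ₁ hχ₁S' φ hφS (Ne.symm hne)
    have hφ'1 : (d χ₁ : ℤ) • φ - (d φ : ℤ) • χ₁ ∈ Cfsg.zspanOn (↑S₁ : Set (L → ℂ)) {1}ᶜ := by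
      rw [mem_zspanOn_compl_one]
      refine ⟨zspan_sub_mem (zspan_zsmul_mem _ (D.mem_zspan hφ))
        (zspan_zsmul_mem _ (D.mem_zspan hχ₁S)), ?_⟩
      rw [Pi.sub_apply, Pi.smul_apply, Pi.smul_apply, D.deg φ hφS, D.deg χ₁ hχ₁S', zsmul_eq_mul,
        zsmul_eq_mul]
      push_cast
      ring
    have hφ'2 : (d χ₁ : ℤ) • φ - (d φ : ℤ) • χ₁ ∈ Cfsg.zspanOn S {1}ᶜ := by
      rw [mem_zspanOn_compl_one] at hφ'1 ⊢
      exact ⟨zspan_mono D.sub hφ'1.1, hφ'1.2⟩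
    have e1 : Cfsg.classInner β (τ₁ ((d χ₁ : ℤ) • φ - (d φ : ℤ) • χ₁))
        = ((a : ℤ) : ℂ) * ((d φ : ℤ) : ℂ) * Cfsg.classInner χ₁ χ₁ := by
      rw [D.agree _ hφ'1, hβdef, hS.isometry.2.2.1 _ hβ₀ _ hφ'2]
      simp only [classInner_sub_left, classInner_sub_right, classInner_zsmul_left,
        classInner_zsmul_right, o1, o4, o5]
      ring
    have e2 : Cfsg.classInner β (τ₁ ((d χ₁ : ℤ) • φ - (d φ : ℤ) • χ₁))
        = ((d χ₁ : ℤ) : ℂ) * (y φ : ℂ) - ((d φ : ℤ) : ℂ) * (y χ₁ : ℂ) := by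
      rw [map_zsmul_sub_zsmul D.iso (D.mem_zspan hφ) (D.mem_zspan hχ₁S), classInner_sub_right,
        classInner_zsmul_right, classInner_zsmul_right, hy φ hφ, hy χ₁ hχ₁S]
    rw [e1, hn χ₁ hχ₁S'] at e2
    have e3 : ((d χ₁ : ℤ) : ℂ) * (y φ : ℂ)
        = (((d φ : ℤ) * (y χ₁ + (a : ℤ) * (n χ₁ : ℤ)) : ℤ) : ℂ) := by
      push_cast
      push_cast at e2
      linear_combination -e2
    exact_mod_cast e3
  -- passing to real numbers
  obtain ⟨r, hr0, hr⟩ := classInner_self_eq_ofReal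
    ((β - X) - ∑ j ∈ S₁,
      (Cfsg.classInner (β - X) (τ₁ j) / Cfsg.classInner (τ₁ j) (τ₁ j)) • τ₁ j)
  have hsumxZ : ∑ α ∈ R χ, x α = (n χ : ℤ) := by
    have : ((∑ α ∈ R χ, x α : ℤ) : ℂ) = ((n χ : ℤ) : ℂ) := by
      push_cast
      rw [← hn χ hχ, ← hsumx]
      exact (Finset.sum_congr rfl (fun α hα => hx α hα)).symm
    exact_mod_cast this
  set P : ℤ := ∑ α ∈ R χ, (x α * x α - x α) with hPdef
  have hP0 : 0 ≤ P := Finset.sum_nonneg (fun α _ => int_sq_sub_nonneg _)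
  have hsumxx : ∑ α ∈ R χ, x α * x α = P + n χ := by
    rw [hPdef, Finset.sum_sub_distrib, hsumxZ]
    ring
  have hxx : ∑ α ∈ R χ, Cfsg.classInner β α * conj (Cfsg.classInner β α)
      = ((P + n χ : ℤ) : ℂ) := by
    rw [← hsumxx]
    push_cast
    apply Finset.sum_congr rfl
    intro α hα
    rw [hx α hα, map_intCast]
  have hrC : (r : ℂ) = (a : ℂ) ^ 2 * (n χ₁ : ℂ) - (P : ℂ)
      - ∑ φ ∈ S₁, ((y φ : ℂ)) ^ 2 / (n φ : ℂ) := by
    rw [← hr, hγ₂norm, hγ₁norm, hnormβ, hn χ hχ, hn χ₁ hχ₁S', hxx]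
    have h2 : ∑ i ∈ S₁, Cfsg.classInner (β - X) (τ₁ i) * conj (Cfsg.classInner (β - X) (τ₁ i))
          / Cfsg.classInner (τ₁ i) (τ₁ i)
        = ∑ φ ∈ S₁, ((y φ : ℂ)) ^ 2 / (n φ : ℂ) := by
      apply Finset.sum_congr rfl
      intro φ hφ
      rw [hγ₁y φ hφ, hnorm₁ φ hφ, map_intCast, sq]
    rw [h2]
    push_cast
    ring
  have hrR : r = (a : ℝ) ^ 2 * (n χ₁ : ℝ) - (P : ℝ)
      - ∑ φ ∈ S₁, ((y φ : ℝ)) ^ 2 / (n φ : ℝ) := by
    apply Complex.ofReal_injective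
    rw [hrC]
    push_cast
    rfl
  rw [ha] at hineq
  obtain ⟨hc0, hr0', hP0'⟩ := coherence_arith S₁ χ₁ hχ₁S d n hd₁ (hnpos χ₁ hχ₁S') y a
    (y χ₁ + (a : ℤ) * (n χ₁ : ℤ)) (by ring) hyrel hineq (P : ℝ) (by exact_mod_cast hP0) r hr0 hrR
  have hP0'' : P = 0 := by exact_mod_cast hP0'
  have hγ₂ : (β - X) - ∑ j ∈ S₁,
      (Cfsg.classInner (β - X) (τ₁ j) / Cfsg.classInner (τ₁ j) (τ₁ j)) • τ₁ j = 0 := by
    apply eq_zero_of_classInner_self_eq_zero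
    rw [hr, hr0', Complex.ofReal_zero]
  have hsum : ∑ j ∈ S₁,
      (Cfsg.classInner (β - X) (τ₁ j) / Cfsg.classInner (τ₁ j) (τ₁ j)) • τ₁ j
        = -((a : ℤ) • τ₁ χ₁) := by
    rw [Finset.sum_eq_single χ₁]
    · rw [hγ₁y χ₁ hχ₁S, hnorm₁ χ₁ hχ₁S]
      have hyχ₁ : y χ₁ = -((a : ℤ) * (n χ₁ : ℤ)) := by linarith
      rw [hyχ₁, zsmul_eq_cast_smul, ← neg_smul]
      congr 1
      have hn₁ : (n χ₁ : ℂ) ≠ 0 := by exact_mod_cast hnpos χ₁ hχ₁S'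
      push_cast
      field_simp
    · intro φ hφ hne
      have h1 := hyrel φ hφ hne
      rw [hc0, mul_zero] at h1
      have hyφ : y φ = 0 := by
        rcases mul_eq_zero.mp h1 with e | e
        · exact absurd (by exact_mod_cast e) hd₁
        · exact e
      rw [hγ₁y φ hφ, hyφ, Int.cast_zero, zero_div, zero_smul]
    · intro h
      exact absurd hχ₁S h
  refine ⟨X, hXgen, ?_, hXτ₁, ?_, ?_⟩
  · have h1 : Cfsg.classInner X X
        = ∑ α ∈ R χ, conj (Cfsg.classInner β α) * Cfsg.classInner β α := by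
      rw [show Cfsg.classInner X X
        = Cfsg.classInner X (∑ α ∈ R χ, Cfsg.classInner β α • α) from rfl, classInner_sum_right]
      apply Finset.sum_congr rfl
      intro α hα
      rw [classInner_smul_right, hXα α hα]
    rw [h1, hn χ hχ]
    have h2 : ∑ α ∈ R χ, conj (Cfsg.classInner β α) * Cfsg.classInner β α
        = ∑ α ∈ R χ, Cfsg.classInner β α * conj (Cfsg.classInner β α) :=
      Finset.sum_congr rfl (fun α _ => mul_comm _ _)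
    rw [h2, hxx, hP0'']
    push_cast
    ring
  · rw [classInner_sum_right, Finset.sum_congr rfl hXα, hsumx]
  · rw [hsum] at hγ₂
    have h1 := sub_eq_zero.mp hγ₂
    rw [sub_eq_iff_eq_add] at h1
    rw [h1]
    abel

omit [Group L] [Fintype L] in
theorem zspanOn_add_mem {Y : Type*} {T : Set (Y → ℂ)} {A : Set Y} {f g : Y → ℂ}
    (hf : f ∈ Cfsg.zspanOn T A) (hg : g ∈ Cfsg.zspanOn T A) : f + g ∈ Cfsg.zspanOn T A :=
  ⟨zspan_add_mem hf.1 hg.1, fun x hx => by rw [Pi.add_apply, hf.2 x hx, hg.2 x hx, add_zero]⟩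

omit [Group L] [Fintype L] in
theorem zspanOn_zsmul_mem {Y : Type*} {T : Set (Y → ℂ)} {A : Set Y} {f : Y → ℂ} (k : ℤ)
    (hf : f ∈ Cfsg.zspanOn T A) : k • f ∈ Cfsg.zspanOn T A :=
  ⟨zspan_zsmul_mem k hf.1, fun x hx => by rw [Pi.smul_apply, hf.2 x hx, smul_zero]⟩

omit [Fintype G] [Group G] in
theorem orthExt_sub (T : Finset (L → ℂ)) (v : (L → ℂ) → (G → ℂ)) (f g : L → ℂ) :
    orthExt T v (f - g) = orthExt T v f - orthExt T v g := by
  have h1 : f - g = f + (-1 : ℤ) • g := by rw [neg_smul, one_smul, sub_eq_add_neg]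
  rw [h1, orthExt_add, orthExt_zsmul, neg_smul, one_smul, sub_eq_add_neg]

/-- decomposition of integer combinations of `S₁ ∪ {χ, χ'}` -/
theorem exists_decomp_of_mem_zspan_union {Y : Type*} (T : Set (Y → ℂ)) (χ χ' : Y → ℂ)
    {f : Y → ℂ} (hf : f ∈ Cfsg.zspan (T ∪ {χ, χ'})) :
    ∃ f₁ ∈ Cfsg.zspan T, ∃ p q : ℤ, f = f₁ + p • χ + q • χ' := by
  induction hf using Submodule.span_induction with
  | mem x hx =>
    rcases hx with hx | hx
    · exact ⟨x, mem_zspan_of_mem hx, 0, 0, by simp⟩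
    · rcases hx with hx | hx
      · exact ⟨0, zspan_zero_mem T, 1, 0, by simp [hx]⟩
      · have hx' : x = χ' := hx
        exact ⟨0, zspan_zero_mem T, 0, 1, by simp [hx']⟩
  | zero => exact ⟨0, zspan_zero_mem T, 0, 0, by simp⟩
  | add x y _ _ hx hy =>
    obtain ⟨f₁, hf₁, p, q, rfl⟩ := hx
    obtain ⟨g₁, hg₁, p', q', rfl⟩ := hy
    refine ⟨f₁ + g₁, zspan_add_mem hf₁ hg₁, p + p', q + q', ?_⟩
    rw [add_smul, add_smul]
    abel
  | smul k x _ hx =>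
    obtain ⟨f₁, hf₁, p, q, rfl⟩ := hx
    refine ⟨k • f₁, zspan_zsmul_mem k hf₁, k * p, k * q, ?_⟩
    rw [smul_add, smul_add, mul_smul, mul_smul]

/-- **Extension of coherence by a pair of conjugate characters.** -/
theorem CohData.extend (D : CohData S τ R d S₁ τ₁) (n : (L → ℂ) → ℕ)
    (hn : ∀ φ ∈ S, Cfsg.classInner φ φ = (n φ : ℂ))
    {χ : L → ℂ} (hχ : χ ∈ S) (hχ₁ : χ ∉ S₁) (hχ₂ : Cfsg.conjFun χ ∉ S₁)
    {χ₁ : L → ℂ} (hχ₁S : χ₁ ∈ S₁) (a : ℕ) (ha : d χ = d χ₁ * a)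
    (hineq : (2 * d χ * d χ₁ : ℝ) < ∑ φ ∈ S₁, ((d φ : ℝ) ^ 2 / (n φ : ℝ))) :
    Cfsg.IsCoherent (↑S₁ ∪ {χ, Cfsg.conjFun χ} : Set (L → ℂ)) {1}ᶜ τ := by
  classical
  obtain ⟨X, hXgen, hXX, hXτ₁, hXR, hτβ⟩ := D.exists_X n hn hχ hχ₁ hχ₂ hχ₁S a ha hineq
  have hS := D.sys
  have hχc : Cfsg.conjFun χ ∈ S := hS.conj_mem χ hχ
  have hχ₁S' : χ₁ ∈ S := D.sub hχ₁S
  have hcne : Cfsg.conjFun χ ≠ χ := hS.conj_ne χ hχ
  have hχχ : χ - Cfsg.conjFun χ ∈ Cfsg.zspanOn S {1}ᶜ := by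
    rw [mem_zspanOn_compl_one]
    refine ⟨zspan_sub_mem (mem_zspan_of_mem hχ) (mem_zspan_of_mem hχc), ?_⟩
    have h1 := D.deg χ hχ
    rw [Pi.sub_apply, conjFun_apply_one_of_nat h1, h1, sub_self]
  have hβ₀ : χ - (a : ℤ) • χ₁ ∈ Cfsg.zspanOn S {1}ᶜ := by
    rw [mem_zspanOn_compl_one]
    refine ⟨zspan_sub_mem (mem_zspan_of_mem hχ) (zspan_zsmul_mem _ (mem_zspan_of_mem hχ₁S')), ?_⟩
    rw [Pi.sub_apply, Pi.smul_apply, D.deg χ hχ, D.deg χ₁ hχ₁S', ha]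
    push_cast
    rw [zsmul_eq_mul]
    push_cast
    ring
  set sumR : G → ℂ := ∑ α ∈ R χ, α with hsumR
  have hsumRgen : Cfsg.IsGeneralizedCharacter G sumR :=
    Cfsg.Agent.Helper24.isGeneralizedCharacter_sum _ _ (fun α hα => hS.virtual χ hχ α hα)
  -- inner products involving `sumR`
  have hRR : Cfsg.classInner sumR sumR = 2 * Cfsg.classInner χ χ := by
    rw [hsumR, ← hS.sum_eq χ hχ, hS.isometry.2.2.1 _ hχχ _ hχχ, classInner_sub_left,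
      classInner_sub_right, classInner_sub_right, cs_classInner_conj hS hχ,
      cs_classInner_conj' hS hχ, classInner_conjFun_conjFun, classInner_self_conj]
    ring
  have hRX : Cfsg.classInner sumR X = Cfsg.classInner χ χ := by
    rw [classInner_conj_symm X sumR, hXR, classInner_self_conj]
  have hRτ₁ : ∀ φ ∈ S₁, Cfsg.classInner sumR (τ₁ φ) = 0 := by
    intro φ hφ
    rw [hsumR, Cfsg.Agent.Helper23.classInner_sum_left]
    exact Finset.sum_eq_zero (fun α hα => D.classInner_R_tau1 hχ hχ₁ hχ₂ hφ hα)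
  -- the enlarged set
  set T' : Finset (L → ℂ) := insert χ (insert (Cfsg.conjFun χ) S₁) with hT'
  have hcoe : (↑T' : Set (L → ℂ)) = ↑S₁ ∪ {χ, Cfsg.conjFun χ} := by
    ext f
    simp only [hT', Finset.coe_insert, Set.mem_insert_iff, Finset.mem_coe, Set.mem_union,
      Set.mem_singleton_iff]
    tauto
  have hT'S : ∀ f ∈ T', f ∈ S := by
    intro f hf
    rcases Finset.mem_insert.mp hf with rfl | hf
    · exact hχ
    rcases Finset.mem_insert.mp hf with rfl | hf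
    · exact hχc
    · exact D.sub hf
  have horthT : ∀ f ∈ T', ∀ g ∈ T', f ≠ g → Cfsg.classInner f g = 0 :=
    fun f hf g hg hne => hS.orthogonal f (hT'S f hf) g (hT'S g hg) hne
  have hneT : ∀ f ∈ T', Cfsg.classInner f f ≠ 0 := fun f hf => cs_norm_ne_zero hS (hT'S f hf)
  set v : (L → ℂ) → (G → ℂ) := fun f =>
    if f = χ then X else if f = Cfsg.conjFun χ then X - sumR else τ₁ f with hv
  have hvχ : v χ = X := by simp only [hv, if_true]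
  have hvχc : v (Cfsg.conjFun χ) = X - sumR := by
    simp [hv, hcne]
  have hvS₁ : ∀ φ ∈ S₁, v φ = τ₁ φ := by
    intro φ hφ
    have e1 : φ ≠ χ := fun e => hχ₁ (e ▸ hφ)
    have e2 : φ ≠ Cfsg.conjFun χ := fun e => hχ₂ (e ▸ hφ)
    simp only [hv]
    rw [if_neg e1, if_neg e2]
  have hsymm : ∀ f g, Cfsg.classInner (v f) (v g) = Cfsg.classInner f g →
      Cfsg.classInner (v g) (v f) = Cfsg.classInner g f := by
    intro f g h
    rw [classInner_conj_symm (v f) (v g), h, ← classInner_conj_symm]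
  have g1 : Cfsg.classInner (v χ) (v χ) = Cfsg.classInner χ χ := by rw [hvχ, hXX]
  have g2 : Cfsg.classInner (v χ) (v (Cfsg.conjFun χ)) = Cfsg.classInner χ (Cfsg.conjFun χ) := by
    rw [hvχ, hvχc, classInner_sub_right, hXX, hXR, sub_self, cs_classInner_conj hS hχ]
  have g3 : Cfsg.classInner (v (Cfsg.conjFun χ)) (v (Cfsg.conjFun χ))
      = Cfsg.classInner (Cfsg.conjFun χ) (Cfsg.conjFun χ) := by
    rw [hvχc, classInner_sub_left, classInner_sub_right, classInner_sub_right, hXX, hXR, hRX,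
      hRR, classInner_conjFun_conjFun, classInner_self_conj]
    ring
  have g4 : ∀ φ ∈ S₁, Cfsg.classInner (v χ) (v φ) = Cfsg.classInner χ φ := by
    intro φ hφ
    have e1 : φ ≠ χ := fun e => hχ₁ (e ▸ hφ)
    rw [hvχ, hvS₁ φ hφ, hXτ₁ φ hφ, hS.orthogonal χ hχ φ (D.sub hφ) (Ne.symm e1)]
  have g5 : ∀ φ ∈ S₁, Cfsg.classInner (v (Cfsg.conjFun χ)) (v φ)
      = Cfsg.classInner (Cfsg.conjFun χ) φ := by
    intro φ hφ
    have e2 : φ ≠ Cfsg.conjFun χ := fun e => hχ₂ (e ▸ hφ)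
    rw [hvχc, hvS₁ φ hφ, classInner_sub_left, hXτ₁ φ hφ, hRτ₁ φ hφ, sub_zero,
      hS.orthogonal _ hχc φ (D.sub hφ) (Ne.symm e2)]
  have g6 : ∀ φ ∈ S₁, ∀ ψ ∈ S₁, Cfsg.classInner (v φ) (v ψ) = Cfsg.classInner φ ψ := by
    intro φ hφ ψ hψ
    rw [hvS₁ φ hφ, hvS₁ ψ hψ, D.iso.2.2.1 φ (D.mem_zspan hφ) ψ (D.mem_zspan hψ)]
  have htri : ∀ f ∈ T', f = χ ∨ f = Cfsg.conjFun χ ∨ f ∈ S₁ := by
    intro f hf
    rcases Finset.mem_insert.mp hf with e | hf'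
    · exact Or.inl e
    rcases Finset.mem_insert.mp hf' with e | hf''
    · exact Or.inr (Or.inl e)
    · exact Or.inr (Or.inr hf'')
  have hvinner : ∀ f ∈ T', ∀ g ∈ T', Cfsg.classInner (v f) (v g) = Cfsg.classInner f g := by
    intro f hf g hg
    rcases htri f hf with e | e | e
    · rcases htri g hg with e' | e' | e'
      · rw [e, e']; exact g1
      · rw [e, e']; exact g2
      · rw [e]; exact g4 g e'
    · rcases htri g hg with e' | e' | e'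
      · rw [e, e']; exact hsymm _ _ g2
      · rw [e, e']; exact g3
      · rw [e]; exact g5 g e'
    · rcases htri g hg with e' | e' | e'
      · rw [e']; exact hsymm _ _ (g4 f e)
      · rw [e']; exact hsymm _ _ (g5 f e)
      · exact g6 f e g e'
  have hvgen : ∀ f ∈ T', Cfsg.IsGeneralizedCharacter G (v f) := by
    intro f hf
    rcases htri f hf with e | e | e
    · rw [e, hvχ]; exact hXgen
    · rw [e, hvχc]; exact Cfsg.Agent.Helper24.IsGeneralizedCharacter.sub hXgen hsumRgen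
    · rw [hvS₁ f e]; exact D.iso.2.2.2 f (D.mem_zspan e)
  have hiso := isLinearIsometryOn_orthExt horthT hneT v hvinner hvgen
  rw [hcoe] at hiso
  set σ : (L → ℂ) → (G → ℂ) := orthExt T' v with hσ
  have hσχ : σ χ = X := by
    rw [hσ, orthExt_of_mem horthT hneT v (Finset.mem_insert_self _ _), hvχ]
  have hσχc : σ (Cfsg.conjFun χ) = X - sumR := by
    rw [hσ, orthExt_of_mem horthT hneT v (Finset.mem_insert_of_mem (Finset.mem_insert_self _ _)),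
      hvχc]
  have hσφ : ∀ φ ∈ S₁, σ φ = τ₁ φ := by
    intro φ hφ
    rw [hσ, orthExt_of_mem horthT hneT v
      (Finset.mem_insert_of_mem (Finset.mem_insert_of_mem hφ)), hvS₁ φ hφ]
  have hσ0 : σ 0 = 0 := by
    have := orthExt_zsmul T' v 0 0
    simpa using this
  have hσS₁ : ∀ f ∈ Cfsg.zspan (↑S₁ : Set (L → ℂ)), σ f = τ₁ f := by
    intro f hf
    induction hf using Submodule.span_induction with
    | mem x hx => exact hσφ x (Finset.mem_coe.mp hx)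
    | zero => rw [hσ0, map_zero_of_isLinearIsometryOn D.iso]
    | add x y hx hy ihx ihy => rw [hσ, orthExt_add, ← hσ, ihx, ihy, D.iso.1 x hx y hy]
    | smul k x hx ih => rw [hσ, orthExt_zsmul, ← hσ, ih, D.iso.2.1 x hx k]
  refine ⟨⟨χ - Cfsg.conjFun χ, ?_, ?_⟩, σ, hiso, ?_⟩
  · rw [mem_zspanOn_compl_one]
    exact ⟨zspan_sub_mem (mem_zspan_of_mem (Or.inr (Or.inl rfl)))
      (mem_zspan_of_mem (Or.inr (Or.inr rfl))), (mem_zspanOn_compl_one.mp hχχ).2⟩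
  · intro h
    exact hcne (sub_eq_zero.mp h).symm
  · intro f hf
    rw [mem_zspanOn_compl_one] at hf
    obtain ⟨hf1, hf2⟩ := hf
    obtain ⟨f₁, hf₁, p, q, rfl⟩ := exists_decomp_of_mem_zspan_union _ _ _ hf1
    have hdχ := D.deg χ hχ
    have hdχc := conjFun_apply_one_of_nat hdχ
    have hdχ₁ := D.deg χ₁ hχ₁S'
    have hg₁mem : f₁ + ((p + q) * (a : ℤ)) • χ₁ ∈ Cfsg.zspanOn (↑S₁ : Set (L → ℂ)) {1}ᶜ := by
      rw [mem_zspanOn_compl_one]
      refine ⟨zspan_add_mem hf₁ (zspan_zsmul_mem _ (D.mem_zspan hχ₁S)), ?_⟩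
      rw [Pi.add_apply, Pi.add_apply, Pi.smul_apply, Pi.smul_apply, hdχ, hdχc, zsmul_eq_mul,
        zsmul_eq_mul, ha] at hf2
      rw [Pi.add_apply, Pi.smul_apply, hdχ₁, zsmul_eq_mul]
      push_cast at hf2 ⊢
      linear_combination hf2
    have hg₁S : f₁ + ((p + q) * (a : ℤ)) • χ₁ ∈ Cfsg.zspanOn S {1}ᶜ := by
      rw [mem_zspanOn_compl_one] at hg₁mem ⊢
      exact ⟨zspan_mono D.sub hg₁mem.1, hg₁mem.2⟩
    have hdecomp : f₁ + p • χ + q • Cfsg.conjFun χ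
        = (f₁ + ((p + q) * (a : ℤ)) • χ₁) + (p + q) • (χ - (a : ℤ) • χ₁)
          + (-q) • (χ - Cfsg.conjFun χ) := by
      simp only [smul_sub, add_smul, neg_smul, mul_smul]
      abel
    rw [hdecomp]
    have hR : τ ((f₁ + ((p + q) * (a : ℤ)) • χ₁) + (p + q) • (χ - (a : ℤ) • χ₁)
          + (-q) • (χ - Cfsg.conjFun χ))
        = τ (f₁ + ((p + q) * (a : ℤ)) • χ₁) + (p + q) • τ (χ - (a : ℤ) • χ₁)
          + (-q) • τ (χ - Cfsg.conjFun χ) := by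
      rw [hS.isometry.1 _ (zspanOn_add_mem hg₁S (zspanOn_zsmul_mem _ hβ₀)) _
        (zspanOn_zsmul_mem _ hχχ), hS.isometry.1 _ hg₁S _ (zspanOn_zsmul_mem _ hβ₀),
        hS.isometry.2.1 _ hβ₀, hS.isometry.2.1 _ hχχ]
    have hL : σ ((f₁ + ((p + q) * (a : ℤ)) • χ₁) + (p + q) • (χ - (a : ℤ) • χ₁)
          + (-q) • (χ - Cfsg.conjFun χ))
        = σ (f₁ + ((p + q) * (a : ℤ)) • χ₁) + (p + q) • (σ χ - (a : ℤ) • σ χ₁)
          + (-q) • (σ χ - σ (Cfsg.conjFun χ)) := by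
      rw [hσ, orthExt_add, orthExt_add, orthExt_zsmul, orthExt_zsmul, orthExt_sub, orthExt_sub,
        orthExt_zsmul]
    rw [hL, hR, hσS₁ _ (mem_zspanOn_compl_one.mp hg₁mem).1, D.agree _ hg₁mem, hσχ, hσχc,
      hσφ χ₁ hχ₁S, hτβ, hS.sum_eq χ hχ, sub_sub_cancel]

end Data

end Cfsg.Agent.Helper8
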