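import Mathlib
import Cfsg.Prelude.Def_Characters
import Cfsg.Prelude.Def_OddOrderChar
import Cfsg.Agent.Helper8.ExtendCoherent
import Cfsg.Agent.Helper8.GaloisChar
import Cfsg.Agent.Helper8.IndTrans
import Cfsg.Agent.Helper24.InducedNormal
import Cfsg.Agent.Helper24.Clifford
import Cfsg.Agent.Helper24.Abelian
import Cfsg.Agent.Helper24.Linear
import Cfsg.Agent.Helper24.Induced
import Cfsg.Agent.Helper5.IndFun

/-!
The sets `inducedIrrAbove K A` of characters induced from a normal subgroup: closure under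
conjugation, degrees, and the sum of `degree² / norm`.
-/

set_option autoImplicit false
set_option linter.unusedSectionVars false

namespace Cfsg.Agent.Helper8

open scoped ComplexConjugate

/-- the complex conjugate of an irreducible character is irreducible -/
theorem isIrrCharacter_conjFun_of_irr {G : Type*} [Group G] [Finite G] {χ : G → ℂ}
    (h : Cfsg.IsIrrCharacter G χ) : Cfsg.IsIrrCharacter G (Cfsg.conjFun χ) := by
  have fG : Fintype G := Fintype.ofFinite G
  have fI : Fintype (Cfsg.IrrCharacter G) := Fintype.ofFinite _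
  rw [Cfsg.Agent.Helper24.isIrrCharacter_iff_classInner_self]
  refine ⟨isCharacter_ringHom_comp (starRingEnd ℂ) (Cfsg.Agent.Helper24.IsIrrCharacter.isCharacter h), ?_⟩
  have h1 := (Cfsg.Agent.Helper24.isIrrCharacter_iff_classInner_self.mp h).2
  rw [classInner_conjFun_conjFun, h1, map_one]

section

variable {L : Type*} [Group L] [Fintype L]

theorem conjFun_indFun (K : Subgroup L) (θ : K → ℂ) :
    Cfsg.conjFun (Cfsg.indFun K θ) = Cfsg.indFun K (Cfsg.conjFun θ) := by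
  funext g
  unfold Cfsg.conjFun Cfsg.indFun
  rw [map_mul, map_inv₀, Complex.conj_natCast, map_sum]
  congr 1
  apply Finset.sum_congr rfl
  intro x _
  by_cases hx : x⁻¹ * g * x ∈ K
  · rw [ebz_mem K θ hx, ebz_mem K _ hx]
  · rw [ebz_not_mem K θ hx, ebz_not_mem K _ hx, map_zero]

theorem inducedIrrAbove_conj_mem (K A : Subgroup L) {φ : L → ℂ}
    (hφ : φ ∈ Cfsg.inducedIrrAbove K A) : Cfsg.conjFun φ ∈ Cfsg.inducedIrrAbove K A := by
  obtain ⟨θ, hθ, hne, hker, rfl⟩ := hφ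
  refine ⟨Cfsg.conjFun θ, isIrrCharacter_conjFun_of_irr hθ, ?_, ?_, conjFun_indFun K θ⟩
  · intro h
    apply hne
    have h2 := congrArg Cfsg.conjFun h
    rw [conjFun_conjFun] at h2
    rw [h2]
    funext x
    unfold Cfsg.conjFun
    simp
  · intro a ha
    unfold Cfsg.conjFun
    rw [hker a ha]

theorem inducedIrrAbove_subset_bot (K A : Subgroup L) :
    Cfsg.inducedIrrAbove K A ⊆ Cfsg.inducedIrrAbove K ⊥ := by
  rintro φ ⟨θ, hθ, hne, hker, rfl⟩
  refine ⟨θ, hθ, hne, ?_, rfl⟩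
  intro a ha
  have : a = 1 := by
    apply Subtype.ext
    exact Subgroup.mem_bot.mp ha
  rw [this]

end

section SumSq

variable {K : Type*} [Group K] [Fintype K]

/-- an irreducible character whose restriction to the normal subgroup `N` contains the trivial
character is constant on `N` -/
theorem irr_const_on_normal_of_sum_ne_zero (N : Subgroup K) [hN : N.Normal] [Fintype N] {θ : K → ℂ}
    (hθ : Cfsg.IsIrrCharacter K θ) (h : ∑ a : N, θ a ≠ 0) : ∀ a : N, θ a = θ 1 := by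
  classical
  have hconst : Cfsg.classInner (fun n : N => θ n) (fun _ => (1 : ℂ)) ≠ 0 := by
    unfold Cfsg.classInner
    simp only [map_one, mul_one]
    apply mul_ne_zero _ h
    exact inv_ne_zero (Nat.cast_ne_zero.mpr Nat.card_pos.ne')
  have hcl := Cfsg.Agent.Helper24.clifford N hN θ hθ (fun _ => (1 : ℂ))
    Cfsg.Agent.Helper24.isIrrCharacter_const_one hconst
  have hset : {ψ : N → ℂ | ∃ g : K, ψ = fun n : N =>
      (fun _ : N => (1 : ℂ)) ⟨g * n * g⁻¹, hN.conj_mem n n.2 g⟩} = {fun _ => (1 : ℂ)} := by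
    ext ψ
    simp only [Set.mem_ofPred_eq, Set.mem_singleton_iff]
    constructor
    · rintro ⟨g, rfl⟩
      rfl
    · rintro rfl
      exact ⟨1, rfl⟩
  rw [hset, finsum_mem_singleton] at hcl
  intro a
  have h1 := congrFun hcl a
  have h2 := congrFun hcl 1
  simp only [Pi.smul_apply, smul_eq_mul, mul_one] at h1 h2
  have h3 : θ ((1 : N) : K) = θ 1 := rfl
  rw [h1, ← h3, h2]

variable [Fintype (Cfsg.IrrCharacter K)]

/-- the sum of the squares of the degrees of the irreducible characters whose kernel contains the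
normal subgroup `N` is the index of `N` -/
theorem sum_sq_degree_of_kernel (N : Subgroup K) [hN : N.Normal] [Fintype N]
    [DecidablePred (fun θ : Cfsg.IrrCharacter K => ∀ a : N, (θ : K → ℂ) a = (θ : K → ℂ) 1)] :
    ∑ θ ∈ Finset.univ.filter (fun θ : Cfsg.IrrCharacter K =>
        ∀ a : N, (θ : K → ℂ) a = (θ : K → ℂ) 1), ((θ : K → ℂ) 1) ^ 2 = (N.index : ℂ) := by
  classical
  have h1 : ∑ a : N, ∑ θ : Cfsg.IrrCharacter K, (θ : K → ℂ) 1 * (θ : K → ℂ) a
      = (Nat.card K : ℂ) := by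
    rw [Finset.sum_eq_single (1 : N)]
    · rw [← Cfsg.Agent.Helper24.sum_sq_irr_one]
      apply Finset.sum_congr rfl
      intro θ _
      rw [sq]
      rfl
    · intro a _ ha
      apply Cfsg.Agent.Helper24.sum_irr_one_mul_eq_zero
      intro h
      apply ha
      exact Subtype.ext h
    · intro h
      exact absurd (Finset.mem_univ _) h
  rw [Finset.sum_comm] at h1
  have h2 : ∀ θ : Cfsg.IrrCharacter K, ∑ a : N, (θ : K → ℂ) 1 * (θ : K → ℂ) a
      = if (∀ a : N, (θ : K → ℂ) a = (θ : K → ℂ) 1) then (Nat.card N : ℂ) * ((θ : K → ℂ) 1) ^ 2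
        else 0 := by
    intro θ
    by_cases hc : ∀ a : N, (θ : K → ℂ) a = (θ : K → ℂ) 1
    · rw [if_pos hc]
      have : ∀ a : N, (θ : K → ℂ) 1 * (θ : K → ℂ) a = ((θ : K → ℂ) 1) ^ 2 := by
        intro a
        rw [hc a, sq]
      rw [Finset.sum_congr rfl (fun a _ => this a), Finset.sum_const, Finset.card_univ,
        nsmul_eq_mul, Nat.card_eq_fintype_card]
    · rw [if_neg hc, ← Finset.mul_sum]
      by_contra hne
      have hs : ∑ a : N, (θ : K → ℂ) a ≠ 0 := fun h0 => hne (by rw [h0, mul_zero])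
      exact hc (irr_const_on_normal_of_sum_ne_zero N θ.2 hs)
  rw [Finset.sum_congr rfl (fun θ _ => h2 θ), ← Finset.sum_filter, ← Finset.mul_sum] at h1
  have hNpos : (Nat.card N : ℂ) ≠ 0 := Nat.cast_ne_zero.mpr Nat.card_pos.ne'
  have h3 : (Nat.card K : ℂ) = (Nat.card N : ℂ) * (N.index : ℂ) := by
    rw [← Nat.cast_mul, Subgroup.card_mul_index]
  rw [h3] at h1
  exact mul_left_cancel₀ hNpos h1

end SumSq

section IrrAbove

variable {L : Type*} [Group L] [Fintype L] (K : Subgroup L) [hK : K.Normal] [Fintype K]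
  [Fintype (Cfsg.IrrCharacter K)]

open Classical in
/-- the non-principal irreducible characters of `K` whose kernel contains `A` -/
noncomputable def irrAbove (A : Subgroup L) : Finset (Cfsg.IrrCharacter K) :=
  Finset.univ.filter (fun θ => (θ : K → ℂ) ≠ (fun _ => 1) ∧
    ∀ a : K, (a : L) ∈ A → (θ : K → ℂ) a = (θ : K → ℂ) 1)

theorem mem_irrAbove {A : Subgroup L} {θ : Cfsg.IrrCharacter K} :
    θ ∈ irrAbove K A ↔ (θ : K → ℂ) ≠ (fun _ => 1) ∧
      ∀ a : K, (a : L) ∈ A → (θ : K → ℂ) a = (θ : K → ℂ) 1 := by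
  unfold irrAbove
  simp only [Finset.mem_filter, Finset.mem_univ, true_and]

theorem mem_inducedIrrAbove_iff {A : Subgroup L} {φ : L → ℂ} :
    φ ∈ Cfsg.inducedIrrAbove K A ↔ ∃ θ ∈ irrAbove K A, φ = Cfsg.indFun K (θ : K → ℂ) := by
  constructor
  · rintro ⟨θ, hθ, hne, hker, rfl⟩
    exact ⟨⟨θ, hθ⟩, (mem_irrAbove K).mpr ⟨hne, hker⟩, rfl⟩
  · rintro ⟨θ, hθ, rfl⟩
    obtain ⟨hne, hker⟩ := (mem_irrAbove K).mp hθ
    exact ⟨θ, θ.2, hne, hker, rfl⟩

/-- the conjugate of an irreducible character of `K` by an element of `L` -/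
noncomputable def conjIrrK (θ : Cfsg.IrrCharacter K) (x : L) : Cfsg.IrrCharacter K :=
  ⟨Cfsg.Agent.Helper24.conjFun K θ x, Cfsg.Agent.Helper24.isIrrCharacter_conjFun K θ.2 x⟩

theorem conjIrrK_apply_one (θ : Cfsg.IrrCharacter K) (x : L) :
    (conjIrrK K θ x : K → ℂ) 1 = (θ : K → ℂ) 1 := by
  have e : (⟨x * ((1 : K) : L) * x⁻¹, hK.conj_mem _ (1 : K).2 x⟩ : K) = 1 :=
    Subtype.ext (by simp)
  show (θ : K → ℂ) ⟨x * ((1 : K) : L) * x⁻¹, _⟩ = (θ : K → ℂ) 1
  rw [e]

theorem conjIrrK_mem_irrAbove {A : Subgroup L} [hA : A.Normal] {θ : Cfsg.IrrCharacter K}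
    (hθ : θ ∈ irrAbove K A) (x : L) : conjIrrK K θ x ∈ irrAbove K A := by
  obtain ⟨hne, hker⟩ := (mem_irrAbove K).mp hθ
  rw [mem_irrAbove]
  constructor
  · intro h
    apply hne
    funext k
    have h1 := congrFun h ⟨x⁻¹ * k * x⁻¹⁻¹, hK.conj_mem k k.2 x⁻¹⟩
    have e : (⟨x * (x⁻¹ * (k : L) * x⁻¹⁻¹) * x⁻¹,
        hK.conj_mem _ (hK.conj_mem k k.2 x⁻¹) x⟩ : K) = k :=
      Subtype.ext (by simp only; group)
    have h2 : (conjIrrK K θ x : K → ℂ) ⟨x⁻¹ * k * x⁻¹⁻¹, hK.conj_mem k k.2 x⁻¹⟩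
        = (θ : K → ℂ) ⟨x * (x⁻¹ * (k : L) * x⁻¹⁻¹) * x⁻¹,
          hK.conj_mem _ (hK.conj_mem k k.2 x⁻¹) x⟩ := rfl
    rw [h2, e] at h1
    exact h1
  · intro a ha
    rw [conjIrrK_apply_one]
    unfold conjIrrK
    simp only [Cfsg.Agent.Helper24.conjFun_apply]
    exact hker _ (hA.conj_mem _ ha x)

/-- the weighted sum of inner products of induced characters -/
theorem sum_degree_mul_classInner_indFun {A : Subgroup L} [hA : A.Normal]
    {θ₀ : Cfsg.IrrCharacter K} (hθ₀ : θ₀ ∈ irrAbove K A) :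
    ∑ θ ∈ irrAbove K A, (θ : K → ℂ) 1 *
        Cfsg.classInner (Cfsg.indFun K (θ : K → ℂ)) (Cfsg.indFun K (θ₀ : K → ℂ))
      = (K.index : ℂ) * (θ₀ : K → ℂ) 1 := by
  classical
  have h1 : ∀ θ ∈ irrAbove K A, (θ : K → ℂ) 1 *
        Cfsg.classInner (Cfsg.indFun K (θ : K → ℂ)) (Cfsg.indFun K (θ₀ : K → ℂ))
      = ∑ x : L, (Nat.card K : ℂ)⁻¹ * ((θ : K → ℂ) 1 * if θ = conjIrrK K θ₀ x then 1 else 0) := by
    intro θ _
    rw [Cfsg.Agent.Helper24.classInner_indFun_indFun_normal, Finset.mul_sum, Finset.mul_sum]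
    apply Finset.sum_congr rfl
    intro x _
    rw [Cfsg.Agent.Helper24.classInner_of_isIrrCharacter θ.2
      (Cfsg.Agent.Helper24.isIrrCharacter_conjFun K θ₀.2 x)]
    have : ((θ : K → ℂ) = Cfsg.Agent.Helper24.conjFun K (θ₀ : K → ℂ) x) ↔ θ = conjIrrK K θ₀ x := by
      constructor
      · intro h
        exact Subtype.ext h
      · intro h
        rw [h]
        rfl
    simp only [this]
    ring
  rw [Finset.sum_congr rfl h1, Finset.sum_comm]
  have h2 : ∀ x : L, ∑ θ ∈ irrAbove K A, (Nat.card K : ℂ)⁻¹ *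
      ((θ : K → ℂ) 1 * if θ = conjIrrK K θ₀ x then 1 else 0)
      = (Nat.card K : ℂ)⁻¹ * (θ₀ : K → ℂ) 1 := by
    intro x
    rw [← Finset.mul_sum]
    congr 1
    simp only [mul_ite, mul_one, mul_zero]
    rw [Finset.sum_ite_eq' (irrAbove K A) (conjIrrK K θ₀ x), if_pos (conjIrrK_mem_irrAbove K hθ₀ x),
      conjIrrK_apply_one]
  rw [Finset.sum_congr rfl (fun x _ => h2 x), Finset.sum_const, Finset.card_univ, nsmul_eq_mul,
    ← Nat.card_eq_fintype_card, ← Subgroup.index_mul_card K]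
  have hKpos : (Nat.card K : ℂ) ≠ 0 := Nat.cast_ne_zero.mpr Nat.card_pos.ne'
  push_cast
  field_simp

end IrrAbove

section MainSum

variable {L : Type*} [Group L] [Fintype L] (K : Subgroup L) [hK : K.Normal] [Fintype K]
  [Fintype (Cfsg.IrrCharacter K)]

theorem orthExt_sum {N G : Type*} [Group N] [Fintype N] {ι : Type*} (T : Finset (N → ℂ))
    (v : (N → ℂ) → (G → ℂ)) (s : Finset ι) (f : ι → N → ℂ) :
    orthExt T v (∑ i ∈ s, f i) = ∑ i ∈ s, orthExt T v (f i) := by
  classical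
  induction s using Finset.induction_on with
  | empty =>
    simp only [Finset.sum_empty]
    have := orthExt_smul T v 0 (0 : N → ℂ)
    simpa using this
  | insert a s ha ih => rw [Finset.sum_insert ha, Finset.sum_insert ha, orthExt_add, ih]

/-- sum of the squares of the degrees over `irrAbove K A` -/
theorem sum_sq_irrAbove {A : Subgroup L} [hA : A.Normal] (hAK : A ≤ K) :
    ∑ θ ∈ irrAbove K A, ((θ : K → ℂ) 1) ^ 2 = (A.relIndex K : ℂ) - 1 := by
  classical
  haveI : (A.subgroupOf K).Normal := hA.subgroupOf K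
  haveI : Fintype (A.subgroupOf K) := Fintype.ofFinite _
  have h1 := sum_sq_degree_of_kernel (A.subgroupOf K)
  have h2 : Finset.univ.filter (fun θ : Cfsg.IrrCharacter K =>
        ∀ a : A.subgroupOf K, (θ : K → ℂ) a = (θ : K → ℂ) 1)
      = insert (Cfsg.Agent.Helper24.trivIrr K) (irrAbove K A) := by
    ext θ
    rw [Finset.mem_filter, Finset.mem_insert, mem_irrAbove]
    simp only [Finset.mem_univ, true_and]
    constructor
    · intro h
      by_cases h1 : θ = Cfsg.Agent.Helper24.trivIrr K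
      · exact Or.inl h1
      · right
        refine ⟨fun h2 => h1 (Subtype.ext h2), ?_⟩
        intro a ha
        exact h ⟨a, Subgroup.mem_subgroupOf.mpr ha⟩
    · rintro (h | h)
      · intro a
        rw [h]
        rfl
      · intro a
        exact h.2 a (Subgroup.mem_subgroupOf.mp a.2)
  have h3 : Cfsg.Agent.Helper24.trivIrr K ∉ irrAbove K A := by
    intro h
    exact ((mem_irrAbove K).mp h).1 rfl
  rw [h2, Finset.sum_insert h3] at h1
  have h4 : ((Cfsg.Agent.Helper24.trivIrr K : Cfsg.IrrCharacter K) : K → ℂ) 1 = 1 := rfl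
  rw [h4, one_pow] at h1
  have h5 : (A.subgroupOf K).index = A.relIndex K := rfl
  rw [h5] at h1
  rw [← h1]
  ring

/-- **The sum of `degree² / norm` over the characters induced from `irrAbove K A`.** -/
theorem sum_degree_sq_div_norm {A : Subgroup L} [hA : A.Normal] (hAK : A ≤ K)
    (T : Finset (L → ℂ)) (hT : (↑T : Set (L → ℂ)) = Cfsg.inducedIrrAbove K A)
    (horth : ∀ φ ∈ T, ∀ ψ ∈ T, φ ≠ ψ → Cfsg.classInner φ ψ = 0)
    (hne : ∀ φ ∈ T, Cfsg.classInner φ φ ≠ 0) :
    ∑ φ ∈ T, (φ 1) ^ 2 / Cfsg.classInner φ φ = (K.index : ℂ) * ((A.relIndex K : ℂ) - 1) := by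
  classical
  set Ψ : L → ℂ := ∑ θ ∈ irrAbove K A, ((θ : K → ℂ) 1) • Cfsg.indFun K (θ : K → ℂ) with hΨ
  have hmemT : ∀ θ ∈ irrAbove K A, Cfsg.indFun K (θ : K → ℂ) ∈ T := by
    intro θ hθ
    rw [← Finset.mem_coe, hT, mem_inducedIrrAbove_iff]
    exact ⟨θ, hθ, rfl⟩
  -- expansion of `Ψ` along `T`
  have h1 : orthExt T id Ψ = Ψ := by
    rw [hΨ, orthExt_sum]
    apply Finset.sum_congr rfl
    intro θ hθ
    rw [orthExt_smul, orthExt_of_mem horth hne id (hmemT θ hθ)]
    rfl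
  -- the components of `Ψ`
  have h2 : ∀ φ ∈ T, Cfsg.classInner Ψ φ = φ 1 := by
    intro φ hφ
    rw [← Finset.mem_coe, hT, mem_inducedIrrAbove_iff] at hφ
    obtain ⟨θ₀, hθ₀, rfl⟩ := hφ
    rw [hΨ, Cfsg.Agent.Helper23.classInner_sum_left]
    simp only [Cfsg.Agent.Helper23.classInner_smul_left]
    rw [sum_degree_mul_classInner_indFun K hθ₀, Cfsg.Agent.Helper5.indFun_apply_one]
  -- the value at one
  have h3 : Ψ 1 = (K.index : ℂ) * ((A.relIndex K : ℂ) - 1) := by
    rw [← sum_sq_irrAbove K hAK, hΨ, Finset.sum_apply, Finset.mul_sum]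
    apply Finset.sum_congr rfl
    intro θ _
    rw [Pi.smul_apply, Cfsg.Agent.Helper5.indFun_apply_one, smul_eq_mul]
    ring
  rw [← h3]
  conv_rhs => rw [← h1]
  unfold orthExt
  rw [Finset.sum_apply]
  apply Finset.sum_congr rfl
  intro φ hφ
  rw [Pi.smul_apply, h2 φ hφ, smul_eq_mul, id]
  ring

end MainSum

end Cfsg.Agent.Helper8
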