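import Mathlib
import Cfsg.Prelude.Def_Characters

set_option autoImplicit false

namespace Cfsg.Agent.Helper8

open Representation

/-- **Schur's lemma**: an endomorphism commuting with an irreducible complex representation is a
scalar. -/
theorem exists_scalar_of_commute {G V : Type*} [Group G] [AddCommGroup V] [Module ℂ V]
    [FiniteDimensional ℂ V] (ρ : Representation ℂ G V) [ρ.IsIrreducible] (f : V →ₗ[ℂ] V)
    (hf : ∀ g : G, f ∘ₗ ρ g = ρ g ∘ₗ f) : ∃ c : ℂ, f = c • (LinearMap.id : V →ₗ[ℂ] V) := by
  let F : IntertwiningMap ρ ρ := { toLinearMap := f, isIntertwining' := hf }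
  obtain ⟨c, hc⟩ :=
    (IsIrreducible.algebraMap_intertwiningMap_bijective_of_isAlgClosed (ρ := ρ)).2 F
  refine ⟨c, ?_⟩
  have := congrArg IntertwiningMap.toLinearMap hc
  rw [IntertwiningMap.algebraMap_apply] at this
  ext v
  have h2 := congrArg (fun l : V →ₗ[ℂ] V => l v) this
  simp only [LinearMap.smul_apply, LinearMap.id_coe, id_eq] at h2 ⊢
  exact h2.symm

end Cfsg.Agent.Helper8
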