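import Mathlib
import Cfsg.Prelude.Def_Characters
import Cfsg.Prelude.Def_OddOrderChar
import Cfsg.Agent.Helper8.InducedSet
import Cfsg.Agent.S1516
import Cfsg.Agent.S1492

/-!
Descent of coherence along a central section (Peterfalvi 6.3).
-/

set_option autoImplicit false
set_option linter.unusedSectionVars false
set_option linter.style.haveILetI false
set_option linter.unusedSimpArgs false

namespace Cfsg.Agent.Helper8

open scoped ComplexConjugate

section Linear

variable {L : Type*} [Group L] [Fintype L] (K : Subgroup L) [hK : K.Normal] [Fintype K]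
  [Fintype (Cfsg.IrrCharacter K)]

/-- a solvable group has a non-principal linear character trivial on a proper normal subgroup -/
theorem exists_linear_irrAbove (hsolv : Group.IsSolvable K) {A : Subgroup L} [hA : A.Normal]
    (hAK : A < K) : ∃ θ ∈ irrAbove K A, (θ : K → ℂ) 1 = 1 := by
  classical
  haveI : (A.subgroupOf K).Normal := hA.subgroupOf K
  set N := A.subgroupOf K with hN
  have hNtop : N ≠ ⊤ := by
    intro h
    apply hAK.not_ge
    intro k hk
    have : (⟨k, hk⟩ : K) ∈ N := by rw [h]; exact Subgroup.mem_top _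
    exact Subgroup.mem_subgroupOf.mp this
  haveI : Nontrivial (K ⧸ N) := by
    rw [← not_subsingleton_iff_nontrivial]
    intro hsub
    apply hNtop
    exact QuotientGroup.subgroup_eq_top_of_subsingleton N hsub
  haveI : Group.IsSolvable (K ⧸ N) := inferInstance
  have hlt := Group.IsSolvable.commutator_lt_top_of_nontrivial (K ⧸ N)
  haveI : Nontrivial (Abelianization (K ⧸ N)) := by
    unfold Abelianization
    rw [← not_subsingleton_iff_nontrivial]
    intro hsub
    exact hlt.ne (QuotientGroup.subgroup_eq_top_of_subsingleton (commutator (K ⧸ N)) hsub)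
  obtain ⟨q, hq⟩ := exists_ne (1 : Abelianization (K ⧸ N))
  haveI : NeZero ((Monoid.exponent (Abelianization (K ⧸ N)) : ℕ) : ℂ) :=
    ⟨by exact_mod_cast Monoid.exponent_ne_zero_of_finite⟩
  obtain ⟨φ, hφ⟩ := CommGroup.exists_apply_ne_one_of_hasEnoughRootsOfUnity
    (Abelianization (K ⧸ N)) ℂ hq
  set lam : K →* ℂˣ := φ.comp (Abelianization.of.comp (QuotientGroup.mk' N)) with hlam
  have hirr := Cfsg.Agent.Helper24.isIrrCharacter_of_monoidHom ((Units.coeHom ℂ).comp lam)
  refine ⟨⟨fun k => (((Units.coeHom ℂ).comp lam) k : ℂ), hirr⟩, ?_, ?_⟩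
  · rw [mem_irrAbove]
    constructor
    · intro h
      apply hφ
      obtain ⟨q', rfl⟩ := QuotientGroup.mk_surjective q
      obtain ⟨k, rfl⟩ := QuotientGroup.mk_surjective q'
      have h1 := congrFun h k
      simp only [MonoidHom.coe_comp, Function.comp_apply, Units.coeHom_apply] at h1
      have h2 : (lam k : ℂ) = 1 := h1
      have h3 : lam k = 1 := Units.ext h2
      exact h3
    · intro a ha
      have ha' : a ∈ N := Subgroup.mem_subgroupOf.mpr ha
      have h1 : (QuotientGroup.mk' N) a = 1 := (QuotientGroup.eq_one_iff a).mpr ha'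
      simp only [MonoidHom.coe_comp, Function.comp_apply, Units.coeHom_apply, hlam, h1, map_one]
  · simp only [MonoidHom.coe_comp, Function.comp_apply, Units.coeHom_apply, map_one, Units.val_one]

end Linear

section Bound

variable {L : Type*} [Group L] [Fintype L] (K : Subgroup L) [hK : K.Normal] [Fintype K]
  [Fintype (Cfsg.IrrCharacter K)]

/-- the degree bound for characters induced from `irrAbove K B` when `D / B` is central in
`C / B` -/
theorem degree_bound_irrAbove {B C D : Subgroup L} [hB : B.Normal] (hBD : B ≤ D) (hDC : D ≤ C)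
    (hCK : C ≤ K) (hcent : ∀ x ∈ D, ∀ y ∈ C, x * y * x⁻¹ * y⁻¹ ∈ B) {θ : Cfsg.IrrCharacter K}
    (hθ : θ ∈ irrAbove K B) :
    (K.index * Cfsg.Agent.Helper24.irrDeg θ) ^ 2 ≤ C.index ^ 2 * D.relIndex C := by
  obtain ⟨-, hker⟩ := (mem_irrAbove K).mp hθ
  have h := Cfsg.Agent.S1492.result (θ : K → ℂ) θ.2 (B.subgroupOf K) (C.subgroupOf K)
    (D.subgroupOf K)
    (fun x hx => Subgroup.mem_subgroupOf.mpr (hBD (Subgroup.mem_subgroupOf.mp hx)))
    (fun x hx => Subgroup.mem_subgroupOf.mpr (hDC (Subgroup.mem_subgroupOf.mp hx)))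
    (fun c _ b hb => Subgroup.mem_subgroupOf.mpr (by
      have := hB.conj_mem _ (Subgroup.mem_subgroupOf.mp hb) (c : L)
      simpa using this))
    (fun d hd c hc => Subgroup.mem_subgroupOf.mpr (by
      have := hcent _ (Subgroup.mem_subgroupOf.mp hd) _ (Subgroup.mem_subgroupOf.mp hc)
      simpa using this))
    (fun b hb => hker b (Subgroup.mem_subgroupOf.mp hb))
  rw [Cfsg.Agent.Helper24.irrDeg_spec, Complex.norm_natCast, card_subgroupOf_of_le hCK,
    card_subgroupOf_of_le (hDC.trans hCK)] at h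
  have h' : (Cfsg.Agent.Helper24.irrDeg θ) ^ 2 * Nat.card C * Nat.card D ≤ (Nat.card K) ^ 2 := by
    exact_mod_cast h
  have e1 : K.index * Nat.card K = Nat.card L := Subgroup.index_mul_card K
  have e2 : C.index * Nat.card C = Nat.card L := Subgroup.index_mul_card C
  have e3 : D.index * Nat.card D = Nat.card L := Subgroup.index_mul_card D
  have e4 : D.relIndex C * C.index = D.index := Subgroup.relIndex_mul_index hDC
  have hpos : 0 < Nat.card C * Nat.card D := Nat.mul_pos Nat.card_pos Nat.card_pos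
  apply Nat.le_of_mul_le_mul_right _ hpos
  calc (K.index * Cfsg.Agent.Helper24.irrDeg θ) ^ 2 * (Nat.card C * Nat.card D)
      = K.index ^ 2 * ((Cfsg.Agent.Helper24.irrDeg θ) ^ 2 * Nat.card C * Nat.card D) := by ring
    _ ≤ K.index ^ 2 * (Nat.card K) ^ 2 := Nat.mul_le_mul_left _ h'
    _ = (K.index * Nat.card K) * (K.index * Nat.card K) := by ring
    _ = (C.index * Nat.card C) * (D.index * Nat.card D) := by rw [e1, e2, e3]
    _ = C.index ^ 2 * D.relIndex C * (Nat.card C * Nat.card D) := by rw [← e4]; ring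

end Bound

section Subset

variable {L G : Type*} [Group L] [Fintype L] [Group G] [Fintype G]

/-- coherence passes to subsets having a nonzero combination vanishing at `1` -/
theorem isCoherent_of_subset {T T' : Set (L → ℂ)} {τ : (L → ℂ) → (G → ℂ)} (hTT' : T ⊆ T')
    (h : Cfsg.IsCoherent T' {1}ᶜ τ) (hne : ∃ α ∈ Cfsg.zspanOn T {1}ᶜ, α ≠ 0) :
    Cfsg.IsCoherent T {1}ᶜ τ := by
  obtain ⟨-, τ₁, hiso, hag⟩ := h
  have hsub : Cfsg.zspan T ⊆ Cfsg.zspan T' := zspan_mono hTT'
  refine ⟨hne, τ₁, ⟨?_, ?_, ?_, ?_⟩, ?_⟩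
  · intro α hα β hβ
    exact hiso.1 α (hsub hα) β (hsub hβ)
  · intro α hα k
    exact hiso.2.1 α (hsub hα) k
  · intro α hα β hβ
    exact hiso.2.2.1 α (hsub hα) β (hsub hβ)
  · intro α hα
    exact hiso.2.2.2 α (hsub hα)
  · intro α hα
    exact hag α ⟨hsub hα.1, hα.2⟩

end Subset

section Main

variable {L G : Type*} [Group L] [Fintype L] [Group G] [Fintype G]

/-- **Descent of coherence along a central section** (Peterfalvi 6.3). -/
theorem coherence_central_step (K : Subgroup L) [hK : K.Normal] (hsolv : Group.IsSolvable K)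
    (τ : (L → ℂ) → (G → ℂ)) (R : (L → ℂ) → Finset (G → ℂ))
    (hS : Cfsg.IsCoherenceSystem (Cfsg.inducedIrrAbove K ⊥) τ R)
    (A B C D : Subgroup L) [A.Normal] [B.Normal] (hAK : A < K) (hBK : B < K) (hBD : B ≤ D)
    (hDC : D ≤ C) (hCK : C ≤ K) (hcent : ∀ x ∈ D, ∀ y ∈ C, x * y * x⁻¹ * y⁻¹ ∈ B)
    (hA : Cfsg.IsCoherent (Cfsg.inducedIrrAbove K A) {1}ᶜ τ)
    (hlt : 4 * C.index ^ 2 * D.relIndex C < (A.relIndex K - 1) ^ 2) :
    Cfsg.IsCoherent (Cfsg.inducedIrrAbove K B) {1}ᶜ τ := by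
  classical
  haveI : Fintype K := Fintype.ofFinite K
  haveI : Fintype (Cfsg.IrrCharacter K) :=
    @Fintype.ofFinite _ (Cfsg.Agent.Helper23.finite_irrCharacter K)
  haveI : Fintype (Cfsg.IrrCharacter L) :=
    @Fintype.ofFinite _ (Cfsg.Agent.Helper23.finite_irrCharacter L)
  set S := Cfsg.inducedIrrAbove K ⊥ with hSdef
  have hfinS : S.Finite :=
    finite_of_orthogonal hS.orthogonal (fun χ hχ => cs_norm_ne_zero hS hχ)
  have hAS : Cfsg.inducedIrrAbove K A ⊆ S := inducedIrrAbove_subset_bot K A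
  have hBS : Cfsg.inducedIrrAbove K B ⊆ S := inducedIrrAbove_subset_bot K B
  set SA : Finset (L → ℂ) := (hfinS.subset hAS).toFinset with hSAdef
  set SB : Finset (L → ℂ) := (hfinS.subset hBS).toFinset with hSBdef
  have hSA : (↑SA : Set (L → ℂ)) = Cfsg.inducedIrrAbove K A := Set.Finite.coe_toFinset _
  have hmemSA : ∀ φ, φ ∈ SA ↔ φ ∈ Cfsg.inducedIrrAbove K A := fun φ => Set.Finite.mem_toFinset _
  have hmemSB : ∀ φ, φ ∈ SB ↔ φ ∈ Cfsg.inducedIrrAbove K B := fun φ => Set.Finite.mem_toFinset _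
  -- degrees and norms
  have hdex : ∀ φ : L → ℂ, ∃ k : ℕ, φ ∈ S → φ 1 = (k : ℂ) := by
    intro φ
    by_cases hφ : φ ∈ S
    · obtain ⟨k, hk⟩ := char_degree_nat (hS.isCharacter φ hφ)
      exact ⟨k, fun _ => hk⟩
    · exact ⟨0, fun h => absurd h hφ⟩
  choose d hd using hdex
  have hnex : ∀ φ : L → ℂ, ∃ k : ℕ, φ ∈ S → Cfsg.classInner φ φ = (k : ℂ) := by
    intro φ
    by_cases hφ : φ ∈ S
    · obtain ⟨k, hk⟩ := Cfsg.Agent.Helper24.IsCharacter.classInner_nat (hS.isCharacter φ hφ)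
        (hS.isCharacter φ hφ)
      exact ⟨k, fun _ => hk⟩
    · exact ⟨0, fun h => absurd h hφ⟩
  choose n hn using hnex
  set e := K.index with he
  have hepos : 0 < e := Nat.pos_of_ne_zero Subgroup.index_ne_zero_of_finite
  have hdeg : ∀ θ : Cfsg.IrrCharacter K, Cfsg.indFun K (θ : K → ℂ) ∈ S →
      d (Cfsg.indFun K (θ : K → ℂ)) = e * Cfsg.Agent.Helper24.irrDeg θ := by
    intro θ hθ
    have h1 := hd _ hθ
    rw [Cfsg.Agent.Helper5.indFun_apply_one, Cfsg.Agent.Helper24.irrDeg_spec] at h1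
    exact_mod_cast h1.symm
  -- the character of minimal degree
  obtain ⟨θ₁, hθ₁, hθ₁1⟩ := exists_linear_irrAbove K hsolv hAK
  set χ₁ := Cfsg.indFun K (θ₁ : K → ℂ) with hχ₁def
  have hχ₁A : χ₁ ∈ Cfsg.inducedIrrAbove K A := (mem_inducedIrrAbove_iff K).mpr ⟨θ₁, hθ₁, rfl⟩
  have hχ₁SA : χ₁ ∈ SA := (hmemSA _).mpr hχ₁A
  have hdχ₁ : d χ₁ = e := by
    rw [hdeg θ₁ (hAS hχ₁A), (Cfsg.Agent.Helper24.irrDeg_eq_one_iff θ₁).mpr hθ₁1, mul_one]
  -- the sum over `SA`
  have hsumC := sum_degree_sq_div_norm K hAK.le SA hSA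
    (fun φ hφ ψ hψ hne => hS.orthogonal φ (hAS ((hmemSA φ).mp hφ)) ψ (hAS ((hmemSA ψ).mp hψ)) hne)
    (fun φ hφ => cs_norm_ne_zero hS (hAS ((hmemSA φ).mp hφ)))
  have hr1 : 1 ≤ A.relIndex K :=
    Nat.one_le_iff_ne_zero.mpr (Subgroup.index_ne_zero_of_finite (H := A.subgroupOf K))
  have hsumR : ∑ φ ∈ SA, ((d φ : ℝ) ^ 2 / (n φ : ℝ)) = (e : ℝ) * ((A.relIndex K : ℝ) - 1) := by
    apply Complex.ofReal_injective
    push_cast
    rw [← hsumC]
    apply Finset.sum_congr rfl
    intro φ hφ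
    have hφS := hAS ((hmemSA φ).mp hφ)
    rw [hd φ hφS, hn φ hφS]
  -- the bound for members of `SB`
  have hbound : ∀ χ ∈ SB, e ∣ d χ ∧ 2 * d χ < A.relIndex K - 1 := by
    intro χ hχ
    have hχS := hBS ((hmemSB _).mp hχ)
    obtain ⟨θ, hθ, rfl⟩ := (mem_inducedIrrAbove_iff K).mp ((hmemSB χ).mp hχ)
    rw [hdeg θ hχS]
    refine ⟨Dvd.intro _ rfl, ?_⟩
    have h1 := degree_bound_irrAbove K hBD hDC hCK hcent hθ
    have h2 : (2 * (e * Cfsg.Agent.Helper24.irrDeg θ)) ^ 2 < (A.relIndex K - 1) ^ 2 := by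
      calc (2 * (e * Cfsg.Agent.Helper24.irrDeg θ)) ^ 2
          = 4 * (e * Cfsg.Agent.Helper24.irrDeg θ) ^ 2 := by ring
        _ ≤ 4 * (C.index ^ 2 * D.relIndex C) := Nat.mul_le_mul_left _ h1
        _ = 4 * C.index ^ 2 * D.relIndex C := by ring
        _ < _ := hlt
    exact lt_of_pow_lt_pow_left₀ 2 (Nat.zero_le _) h2
  -- the iteration
  have key : ∀ m : ℕ, ∀ T : Finset (L → ℂ), T.card = m → SA ⊆ T → T ⊆ SA ∪ SB →
      (∀ φ ∈ T, Cfsg.conjFun φ ∈ T) → Cfsg.IsCoherent (↑T : Set (L → ℂ)) {1}ᶜ τ := by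
    intro m
    induction m using Nat.strong_induction_on with
    | _ m ih =>
    intro T hcard hSAT hTU hTc
    by_cases hTA : T = SA
    · rw [hTA, hSA]
      exact hA
    obtain ⟨χ, hχT, hχA⟩ : ∃ χ ∈ T, χ ∉ SA := by
      by_contra hcon
      push Not at hcon
      exact hTA (Finset.Subset.antisymm hcon hSAT)
    have hχB : χ ∈ SB := by
      rcases Finset.mem_union.mp (hTU hχT) with h | h
      · exact absurd h hχA
      · exact h
    have hχS : χ ∈ S := hBS ((hmemSB χ).mp hχB)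
    have hcT : Cfsg.conjFun χ ∈ T := hTc χ hχT
    have hcA : Cfsg.conjFun χ ∉ SA := by
      intro h
      apply hχA
      have h1 := inducedIrrAbove_conj_mem K A ((hmemSA _).mp h)
      rw [conjFun_conjFun] at h1
      exact (hmemSA χ).mpr h1
    set T' := (T.erase χ).erase (Cfsg.conjFun χ) with hT'
    have hT'sub : T' ⊆ T := (Finset.erase_subset _ _).trans (Finset.erase_subset _ _)
    have hmemT' : ∀ φ, φ ∈ T' ↔ φ ∈ T ∧ φ ≠ χ ∧ φ ≠ Cfsg.conjFun χ := by
      intro φ
      rw [hT', Finset.mem_erase, Finset.mem_erase]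
      tauto
    have hcard' : T'.card < m := by
      rw [← hcard]
      apply Finset.card_lt_card
      refine ⟨hT'sub, fun h => ?_⟩
      have h1 := h hχT
      rw [hmemT'] at h1
      exact h1.2.1 rfl
    have hSAT' : SA ⊆ T' := by
      intro φ hφ
      rw [hmemT']
      refine ⟨hSAT hφ, ?_, ?_⟩
      · rintro rfl
        exact hχA hφ
      · rintro rfl
        exact hcA hφ
    have hT'U : T' ⊆ SA ∪ SB := hT'sub.trans hTU
    have hT'c : ∀ φ ∈ T', Cfsg.conjFun φ ∈ T' := by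
      intro φ hφ
      rw [hmemT'] at hφ ⊢
      refine ⟨hTc φ hφ.1, ?_, ?_⟩
      · intro h
        apply hφ.2.2
        rw [← h, conjFun_conjFun]
      · intro h
        apply hφ.2.1
        have h1 := congrArg Cfsg.conjFun h
        rwa [conjFun_conjFun, conjFun_conjFun] at h1
    have hcoh' := ih T'.card hcard' T' rfl hSAT' hT'U hT'c
    have hT'S : (↑T' : Set (L → ℂ)) ⊆ S := by
      intro φ hφ
      rcases Finset.mem_union.mp (hT'U (Finset.mem_coe.mp hφ)) with h | h
      · exact hAS ((hmemSA φ).mp h)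
      · exact hBS ((hmemSB φ).mp h)
    have hχT' : χ ∉ T' := fun h => ((hmemT' χ).mp h).2.1 rfl
    have hcT' : Cfsg.conjFun χ ∉ T' := fun h => ((hmemT' _).mp h).2.2 rfl
    obtain ⟨hdvd, hlt2⟩ := hbound χ hχB
    have hineq : (2 * d χ * d χ₁ : ℝ) < ∑ φ ∈ T', ((d φ : ℝ) ^ 2 / (n φ : ℝ)) := by
      have h1 : ∑ φ ∈ SA, ((d φ : ℝ) ^ 2 / (n φ : ℝ))
          ≤ ∑ φ ∈ T', ((d φ : ℝ) ^ 2 / (n φ : ℝ)) := by
        apply Finset.sum_le_sum_of_subset_of_nonneg hSAT'
        intro φ _ _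
        positivity
      have h2 : (2 * d χ : ℝ) < (A.relIndex K : ℝ) - 1 := by
        have h3 : ((2 * d χ : ℕ) : ℝ) < ((A.relIndex K - 1 : ℕ) : ℝ) := by exact_mod_cast hlt2
        rw [Nat.cast_sub hr1] at h3
        push_cast at h3
        exact h3
      rw [hdχ₁]
      calc (2 * d χ * e : ℝ) = e * (2 * d χ) := by ring
        _ < e * ((A.relIndex K : ℝ) - 1) := by
            apply mul_lt_mul_of_pos_left h2
            exact_mod_cast hepos
        _ = ∑ φ ∈ SA, ((d φ : ℝ) ^ 2 / (n φ : ℝ)) := hsumR.symm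
        _ ≤ _ := h1
    have hres := Cfsg.Agent.S1516.result S τ R hS d n (fun φ hφ => hd φ hφ)
      (fun φ hφ => hn φ hφ) T' hT'S hT'c hcoh' χ hχS hχT' hcT' χ₁ (hSAT' hχ₁SA)
      (by rw [hdχ₁]; exact hdvd) hineq
    have hEq : (↑T' ∪ {χ, Cfsg.conjFun χ} : Set (L → ℂ)) = ↑T := by
      ext φ
      simp only [Set.mem_union, Finset.mem_coe, Set.mem_insert_iff, Set.mem_singleton_iff, hmemT']
      constructor
      · rintro (h | h | h)
        · exact h.1
        · rw [h]; exact hχT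
        · rw [h]; exact hcT
      · intro h
        by_cases h1 : φ = χ
        · exact Or.inr (Or.inl h1)
        by_cases h2 : φ = Cfsg.conjFun χ
        · exact Or.inr (Or.inr h2)
        · exact Or.inl ⟨h, h1, h2⟩
    rw [hEq] at hres
    exact hres
  have hUc : ∀ φ ∈ SA ∪ SB, Cfsg.conjFun φ ∈ SA ∪ SB := by
    intro φ hφ
    rcases Finset.mem_union.mp hφ with h | h
    · exact Finset.mem_union_left _
        ((hmemSA _).mpr (inducedIrrAbove_conj_mem K A ((hmemSA _).mp h)))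
    · exact Finset.mem_union_right _
        ((hmemSB _).mpr (inducedIrrAbove_conj_mem K B ((hmemSB _).mp h)))
  have hU := key _ (SA ∪ SB) rfl Finset.subset_union_left (Finset.Subset.refl _) hUc
  refine isCoherent_of_subset (T' := (↑(SA ∪ SB) : Set (L → ℂ))) ?_ hU ?_
  · intro φ hφ
    exact Finset.mem_coe.mpr (Finset.mem_union_right _ ((hmemSB φ).mpr hφ))
  · obtain ⟨θ, hθ, -⟩ := exists_linear_irrAbove K hsolv hBK
    have hχB : Cfsg.indFun K (θ : K → ℂ) ∈ Cfsg.inducedIrrAbove K B :=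
      (mem_inducedIrrAbove_iff K).mpr ⟨θ, hθ, rfl⟩
    have hχS := hBS hχB
    refine ⟨Cfsg.indFun K (θ : K → ℂ) - Cfsg.conjFun (Cfsg.indFun K (θ : K → ℂ)), ?_, ?_⟩
    · rw [mem_zspanOn_compl_one]
      refine ⟨zspan_sub_mem (mem_zspan_of_mem hχB)
        (mem_zspan_of_mem (inducedIrrAbove_conj_mem K B hχB)), ?_⟩
      have h1 := hd _ hχS
      rw [Pi.sub_apply, conjFun_apply_one_of_nat h1, h1, sub_self]
    · intro h
      exact hS.conj_ne _ hχS (sub_eq_zero.mp h).symm

end Main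

end Cfsg.Agent.Helper8
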