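import Mathlib
import Cfsg.Prelude.Def_Characters
import Cfsg.Prelude.Def_OddOrderChar
import Cfsg.Agent.Helper8.CoherenceStep

/-!
Descent of coherence through a nilpotent section (Peterfalvi 6.4).
-/

set_option autoImplicit false
set_option linter.unusedSectionVars false
set_option linter.style.haveILetI false

namespace Cfsg.Agent.Helper8

open scoped commutatorElement

section GroupTheory

variable {L : Type*} [Group L]

/-- `⁅B ⊔ Γ, H⁆ ≤ B ⊔ ⁅Γ, H⁆` for normal subgroups -/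
theorem commutator_sup_le_sup_commutator (B Γ H : Subgroup L) [hB : B.Normal] [Γ.Normal]
    [H.Normal] : ⁅B ⊔ Γ, H⁆ ≤ B ⊔ ⁅Γ, H⁆ := by
  rw [Subgroup.commutator_le]
  intro g hg h hh
  rw [← SetLike.mem_coe, Subgroup.normal_mul] at hg
  obtain ⟨b, hb, c, hc, rfl⟩ := hg
  rw [commutatorElement_mul_left_eq_conj_mul]
  have h1 : b * ⁅c, h⁆ * b⁻¹ ∈ ⁅Γ, H⁆ :=
    (inferInstance : (⁅Γ, H⁆ : Subgroup L).Normal).conj_mem _
      (Subgroup.commutator_mem_commutator hc hh) b
  have h2 : ⁅b, h⁆ ∈ B := by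
    rw [commutatorElement_def]
    have : b * h * b⁻¹ * h⁻¹ = b * (h * b⁻¹ * h⁻¹) := by group
    rw [this]
    exact B.mul_mem hb (hB.conj_mem _ (B.inv_mem hb) h)
  exact Subgroup.mul_mem _ (Subgroup.mem_sup_right h1) (Subgroup.mem_sup_left h2)

/-- a chief factor `N / B` of `L` inside a normal subgroup `H` with `H / M` nilpotent
(`M ≤ B`) is central in `H / B` -/
theorem commutator_le_of_chief {B N H M : Subgroup L} [B.Normal] [N.Normal] [H.Normal]
    (hBN : B ≤ N) (hNH : N ≤ H) (hMB : M ≤ B) (hnil : ∃ n, H.lowerCentralSeries n ≤ M)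
    (hmax : ∀ X : Subgroup L, X.Normal → B ≤ X → X ≤ N → X = B ∨ X = N) (hne : B ≠ N) :
    ⁅N, H⁆ ≤ B := by
  have hX : (B ⊔ ⁅N, H⁆ : Subgroup L).Normal := inferInstance
  rcases hmax (B ⊔ ⁅N, H⁆) hX le_sup_left (sup_le hBN (Subgroup.commutator_le_left N H)) with h | h
  · rw [← h]
    exact le_sup_right
  · exfalso
    apply hne
    obtain ⟨n, hn⟩ := hnil
    have key : ∀ i : ℕ, N ≤ B ⊔ H.lowerCentralSeries i := by
      intro i
      induction i with
      | zero =>
        rw [Subgroup.lowerCentralSeries_zero]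
        exact hNH.trans le_sup_right
      | succ i ih =>
        have h1 : ⁅N, H⁆ ≤ B ⊔ H.lowerCentralSeries (i + 1) := by
          calc ⁅N, H⁆ ≤ ⁅B ⊔ H.lowerCentralSeries i, H⁆ := Subgroup.commutator_mono ih le_rfl
            _ ≤ B ⊔ ⁅H.lowerCentralSeries i, H⁆ := commutator_sup_le_sup_commutator _ _ _
            _ = B ⊔ H.lowerCentralSeries (i + 1) := by rw [Subgroup.lowerCentralSeries_succ]
        calc N = B ⊔ ⁅N, H⁆ := h.symm
          _ ≤ B ⊔ H.lowerCentralSeries (i + 1) := sup_le le_sup_left h1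
    apply le_antisymm hBN
    calc N ≤ B ⊔ H.lowerCentralSeries n := key n
      _ ≤ B := sup_le le_rfl (hn.trans hMB)

/-- nilpotency of `H / M` in terms of the lower central series of `H` -/
theorem lowerCentralSeries_le_of_quotient_nilpotent {H M : Subgroup L}
    [hn : (M.subgroupOf H).Normal] (hnil : Group.IsNilpotent (↥H ⧸ M.subgroupOf H)) :
    ∃ n, H.lowerCentralSeries n ≤ M := by
  obtain ⟨n, hn⟩ := Subgroup.nilpotent_iff_lowerCentralSeries.mp hnil
  refine ⟨n, ?_⟩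
  have h1 : ((⊤ : Subgroup H).lowerCentralSeries n).map (QuotientGroup.mk' (M.subgroupOf H)) = ⊥ := by
    rw [Subgroup.map_lowerCentralSeries, ← MonoidHom.range_eq_map,
      MonoidHom.range_eq_top.mpr (QuotientGroup.mk'_surjective _), hn]
  have h2 : (⊤ : Subgroup H).lowerCentralSeries n ≤ M.subgroupOf H := by
    intro x hx
    have : (QuotientGroup.mk' (M.subgroupOf H)) x ∈ (⊥ : Subgroup (↥H ⧸ M.subgroupOf H)) := by
      rw [← h1]
      exact Subgroup.mem_map_of_mem _ hx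
    rw [Subgroup.mem_bot] at this
    exact (QuotientGroup.eq_one_iff x).mp this
  rw [← Subgroup.top_subtype_lowerCentralSeries]
  intro y hy
  obtain ⟨x, hx, rfl⟩ := hy
  exact Subgroup.mem_subgroupOf.mp (h2 hx)

variable [Finite L]

/-- a maximal normal subgroup of `L` below `N` and above `M` -/
theorem exists_chief_below {M N : Subgroup L} [hM : M.Normal] (hMN : M < N) :
    ∃ B : Subgroup L, B.Normal ∧ M ≤ B ∧ B < N ∧
      ∀ X : Subgroup L, X.Normal → B ≤ X → X ≤ N → X = B ∨ X = N := by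
  let 𝒳 : Set (Subgroup L) := {X | X.Normal ∧ M ≤ X ∧ X < N}
  obtain ⟨B, -, ⟨hBn, hMB, hBN⟩, hmax⟩ := (Set.toFinite 𝒳).exists_le_maximal (a := M)
    ⟨hM, le_rfl, hMN⟩
  refine ⟨B, hBn, hMB, hBN, ?_⟩
  intro X hXn hBX hXN
  by_cases hX : X = N
  · exact Or.inr hX
  · left
    have hX𝒳 : X ∈ 𝒳 := ⟨hXn, hMB.trans hBX, lt_of_le_of_ne hXN hX⟩
    exact le_antisymm (hmax hX𝒳 hBX) hBX

end GroupTheory

/-- the arithmetic behind the descent -/
theorem descent_arith (e k h : ℕ) (hk : 1 ≤ k) (hh : 4 * e ^ 2 + 1 < h) :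
    4 * (k * e) ^ 2 * h < (h * k - 1) ^ 2 := by
  obtain ⟨t, rfl⟩ : ∃ t, h = t + 1 := ⟨h - 1, by omega⟩
  have ht : 4 * e ^ 2 + 1 ≤ t := by omega
  have h1 : k * t ≤ (t + 1) * k - 1 := by
    have : (t + 1) * k = k * t + k := by ring
    omega
  have h2 : 4 * e ^ 2 * (t + 1) < t ^ 2 := by nlinarith
  calc 4 * (k * e) ^ 2 * (t + 1) = k ^ 2 * (4 * e ^ 2 * (t + 1)) := by ring
    _ < k ^ 2 * t ^ 2 := by
        apply Nat.mul_lt_mul_of_pos_left h2
        positivity
    _ = (k * t) ^ 2 := by ring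
    _ ≤ ((t + 1) * k - 1) ^ 2 := Nat.pow_le_pow_left h1 2

section Main

variable {L G : Type*} [Group L] [Fintype L] [Group G] [Fintype G]

/-- **Descent of coherence through a nilpotent section** (Peterfalvi 6.4). -/
theorem coherence_nilpotent_section (K : Subgroup L) [hK : K.Normal] (hsolv : Group.IsSolvable K)
    (τ : (L → ℂ) → (G → ℂ)) (R : (L → ℂ) → Finset (G → ℂ))
    (hS : Cfsg.IsCoherenceSystem (Cfsg.inducedIrrAbove K ⊥) τ R)
    (M H₁ H : Subgroup L) [hMn : M.Normal] [hH₁n : H₁.Normal] [hHn : H.Normal] (hMH₁ : M ≤ H₁)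
    (hH₁H : H₁ ≤ H) (hHK : H ≤ K) (hnil : ∃ n, H.lowerCentralSeries n ≤ M)
    (hcoh : Cfsg.IsCoherent (Cfsg.inducedIrrAbove K H₁) {1}ᶜ τ)
    (hbig : 4 * K.index ^ 2 + 1 < H₁.relIndex H) :
    Cfsg.IsCoherent (Cfsg.inducedIrrAbove K M) {1}ᶜ τ := by
  have key : ∀ m : ℕ, ∀ N : Subgroup L, Nat.card N = m → N.Normal → M ≤ N → N ≤ H₁ →
      Cfsg.IsCoherent (Cfsg.inducedIrrAbove K N) {1}ᶜ τ →
      Cfsg.IsCoherent (Cfsg.inducedIrrAbove K M) {1}ᶜ τ := by
    intro m
    induction m using Nat.strong_induction_on with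
    | _ m ih =>
    intro N hcard hNn hMN hNH₁ hN
    by_cases hNM : N = M
    · rw [← hNM]
      exact hN
    have hMltN : M < N := lt_of_le_of_ne hMN (Ne.symm hNM)
    obtain ⟨B, hBn, hMB, hBN, hmax⟩ := exists_chief_below hMltN
    haveI := hBn
    haveI := hNn
    have hNH : N ≤ H := hNH₁.trans hH₁H
    have hcomm : ⁅N, H⁆ ≤ B := commutator_le_of_chief hBN.le hNH hMB hnil hmax hBN.ne
    have hcent : ∀ x ∈ N, ∀ y ∈ H, x * y * x⁻¹ * y⁻¹ ∈ B := by
      intro x hx y hy
      have h1 := Subgroup.commutator_le.mp hcomm x hx y hy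
      rwa [commutatorElement_def] at h1
    have hNK : N < K := by
      refine lt_of_le_of_ne (hNH.trans hHK) ?_
      intro h
      have h1 : H ≤ H₁ := by
        rw [← h] at hHK
        exact hHK.trans hNH₁
      have h2 : H₁.relIndex H = 1 := Subgroup.relIndex_eq_one.mpr h1
      rw [h2] at hbig
      omega
    have hBK : B < K := hBN.trans hNK
    have e1 : H.relIndex K * K.index = H.index := Subgroup.relIndex_mul_index hHK
    have e2 : N.relIndex H * H.relIndex K = N.relIndex K := Subgroup.relIndex_mul_relIndex N H K hNH hHK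
    have e3 : N.relIndex H₁ * H₁.relIndex H = N.relIndex H :=
      Subgroup.relIndex_mul_relIndex N H₁ H hNH₁ hH₁H
    have hk1 : 1 ≤ H.relIndex K :=
      Nat.one_le_iff_ne_zero.mpr (Subgroup.index_ne_zero_of_finite (H := H.subgroupOf K))
    have hh1 : 1 ≤ N.relIndex H₁ :=
      Nat.one_le_iff_ne_zero.mpr (Subgroup.index_ne_zero_of_finite (H := N.subgroupOf H₁))
    have hh : 4 * K.index ^ 2 + 1 < N.relIndex H := by
      rw [← e3]
      calc 4 * K.index ^ 2 + 1 < H₁.relIndex H := hbig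
        _ ≤ N.relIndex H₁ * H₁.relIndex H := Nat.le_mul_of_pos_left _ hh1
    have hlt : 4 * H.index ^ 2 * N.relIndex H < (N.relIndex K - 1) ^ 2 := by
      rw [← e1, ← e2]
      exact descent_arith K.index (H.relIndex K) (N.relIndex H) hk1 hh
    have hB := coherence_central_step K hsolv τ R hS N B H N hNK hBK hBN.le hNH hHK hcent hN hlt
    have hcardB : Nat.card B < m := by
      rw [← hcard]
      apply lt_of_le_of_ne (Subgroup.card_le_of_le hBN.le)
      intro heq
      exact hBN.ne (Subgroup.eq_of_le_of_card_ge hBN.le heq.ge)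
    exact ih (Nat.card B) hcardB B rfl hBn hMB (hBN.le.trans hNH₁) hB
  exact key _ H₁ rfl hH₁n hMH₁ le_rfl hcoh

end Main

end Cfsg.Agent.Helper8
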