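import Mathlib
import Cfsg.Prelude.Def_Characters
import Cfsg.Prelude.Def_OddOrderChar
import Cfsg.Agent.Helper8.NilpotentSection
import Cfsg.Agent.Helper8.UniformDegree
import Cfsg.Agent.Helper8.FrobQuot
import Cfsg.Agent.Helper8.NilpAb
import Cfsg.Agent.Helper24.Codegree
import Cfsg.Agent.Helper5.IndFun

/-!
Coherence of the characters induced from a Frobenius-type kernel (Peterfalvi 6.6).
-/

set_option autoImplicit false
set_option linter.unusedSectionVars false
set_option linter.style.haveILetI false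

namespace Cfsg.Agent.Helper8

open scoped commutatorElement

section Translate

variable {L : Type*} [Group L] (K M : Subgroup L) [hKn : K.Normal] [hMn : (M.subgroupOf K).Normal]

/-- the commutator subgroup of `K / M` has index `|K : K'M|` -/
theorem index_commutator_quotient (hMK : M ≤ K) :
    (commutator (↥K ⧸ M.subgroupOf K)).index = (⁅K, K⁆ ⊔ M).relIndex K := by
  have h1 : commutator (↥K ⧸ M.subgroupOf K)
      = (commutator K).map (QuotientGroup.mk' (M.subgroupOf K)) := by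
    rw [commutator_def, commutator_def, Subgroup.map_commutator, ← MonoidHom.range_eq_map,
      MonoidHom.range_eq_top.mpr (QuotientGroup.mk'_surjective _)]
  have hcK : ⁅K, K⁆ ≤ K := Subgroup.commutator_le_left K K
  have h2 : (⁅K, K⁆).subgroupOf K = commutator K := by
    rw [← Subgroup.map_subtype_commutator K]
    exact Subgroup.comap_map_eq_self_of_injective K.subtype_injective _
  rw [h1, Subgroup.index_map, MonoidHom.range_eq_top.mpr (QuotientGroup.mk'_surjective _),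
    Subgroup.index_top, mul_one, QuotientGroup.ker_mk']
  unfold Subgroup.relIndex
  rw [Subgroup.subgroupOf_sup hcK hMK, h2]

/-- if `K / M` is abelian then `K' ≤ M` -/
theorem commutator_le_of_quotient_commutator_eq_bot (hMK : M ≤ K)
    (h : commutator (↥K ⧸ M.subgroupOf K) = ⊥) : ⁅K, K⁆ ≤ M := by
  have h1 : commutator (↥K ⧸ M.subgroupOf K)
      = (commutator K).map (QuotientGroup.mk' (M.subgroupOf K)) := by
    rw [commutator_def, commutator_def, Subgroup.map_commutator, ← MonoidHom.range_eq_map,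
      MonoidHom.range_eq_top.mpr (QuotientGroup.mk'_surjective _)]
  rw [h1, Subgroup.map_eq_bot_iff, QuotientGroup.ker_mk'] at h
  rw [← Subgroup.map_subtype_commutator K]
  intro x hx
  obtain ⟨y, hy, rfl⟩ := hx
  exact Subgroup.mem_subgroupOf.mp (h hy)

end Translate

section Sub

variable {L G : Type*} [Group L] [Fintype L] [Group G] [Fintype G]

/-- a nonempty conjugation-closed subset of a coherence system is a coherence system -/
theorem cs_subsystem {S T : Set (L → ℂ)} {τ : (L → ℂ) → (G → ℂ)} {R : (L → ℂ) → Finset (G → ℂ)}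
    (hS : Cfsg.IsCoherenceSystem S τ R) (hTS : T ⊆ S) (hne : T.Nonempty)
    (hconj : ∀ χ ∈ T, Cfsg.conjFun χ ∈ T) : Cfsg.IsCoherenceSystem T τ R := by
  have hsub : Cfsg.zspanOn T {1}ᶜ ⊆ Cfsg.zspanOn S {1}ᶜ :=
    fun α hα => ⟨zspan_mono hTS hα.1, hα.2⟩
  refine ⟨hne, fun χ hχ => hS.isCharacter χ (hTS hχ), hconj, fun χ hχ => hS.conj_ne χ (hTS hχ),
    ⟨?_, ?_, ?_, ?_⟩, fun α hα => hS.map_one α (hsub hα),
    fun χ hχ φ hφ => hS.orthogonal χ (hTS hχ) φ (hTS hφ),
    fun χ hχ => hS.orthonormal χ (hTS hχ), fun χ hχ => hS.virtual χ (hTS hχ),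
    fun χ hχ => hS.sum_eq χ (hTS hχ),
    fun χ hχ φ hφ => hS.disjoint χ (hTS hχ) φ (hTS hφ)⟩
  · intro α hα β hβ
    exact hS.isometry.1 α (hsub hα) β (hsub hβ)
  · intro α hα k
    exact hS.isometry.2.1 α (hsub hα) k
  · intro α hα β hβ
    exact hS.isometry.2.2.1 α (hsub hα) β (hsub hβ)
  · intro α hα
    exact hS.isometry.2.2.2 α (hsub hα)

end Sub

section Linear

/-- an irreducible character whose kernel contains the commutator subgroup is linear -/
theorem irr_degree_one_of_commutator_le_ker {K : Type*} [Group K] [Finite K]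
    (θ : Cfsg.IrrCharacter K) (h : ∀ a ∈ commutator K, (θ : K → ℂ) a = (θ : K → ℂ) 1) :
    (θ : K → ℂ) 1 = 1 := by
  obtain ⟨N, hNn, hmem, χ', hχ'⟩ := Cfsg.Agent.Helper24.exists_kernel_quotient θ
  have hcomm : ∀ a b : K ⧸ N, a * b = b * a := by
    intro a b
    induction a using QuotientGroup.induction_on with
    | H a =>
      induction b using QuotientGroup.induction_on with
      | H b =>
        rw [← QuotientGroup.mk_mul, ← QuotientGroup.mk_mul, QuotientGroup.eq]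
        rw [hmem]
        apply h
        have : (a * b)⁻¹ * (b * a) = ⁅b⁻¹, a⁻¹⁆ := by
          rw [commutatorElement_def]
          group
        rw [this, commutator_eq_closure]
        exact Subgroup.subset_closure ⟨_, _, rfl⟩
  have h1 := (Cfsg.Agent.Helper24.comm_iff_forall_irr_one (G := K ⧸ N)).mp hcomm χ'
  have h2 := hχ' 1
  rw [← h2]
  exact h1

end Linear

section Arith

theorem two_mul_add_one_le_of_dvd {e r : ℕ} (he : Odd e) (hr : Odd r) (hr1 : 1 < r)
    (hd : e ∣ r - 1) : 2 * e + 1 ≤ r := by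
  obtain ⟨s, hs⟩ := hd
  have hs1 : r = e * s + 1 := by omega
  have hseven : Even s := by
    by_contra hodd
    rw [Nat.not_even_iff_odd] at hodd
    have : Odd (e * s) := he.mul hodd
    have h2 : Even (e * s + 1) := this.add_one
    rw [← hs1] at h2
    exact (Nat.not_even_iff_odd.mpr hr) h2
  obtain ⟨t, ht⟩ := hseven
  have ht1 : 1 ≤ t := by
    rcases Nat.eq_zero_or_pos t with h | h
    · subst h
      simp at ht
      subst ht
      omega
    · exact h
  have : e * s = e * t + e * t := by rw [ht]; ring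
  nlinarith

theorem frob_arith {e r₁ r₂ : ℕ} (he : Odd e) (h1 : Odd r₁) (h2 : Odd r₂) (hr1 : 1 < r₁)
    (hr2 : 1 < r₂) (d1 : e ∣ r₁ - 1) (d2 : e ∣ r₁ * r₂ - 1) : 4 * e ^ 2 + 1 < r₁ * r₂ := by
  have hd2 : e ∣ r₂ - 1 := by
    have e1 : r₁ * r₂ - 1 = (r₁ - 1) * r₂ + (r₂ - 1) := by
      have : r₁ * r₂ = (r₁ - 1) * r₂ + r₂ := by
        have : r₁ = (r₁ - 1) + 1 := by omega
        nth_rewrite 1 [this]
        ring
      omega
    rw [e1] at d2
    exact (Nat.dvd_add_right (Dvd.dvd.mul_right d1 r₂)).mp d2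
  have b1 := two_mul_add_one_le_of_dvd he h1 hr1 d1
  have b2 := two_mul_add_one_le_of_dvd he h2 hr2 hd2
  have he1 : 1 ≤ e := he.pos
  calc 4 * e ^ 2 + 1 < (2 * e + 1) * (2 * e + 1) := by nlinarith
    _ ≤ r₁ * r₂ := Nat.mul_le_mul b1 b2

theorem prime_exponent_one {e p j : ℕ} (hp : p.Prime) (hpodd : Odd p) (he : Odd e)
    (hdvd : e ∣ p - 1) (hj : 1 ≤ j) (hle : p ^ j ≤ 4 * e ^ 2 + 1) : j = 1 := by
  have b := two_mul_add_one_le_of_dvd he hpodd hp.one_lt hdvd
  by_contra hne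
  have hj2 : 2 ≤ j := by omega
  have h1 : p ^ 2 ≤ p ^ j := Nat.pow_le_pow_right hp.pos hj2
  have h2 : (2 * e + 1) ^ 2 ≤ p ^ 2 := Nat.pow_le_pow_left b 2
  have he1 : 1 ≤ e := he.pos
  nlinarith

end Arith

section PowSub

variable {L : Type*} [Group L] (K H₁ : Subgroup L) [hKn : K.Normal] [hHn : H₁.Normal]

/-- images of elements of `K` commute in `K / H₁` when `K' ≤ H₁` -/
theorem commute_mk_of_commutator_le (hcomm : ⁅K, K⁆ ≤ H₁) (k₁ k₂ : K) :
    Commute (QuotientGroup.mk' (H₁.subgroupOf K) k₁) (QuotientGroup.mk' (H₁.subgroupOf K) k₂) := by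
  show _ * _ = _ * _
  rw [← map_mul, ← map_mul, QuotientGroup.mk'_apply, QuotientGroup.mk'_apply, QuotientGroup.eq,
    Subgroup.mem_subgroupOf]
  apply hcomm
  have : (((k₁ * k₂)⁻¹ * (k₂ * k₁) : K) : L) = ⁅(k₂ : L)⁻¹, (k₁ : L)⁻¹⁆ := by
    rw [commutatorElement_def]
    push_cast
    group
  rw [this]
  exact Subgroup.commutator_mem_commutator (K.inv_mem k₂.2) (K.inv_mem k₁.2)

/-- the elements of `K` whose `n`-th power lies in `H₁` -/
def powSub (hcomm : ⁅K, K⁆ ≤ H₁) (n : ℕ) : Subgroup L where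
  carrier := {g | g ∈ K ∧ g ^ n ∈ H₁}
  one_mem' := ⟨K.one_mem, by rw [one_pow]; exact H₁.one_mem⟩
  mul_mem' := by
    rintro g₁ g₂ ⟨h1, h1'⟩ ⟨h2, h2'⟩
    refine ⟨K.mul_mem h1 h2, ?_⟩
    have hc := commute_mk_of_commutator_le K H₁ hcomm ⟨g₁, h1⟩ ⟨g₂, h2⟩
    have e1 : QuotientGroup.mk' (H₁.subgroupOf K) ((⟨g₁, h1⟩ * ⟨g₂, h2⟩ : K) ^ n) = 1 := by
      rw [map_pow, map_mul, hc.mul_pow, ← map_pow, ← map_pow]
      have a1 : QuotientGroup.mk' (H₁.subgroupOf K) ((⟨g₁, h1⟩ : K) ^ n) = 1 :=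
        (QuotientGroup.eq_one_iff _).mpr (Subgroup.mem_subgroupOf.mpr h1')
      have a2 : QuotientGroup.mk' (H₁.subgroupOf K) ((⟨g₂, h2⟩ : K) ^ n) = 1 :=
        (QuotientGroup.eq_one_iff _).mpr (Subgroup.mem_subgroupOf.mpr h2')
      rw [a1, a2, one_mul]
    have e2 := Subgroup.mem_subgroupOf.mp ((QuotientGroup.eq_one_iff _).mp e1)
    exact e2
  inv_mem' := by
    rintro g ⟨h1, h1'⟩
    refine ⟨K.inv_mem h1, ?_⟩
    rw [inv_pow]
    exact H₁.inv_mem h1'

theorem mem_powSub (hcomm : ⁅K, K⁆ ≤ H₁) (n : ℕ) {g : L} :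
    g ∈ powSub K H₁ hcomm n ↔ g ∈ K ∧ g ^ n ∈ H₁ := Iff.rfl

instance powSub_normal (hcomm : ⁅K, K⁆ ≤ H₁) (n : ℕ) : (powSub K H₁ hcomm n).Normal where
  conj_mem := by
    rintro g ⟨h1, h1'⟩ x
    refine ⟨hKn.conj_mem g h1 x, ?_⟩
    rw [conj_pow]
    exact hHn.conj_mem _ h1' x

/-- Cauchy's theorem in `K / H₁` -/
theorem exists_mem_pow_mem [Finite L] {q : ℕ} (hq : q.Prime) (hdvd : q ∣ H₁.relIndex K) :
    ∃ k ∈ K, k ∉ H₁ ∧ k ^ q ∈ H₁ := by
  haveI : Fact q.Prime := ⟨hq⟩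
  have hcard : q ∣ Nat.card (↥K ⧸ H₁.subgroupOf K) := by
    rw [← Subgroup.index_eq_card]
    exact hdvd
  obtain ⟨v, hv⟩ := exists_prime_orderOf_dvd_card' q hcard
  obtain ⟨k, rfl⟩ := QuotientGroup.mk_surjective v
  refine ⟨k, k.2, ?_, ?_⟩
  · intro hk
    have h1 : (QuotientGroup.mk k : ↥K ⧸ H₁.subgroupOf K) = 1 :=
      (QuotientGroup.eq_one_iff k).mpr (Subgroup.mem_subgroupOf.mpr hk)
    rw [h1, orderOf_one] at hv
    exact hq.one_lt.ne hv
  · have h1 : (QuotientGroup.mk k : ↥K ⧸ H₁.subgroupOf K) ^ q = 1 := by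
      rw [← hv]
      exact pow_orderOf_eq_one _
    rw [← QuotientGroup.mk_pow] at h1
    have h2 := Subgroup.mem_subgroupOf.mp ((QuotientGroup.eq_one_iff _).mp h1)
    exact h2

/-- if every `p`-th power of an element of `K` lies in `H₁`, then `|K : H₁|` is a power of `p` -/
theorem relIndex_eq_prime_pow [Finite L] {p : ℕ} (hp : p.Prime) (hH₁K : H₁ ≤ K)
    (hpow : ∀ k ∈ K, k ^ p ∈ H₁) : ∃ j : ℕ, H₁.relIndex K = p ^ j := by
  have hne : H₁.relIndex K ≠ 0 := Subgroup.index_ne_zero_of_finite (H := H₁.subgroupOf K)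
  refine ⟨_, Nat.eq_prime_pow_of_unique_prime_dvd hne ?_⟩
  intro q hq hqd
  obtain ⟨k, hkK, hkH, hkq⟩ := exists_mem_pow_mem K H₁ hq hqd
  by_contra hqp
  have hcop : Nat.Coprime q p := (Nat.coprime_primes hq hp).mpr hqp
  obtain ⟨a, b, hab⟩ : ∃ a b : ℤ, (q : ℤ) * a + (p : ℤ) * b = 1 := by
    have := Nat.Coprime.isCoprime hcop
    obtain ⟨a, b, h⟩ := this
    exact ⟨a, b, by linarith⟩
  apply hkH
  have h1 : k = (k ^ q) ^ a * (k ^ p) ^ b := by
    rw [← zpow_natCast, ← zpow_natCast, ← zpow_mul, ← zpow_mul, ← zpow_add, hab, zpow_one]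
  rw [h1]
  exact H₁.mul_mem (H₁.zpow_mem hkq a) (H₁.zpow_mem (hpow k hkK) b)

end PowSub

section Main

variable {L G : Type*} [Group L] [Fintype L] [Group G] [Fintype G]

/-- the characters induced from linear characters of `K` (kernel above `K'`) form a coherent set -/
theorem coherent_above_commutator (K : Subgroup L) [hK : K.Normal] (hsolv : Group.IsSolvable K)
    (τ : (L → ℂ) → (G → ℂ)) (R : (L → ℂ) → Finset (G → ℂ))
    (hS : Cfsg.IsCoherenceSystem (Cfsg.inducedIrrAbove K ⊥) τ R)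
    (H₁ : Subgroup L) [hHn : H₁.Normal] (hcomm : ⁅K, K⁆ ≤ H₁) (hH₁K : H₁ < K) :
    Cfsg.IsCoherent (Cfsg.inducedIrrAbove K H₁) {1}ᶜ τ := by
  classical
  haveI : Fintype K := Fintype.ofFinite K
  haveI : Fintype (Cfsg.IrrCharacter K) :=
    @Fintype.ofFinite _ (Cfsg.Agent.Helper23.finite_irrCharacter K)
  have hsys : Cfsg.IsCoherenceSystem (Cfsg.inducedIrrAbove K H₁) τ R := by
    apply cs_subsystem hS (inducedIrrAbove_subset_bot K H₁)
    · obtain ⟨θ, hθ, _⟩ := exists_linear_irrAbove K hsolv hH₁K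
      exact ⟨_, (mem_inducedIrrAbove_iff K).mpr ⟨θ, hθ, rfl⟩⟩
    · intro χ hχ
      exact inducedIrrAbove_conj_mem K H₁ hχ
  apply uniform_degree_coherent hsys
  have hdeg : ∀ φ ∈ Cfsg.inducedIrrAbove K H₁, φ 1 = (K.index : ℂ) := by
    rintro φ ⟨θ, hθ, hne, hker, rfl⟩
    rw [Cfsg.Agent.Helper5.indFun_apply_one]
    have h1 : (θ : K → ℂ) 1 = 1 := by
      apply irr_degree_one_of_commutator_le_ker (⟨θ, hθ⟩ : Cfsg.IrrCharacter K)
      intro a ha
      apply hker a
      apply hcomm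
      rw [← Subgroup.map_subtype_commutator K]
      exact ⟨a, ha, rfl⟩
    rw [h1, mul_one]
  intro φ hφ ψ hψ
  rw [hdeg φ hφ, hdeg ψ hψ]

theorem one_lt_relIndex_of_lt {A B : Subgroup L} (h : A < B) : 1 < A.relIndex B := by
  have h0 : A.relIndex B ≠ 0 := Subgroup.index_ne_zero_of_finite (H := A.subgroupOf B)
  have h1 : A.relIndex B ≠ 1 := fun h1 => h.not_ge (Subgroup.relIndex_eq_one.mp h1)
  omega

theorem odd_relIndex (hodd : Odd (Nat.card L)) (A B : Subgroup L) : Odd (A.relIndex B) := by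
  apply hodd.of_dvd_nat
  exact ((A.subgroupOf B).index_dvd_card).trans (Subgroup.card_subgroup_dvd_card B)

/-- **Coherence for the characters of a Frobenius-type kernel** (Peterfalvi 6.6). -/
theorem coherence_kernel (K : Subgroup L) [hK : K.Normal] (hsolv : Group.IsSolvable K)
    (τ : (L → ℂ) → (G → ℂ)) (R : (L → ℂ) → Finset (G → ℂ))
    (hS : Cfsg.IsCoherenceSystem (Cfsg.inducedIrrAbove K ⊥) τ R) (hodd : Odd (Nat.card L))
    (M : Subgroup L) [hMn : M.Normal] (hMK : M ≤ K) [hMKn : (M.subgroupOf K).Normal]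
    (hnil : Group.IsNilpotent (↥K ⧸ M.subgroupOf K)) (H₁ : Subgroup L) (hH₁ : H₁ = ⁅K, K⁆ ⊔ M)
    (hH₁K : H₁ < K)
    (hfrob : ∀ k ∈ K, k ∉ H₁ → ∀ x : L, x * k * x⁻¹ * k⁻¹ ∈ H₁ → x ∈ K)
    (hgood : (∃ N : Subgroup L, N.Normal ∧ H₁ < N ∧ N < K) ∨ 4 * K.index ^ 2 + 1 < H₁.relIndex K ∨
      (¬ ∃ p m : ℕ, p.Prime ∧ M.relIndex K = p ^ m) ∨ ⁅K, K⁆ ≤ M ∨
      (∃ p m : ℕ, p.Prime ∧ M.relIndex K = p ^ m ∧ K.index ∣ p - 1)) :
    Cfsg.IsCoherent (Cfsg.inducedIrrAbove K M) {1}ᶜ τ := by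
  classical
  haveI hcn : (⁅K, K⁆ : Subgroup L).Normal := Subgroup.commutator_normal K K
  haveI hH₁n : H₁.Normal := by
    rw [hH₁]
    exact Subgroup.sup_normal _ _
  have hcomm : ⁅K, K⁆ ≤ H₁ := by
    rw [hH₁]
    exact le_sup_left
  have hMH₁ : M ≤ H₁ := by
    rw [hH₁]
    exact le_sup_right
  have hcohH₁ := coherent_above_commutator K hsolv τ R hS H₁ hcomm hH₁K
  have hidx : (commutator (↥K ⧸ M.subgroupOf K)).index = H₁.relIndex K := by
    rw [index_commutator_quotient K M hMK, hH₁]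
  have hr1 : 1 < H₁.relIndex K := one_lt_relIndex_of_lt hH₁K
  have hoddK : Odd K.index := hodd.of_dvd_nat K.index_dvd_card
  -- the large-index case
  have caseB : 4 * K.index ^ 2 + 1 < H₁.relIndex K →
      Cfsg.IsCoherent (Cfsg.inducedIrrAbove K M) {1}ᶜ τ := fun hbig =>
    coherence_nilpotent_section K hsolv τ R hS M H₁ K hMH₁ hH₁K.le le_rfl
      (lowerCentralSeries_le_of_quotient_nilpotent hnil) hcohH₁ hbig
  -- the abelian case
  have caseD : ⁅K, K⁆ ≤ M → Cfsg.IsCoherent (Cfsg.inducedIrrAbove K M) {1}ᶜ τ := by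
    intro h
    have e : H₁ = M := by
      rw [hH₁]
      exact sup_eq_right.mpr h
    rw [← e]
    exact hcohH₁
  -- an intermediate normal subgroup forces a large index
  have caseA : (∃ N : Subgroup L, N.Normal ∧ H₁ < N ∧ N < K) →
      4 * K.index ^ 2 + 1 < H₁.relIndex K := by
    rintro ⟨N, hNn, hH₁N, hNK⟩
    haveI := hNn
    have d1 := index_dvd_relIndex_sub_one K N H₁ hNK.le hcomm hfrob
    have d2 := index_dvd_relIndex_sub_one K K H₁ le_rfl hcomm hfrob
    have hmul : H₁.relIndex N * N.relIndex K = H₁.relIndex K :=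
      Subgroup.relIndex_mul_relIndex H₁ N K hH₁N.le hNK.le
    rw [← hmul] at d2 ⊢
    exact frob_arith hoddK (odd_relIndex hodd _ _) (odd_relIndex hodd _ _)
      (one_lt_relIndex_of_lt hH₁N) (one_lt_relIndex_of_lt hNK) d1 d2
  rcases hgood with hA | hB | hC | hD | hE
  · exact caseB (caseA hA)
  · exact caseB hB
  · by_cases hA : ∃ N : Subgroup L, N.Normal ∧ H₁ < N ∧ N < K
    · exact caseB (caseA hA)
    exfalso
    apply hC
    obtain ⟨p, hp, hpd⟩ := Nat.exists_prime_and_dvd hr1.ne'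
    obtain ⟨k₀, hk₀K, hk₀H, hk₀p⟩ := exists_mem_pow_mem K H₁ hp hpd
    have hle1 : H₁ ≤ powSub K H₁ hcomm p := by
      intro h hh
      exact ⟨hH₁K.le hh, H₁.pow_mem hh p⟩
    have hlt1 : H₁ < powSub K H₁ hcomm p := by
      refine lt_of_le_of_ne hle1 ?_
      intro e
      apply hk₀H
      rw [e]
      exact ⟨hk₀K, hk₀p⟩
    have hle2 : powSub K H₁ hcomm p ≤ K := fun g hg => hg.1
    have heq : powSub K H₁ hcomm p = K := by
      by_contra hne
      exact hA ⟨_, powSub_normal K H₁ hcomm p, hlt1, lt_of_le_of_ne hle2 hne⟩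
    have hpow : ∀ k ∈ K, k ^ p ∈ H₁ := by
      intro k hk
      rw [← heq] at hk
      exact hk.2
    obtain ⟨j, hj⟩ := relIndex_eq_prime_pow K H₁ hp hH₁K.le hpow
    have hne0 : M.relIndex K ≠ 0 := Subgroup.index_ne_zero_of_finite (H := M.subgroupOf K)
    refine ⟨p, _, hp, Nat.eq_prime_pow_of_unique_prime_dvd hne0 ?_⟩
    intro q hq hqd
    have hqd' : q ∣ Nat.card (↥K ⧸ M.subgroupOf K) := by
      rw [← Subgroup.index_eq_card]
      exact hqd
    have h1 := prime_dvd_index_commutator_of_nilpotent hq hqd'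
    rw [hidx, hj] at h1
    exact (Nat.prime_dvd_prime_iff_eq hq hp).mp (hq.dvd_of_dvd_pow h1)
  · exact caseD hD
  · obtain ⟨p, m, hp, hpm, hdiv⟩ := hE
    by_cases hB : 4 * K.index ^ 2 + 1 < H₁.relIndex K
    · exact caseB hB
    apply caseD
    have hle : H₁.relIndex K ≤ 4 * K.index ^ 2 + 1 := not_lt.mp hB
    have hdvd : H₁.relIndex K ∣ p ^ m := by
      rw [← hpm]
      exact Subgroup.relIndex_dvd_of_le_left K hMH₁
    obtain ⟨j, _, hj⟩ := (Nat.dvd_prime_pow hp).mp hdvd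
    have hj1 : 1 ≤ j := by
      rcases Nat.eq_zero_or_pos j with h | h
      · rw [h, pow_zero] at hj
        omega
      · exact h
    have hpodd : Odd p := by
      apply (odd_relIndex hodd H₁ K).of_dvd_nat
      rw [hj]
      exact dvd_pow_self p (by omega)
    rw [hj] at hle
    have hj' := prime_exponent_one hp hpodd hoddK hdiv hj1 hle
    rw [hj', pow_one] at hj
    have hbot := commutator_eq_bot_of_prime_index hp (hidx.trans hj)
    exact commutator_le_of_quotient_commutator_eq_bot K M hMK hbot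

end Main

end Cfsg.Agent.Helper8
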