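import Cfsg.Agent.Helper5.TDDefs
import Cfsg.Agent.Helper29.GalConjC

set_option autoImplicit false

/-!
# S4460 piece DY1: Case Y set-up (`p ∣ |G : P|`)
-/

namespace Cfsg.Agent.Helper8.TD

open Cfsg Cfsg.Agent.Helper24 Cfsg.Agent.Helper29.TwoDeg Cfsg.Agent.Helper5.TD
open scoped ComplexConjugate commutatorElement

universe u

/-- An abelian normal subgroup of order divisible by `p` contains a nontrivial normal
`p`-subgroup (its `p`-torsion). -/
theorem torsion_false {X : Type u} [Group X] [Finite X] {p : ℕ} (hp : p.Prime)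
    (hOp : ∀ Q : Subgroup X, Q.Normal → IsPGroup p Q → Q = ⊥)
    (A : Subgroup X) [hA : A.Normal] (hab : ∀ a ∈ A, ∀ b ∈ A, a * b = b * a)
    (hpA : p ∣ Nat.card A) : False := by
  classical
  have : Fact p.Prime := ⟨hp⟩
  let T : Subgroup X :=
    { carrier := {a | a ∈ A ∧ ∃ k : ℕ, a ^ (p ^ k) = 1}
      mul_mem' := by
        rintro a b ⟨ha, k, hk⟩ ⟨hb, l, hl⟩
        refine ⟨A.mul_mem ha hb, k + l, ?_⟩
        have hc : Commute a b := hab a ha b hb
        rw [hc.mul_pow, pow_add, pow_mul, hk, one_pow, one_mul, mul_comm (p ^ k), pow_mul, hl,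
          one_pow]
      one_mem' := ⟨A.one_mem, 0, one_pow _⟩
      inv_mem' := by
        rintro a ⟨ha, k, hk⟩
        exact ⟨A.inv_mem ha, k, by rw [inv_pow, hk, inv_one]⟩ }
  have hTn : T.Normal := by
    refine ⟨?_⟩
    rintro a ⟨ha, k, hk⟩ x
    refine ⟨hA.conj_mem a ha x, k, ?_⟩
    rw [conj_pow, hk, mul_one, mul_inv_cancel]
  have hTp : IsPGroup p T := by
    rintro ⟨a, ha, k, hk⟩
    exact ⟨k, Subtype.ext hk⟩
  have hT := hOp T hTn hTp
  obtain ⟨g, hg⟩ := exists_prime_orderOf_dvd_card' p hpA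
  have hgT : (g : X) ∈ T := by
    refine ⟨g.2, 1, ?_⟩
    rw [pow_one]
    have := pow_orderOf_eq_one g
    rw [hg] at this
    have h2 := congrArg (Subtype.val : A → X) this
    simpa using h2
  rw [hT, Subgroup.mem_bot] at hgT
  have hg1 : g = 1 := Subtype.ext hgT
  rw [hg1, orderOf_one] at hg
  exact hp.one_lt.ne' hg.symm

variable {G : Type u} [Group G] [Finite G]

theorem caseY_setup {m n p : ℕ} (td : ThreeDeg G m n) (hp : p.Prime)
    (P : Subgroup G) [P.Normal] (hPp : IsPGroup p P)
    (hOp : ∀ Q : Subgroup G, Q.Normal → IsPGroup p Q → Q ≤ P)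
    (hquot : ∀ χ : IrrCharacter G, P ≤ irrKer χ → irrDeg χ = 1 ∨ irrDeg χ = m)
    (hidx : p ∣ P.index) :
    p ∣ m ∧ ∃ A : Subgroup G, A.Normal ∧ P ≤ A ∧ commutator G ≤ A ∧
      (P.relIndex A).Coprime p := by
  classical
  have : Fact p.Prime := ⟨hp⟩
  have : Fintype G := Fintype.ofFinite G
  have : Fintype (G ⧸ P) := Fintype.ofFinite _
  have hm1 := td.one_lt
  have hmn := td.lt
  have hsurj : Function.Surjective (QuotientGroup.mk' P) := QuotientGroup.mk'_surjective P
  -- normal `p`-subgroups of the quotient are trivial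
  have hOp' : ∀ Q : Subgroup (G ⧸ P), Q.Normal → IsPGroup p Q → Q = ⊥ := by
    intro Q hQn hQp
    have hcn : (Q.comap (QuotientGroup.mk' P)).Normal := hQn.comap _
    have hcp : IsPGroup p (Q.comap (QuotientGroup.mk' P)) := by
      rintro ⟨g, hg⟩
      obtain ⟨k, hk⟩ := hQp ⟨QuotientGroup.mk' P g, hg⟩
      have hk' : (QuotientGroup.mk' P g) ^ (p ^ k) = 1 := by
        have := congrArg (Subtype.val : Q → G ⧸ P) hk
        simpa using this
      have hgP : g ^ (p ^ k) ∈ P := by
        rw [← QuotientGroup.eq_one_iff, ← hk']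
        rfl
      obtain ⟨l, hl⟩ := hPp ⟨g ^ (p ^ k), hgP⟩
      have hl' : (g ^ (p ^ k)) ^ (p ^ l) = 1 := by
        have := congrArg (Subtype.val : P → G) hl
        simpa using this
      refine ⟨k + l, Subtype.ext ?_⟩
      show g ^ (p ^ (k + l)) = 1
      rw [pow_add, pow_mul, hl']
    have hle := hOp _ hcn hcp
    rw [eq_bot_iff]
    intro x hx
    obtain ⟨g, rfl⟩ := hsurj x
    have hgP : g ∈ P := hle hx
    rw [Subgroup.mem_bot]
    exact (QuotientGroup.eq_one_iff g).mpr hgP
  have hpX : p ∣ Nat.card (G ⧸ P) := by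
    rw [← Subgroup.index_eq_card]; exact hidx
  -- the quotient is nonabelian
  have hna : ¬ commutator (G ⧸ P) ≤ (⊥ : Subgroup (G ⧸ P)) := by
    intro hle
    have hcomm : ∀ a b : G ⧸ P, a * b = b * a := by
      intro a b
      have : ⁅a, b⁆ ∈ commutator (G ⧸ P) :=
        Subgroup.commutator_mem_commutator (Subgroup.mem_top _) (Subgroup.mem_top _)
      have := hle this
      rw [Subgroup.mem_bot, commutatorElement_eq_one_iff_commute] at this
      exact this
    refine torsion_false hp hOp' (⊤ : Subgroup (G ⧸ P)) (fun a _ b _ => hcomm a b) ?_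
    rw [Subgroup.card_top]
    exact hpX
  -- two degrees in the quotient
  have hdeg : ∀ β : IrrCharacter (G ⧸ P), irrDeg β = 1 ∨ irrDeg β = m := by
    intro β
    have h1 := hquot (irrInflate P β) (Cfsg.Agent.Helper29.GalConj.le_irrKer_irrInflate P β)
    rwa [Cfsg.Agent.Helper29.GalConj.irrDeg_irrInflate] at h1
  have hcd : ∀ β : IrrCharacter (G ⧸ P),
      charDegree (β : G ⧸ P → ℂ) = 1 ∨ charDegree (β : G ⧸ P → ℂ) = m := by
    intro β
    rw [charDegree_irr]
    exact hdeg β
  obtain ⟨β₀, hβ₀⟩ := exists_nonlinear hna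
  have hβ₀m : charDegree (β₀ : G ⧸ P → ℂ) = m := by
    rw [charDegree_irr]
    rcases hdeg β₀ with h | h
    · exact absurd h hβ₀
    · exact h
  rcases two_degrees_structure (G := G ⧸ P) m hcd ⟨β₀, hβ₀m⟩ (by omega) with
    ⟨Ab, hAbn, hAbc, hAbi⟩ | ⟨r, e, hr, hme, R, Ab, hRn, hAbn, hRr, hAbc, hinf, hsup⟩
  · -- abelian normal subgroup of index `m`
    have hpAb : ¬ p ∣ Nat.card Ab := fun h => torsion_false hp hOp' Ab hAbc h
    have hcard : Nat.card (G ⧸ P) = Nat.card Ab * m := by
      rw [← hAbi]; exact (Subgroup.card_mul_index Ab).symm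
    have hpm : p ∣ m := by
      rw [hcard] at hpX
      rcases (Nat.Prime.dvd_mul hp).mp hpX with h | h
      · exact absurd h hpAb
      · exact h
    refine ⟨hpm, Ab.comap (QuotientGroup.mk' P), hAbn.comap _, ?_, ?_, ?_⟩
    · intro g hg
      show QuotientGroup.mk' P g ∈ Ab
      rw [show QuotientGroup.mk' P g = 1 from (QuotientGroup.eq_one_iff g).mpr hg]
      exact Ab.one_mem
    · -- `G / A` is abelian since it has order `m`
      set A : Subgroup G := Ab.comap (QuotientGroup.mk' P) with hA
      have hAn : A.Normal := hAbn.comap _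
      have hAidx : A.index = m := by
        rw [hA, Subgroup.index_comap_of_surjective Ab hsurj, hAbi]
      have : Fintype (G ⧸ A) := Fintype.ofFinite _
      have : Fintype (IrrCharacter (G ⧸ A)) := Fintype.ofFinite _
      have hlin : ∀ γ : IrrCharacter (G ⧸ A), irrDeg γ = 1 := by
        intro γ
        have hsum := sum_irrDeg_sq (G := G ⧸ A)
        rw [← Subgroup.index_eq_card, hAidx] at hsum
        have hle : irrDeg γ ^ 2 ≤ m := by
          rw [← hsum]
          exact Finset.single_le_sum (f := fun χ : IrrCharacter (G ⧸ A) => irrDeg χ ^ 2)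
            (fun _ _ => Nat.zero_le _) (Finset.mem_univ γ)
        have h1 := td.cases (irrInflate A γ)
        rw [Cfsg.Agent.Helper29.GalConj.irrDeg_irrInflate] at h1
        rcases h1 with h | h | h
        · exact h
        · rw [h] at hle; nlinarith
        · rw [h] at hle; nlinarith
      have hcomm : ∀ a b : G ⧸ A, a * b = b * a := by
        rw [comm_iff_forall_irr_one]
        intro γ
        exact (irrDeg_eq_one_iff γ).mp (hlin γ)
      rw [commutator_def, Subgroup.commutator_le]
      intro a _ b _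
      rw [← QuotientGroup.eq_one_iff (N := A)]
      show ((⁅a, b⁆ : G) : G ⧸ A) = 1
      rw [commutatorElement_def]
      simp only [QuotientGroup.mk_mul, QuotientGroup.mk_inv]
      rw [hcomm (a : G ⧸ A) (b : G ⧸ A)]
      group
    · have hPker : P = (⊥ : Subgroup (G ⧸ P)).comap (QuotientGroup.mk' P) := by
        rw [MonoidHom.comap_bot, QuotientGroup.ker_mk']
      have h1 : P.relIndex (Ab.comap (QuotientGroup.mk' P)) = Nat.card Ab := by
        have h2 : ((⊥ : Subgroup (G ⧸ P)).comap (QuotientGroup.mk' P)).relIndex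
            (Ab.comap (QuotientGroup.mk' P)) = Nat.card Ab := by
          rw [Subgroup.relIndex_comap, Subgroup.map_comap_eq_self_of_surjective hsurj,
            Subgroup.relIndex_bot_left]
        rwa [← hPker] at h2
      rw [h1]
      exact ((Nat.Prime.coprime_iff_not_dvd hp).mpr hpAb).symm
  · -- direct product of an `r`-group and an abelian group: impossible
    exfalso
    have hpR : ¬ p ∣ Nat.card R := by
      by_cases hrp : r = p
      · subst hrp
        rw [hOp' R hRn hRr, Subgroup.card_bot]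
        exact fun h => hp.one_lt.ne' (Nat.dvd_one.mp h)
      · have : Fact r.Prime := ⟨hr⟩
        obtain ⟨j, hj⟩ := IsPGroup.iff_card.mp hRr
        rw [hj]
        intro h
        exact hrp ((Nat.prime_dvd_prime_iff_eq hp hr).mp (hp.dvd_of_dvd_pow h)).symm
    have hidxAb : Ab.index = Nat.card R := by
      have h1 : Ab.relIndex (R ⊔ Ab) = Ab.relIndex R := Subgroup.relIndex_sup_right R Ab
      rw [hsup, Subgroup.relIndex_top_right] at h1
      rw [h1, Subgroup.relIndex]
      have h2 : Ab.subgroupOf R = ⊥ := by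
        rw [Subgroup.subgroupOf_eq_bot, disjoint_iff, inf_comm]
        exact hinf
      rw [h2, Subgroup.index_bot]
    have hcard : Nat.card (G ⧸ P) = Nat.card Ab * Nat.card R := by
      rw [← hidxAb]; exact (Subgroup.card_mul_index Ab).symm
    have hpAb : p ∣ Nat.card Ab := by
      rw [hcard] at hpX
      rcases (Nat.Prime.dvd_mul hp).mp hpX with h | h
      · exact h
      · exact absurd h hpR
    exact torsion_false hp hOp' Ab hAbc hpAb

end Cfsg.Agent.Helper8.TD
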