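import Cfsg.Agent.Helper5.TDDefs
import Cfsg.Agent.Helper24.Product
import Cfsg.Agent.Helper24.RealChar
import Cfsg.Agent.Helper24.Expansion
import Cfsg.Agent.Helper8.CliffordAb
import Cfsg.Agent.Helper23.ClassProduct

set_option autoImplicit false

/-!
# S4460 piece NF1: degrees of the constituents of products of irreducible characters
when the character degrees are `1 < m < n` with `m`, `n` coprime
-/

namespace Cfsg.Agent.Helper8.TD

open Cfsg Cfsg.Agent.Helper24 Cfsg.Agent.Helper29.TwoDeg Cfsg.Agent.Helper5.TD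
open scoped ComplexConjugate commutatorElement

universe u

variable {G : Type u} [Group G] [Finite G]

/-- Common core: the product `χ₁ χ₂` has no linear constituent, and its degree is `m A + n B`
with `A`, `B` the total multiplicities of the constituents of degree `m`, `n`. -/
theorem prod_core [Fintype G] {m n : ℕ} (td : ThreeDeg G m n)
    (χ₁ χ₂ : IrrCharacter G)
    (hne : ∀ lam : G →* ℂˣ,
      (χ₂ : G → ℂ) ≠ fun g => ((lam g : ℂˣ) : ℂ) * conj ((χ₁ : G → ℂ) g)) :
    ∃ A B : ℕ, irrDeg χ₁ * irrDeg χ₂ = m * A + n * B ∧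
      (B = 0 → ∀ η : IrrCharacter G,
        classInner (fun g => (χ₁ : G → ℂ) g * (χ₂ : G → ℂ) g) (η : G → ℂ) ≠ 0 → irrDeg η = m) ∧
      (A = 0 → ∀ η : IrrCharacter G,
        classInner (fun g => (χ₁ : G → ℂ) g * (χ₂ : G → ℂ) g) (η : G → ℂ) ≠ 0 → irrDeg η = n) := by
  classical
  have : Fintype (IrrCharacter G) := Fintype.ofFinite _
  have hm1 := td.one_lt
  have hmn := td.lt
  have hchar : IsCharacter G (fun g => (χ₁ : G → ℂ) g * (χ₂ : G → ℂ) g) :=
    IsCharacter.mul (IsIrrCharacter.isCharacter χ₁.2) (IsIrrCharacter.isCharacter χ₂.2)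
  obtain ⟨c, hc⟩ := IsCharacter.exists_nat_coeff hchar
  have hinner : ∀ η : IrrCharacter G,
      classInner (fun g => (χ₁ : G → ℂ) g * (χ₂ : G → ℂ) g) (η : G → ℂ) = (c η : ℂ) := by
    intro η
    rw [hc]
    exact classInner_sum_irr _ η
  -- no linear constituents
  have hlin0 : ∀ η : IrrCharacter G, irrDeg η = 1 → c η = 0 := by
    intro η hη
    have hη1 : (η : G → ℂ) 1 = 1 := by rw [irrDeg_spec, hη]; simp
    obtain ⟨φ, hφ⟩ := Cfsg.Agent.Helper23.exists_monoidHom_of_irr_one_eq_one η hη1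
    set lam : G →* ℂˣ := φ.toHomUnits with hlam
    have hlamv : ∀ g, ((lam g : ℂˣ) : ℂ) = (η : G → ℂ) g := by
      intro g
      rw [hφ g]
      rfl
    have hξ : IsIrrCharacter G (fun g => ((lam g : ℂˣ) : ℂ) * conj ((χ₁ : G → ℂ) g)) :=
      Cfsg.Agent.Helper8.isIrrCharacter_linear_mul lam (isIrrCharacter_star χ₁.2)
    have h1 : classInner (fun g => (χ₁ : G → ℂ) g * (χ₂ : G → ℂ) g) (η : G → ℂ) =
        classInner (χ₂ : G → ℂ) (fun g => ((lam g : ℂˣ) : ℂ) * conj ((χ₁ : G → ℂ) g)) := by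
      unfold classInner
      congr 1
      refine Finset.sum_congr rfl fun g _ => ?_
      show (χ₁ : G → ℂ) g * (χ₂ : G → ℂ) g * conj ((η : G → ℂ) g) =
        (χ₂ : G → ℂ) g * conj (((lam g : ℂˣ) : ℂ) * conj ((χ₁ : G → ℂ) g))
      rw [hlamv g, map_mul, Complex.conj_conj]
      ring
    have h2 := classInner_of_isIrrCharacter χ₂.2 hξ
    rw [if_neg (hne lam)] at h2
    rw [hinner η, h2] at h1
    exact_mod_cast h1
  -- the degree formula
  have hdeg : irrDeg χ₁ * irrDeg χ₂ = ∑ η : IrrCharacter G, c η * irrDeg η := by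
    have h1 := congrFun hc 1
    simp only [Finset.sum_apply, Pi.smul_apply, smul_eq_mul] at h1
    rw [irrDeg_spec, irrDeg_spec] at h1
    have h2 : ((irrDeg χ₁ * irrDeg χ₂ : ℕ) : ℂ) =
        ((∑ η : IrrCharacter G, c η * irrDeg η : ℕ) : ℂ) := by
      push_cast
      rw [h1]
      refine Finset.sum_congr rfl fun η _ => ?_
      rw [irrDeg_spec]
    exact_mod_cast h2
  set A : ℕ := ∑ η : IrrCharacter G, if irrDeg η = m then c η else 0 with hA
  set B : ℕ := ∑ η : IrrCharacter G, if irrDeg η = n then c η else 0 with hB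
  have hsplit : ∑ η : IrrCharacter G, c η * irrDeg η = m * A + n * B := by
    rw [hA, hB, Finset.mul_sum, Finset.mul_sum, ← Finset.sum_add_distrib]
    refine Finset.sum_congr rfl fun η _ => ?_
    rcases td.cases η with h | h | h
    · rw [hlin0 η h, if_neg (by omega), if_neg (by omega)]
      simp
    · rw [if_pos h, if_neg (by omega), h]
      ring
    · rw [if_neg (by omega), if_pos h, h]
      ring
  refine ⟨A, B, by rw [hdeg, hsplit], ?_, ?_⟩
  · intro hB0 η hη
    rw [hinner η] at hη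
    have hcη : c η ≠ 0 := by
      intro h0
      exact hη (by rw [h0]; simp)
    rcases td.cases η with h | h | h
    · exact absurd (hlin0 η h) hcη
    · exact h
    · exfalso
      have := (Finset.sum_eq_zero_iff.mp (hB.symm.trans hB0)) η (Finset.mem_univ η)
      rw [if_pos h] at this
      exact hcη this
  · intro hA0 η hη
    rw [hinner η] at hη
    have hcη : c η ≠ 0 := by
      intro h0
      exact hη (by rw [h0]; simp)
    rcases td.cases η with h | h | h
    · exact absurd (hlin0 η h) hcη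
    · exfalso
      have := (Finset.sum_eq_zero_iff.mp (hA.symm.trans hA0)) η (Finset.mem_univ η)
      rw [if_pos h] at this
      exact hcη this
    · exact h

theorem prod_type [Fintype G] {m n : ℕ} (td : ThreeDeg G m n) (hcop : m.Coprime n)
    (χ ψ : IrrCharacter G) (hχ : irrDeg χ = m) (hψ : irrDeg ψ = n) :
    (∀ η : IrrCharacter G,
      classInner (fun g => (χ : G → ℂ) g * (ψ : G → ℂ) g) (η : G → ℂ) ≠ 0 → irrDeg η = m) ∨
    (∀ η : IrrCharacter G,
      classInner (fun g => (χ : G → ℂ) g * (ψ : G → ℂ) g) (η : G → ℂ) ≠ 0 → irrDeg η = n) := by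
  have hm1 := td.one_lt
  have hmn := td.lt
  have hne : ∀ lam : G →* ℂˣ,
      (ψ : G → ℂ) ≠ fun g => ((lam g : ℂˣ) : ℂ) * conj ((χ : G → ℂ) g) := by
    intro lam h
    have h1 := congrFun h 1
    simp only [map_one, Units.val_one, one_mul] at h1
    rw [irrDeg_spec, irrDeg_spec, hχ, hψ] at h1
    simp only [map_natCast] at h1
    have : n = m := by exact_mod_cast h1
    omega
  obtain ⟨A, B, hAB, hB0, hA0⟩ := prod_core td χ ψ hne
  rw [hχ, hψ] at hAB
  by_cases hB : B = 0
  · left; exact hB0 hB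
  · by_cases hA : A = 0
    · right; exact hA0 hA
    · exfalso
      -- `n ∣ A` and `m ∣ B`
      have hnA : n ∣ A := by
        have h1 : n ∣ m * A := by
          have : n ∣ m * n := Dvd.intro_left m rfl
          rw [hAB] at this
          exact (Nat.dvd_add_left (Dvd.intro B rfl)).mp this
        exact hcop.symm.dvd_of_dvd_mul_left h1
      have hmB : m ∣ B := by
        have h1 : m ∣ n * B := by
          have : m ∣ m * n := Dvd.intro n rfl
          rw [hAB] at this
          exact (Nat.dvd_add_right (Dvd.intro A rfl)).mp this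
        exact hcop.dvd_of_dvd_mul_left h1
      have hA' : n ≤ A := Nat.le_of_dvd (Nat.pos_of_ne_zero hA) hnA
      have hB' : m ≤ B := Nat.le_of_dvd (Nat.pos_of_ne_zero hB) hmB
      have h1 : m * n ≤ m * A := Nat.mul_le_mul_left m hA'
      have h2 : n * m ≤ n * B := Nat.mul_le_mul_left n hB'
      have h3 : 0 < m * n := Nat.mul_pos (by omega) (by omega)
      nlinarith

theorem prod_mm [Fintype G] {m n : ℕ} (td : ThreeDeg G m n) (hcop : m.Coprime n)
    (χ₁ χ₂ : IrrCharacter G) (h1 : irrDeg χ₁ = m) (h2 : irrDeg χ₂ = m)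
    (hne : ∀ lam : G →* ℂˣ,
      (χ₂ : G → ℂ) ≠ fun g => ((lam g : ℂˣ) : ℂ) * conj ((χ₁ : G → ℂ) g)) :
    ∀ η : IrrCharacter G,
      classInner (fun g => (χ₁ : G → ℂ) g * (χ₂ : G → ℂ) g) (η : G → ℂ) ≠ 0 → irrDeg η = m := by
  have hm1 := td.one_lt
  have hmn := td.lt
  obtain ⟨A, B, hAB, hB0, _⟩ := prod_core td χ₁ χ₂ hne
  rw [h1, h2] at hAB
  apply hB0
  by_contra hB
  have hmB : m ∣ B := by
    have h3 : m ∣ n * B := by
      have : m ∣ m * m := Dvd.intro m rfl
      rw [hAB] at this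
      exact (Nat.dvd_add_right (Dvd.intro A rfl)).mp this
    exact hcop.dvd_of_dvd_mul_left h3
  have hB' : m ≤ B := Nat.le_of_dvd (Nat.pos_of_ne_zero hB) hmB
  have h3 : n * m ≤ n * B := Nat.mul_le_mul_left n hB'
  nlinarith

end Cfsg.Agent.Helper8.TD
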