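import Cfsg.Agent.Helper5.TDDefs
import Cfsg.Agent.Helper5.PDGAL

set_option autoImplicit false

/-!
# S4460 piece NQ: a nonabelian `q`-group quotient is impossible with three coprime degrees
(Gallagher trick)
-/

namespace Cfsg.Agent.Helper8.TD

open Cfsg Cfsg.Agent.Helper24 Cfsg.Agent.Helper29.TwoDeg Cfsg.Agent.Helper5.TD
open scoped ComplexConjugate commutatorElement

universe u

variable {G : Type u} [Group G] [Finite G]

theorem pgroup_quot_false {m n : ℕ} (td : ThreeDeg G m n) (hcop : m.Coprime n)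
    (K : Subgroup G) [K.Normal] (q : ℕ) (hq : q.Prime) (hX : IsPGroup q (G ⧸ K))
    (hna : ¬ commutator G ≤ K) : False := by
  classical
  have : Fact q.Prime := ⟨hq⟩
  have : Fintype G := Fintype.ofFinite G
  have : Fintype K := Fintype.ofFinite K
  have : Fintype (IrrCharacter K) := Fintype.ofFinite _
  have : Fintype (G ⧸ K) := Fintype.ofFinite _
  -- a nonlinear character of the quotient
  have hna' := quot_nonabelian K hna
  obtain ⟨β, hβ⟩ := exists_nonlinear hna'
  -- its degree is a power of `q`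
  obtain ⟨b, hb⟩ := IsPGroup.iff_card.mp hX
  have hβdvd : irrDeg β ∣ q ^ b := hb ▸ Cfsg.Agent.Helper29.TwoDeg.irrDeg_dvd_card β
  obtain ⟨a, _, ha⟩ := (Nat.dvd_prime_pow hq).mp hβdvd
  have ha0 : a ≠ 0 := by
    rintro rfl
    exact hβ (by rw [ha, pow_zero])
  have hqβ : q ∣ irrDeg β := by
    rw [ha]; exact dvd_pow_self q ha0
  -- the inflation has the same degree, which is `m` or `n`
  have hinf : irrDeg (irrInflate K β) = irrDeg β :=
    Cfsg.Agent.Helper29.GalConj.irrDeg_irrInflate K β
  -- the key: for `χ` of degree `g` prime to `q`, `β χ` is irreducible of degree `irrDeg β * g`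
  have key : ∀ χ : IrrCharacter G, ¬ q ∣ irrDeg χ →
      ∃ ξ : IrrCharacter G, irrDeg ξ = irrDeg β * irrDeg χ := by
    intro χ hqχ
    have hres : IsCharacter K (fun k : K => (χ : G → ℂ) k) :=
      Cfsg.Agent.Helper8.isCharacter_restrict K (IsIrrCharacter.isCharacter χ.2)
    have hres0 : (fun k : K => (χ : G → ℂ) k) ≠ 0 := by
      intro h0
      have h1 := congrFun h0 1
      simp only [Subgroup.coe_one, Pi.zero_apply] at h1
      rw [irrDeg_spec] at h1
      exact (irrDeg_pos χ).ne' (by exact_mod_cast h1)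
    obtain ⟨θ, hθ⟩ := IsCharacter.exists_irr_constituent hres hres0
    obtain ⟨e, he, hediv⟩ := irrDeg_dvd_of_over K χ θ hθ
    have hidx : K.index = q ^ b := by
      rw [Subgroup.index_eq_card]; exact hb
    rw [hidx] at hediv
    obtain ⟨c, _, hc⟩ := (Nat.dvd_prime_pow hq).mp hediv
    have he1 : e = 1 := by
      rcases Nat.eq_zero_or_pos c with hc0 | hc0
      · rw [hc, hc0, pow_zero]
      · exfalso
        apply hqχ
        rw [he, hc]
        exact Dvd.dvd.mul_right (dvd_pow_self q hc0.ne') _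
    rw [he1, one_mul] at he
    have hχK : (fun k : K => (χ : G → ℂ) k) = (θ : K → ℂ) := by
      apply Cfsg.Agent.Helper5.PD.eq_of_constituent_of_degree_eq hres θ hθ
      show (χ : G → ℂ) ((1 : K) : G) = _
      rw [Subgroup.coe_one, irrDeg_spec, he]
    have hχKirr : IsIrrCharacter K (fun k : K => (χ : G → ℂ) k) := by
      rw [hχK]; exact θ.2
    have hirr := isIrrCharacter_gallagherTwist K χ hχKirr β
    refine ⟨⟨gallagherTwist K χ β, hirr⟩, ?_⟩
    have hξ1 : ((⟨gallagherTwist K χ β, hirr⟩ : IrrCharacter G) : G → ℂ) 1 =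
        ((irrDeg β * irrDeg χ : ℕ) : ℂ) := by
      show (β : G ⧸ K → ℂ) ((1 : G) : G ⧸ K) * (χ : G → ℂ) 1 = _
      rw [QuotientGroup.mk_one, irrDeg_spec, irrDeg_spec]
      push_cast
      ring
    have := irrDeg_spec (⟨gallagherTwist K χ β, hirr⟩ : IrrCharacter G)
    rw [hξ1] at this
    exact_mod_cast this.symm
  have hm1 := td.one_lt
  have hmn := td.lt
  -- contradiction from a character of degree `m * n`
  have hfinal : ∀ ξ : IrrCharacter G, irrDeg ξ = m * n → False := by
    intro ξ hξ
    rcases td.cases ξ with h | h | h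
    · rw [h] at hξ
      have : 1 < m * n := by nlinarith
      omega
    · rw [h] at hξ
      have : m < m * n := by nlinarith
      omega
    · rw [h] at hξ
      have : n < m * n := by nlinarith
      omega
  rcases td.cases (irrInflate K β) with h | h | h
  · exact hβ (by rw [← hinf, h])
  · -- `irrDeg β = m`, so `q ∣ m` and `q ∤ n`
    rw [hinf] at h
    obtain ⟨χ, hχ⟩ := td.exn
    have hqn : ¬ q ∣ irrDeg χ := by
      rw [hχ]
      intro hqn
      have hqm : q ∣ m := h ▸ hqβ
      have := Nat.dvd_gcd hqm hqn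
      rw [hcop] at this
      exact hq.one_lt.ne' (Nat.dvd_one.mp this)
    obtain ⟨ξ, hξ⟩ := key χ hqn
    exact hfinal ξ (by rw [hξ, h, hχ])
  · rw [hinf] at h
    obtain ⟨χ, hχ⟩ := td.exm
    have hqm : ¬ q ∣ irrDeg χ := by
      rw [hχ]
      intro hqm
      have hqn : q ∣ n := h ▸ hqβ
      have := Nat.dvd_gcd hqm hqn
      rw [hcop] at this
      exact hq.one_lt.ne' (Nat.dvd_one.mp this)
    obtain ⟨ξ, hξ⟩ := key χ hqm
    exact hfinal ξ (by rw [hξ, h, hχ, mul_comm])

end Cfsg.Agent.Helper8.TD
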