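import Mathlib

set_option autoImplicit false

namespace Cfsg.Agent.Helper8

/-- If `g₁, g₂` commute and have coprime orders then `g₁ ∈ zpowers (g₁ * g₂)`. -/
theorem mem_zpowers_mul_of_coprime {G : Type*} [Group G] {g₁ g₂ : G} (hc : Commute g₁ g₂)
    (hcop : (orderOf g₁).Coprime (orderOf g₂)) : g₁ ∈ Subgroup.zpowers (g₁ * g₂) := by
  have h1 : (g₁ * g₂) ^ (orderOf g₂) = g₁ ^ (orderOf g₂) := by
    rw [hc.mul_pow, pow_orderOf_eq_one g₂, mul_one]
  obtain ⟨m, hm⟩ := exists_pow_eq_self_of_coprime (x := g₁) (n := orderOf g₂) hcop.symm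
  have key : ((g₁ * g₂) ^ orderOf g₂) ^ m ∈ Subgroup.zpowers (g₁ * g₂) :=
    Subgroup.pow_mem _ (Subgroup.pow_mem _ (Subgroup.mem_zpowers _) _) _
  rw [h1, hm] at key
  exact key

/-- Two elementwise-commuting cyclic subgroups of coprime (finite) orders generate a cyclic group;
explicit generator version. -/
theorem sup_zpowers_eq_zpowers_mul {G : Type*} [Group G] {g₁ g₂ : G} (hc : Commute g₁ g₂)
    (hcop : (orderOf g₁).Coprime (orderOf g₂)) :
    Subgroup.zpowers g₁ ⊔ Subgroup.zpowers g₂ = Subgroup.zpowers (g₁ * g₂) := by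
  apply le_antisymm
  · apply sup_le
    · rw [Subgroup.zpowers_le]
      exact mem_zpowers_mul_of_coprime hc hcop
    · rw [Subgroup.zpowers_le]
      have := mem_zpowers_mul_of_coprime hc.symm hcop.symm
      rwa [hc.symm.eq] at this
  · rw [Subgroup.zpowers_le]
    exact Subgroup.mul_mem _ (Subgroup.mem_sup_left (Subgroup.mem_zpowers _))
      (Subgroup.mem_sup_right (Subgroup.mem_zpowers _))

theorem isCyclic_sup_of_commute_coprime {G : Type*} [Group G] (W₁ W₂ : Subgroup G)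
    (h₁ : IsCyclic W₁) (h₂ : IsCyclic W₂) (hcomm : ∀ a ∈ W₁, ∀ b ∈ W₂, a * b = b * a)
    (hcop : (Nat.card W₁).Coprime (Nat.card W₂)) : IsCyclic ↥(W₁ ⊔ W₂) := by
  obtain ⟨g₁, rfl⟩ := (W₁.isCyclic_iff_exists_zpowers_eq_top).mp h₁
  obtain ⟨g₂, rfl⟩ := (W₂.isCyclic_iff_exists_zpowers_eq_top).mp h₂
  have hc : Commute g₁ g₂ := hcomm g₁ (Subgroup.mem_zpowers _) g₂ (Subgroup.mem_zpowers _)
  rw [Nat.card_zpowers, Nat.card_zpowers] at hcop
  rw [sup_zpowers_eq_zpowers_mul hc hcop]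
  infer_instance

end Cfsg.Agent.Helper8
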