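import Mathlib

/-!
# Integer vectors of small norm

Elementary facts on integer-valued functions `v : I → ℤ` on a finite type with
`∑ v² ∈ {0, 1, 2, 3}`, used for the combinatorial core of Brauer's theorem on the principal
2-block of groups with dihedral Sylow 2-subgroups.
-/

set_option autoImplicit false

namespace Cfsg.Agent.Helper8.DihVec

open Finset

variable {I : Type*} [Fintype I] [DecidableEq I]

/-- the integer vector `s • e_x` -/
def ind (x : I) (s : ℤ) : I → ℤ := fun χ => if χ = x then s else 0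

@[simp] theorem ind_self (x : I) (s : ℤ) : ind x s x = s := by simp [ind]

theorem ind_ne {x y : I} (s : ℤ) (h : y ≠ x) : ind x s y = 0 := by simp [ind, h]

theorem ind_apply (x : I) (s : ℤ) (y : I) : ind x s y = if y = x then s else 0 := rfl

theorem sum_ind_mul (x : I) (s : ℤ) (w : I → ℤ) : ∑ χ, ind x s χ * w χ = s * w x := by
  simp [ind]

theorem sum_mul_ind (x : I) (s : ℤ) (w : I → ℤ) : ∑ χ, w χ * ind x s χ = w x * s := by
  simp [ind]

theorem sq_le_sum (v : I → ℤ) (x : I) : v x ^ 2 ≤ ∑ χ, v χ ^ 2 :=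
  Finset.single_le_sum (f := fun χ => v χ ^ 2) (fun χ _ => sq_nonneg (v χ)) (Finset.mem_univ x)

theorem entry_of_norm_le_three {v : I → ℤ} (h : ∑ χ, v χ ^ 2 ≤ 3) (x : I) :
    v x = 0 ∨ v x = 1 ∨ v x = -1 := by
  have h1 := sq_le_sum v x
  have h2 : v x ^ 2 ≤ 3 := le_trans h1 h
  have h3 : -1 ≤ v x := by nlinarith
  have h4 : v x ≤ 1 := by nlinarith
  omega

theorem eq_zero_of_norm_zero {v : I → ℤ} (h : ∑ χ, v χ ^ 2 = 0) (x : I) : v x = 0 := by
  have h1 := sq_le_sum v x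
  rw [h] at h1
  have : v x ^ 2 = 0 := le_antisymm h1 (sq_nonneg _)
  exact pow_eq_zero_iff (two_ne_zero) |>.mp this

/-- remove the coordinate `x` -/
def del (x : I) (v : I → ℤ) : I → ℤ := fun χ => if χ = x then 0 else v χ

@[simp] theorem del_self (x : I) (v : I → ℤ) : del x v x = 0 := by simp [del]

theorem del_ne {x y : I} (v : I → ℤ) (h : y ≠ x) : del x v y = v y := by simp [del, h]

theorem eq_ind_add_del (x : I) (v : I → ℤ) (χ : I) : v χ = ind x (v x) χ + del x v χ := by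
  by_cases h : χ = x
  · subst h; simp
  · rw [ind_ne _ h, del_ne _ h, zero_add]

theorem norm_del (x : I) (v : I → ℤ) : ∑ χ, v χ ^ 2 = v x ^ 2 + ∑ χ, del x v χ ^ 2 := by
  rw [← Finset.add_sum_erase Finset.univ _ (Finset.mem_univ x)]
  congr 1
  rw [← Finset.add_sum_erase Finset.univ (fun χ => del x v χ ^ 2) (Finset.mem_univ x)]
  rw [del_self]
  simp only [ne_eq, OfNat.ofNat_ne_zero, not_false_eq_true, zero_pow, zero_add]
  refine Finset.sum_congr rfl fun χ hχ => ?_
  rw [del_ne v (Finset.ne_of_mem_erase hχ)]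

theorem exists_ne_zero {v : I → ℤ} (h : ∑ χ, v χ ^ 2 ≠ 0) : ∃ x, v x ≠ 0 := by
  by_contra hcon
  push Not at hcon
  apply h
  exact Finset.sum_eq_zero fun χ _ => by rw [hcon χ]; norm_num

/-- norm one -/
theorem norm_one {v : I → ℤ} (h : ∑ χ, v χ ^ 2 = 1) :
    ∃ x s, (s = 1 ∨ s = -1) ∧ ∀ χ, v χ = ind x s χ := by
  obtain ⟨x, hx⟩ := exists_ne_zero (v := v) (by rw [h]; norm_num)
  have h1 := norm_del x v
  rw [h] at h1
  have hs : v x = 1 ∨ v x = -1 := by
    rcases entry_of_norm_le_three (v := v) (by rw [h]; norm_num) x with h2 | h2 | h2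
    · exact absurd h2 hx
    · exact Or.inl h2
    · exact Or.inr h2
  have h2 : v x ^ 2 = 1 := by rcases hs with h | h <;> rw [h] <;> norm_num
  have h3 : ∑ χ, del x v χ ^ 2 = 0 := by omega
  refine ⟨x, v x, hs, fun χ => ?_⟩
  rw [eq_ind_add_del x v χ, eq_zero_of_norm_zero h3 χ, add_zero]

/-- norm two, with a known support point -/
theorem norm_two_at {v : I → ℤ} (h : ∑ χ, v χ ^ 2 = 2) {x : I} (hx : v x ≠ 0) :
    (v x = 1 ∨ v x = -1) ∧ ∃ y t, y ≠ x ∧ (t = 1 ∨ t = -1) ∧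
      ∀ χ, v χ = ind x (v x) χ + ind y t χ := by
  have h1 := norm_del x v
  rw [h] at h1
  have hs : v x = 1 ∨ v x = -1 := by
    rcases entry_of_norm_le_three (v := v) (by rw [h]; norm_num) x with h2 | h2 | h2
    · exact absurd h2 hx
    · exact Or.inl h2
    · exact Or.inr h2
  have h2 : v x ^ 2 = 1 := by rcases hs with h | h <;> rw [h] <;> norm_num
  have h3 : ∑ χ, del x v χ ^ 2 = 1 := by omega
  obtain ⟨y, t, ht, hy⟩ := norm_one h3
  have hyx : y ≠ x := by
    intro hyx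
    have := hy x
    rw [del_self, hyx, ind_self] at this
    rcases ht with h | h <;> omega
  refine ⟨hs, y, t, hyx, ht, fun χ => ?_⟩
  rw [eq_ind_add_del x v χ, hy χ]

/-- norm two -/
theorem norm_two {v : I → ℤ} (h : ∑ χ, v χ ^ 2 = 2) :
    ∃ x y s t, x ≠ y ∧ (s = 1 ∨ s = -1) ∧ (t = 1 ∨ t = -1) ∧
      ∀ χ, v χ = ind x s χ + ind y t χ := by
  obtain ⟨x, hx⟩ := exists_ne_zero (v := v) (by rw [h]; norm_num)
  obtain ⟨hs, y, t, hyx, ht, hv⟩ := norm_two_at h hx
  exact ⟨x, y, v x, t, hyx.symm, hs, ht, hv⟩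

/-- norm three, with a known support point -/
theorem norm_three_at {v : I → ℤ} (h : ∑ χ, v χ ^ 2 = 3) {x : I} (hx : v x ≠ 0) :
    (v x = 1 ∨ v x = -1) ∧ ∑ χ, del x v χ ^ 2 = 2 := by
  have h1 := norm_del x v
  rw [h] at h1
  have hs : v x = 1 ∨ v x = -1 := by
    rcases entry_of_norm_le_three (v := v) (by rw [h]) x with h2 | h2 | h2
    · exact absurd h2 hx
    · exact Or.inl h2
    · exact Or.inr h2
  have h2 : v x ^ 2 = 1 := by rcases hs with h | h <;> rw [h] <;> norm_num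
  exact ⟨hs, by omega⟩

/-- norm three, with two known support points -/
theorem norm_three_at_two {v : I → ℤ} (h : ∑ χ, v χ ^ 2 = 3) {x y : I} (hxy : x ≠ y)
    (hx : v x ≠ 0) (hy : v y ≠ 0) :
    (v x = 1 ∨ v x = -1) ∧ (v y = 1 ∨ v y = -1) ∧ ∃ z t, z ≠ x ∧ z ≠ y ∧ (t = 1 ∨ t = -1) ∧
      ∀ χ, v χ = ind x (v x) χ + ind y (v y) χ + ind z t χ := by
  obtain ⟨hs, h2⟩ := norm_three_at h hx
  have hy' : del x v y ≠ 0 := by rw [del_ne v hxy.symm]; exact hy
  obtain ⟨ht, z, t, hzy, ht', hv⟩ := norm_two_at h2 hy'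
  rw [del_ne v hxy.symm] at ht hv
  have hzx : z ≠ x := by
    intro hzx
    have := hv x
    rw [del_self, ind_ne _ hxy, hzx, ind_self] at this
    rcases ht' with h | h <;> omega
  refine ⟨hs, ht, z, t, hzx, hzy, ht', fun χ => ?_⟩
  rw [eq_ind_add_del x v χ, hv χ, add_assoc]

/-- norm three, with three known support points -/
theorem norm_three_at_three {v : I → ℤ} (h : ∑ χ, v χ ^ 2 = 3) {x y z : I} (hxy : x ≠ y)
    (hxz : x ≠ z) (hyz : y ≠ z) (hx : v x ≠ 0) (hy : v y ≠ 0) (hz : v z ≠ 0) :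
    ∀ χ, v χ = ind x (v x) χ + ind y (v y) χ + ind z (v z) χ := by
  obtain ⟨hs, ht, w, r, hwx, hwy, hr, hv⟩ := norm_three_at_two h hxy hx hy
  have hwz : w = z := by
    by_contra hne
    have := hv z
    rw [ind_ne _ hxz.symm, ind_ne _ hyz.symm, ind_ne _ (Ne.symm hne)] at this
    apply hz
    rw [this]; norm_num
  subst hwz
  have hr' : v w = r := by
    have := hv w
    rw [ind_ne _ hwx, ind_ne _ hwy, ind_self] at this
    rw [this]; ring
  intro χ
  rw [hr']
  exact hv χ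

/-- norm three -/
theorem norm_three {v : I → ℤ} (h : ∑ χ, v χ ^ 2 = 3) :
    ∃ x y z s t r, x ≠ y ∧ x ≠ z ∧ y ≠ z ∧ (s = 1 ∨ s = -1) ∧ (t = 1 ∨ t = -1) ∧
      (r = 1 ∨ r = -1) ∧ ∀ χ, v χ = ind x s χ + ind y t χ + ind z r χ := by
  obtain ⟨x, hx⟩ := exists_ne_zero (v := v) (by rw [h]; norm_num)
  obtain ⟨hs, h2⟩ := norm_three_at h hx
  obtain ⟨y, z, t, r, hyz, ht, hr, hv⟩ := norm_two h2
  have hyx : y ≠ x := by
    intro hyx
    have := hv x
    rw [del_self, hyx, ind_self] at this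
    by_cases hzx : z = x
    · exact hyz (hyx.trans hzx.symm)
    · rw [ind_ne _ (Ne.symm hzx)] at this
      rcases ht with h | h <;> omega
  have hzx : z ≠ x := by
    intro hzx
    have := hv x
    rw [del_self, ind_ne _ hyx.symm, hzx, ind_self] at this
    rcases hr with h | h <;> omega
  refine ⟨x, y, z, v x, t, r, hyx.symm, hzx.symm, hyz, hs, ht, hr, fun χ => ?_⟩
  rw [eq_ind_add_del x v χ, hv χ, add_assoc]

/-- the sum of products against a two-term vector -/
theorem sum_two_mul {v : I → ℤ} {x y : I} {s t : ℤ} (hv : ∀ χ, v χ = ind x s χ + ind y t χ)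
    (w : I → ℤ) : ∑ χ, v χ * w χ = s * w x + t * w y := by
  rw [← sum_ind_mul x s w, ← sum_ind_mul y t w, ← Finset.sum_add_distrib]
  refine Finset.sum_congr rfl fun χ _ => ?_
  rw [hv χ]; ring

/-- the sum of products against a three-term vector -/
theorem sum_three_mul {v : I → ℤ} {x y z : I} {s t r : ℤ}
    (hv : ∀ χ, v χ = ind x s χ + ind y t χ + ind z r χ)
    (w : I → ℤ) : ∑ χ, v χ * w χ = s * w x + t * w y + r * w z := by
  rw [← sum_ind_mul x s w, ← sum_ind_mul y t w, ← sum_ind_mul z r w, ← Finset.sum_add_distrib,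
    ← Finset.sum_add_distrib]
  refine Finset.sum_congr rfl fun χ _ => ?_
  rw [hv χ]; ring

end Cfsg.Agent.Helper8.DihVec
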