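import Mathlib
import Cfsg.Prelude.Def_Blocks
import Cfsg.Prelude.Def_BlockRank
import Cfsg.Agent.Helper24.Product
import Cfsg.Agent.Helper24.Expansion

/-!
# Blocks with a Sylow defect group of prime order: shared definitions (S4442 / S4507 / S4502)

`IsPLin p μ`  : `μ : X → ℂ` is multiplicative and trivial on `p`-regular elements
  (for `X = C_G(P) = P × K` these are the `p` linear characters with `K` in the kernel).
`kap P n hn`  : conjugation by `n ∈ N_G(P)` as an automorphism of `C_G(P)`.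
`Dnum μ θ χ`  : `⟨χ|_C, μ θ⟩ - ⟨χ|_C, θ⟩` (an integer; the generalized decomposition-type number
  `⟨χ|_C, (μ - 1) θ⟩`).
-/

set_option autoImplicit false

namespace Cfsg.Agent.Helper8.D1

open Cfsg

/-- multiplicative functions trivial on `p`-regular elements -/
structure IsPLin (p : ℕ) {X : Type*} [Group X] (μ : X → ℂ) : Prop where
  one : μ 1 = 1
  mul : ∀ a b, μ (a * b) = μ a * μ b
  reg : ∀ y, ¬ p ∣ orderOf y → μ y = 1

theorem isPLin_one (p : ℕ) {X : Type*} [Group X] : IsPLin p (fun _ : X => (1 : ℂ)) :=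
  ⟨rfl, fun _ _ => (one_mul 1).symm, fun _ _ => rfl⟩

theorem IsPLin.ne_zero {p : ℕ} {X : Type*} [Group X] {μ : X → ℂ} (h : IsPLin p μ) (x : X) :
    μ x ≠ 0 := by
  intro h0
  have := h.mul x x⁻¹
  rw [mul_inv_cancel, h.one, h0, zero_mul] at this
  exact one_ne_zero this

theorem IsPLin.inv {p : ℕ} {X : Type*} [Group X] {μ : X → ℂ} (h : IsPLin p μ) (x : X) :
    μ x⁻¹ = (μ x)⁻¹ := by
  have := h.mul x x⁻¹
  rw [mul_inv_cancel, h.one] at this
  exact eq_inv_of_mul_eq_one_right this.symm

theorem IsPLin.pow {p : ℕ} {X : Type*} [Group X] {μ : X → ℂ} (h : IsPLin p μ) (x : X) (k : ℕ) :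
    μ (x ^ k) = μ x ^ k := by
  induction k with
  | zero => rw [pow_zero, pow_zero, h.one]
  | succ k ih => rw [pow_succ, pow_succ, h.mul, ih]

/-- the monoid hom underlying a `p`-linear function -/
noncomputable def IsPLin.hom {p : ℕ} {X : Type*} [Group X] {μ : X → ℂ} (h : IsPLin p μ) : X →* ℂ where
  toFun := μ
  map_one' := h.one
  map_mul' := h.mul

theorem IsPLin.comp {p : ℕ} {X Y : Type*} [Group X] [Group Y] {μ : X → ℂ} (h : IsPLin p μ)
    (e : Y ≃* X) : IsPLin p (fun y => μ (e y)) where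
  one := by rw [map_one]; exact h.one
  mul a b := by rw [map_mul]; exact h.mul _ _
  reg y hy := by
    apply h.reg
    rwa [MulEquiv.orderOf_eq e y]

theorem IsPLin.mul' {p : ℕ} {X : Type*} [Group X] {μ ν : X → ℂ} (h : IsPLin p μ) (h' : IsPLin p ν) :
    IsPLin p (fun x => μ x * ν x) where
  one := by rw [h.one, h'.one, one_mul]
  mul a b := by rw [h.mul, h'.mul]; ring
  reg y hy := by rw [h.reg y hy, h'.reg y hy, one_mul]

theorem IsPLin.inv' {p : ℕ} {X : Type*} [Group X] {μ : X → ℂ} (h : IsPLin p μ) :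
    IsPLin p (fun x => (μ x)⁻¹) where
  one := by rw [h.one, inv_one]
  mul a b := by rw [h.mul, mul_inv]
  reg y hy := by rw [h.reg y hy, inv_one]

section conj

variable {G : Type*} [Group G]

theorem conj_mem_centralizer (P : Subgroup G) {n : G}
    (hn : n ∈ Subgroup.normalizer (P : Set G)) {c : G} (hc : c ∈ Subgroup.centralizer (P : Set G)) :
    n * c * n⁻¹ ∈ Subgroup.centralizer (P : Set G) := by
  rw [Subgroup.mem_centralizer_iff] at hc ⊢
  intro x hx
  have hx' : n⁻¹ * x * n ∈ P := by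
    have := (Subgroup.mem_normalizer_iff.mp (Subgroup.inv_mem _ hn) x).mp hx
    simpa using this
  have h1 := hc _ hx'
  calc x * (n * c * n⁻¹) = n * ((n⁻¹ * x * n) * c) * n⁻¹ := by group
    _ = n * (c * (n⁻¹ * x * n)) * n⁻¹ := by rw [h1]
    _ = n * c * n⁻¹ * x := by group

/-- conjugation by `n ∈ N_G(P)` as an automorphism of `C_G(P)`. -/
noncomputable def kap (P : Subgroup G) (n : G) (hn : n ∈ Subgroup.normalizer (P : Set G)) :
    ↥(Subgroup.centralizer (P : Set G)) ≃* ↥(Subgroup.centralizer (P : Set G)) where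
  toFun c := ⟨n * c * n⁻¹, conj_mem_centralizer P hn c.2⟩
  invFun c := ⟨n⁻¹ * c * n, by
    have := conj_mem_centralizer P (Subgroup.inv_mem _ hn) c.2
    simpa using this⟩
  left_inv c := by apply Subtype.ext; simp only; group
  right_inv c := by apply Subtype.ext; simp only; group
  map_mul' a b := by apply Subtype.ext; simp only [Subgroup.coe_mul]; group

@[simp] theorem coe_kap (P : Subgroup G) (n : G) (hn : n ∈ Subgroup.normalizer (P : Set G))
    (c : ↥(Subgroup.centralizer (P : Set G))) : ((kap P n hn c : _) : G) = n * c * n⁻¹ := rfl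

@[simp] theorem coe_kap_symm (P : Subgroup G) (n : G) (hn : n ∈ Subgroup.normalizer (P : Set G))
    (c : ↥(Subgroup.centralizer (P : Set G))) : (((kap P n hn).symm c : _) : G) = n⁻¹ * c * n := rfl

end conj

section Dnum

variable {G : Type*} [Group G] [Finite G]

/-- `⟨χ|_H, μ θ⟩ - ⟨χ|_H, θ⟩` for a subgroup `H` -/
noncomputable def Dnum (H : Subgroup G) (μ θ : H → ℂ) (χ : G → ℂ) : ℂ :=
  haveI := Fintype.ofFinite H
  classInner (fun c : H => χ c) (fun c => μ c * θ c) - classInner (fun c : H => χ c) θ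

end Dnum

section mulIrr

variable {X : Type*} [Group X] [Finite X]

omit [Finite X] in
/-- a `p`-linear function is an (irreducible) character -/
theorem IsPLin.isCharacter {p : ℕ} {μ : X → ℂ} (h : IsPLin p μ) : IsCharacter X μ := by
  refine ⟨1, ?_, ?_⟩
  · exact
      { toFun := fun g => μ g • (LinearMap.id : (Fin 1 → ℂ) →ₗ[ℂ] (Fin 1 → ℂ))
        map_one' := by rw [h.one, one_smul]; rfl
        map_mul' := fun g k => by
          rw [h.mul, Module.End.mul_eq_comp, LinearMap.smul_comp, LinearMap.comp_smul, smul_smul]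
          rfl }
  · funext g
    unfold Representation.character
    show LinearMap.trace ℂ (Fin 1 → ℂ) (μ g • LinearMap.id) = μ g
    rw [map_smul, LinearMap.trace_id, Module.finrank_fin_fun]
    simp

theorem IsPLin.norm_eq_one {p : ℕ} {μ : X → ℂ} (h : IsPLin p μ) (x : X) : ‖μ x‖ = 1 := by
  have h1 : μ x ^ orderOf x = 1 := by
    rw [← h.pow, pow_orderOf_eq_one, h.one]
  have hpos : orderOf x ≠ 0 := (orderOf_pos x).ne'
  exact Complex.norm_eq_one_of_pow_eq_one h1 hpos

theorem IsPLin.mul_conj {p : ℕ} {μ : X → ℂ} (h : IsPLin p μ) (x : X) :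
    μ x * (starRingEnd ℂ) (μ x) = 1 := by
  rw [Complex.mul_conj, Complex.normSq_eq_norm_sq, h.norm_eq_one]
  norm_num

/-- the product of a `p`-linear function and an irreducible character is irreducible -/
theorem IsPLin.isIrr_mul {p : ℕ} {μ : X → ℂ} (h : IsPLin p μ) {θ : X → ℂ}
    (hθ : IsIrrCharacter X θ) : IsIrrCharacter X (fun x => μ x * θ x) := by
  classical
  have := Fintype.ofFinite X
  have : Fintype (IrrCharacter X) := Fintype.ofFinite _
  rw [Cfsg.Agent.Helper24.isIrrCharacter_iff_classInner_self]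
  refine ⟨?_, ?_⟩
  · exact Cfsg.Agent.Helper24.IsCharacter.mul h.isCharacter
      (Cfsg.Agent.Helper24.IsIrrCharacter.isCharacter hθ)
  · have h1 := Cfsg.Agent.Helper24.classInner_irr_self ⟨θ, hθ⟩
    rw [← h1]
    unfold classInner
    congr 1
    apply Finset.sum_congr rfl
    intro x _
    rw [map_mul]
    calc μ x * θ x * ((starRingEnd ℂ) (μ x) * (starRingEnd ℂ) (θ x))
        = (μ x * (starRingEnd ℂ) (μ x)) * (θ x * (starRingEnd ℂ) (θ x)) := by ring
      _ = θ x * (starRingEnd ℂ) (θ x) := by rw [h.mul_conj, one_mul]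

end mulIrr

end Cfsg.Agent.Helper8.D1
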