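import Mathlib
import Cfsg.Prelude.Def_Characters
import Cfsg.Agent.Helper8.GaloisChar

/-!
The action of `(ℤ/|G|)ˣ` on the irreducible characters of `G` by `χ ↦ χ(· ^ k)`, orbits of
subgroups, and the subgroups of units congruent to `1` modulo a divisor.
-/

set_option autoImplicit false

namespace Cfsg.Agent.Helper8.PConj

open Cfsg

section Action

variable {G : Type*} [Group G] [Finite G]

/-- the Galois twist of an irreducible character by a unit modulo `|G|` -/
noncomputable def twist (k : (ZMod (Nat.card G))ˣ) (ψ : IrrCharacter G) : IrrCharacter G :=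
  ⟨fun x => (ψ : G → ℂ) (x ^ (k : ZMod (Nat.card G)).val),
    isIrrCharacter_pow_of_coprime _ (ZMod.val_coe_unit_coprime k) ψ.2⟩

theorem twist_apply (k : (ZMod (Nat.card G))ˣ) (ψ : IrrCharacter G) (x : G) :
    (twist k ψ : G → ℂ) x = (ψ : G → ℂ) (x ^ (k : ZMod (Nat.card G)).val) := rfl

theorem twist_one (ψ : IrrCharacter G) : twist 1 ψ = ψ := by
  apply Subtype.ext
  funext x
  rw [twist_apply, Units.val_one, ZMod.val_one_eq_one_mod, pow_mod_natCard, pow_one]

theorem twist_mul (k₁ k₂ : (ZMod (Nat.card G))ˣ) (ψ : IrrCharacter G) :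
    twist (k₁ * k₂) ψ = twist k₁ (twist k₂ ψ) := by
  apply Subtype.ext
  funext x
  rw [twist_apply, twist_apply, twist_apply, Units.val_mul, ZMod.val_mul, pow_mod_natCard,
    ← pow_mul]

/-- the action of the units modulo `|G|` on the irreducible characters -/
noncomputable def galAction : MulAction (ZMod (Nat.card G))ˣ (IrrCharacter G) where
  smul := twist
  one_smul := twist_one
  mul_smul := twist_mul

end Action

section Orbit

variable {𝒢 β : Type*} [Group 𝒢] [MulAction 𝒢 β]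

/-- orbit of a subgroup: its size is the relative index of the stabiliser -/
theorem card_orbit_subgroup (H : Subgroup 𝒢) (b : β) :
    Nat.card {c : β // ∃ k ∈ H, k • b = c} = (MulAction.stabilizer 𝒢 b).relIndex H := by
  have h1 : {c : β | ∃ k ∈ H, k • b = c} = MulAction.orbit H b := by
    ext c
    constructor
    · rintro ⟨k, hk, rfl⟩
      exact ⟨⟨k, hk⟩, rfl⟩
    · rintro ⟨⟨k, hk⟩, rfl⟩
      exact ⟨k, hk, rfl⟩
  have h2 : MulAction.stabilizer H b = (MulAction.stabilizer 𝒢 b).subgroupOf H := by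
    ext ⟨k, hk⟩
    rw [MulAction.mem_stabilizer_iff, Subgroup.mem_subgroupOf, MulAction.mem_stabilizer_iff]
    rfl
  rw [Subgroup.relIndex, ← h2, MulAction.index_stabilizer, ← h1]
  exact (Nat.card_coe_set_eq _)

omit [MulAction 𝒢 β] in
theorem relIndex_dvd_mul (S W U : Subgroup 𝒢) (hWU : W ≤ U) :
    S.relIndex U ∣ S.relIndex W * W.relIndex U := by
  have h1 : (S ⊓ W).relIndex W * W.relIndex U = (S ⊓ W).relIndex U :=
    Subgroup.relIndex_mul_relIndex _ _ _ inf_le_right hWU
  have h2 : (S ⊓ W).relIndex (S ⊓ U) * (S ⊓ U).relIndex U = (S ⊓ W).relIndex U :=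
    Subgroup.relIndex_mul_relIndex _ _ _ (inf_le_inf_left S hWU) (inf_le_right)
  rw [Subgroup.inf_relIndex_right] at h1 h2
  rw [h1, ← h2]
  exact dvd_mul_left _ _

end Orbit

section Units

/-- the units congruent to `1` modulo the divisor `d` of `N` -/
noncomputable def oneMod (N d : ℕ) (h : d ∣ N) : Subgroup (ZMod N)ˣ := (ZMod.unitsMap h).ker

theorem mem_oneMod {N d : ℕ} [NeZero N] (h : d ∣ N) (k : (ZMod N)ˣ) :
    k ∈ oneMod N d h ↔ (k : ZMod N).val % d = 1 % d := by
  unfold oneMod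
  rw [MonoidHom.mem_ker, Units.ext_iff, ZMod.unitsMap_def, Units.coe_map, Units.val_one]
  have h1 : ((ZMod.castHom h (ZMod d) : ZMod N →* ZMod d)) (k : ZMod N) =
      (((k : ZMod N).val : ℕ) : ZMod d) := by
    show (ZMod.castHom h (ZMod d)) (k : ZMod N) = _
    rw [ZMod.castHom_apply, ZMod.cast_eq_val]
  rw [h1]
  rw [← Nat.cast_one (R := ZMod d), ZMod.natCast_eq_natCast_iff']

theorem oneMod_le {N d e : ℕ} [NeZero N] (hd : d ∣ N) (he : e ∣ N) (hde : d ∣ e) :
    oneMod N e he ≤ oneMod N d hd := by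
  intro k hk
  rw [mem_oneMod] at hk ⊢
  have := (Nat.ModEq.of_dvd hde (show (k : ZMod N).val ≡ 1 [MOD e] from hk))
  exact this

/-- enumeration of the units congruent to `1` modulo `m` when `N = m q` -/
theorem exists_equiv_oneMod {N m q : ℕ} [NeZero N] (hN : N = m * q) (hm : 2 ≤ m)
    (hcop : ∀ j, (1 + m * j).Coprime N) :
    ∃ e : Fin q ≃ oneMod N m ⟨q, hN⟩,
      ∀ j : Fin q, (((e j : oneMod N m ⟨q, hN⟩) : (ZMod N)ˣ) : ZMod N).val = 1 + m * j := by
  have hlt : ∀ j : Fin q, 1 + m * (j : ℕ) < N := by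
    intro j
    have hj := j.2
    have : m * ((j : ℕ) + 1) ≤ m * q := Nat.mul_le_mul_left m hj
    rw [hN]
    nlinarith
  have hval : ∀ j : Fin q,
      ((ZMod.unitOfCoprime (1 + m * (j : ℕ)) (hcop j) : (ZMod N)ˣ) : ZMod N).val = 1 + m * j := by
    intro j
    rw [ZMod.coe_unitOfCoprime, ZMod.val_natCast, Nat.mod_eq_of_lt (hlt j)]
  have hmem : ∀ j : Fin q, ZMod.unitOfCoprime (1 + m * (j : ℕ)) (hcop j) ∈ oneMod N m ⟨q, hN⟩ := by
    intro j
    rw [mem_oneMod, hval j]
    rw [Nat.add_mul_mod_self_left]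
  let f : Fin q → oneMod N m ⟨q, hN⟩ := fun j => ⟨_, hmem j⟩
  have hinj : Function.Injective f := by
    intro j j' hjj
    have h1 := congrArg (fun w : oneMod N m ⟨q, hN⟩ => ((w : (ZMod N)ˣ) : ZMod N).val) hjj
    simp only [f] at h1
    rw [hval j, hval j'] at h1
    have hm0 : 0 < m := by omega
    have h2 : m * (j : ℕ) = m * (j' : ℕ) := by omega
    exact Fin.ext (Nat.eq_of_mul_eq_mul_left hm0 h2)
  have hsurj : Function.Surjective f := by
    intro w
    have hw := (mem_oneMod ⟨q, hN⟩ (w : (ZMod N)ˣ)).mp w.2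
    rw [Nat.mod_eq_of_lt (show 1 < m by omega)] at hw
    have hv : ((w : (ZMod N)ˣ) : ZMod N).val < N := ZMod.val_lt _
    have hdm := Nat.div_add_mod ((w : (ZMod N)ˣ) : ZMod N).val m
    rw [hw] at hdm
    have hjq : ((w : (ZMod N)ˣ) : ZMod N).val / m < q := by
      apply Nat.div_lt_of_lt_mul
      rw [← hN]; exact hv
    refine ⟨⟨_, hjq⟩, ?_⟩
    apply Subtype.ext
    apply Units.ext
    apply ZMod.val_injective N
    have h3 := hval ⟨_, hjq⟩
    simp only at h3
    show ((f ⟨_, hjq⟩ : oneMod N m ⟨q, hN⟩) : (ZMod N)ˣ).val.val = _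
    simp only [f]
    rw [h3]
    omega
  exact ⟨Equiv.ofBijective f ⟨hinj, hsurj⟩, fun j => hval j⟩

/-- the units `≡ 1 mod p g'` have index dividing `p - 1` in the units `≡ 1 mod g'` -/
theorem relIndex_oneMod_dvd {N p g' : ℕ} [NeZero N] (hp : p.Prime) (hcop : p.Coprime g')
    (hg : g' ∣ N) (hpg : p * g' ∣ N) :
    (oneMod N (p * g') hpg).relIndex (oneMod N g' hg) ∣ p - 1 := by
  have hpN : p ∣ N := (dvd_mul_right p g').trans hpg
  have heq : oneMod N (p * g') hpg = oneMod N p hpN ⊓ oneMod N g' hg := by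
    ext k
    rw [Subgroup.mem_inf, mem_oneMod, mem_oneMod, mem_oneMod]
    constructor
    · intro h
      exact ⟨Nat.ModEq.of_dvd (dvd_mul_right p g') h, Nat.ModEq.of_dvd (dvd_mul_left g' p) h⟩
    · rintro ⟨h1, h2⟩
      exact (Nat.modEq_and_modEq_iff_modEq_mul hcop).mp ⟨h1, h2⟩
  rw [heq, Subgroup.inf_relIndex_right]
  haveI : (oneMod N p hpN).Normal := by
    unfold oneMod; exact MonoidHom.normal_ker _
  refine (Subgroup.relIndex_dvd_index_of_normal _ _).trans ?_
  unfold oneMod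
  rw [Subgroup.index_ker]
  haveI : NeZero p := ⟨hp.ne_zero⟩
  have h1 : Nat.card (ZMod.unitsMap hpN).range ∣ Nat.card (ZMod p)ˣ :=
    Subgroup.card_subgroup_dvd_card _
  have h2 : Nat.card (ZMod p)ˣ = p - 1 := by
    rw [Nat.card_eq_fintype_card, ZMod.card_units_eq_totient, Nat.totient_prime hp]
  rw [h2] at h1
  exact h1

end Units

end Cfsg.Agent.Helper8.PConj
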