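import Mathlib
import Cfsg.Agent.Helper1.UniqueOrderP
import Cfsg.Agent.Helper18.Wr5
import Cfsg.Agent.Helper23.PLengthOne
import Cfsg.Agent.Helper10.PConstrained

/-!
Groups of 2-rank one: an involution is central modulo a normal subgroup of odd order
(given the Brauer–Suzuki theorem as a hypothesis).
-/

set_option autoImplicit false

namespace Cfsg.Agent.Helper8.TwoRankOne

open Subgroup

universe u

section Klein

variable {G : Type*} [Group G]

/-- two distinct commuting involutions generate a Klein four-group -/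
theorem exists_klein_of_commuting {a z : G} (ha : orderOf a = 2) (hz : orderOf z = 2)
    (hne : a ≠ z) (hcomm : a * z = z * a) : ∃ E : Subgroup G, IsKleinFour E := by
  have ha2 : a * a = 1 := by rw [← sq, ← ha, pow_orderOf_eq_one]
  have hz2 : z * z = 1 := by rw [← sq, ← hz, pow_orderOf_eq_one]
  have ha1 : a ≠ 1 := by
    intro h
    rw [h, orderOf_one] at ha
    omega
  have hz1 : z ≠ 1 := by
    intro h
    rw [h, orderOf_one] at hz
    omega
  have hainv : a⁻¹ = a := inv_eq_of_mul_eq_one_right ha2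
  have hzinv : z⁻¹ = z := inv_eq_of_mul_eq_one_right hz2
  have e1 : a * (a * z) = z := by rw [← mul_assoc, ha2, one_mul]
  have e2 : z * (a * z) = a := by rw [hcomm, ← mul_assoc, hz2, one_mul]
  have e3 : a * z * a = z := by rw [hcomm, mul_assoc, ha2, mul_one]
  have e4 : a * z * z = a := by rw [mul_assoc, hz2, mul_one]
  have e5 : a * z * (a * z) = 1 := by rw [← mul_assoc, e3, hz2]
  let E : Subgroup G :=
    { carrier := {v | v = 1 ∨ v = a ∨ v = z ∨ v = a * z}
      one_mem' := Or.inl rfl
      mul_mem' := by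
        rintro x y (rfl | rfl | rfl | rfl) (rfl | rfl | rfl | rfl)
        · left; rw [one_mul]
        · right; left; rw [one_mul]
        · right; right; left; rw [one_mul]
        · right; right; right; rw [one_mul]
        · right; left; rw [mul_one]
        · left; exact ha2
        · right; right; right; rfl
        · right; right; left; exact e1
        · right; right; left; rw [mul_one]
        · right; right; right; exact hcomm.symm
        · left; exact hz2
        · right; left; exact e2
        · right; right; right; rw [mul_one]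
        · right; right; left; exact e3
        · right; left; exact e4
        · left; exact e5
      inv_mem' := by
        rintro x (rfl | rfl | rfl | rfl)
        · left; exact inv_one
        · right; left; exact hainv
        · right; right; left; exact hzinv
        · right; right; right; exact inv_eq_of_mul_eq_one_right e5 }
  have hmem : ∀ v, v ∈ E ↔ v = 1 ∨ v = a ∨ v = z ∨ v = a * z := fun v => Iff.rfl
  have haz1 : a * z ≠ 1 := by
    intro h
    apply hne
    have : a = z⁻¹ := eq_inv_of_mul_eq_one_left h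
    rw [this, hzinv]
  have haaz : a ≠ a * z := by
    intro h
    apply hz1
    have : a * 1 = a * z := by rw [mul_one]; exact h
    exact (mul_left_cancel this).symm
  have hzaz : z ≠ a * z := by
    intro h
    apply ha1
    have : 1 * z = a * z := by rw [one_mul]; exact h
    exact (mul_right_cancel this).symm
  have hcard : Nat.card E = 4 :=
    Cfsg.Agent.Helper18.Wr.card_eq_four_of_carrier E a z (a * z) hmem ha1 hz1 haz1 hne haaz hzaz
  refine ⟨E, Cfsg.Agent.Helper18.Wr.isKleinFour_of_card_of_sq E hcard ?_⟩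
  rintro v (rfl | rfl | rfl | rfl)
  · exact one_mul 1
  · exact ha2
  · exact hz2
  · exact e5

end Klein

section Main

variable {G : Type u} [Group G] [Finite G]

/-- without Klein four-subgroups, a Sylow 2-subgroup has at most one involution -/
theorem involution_unique_of_no_klein (hrank : ∀ E : Subgroup G, ¬ IsKleinFour E) (S : Sylow 2 G)
    {a b : G} (haS : a ∈ (S : Subgroup G)) (hbS : b ∈ (S : Subgroup G))
    (ha : orderOf a = 2) (hb : orderOf b = 2) : a = b := by
  haveI : Fact (Nat.Prime 2) := ⟨Nat.prime_two⟩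
  have ha1 : a ≠ 1 := by
    intro h
    rw [h, orderOf_one] at ha
    omega
  haveI : Nontrivial (S : Subgroup G) := ⟨⟨⟨a, haS⟩, 1, fun h => ha1 (congrArg Subtype.val h)⟩⟩
  haveI hZ : Nontrivial (Subgroup.center (S : Subgroup G)) := S.isPGroup'.center_nontrivial
  have hZp : IsPGroup 2 (Subgroup.center (S : Subgroup G)) := S.isPGroup'.to_subgroup _
  obtain ⟨k, hk⟩ := IsPGroup.iff_card.mp hZp
  have hk0 : k ≠ 0 := by
    intro h
    rw [h, pow_zero] at hk
    have := Finite.one_lt_card (α := Subgroup.center (S : Subgroup G))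
    omega
  have hdvd : 2 ∣ Nat.card (Subgroup.center (S : Subgroup G)) := by
    rw [hk]; exact dvd_pow_self 2 hk0
  obtain ⟨z, hz⟩ := exists_prime_orderOf_dvd_card' 2 hdvd
  -- `z : center S`
  have hzG : orderOf (((z : (S : Subgroup G)) : G)) = 2 := by
    rw [Subgroup.orderOf_coe, Subgroup.orderOf_coe]; exact hz
  have key : ∀ c : G, c ∈ (S : Subgroup G) → orderOf c = 2 → c = ((z : (S : Subgroup G)) : G) := by
    intro c hcS hc
    by_contra hne
    have hcomm : c * ((z : (S : Subgroup G)) : G) = ((z : (S : Subgroup G)) : G) * c := by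
      have := Subgroup.mem_center_iff.mp z.2 ⟨c, hcS⟩
      exact congrArg Subtype.val this
    obtain ⟨E, hE⟩ := exists_klein_of_commuting hc hzG hne hcomm
    exact hrank E hE
  rw [key a haS ha, key b hbS hb]

/-- the cyclic case (Burnside) -/
theorem cyclic_case (S : Sylow 2 G) (hS : IsCyclic (S : Subgroup G)) (heven : 2 ∣ Nat.card G) :
    ∃ z : G, orderOf z = 2 ∧ ∃ N : Subgroup G, N.Normal ∧ Odd (Nat.card N) ∧
      ∀ g : G, z * g * z⁻¹ * g⁻¹ ∈ N := by
  haveI : Fact (Nat.Prime 2) := ⟨Nat.prime_two⟩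
  have hmin : (Nat.card G).minFac = 2 := (Nat.minFac_eq_two_iff _).mpr heven
  have hcomp := IsCyclic.isComplement' hmin hS
  set L := (MonoidHom.transferSylow S (hS.normalizer_le_centralizer hmin)).ker with hL
  have hidx : (S : Subgroup G).index = Nat.card L := hcomp.index_eq_card
  have hodd : Odd (Nat.card L) := by
    rw [← hidx, ← Nat.not_even_iff_odd, even_iff_two_dvd]
    exact S.not_dvd_index
  have hdvdS : 2 ∣ Nat.card (S : Subgroup G) := by
    rw [S.card_eq_multiplicity]
    have : (Nat.card G).factorization 2 ≠ 0 := by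
      have hpos : Nat.card G ≠ 0 := Nat.card_pos.ne'
      have := (Nat.Prime.dvd_iff_one_le_factorization Nat.prime_two hpos).mp heven
      omega
    exact dvd_pow_self 2 this
  obtain ⟨z, hz⟩ := exists_prime_orderOf_dvd_card' 2 hdvdS
  refine ⟨(z : G), by rw [Subgroup.orderOf_coe]; exact hz, L, inferInstance, hodd, ?_⟩
  intro g
  rw [hL, MonoidHom.mem_ker, map_mul, map_mul, map_mul, map_inv, map_inv]
  letI : CommGroup (S : Subgroup G) := IsCyclic.commGroup
  rw [mul_comm (MonoidHom.transferSylow S _ (z : G)) _, mul_assoc, mul_assoc, mul_inv_cancel_left]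
  exact mul_inv_cancel _

/-- the quaternion case, from the Brauer–Suzuki theorem -/
theorem quaternion_case
    (hBS : ∀ (H : Type u) [Group H] [Finite H] (S : Sylow 2 H) (n : ℕ)
      (_ : (S : Subgroup H) ≃* QuaternionGroup (2 ^ (n + 1)))
      (_ : ∀ N : Subgroup H, N.Normal → Odd (Nat.card N) → N = ⊥),
      Nat.card (Subgroup.center H) = 2)
    (S : Sylow 2 G) (n : ℕ) (e : (S : Subgroup G) ≃* QuaternionGroup (2 ^ (n + 1))) :
    ∃ z : G, orderOf z = 2 ∧ ∃ N : Subgroup G, N.Normal ∧ Odd (Nat.card N) ∧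
      ∀ g : G, z * g * z⁻¹ * g⁻¹ ∈ N := by
  haveI : Fact (Nat.Prime 2) := ⟨Nat.prime_two⟩
  set N := Cfsg.pPrimeCore 2 G with hN
  haveI hNn : N.Normal := Subgroup.sSup_normal _ (fun _ h => h.1)
  have hNodd : Odd (Nat.card N) := by
    have := Cfsg.Agent.Helper19.pPrimeCore_coprime (G := G) 2
    exact Nat.coprime_two_right.mp this
  set π := QuotientGroup.mk' N with hπ
  have hsurj : Function.Surjective π := QuotientGroup.mk'_surjective N
  let S' : Sylow 2 (G ⧸ N) := S.mapSurjective hsurj
  have hS' : (S' : Subgroup (G ⧸ N)) = (S : Subgroup G).map π := Sylow.coe_mapSurjective _ _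
  have hinf : (S : Subgroup G) ⊓ N = ⊥ := Cfsg.Agent.Helper10.sylow_inf_pPrimeCore S
  -- the isomorphism `S ≃ S'`
  let φ : (S : Subgroup G) →* ((S : Subgroup G).map π) := π.subgroupMap (S : Subgroup G)
  have hφs : Function.Surjective φ := π.subgroupMap_surjective _
  have hφi : Function.Injective φ := by
    rw [injective_iff_map_eq_one]
    intro s hs
    have h1 : π (s : G) = 1 := congrArg Subtype.val hs
    have h2 : (s : G) ∈ N := by
      rw [hπ, QuotientGroup.mk'_apply, QuotientGroup.eq_one_iff] at h1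
      exact h1
    have h3 : (s : G) ∈ (S : Subgroup G) ⊓ N := ⟨s.2, h2⟩
    rw [hinf, Subgroup.mem_bot] at h3
    exact Subtype.ext h3
  let ψ : (S : Subgroup G) ≃* ((S : Subgroup G).map π) := MulEquiv.ofBijective φ ⟨hφi, hφs⟩
  let e' : (S' : Subgroup (G ⧸ N)) ≃* QuaternionGroup (2 ^ (n + 1)) :=
    ((MulEquiv.subgroupCongr hS').trans ψ.symm).trans e
  have hO : ∀ T : Subgroup (G ⧸ N), T.Normal → Odd (Nat.card T) → T = ⊥ := by
    intro T hT hodd
    exact Cfsg.Agent.Helper23.eq_bot_of_normal_coprime_quotient_pPrimeCore 2 G T hT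
      (Nat.coprime_two_right.mpr hodd)
  have hcard := hBS (G ⧸ N) S' n e' hO
  -- a central involution of the quotient
  haveI : Nontrivial (Subgroup.center (G ⧸ N)) := by
    apply Finite.one_lt_card_iff_nontrivial.mp
    rw [hcard]; norm_num
  obtain ⟨zb, hzb⟩ := exists_ne (1 : Subgroup.center (G ⧸ N))
  have hzb2 : orderOf (zb : G ⧸ N) = 2 := by
    have h1 : orderOf zb ∣ 2 := by rw [← hcard]; exact orderOf_dvd_natCard zb
    have h2 : orderOf zb ≠ 1 := by
      rw [Ne, orderOf_eq_one_iff]; exact hzb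
    rw [Subgroup.orderOf_coe]
    rcases (Nat.dvd_prime Nat.prime_two).mp h1 with h | h
    · exact absurd h h2
    · exact h
  have hzbc : ∀ q : G ⧸ N, q * (zb : G ⧸ N) = (zb : G ⧸ N) * q :=
    fun q => Subgroup.mem_center_iff.mp zb.2 q
  -- `zb` lies in `S'`
  have hzbS : (zb : G ⧸ N) ∈ (S' : Subgroup (G ⧸ N)) := by
    have hp : IsPGroup 2 (Subgroup.zpowers (zb : G ⧸ N)) := by
      apply IsPGroup.of_card (n := 1)
      rw [Nat.card_zpowers, hzb2, pow_one]
    obtain ⟨P, hP⟩ := hp.exists_le_sylow
    obtain ⟨g, hg⟩ := MulAction.exists_smul_eq (G ⧸ N) P S'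
    rw [← hg, Sylow.coe_subgroup_smul, Subgroup.mem_smul_pointwise_iff_exists]
    refine ⟨(zb : G ⧸ N), hP (Subgroup.mem_zpowers _), ?_⟩
    simp only [MulAut.smul_def, MulAut.conj_apply]
    rw [hzbc g, mul_inv_cancel_right]
  rw [hS'] at hzbS
  obtain ⟨s, hsS, hs⟩ := hzbS
  have hs1 : s ≠ 1 := by
    intro h
    apply hzb
    apply Subtype.ext
    rw [← hs, h, map_one]
    rfl
  have hs2 : s ^ 2 = 1 := by
    have h1 : π (s ^ 2) = 1 := by
      rw [map_pow, hs, ← hzb2, pow_orderOf_eq_one]
    have h2 : s ^ 2 ∈ N := by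
      rw [hπ, QuotientGroup.mk'_apply, QuotientGroup.eq_one_iff] at h1
      exact h1
    have h3 : s ^ 2 ∈ (S : Subgroup G) ⊓ N := ⟨Subgroup.pow_mem _ hsS 2, h2⟩
    rw [hinf, Subgroup.mem_bot] at h3
    exact h3
  refine ⟨s, orderOf_eq_prime hs2 hs1, N, hNn, hNodd, ?_⟩
  intro g
  have h1 : π (s * g * s⁻¹ * g⁻¹) = 1 := by
    rw [map_mul, map_mul, map_mul, map_inv, map_inv, hs, ← hzbc (π g), mul_assoc (π g),
      mul_inv_cancel, mul_one, mul_inv_cancel]
  rw [hπ, QuotientGroup.mk'_apply, QuotientGroup.eq_one_iff] at h1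
  exact h1

/-- **2-rank one.** -/
theorem main
    (hBS : ∀ (H : Type u) [Group H] [Finite H] (S : Sylow 2 H) (n : ℕ)
      (_ : (S : Subgroup H) ≃* QuaternionGroup (2 ^ (n + 1)))
      (_ : ∀ N : Subgroup H, N.Normal → Odd (Nat.card N) → N = ⊥),
      Nat.card (Subgroup.center H) = 2)
    (heven : Even (Nat.card G)) (hrank : ∀ E : Subgroup G, ¬ IsKleinFour E) :
    ∃ z : G, orderOf z = 2 ∧ ∃ N : Subgroup G, N.Normal ∧ Odd (Nat.card N) ∧
      ∀ g : G, z * g * z⁻¹ * g⁻¹ ∈ N := by
  haveI : Fact (Nat.Prime 2) := ⟨Nat.prime_two⟩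
  have h2 : 2 ∣ Nat.card G := even_iff_two_dvd.mp heven
  obtain ⟨S⟩ : Nonempty (Sylow 2 G) := inferInstance
  -- uniqueness of the subgroup of order 2 in `S`
  have huniq : ∀ H K : Subgroup (S : Subgroup G), Nat.card H = 2 → Nat.card K = 2 → H = K := by
    have gen : ∀ H : Subgroup (S : Subgroup G), Nat.card H = 2 →
        ∃ h : (S : Subgroup G), orderOf h = 2 ∧ H = Subgroup.zpowers h := by
      intro H hH
      obtain ⟨h, hh⟩ := exists_prime_orderOf_dvd_card' 2 (by rw [hH] : 2 ∣ Nat.card H)
      refine ⟨(h : (S : Subgroup G)), by rw [Subgroup.orderOf_coe]; exact hh, ?_⟩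
      symm
      apply Subgroup.eq_of_le_of_card_ge
      · rw [Subgroup.zpowers_le]; exact h.2
      · rw [Nat.card_zpowers, Subgroup.orderOf_coe, hh, hH]
    intro H K hH hK
    obtain ⟨h, hh, rfl⟩ := gen H hH
    obtain ⟨k, hk, rfl⟩ := gen K hK
    have : (h : G) = (k : G) := involution_unique_of_no_klein hrank S h.2 k.2
      (by rw [Subgroup.orderOf_coe]; exact hh) (by rw [Subgroup.orderOf_coe]; exact hk)
    rw [Subtype.ext this]
  rcases Cfsg.Agent.Helper1.UniqP.cyclic_or_quaternion 2 S.isPGroup' huniq with hc | ⟨-, n, ⟨e⟩⟩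
  · exact cyclic_case S hc h2
  · rcases n with _ | n
    · -- `QuaternionGroup 1` is cyclic
      have hc : IsCyclic (S : Subgroup G) := by
        haveI : IsCyclic (QuaternionGroup (2 ^ 0)) := by
          rw [pow_zero]; exact QuaternionGroup.quaternionGroup_one_isCyclic
        exact isCyclic_of_surjective e.symm.toMonoidHom e.symm.surjective
      exact cyclic_case S hc h2
    · exact quaternion_case hBS S n e

end Main

end Cfsg.Agent.Helper8.TwoRankOne
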