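import Mathlib
import Cfsg.Prelude.Def_Characters
import Cfsg.Agent.Helper24.Generalized

set_option autoImplicit false

namespace Cfsg.Agent.Helper8

open scoped ComplexConjugate
open Cfsg.Agent.Helper24

/-- A generalized character of norm `2` vanishing at `1` is the difference of two distinct
irreducible characters. -/
theorem exists_irr_sub_irr_of_norm_two {G : Type*} [Group G] [Fintype G] {θ : G → ℂ}
    (h : Cfsg.IsGeneralizedCharacter G θ) (h2 : Cfsg.classInner θ θ = 2) (h0 : θ 1 = 0) :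
    ∃ a b : Cfsg.IrrCharacter G, a ≠ b ∧ θ = (a : G → ℂ) - (b : G → ℂ) := by
  classical
  have : Fintype (Cfsg.IrrCharacter G) := Fintype.ofFinite _
  obtain ⟨n, rfl⟩ := IsGeneralizedCharacter.exists_int_coeff h
  rw [classInner_sum_sum] at h2
  have h' : ∑ ψ : Cfsg.IrrCharacter G, n ψ ^ 2 = 2 := by
    have : (∑ ψ : Cfsg.IrrCharacter G, (n ψ : ℂ) * (starRingEnd ℂ) (n ψ : ℂ)) =
        ((∑ ψ : Cfsg.IrrCharacter G, n ψ ^ 2 : ℤ) : ℂ) := by
      push_cast
      refine Finset.sum_congr rfl ?_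
      intro ψ _
      rw [map_intCast, sq]
    rw [this] at h2
    exact_mod_cast h2
  set s := Finset.univ.filter (fun ψ : Cfsg.IrrCharacter G => n ψ ≠ 0) with hs
  have hs0 : ∀ ψ, ψ ∉ s → n ψ = 0 := by
    intro ψ hψ
    by_contra hne
    exact hψ (by rw [hs, Finset.mem_filter]; exact ⟨Finset.mem_univ _, hne⟩)
  have hsum_s : ∑ ψ ∈ s, n ψ ^ 2 = 2 := by
    rw [← h']
    apply Finset.sum_subset (Finset.subset_univ _)
    intro ψ _ hψ
    rw [hs0 ψ hψ]; ring
  have hle2 : ∀ ψ ∈ s, n ψ ^ 2 ≤ 2 := by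
    intro ψ hψ
    rw [← hsum_s]
    exact Finset.single_le_sum (f := fun ψ => n ψ ^ 2) (fun i _ => sq_nonneg (n i)) hψ
  have hpm : ∀ ψ ∈ s, n ψ = 1 ∨ n ψ = -1 := by
    intro ψ hψ
    have hne : n ψ ≠ 0 := by
      rw [hs, Finset.mem_filter] at hψ; exact hψ.2
    have := hle2 ψ hψ
    have h1 : -1 ≤ n ψ := by nlinarith
    have h2 : n ψ ≤ 1 := by nlinarith
    omega
  have hsq1 : ∀ ψ ∈ s, n ψ ^ 2 = 1 := by
    intro ψ hψ
    rcases hpm ψ hψ with h | h <;> rw [h] <;> norm_num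
  have hcard : s.card = 2 := by
    have : ∑ ψ ∈ s, n ψ ^ 2 = ∑ _ψ ∈ s, (1 : ℤ) := Finset.sum_congr rfl hsq1
    rw [this, Finset.sum_const, nsmul_eq_mul, mul_one] at hsum_s
    exact_mod_cast hsum_s
  obtain ⟨a, b, hab, hsab⟩ := Finset.card_eq_two.mp hcard
  have ha : a ∈ s := by rw [hsab]; simp
  have hb : b ∈ s := by rw [hsab]; simp
  have hθ : ∑ ψ : Cfsg.IrrCharacter G, (n ψ : ℂ) • (ψ : G → ℂ)
      = (n a : ℂ) • (a : G → ℂ) + (n b : ℂ) • (b : G → ℂ) := by
    rw [← Finset.sum_subset (Finset.subset_univ s), hsab, Finset.sum_pair hab]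
    intro ψ _ hψ
    rw [hs0 ψ hψ]; simp
  rw [hθ] at h0 ⊢
  obtain ⟨da, hda, hda1⟩ := isIrrCharacter_one a.2
  obtain ⟨db, hdb, hdb1⟩ := isIrrCharacter_one b.2
  simp only [Pi.add_apply, Pi.smul_apply, smul_eq_mul, hda1, hdb1] at h0
  have h0' : (n a : ℤ) * da + n b * db = 0 := by exact_mod_cast h0
  have hda' : (0 : ℤ) < da := by exact_mod_cast hda
  have hdb' : (0 : ℤ) < db := by exact_mod_cast hdb
  rcases hpm a ha with h1 | h1 <;> rcases hpm b hb with h2 | h2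
  · exfalso; rw [h1, h2] at h0'; nlinarith
  · refine ⟨a, b, hab, ?_⟩
    rw [h1, h2]; simp [sub_eq_add_neg]
  · refine ⟨b, a, Ne.symm hab, ?_⟩
    rw [h1, h2]; simp [sub_eq_add_neg, add_comm]
  · exfalso; rw [h1, h2] at h0'; nlinarith

/-- An irreducible character is never the negative of an irreducible character. -/
theorem irr_ne_neg_irr {G : Type*} [Group G] [Finite G] {a b : G → ℂ}
    (ha : Cfsg.IsIrrCharacter G a) (hb : Cfsg.IsIrrCharacter G b) : a ≠ -b := by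
  intro h
  obtain ⟨da, hda, hda1⟩ := isIrrCharacter_one ha
  obtain ⟨db, hdb, hdb1⟩ := isIrrCharacter_one hb
  have := congrFun h 1
  rw [Pi.neg_apply, hda1, hdb1] at this
  have h2 : ((da : ℤ) : ℂ) = ((-(db : ℤ) : ℤ) : ℂ) := by push_cast; exact this
  have h3 : (da : ℤ) = -(db : ℤ) := by exact_mod_cast h2
  omega

end Cfsg.Agent.Helper8
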