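import Mathlib
import Cfsg.Prelude.Def_Characters
import Cfsg.Agent.Helper8.Ind
import Cfsg.Agent.Helper8.Virtual
import Cfsg.Agent.Helper24.Generalized
import Cfsg.Agent.Helper24.Linear
import Cfsg.Agent.Helper24.Abelian

/-!
An exceptional pair of characters from a linear character `λ` of a subgroup `C` of index two in
`N`, not `N`-invariant, with `1 - λ` supported on a T.I. set whose normalizer is `N`.
-/

set_option autoImplicit false

namespace Cfsg.Agent.Helper8.ExcPair

open Cfsg Cfsg.Agent.Helper24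

section NormTwo

variable {G : Type*} [Group G] [Fintype G]

/-- A generalized character of norm `2` is a signed sum of two distinct irreducible characters. -/
theorem exists_signed_pair_of_norm_two {θ : G → ℂ}
    (h : IsGeneralizedCharacter G θ) (h2 : classInner θ θ = 2) :
    ∃ a b : IrrCharacter G, ∃ ea eb : ℤ, a ≠ b ∧ (ea = 1 ∨ ea = -1) ∧ (eb = 1 ∨ eb = -1) ∧
      θ = (ea : ℂ) • (a : G → ℂ) + (eb : ℂ) • (b : G → ℂ) := by
  classical
  have : Fintype (IrrCharacter G) := Fintype.ofFinite _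
  obtain ⟨n, rfl⟩ := IsGeneralizedCharacter.exists_int_coeff h
  rw [classInner_sum_sum] at h2
  have h' : ∑ ψ : IrrCharacter G, n ψ ^ 2 = 2 := by
    have : (∑ ψ : IrrCharacter G, (n ψ : ℂ) * (starRingEnd ℂ) (n ψ : ℂ)) =
        ((∑ ψ : IrrCharacter G, n ψ ^ 2 : ℤ) : ℂ) := by
      push_cast
      refine Finset.sum_congr rfl ?_
      intro ψ _
      rw [map_intCast, sq]
    rw [this] at h2
    exact_mod_cast h2
  set s := Finset.univ.filter (fun ψ : IrrCharacter G => n ψ ≠ 0) with hs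
  have hs0 : ∀ ψ, ψ ∉ s → n ψ = 0 := by
    intro ψ hψ
    by_contra hne
    exact hψ (by rw [hs, Finset.mem_filter]; exact ⟨Finset.mem_univ _, hne⟩)
  have hsum_s : ∑ ψ ∈ s, n ψ ^ 2 = 2 := by
    rw [← h']
    apply Finset.sum_subset (Finset.subset_univ _)
    intro ψ _ hψ
    rw [hs0 ψ hψ]; ring
  have hle2 : ∀ ψ ∈ s, n ψ ^ 2 ≤ 2 := by
    intro ψ hψ
    rw [← hsum_s]
    exact Finset.single_le_sum (f := fun ψ => n ψ ^ 2) (fun i _ => sq_nonneg (n i)) hψ
  have hpm : ∀ ψ ∈ s, n ψ = 1 ∨ n ψ = -1 := by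
    intro ψ hψ
    have hne : n ψ ≠ 0 := by
      rw [hs, Finset.mem_filter] at hψ; exact hψ.2
    have := hle2 ψ hψ
    have h1 : -1 ≤ n ψ := by nlinarith
    have h2 : n ψ ≤ 1 := by nlinarith
    omega
  have hsq1 : ∀ ψ ∈ s, n ψ ^ 2 = 1 := by
    intro ψ hψ
    rcases hpm ψ hψ with h | h <;> rw [h] <;> norm_num
  have hcard : s.card = 2 := by
    have : ∑ ψ ∈ s, n ψ ^ 2 = ∑ _ψ ∈ s, (1 : ℤ) := Finset.sum_congr rfl hsq1
    rw [this, Finset.sum_const, nsmul_eq_mul, mul_one] at hsum_s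
    exact_mod_cast hsum_s
  obtain ⟨a, b, hab, hsab⟩ := Finset.card_eq_two.mp hcard
  have ha : a ∈ s := by rw [hsab]; simp
  have hb : b ∈ s := by rw [hsab]; simp
  have hθ : ∑ ψ : IrrCharacter G, (n ψ : ℂ) • (ψ : G → ℂ)
      = (n a : ℂ) • (a : G → ℂ) + (n b : ℂ) • (b : G → ℂ) := by
    rw [← Finset.sum_subset (Finset.subset_univ s), hsab, Finset.sum_pair hab]
    intro ψ _ hψ
    rw [hs0 ψ hψ]; simp
  exact ⟨a, b, n a, n b, hab, hpm a ha, hpm b hb, hθ⟩

/-- A generalized character `Θ` of norm `3` vanishing at `1` and containing the principal character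
once is `1 + χ₂ - χ₁` with `χ₁ 1 = χ₂ 1 + 1`. -/
theorem exists_pair_of_norm_three {Θ : G → ℂ} (h : IsGeneralizedCharacter G Θ)
    (h3 : classInner Θ Θ = 3) (h1 : classInner Θ (fun _ => (1 : ℂ)) = 1) (h0 : Θ 1 = 0) :
    ∃ χ₁ χ₂ : G → ℂ, IsIrrCharacter G χ₁ ∧ IsIrrCharacter G χ₂ ∧ χ₁ ≠ (fun _ => 1) ∧
      χ₂ ≠ (fun _ => 1) ∧ χ₁ 1 = χ₂ 1 + 1 ∧ Θ = (fun _ => (1 : ℂ)) + χ₂ - χ₁ := by
  classical
  have htriv : IsIrrCharacter G (fun _ => (1 : ℂ)) := isIrrCharacter_const_one
  have hgen : IsGeneralizedCharacter G (Θ - fun _ => (1 : ℂ)) :=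
    IsGeneralizedCharacter.sub h (IsIrrCharacter.isGeneralizedCharacter htriv)
  have h1' : classInner (fun _ : G => (1 : ℂ)) Θ = 1 := by
    rw [← Cfsg.Agent.Helper24.classInner_conj_symm, h1, map_one]
  have h11 : classInner (fun _ : G => (1 : ℂ)) (fun _ : G => (1 : ℂ)) = 1 :=
    classInner_irr_self (trivIrr G)
  have hn2 : classInner (Θ - fun _ => (1 : ℂ)) (Θ - fun _ => (1 : ℂ)) = 2 := by
    rw [classInner_sub_left, classInner_sub_right, classInner_sub_right, h3, h1, h1', h11]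
    norm_num
  have horth : classInner (Θ - fun _ => (1 : ℂ)) (fun _ => (1 : ℂ)) = 0 := by
    rw [classInner_sub_left, h1, h11, sub_self]
  obtain ⟨a, b, ea, eb, hab, hea, heb, hθ⟩ := exists_signed_pair_of_norm_two hgen hn2
  have hval : (ea : ℂ) * (a : G → ℂ) 1 + (eb : ℂ) * (b : G → ℂ) 1 = -1 := by
    have := congrFun hθ 1
    simp only [Pi.sub_apply, Pi.add_apply, Pi.smul_apply, smul_eq_mul, h0, zero_sub] at this
    exact this.symm
  rw [irrDeg_spec, irrDeg_spec] at hval
  have hval' : ea * (irrDeg a : ℤ) + eb * (irrDeg b : ℤ) = -1 := by exact_mod_cast hval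
  have hda : (0 : ℤ) < irrDeg a := by exact_mod_cast irrDeg_pos a
  have hdb : (0 : ℤ) < irrDeg b := by exact_mod_cast irrDeg_pos b
  -- neither is principal
  have horth' : (ea : ℂ) * classInner (a : G → ℂ) (fun _ => (1 : ℂ))
      + (eb : ℂ) * classInner (b : G → ℂ) (fun _ => (1 : ℂ)) = 0 := by
    rw [hθ, classInner_add_left, classInner_smul_left, classInner_smul_left] at horth
    exact horth
  have hea0 : (ea : ℂ) ≠ 0 := by
    rcases hea with h | h <;> rw [h] <;> norm_num
  have heb0 : (eb : ℂ) ≠ 0 := by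
    rcases heb with h | h <;> rw [h] <;> norm_num
  have hat : (a : G → ℂ) ≠ fun _ => 1 := by
    intro hat
    have hbt : b ≠ trivIrr G := by
      intro hbt
      apply hab
      rw [hbt]
      exact Subtype.ext hat
    have e1 : classInner (b : G → ℂ) ((trivIrr G : IrrCharacter G) : G → ℂ) = 0 :=
      classInner_irr_ne hbt
    have e1' : classInner (b : G → ℂ) (fun _ => (1 : ℂ)) = 0 := e1
    rw [e1', mul_zero, add_zero, hat, h11, mul_one] at horth'
    exact hea0 horth'
  have hbt : (b : G → ℂ) ≠ fun _ => 1 := by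
    intro hbt
    have hat' : a ≠ trivIrr G := fun h => hat (congrArg Subtype.val h)
    have e1 : classInner (a : G → ℂ) ((trivIrr G : IrrCharacter G) : G → ℂ) = 0 :=
      classInner_irr_ne hat'
    have e1' : classInner (a : G → ℂ) (fun _ => (1 : ℂ)) = 0 := e1
    rw [e1', mul_zero, zero_add, hbt, h11, mul_one] at horth'
    exact heb0 horth'
  have hΘ : Θ = (fun _ => (1 : ℂ)) + ((ea : ℂ) • (a : G → ℂ) + (eb : ℂ) • (b : G → ℂ)) := by
    rw [← hθ]; abel
  rcases hea with h1e | h1e <;> rcases heb with h2e | h2e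
  · exfalso; rw [h1e, h2e] at hval'; nlinarith
  · -- Θ - 1 = a - b
    refine ⟨b, a, b.2, a.2, hbt, hat, ?_, ?_⟩
    · rw [irrDeg_spec, irrDeg_spec]
      rw [h1e, h2e] at hval'
      have : (irrDeg b : ℤ) = irrDeg a + 1 := by linarith
      exact_mod_cast this
    · rw [hΘ, h1e, h2e]
      push_cast
      rw [one_smul, neg_smul, one_smul]
      abel
  · refine ⟨a, b, a.2, b.2, hat, hbt, ?_, ?_⟩
    · rw [irrDeg_spec, irrDeg_spec]
      rw [h1e, h2e] at hval'
      have : (irrDeg a : ℤ) = irrDeg b + 1 := by linarith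
      exact_mod_cast this
    · rw [hΘ, h1e, h2e]
      push_cast
      rw [one_smul, neg_smul, one_smul]
      abel
  · exfalso; rw [h1e, h2e] at hval'; nlinarith

end NormTwo

section Induced

variable {G : Type*} [Group G] [Fintype G] (C N : Subgroup G) (X : Set G)
  (lam : C →* ℂ) (s : G)

/-- `ϑ = 1 - λ` -/
def vt : C → ℂ := fun c => 1 - lam c

omit [Fintype G] in
theorem vt_apply (c : C) : vt C lam c = 1 - lam c := rfl

omit [Fintype G] in
theorem vt_isGenChar : IsGeneralizedCharacter C (vt C lam) :=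
  ⟨fun _ => 1, fun c => lam c, isCharacter_const_one, isCharacter_of_monoidHom lam, rfl⟩

omit [Fintype G] in
theorem vt_isClassFunction : IsClassFunction C (vt C lam) :=
  IsGeneralizedCharacter.isClassFunction (vt_isGenChar C lam)

theorem theta_isGenChar : IsGeneralizedCharacter G (indFun C (vt C lam)) :=
  IsGeneralizedCharacter.indFun C (vt_isGenChar C lam)

theorem theta_one : indFun C (vt C lam) 1 = 0 := by
  rw [indFun_def]
  have : ∀ x : G, extendByZero C (vt C lam) (x⁻¹ * 1 * x) = 0 := by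
    intro x
    have h1 : x⁻¹ * 1 * x = ((1 : C) : G) := by simp
    rw [h1, ebz_coe, vt_apply, map_one, sub_self]
  simp_rw [this]
  rw [Finset.sum_const_zero, mul_zero]

theorem theta_vanish (hX : ∀ c : C, (c : G) ∉ X → lam c = 1) (g : G)
    (hg : ∀ x : G, x⁻¹ * g * x ∉ X) : indFun C (vt C lam) g = 0 := by
  rw [indFun_def]
  have : ∀ x : G, extendByZero C (vt C lam) (x⁻¹ * g * x) = 0 := by
    intro x
    by_cases hmem : x⁻¹ * g * x ∈ C
    · rw [ebz_mem C _ hmem, vt_apply, hX ⟨_, hmem⟩ (hg x), sub_self]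
    · exact ebz_not_mem C _ hmem
  simp_rw [this]
  rw [Finset.sum_const_zero, mul_zero]

theorem classInner_lam_one [Fintype C] (hne : ∃ c : C, lam c ≠ 1) :
    classInner (fun c : C => lam c) (fun _ : C => (1 : ℂ)) = 0 := by
  classical
  rw [classInner_of_isIrrCharacter (isIrrCharacter_of_monoidHom lam) isIrrCharacter_const_one,
    if_neg]
  intro h
  obtain ⟨c, hc⟩ := hne
  exact hc (congrFun h c)

theorem classInner_one_one [Fintype C] :
    classInner (fun _ : C => (1 : ℂ)) (fun _ : C => (1 : ℂ)) = 1 :=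
  classInner_irr_self (trivIrr C)

theorem theta_inner_one [Fintype C] (hne : ∃ c : C, lam c ≠ 1) :
    classInner (indFun C (vt C lam)) (fun _ => (1 : ℂ)) = 1 := by
  rw [frobenius_reciprocity C _ _ (fun _ _ => rfl)]
  have h1 : vt C lam = (fun _ : C => (1 : ℂ)) - (fun c : C => lam c) := rfl
  rw [h1, classInner_sub_left, classInner_lam_one C lam hne, classInner_one_one, sub_zero]

/-- conjugation by `s⁻¹` on `C` -/
def conjC (hnorm : ∀ c ∈ C, s⁻¹ * c * s ∈ C) : C →* C where
  toFun c := ⟨s⁻¹ * c * s, hnorm c c.2⟩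
  map_one' := Subtype.ext (by simp)
  map_mul' a b := Subtype.ext (by simp [mul_assoc])

/-- the conjugate linear character -/
def lamS (hnorm : ∀ c ∈ C, s⁻¹ * c * s ∈ C) : C →* ℂ := lam.comp (conjC C s hnorm)

omit [Fintype G] in
theorem lamS_apply (hnorm : ∀ c ∈ C, s⁻¹ * c * s ∈ C) (c : C) :
    lamS C lam s hnorm c = lam ⟨s⁻¹ * c * s, hnorm c c.2⟩ := rfl

omit [Fintype G] in
theorem ebz_conj (θ : C → ℂ) (hθ : IsClassFunction C θ) {y : G} (hy : y ∈ C) (g : G) :
    extendByZero C θ (y⁻¹ * g * y) = extendByZero C θ g := by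
  by_cases hg : g ∈ C
  · have hmem : y⁻¹ * g * y ∈ C := C.mul_mem (C.mul_mem (C.inv_mem hy) hg) hy
    rw [ebz_mem C _ hmem, ebz_mem C _ hg]
    have := hθ ⟨g, hg⟩ ⟨y⁻¹, C.inv_mem hy⟩
    rw [← this]
    congr 1
    apply Subtype.ext
    simp
  · have hmem : y⁻¹ * g * y ∉ C := by
      intro h
      apply hg
      have := C.mul_mem (C.mul_mem hy h) (C.inv_mem hy)
      simpa [mul_assoc] using this
    rw [ebz_not_mem C _ hmem, ebz_not_mem C _ hg]

theorem theta_apply (hCN : C ≤ N) (hs : s ∈ N)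
    (hnormN : ∀ n ∈ N, ∀ c ∈ C, n⁻¹ * c * n ∈ C)
    (hidx : ∀ x ∈ N, x ∉ C → s⁻¹ * x ∈ C) (hcard : Nat.card N = 2 * Nat.card C)
    (hTI : ∀ c ∈ C, c ∈ X → ∀ x : G, x⁻¹ * c * x ∈ C → x ∈ N)
    (c : C) (hc : (c : G) ∈ X) :
    indFun C (vt C lam) c
      = vt C lam c + vt C (lamS C lam s (fun c hc => hnormN s hs c hc)) c := by
  classical
  rw [indFun_def]
  have hcf := vt_isClassFunction C lam
  have key : ∀ x : G, extendByZero C (vt C lam) (x⁻¹ * (c : G) * x)
      = (if x ∈ C then vt C lam c - vt C (lamS C lam s (fun c hc => hnormN s hs c hc)) c else 0)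
        + (if x ∈ N then vt C (lamS C lam s (fun c hc => hnormN s hs c hc)) c else 0) := by
    intro x
    by_cases hxC : x ∈ C
    · rw [if_pos hxC, if_pos (hCN hxC), sub_add_cancel, ebz_conj C _ hcf hxC, ebz_coe]
    · rw [if_neg hxC, zero_add]
      by_cases hxN : x ∈ N
      · rw [if_pos hxN]
        have hy := hidx x hxN hxC
        have e1 : x⁻¹ * (c : G) * x = (s⁻¹ * x)⁻¹ * (s⁻¹ * (c : G) * s) * (s⁻¹ * x) := by group
        rw [e1, ebz_conj C _ hcf hy, ebz_mem C _ (hnormN s hs c c.2)]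
        rfl
      · rw [if_neg hxN]
        apply ebz_not_mem
        intro hmem
        exact hxN (hTI c c.2 hc x hmem)
  simp_rw [key]
  rw [Finset.sum_add_distrib, Finset.sum_ite, Finset.sum_ite, Finset.sum_const_zero,
    Finset.sum_const_zero, add_zero, add_zero, Finset.sum_const, Finset.sum_const,
    nsmul_eq_mul, nsmul_eq_mul]
  have hcardC : ((Finset.univ.filter (fun x : G => x ∈ C)).card : ℂ) = (Nat.card C : ℂ) := by
    rw [Nat.card_eq_fintype_card, Fintype.card_subtype]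
  have hcardN : ((Finset.univ.filter (fun x : G => x ∈ N)).card : ℂ) = (Nat.card N : ℂ) := by
    rw [Nat.card_eq_fintype_card, Fintype.card_subtype]
  rw [hcardC, hcardN, hcard]
  have hC0 : (Nat.card C : ℂ) ≠ 0 := by exact_mod_cast (Nat.card_pos (α := C)).ne'
  push_cast
  field_simp
  ring

theorem theta_norm [Fintype C] (hCN : C ≤ N) (hs : s ∈ N)
    (hnormN : ∀ n ∈ N, ∀ c ∈ C, n⁻¹ * c * n ∈ C)
    (hidx : ∀ x ∈ N, x ∉ C → s⁻¹ * x ∈ C) (hcard : Nat.card N = 2 * Nat.card C)
    (hX : ∀ c : C, (c : G) ∉ X → lam c = 1)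
    (hTI : ∀ c ∈ C, c ∈ X → ∀ x : G, x⁻¹ * c * x ∈ C → x ∈ N)
    (hne : ∃ c : C, lam c ≠ 1)
    (hconj : ∃ c : C, lamS C lam s (fun c hc => hnormN s hs c hc) c ≠ lam c) :
    classInner (indFun C (vt C lam)) (indFun C (vt C lam)) = 3 := by
  classical
  rw [frobenius_reciprocity C _ _ (indFun_isClassFunction C _)]
  have hstep : classInner (vt C lam) (fun c : C => indFun C (vt C lam) c)
      = classInner (vt C lam)
          (vt C lam + vt C (lamS C lam s (fun c hc => hnormN s hs c hc))) := by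
    unfold classInner
    congr 1
    refine Finset.sum_congr rfl fun c _ => ?_
    by_cases hc : (c : G) ∈ X
    · beta_reduce
      rw [theta_apply C N X lam s hCN hs hnormN hidx hcard hTI c hc]
      rfl
    · rw [vt_apply, hX c hc, sub_self, zero_mul, zero_mul]
  rw [hstep]
  have hneS : ∃ c : C, lamS C lam s (fun c hc => hnormN s hs c hc) c ≠ 1 := by
    obtain ⟨c, hc⟩ := hne
    refine ⟨⟨s * c * s⁻¹, ?_⟩, ?_⟩
    · have := hnormN s⁻¹ (N.inv_mem hs) c c.2
      simpa using this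
    · rw [lamS_apply]
      convert hc using 2
      apply Subtype.ext
      simp [mul_assoc]
  have h1 : vt C lam = (fun _ : C => (1 : ℂ)) - (fun c : C => lam c) := rfl
  have h2 : vt C (lamS C lam s (fun c hc => hnormN s hs c hc))
      = (fun _ : C => (1 : ℂ)) - (fun c : C => lamS C lam s (fun c hc => hnormN s hs c hc) c) :=
    rfl
  have e1 : classInner (fun _ : C => (1 : ℂ)) (fun c : C => lam c) = 0 := by
    rw [← Cfsg.Agent.Helper24.classInner_conj_symm, classInner_lam_one C lam hne, map_zero]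
  have e2 : classInner (fun _ : C => (1 : ℂ))
      (fun c : C => lamS C lam s (fun c hc => hnormN s hs c hc) c) = 0 := by
    rw [← Cfsg.Agent.Helper24.classInner_conj_symm, classInner_lam_one C _ hneS, map_zero]
  have e3 : classInner (fun c : C => lam c) (fun c : C => lam c) = 1 :=
    classInner_irr_self ⟨_, isIrrCharacter_of_monoidHom lam⟩
  have e4 : classInner (fun c : C => lam c)
      (fun c : C => lamS C lam s (fun c hc => hnormN s hs c hc) c) = 0 := by
    rw [classInner_of_isIrrCharacter (isIrrCharacter_of_monoidHom lam)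
      (isIrrCharacter_of_monoidHom _), if_neg]
    intro h
    obtain ⟨c, hc⟩ := hconj
    exact hc (congrFun h c).symm
  rw [classInner_add_right, h1, h2, classInner_sub_left, classInner_sub_left,
    classInner_sub_right, classInner_sub_right, classInner_sub_right, classInner_sub_right,
    classInner_one_one, e1, e2, e3, e4, classInner_lam_one C lam hne]
  norm_num

end Induced

end Cfsg.Agent.Helper8.ExcPair
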