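import Mathlib
import Cfsg.Agent.Helper9.QuatBasic

/-!
Facts about the generalized quaternion groups `QuaternionGroup m`.
-/

set_option autoImplicit false

namespace Cfsg.Agent.Helper8.QuatFacts

open QuaternionGroup Cfsg.Agent.Helper9
open scoped commutatorElement

variable {m : ℕ}

theorem two_m_eq_zero (m : ℕ) : (2 : ZMod (2 * m)) * (m : ZMod (2 * m)) = 0 := by
  have : ((2 * m : ℕ) : ZMod (2 * m)) = 0 := ZMod.natCast_self _
  push_cast at this
  exact this

/-- the even rotations -/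
def quatEven (m : ℕ) : Subgroup (QuaternionGroup m) where
  carrier := {x | ∃ i : ZMod (2 * m), x = a (2 * i)}
  one_mem' := ⟨0, by rw [mul_zero, a_zero]⟩
  mul_mem' := by
    rintro _ _ ⟨i, rfl⟩ ⟨j, rfl⟩
    exact ⟨i + j, by rw [a_mul_a, mul_add]⟩
  inv_mem' := by
    rintro _ ⟨i, rfl⟩
    exact ⟨-i, by rw [mul_neg]; rfl⟩

theorem commutatorElement_mem_quatEven (x y : QuaternionGroup m) : ⁅x, y⁆ ∈ quatEven m := by
  have h2 := two_m_eq_zero m
  rw [commutatorElement_def]
  rcases x with i | i <;> rcases y with j | j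
  · refine ⟨0, ?_⟩
    have h1 : (a i : QuaternionGroup m)⁻¹ = a (-i) := rfl
    have h3 : (a j : QuaternionGroup m)⁻¹ = a (-j) := rfl
    rw [h1, h3, a_mul_a, a_mul_a, a_mul_a]
    congr 1
    ring
  · refine ⟨i, ?_⟩
    have h1 : (a i : QuaternionGroup m)⁻¹ = a (-i) := rfl
    have h3 : (xa j : QuaternionGroup m)⁻¹ = xa ((m : ZMod (2 * m)) + j) := rfl
    rw [h1, h3, a_mul_xa, xa_mul_a, xa_mul_xa]
    congr 1
    linear_combination h2
  · refine ⟨-j, ?_⟩
    have h1 : (xa i : QuaternionGroup m)⁻¹ = xa ((m : ZMod (2 * m)) + i) := rfl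
    have h3 : (a j : QuaternionGroup m)⁻¹ = a (-j) := rfl
    rw [h1, h3, xa_mul_a, xa_mul_xa, a_mul_a]
    congr 1
    linear_combination h2
  · refine ⟨j - i, ?_⟩
    have h1 : (xa i : QuaternionGroup m)⁻¹ = xa ((m : ZMod (2 * m)) + i) := rfl
    have h3 : (xa j : QuaternionGroup m)⁻¹ = xa ((m : ZMod (2 * m)) + j) := rfl
    rw [h1, h3, xa_mul_xa, a_mul_xa, xa_mul_xa]
    congr 1
    linear_combination h2

theorem commutator_le_quatEven (m : ℕ) : commutator (QuaternionGroup m) ≤ quatEven m := by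
  rw [commutator_def, Subgroup.commutator_le]
  intro x _ y _
  exact commutatorElement_mem_quatEven x y

theorem quatEven_le_zpowers (m : ℕ) [NeZero m] : quatEven m ≤ Subgroup.zpowers (a 2) := by
  rintro _ ⟨i, rfl⟩
  have : (a 2 : QuaternionGroup m) ^ i.val = a (2 * i) := by
    have h1 : (a 2 : QuaternionGroup m) = a 1 ^ 2 := by
      rw [a_one_pow]; norm_num
    rw [h1, ← pow_mul, a_one_pow]
    push_cast
    rw [ZMod.natCast_zmod_val]
  rw [← this]
  exact Subgroup.pow_mem _ (Subgroup.mem_zpowers _) _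

theorem commutator_eq_zpowers (m : ℕ) [NeZero m] :
    commutator (QuaternionGroup m) = Subgroup.zpowers (a 2) := by
  apply le_antisymm
  · exact (commutator_le_quatEven m).trans (quatEven_le_zpowers m)
  · rw [Subgroup.zpowers_le]
    exact a_two_mem_commutator m

theorem orderOf_a_two (m : ℕ) [NeZero m] (hm : 2 ≤ m) :
    orderOf (a 2 : QuaternionGroup m) = m := by
  rw [orderOf_a]
  have hval : (2 : ZMod (2 * m)).val = 2 := by
    have : (2 : ZMod (2 * m)) = ((2 : ℕ) : ZMod (2 * m)) := by norm_num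
    rw [this, ZMod.val_natCast, Nat.mod_eq_of_lt (by omega)]
  rw [hval]
  have : (2 * m).gcd 2 = 2 := by
    rw [Nat.gcd_comm]
    exact Nat.gcd_eq_left (Dvd.intro _ rfl)
  rw [this]
  omega

theorem card_commutator (m : ℕ) [NeZero m] (hm : 2 ≤ m) :
    Nat.card (commutator (QuaternionGroup m)) = m := by
  rw [commutator_eq_zpowers, Nat.card_zpowers, orderOf_a_two m hm]

/-- elements outside the rotation subgroup invert it -/
theorem xa_conj_a (i j : ZMod (2 * m)) :
    (xa j : QuaternionGroup m) * a i * (xa j)⁻¹ = (a i)⁻¹ := by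
  have h2 := two_m_eq_zero m
  have h1 : (xa j : QuaternionGroup m)⁻¹ = xa ((m : ZMod (2 * m)) + j) := rfl
  have h3 : (a i : QuaternionGroup m)⁻¹ = a (-i) := rfl
  rw [h1, h3, xa_mul_a, xa_mul_xa]
  congr 1
  linear_combination h2

end Cfsg.Agent.Helper8.QuatFacts
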