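import Mathlib
import Cfsg.Agent.Helper8.QuatFacts
import Cfsg.Agent.Helper9.QuatSylow

/-!
Generalized quaternion Sylow 2-subgroups: structural facts in the ambient group.
-/

set_option autoImplicit false

namespace Cfsg.Agent.Helper8.QuatExc

open QuaternionGroup Cfsg.Agent.Helper9 Cfsg.Agent.Helper8.QuatFacts
open scoped commutatorElement

variable {G : Type*} [Group G] (S : Subgroup G) (m : ℕ) [NeZero m]

theorem map_commutator_equiv (e : S ≃* QuaternionGroup m) :
    (commutator S).map e.toMonoidHom = commutator (QuaternionGroup m) := by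
  rw [commutator_def, commutator_def, Subgroup.map_commutator,
    Subgroup.map_top_of_surjective _ e.surjective]

theorem card_derived (hm : 2 ≤ m) (e : S ≃* QuaternionGroup m) (D : Subgroup G)
    (hD : D = ⁅S, S⁆) : Nat.card D = m := by
  have hDmap : D = (commutator S).map S.subtype := by
    rw [hD, Subgroup.map_subtype_commutator]
  rw [hDmap, Subgroup.card_map_of_injective S.subtype_injective,
    Nat.card_congr ((commutator S).equivMapOfInjective e.toMonoidHom e.injective).toEquiv,
    map_commutator_equiv S m e]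
  exact card_commutator m hm

theorem mem_centralizer_iff_mem_quatRot (hm : 3 ≤ m) (e : S ≃* QuaternionGroup m)
    (D : Subgroup G) (hD : D = ⁅S, S⁆) (x : S) :
    (x : G) ∈ Subgroup.centralizer (D : Set G) ↔ e x ∈ quatRot m := by
  have hDmap : D = (commutator S).map S.subtype := by
    rw [hD, Subgroup.map_subtype_commutator]
  rw [← centralizer_commutator_quat m hm]
  have hmap := map_commutator_equiv S m e
  constructor
  · intro hx
    rw [Subgroup.mem_centralizer_iff]
    intro q hq
    rw [SetLike.mem_coe, ← hmap] at hq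
    obtain ⟨y, hy, rfl⟩ := hq
    have hyD : (y : G) ∈ D := by rw [hDmap]; exact ⟨y, hy, rfl⟩
    have h1 := Subgroup.mem_centralizer_iff.mp hx _ hyD
    have h2 : y * x = x * y := Subtype.ext h1
    show e y * e x = e x * e y
    rw [← map_mul, ← map_mul, h2]
  · intro hx
    rw [Subgroup.mem_centralizer_iff]
    intro d hd
    rw [SetLike.mem_coe, hDmap] at hd
    obtain ⟨y, hy, rfl⟩ := hd
    have hq : e y ∈ commutator (QuaternionGroup m) := by
      rw [← hmap]; exact ⟨y, hy, rfl⟩
    have h1 := Subgroup.mem_centralizer_iff.mp hx _ hq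
    rw [← map_mul, ← map_mul] at h1
    have h2 := e.injective h1
    exact congrArg Subtype.val h2

/-- elements of `S` outside `C_G(D)` invert `S ∩ C_G(D)` -/
theorem inverts (hm : 3 ≤ m) (e : S ≃* QuaternionGroup m)
    (D : Subgroup G) (hD : D = ⁅S, S⁆) {s : G} (hs : s ∈ S)
    (hsC : s ∉ Subgroup.centralizer (D : Set G)) {ρ : G} (hρ : ρ ∈ S)
    (hρC : ρ ∈ Subgroup.centralizer (D : Set G)) : s * ρ * s⁻¹ = ρ⁻¹ := by
  have h1 := (mem_centralizer_iff_mem_quatRot S m hm e D hD ⟨ρ, hρ⟩).mp hρC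
  have h2 : e ⟨s, hs⟩ ∉ quatRot m := fun h =>
    hsC ((mem_centralizer_iff_mem_quatRot S m hm e D hD ⟨s, hs⟩).mpr h)
  obtain ⟨i, hi⟩ := h1
  have h3 : ∃ j, e ⟨s, hs⟩ = xa j := by
    rcases h : e ⟨s, hs⟩ with j | j
    · exact absurd ⟨j, h⟩ h2
    · exact ⟨j, rfl⟩
  obtain ⟨j, hj⟩ := h3
  have h4 : e (⟨s, hs⟩ * ⟨ρ, hρ⟩ * ⟨s, hs⟩⁻¹) = e (⟨ρ, hρ⟩⁻¹) := by
    rw [map_mul, map_mul, map_inv, map_inv, hi, hj, xa_conj_a]
  have h5 := e.injective h4
  exact congrArg Subtype.val h5

end Cfsg.Agent.Helper8.QuatExc
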