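import Mathlib
import Cfsg.Agent.Helper8.QuatExc1
import Cfsg.Agent.Helper8.ExcPair
import Cfsg.Agent.Helper9.QuatTI

/-!
Generalized quaternion Sylow 2-subgroups of order at least 16: the exceptional pair of characters.
-/

set_option autoImplicit false

namespace Cfsg.Agent.Helper8.QuatExc

open Cfsg Cfsg.Agent.Helper24 Cfsg.Agent.Helper9 Cfsg.Agent.Helper8.ExcPair

section Hom

theorem exists_hom_of_cyclic_quotient {C : Type*} [Group C] [Finite C] (K : Subgroup C)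
    [K.Normal] [IsCyclic (C ⧸ K)] (r : ℕ) (hr : Nat.card (C ⧸ K) = r) (hr2 : 2 ≤ r) :
    ∃ μ : C →* ℂˣ, (∀ c, μ c ^ r = 1) ∧ ∃ c, μ c ^ (r / 2) ≠ 1 := by
  obtain ⟨g, hg⟩ := IsCyclic.exists_generator (α := C ⧸ K)
  have hog : orderOf g = r := by rw [orderOf_eq_card_of_forall_mem_zpowers hg, hr]
  have ha : g ^ (r / 2) ≠ 1 := by
    apply pow_ne_one_of_lt_orderOf
    · omega
    · rw [hog]; omega
  obtain ⟨φ, hφ⟩ : ∃ φ : (C ⧸ K) →* ℂˣ, φ (g ^ (r / 2)) ≠ 1 := by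
    letI : CommGroup (C ⧸ K) := IsCyclic.commGroup
    exact CommGroup.exists_apply_ne_one_of_hasEnoughRootsOfUnity (C ⧸ K) ℂ ha
  refine ⟨φ.comp (QuotientGroup.mk' K), ?_, ?_⟩
  · intro c
    rw [MonoidHom.comp_apply, ← map_pow]
    have : (QuotientGroup.mk' K c) ^ r = 1 := by
      rw [← hr]; exact pow_card_eq_one'
    rw [this, map_one]
  · obtain ⟨c, hc⟩ := QuotientGroup.mk'_surjective K g
    refine ⟨c, ?_⟩
    rw [MonoidHom.comp_apply, hc, ← map_pow]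
    exact hφ

theorem pow_eq_one_of_not_dvd {C : Type*} [Group C] (μ : C →* ℂˣ) (t : ℕ) (ht : 2 ≤ t) (c : C)
    (hμ : μ c ^ 2 ^ t = 1) (hc : ¬ 2 ^ (t - 1) ∣ orderOf c) : μ c ^ 2 ^ (t - 2) = 1 := by
  have h1 : orderOf (μ c) ∣ 2 ^ t := orderOf_dvd_of_pow_eq_one hμ
  have h2 : orderOf (μ c) ∣ orderOf c := by
    apply orderOf_dvd_of_pow_eq_one
    rw [← map_pow, pow_orderOf_eq_one, map_one]
  obtain ⟨j, hj, hoj⟩ := (Nat.dvd_prime_pow Nat.prime_two).mp h1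
  have hj2 : j ≤ t - 2 := by
    by_contra hcon
    push Not at hcon
    apply hc
    refine Dvd.dvd.trans ?_ h2
    rw [hoj]
    exact pow_dvd_pow 2 (by omega)
  have h3 : orderOf (μ c) ∣ 2 ^ (t - 2) := by
    rw [hoj]; exact pow_dvd_pow 2 hj2
  exact orderOf_dvd_iff_pow_eq_one.mp h3

theorem eq_one_of_odd {C : Type*} [Group C] (μ : C →* ℂˣ) (t : ℕ) (c : C)
    (hμ : μ c ^ 2 ^ t = 1) (hc : Odd (orderOf c)) : μ c = 1 := by
  have h1 : orderOf (μ c) ∣ 2 ^ t := orderOf_dvd_of_pow_eq_one hμ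
  have h2 : orderOf (μ c) ∣ orderOf c := by
    apply orderOf_dvd_of_pow_eq_one
    rw [← map_pow, pow_orderOf_eq_one, map_one]
  have h3 : Nat.Coprime (2 ^ t) (orderOf c) :=
    Nat.Coprime.pow_left t (Nat.coprime_two_left.mpr hc)
  have h4 : orderOf (μ c) = 1 := Nat.eq_one_of_dvd_coprimes h3 h1 h2
  exact orderOf_eq_one_iff.mp h4

end Hom

end Cfsg.Agent.Helper8.QuatExc
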