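import Mathlib
import Cfsg.Agent.Helper8.QuatExc2

/-!
Generalized quaternion Sylow 2-subgroups of order at least 16: the exceptional pair of characters.
-/

set_option autoImplicit false
set_option maxHeartbeats 1000000

namespace Cfsg.Agent.Helper8.QuatExc

open Cfsg Cfsg.Agent.Helper24 Cfsg.Agent.Helper9 Cfsg.Agent.Helper8.ExcPair
open scoped commutatorElement

variable {G : Type*} [Group G] [Fintype G]

/-- the generalized character `Θ` attached to a generalized quaternion Sylow 2-subgroup -/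
theorem exists_theta (S : Sylow 2 G) (n : ℕ)
    (e : (S : Subgroup G) ≃* QuaternionGroup (2 ^ (n + 2))) :
    ∃ Θ : G → ℂ, IsGeneralizedCharacter G Θ ∧ classInner Θ Θ = 3 ∧
      classInner Θ (fun _ => (1 : ℂ)) = 1 ∧ Θ 1 = 0 ∧
      (∀ g : G, (∀ x : G, ¬ 2 ^ (n + 2) ∣ orderOf (x⁻¹ * g * x)) → Θ g = 0) ∧
      ∃ ρ ∈ (S : Subgroup G), ρ ∈ Subgroup.centralizer
        ((⁅(S : Subgroup G), (S : Subgroup G)⁆ : Subgroup G) : Set G) ∧ Θ (ρ ^ 2) ≠ 0 := by
  classical
  haveI : NeZero (2 ^ (n + 2)) := ⟨by positivity⟩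
  have hm3 : 3 ≤ 2 ^ (n + 2) := by
    have : 2 ^ 2 ≤ 2 ^ (n + 2) := Nat.pow_le_pow_right (by norm_num) (by omega)
    omega
  obtain ⟨D, hD⟩ : ∃ D : Subgroup G, D = ⁅(S : Subgroup G), (S : Subgroup G)⁆ := ⟨_, rfl⟩
  obtain ⟨R, hDR, hRc, hSN, hSC, hcardS⟩ := quat_sylow_data S D n e hD
  obtain ⟨K, hKodd, hKC, hNK, hKS, hKR, hidx, hcardC⟩ :=
    centralizer_normalizer_structure S D R hDR hRc hSN hSC hcardS
  obtain ⟨_, hti2, _⟩ := ti_property S D R hDR hRc hSN hSC
  have hcardD : Nat.card D = 2 ^ (n + 2) := card_derived (S : Subgroup G) _ (by omega) e D hD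
  have hcardS' : Nat.card (S : Subgroup G) = 4 * 2 ^ (n + 2) := by
    rw [Nat.card_congr e.toEquiv, Nat.card_eq_fintype_card, QuaternionGroup.card]
  have hcardR : Nat.card R = 2 ^ (n + 3) := by
    have : 2 * Nat.card R = 2 * 2 ^ (n + 3) := by
      rw [← hcardS, hcardS']; ring
    omega
  -- the subgroups
  have hCN : Subgroup.centralizer (D : Set G) ≤ Subgroup.normalizer (D : Set G) :=
    Subgroup.centralizer_le_normalizer _
  have hRC : R ≤ Subgroup.centralizer (D : Set G) := by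
    rw [← hSC]; exact inf_le_right
  have hRS : R ≤ (S : Subgroup G) := by
    rw [← hSC]; exact inf_le_left
  haveI hKn : (K.subgroupOf (Subgroup.centralizer (D : Set G))).Normal :=
    Subgroup.normal_subgroupOf_of_le_normalizer (hCN.trans hNK)
  -- the quotient `C / K`
  have hcardK' : Nat.card (K.subgroupOf (Subgroup.centralizer (D : Set G))) = Nat.card K :=
    Nat.card_congr (Subgroup.subgroupOfEquivOfLe hKC).toEquiv
  have hcardQ : Nat.card (Subgroup.centralizer (D : Set G) ⧸
      K.subgroupOf (Subgroup.centralizer (D : Set G))) = 2 ^ (n + 3) := by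
    have h1 := Subgroup.card_eq_card_quotient_mul_card_subgroup
      (K.subgroupOf (Subgroup.centralizer (D : Set G)))
    rw [hcardC, hcardK', hcardR, mul_comm] at h1
    have hK0 : 0 < Nat.card K := Nat.card_pos
    exact (Nat.eq_of_mul_eq_mul_right hK0 h1).symm
  -- odd order elements of `K`
  have hKodd' : ∀ k ∈ K, Odd (orderOf k) := by
    intro k hk
    exact Odd.of_dvd_nat hKodd (Subgroup.orderOf_dvd_natCard K hk)
  have hR2 : ∀ ρ ∈ R, orderOf ρ ∣ 2 ^ (n + 3) := by
    intro ρ hρ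
    rw [← hcardR]; exact Subgroup.orderOf_dvd_natCard R hρ
  haveI : IsCyclic (Subgroup.centralizer (D : Set G) ⧸
      K.subgroupOf (Subgroup.centralizer (D : Set G))) := by
    let f : R →* (Subgroup.centralizer (D : Set G) ⧸
        K.subgroupOf (Subgroup.centralizer (D : Set G))) :=
      (QuotientGroup.mk' _).comp (Subgroup.inclusion hRC)
    have hinj : Function.Injective f := by
      rw [injective_iff_map_eq_one]
      intro ρ hρ
      have h1 : Subgroup.inclusion hRC ρ ∈ K.subgroupOf (Subgroup.centralizer (D : Set G)) :=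
        (QuotientGroup.eq_one_iff _).mp hρ
      have h2 : (ρ : G) ∈ K := h1
      have h3 := hKodd' _ h2
      have h4 := hR2 _ ρ.2
      have h5 : orderOf (ρ : G) = 1 := by
        have hcop : Nat.Coprime (2 ^ (n + 3)) (orderOf (ρ : G)) :=
          Nat.Coprime.pow_left _ (Nat.coprime_two_left.mpr h3)
        exact Nat.eq_one_of_dvd_coprimes hcop h4 dvd_rfl
      apply Subtype.ext
      exact orderOf_eq_one_iff.mp h5
    have hbij : Function.Bijective f :=
      hinj.bijective_of_nat_card_le (by rw [hcardQ, hcardR])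
    exact isCyclic_of_surjective f hbij.2
  obtain ⟨μ, hμ1, c₀, hc₀⟩ := exists_hom_of_cyclic_quotient
    (K.subgroupOf (Subgroup.centralizer (D : Set G))) (2 ^ (n + 3)) hcardQ
    (by
      have : 2 ^ 1 ≤ 2 ^ (n + 3) := Nat.pow_le_pow_right (by norm_num) (by omega)
      omega)
  -- the linear character `λ`
  let lamU : Subgroup.centralizer (D : Set G) →* ℂˣ := μ ^ 2 ^ (n + 1)
  let lam : Subgroup.centralizer (D : Set G) →* ℂ := (Units.coeHom ℂ).comp lamU
  have hlam : ∀ c, lam c = ((μ c ^ 2 ^ (n + 1) : ℂˣ) : ℂ) := fun c => rfl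
  have hlamU : ∀ c, lamU c = μ c ^ 2 ^ (n + 1) := fun c => rfl
  -- `λ ^ 2` is not trivial on `R`
  have hpow : (2 : ℕ) ^ (n + 3) / 2 = 2 ^ (n + 1) * 2 := by
    rw [pow_succ 2 (n + 2), Nat.mul_div_cancel _ (by norm_num : 0 < 2), pow_succ]
  obtain ⟨ρ, hρR, hρ⟩ : ∃ ρ : Subgroup.centralizer (D : Set G), (ρ : G) ∈ R ∧ lamU ρ ^ 2 ≠ 1 := by
    by_contra hcon
    push Not at hcon
    let ker' : Subgroup G := ((lamU ^ 2).ker).map (Subgroup.subtype _)
    have hK' : K ≤ ker' := by
      intro k hk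
      refine ⟨⟨k, hKC hk⟩, ?_, rfl⟩
      rw [SetLike.mem_coe, MonoidHom.mem_ker, MonoidHom.pow_apply, hlamU]
      have hodd : Odd (orderOf (⟨k, hKC hk⟩ : Subgroup.centralizer (D : Set G))) := by
        rw [← Subgroup.orderOf_coe]; exact hKodd' k hk
      rw [eq_one_of_odd μ (n + 3) _ (hμ1 _) hodd, one_pow, one_pow]
    have hR' : R ≤ ker' := by
      intro r hr
      refine ⟨⟨r, hRC hr⟩, ?_, rfl⟩
      rw [SetLike.mem_coe, MonoidHom.mem_ker, MonoidHom.pow_apply]
      exact hcon ⟨r, hRC hr⟩ hr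
    have hC' : Subgroup.centralizer (D : Set G) ≤ ker' := by
      rw [← hKR]; exact sup_le hK' hR'
    obtain ⟨c', hc', hcc'⟩ := hC' c₀.2
    have : c' = c₀ := Subtype.ext hcc'
    rw [this, SetLike.mem_coe, MonoidHom.mem_ker, MonoidHom.pow_apply, hlamU, ← pow_mul,
      ← hpow] at hc'
    exact hc₀ hc'
  -- an element of `S` outside `C`
  obtain ⟨s, hsS, hsC⟩ : ∃ s ∈ (S : Subgroup G), s ∉ Subgroup.centralizer (D : Set G) := by
    by_contra hcon
    push Not at hcon
    have hle : (S : Subgroup G) ≤ R := by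
      rw [← hSC]; exact le_inf le_rfl hcon
    have h1 := Subgroup.card_le_of_le hle
    rw [hcardS', hcardR] at h1
    have : (2 : ℕ) ^ (n + 3) = 2 * 2 ^ (n + 2) := by rw [pow_succ]; ring
    omega
  have hsN : s ∈ Subgroup.normalizer (D : Set G) := hSN hsS
  have hnormN : ∀ x ∈ Subgroup.normalizer (D : Set G), ∀ c ∈ Subgroup.centralizer (D : Set G),
      x⁻¹ * c * x ∈ Subgroup.centralizer (D : Set G) := by
    intro x hx c hc
    have := conj_mem_centralizer_of_mem_normalizer D x⁻¹ c (Subgroup.inv_mem _ hx) hc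
    rwa [inv_inv] at this
  have hidx' : ∀ x ∈ Subgroup.normalizer (D : Set G), x ∉ Subgroup.centralizer (D : Set G) →
      s⁻¹ * x ∈ Subgroup.centralizer (D : Set G) := by
    intro x hx hxC
    have h1 := Subgroup.mul_mem_iff_of_index_two hidx
      (a := (⟨s⁻¹, Subgroup.inv_mem _ hsN⟩ : Subgroup.normalizer (D : Set G))) (b := ⟨x, hx⟩)
    have h2 : (⟨s⁻¹, Subgroup.inv_mem _ hsN⟩ : Subgroup.normalizer (D : Set G)) ∉
        (Subgroup.centralizer (D : Set G)).subgroupOf (Subgroup.normalizer (D : Set G)) := by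
      intro h
      rw [Subgroup.mem_subgroupOf] at h
      apply hsC
      have := Subgroup.inv_mem _ h
      simpa using this
    have h3 : (⟨x, hx⟩ : Subgroup.normalizer (D : Set G)) ∉
        (Subgroup.centralizer (D : Set G)).subgroupOf (Subgroup.normalizer (D : Set G)) := by
      intro h
      exact hxC (Subgroup.mem_subgroupOf.mp h)
    have h4 := h1.mpr ⟨fun h => absurd h h2, fun h => absurd h h3⟩
    exact Subgroup.mem_subgroupOf.mp h4
  have hcardN : Nat.card (Subgroup.normalizer (D : Set G))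
      = 2 * Nat.card (Subgroup.centralizer (D : Set G)) := by
    have h1 := ((Subgroup.centralizer (D : Set G)).subgroupOf
      (Subgroup.normalizer (D : Set G))).card_mul_index
    rw [hidx, Nat.card_congr (Subgroup.subgroupOfEquivOfLe hCN).toEquiv] at h1
    omega
  -- the T.I. set
  let X : Set G := {y | y ∈ Subgroup.centralizer (D : Set G) ∧ Nat.card D ∣ orderOf y}
  have hX : ∀ c : Subgroup.centralizer (D : Set G), (c : G) ∉ X → lam c = 1 := by
    intro c hc
    have h1 : ¬ Nat.card D ∣ orderOf (c : G) := fun h => hc ⟨c.2, h⟩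
    rw [hcardD, Subgroup.orderOf_coe] at h1
    have h2 := pow_eq_one_of_not_dvd μ (n + 3) (by omega) c (hμ1 c) h1
    rw [hlam]
    have : n + 3 - 2 = n + 1 := by omega
    rw [this] at h2
    rw [h2]
    rfl
  have hTI : ∀ c ∈ Subgroup.centralizer (D : Set G), c ∈ X → ∀ x : G,
      x⁻¹ * c * x ∈ Subgroup.centralizer (D : Set G) → x ∈ Subgroup.normalizer (D : Set G) := by
    intro c hc hcX x hx
    have h1 := hti2 x⁻¹ c hc hcX.2 (by rwa [inv_inv])
    have := Subgroup.inv_mem _ h1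
    rwa [inv_inv] at this
  have hlamρ : lam ρ ≠ 1 := by
    intro h
    apply hρ
    have h1 : ((lamU ρ : ℂˣ) : ℂ) = 1 := h
    have h2 : lamU ρ = 1 := Units.ext h1
    rw [h2, one_pow]
  have hne : ∃ c : Subgroup.centralizer (D : Set G), lam c ≠ 1 := ⟨ρ, hlamρ⟩
  have hconj : ∃ c : Subgroup.centralizer (D : Set G),
      lamS _ lam s (fun c hc => hnormN s hsN c hc) c ≠ lam c := by
    refine ⟨ρ, ?_⟩
    rw [lamS_apply]
    have hinv : s⁻¹ * (ρ : G) * s = (ρ : G)⁻¹ := by
      have hs' : s⁻¹ ∉ Subgroup.centralizer (D : Set G) := by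
        intro h
        apply hsC
        have := Subgroup.inv_mem _ h
        rwa [inv_inv] at this
      have := inverts (S : Subgroup G) _ hm3 e D hD (Subgroup.inv_mem _ hsS) hs'
        (hRS hρR) (hRC hρR)
      rwa [inv_inv] at this
    have h1 : (⟨s⁻¹ * (ρ : G) * s, hnormN s hsN ρ ρ.2⟩ : Subgroup.centralizer (D : Set G))
        = ρ⁻¹ := Subtype.ext hinv
    rw [h1]
    intro h
    apply hρ
    have h2 : lam ρ * lam ρ = 1 := by
      have h3 : lam ρ⁻¹ * lam ρ = 1 := by
        rw [← map_mul, inv_mul_cancel, map_one]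
      rw [h] at h3
      exact h3
    apply Units.ext
    rw [sq]
    exact h2
  refine ⟨indFun (Subgroup.centralizer (D : Set G)) (vt _ lam), theta_isGenChar _ lam,
    theta_norm _ _ X lam s hCN hsN hnormN hidx' hcardN hX hTI hne hconj,
    theta_inner_one _ lam hne, theta_one _ lam, ?_, ?_⟩
  · intro g hg
    apply theta_vanish _ X lam hX g
    intro x hx
    apply hg x
    rw [← hcardD]
    exact hx.2
  · refine ⟨(ρ : G), hRS hρR, hD ▸ ρ.2, ?_⟩
    have hρ2 : lam (ρ ^ 2) ≠ 1 := by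
      intro h
      apply hρ
      apply Units.ext
      rw [← map_pow]
      exact h
    have hρ2X : ((ρ ^ 2 : Subgroup.centralizer (D : Set G)) : G) ∈ X := by
      by_contra h
      exact hρ2 (hX _ h)
    have happ := theta_apply _ _ X lam s hCN hsN hnormN hidx' hcardN hTI (ρ ^ 2) hρ2X
    rw [Subgroup.coe_pow] at happ
    rw [happ, vt_apply, vt_apply, lamS_apply]
    have hinv : s⁻¹ * (ρ : G) * s = (ρ : G)⁻¹ := by
      have hs' : s⁻¹ ∉ Subgroup.centralizer (D : Set G) := by
        intro h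
        apply hsC
        have := Subgroup.inv_mem _ h
        rwa [inv_inv] at this
      have := inverts (S : Subgroup G) _ hm3 e D hD (Subgroup.inv_mem _ hsS) hs'
        (hRS hρR) (hRC hρR)
      rwa [inv_inv] at this
    have h1 : (⟨s⁻¹ * ((ρ ^ 2 : Subgroup.centralizer (D : Set G)) : G) * s,
        hnormN s hsN _ (ρ ^ 2).2⟩ : Subgroup.centralizer (D : Set G)) = (ρ⁻¹) ^ 2 := by
      apply Subtype.ext
      change s⁻¹ * ((ρ : G) ^ 2) * s = ((ρ : G)⁻¹) ^ 2
      rw [← hinv, sq, sq]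
      group
    rw [h1, map_pow, map_pow]
    have hwv : lam ρ⁻¹ * lam ρ = 1 := by
      rw [← map_mul, inv_mul_cancel, map_one]
    intro h0
    apply hρ2
    rw [map_pow]
    have h3 : (lam ρ ^ 2 - 1) ^ 2 = 0 := by
      linear_combination (-(lam ρ ^ 2)) * h0 - (lam ρ⁻¹ * lam ρ + 1) * hwv
    have h4 := pow_eq_zero_iff (two_ne_zero) |>.mp h3
    exact sub_eq_zero.mp h4

end Cfsg.Agent.Helper8.QuatExc
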