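import Mathlib
import Cfsg.Agent.Helper8.QuatFacts

/-!
Involutions in groups with a generalized quaternion Sylow 2-subgroup.
-/

set_option autoImplicit false

namespace Cfsg.Agent.Helper8.QuatInvol

open QuaternionGroup Cfsg.Agent.Helper8.QuatFacts

section Quat

variable (m : ℕ) [NeZero m]

theorem natCast_m_ne_zero : ((m : ℕ) : ZMod (2 * m)) ≠ 0 := by
  have hm : 0 < m := Nat.pos_of_ne_zero (NeZero.ne m)
  intro h
  rw [ZMod.natCast_eq_zero_iff] at h
  have := Nat.le_of_dvd hm h
  omega

theorem a_m_sq : (a (m : ZMod (2 * m)) : QuaternionGroup m) ^ 2 = 1 := by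
  rw [sq, a_mul_a]
  have : (m : ZMod (2 * m)) + m = 0 := by
    have := two_m_eq_zero m
    linear_combination this
  rw [this]
  rfl

theorem a_m_ne_one : (a (m : ZMod (2 * m)) : QuaternionGroup m) ≠ 1 := by
  intro h
  have h1 : (a (m : ZMod (2 * m)) : QuaternionGroup m) = a 0 := h
  exact natCast_m_ne_zero m (a.inj h1)

theorem orderOf_a_m : orderOf (a (m : ZMod (2 * m)) : QuaternionGroup m) = 2 :=
  orderOf_eq_prime (a_m_sq m) (a_m_ne_one m)

/-- the unique involution of a generalized quaternion group -/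
theorem eq_a_m_of_orderOf_eq_two (x : QuaternionGroup m) (h : orderOf x = 2) :
    x = a (m : ZMod (2 * m)) := by
  have hm : 0 < m := Nat.pos_of_ne_zero (NeZero.ne m)
  rcases x with i | i
  · have h1 : (a i : QuaternionGroup m) ^ 2 = 1 := by rw [← h]; exact pow_orderOf_eq_one _
    rw [sq, a_mul_a] at h1
    have h2 : i + i = 0 := a.inj h1
    have h3 : i ≠ 0 := by
      intro h0
      rw [h0] at h
      have : orderOf (a 0 : QuaternionGroup m) = 1 := by
        rw [orderOf_eq_one_iff]; rfl
      omega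
    congr 1
    haveI : NeZero (2 * m) := ⟨by omega⟩
    have hv : i.val + i.val = 2 * m := by
      have h4 : ((i.val + i.val : ℕ) : ZMod (2 * m)) = 0 := by
        push_cast
        rw [ZMod.natCast_zmod_val]
        exact h2
      rw [ZMod.natCast_eq_zero_iff] at h4
      have h5 : i.val < 2 * m := ZMod.val_lt i
      have h6 : 0 < i.val := by
        rcases Nat.eq_zero_or_pos i.val with h0 | h0
        · exact absurd ((ZMod.val_eq_zero i).mp h0) h3
        · exact h0
      obtain ⟨k, hk⟩ := h4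
      have hk1 : k = 1 := by
        rcases k with _ | _ | k
        · omega
        · rfl
        · nlinarith
      rw [hk, hk1, mul_one]
    have hv' : i.val = m := by omega
    rw [← ZMod.natCast_zmod_val i, hv']
  · exfalso
    rw [orderOf_xa] at h
    omega

end Quat

section Sylow

variable {G : Type*} [Group G] [Finite G] (S : Sylow 2 G) (m : ℕ) [NeZero m]
  (e : (S : Subgroup G) ≃* QuaternionGroup m)

include e in
/-- involutions of `S` coincide -/
theorem eq_of_orderOf_eq_two_of_mem {x y : G} (hx : x ∈ (S : Subgroup G)) (hy : y ∈ (S : Subgroup G))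
    (hx2 : orderOf x = 2) (hy2 : orderOf y = 2) : x = y := by
  have h1 : orderOf (e ⟨x, hx⟩) = 2 := by
    rw [MulEquiv.orderOf_eq, Subgroup.orderOf_mk, hx2]
  have h2 : orderOf (e ⟨y, hy⟩) = 2 := by
    rw [MulEquiv.orderOf_eq, Subgroup.orderOf_mk, hy2]
  have h3 := eq_a_m_of_orderOf_eq_two m _ h1
  have h4 := eq_a_m_of_orderOf_eq_two m _ h2
  have h5 := e.injective (h3.trans h4.symm)
  exact congrArg Subtype.val h5

include e in
theorem exists_involution : ∃ z ∈ (S : Subgroup G), orderOf z = 2 := by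
  refine ⟨(e.symm (a (m : ZMod (2 * m))) : (S : Subgroup G)), (e.symm _).2, ?_⟩
  rw [Subgroup.orderOf_coe, MulEquiv.orderOf_eq, orderOf_a_m]

include e in
/-- commuting involutions coincide -/
theorem eq_of_commute {x y : G} (hx2 : orderOf x = 2) (hy2 : orderOf y = 2)
    (hxy : x * y = y * x) : x = y := by
  haveI : Fact (Nat.Prime 2) := ⟨Nat.prime_two⟩
  have hpx : IsPGroup 2 (Subgroup.zpowers x) := by
    apply IsPGroup.of_card (n := 1)
    rw [Nat.card_zpowers, hx2, pow_one]
  have hpy : IsPGroup 2 (Subgroup.zpowers y) := by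
    apply IsPGroup.of_card (n := 1)
    rw [Nat.card_zpowers, hy2, pow_one]
  have hnorm : Subgroup.zpowers x ≤ Subgroup.normalizer (Subgroup.zpowers y : Set G) := by
    rw [Subgroup.zpowers_le]
    rw [Subgroup.mem_normalizer_iff]
    intro h
    have hcomm : ∀ k : ℤ, x * y ^ k * x⁻¹ = y ^ k := by
      intro k
      have : Commute x (y ^ k) := (Commute.zpow_right hxy k)
      rw [this.eq, mul_inv_cancel_right]
    constructor
    · rintro ⟨k, rfl⟩
      exact ⟨k, (hcomm k).symm⟩
    · rintro ⟨k, hk⟩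
      refine ⟨k, ?_⟩
      have hk' : y ^ k = x * h * x⁻¹ := hk
      have h1 : h = x⁻¹ * (x * h * x⁻¹) * x := by group
      beta_reduce
      rw [h1, ← hk']
      calc y ^ k = x⁻¹ * (x * y ^ k * x⁻¹) * x := by group
        _ = x⁻¹ * y ^ k * x := by rw [hcomm k]
  have hV : IsPGroup 2 (Subgroup.zpowers x ⊔ Subgroup.zpowers y : Subgroup G) :=
    IsPGroup.to_sup_of_normal_right' hpx hpy hnorm
  obtain ⟨P, hP⟩ := hV.exists_le_sylow
  obtain ⟨g, hg⟩ := MulAction.exists_smul_eq G P S
  have hxP : x ∈ (P : Subgroup G) :=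
    hP (Subgroup.mem_sup_left (Subgroup.mem_zpowers x))
  have hyP : y ∈ (P : Subgroup G) :=
    hP (Subgroup.mem_sup_right (Subgroup.mem_zpowers y))
  have hxS : g * x * g⁻¹ ∈ (S : Subgroup G) := by
    rw [← hg, Sylow.coe_subgroup_smul, Subgroup.mem_smul_pointwise_iff_exists]
    exact ⟨x, hxP, by simp [MulAut.smul_def]⟩
  have hyS : g * y * g⁻¹ ∈ (S : Subgroup G) := by
    rw [← hg, Sylow.coe_subgroup_smul, Subgroup.mem_smul_pointwise_iff_exists]
    exact ⟨y, hyP, by simp [MulAut.smul_def]⟩
  have ox : orderOf (g * x * g⁻¹) = 2 := by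
    have := MulEquiv.orderOf_eq (MulAut.conj g) x
    rw [MulAut.conj_apply] at this
    rw [this, hx2]
  have oy : orderOf (g * y * g⁻¹) = 2 := by
    have := MulEquiv.orderOf_eq (MulAut.conj g) y
    rw [MulAut.conj_apply] at this
    rw [this, hy2]
  have := eq_of_orderOf_eq_two_of_mem S m e hxS hyS ox oy
  have h2 : x = g⁻¹ * (g * x * g⁻¹) * g := by group
  rw [h2, this]
  group

include e in
/-- the product of two involutions has order not divisible by `4` -/
theorem not_four_dvd_orderOf_mul {x y : G} (hx2 : orderOf x = 2) (hy2 : orderOf y = 2) :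
    ¬ 4 ∣ orderOf (x * y) := by
  intro h4
  have hx1 : x * x = 1 := by rw [← sq, ← hx2]; exact pow_orderOf_eq_one x
  have hy1 : y * y = 1 := by rw [← sq, ← hy2]; exact pow_orderOf_eq_one y
  have hxinv : x⁻¹ = x := inv_eq_of_mul_eq_one_left hx1
  have hyinv : y⁻¹ = y := inv_eq_of_mul_eq_one_left hy1
  set u := x * y with hu
  have hconj : x * u * x⁻¹ = u⁻¹ := by
    rw [hu, mul_inv_rev, hxinv, hyinv]
    calc x * (x * y) * x = (x * x) * y * x := by group
      _ = y * x := by rw [hx1, one_mul]
  obtain ⟨k, hk⟩ := h4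
  have hk0 : 0 < k := by
    rcases Nat.eq_zero_or_pos k with h0 | h0
    · rw [h0, mul_zero] at hk
      have := orderOf_pos u
      omega
    · exact h0
  set w := u ^ (2 * k) with hw
  have hw2 : orderOf w = 2 := by
    rw [hw, orderOf_pow' u (by omega : 2 * k ≠ 0), hk]
    have : Nat.gcd (4 * k) (2 * k) = 2 * k := by
      apply Nat.gcd_eq_right
      exact ⟨2, by ring⟩
    rw [this]
    have : 4 * k = 2 * (2 * k) := by ring
    rw [this, Nat.mul_div_cancel _ (by omega)]
  have hxw : x * w = w * x := by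
    have h1 : x * w * x⁻¹ = w⁻¹ := by
      rw [hw]
      have : x * u ^ (2 * k) * x⁻¹ = (x * u * x⁻¹) ^ (2 * k) := by rw [conj_pow]
      rw [this, hconj, inv_pow]
    have hw1 : w * w = 1 := by rw [← sq, ← hw2]; exact pow_orderOf_eq_one w
    have hwinv : w⁻¹ = w := inv_eq_of_mul_eq_one_left hw1
    rw [hwinv] at h1
    calc x * w = (x * w * x⁻¹) * x := by group
      _ = w * x := by rw [h1]
  have hxw' := eq_of_commute S m e hx2 hw2 hxw
  -- then `x` is a power of `u`, hence commutes with `u`
  have hxu : x * u = u * x := by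
    rw [hxw', hw]
    exact (Commute.pow_left (Commute.refl u) _).eq
  have h2 : u = u⁻¹ := by
    calc u = (u * x) * x⁻¹ := by group
      _ = x * u * x⁻¹ := by rw [hxu]
      _ = u⁻¹ := hconj
  have h3 : u ^ 2 = 1 := by
    rw [sq]
    nth_rewrite 2 [h2]
    exact mul_inv_cancel u
  have h4 : orderOf u ∣ 2 := orderOf_dvd_of_pow_eq_one h3
  rw [hk] at h4
  have := Nat.le_of_dvd (by norm_num) h4
  omega

end Sylow

end Cfsg.Agent.Helper8.QuatInvol
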