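import Mathlib
import Cfsg.Agent.Helper8.QuatExc3
import Cfsg.Agent.Helper8.QuatInvol
import Cfsg.Agent.Helper5.ClassMul

/-!
Generalized quaternion Sylow 2-subgroups of order at least 16: the involutions lie in the kernels of
the exceptional characters.
-/

set_option autoImplicit false

namespace Cfsg.Agent.Helper8.QuatExc

open Cfsg Cfsg.Agent.Helper24 Cfsg.Agent.Helper5 Cfsg.Agent.Helper5.CC
  Cfsg.Agent.Helper5.ClassMul Cfsg.Agent.Helper8.QuatInvol
open scoped commutatorElement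

variable {G : Type*} [Group G] [Fintype G]

/-- the exceptional pair, as irreducible characters -/
theorem exists_exc_pair (S : Sylow 2 G) (n : ℕ)
    (e : (S : Subgroup G) ≃* QuaternionGroup (2 ^ (n + 2))) :
    ∃ χ₁ χ₂ : IrrCharacter G, χ₁ ≠ trivIrr G ∧ χ₂ ≠ trivIrr G ∧
      (χ₁ : G → ℂ) 1 = (χ₂ : G → ℂ) 1 + 1 ∧
      (∀ g : G, ¬ 4 ∣ orderOf g → (χ₁ : G → ℂ) g - (χ₂ : G → ℂ) g = 1) ∧
      ∃ ρ ∈ (S : Subgroup G), ρ ∈ Subgroup.centralizer
        ((⁅(S : Subgroup G), (S : Subgroup G)⁆ : Subgroup G) : Set G) ∧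
        1 + (χ₂ : G → ℂ) (ρ ^ 2) - (χ₁ : G → ℂ) (ρ ^ 2) ≠ 0 := by
  obtain ⟨Θ, hgen, h3, h1, h0, hvan, ρ, hρS, hρC, hρ⟩ := exists_theta S n e
  obtain ⟨χ₁, χ₂, hχ₁, hχ₂, hne₁, hne₂, hdeg, hΘ⟩ :=
    Cfsg.Agent.Helper8.ExcPair.exists_pair_of_norm_three hgen h3 h1 h0
  refine ⟨⟨χ₁, hχ₁⟩, ⟨χ₂, hχ₂⟩, fun h => hne₁ (congrArg Subtype.val h),
    fun h => hne₂ (congrArg Subtype.val h), hdeg, ?_, ρ, hρS, hρC, ?_⟩
  · intro g hg
    have h4 : Θ g = 0 := by
      apply hvan
      intro x hx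
      apply hg
      have h5 : orderOf (x⁻¹ * g * x) = orderOf g := by
        have := Cfsg.Agent.Helper9.orderOf_conj' x⁻¹ g
        rwa [inv_inv] at this
      rw [h5] at hx
      refine Dvd.dvd.trans ?_ hx
      exact Dvd.intro_left (2 ^ n) (by rw [pow_add]; norm_num)
    rw [hΘ] at h4
    simp only [Pi.add_apply, Pi.sub_apply] at h4
    show χ₁ g - χ₂ g = 1
    linear_combination -h4
  · rw [hΘ] at hρ
    exact hρ

/-- a weighted sum of a class function against the class multiplication coefficients -/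
theorem sum_mul_conv [Fintype (IrrCharacter G)] (z : G) (Θ : G → ℂ) :
    ∑ u : G, Θ u * conv (classIndicator z) (classIndicator z) u
      = ∑ χ : IrrCharacter G, centralChar (χ : G → ℂ) z * centralChar (χ : G → ℂ) z *
          (χ : G → ℂ) 1 * classInner Θ (χ : G → ℂ) := by
  simp_rw [conv_classIndicator_eq z z, Finset.mul_sum]
  rw [Finset.sum_comm]
  refine Finset.sum_congr rfl fun χ _ => ?_
  unfold classInner
  rw [Finset.mul_sum, Finset.mul_sum]
  refine Finset.sum_congr rfl fun u _ => ?_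
  ring

/-- **Involutions lie in the kernels of the exceptional characters.** -/
theorem exc_pair_kernel (S : Sylow 2 G) (n : ℕ)
    (e : (S : Subgroup G) ≃* QuaternionGroup (2 ^ (n + 2)))
    (χ₁ χ₂ : IrrCharacter G) (hne₁ : χ₁ ≠ trivIrr G) (hne₂ : χ₂ ≠ trivIrr G)
    (hdeg : (χ₁ : G → ℂ) 1 = (χ₂ : G → ℂ) 1 + 1)
    (hval : ∀ g : G, ¬ 4 ∣ orderOf g → (χ₁ : G → ℂ) g - (χ₂ : G → ℂ) g = 1)
    (z : G) (hz : orderOf z = 2) :
    (χ₁ : G → ℂ) z = (χ₁ : G → ℂ) 1 ∧ (χ₂ : G → ℂ) z = (χ₂ : G → ℂ) 1 := by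
  classical
  haveI : NeZero (2 ^ (n + 2)) := ⟨by positivity⟩
  haveI : Fintype (IrrCharacter G) := Fintype.ofFinite _
  have h12 : χ₁ ≠ χ₂ := by
    intro h
    rw [h] at hdeg
    have : (0 : ℂ) = 1 := by linear_combination hdeg
    exact zero_ne_one this
  set Θ : G → ℂ := (trivIrr G : G → ℂ) + (χ₂ : G → ℂ) - (χ₁ : G → ℂ) with hΘ
  have hlhs : ∑ u : G, Θ u * conv (classIndicator z) (classIndicator z) u = 0 := by
    refine Finset.sum_eq_zero fun u _ => ?_
    rw [conv_classIndicator_apply]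
    by_cases hemp : Nonempty {t : G // IsConj z t ∧ IsConj z (t⁻¹ * u)}
    · obtain ⟨⟨t, ht1, ht2⟩⟩ := hemp
      have ot : orderOf t = 2 := by
        obtain ⟨c, hc⟩ := isConj_iff.mp ht1
        rw [← hc, Cfsg.Agent.Helper9.orderOf_conj', hz]
      have ot' : orderOf (t⁻¹ * u) = 2 := by
        obtain ⟨c, hc⟩ := isConj_iff.mp ht2
        rw [← hc, Cfsg.Agent.Helper9.orderOf_conj', hz]
      have hu : ¬ 4 ∣ orderOf u := by
        have := not_four_dvd_orderOf_mul S _ e ot ot'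
        rwa [mul_inv_cancel_left] at this
      have h1 := hval u hu
      have h2 : Θ u = 0 := by
        rw [hΘ]
        simp only [Pi.add_apply, Pi.sub_apply, trivIrr_apply]
        linear_combination -h1
      rw [h2, zero_mul]
    · rw [not_nonempty_iff] at hemp
      rw [Nat.card_of_isEmpty, Nat.cast_zero, mul_zero]
  rw [sum_mul_conv] at hlhs
  have hinner : ∀ χ : IrrCharacter G, classInner Θ (χ : G → ℂ)
      = (if χ = trivIrr G then 1 else 0) + (if χ = χ₂ then 1 else 0)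
        - (if χ = χ₁ then 1 else 0) := by
    intro χ
    rw [hΘ, classInner_sub_left, classInner_add_left, classInner_irr, classInner_irr,
      classInner_irr]
    simp only [eq_comm]
  simp_rw [hinner, mul_sub, mul_add, Finset.sum_sub_distrib, Finset.sum_add_distrib, mul_ite,
    mul_one, mul_zero, Finset.sum_ite_eq', Finset.mem_univ, if_true] at hlhs
  simp only [centralChar_def, trivIrr_apply] at hlhs
  have hh : ((Subgroup.centralizer ({z} : Set G)).index : ℂ) ≠ 0 := by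
    have : (Subgroup.centralizer ({z} : Set G)).index ≠ 0 := Subgroup.index_ne_zero_of_finite
    exact_mod_cast this
  have ha : (χ₂ : G → ℂ) 1 ≠ 0 := irr_one_ne_zero χ₂
  have ha1 : (χ₂ : G → ℂ) 1 + 1 ≠ 0 := by rw [← hdeg]; exact irr_one_ne_zero χ₁
  have hz4 : ¬ 4 ∣ orderOf z := by rw [hz]; norm_num
  have hb := hval z hz4
  have hb' : (χ₁ : G → ℂ) z = (χ₂ : G → ℂ) z + 1 := by linear_combination hb
  rw [hb', hdeg] at hlhs
  have key : ((χ₂ : G → ℂ) 1 - (χ₂ : G → ℂ) z) ^ 2 = 0 := by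
    field_simp at hlhs
    have hh2 : ((Subgroup.centralizer ({z} : Set G)).index : ℂ) ^ 2 ≠ 0 := pow_ne_zero 2 hh
    apply mul_left_cancel₀ hh2
    linear_combination hlhs
  have h5 := pow_eq_zero_iff (two_ne_zero) |>.mp key
  have h6 : (χ₂ : G → ℂ) z = (χ₂ : G → ℂ) 1 := (sub_eq_zero.mp h5).symm
  exact ⟨by rw [hb', hdeg, h6], h6⟩

end Cfsg.Agent.Helper8.QuatExc
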