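import Mathlib
import Cfsg.Agent.Helper8.QuatExc4
import Cfsg.Agent.Helper5.CharKer

/-!
Generalized quaternion Sylow 2-subgroups of order at least 16: the subgroup generated by the
involutions has cyclic Sylow 2-subgroups.
-/

set_option autoImplicit false

namespace Cfsg.Agent.Helper8.QuatExc

open Cfsg Cfsg.Agent.Helper24 Cfsg.Agent.Helper9 Cfsg.Agent.Helper8.QuatInvol Cfsg.Agent.Helper5
open scoped commutatorElement

section

variable {G : Type*} [Group G]

/-- the subgroup generated by the involutions is normal -/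
theorem involution_closure_normal :
    (Subgroup.closure {g : G | orderOf g = 2}).Normal := by
  constructor
  intro n hn g
  induction hn using Subgroup.closure_induction with
  | mem x hx =>
    apply Subgroup.subset_closure
    show orderOf (g * x * g⁻¹) = 2
    rw [orderOf_conj']
    exact hx
  | one => simp
  | mul x y _ _ hx hy =>
    have : g * (x * y) * g⁻¹ = (g * x * g⁻¹) * (g * y * g⁻¹) := by group
    rw [this]
    exact Subgroup.mul_mem _ hx hy
  | inv x _ hx =>
    have : g * x⁻¹ * g⁻¹ = (g * x * g⁻¹)⁻¹ := by group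
    rw [this]
    exact Subgroup.inv_mem _ hx

end

variable {G : Type*} [Group G] [Fintype G]

/-- `S ∩ ⟨involutions⟩` centralizes `S'` -/
theorem inf_involution_closure_le (S : Sylow 2 G) (n : ℕ)
    (e : (S : Subgroup G) ≃* QuaternionGroup (2 ^ (n + 2))) :
    (S : Subgroup G) ⊓ Subgroup.closure {g : G | orderOf g = 2} ≤
      Subgroup.centralizer ((⁅(S : Subgroup G), (S : Subgroup G)⁆ : Subgroup G) : Set G) := by
  classical
  haveI : NeZero (2 ^ (n + 2)) := ⟨by positivity⟩
  have hm3 : 3 ≤ 2 ^ (n + 2) := by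
    have : 2 ^ 2 ≤ 2 ^ (n + 2) := Nat.pow_le_pow_right (by norm_num) (by omega)
    omega
  obtain ⟨χ₁, χ₂, hne₁, hne₂, hdeg, hval, ρ, hρS, hρC, hρ⟩ := exists_exc_pair S n e
  haveI hHn : (Subgroup.closure {g : G | orderOf g = 2}).Normal := involution_closure_normal
  -- the closure lies in both kernels
  have hker : ∀ h ∈ Subgroup.closure {g : G | orderOf g = 2},
      h ∈ charKer χ₁ ⊓ charKer χ₂ := by
    have : Subgroup.closure {g : G | orderOf g = 2} ≤ charKer χ₁ ⊓ charKer χ₂ := by
      rw [Subgroup.closure_le]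
      intro z hz
      have := exc_pair_kernel S n e χ₁ χ₂ hne₁ hne₂ hdeg hval z hz
      exact ⟨(mem_charKer χ₁ z).mpr this.1, (mem_charKer χ₂ z).mpr this.2⟩
    exact fun h hh => this hh
  intro y hy
  obtain ⟨hyS, hyH⟩ := Subgroup.mem_inf.mp hy
  by_contra hyC
  -- `y` inverts `ρ⁻¹`
  have hinv := inverts (S : Subgroup G) _ hm3 e _ rfl hyS hyC
    ((S : Subgroup G).inv_mem hρS) (Subgroup.inv_mem _ hρC)
  rw [inv_inv] at hinv
  have hρ2 : ρ ^ 2 ∈ Subgroup.closure {g : G | orderOf g = 2} := by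
    have h1 : ρ ^ 2 = (ρ * y * ρ⁻¹) * y⁻¹ := by
      calc ρ ^ 2 = ρ * (y * ρ⁻¹ * y⁻¹) := by rw [hinv, sq]
        _ = (ρ * y * ρ⁻¹) * y⁻¹ := by group
    rw [h1]
    exact Subgroup.mul_mem _ (hHn.conj_mem y hyH ρ) (Subgroup.inv_mem _ hyH)
  have h2 := hker _ hρ2
  have h3 := (mem_charKer χ₁ _).mp h2.1
  have h4 := (mem_charKer χ₂ _).mp h2.2
  apply hρ
  rw [h3, h4, hdeg]
  ring

/-- **Sylow 2-subgroups of the subgroup generated by the involutions are cyclic.** -/
theorem isCyclic_sylow_involution_closure (S : Sylow 2 G) (n : ℕ)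
    (e : (S : Subgroup G) ≃* QuaternionGroup (2 ^ (n + 2)))
    (Q : Sylow 2 ↥(Subgroup.closure {g : G | orderOf g = 2})) : IsCyclic Q := by
  classical
  haveI : Fact (Nat.Prime 2) := ⟨Nat.prime_two⟩
  haveI hHn : (Subgroup.closure {g : G | orderOf g = 2}).Normal := involution_closure_normal
  obtain ⟨R, hDR, hRc, hSN, hSC, hcardS⟩ := quat_sylow_data S _ n e rfl
  haveI := hRc
  have hle := inf_involution_closure_le S n e
  -- the image of `Q` in `G`
  have hQ'p : IsPGroup 2 ((Q : Subgroup _).map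
      (Subgroup.closure {g : G | orderOf g = 2}).subtype) :=
    IsPGroup.map Q.isPGroup' _
  obtain ⟨P, hP⟩ := hQ'p.exists_le_sylow
  obtain ⟨g, hg⟩ := MulAction.exists_smul_eq G P S
  have hconj : ((Q : Subgroup _).map (Subgroup.closure {g : G | orderOf g = 2}).subtype).map
      (MulAut.conj g).toMonoidHom ≤ R := by
    rintro _ ⟨q, hq, rfl⟩
    rw [← hSC]
    have hqH : q ∈ Subgroup.closure {g : G | orderOf g = 2} := by
      obtain ⟨q', _, rfl⟩ := hq
      exact q'.2
    have hS : g * q * g⁻¹ ∈ (S : Subgroup G) := by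
      rw [← hg, Sylow.coe_subgroup_smul, Subgroup.mem_smul_pointwise_iff_exists]
      exact ⟨q, hP hq, by simp [MulAut.smul_def]⟩
    have hH : g * q * g⁻¹ ∈ Subgroup.closure {g : G | orderOf g = 2} := hHn.conj_mem q hqH g
    exact ⟨hS, hle ⟨hS, hH⟩⟩
  haveI h1 : IsCyclic ((Q : Subgroup _).map
      (Subgroup.closure {g : G | orderOf g = 2}).subtype) :=
    isCyclic_of_map_conj_le _ R g hconj
  have e' := (Q : Subgroup (Subgroup.closure {g : G | orderOf g = 2})).equivMapOfInjective
    (Subgroup.closure {g : G | orderOf g = 2}).subtype (Subgroup.subtype_injective _)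
  exact isCyclic_of_surjective e'.symm.toMonoidHom e'.symm.surjective

end Cfsg.Agent.Helper8.QuatExc
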