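import Mathlib
import Cfsg.Agent.Helper8.QuatExc5

/-!
The Brauer–Suzuki theorem for generalized quaternion Sylow 2-subgroups of order at least 16.
-/

set_option autoImplicit false

namespace Cfsg.Agent.Helper8.QuatExc

open Cfsg Cfsg.Agent.Helper24 Cfsg.Agent.Helper9 Cfsg.Agent.Helper8.QuatInvol
open scoped commutatorElement

section General

variable {H : Type*} [Group H] [Finite H]

/-- A finite group of even order with a cyclic Sylow 2-subgroup: the elements of odd order form a
normal subgroup `L` with `L ⊔ Q = ⊤`; if `L` is trivial then the group is commutative. -/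
theorem exists_odd_normal_of_cyclic_sylow (heven : 2 ∣ Nat.card H) (Q : Sylow 2 H)
    (hQ : IsCyclic Q) :
    ∃ L : Subgroup H, L.Normal ∧ Odd (Nat.card L) ∧ (∀ h : H, Odd (orderOf h) → h ∈ L) ∧
      (L = ⊥ → ∀ a b : H, a * b = b * a) := by
  haveI : Fact (Nat.Prime 2) := ⟨Nat.prime_two⟩
  have hmin : (Nat.card H).minFac = 2 := (Nat.minFac_eq_two_iff _).mpr heven
  have hcomp := IsCyclic.isComplement' hmin hQ
  set L := (MonoidHom.transferSylow Q (hQ.normalizer_le_centralizer hmin)).ker with hL
  have hidx : (Q : Subgroup H).index = Nat.card L := hcomp.index_eq_card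
  have hodd : Odd (Nat.card L) := by
    rw [← hidx, ← Nat.not_even_iff_odd, even_iff_two_dvd]
    exact Q.not_dvd_index
  have hLidx : L.index = Nat.card Q := hcomp.symm.index_eq_card
  refine ⟨L, inferInstance, hodd, ?_, ?_⟩
  · intro h hh
    have h1 : ((QuotientGroup.mk h : H ⧸ L)) ^ Nat.card Q = 1 := by
      rw [← hLidx, Subgroup.index_eq_card]
      exact pow_card_eq_one'
    have h2 : ((QuotientGroup.mk h : H ⧸ L)) ^ orderOf h = 1 := by
      rw [← QuotientGroup.mk_pow, pow_orderOf_eq_one, QuotientGroup.mk_one]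
    obtain ⟨k, hk⟩ := Q.isPGroup'.exists_card_eq
    have hcop : Nat.Coprime (Nat.card Q) (orderOf h) := by
      rw [hk]
      exact Nat.Coprime.pow_left _ (Nat.coprime_two_left.mpr hh)
    have h3 : orderOf (QuotientGroup.mk h : H ⧸ L) = 1 :=
      Nat.eq_one_of_dvd_coprimes hcop (orderOf_dvd_of_pow_eq_one h1) (orderOf_dvd_of_pow_eq_one h2)
    exact (QuotientGroup.eq_one_iff h).mp (orderOf_eq_one_iff.mp h3)
  · intro hbot a b
    rw [hbot] at hcomp
    have htop : (Q : Subgroup H) = ⊤ := Subgroup.isComplement'_bot_left.mp hcomp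
    have ha : a ∈ (Q : Subgroup H) := by rw [htop]; trivial
    have hb : b ∈ (Q : Subgroup H) := by rw [htop]; trivial
    letI : CommGroup (Q : Subgroup H) := IsCyclic.commGroup
    have := mul_comm (⟨a, ha⟩ : (Q : Subgroup H)) ⟨b, hb⟩
    exact congrArg Subtype.val this

end General

variable {G : Type*} [Group G] [Fintype G]

/-- all involutions coincide when there is no nontrivial normal subgroup of odd order -/
theorem involution_unique (S : Sylow 2 G) (n : ℕ)
    (e : (S : Subgroup G) ≃* QuaternionGroup (2 ^ (n + 2)))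
    (hO : ∀ N : Subgroup G, N.Normal → Odd (Nat.card N) → N = ⊥)
    {x y : G} (hx : orderOf x = 2) (hy : orderOf y = 2) : x = y := by
  classical
  haveI : NeZero (2 ^ (n + 2)) := ⟨by positivity⟩
  haveI : Fact (Nat.Prime 2) := ⟨Nat.prime_two⟩
  haveI hHn : (Subgroup.closure {g : G | orderOf g = 2}).Normal := involution_closure_normal
  have hxH : x ∈ Subgroup.closure {g : G | orderOf g = 2} := Subgroup.subset_closure hx
  have hyH : y ∈ Subgroup.closure {g : G | orderOf g = 2} := Subgroup.subset_closure hy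
  have heven : 2 ∣ Nat.card (Subgroup.closure {g : G | orderOf g = 2}) := by
    have := Subgroup.orderOf_dvd_natCard _ hxH
    rwa [hx] at this
  obtain ⟨Q⟩ : Nonempty (Sylow 2 (Subgroup.closure {g : G | orderOf g = 2})) := inferInstance
  have hQ := isCyclic_sylow_involution_closure S n e Q
  obtain ⟨L, hLn, hLodd, hLmem, hLcomm⟩ := exists_odd_normal_of_cyclic_sylow heven Q hQ
  -- the image of `L` in `G` is normal of odd order
  have hOn : (L.map (Subgroup.closure {g : G | orderOf g = 2}).subtype).Normal := by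
    constructor
    rintro _ ⟨l, hl, rfl⟩ g
    have hmem : g * (l : G) * g⁻¹ ∈ Subgroup.closure {g : G | orderOf g = 2} :=
      hHn.conj_mem _ l.2 g
    refine ⟨⟨_, hmem⟩, ?_, rfl⟩
    apply hLmem
    rw [← Subgroup.orderOf_coe]
    show Odd (orderOf (g * (l : G) * g⁻¹))
    rw [orderOf_conj', Subgroup.orderOf_coe]
    exact Odd.of_dvd_nat hLodd (Subgroup.orderOf_dvd_natCard L hl)
  have hOodd : Odd (Nat.card (L.map (Subgroup.closure {g : G | orderOf g = 2}).subtype)) := by
    rw [Subgroup.card_map_of_injective (Subgroup.subtype_injective _)]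
    exact hLodd
  have hObot := hO _ hOn hOodd
  have hLbot : L = ⊥ := by
    rw [← Subgroup.map_eq_bot_iff_of_injective L (Subgroup.subtype_injective _)]
    exact hObot
  have hcomm := hLcomm hLbot ⟨x, hxH⟩ ⟨y, hyH⟩
  have hxy : x * y = y * x := congrArg Subtype.val hcomm
  exact eq_of_commute S _ e hx hy hxy

/-- **Brauer–Suzuki for order at least 16.** -/
theorem card_center_eq_two (S : Sylow 2 G) (n : ℕ)
    (e : (S : Subgroup G) ≃* QuaternionGroup (2 ^ (n + 2)))
    (hO : ∀ N : Subgroup G, N.Normal → Odd (Nat.card N) → N = ⊥) :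
    Nat.card (Subgroup.center G) = 2 := by
  classical
  haveI : NeZero (2 ^ (n + 2)) := ⟨by positivity⟩
  haveI : Fact (Nat.Prime 2) := ⟨Nat.prime_two⟩
  have hm3 : 3 ≤ 2 ^ (n + 2) := by
    have : 2 ^ 2 ≤ 2 ^ (n + 2) := Nat.pow_le_pow_right (by norm_num) (by omega)
    omega
  obtain ⟨z, hzS, hz⟩ := exists_involution S _ e
  have huniq : ∀ x : G, orderOf x = 2 → x = z := fun x hx => involution_unique S n e hO hx hz
  -- `z` is central
  have hzc : z ∈ Subgroup.center G := by
    rw [Subgroup.mem_center_iff]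
    intro g
    have h1 : orderOf (g * z * g⁻¹) = 2 := by rw [orderOf_conj', hz]
    have h2 := huniq _ h1
    calc g * z = (g * z * g⁻¹) * g := by group
      _ = z * g := by rw [h2]
  have hz1 : z ≠ 1 := by
    intro h
    rw [h, orderOf_one] at hz
    omega
  -- an element of `S` outside the centralizer of `S'`
  obtain ⟨R, hDR, hRc, hSN, hSC, hcardS⟩ := quat_sylow_data S _ n e rfl
  obtain ⟨s, hsS, hsC⟩ : ∃ s ∈ (S : Subgroup G), s ∉ Subgroup.centralizer
      ((⁅(S : Subgroup G), (S : Subgroup G)⁆ : Subgroup G) : Set G) := by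
    by_contra hcon
    push Not at hcon
    have hle : (S : Subgroup G) ≤ R := by
      rw [← hSC]; exact le_inf le_rfl hcon
    have h1 := Subgroup.card_le_of_le hle
    have h2 : 0 < Nat.card R := Nat.card_pos
    omega
  -- every central element is `1` or `z`
  have hcen : ∀ c ∈ Subgroup.center G, c = 1 ∨ c = z := by
    intro c hc
    have hcomm : ∀ g : G, g * c = c * g := fun g => Subgroup.mem_center_iff.mp hc g
    -- the odd part of `c` is trivial
    obtain ⟨k, b, hb, hkb⟩ := Nat.exists_eq_two_pow_mul_odd (orderOf_pos c).ne'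
    have hc' : c ^ 2 ^ k ∈ Subgroup.center G := Subgroup.pow_mem _ hc _
    have hord : orderOf (c ^ 2 ^ k) = b := by
      rw [orderOf_pow' c (by positivity), hkb]
      have : Nat.gcd (2 ^ k * b) (2 ^ k) = 2 ^ k := Nat.gcd_eq_right (Dvd.intro _ rfl)
      rw [this, Nat.mul_div_cancel_left _ (by positivity)]
    have hnorm : (Subgroup.zpowers (c ^ 2 ^ k)).Normal := by
      constructor
      rintro _ ⟨j, rfl⟩ g
      refine ⟨j, ?_⟩
      have h1 : Commute g ((c ^ 2 ^ k) ^ j) :=
        Commute.zpow_right (Subgroup.mem_center_iff.mp hc' g) j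
      show (c ^ 2 ^ k) ^ j = g * (c ^ 2 ^ k) ^ j * g⁻¹
      rw [h1.eq, mul_inv_cancel_right]
    have hbot := hO _ hnorm (by rw [Nat.card_zpowers, hord]; exact hb)
    have hb1 : b = 1 := by
      rw [← hord, orderOf_eq_one_iff]
      have : c ^ 2 ^ k ∈ Subgroup.zpowers (c ^ 2 ^ k) := Subgroup.mem_zpowers _
      rw [hbot] at this
      exact Subgroup.mem_bot.mp this
    rw [hb1, mul_one] at hkb
    -- `c` lies in `S`
    have hp : IsPGroup 2 (Subgroup.zpowers c) := by
      apply IsPGroup.of_card (n := k)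
      rw [Nat.card_zpowers, hkb]
    obtain ⟨P, hP⟩ := hp.exists_le_sylow
    obtain ⟨g, hg⟩ := MulAction.exists_smul_eq G P S
    have hcS : c ∈ (S : Subgroup G) := by
      rw [← hg, Sylow.coe_subgroup_smul, Subgroup.mem_smul_pointwise_iff_exists]
      refine ⟨c, hP (Subgroup.mem_zpowers c), ?_⟩
      simp only [MulAut.smul_def, MulAut.conj_apply]
      rw [hcomm g, mul_inv_cancel_right]
    have hcC : c ∈ Subgroup.centralizer
        ((⁅(S : Subgroup G), (S : Subgroup G)⁆ : Subgroup G) : Set G) := by
      rw [Subgroup.mem_centralizer_iff]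
      intro d _
      exact hcomm d
    have hinv := inverts (S : Subgroup G) _ hm3 e _ rfl hsS hsC hcS hcC
    rw [hcomm s, mul_inv_cancel_right] at hinv
    have hsq : c ^ 2 = 1 := by
      rw [sq]
      nth_rewrite 1 [hinv]
      exact inv_mul_cancel c
    by_cases hc1 : c = 1
    · left; exact hc1
    · right
      exact huniq c (orderOf_eq_prime hsq hc1)
  -- count
  have hset : ((Subgroup.center G : Subgroup G) : Set G) = {1, z} := by
    ext c
    constructor
    · intro hc
      rcases hcen c hc with h | h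
      · rw [h]; exact Set.mem_insert _ _
      · rw [h]; exact Set.mem_insert_of_mem _ rfl
    · rintro (h | h)
      · rw [h]; exact Subgroup.one_mem _
      · rw [Set.mem_singleton_iff.mp h]; exact hzc
  have : Nat.card (Subgroup.center G) = Nat.card (({1, z} : Set G)) := by
    rw [← hset]
    rfl
  rw [this, Nat.card_coe_set_eq, Set.ncard_pair (Ne.symm hz1)]

end Cfsg.Agent.Helper8.QuatExc
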