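import Mathlib
import Cfsg.Agent.Helper9.ShultI
import Cfsg.Agent.Helper5.HHModH

/-!
# Base change for the Shult-type fixed point theorem (piece (a) of S3793)

`shult_field`: `Helper9.Shult.shult_alg` over an arbitrary field (base change to the algebraic closure).
`shult_group`: the group form, for a finite elementary abelian `r`-group `V` acted on through
`φ : Γ →* MulAut V`.
-/

set_option autoImplicit false

namespace Cfsg.Agent.Helper8.ShultBC

open Module Subgroup Cfsg.Agent.Helper5.FrobMod Cfsg.Agent.Helper5.HHMod TensorProduct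

theorem shult_field {Γ : Type*} [Group Γ] [Finite Γ] {k : Type*} [Field k]
    {M : Type*} [AddCommGroup M] [Module k M] [FiniteDimensional k M]
    {p q n : ℕ} (hp : p.Prime) (hp2 : p ≠ 2) (hq : q.Prime) (hqp : q ≠ p) (hn : 0 < n)
    (Q : Subgroup Γ) (hQ : IsPGroup q Q) (s : Γ) (hsQ : s ∈ Subgroup.normalizer (Q : Set Γ))
    (hs : s ^ (p ^ n) = 1) (hfpf : ∀ g ∈ Q, s * g * s⁻¹ = g → g = 1)
    (hnt : ∃ g ∈ Q, s ^ (p ^ (n - 1)) * g * (s ^ (p ^ (n - 1)))⁻¹ ≠ g)
    (ρ : Representation k Γ M) (hpK : (p : k) ≠ 0) (hqK : (q : k) ≠ 0)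
    (hfaith : ∀ g ∈ Q, ρ g = 1 → g = 1) : ∃ m : M, m ≠ 0 ∧ ρ s m = m := by
  let K := AlgebraicClosure k
  have hcast : ∀ n : ℕ, (n : k) ≠ 0 → (n : K) ≠ 0 := by
    intro n hn
    rw [← map_natCast (algebraMap k K)]
    exact fun h => hn ((map_eq_zero_iff _ (algebraMap k K).injective).mp h)
  have hfaith' : ∀ g ∈ Q, baseChangeRep ρ K g = 1 → g = 1 := by
    intro g hg h1
    apply hfaith g hg
    have h2 : LinearMap.ker ((ρ g - 1).baseChange K) = ⊤ := by
      rw [baseChangeRep_sub_one, LinearMap.ker_eq_top, h1]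
      exact sub_self (1 : Module.End K (K ⊗[k] M))
    have h3 := finrank_ker_baseChange K (ρ g - 1)
    rw [h2, finrank_top, Module.finrank_baseChange] at h3
    have h4 : LinearMap.ker (ρ g - 1) = ⊤ := Submodule.eq_top_of_finrank_eq h3.symm
    have h5 : ρ g - 1 = 0 := LinearMap.ker_eq_top.mp h4
    exact sub_eq_zero.mp h5
  obtain ⟨m, hm0, hm⟩ := Cfsg.Agent.Helper9.Shult.shult_alg hp hp2 hq hqp hn Q hQ s hsQ hs hfpf hnt
    (baseChangeRep ρ K) (hcast p hpK) (hcast q hqK) hfaith'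
  have h2 : LinearMap.ker ((ρ s - 1).baseChange K) ≠ ⊥ := by
    intro hbot
    apply hm0
    have : m ∈ LinearMap.ker ((ρ s - 1).baseChange K) := by
      rw [LinearMap.mem_ker, baseChangeRep_sub_one, LinearMap.sub_apply, hm, Module.End.one_apply, sub_self]
    rw [hbot, Submodule.mem_bot] at this
    exact this
  have h3 := finrank_ker_baseChange K (ρ s - 1)
  have h4 : LinearMap.ker (ρ s - 1) ≠ ⊥ := by
    intro hbot
    rw [hbot, finrank_bot] at h3
    exact h2 (Submodule.finrank_eq_zero.mp h3)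
  obtain ⟨m0, hm0mem, hm00⟩ := (Submodule.ne_bot_iff _).mp h4
  refine ⟨m0, hm00, ?_⟩
  rw [LinearMap.mem_ker, LinearMap.sub_apply, Module.End.one_apply, sub_eq_zero] at hm0mem
  exact hm0mem

/-- group form with a `ZMod r`-module structure given -/
theorem shult_group_aux {Γ : Type*} [Group Γ] [Finite Γ] {V : Type*} [CommGroup V] [Finite V]
    {p q r n : ℕ} [hrF : Fact r.Prime] [Module (ZMod r) (Additive V)]
    (hp : p.Prime) (hp2 : p ≠ 2) (hq : q.Prime) (hqp : q ≠ p)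
    (hrp : r ≠ p) (hrq : r ≠ q) (hn : 0 < n)
    (Q : Subgroup Γ) (hQ : IsPGroup q Q) (s : Γ) (hsQ : s ∈ Subgroup.normalizer (Q : Set Γ))
    (hs : s ^ (p ^ n) = 1) (hfpf : ∀ g ∈ Q, s * g * s⁻¹ = g → g = 1)
    (hnt : ∃ g ∈ Q, s ^ (p ^ (n - 1)) * g * (s ^ (p ^ (n - 1)))⁻¹ ≠ g)
    (φ : Γ →* MulAut V) (hfaith : ∀ g ∈ Q, φ g = 1 → g = 1) : ∃ v : V, v ≠ 1 ∧ φ s v = v := by
  classical
  have hr : r.Prime := hrF.out
  haveI : Finite (Additive V) := ‹Finite V›
  haveI : Module.Finite (ZMod r) (Additive V) := Module.Finite.of_finite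
  let φ' : Γ →* Monoid.End V :=
    { toFun := fun g => (φ g).toMonoidHom
      map_one' := by
        rw [map_one]; rfl
      map_mul' := fun a b => by
        rw [map_mul]; rfl }
  set ρ0 : Representation (ZMod r) Γ (Additive V) := endRep r φ' with hρ0
  have hρ : ∀ (a : Γ) (v : V), ρ0 a (Additive.ofMul v) = Additive.ofMul (φ a v) := fun a v => rfl
  have hpk : (p : ZMod r) ≠ 0 := by
    rw [Ne, ZMod.natCast_eq_zero_iff]
    intro hdvd
    exact hrp ((Nat.prime_dvd_prime_iff_eq hr hp).mp hdvd)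
  have hqk : (q : ZMod r) ≠ 0 := by
    rw [Ne, ZMod.natCast_eq_zero_iff]
    intro hdvd
    exact hrq ((Nat.prime_dvd_prime_iff_eq hr hq).mp hdvd)
  have hfaith' : ∀ g ∈ Q, ρ0 g = 1 → g = 1 := by
    intro g hg h1
    apply hfaith g hg
    ext v
    have h2 := congrArg (fun f : Module.End (ZMod r) (Additive V) => f (Additive.ofMul v)) h1
    simp only [Module.End.one_apply] at h2
    rw [hρ] at h2
    exact Additive.ofMul.injective h2
  obtain ⟨m, hm0, hm⟩ := shult_field hp hp2 hq hqp hn Q hQ s hsQ hs hfpf hnt ρ0 hpk hqk hfaith'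
  induction m using Additive.rec with
  | ofMul v =>
    rw [hρ] at hm
    refine ⟨v, fun h1 => hm0 ?_, Additive.ofMul.injective hm⟩
    rw [h1]; rfl

theorem shult_group {Γ : Type*} [Group Γ] [Finite Γ] {V : Type*} [CommGroup V] [Finite V]
    {p q r n : ℕ} (hp : p.Prime) (hp2 : p ≠ 2) (hq : q.Prime) (hr : r.Prime) (hqp : q ≠ p)
    (hrp : r ≠ p) (hrq : r ≠ q) (hn : 0 < n)
    (hV : ∀ v : V, v ^ r = 1)
    (Q : Subgroup Γ) (hQ : IsPGroup q Q) (s : Γ) (hsQ : s ∈ Subgroup.normalizer (Q : Set Γ))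
    (hs : s ^ (p ^ n) = 1) (hfpf : ∀ g ∈ Q, s * g * s⁻¹ = g → g = 1)
    (hnt : ∃ g ∈ Q, s ^ (p ^ (n - 1)) * g * (s ^ (p ^ (n - 1)))⁻¹ ≠ g)
    (φ : Γ →* MulAut V) (hfaith : ∀ g ∈ Q, φ g = 1 → g = 1) : ∃ v : V, v ≠ 1 ∧ φ s v = v := by
  haveI : Fact r.Prime := ⟨hr⟩
  letI : Module (ZMod r) (Additive V) := AddCommGroup.zmodModule (n := r) (fun y => by
    induction y using Additive.rec with
    | ofMul v => rw [← ofMul_pow, hV]; rfl)
  exact shult_group_aux hp hp2 hq hqp hrp hrq hn Q hQ s hsQ hs hfpf hnt φ hfaith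

end Cfsg.Agent.Helper8.ShultBC
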