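import Mathlib
import Cfsg.Agent.Helper18.K2P.Defs
import Cfsg.Agent.Helper18.K2P.QB
import Cfsg.Agent.Helper18.K2P.RACT
import Cfsg.Agent.Helper18.K2P.STAB
import Cfsg.Agent.Helper18.K2P.OMEGA

set_option autoImplicit false
set_option linter.unusedSectionVars false
set_option linter.unusedVariables false

/-! # S5692, `k = 2` hyperbolic blocks (chapter K2P), rest of chapter G (helper8): the hyperbolic plane
(`PLANE.*`), universality (`UNIV.main`), the block rotations `TOR.rho bp i lam hl` (`e_i ↦ lam e_i`,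
`f_i ↦ lam⁻¹ f_i`, identity on the other blocks) and their membership in `M` (`TOR.mem`, `TOR.mem2`), the
double swaps (`TOR.swap2_mem`). -/

namespace Cfsg.Agent.K2P

open Matrix Cfsg.Agent.OC2P Cfsg.Agent.Helper28.Sg Cfsg.Agent.Helper28.Spin
  Cfsg.Agent.Helper12.OrthGen Cfsg.Agent.K2M

variable {F : Type*} [Field F] {t : ℕ} {Q : QuadraticForm F (Fin t × Fin 2 → F)}
  {q : QuadraticForm F (Fin 2 → F)} {e f : Fin 2 → F}

/-! ## PLANE: the hyperbolic plane `(F², q)` with hyperbolic pair `e`, `f` -/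

theorem PLANE.polar_ee (bp : BP Q q e f) : QuadraticMap.polar ⇑q e e = 0 := by
  rw [QuadraticMap.polar_self, bp.qe, smul_zero]

theorem PLANE.polar_ff (bp : BP Q q e f) : QuadraticMap.polar ⇑q f f = 0 := by
  rw [QuadraticMap.polar_self, bp.qf, smul_zero]

theorem PLANE.polar_fe (bp : BP Q q e f) : QuadraticMap.polar ⇑q f e = 1 := by
  rw [QuadraticMap.polar_comm]; exact bp.ef

/-- `q (a e + b f) = a b` -/
theorem PLANE.q_comb (bp : BP Q q e f) (a b : F) : q (a • e + b • f) = a * b := by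
  rw [QuadraticMap.map_add (⇑q), QuadraticMap.map_smul, QuadraticMap.map_smul, bp.qe, bp.qf,
    QuadraticMap.polar_smul_left, QuadraticMap.polar_smul_right, bp.ef]
  simp only [smul_eq_mul, mul_zero, mul_one, zero_add]

/-- `q (e - c f) = - c` -/
theorem PLANE.q_sub (bp : BP Q q e f) (c : F) : q (e - c • f) = - c := by
  have h : e - c • f = (1 : F) • e + (-c) • f := by rw [one_smul, neg_smul, sub_eq_add_neg]
  rw [h, PLANE.q_comb bp, one_mul]

/-- `polar (a e + b f) y = a polar e y + b polar f y` -/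
theorem PLANE.polar_comb_left (a b : F) (y : Fin 2 → F) :
    QuadraticMap.polar ⇑q (a • e + b • f) y =
      a * QuadraticMap.polar ⇑q e y + b * QuadraticMap.polar ⇑q f y := by
  rw [QuadraticMap.polar_add_left, QuadraticMap.polar_smul_left, QuadraticMap.polar_smul_left]
  simp only [smul_eq_mul]

/-- `e`, `f` are linearly independent -/
theorem PLANE.indep (bp : BP Q q e f) : Indep2 (F := F) e f := by
  intro a b h
  have h1 : QuadraticMap.polar ⇑q (a • e + b • f) f = a := by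
    rw [PLANE.polar_comb_left, bp.ef, PLANE.polar_ff bp, mul_one, mul_zero, add_zero]
  have h2 : QuadraticMap.polar ⇑q (a • e + b • f) e = b := by
    rw [PLANE.polar_comb_left, PLANE.polar_ee bp, PLANE.polar_fe bp, mul_one, mul_zero, zero_add]
  rw [h, QuadraticMap.polar_zero_left] at h1 h2
  exact ⟨h1.symm, h2.symm⟩

/-- coordinates in the hyperbolic basis: `y = polar y f • e + polar y e • f` -/
theorem PLANE.coord (bp : BP Q q e f) (y : Fin 2 → F) :
    y = QuadraticMap.polar ⇑q y f • e + QuadraticMap.polar ⇑q y e • f := by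
  -- the difference is orthogonal to everything
  set d : Fin 2 → F := y - (QuadraticMap.polar ⇑q y f • e + QuadraticMap.polar ⇑q y e • f) with hd
  have hli : LinearIndependent F ![e, f] := LinearIndependent.pair_iff.mpr (PLANE.indep bp)
  have hcard : Fintype.card (Fin 2) = Module.finrank F (Fin 2 → F) := by
    rw [Module.finrank_fin_fun, Fintype.card_fin]
  let b := basisOfLinearIndependentOfCardEqFinrank hli hcard
  have e0 : b 0 = e := by simp [b, coe_basisOfLinearIndependentOfCardEqFinrank]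
  have e1 : b 1 = f := by simp [b, coe_basisOfLinearIndependentOfCardEqFinrank]
  have hsum := b.sum_repr y
  rw [Fin.sum_univ_two, e0, e1] at hsum
  have h1 : QuadraticMap.polar ⇑q y f = b.repr y 0 := by
    conv_lhs => rw [← hsum]
    rw [PLANE.polar_comb_left, bp.ef, PLANE.polar_ff bp, mul_one, mul_zero, add_zero]
  have h2 : QuadraticMap.polar ⇑q y e = b.repr y 1 := by
    conv_lhs => rw [← hsum]
    rw [PLANE.polar_comb_left, PLANE.polar_ee bp, PLANE.polar_fe bp, mul_one, mul_zero, zero_add]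
  rw [h1, h2]
  exact hsum.symm

/-- the norm in coordinates -/
theorem PLANE.q_eq (bp : BP Q q e f) (y : Fin 2 → F) :
    q y = QuadraticMap.polar ⇑q y f * QuadraticMap.polar ⇑q y e := by
  conv_lhs => rw [PLANE.coord bp y]
  rw [PLANE.q_comb bp]

/-- a singular vector of the hyperbolic plane is a multiple of `e` or of `f` -/
theorem PLANE.sing (bp : BP Q q e f) {y : Fin 2 → F} (hy : q y = 0) :
    (∃ a : F, y = a • e) ∨ (∃ b : F, y = b • f) := by
  rw [PLANE.q_eq bp] at hy
  rcases mul_eq_zero.mp hy with h | h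
  · right
    refine ⟨QuadraticMap.polar ⇑q y e, ?_⟩
    conv_lhs => rw [PLANE.coord bp y]
    rw [h, zero_smul, zero_add]
  · left
    refine ⟨QuadraticMap.polar ⇑q y f, ?_⟩
    conv_lhs => rw [PLANE.coord bp y]
    rw [h, zero_smul, add_zero]

/-! ## UNIV: a hyperbolic form represents every scalar -/

theorem UNIV.main (bp : BP Q q e f) (c : F) : ∃ y : Fin 2 → F, q y = c :=
  ⟨(1 : F) • e + c • f, by rw [PLANE.q_comb bp, one_mul]⟩

/-! ## TOR: the block rotations -/

theorem TOR.aux_Q1 (bp : BP Q q e f) (i : Fin t) : Q (binj i (e - f)) ≠ 0 := by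
  have h : e - f = e - (1 : F) • f := by rw [one_smul]
  rw [QB.Q_binj bp.toBM0, h, PLANE.q_sub bp]
  exact neg_ne_zero.mpr one_ne_zero

theorem TOR.aux_Q2 (bp : BP Q q e f) (i : Fin t) {lam : F} (hl : lam ≠ 0) :
    Q (binj i (e - lam • f)) ≠ 0 := by
  rw [QB.Q_binj bp.toBM0, PLANE.q_sub bp]
  exact neg_ne_zero.mpr hl

/-- the block rotation `ρ_i(lam)`: `e_i ↦ lam e_i`, `f_i ↦ lam⁻¹ f_i`, identity on the other blocks -/
noncomputable def TOR.rho (bp : BP Q q e f) (i : Fin t) (lam : F) (hl : lam ≠ 0) : OG Q :=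
  reflO Q (binj i (e - f)) (TOR.aux_Q1 bp i) * reflO Q (binj i (e - lam • f)) (TOR.aux_Q2 bp i hl)

/-- the binary rotation -/
theorem TOR.aux_r2 (bp : BP Q q e f) {lam : F} (hl : lam ≠ 0) (a : Fin 2 → F) :
    r2 q (e - f) (r2 q (e - lam • f) a) =
      a + ((lam - 1) * QuadraticMap.polar ⇑q a f) • e + ((lam⁻¹ - 1) * QuadraticMap.polar ⇑q a e) • f := by
  have hq1 : q (e - f) = -1 := by
    have h : e - f = e - (1 : F) • f := by rw [one_smul]
    rw [h, PLANE.q_sub bp]
  have hq2 : q (e - lam • f) = -lam := PLANE.q_sub bp lam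
  have pe : ∀ y : Fin 2 → F, QuadraticMap.polar ⇑q (e - f) y =
      QuadraticMap.polar ⇑q y e - QuadraticMap.polar ⇑q y f := by
    intro y
    rw [QuadraticMap.polar_sub_left, QuadraticMap.polar_comm ⇑q e y, QuadraticMap.polar_comm ⇑q f y]
  have pl : ∀ y : Fin 2 → F, QuadraticMap.polar ⇑q (e - lam • f) y =
      QuadraticMap.polar ⇑q y e - lam * QuadraticMap.polar ⇑q y f := by
    intro y
    rw [QuadraticMap.polar_sub_left, QuadraticMap.polar_smul_left, QuadraticMap.polar_comm ⇑q e y,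
      QuadraticMap.polar_comm ⇑q f y, smul_eq_mul]
  -- the inner reflection
  set a' : Fin 2 → F := r2 q (e - lam • f) a with ha'
  have h1 : a' = a + (lam⁻¹ * QuadraticMap.polar ⇑q a e - QuadraticMap.polar ⇑q a f) • (e - lam • f) := by
    rw [ha']
    unfold r2
    rw [hq2, pl]
    have hc : -((-lam)⁻¹ * (QuadraticMap.polar ⇑q a e - lam * QuadraticMap.polar ⇑q a f)) =
        lam⁻¹ * QuadraticMap.polar ⇑q a e - QuadraticMap.polar ⇑q a f := by
      field_simp
    rw [sub_eq_add_neg, ← neg_smul, hc]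
  have h2 : QuadraticMap.polar ⇑q a' e = lam * QuadraticMap.polar ⇑q a f := by
    rw [h1, QuadraticMap.polar_add_left, QuadraticMap.polar_smul_left, QuadraticMap.polar_sub_left,
      QuadraticMap.polar_smul_left, PLANE.polar_ee bp, PLANE.polar_fe bp]
    simp only [smul_eq_mul]
    field_simp
    ring
  have h3 : QuadraticMap.polar ⇑q a' f = lam⁻¹ * QuadraticMap.polar ⇑q a e := by
    rw [h1, QuadraticMap.polar_add_left, QuadraticMap.polar_smul_left, QuadraticMap.polar_sub_left,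
      QuadraticMap.polar_smul_left, PLANE.polar_ff bp, bp.ef]
    simp only [smul_eq_mul]
    ring
  unfold r2
  rw [hq1, pe, h2, h3, h1]
  have hc : (-1 : F)⁻¹ = -1 := by norm_num
  rw [hc]
  ext k
  simp only [Pi.add_apply, Pi.sub_apply, Pi.smul_apply, smul_eq_mul]
  field_simp
  ring

/-- the action of `ρ_i(lam)` on the component `i` -/
theorem TOR.bproj_same (bp : BP Q q e f) (i : Fin t) {lam : F} (hl : lam ≠ 0)
    (x : Fin t × Fin 2 → F) :
    bproj i (mt Q (TOR.rho bp i lam hl) *ᵥ x) =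
      bproj i x + ((lam - 1) * QuadraticMap.polar ⇑q (bproj i x) f) • e +
        ((lam⁻¹ - 1) * QuadraticMap.polar ⇑q (bproj i x) e) • f := by
  unfold TOR.rho
  rw [mt_mul_mulVec, RACT.bproj_same bp.toBM0, RACT.bproj_same bp.toBM0, TOR.aux_r2 bp hl]

/-- `ρ_i(lam)` does not change the other components -/
theorem TOR.bproj_ne (bp : BP Q q e f) {i j : Fin t} (h : j ≠ i) {lam : F} (hl : lam ≠ 0)
    (x : Fin t × Fin 2 → F) :
    bproj j (mt Q (TOR.rho bp i lam hl) *ᵥ x) = bproj j x := by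
  unfold TOR.rho
  rw [mt_mul_mulVec, RACT.bproj_ne bp.toBM0 h, RACT.bproj_ne bp.toBM0 h]

/-- the rotation formula -/
theorem TOR.mulVec (bp : BP Q q e f) (i : Fin t) {lam : F} (hl : lam ≠ 0) (x : Fin t × Fin 2 → F) :
    mt Q (TOR.rho bp i lam hl) *ᵥ x =
      x + ((lam - 1) * QuadraticMap.polar ⇑q (bproj i x) f) • binj i e +
        ((lam⁻¹ - 1) * QuadraticMap.polar ⇑q (bproj i x) e) • binj i f := by
  apply QB.ext
  intro j
  by_cases hj : j = i
  · subst hj
    rw [TOR.bproj_same bp j hl, QB.bproj_add, QB.bproj_add, QB.bproj_smul, QB.bproj_smul, bproj_binj,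
      bproj_binj]
  · rw [TOR.bproj_ne bp hj hl, QB.bproj_add, QB.bproj_add, QB.bproj_smul, QB.bproj_smul,
      bproj_binj_ne hj, bproj_binj_ne hj, smul_zero, smul_zero, add_zero, add_zero]

/-- `ρ_i(lam)` on a vector of block `i` -/
theorem TOR.mulVec_binj (bp : BP Q q e f) (i : Fin t) {lam : F} (hl : lam ≠ 0) (y : Fin 2 → F) :
    mt Q (TOR.rho bp i lam hl) *ᵥ binj i y =
      binj i (y + ((lam - 1) * QuadraticMap.polar ⇑q y f) • e +
        ((lam⁻¹ - 1) * QuadraticMap.polar ⇑q y e) • f) := by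
  rw [TOR.mulVec bp i hl, bproj_binj, QB.binj_add, QB.binj_add, QB.binj_smul, QB.binj_smul]

theorem TOR.rho_e (bp : BP Q q e f) (i : Fin t) {lam : F} (hl : lam ≠ 0) :
    mt Q (TOR.rho bp i lam hl) *ᵥ binj i e = lam • binj i e := by
  rw [TOR.mulVec bp i hl, bproj_binj, bp.ef, PLANE.polar_ee bp, mul_one, mul_zero, zero_smul, add_zero]
  module

theorem TOR.rho_f (bp : BP Q q e f) (i : Fin t) {lam : F} (hl : lam ≠ 0) :
    mt Q (TOR.rho bp i lam hl) *ᵥ binj i f = lam⁻¹ • binj i f := by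
  rw [TOR.mulVec bp i hl, bproj_binj, PLANE.polar_ff bp, PLANE.polar_fe bp, mul_one, mul_zero, zero_smul,
    add_zero]
  module

/-- `ρ_i(lam)` fixes the vectors with zero component `i` -/
theorem TOR.fix (bp : BP Q q e f) (i : Fin t) {lam : F} (hl : lam ≠ 0) {x : Fin t × Fin 2 → F}
    (hx : bproj i x = 0) : mt Q (TOR.rho bp i lam hl) *ᵥ x = x := by
  rw [TOR.mulVec bp i hl, hx]
  simp

theorem TOR.stab (bp : BP Q q e f) (i : Fin t) {lam : F} (hl : lam ≠ 0) :
    StabD Q (TOR.rho bp i lam hl) :=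
  STAB.mul (STAB.reflO bp.toBM0 i _ _) (STAB.reflO bp.toBM0 i _ _)

/-- `ρ_i(lam) ∈ M` for `lam` a square -/
theorem TOR.mem [Fintype F] (bp : BP Q q e f) (ht : 3 ≤ t) {H : Subgroup (OG Q)} (hH : HasMO H)
    (i : Fin t) {lam : F} (hl : lam ≠ 0) (hsq : IsSquare lam) : TOR.rho bp i lam hl ∈ H := by
  unfold TOR.rho
  apply OMEGA.rot_mem bp.toBM0 ht hH
  have h : e - f = e - (1 : F) • f := by rw [one_smul]
  rw [h, PLANE.q_sub bp, PLANE.q_sub bp]
  have : (-(1 : F)) * (-lam) = lam := by ring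
  rw [this]
  exact hsq

/-- reflections in orthogonal vectors commute -/
theorem TOR.aux_comm {a b : Fin t × Fin 2 → F} (ha : Q a ≠ 0) (hb : Q b ≠ 0) (hab : B Q a b = 0) :
    reflO Q a ha * reflO Q b hb = reflO Q b hb * reflO Q a ha := by
  have h1 : mt Q (reflO Q a ha) *ᵥ b = b := by
    rw [RACT.mulVec, hab, mul_zero, zero_smul, sub_zero]
  have hb' : Q (mt Q (reflO Q a ha) *ᵥ b) ≠ 0 := by rw [h1]; exact hb
  have h2 := reflO_conj Q (reflO Q a ha) b hb hb'
  rw [reflO_congr' h1 hb' hb, reflO_inv] at h2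
  -- `r_b = r_a r_b r_a`
  calc reflO Q a ha * reflO Q b hb
      = reflO Q a ha * reflO Q b hb * (reflO Q a ha * reflO Q a ha) := by
        rw [reflO_mul_self, mul_one]
    _ = (reflO Q a ha * reflO Q b hb * reflO Q a ha) * reflO Q a ha := by group
    _ = reflO Q b hb * reflO Q a ha := by rw [← h2]

/-- `ρ_i(lam) ρ_j(lam') ∈ M` when `lam lam'` is a square (`i ≠ j`) -/
theorem TOR.mem2 [Fintype F] (bp : BP Q q e f) (ht : 3 ≤ t) {H : Subgroup (OG Q)} (hH : HasMO H)
    {i j : Fin t} (hij : i ≠ j) {lam lam' : F} (hl : lam ≠ 0) (hl' : lam' ≠ 0)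
    (hsq : IsSquare (lam * lam')) : TOR.rho bp i lam hl * TOR.rho bp j lam' hl' ∈ H := by
  unfold TOR.rho
  have hc := TOR.aux_comm (TOR.aux_Q2 bp i hl) (TOR.aux_Q1 bp j)
    (QB.B_binj_binj_ne bp.toBM0 hij (e - lam • f) (e - f))
  have e1 : reflO Q (binj i (e - f)) (TOR.aux_Q1 bp i) * reflO Q (binj i (e - lam • f)) (TOR.aux_Q2 bp i hl) *
      (reflO Q (binj j (e - f)) (TOR.aux_Q1 bp j) * reflO Q (binj j (e - lam' • f)) (TOR.aux_Q2 bp j hl')) =
      (reflO Q (binj i (e - f)) (TOR.aux_Q1 bp i) * reflO Q (binj j (e - f)) (TOR.aux_Q1 bp j)) *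
      (reflO Q (binj i (e - lam • f)) (TOR.aux_Q2 bp i hl) *
        reflO Q (binj j (e - lam' • f)) (TOR.aux_Q2 bp j hl')) := by
    rw [mul_assoc, ← mul_assoc (reflO Q (binj i (e - lam • f)) _), hc]
    group
  rw [e1]
  have h : e - f = e - (1 : F) • f := by rw [one_smul]
  apply H.mul_mem
  · apply OMEGA.pair_mem bp.toBM0 ht hH
    rw [h, PLANE.q_sub bp]
    exact ⟨1, by ring⟩
  · apply OMEGA.pair_mem bp.toBM0 ht hH
    rw [PLANE.q_sub bp, PLANE.q_sub bp]
    have : (-lam) * (-lam') = lam * lam' := by ring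
    rw [this]
    exact hsq

/-- the double swap `e ↔ f` in the blocks `i ≠ j` lies in `M`; `TOR.swap_e`, `TOR.swap_f` describe a single swap -/
theorem TOR.swap2_mem [Fintype F] (bp : BP Q q e f) (ht : 3 ≤ t) {H : Subgroup (OG Q)} (hH : HasMO H)
    (i j : Fin t) :
    reflO Q (binj i (e - f)) (TOR.aux_Q1 bp i) * reflO Q (binj j (e - f)) (TOR.aux_Q1 bp j) ∈ H := by
  apply OMEGA.pair_mem bp.toBM0 ht hH
  have h : e - f = e - (1 : F) • f := by rw [one_smul]
  rw [h, PLANE.q_sub bp]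
  exact ⟨1, by ring⟩

/-- the single swap on the component `i`: `a e + b f ↦ b e + a f` -/
theorem TOR.swap_bproj_same (bp : BP Q q e f) (i : Fin t) (x : Fin t × Fin 2 → F) :
    bproj i (mt Q (reflO Q (binj i (e - f)) (TOR.aux_Q1 bp i)) *ᵥ x) =
      QuadraticMap.polar ⇑q (bproj i x) e • e + QuadraticMap.polar ⇑q (bproj i x) f • f := by
  rw [RACT.bproj_same bp.toBM0]
  unfold r2
  have hq1 : q (e - f) = -1 := by
    have h : e - f = e - (1 : F) • f := by rw [one_smul]
    rw [h, PLANE.q_sub bp]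
  have pe : QuadraticMap.polar ⇑q (e - f) (bproj i x) =
      QuadraticMap.polar ⇑q (bproj i x) e - QuadraticMap.polar ⇑q (bproj i x) f := by
    rw [QuadraticMap.polar_sub_left, QuadraticMap.polar_comm ⇑q e, QuadraticMap.polar_comm ⇑q f]
  rw [hq1, pe]
  have hc : (-1 : F)⁻¹ = -1 := by norm_num
  rw [hc]
  generalize ha : QuadraticMap.polar ⇑q (bproj i x) f = a
  generalize hb : QuadraticMap.polar ⇑q (bproj i x) e = b
  have hxy : bproj i x = a • e + b • f := by
    rw [← ha, ← hb]; exact PLANE.coord bp (bproj i x)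
  rw [hxy]
  ext k
  simp only [Pi.add_apply, Pi.sub_apply, Pi.smul_apply, smul_eq_mul]
  ring

theorem TOR.swap_e (bp : BP Q q e f) (i : Fin t) :
    mt Q (reflO Q (binj i (e - f)) (TOR.aux_Q1 bp i)) *ᵥ binj i e = binj i f := by
  apply QB.ext
  intro j
  by_cases hj : j = i
  · subst hj
    rw [TOR.swap_bproj_same bp, bproj_binj, bproj_binj, PLANE.polar_ee bp, bp.ef, zero_smul, one_smul,
      zero_add]
  · rw [RACT.bproj_ne bp.toBM0 hj, bproj_binj_ne hj, bproj_binj_ne hj]

theorem TOR.swap_f (bp : BP Q q e f) (i : Fin t) :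
    mt Q (reflO Q (binj i (e - f)) (TOR.aux_Q1 bp i)) *ᵥ binj i f = binj i e := by
  apply QB.ext
  intro j
  by_cases hj : j = i
  · subst hj
    rw [TOR.swap_bproj_same bp, bproj_binj, bproj_binj, PLANE.polar_ff bp, PLANE.polar_fe bp, zero_smul,
      one_smul, add_zero]
  · rw [RACT.bproj_ne bp.toBM0 hj, bproj_binj_ne hj, bproj_binj_ne hj]

end Cfsg.Agent.K2P
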