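import Mathlib
import Cfsg.Agent.Helper18.K2P.Defs
import Cfsg.Agent.Helper18.K2P.Defs2
import Cfsg.Agent.Helper18.K2P.QB
import Cfsg.Agent.Helper18.K2P.RACT
import Cfsg.Agent.Helper18.K2P.STAB
import Cfsg.Agent.Helper18.K2P.OMEGA
import Cfsg.Agent.Helper8.K2PG

set_option autoImplicit false
set_option linter.unusedSectionVars false
set_option linter.unusedVariables false

/-! # S5692, chapter K2P, pieces G-ROT1, G-ROT2, G-DSW (helper8): the block rotations and the double swaps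
in the shape of helper18's stubs (`rotV`, `swpV`), corollaries of `Cfsg.Agent.Helper8.K2PG`. -/

namespace Cfsg.Agent.K2P

open Matrix Cfsg.Agent.OC2P Cfsg.Agent.Helper28.Sg Cfsg.Agent.Helper28.Spin
  Cfsg.Agent.Helper12.OrthGen Cfsg.Agent.K2M

variable {F : Type*} [Field F] [Fintype F] {t : ℕ} {Q : QuadraticForm F (Fin t × Fin 2 → F)}
  {q : QuadraticForm F (Fin 2 → F)} {e f : Fin 2 → F} {M : Subgroup (OG Q)}

/-- `rotV ν y - y` in the hyperbolic basis -/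
theorem ROT.aux_rotV_sub (bp : BP Q q e f) (ν : F) (y : Fin 2 → F) :
    rotV q e f ν y - y = ((ν - 1) * QuadraticMap.polar ⇑q y f) • e +
      ((ν⁻¹ - 1) * QuadraticMap.polar ⇑q y e) • f := by
  unfold rotV
  generalize ha : QuadraticMap.polar ⇑q y f = a
  generalize hb : QuadraticMap.polar ⇑q y e = b
  have hxy : y = a • e + b • f := by
    rw [← ha, ← hb]; exact PLANE.coord bp y
  rw [hxy]
  ext k
  simp only [Pi.add_apply, Pi.sub_apply, Pi.smul_apply, smul_eq_mul]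
  ring

/-- the action of `TOR.rho` in the `rotV` shape -/
theorem ROT.aux_rho (bp : BP Q q e f) (i : Fin t) {ν : F} (hν0 : ν ≠ 0) (x : Fin t × Fin 2 → F) :
    mt Q (TOR.rho bp i ν hν0) *ᵥ x = x + binj i (rotV q e f ν (bproj i x) - bproj i x) := by
  rw [TOR.mulVec bp i hν0, ROT.aux_rotV_sub bp, QB.binj_add, QB.binj_smul, QB.binj_smul, add_assoc]

/-- G-ROT1: the block rotation `ρ_i(ν)`, `ν` a nonzero square, is in `M`. -/
theorem ROT.one (bp : BP Q q e f) (ht : 3 ≤ t) (hM : HasMO M) (i : Fin t) {ν : F} (hν0 : ν ≠ 0)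
    (hν : IsSquare ν) :
    ∃ g ∈ M, ∀ x, mt Q g *ᵥ x = x + binj i (rotV q e f ν (bproj i x) - bproj i x) :=
  ⟨TOR.rho bp i ν hν0, TOR.mem bp ht hM i hν0 hν, ROT.aux_rho bp i hν0⟩

/-- G-ROT2: `ρ_i(ν) ρ_l(ν⁻¹) ∈ M` for every `ν ≠ 0`, `i ≠ l`. -/
theorem ROT.two (bp : BP Q q e f) (ht : 3 ≤ t) (hM : HasMO M) {i l : Fin t} (hil : i ≠ l) {ν : F}
    (hν0 : ν ≠ 0) :
    ∃ g ∈ M, ∀ x, mt Q g *ᵥ x = x + binj i (rotV q e f ν (bproj i x) - bproj i x)
      + binj l (rotV q e f ν⁻¹ (bproj l x) - bproj l x) := by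
  have hν0' : ν⁻¹ ≠ 0 := inv_ne_zero hν0
  refine ⟨TOR.rho bp i ν hν0 * TOR.rho bp l ν⁻¹ hν0', ?_, ?_⟩
  · apply TOR.mem2 bp ht hM hil hν0 hν0'
    rw [mul_inv_cancel₀ hν0]
    exact ⟨1, by ring⟩
  · intro x
    rw [mt_mul_mulVec, ROT.aux_rho bp l hν0', ROT.aux_rho bp i hν0, QB.bproj_add, bproj_binj_ne hil,
      add_zero]
    abel

/-- the action of a single swap in the `swpV` shape -/
theorem DSW.aux_swap (bp : BP Q q e f) (i : Fin t) (x : Fin t × Fin 2 → F) :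
    mt Q (reflO Q (binj i (e - f)) (TOR.aux_Q1 bp i)) *ᵥ x =
      x + binj i (swpV q e f (bproj i x) - bproj i x) := by
  apply QB.ext
  intro j
  by_cases hj : j = i
  · subst hj
    rw [TOR.swap_bproj_same bp, QB.bproj_add, bproj_binj]
    unfold swpV
    abel
  · rw [RACT.bproj_ne bp.toBM0 hj, QB.bproj_add, bproj_binj_ne hj, add_zero]

/-- G-DSW: the double swap `e_i ↔ f_i`, `e_l ↔ f_l` is in `M`. -/
theorem DSW.mem (bp : BP Q q e f) (ht : 3 ≤ t) (hM : HasMO M) {i l : Fin t} (hil : i ≠ l) :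
    ∃ g ∈ M, ∀ x, mt Q g *ᵥ x = x + binj i (swpV q e f (bproj i x) - bproj i x)
      + binj l (swpV q e f (bproj l x) - bproj l x) := by
  refine ⟨reflO Q (binj i (e - f)) (TOR.aux_Q1 bp i) * reflO Q (binj l (e - f)) (TOR.aux_Q1 bp l),
    TOR.swap2_mem bp ht hM i l, ?_⟩
  intro x
  rw [mt_mul_mulVec, DSW.aux_swap bp l, DSW.aux_swap bp i, QB.bproj_add, bproj_binj_ne hil, add_zero]
  abel

end Cfsg.Agent.K2P
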