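import Mathlib

/-! Definitions for the proof of S1904 (Thompson, N-groups: nonabelian 2-groups without `SCN_3` admitting
an odd-order automorphism group `A` with `[X, A] = X`).
Blueprint: `departures/helper8_S1904_blueprint.md`; board `s1904pieces`. -/

set_option autoImplicit false

namespace Cfsg.Agent.S1904P

variable {X : Type*} [Group X]

/-- `N` is mapped into itself by every element of `A`. -/
def Inv (A : Subgroup (MulAut X)) (N : Subgroup X) : Prop := ∀ φ ∈ A, ∀ n ∈ N, φ n ∈ N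

/-- `W = Ω₁(Z(X))`: the central elements of order at most two. -/
def WW (X : Type*) [Group X] : Subgroup X where
  carrier := {z | z ∈ Subgroup.center X ∧ z * z = 1}
  one_mem' := ⟨one_mem _, by simp⟩
  mul_mem' := by
    rintro a b ⟨ha, ha2⟩ ⟨hb, hb2⟩
    refine ⟨mul_mem ha hb, ?_⟩
    have hc : b * a = a * b := (Subgroup.mem_center_iff.1 ha) b
    calc a * b * (a * b) = a * (b * a) * b := by group
      _ = a * (a * b) * b := by rw [hc]
      _ = (a * a) * (b * b) := by group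
      _ = 1 := by rw [ha2, hb2, one_mul]
  inv_mem' := by
    rintro a ⟨ha, ha2⟩
    refine ⟨inv_mem ha, ?_⟩
    have : a⁻¹ = a := by
      have h := congrArg (fun t => a⁻¹ * t) ha2
      simp only [mul_one] at h
      rw [← h]; group
    rw [this, ha2]

theorem mem_WW {z : X} : z ∈ WW X ↔ z ∈ Subgroup.center X ∧ z * z = 1 := Iff.rfl

theorem WW_le_center : WW X ≤ Subgroup.center X := fun _ h => h.1

/-- `N`: the preimage of `Ω₁(Z(X/Z(X)))`. -/
def NN (X : Type*) [Group X] : Subgroup X where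
  carrier := {n | n * n ∈ Subgroup.center X ∧ ∀ x : X, n * x * n⁻¹ * x⁻¹ ∈ Subgroup.center X}
  one_mem' := ⟨by simp [one_mem], fun x => by simp [one_mem]⟩
  mul_mem' := by
    rintro a b ⟨ha2, ha⟩ ⟨hb2, hb⟩
    have hcomm : ∀ x : X, a * b * x * (a * b)⁻¹ * x⁻¹ ∈ Subgroup.center X := by
      intro x
      have h1 := hb x
      have h2 := ha x
      -- a b x b⁻¹ a⁻¹ x⁻¹ = a (b x b⁻¹ x⁻¹) a⁻¹ * (a x a⁻¹ x⁻¹) and the first factor is central
      have e : a * b * x * (a * b)⁻¹ * x⁻¹ = a * (b * x * b⁻¹ * x⁻¹) * a⁻¹ * (a * x * a⁻¹ * x⁻¹) := by group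
      rw [e]
      have hc : a * (b * x * b⁻¹ * x⁻¹) = (b * x * b⁻¹ * x⁻¹) * a := ((Subgroup.mem_center_iff.1 h1) a)
      rw [hc]
      have e2 : b * x * b⁻¹ * x⁻¹ * a * a⁻¹ * (a * x * a⁻¹ * x⁻¹) =
          (b * x * b⁻¹ * x⁻¹) * (a * x * a⁻¹ * x⁻¹) := by group
      rw [e2]
      exact mul_mem h1 h2
    refine ⟨?_, hcomm⟩
    -- (ab)² = a² · (a⁻¹ b a b⁻¹) · b², all factors central
    have h3 : b * a * b⁻¹ * a⁻¹ ∈ Subgroup.center X := hb a
    have e : a * b * (a * b) = (a * a) * (a⁻¹ * (b * a * b⁻¹ * a⁻¹) * a) * (b * b) := by group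
    rw [e]
    have hc : a⁻¹ * (b * a * b⁻¹ * a⁻¹) = (b * a * b⁻¹ * a⁻¹) * a⁻¹ :=
      (Subgroup.mem_center_iff.1 h3) a⁻¹
    rw [hc]
    have e2 : b * a * b⁻¹ * a⁻¹ * a⁻¹ * a = b * a * b⁻¹ * a⁻¹ := by group
    rw [e2]
    exact mul_mem (mul_mem ha2 h3) hb2
  inv_mem' := by
    rintro a ⟨ha2, ha⟩
    constructor
    · have : a⁻¹ * a⁻¹ = (a * a)⁻¹ := by group
      rw [this]; exact inv_mem ha2
    · intro x
      -- a⁻¹ x a x⁻¹ = (a (a⁻¹ x a) a⁻¹ (a⁻¹ x a)⁻¹)⁻¹ conjugated; use centrality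
      have h1 := ha (a⁻¹ * x * a)
      have e : a * (a⁻¹ * x * a) * a⁻¹ * (a⁻¹ * x * a)⁻¹ = x * a⁻¹ * x⁻¹ * a := by group
      rw [e] at h1
      -- x a⁻¹ x⁻¹ a central ⇒ its conjugate by x⁻¹... : a⁻¹ x a x⁻¹ = (x a⁻¹ x⁻¹ a)⁻¹ conj
      have h2 : (x * a⁻¹ * x⁻¹ * a)⁻¹ ∈ Subgroup.center X := inv_mem h1
      have e2 : a⁻¹ * x * a⁻¹⁻¹ * x⁻¹ = (x * a⁻¹ * x⁻¹ * a)⁻¹ := by group
      rw [e2]; exact h2

theorem mem_NN {n : X} : n ∈ NN X ↔
    n * n ∈ Subgroup.center X ∧ ∀ x : X, n * x * n⁻¹ * x⁻¹ ∈ Subgroup.center X := Iff.rfl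

/-- every automorphism maps `N` into itself -/
theorem NN_aut (φ : MulAut X) {n : X} (hn : n ∈ NN X) : φ n ∈ NN X := by
  have hcen : ∀ z : X, z ∈ Subgroup.center X → φ z ∈ Subgroup.center X := by
    intro z hz
    rw [Subgroup.mem_center_iff] at hz ⊢
    intro g
    have := hz (φ.symm g)
    have h2 := congrArg φ this
    simpa using h2
  obtain ⟨h1, h2⟩ := hn
  constructor
  · have := hcen _ h1
    simpa using this
  · intro x
    have := hcen _ (h2 (φ.symm x))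
    simpa using this

instance NN_normal : (NN X).Normal := by
  constructor
  intro n hn g
  have := NN_aut (MulAut.conj g) hn
  simpa [MulAut.conj_apply] using this

theorem center_le_NN : Subgroup.center X ≤ NN X := by
  intro z hz
  refine ⟨mul_mem hz hz, fun x => ?_⟩
  have : z * x * z⁻¹ * x⁻¹ = 1 := by
    have hc : x * z = z * x := (Subgroup.mem_center_iff.1 hz) x
    calc z * x * z⁻¹ * x⁻¹ = (z * x) * z⁻¹ * x⁻¹ := by group
      _ = (x * z) * z⁻¹ * x⁻¹ := by rw [hc]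
      _ = 1 := by group
  rw [this]; exact one_mem _

/-- the subgroup generated by the squares of the elements of `B` (for abelian `B`: the set of squares) -/
def Sq (B : Subgroup X) : Subgroup X := Subgroup.closure ((fun b : X => b * b) '' (B : Set X))

/-- `t B` is an element of order at most two of `Z(X/B)` -/
def InT (B : Subgroup X) (t : X) : Prop := t * t ∈ B ∧ ∀ x : X, t * x * t⁻¹ * x⁻¹ ∈ B

/-- The standing hypotheses (in elementwise form; `noE8` is the consequence of `SCN_3(X) = ∅`). -/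
structure Hyp (A : Subgroup (MulAut X)) : Prop where
  pX : IsPGroup 2 X
  oddA : Odd (Nat.card A)
  gen : Subgroup.closure {g : X | ∃ φ ∈ A, ∃ x : X, g = x⁻¹ * φ x} = ⊤
  noE8 : ∀ E : Subgroup X, E.Normal → (∀ a ∈ E, ∀ b ∈ E, a * b = b * a) → (∀ a ∈ E, a * a = 1) →
    Nat.card E ≤ 4
  na : ∃ a b : X, a * b ≠ b * a

/-- `B` is maximal among the `A`-invariant normal abelian subgroups and is not central. -/
structure MaxAb (A : Subgroup (MulAut X)) (B : Subgroup X) : Prop where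
  normal : B.Normal
  inv : Inv A B
  comm : ∀ a ∈ B, ∀ b ∈ B, a * b = b * a
  max : ∀ B' : Subgroup X, B'.Normal → Inv A B' → (∀ a ∈ B', ∀ b ∈ B', a * b = b * a) → B ≤ B' → B' = B
  nc : ¬ B ≤ Subgroup.center X

end Cfsg.Agent.S1904P
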