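import Mathlib
import Cfsg.Agent.Helper2.S2099.DefsA
import Cfsg.Agent.Helper2.S2099.DefsZ
import Cfsg.Agent.Helper2.S3352.WConj
import Cfsg.Agent.Helper16.S2096YMAP
import Cfsg.Agent.Helper7.S2094CLYY
import Cfsg.Agent.Helper18.S2099CLYXQ
import Cfsg.Agent.Lead.S2099YSMAP

set_option autoImplicit false
set_option linter.unusedSectionVars false
set_option linter.unusedVariables false

/-! S2099 chapter A, piece YSYY (driver helper2): the commutator of the canonical lifts of two short root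
elements. -/

namespace Cfsg.Agent.S2099P

open Matrix Cfsg.Agent.S3352P Cfsg.Agent.S3351P Cfsg.Agent.S2096P Cfsg.Agent.S2086P
open Cfsg.Agent.S2094P (LongOK isRoot_ng_right' isRoot_ng_left')
open scoped commutatorElement

section general

variable {n : ℕ} {F : Type*} [Field F] [Fintype F] {P : Type*} [AddCommGroup P] [Module F P]
  {G : Type*} [Group G] {E : Type*} [Group E] {Q0 : QuadraticForm F P}
  {X : J n → J n → F → G} {Ys : J n → P → G} {h₀ : G} {R D : P →ₗ[F] P}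

namespace YSYY

theorem ne_of_ab {x y : J n} (h : ab x ≠ ab y) : x ≠ y := fun e => h (by rw [e])

/-- the abstract computation in the central extension -/
theorem core {E : Type*} [Group E] {x z yk y ya t r e : E} (ζ : E)
    (hζ : ζ ∈ Subgroup.center E)
    (h1 : y * e * y⁻¹ = r * e) (h2 : e = ζ * (ya * t)) (h3 : Commute y t) :
    ⁅y, ya⁆ = r := by
  have c1 : ∀ g : E, g * ζ = ζ * g := fun g => Subgroup.mem_center_iff.mp hζ g
  rw [h2] at h1
  have e1 : y * (ζ * (ya * t)) * y⁻¹ = ζ * ((y * ya * y⁻¹) * t) := by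
    calc y * (ζ * (ya * t)) * y⁻¹ = (y * ζ) * ya * t * y⁻¹ := by group
      _ = (ζ * y) * ya * t * y⁻¹ := by rw [c1 y]
      _ = ζ * (y * ya * (t * y⁻¹)) := by group
      _ = ζ * (y * ya * (y⁻¹ * t)) := by rw [(h3.inv_left).eq]
      _ = ζ * ((y * ya * y⁻¹) * t) := by group
  have e2 : r * (ζ * (ya * t)) = ζ * ((r * ya) * t) := by
    calc r * (ζ * (ya * t)) = (r * ζ) * (ya * t) := by group
      _ = (ζ * r) * (ya * t) := by rw [c1 r]
      _ = ζ * ((r * ya) * t) := by group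
  rw [e1, e2] at h1
  have h4 : y * ya * y⁻¹ = r * ya := mul_right_cancel (mul_left_cancel h1)
  rw [commutatorElement_def, h4, mul_inv_cancel_right]

end YSYY

open YSYY

/-- YSYY -/
theorem YS_yy (hn : 3 ≤ n) (hB : QRel Q0 X Ys) (hR : Rot Q0 X Ys h₀ R D) (ψ : E →* G)
    (hψ : Function.Surjective ψ) (hc : ψ.ker ≤ Subgroup.center E) (hL : LongOK X ψ hψ hn)
    {a b : J n} (hab : IsRoot a b) (w v : P) :
    cm (YS Ys ψ hψ h₀ D a w) (YS Ys ψ hψ h₀ D b v) =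
      Y X ψ hψ hn a (ng b) (-(QuadraticMap.polar Q0 w v)) := by
  obtain ⟨k, hk⟩ : ∃ k : J n, k = th hn a b := ⟨_, rfl⟩
  have hka : ab k ≠ ab a := by rw [hk]; exact ab_th_ne_left hn a b
  have hkb : ab k ≠ ab b := by rw [hk]; exact ab_th_ne_right hn a b
  have hab' : ab a ≠ ab b := isRoot_iff_ab.1 hab
  -- the roots
  have r_ak : IsRoot a k := isRoot_iff_ab.2 hka.symm
  have r_bk : IsRoot b k := isRoot_iff_ab.2 hkb.symm
  have r_kngb : IsRoot k (ng b) := isRoot_iff_ab.2 (by rw [ab_ng]; exact hkb)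
  have r_angb : IsRoot a (ng b) := isRoot_iff_ab.2 (by rw [ab_ng]; exact hab')
  have r_angk : IsRoot a (ng k) := isRoot_iff_ab.2 (by rw [ab_ng]; exact hka.symm)
  have r_knga : IsRoot k (ng a) := isRoot_iff_ab.2 (by rw [ab_ng]; exact hka)
  -- the elements
  obtain ⟨p, hp⟩ : ∃ p : F, p = QuadraticMap.polar Q0 v w := ⟨_, rfl⟩
  obtain ⟨x, hx⟩ : ∃ x : E, x = Y X ψ hψ hn a k 1 := ⟨_, rfl⟩
  obtain ⟨z, hz⟩ : ∃ z : E, z = Y X ψ hψ hn k (ng b) p := ⟨_, rfl⟩
  obtain ⟨yk, hyk⟩ : ∃ yk : E, yk = YS Ys ψ hψ h₀ D k w := ⟨_, rfl⟩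
  obtain ⟨y, hy⟩ : ∃ y : E, y = YS Ys ψ hψ h₀ D b v := ⟨_, rfl⟩
  obtain ⟨ya, hya⟩ : ∃ ya : E, ya = YS Ys ψ hψ h₀ D a w := ⟨_, rfl⟩
  obtain ⟨t, ht⟩ : ∃ t : E, t = Y X ψ hψ hn a (ng k) (Q0 w) := ⟨_, rfl⟩
  obtain ⟨r, hr⟩ : ∃ r : E, r = Y X ψ hψ hn a (ng b) p := ⟨_, rfl⟩
  obtain ⟨e, he⟩ : ∃ e : E, e = cl ψ hψ (X a k 1) (Ys k w) := ⟨_, rfl⟩
  have mx : ψ x = X a k 1 := by rw [hx]; exact map_Y hB.dX ψ hψ hn r_ak 1
  have mz : ψ z = X k (ng b) p := by rw [hz]; exact map_Y hB.dX ψ hψ hn r_kngb p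
  have myk : ψ yk = Ys k w := by rw [hyk]; exact map_YS hB hR ψ hψ k w
  have my : ψ y = Ys b v := by rw [hy]; exact map_YS hB hR ψ hψ b v
  have mya : ψ ya = Ys a w := by rw [hya]; exact map_YS hB hR ψ hψ a w
  have mt : ψ t = X a (ng k) (Q0 w) := by rw [ht]; exact map_Y hB.dX ψ hψ hn r_angk (Q0 w)
  have me : ψ e = Ys a w * X a (ng k) (Q0 w) := by
    rw [he, map_cl ψ hψ, commutatorElement_def, ← cm_def, hB.xy a k r_ak 1 w, one_smul, one_mul]
  -- Step A: conjugation by `y`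
  have hA : y * e * y⁻¹ = cl ψ hψ (X a k 1) (X k (ng b) p * Ys k w) := by
    rw [he, S2094P.conj_cl ψ hψ hc, my]
    congr 1
    · rw [hB.ycomm b a k r_ak (ne_of_ab hkb) hab.2, mul_inv_cancel_right]
    · have h1 := hB.yy b k r_bk v w
      have h2 := hB.dX.flip k (ng b) r_kngb (-p)
      rw [ng_ng, neg_neg] at h2
      rw [← hp, h2, cm_def] at h1
      rw [← h1]
      group
  -- Step B
  have c_z_ya : CL ψ (X k (ng b) p) (Ys a w) :=
    (cl_Ys_X hn hB hR ψ hψ hc r_kngb (fun h => hab.2 h.symm) (ne_of_ab (by rw [ab_ng]; exact hka))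
      w p).symm
  have c_z_t : CL ψ (X k (ng b) p) (X a (ng k) (Q0 w)) := by
    have hf := hB.dX.flip k (ng a) r_knga (Q0 w)
    rw [ng_ng] at hf
    rw [hf]
    refine hL.c2 k (ng b) k (ng a) r_kngb r_knga ?_ ?_ ?_ ?_ ?_ ?_ p (-(Q0 w))
    · exact ne_of_ab (by rw [ab_ng]; exact hkb.symm)
    · exact ne_of_ab (by rw [ab_ng]; exact hka)
    · exact (ng_ne k).symm
    · rw [ng_ng]; exact ne_of_ab hka
    · intro h
      have h' := congrArg ab h
      rw [ab_ng, ab_ng] at h'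
      exact hkb h'.symm
    · rw [ng_ng]; exact fun h => hab.2 h.symm
  have hB1 : cl ψ hψ (X a k 1) (X k (ng b) p * Ys k w) = r * e := by
    rw [← cl_eq ψ hψ hc mx (show ψ (z * yk) = X k (ng b) p * Ys k w by rw [map_mul, mz, myk])]
    have e1 : ⁅x, z * yk⁆ = ⁅x, z⁆ * (z * ⁅x, yk⁆ * z⁻¹) := by
      simp only [commutatorElement_def]; group
    have e2 : ⁅x, z⁆ = r := by
      have := hL.rel.mul a k (ng b) r_ak r_kngb r_angb 1 p
      rw [cm_def, one_mul] at this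
      rw [commutatorElement_def, hx, hz, hr]
      exact this
    have e3 : Commute z e := Cfsg.Agent.S2094P.CLYY.commute_of_mul hψ hc mz c_z_ya c_z_t me
    rw [e1, cl_eq ψ hψ hc mx myk, ← he, e2, e3.eq, mul_inv_cancel_right]
  -- Step C
  have c_y_t : Commute y t :=
    cl_Ys_X hn hB hR ψ hψ hc r_angk (ne_of_ab (by rw [ab_ng]; exact hkb)) hab.2 v (Q0 w) y t my mt
  have hζ : e * (ya * t)⁻¹ ∈ Subgroup.center E :=
    hc (by rw [MonoidHom.mem_ker, map_mul, map_inv, map_mul, me, mya, mt, mul_inv_cancel])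
  have hcore : ⁅y, ya⁆ = r :=
    core (x := x) (z := z) (yk := yk) (e * (ya * t)⁻¹) hζ (hA.trans hB1) (by group) c_y_t
  -- conclusion
  rw [← hya, ← hy, cm_def, ← commutatorElement_def]
  have hinv : ⁅ya, y⁆ = (⁅y, ya⁆)⁻¹ := by
    simp only [commutatorElement_def]; group
  rw [hinv, hcore, hr, WCONJ.X_inv hL.rel r_angb, hp, QuadraticMap.polar_comm]

end general

end Cfsg.Agent.S2099P
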