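import Mathlib
import Cfsg.Agent.Helper14.S2481.Defs

set_option autoImplicit false
set_option linter.unusedVariables false

/-! S2481 piece FIELDH90 (driver helper14; helper8): elementary facts on a field with an involution. -/

namespace Cfsg.Agent.S2481P

open Polynomial DirectSum Matrix Cfsg.Agent.S2478P Cfsg.Agent.S2479P

section field

variable {F : Type*} [Field F] [Finite F] {σ : F →+* F}

theorem exists_not_fixed (hσ : IsInvol σ) : ∃ θ : F, σ θ ≠ θ := by
  by_contra h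
  rw [not_exists] at h
  apply hσ.ne
  ext x
  have := h x
  rw [not_not] at this
  exact this

namespace FIELDH90

/-- an element `δ ≠ 0` with `σ δ = -δ` -/
theorem exists_skew (hσ : IsInvol σ) : ∃ δ : F, δ ≠ 0 ∧ σ δ = -δ := by
  obtain ⟨θ, hθ⟩ := exists_not_fixed hσ
  refine ⟨θ - σ θ, sub_ne_zero.2 (Ne.symm hθ), ?_⟩
  rw [map_sub, hσ.sq]
  ring

end FIELDH90

theorem exists_trace_one (hσ : IsInvol σ) : ∃ l : F, l + σ l = 1 := by
  obtain ⟨θ, hθ⟩ := exists_not_fixed hσ
  have hδ : θ - σ θ ≠ 0 := sub_ne_zero.2 (Ne.symm hθ)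
  have hσδ : σ (θ - σ θ) = -(θ - σ θ) := by
    rw [map_sub, hσ.sq]
    ring
  refine ⟨θ * (θ - σ θ)⁻¹, ?_⟩
  rw [map_mul, map_inv₀, hσδ, inv_neg]
  field_simp
  ring

theorem hilbert90 (hσ : IsInvol σ) {z : F} (hz : z * σ z = 1) : ∃ c : F, c ≠ 0 ∧ z * σ c = c := by
  by_cases h1 : z = -1
  · obtain ⟨δ, hδ0, hδ⟩ := FIELDH90.exists_skew hσ
    refine ⟨δ, hδ0, ?_⟩
    rw [h1, hδ]
    ring
  · refine ⟨1 + z, ?_, ?_⟩
    · intro h
      apply h1
      linear_combination h
    · rw [map_add, map_one]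
      linear_combination hz

end field

end Cfsg.Agent.S2481P
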