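import Mathlib
import Cfsg.Prelude.Def_Classical
import Cfsg.Agent.Helper8.MatBNDefs

set_option autoImplicit false

/-!
# S2546 (Steinberg character of `PSU_n(q)`), driver helper8: shared definitions

`K` a field with an involutive ring endomorphism `σ`; `hJ σ n u v = ∑ i, u i * σ (v (rev i))` is the
Hermitian form with antidiagonal Gram matrix on `K^n`; `SUJ σ n ≤ SL_n(K)` its special isometry group;
`rho` its matrix representation.  Index conventions: `m = n / 2` hyperbolic pairs `(i, rev i)`, `i < m`;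
for `n` odd the middle index is `m`.  Simple reflections `j < m`: for `j + 1 < m` of linear type
(positions `(j, j+1)` and `(n-2-j, n-1-j)`), the last one `j = m - 1` of type `SU_2` (`n` even,
position `(m-1, m)`) or `SU_3` (`n` odd, positions `(m-1, m), (m-1, m+1), (m, m+1)`).
-/

namespace Cfsg.Agent.S2546P

open Cfsg.Agent.MatBN

variable {K : Type*} [Field K]

/-- the Hermitian form with antidiagonal Gram matrix -/
def hJ (σ : K →+* K) (n : ℕ) (u v : Fin n → K) : K := ∑ i, u i * σ (v i.rev)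

/-- the special unitary group of `hJ` -/
def SUJ (σ : K →+* K) (n : ℕ) : Subgroup (Matrix.SpecialLinearGroup (Fin n) K) :=
  Cfsg.preserving (Cfsg.slToMat n K) (hJ σ n)

/-- the matrix of an element -/
def rho (σ : K →+* K) (n : ℕ) : SUJ σ n →* Matrix (Fin n) (Fin n) K :=
  (Cfsg.slToMat n K).comp (SUJ σ n).subtype

/-- the entrywise form of the isometry condition: the columns of `M` have the Gram matrix of the basis -/
def PresJ (σ : K →+* K) (n : ℕ) (M : Matrix (Fin n) (Fin n) K) : Prop :=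
  ∀ a c : Fin n, ∑ i, M i a * σ (M i.rev c) = if c = a.rev then 1 else 0

/-- the matrix unit at the natural-number position `(i, j)` (zero if out of range) -/
def E (n : ℕ) (i j : ℕ) : Matrix (Fin n) (Fin n) K :=
  Matrix.of fun a c => if a.val = i ∧ c.val = j then 1 else 0

/-- root element of linear type for the node `j` (`j + 1 < n / 2`) -/
def xL (σ : K →+* K) (n : ℕ) (j : ℕ) (t : K) : Matrix (Fin n) (Fin n) K :=
  1 + t • E n j (j + 1) - σ t • E n (n - 2 - j) (n - 1 - j)

/-- root element of the last node, `n` even: a transvection; requires `t + σ t = 0` -/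
def xE (n : ℕ) (t : K) : Matrix (Fin n) (Fin n) K :=
  1 + t • E n (n / 2 - 1) (n / 2)

/-- root element of the last node, `n` odd; requires `b + σ b + a * σ a = 0` -/
def xO (σ : K →+* K) (n : ℕ) (a b : K) : Matrix (Fin n) (Fin n) K :=
  1 + a • E n (n / 2 - 1) (n / 2) + b • E n (n / 2 - 1) (n / 2 + 1) - σ a • E n (n / 2) (n / 2 + 1)

/-- the permutation of the simple reflection `j` -/
def tau (n : ℕ) (j : ℕ) : Equiv.Perm (Fin n) :=
  if h : j + 1 < n / 2 then
    Equiv.swap ⟨j, by omega⟩ ⟨j + 1, by omega⟩ * Equiv.swap ⟨n - 2 - j, by omega⟩ ⟨n - 1 - j, by omega⟩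
  else if h' : j + 1 = n / 2 then
    Equiv.swap ⟨j, by omega⟩ ⟨n - 1 - j, by omega⟩
  else 1

/-- the permutation matrix of `π` (entry `1` at `(π c, c)`) -/
def pMat (n : ℕ) (π : Equiv.Perm (Fin n)) : Matrix (Fin n) (Fin n) K :=
  Matrix.of fun a c => if a = π c then 1 else 0

/-- lift of the last reflection, `n` even: `e_{m-1} ↦ -ζ⁻¹ e_m`, `e_m ↦ ζ e_{m-1}`; requires `σ ζ = -ζ`, `ζ ≠ 0` -/
def sE (n : ℕ) (ζ : K) : Matrix (Fin n) (Fin n) K :=
  1 - E n (n / 2 - 1) (n / 2 - 1) - E n (n / 2) (n / 2) + ζ • E n (n / 2 - 1) (n / 2)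
    - ζ⁻¹ • E n (n / 2) (n / 2 - 1)

/-- lift of the last reflection, `n` odd: `e_{m-1} ↔ e_{m+1}`, `e_m ↦ -e_m` -/
def sO (n : ℕ) : Matrix (Fin n) (Fin n) K :=
  1 - E n (n / 2 - 1) (n / 2 - 1) - E n (n / 2 + 1) (n / 2 + 1) - (2 : K) • E n (n / 2) (n / 2)
    + E n (n / 2 - 1) (n / 2 + 1) + E n (n / 2 + 1) (n / 2 - 1)

/-- the matrix of the lift of the simple reflection `j` -/
def sMat (n : ℕ) (ζ : K) (j : ℕ) : Matrix (Fin n) (Fin n) K :=
  if j + 1 < n / 2 then pMat n (tau n j) else if n % 2 = 0 then sE n ζ else sO n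

/-- the simple root set of the node `j`, as a set of matrices -/
def XMat (σ : K →+* K) (n : ℕ) (j : ℕ) : Set (Matrix (Fin n) (Fin n) K) :=
  if j + 1 < n / 2 then {M | ∃ t : K, M = xL σ n j t}
  else if n % 2 = 0 then {M | ∃ t : K, t + σ t = 0 ∧ M = xE n t}
  else {M | ∃ a b : K, b + σ b + a * σ a = 0 ∧ M = xO σ n a b}

/-- the simple root set of the node `j` in the group -/
def Xset (σ : K →+* K) (n : ℕ) (j : ℕ) : Set (SUJ σ n) := {g | rho σ n g ∈ XMat σ n j}

end Cfsg.Agent.S2546P
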