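import Mathlib
import Cfsg.Agent.Helper12.S2999Basic
import Cfsg.Agent.Helper20.S2999OPP

set_option autoImplicit false

/-! Board `s2999pieces`, piece PACK: packing / covering count for pairwise opposite representatives. -/

namespace Cfsg.Agent.S2999P

open Cfsg.Agent.S2789P

variable {G : Type*} [Group G] [Finite G] {p : ℕ} [Fact p.Prime] {V P Mg Tg R A : Subgroup G}

/-- aux: a finite family of subgroups `S i ≤ Y` of order `m`, containing `D` and pairwise meeting in `D`:
`|D| + |I| (m - |D|) ≤ |Y|`, and in case of equality `D` and the `S i` cover `Y`. -/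
theorem PACK_aux_count {I : Type*} [Fintype I] (Y D : Subgroup G) (S : I → Subgroup G)
    (hSY : ∀ i, S i ≤ Y) (hDY : D ≤ Y) (hDS : ∀ i, D ≤ S i) (hint : ∀ i j, i ≠ j → S i ⊓ S j ≤ D) (m : ℕ)
    (hcard : ∀ i, Nat.card ↥(S i) = m) :
    Nat.card ↥D + Fintype.card I * (m - Nat.card ↥D) ≤ Nat.card ↥Y ∧
    (Nat.card ↥D + Fintype.card I * (m - Nat.card ↥D) = Nat.card ↥Y →
      ∀ y ∈ Y, y ∈ D ∨ ∃ i, y ∈ S i) := by
  classical
  have : Fintype G := Fintype.ofFinite G
  let FS : I → Finset G := fun i => Finset.univ.filter (fun x => x ∈ S i)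
  let FD : Finset G := Finset.univ.filter (fun x => x ∈ D)
  let FV : Finset G := Finset.univ.filter (fun x => x ∈ Y)
  have hFS : ∀ i, (FS i).card = m := by
    intro i
    rw [← hcard i, Nat.card_eq_fintype_card, Fintype.card_subtype]
  have hFD : FD.card = Nat.card ↥D := by
    rw [Nat.card_eq_fintype_card, Fintype.card_subtype]
  have hFV : FV.card = Nat.card ↥Y := by
    rw [Nat.card_eq_fintype_card, Fintype.card_subtype]
  have hDsub : ∀ i, FD ⊆ FS i := by
    intro i x hx
    simp only [FD, FS, Finset.mem_filter, Finset.mem_univ, true_and] at hx ⊢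
    exact hDS i hx
  let F : I → Finset G := fun i => FS i \ FD
  have hFcard : ∀ i, (F i).card = m - Nat.card ↥D := by
    intro i
    rw [Finset.card_sdiff_of_subset (hDsub i), hFS, hFD]
  have hdisj : ∀ i ∈ (Finset.univ : Finset I), ∀ j ∈ (Finset.univ : Finset I), i ≠ j →
      Disjoint (F i) (F j) := by
    intro i _ j _ hij
    rw [Finset.disjoint_left]
    intro x hxi hxj
    simp only [F, FS, FD, Finset.mem_sdiff, Finset.mem_filter, Finset.mem_univ, true_and] at hxi hxj
    exact hxi.2 (hint i j hij (Subgroup.mem_inf.mpr ⟨hxi.1, hxj.1⟩))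
  let U : Finset G := Finset.univ.biUnion F
  have hUcard : U.card = Fintype.card I * (m - Nat.card ↥D) := by
    rw [Finset.card_biUnion hdisj]
    simp only [hFcard, Finset.sum_const, Finset.card_univ, smul_eq_mul]
  have hUD : Disjoint FD U := by
    rw [Finset.disjoint_left]
    intro x hxD hxU
    obtain ⟨i, _, hxi⟩ := Finset.mem_biUnion.mp hxU
    simp only [F, Finset.mem_sdiff] at hxi
    exact hxi.2 hxD
  have hTcard : (FD ∪ U).card = Nat.card ↥D + Fintype.card I * (m - Nat.card ↥D) := by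
    rw [Finset.card_union_of_disjoint hUD, hFD, hUcard]
  have hTsub : FD ∪ U ⊆ FV := by
    intro x hx
    rcases Finset.mem_union.mp hx with hx | hx
    · simp only [FD, FV, Finset.mem_filter, Finset.mem_univ, true_and] at hx ⊢
      exact hDY hx
    · obtain ⟨i, _, hxi⟩ := Finset.mem_biUnion.mp hx
      simp only [F, FS, FV, Finset.mem_sdiff, Finset.mem_filter, Finset.mem_univ, true_and] at hxi ⊢
      exact hSY i hxi.1
  refine ⟨?_, ?_⟩
  · rw [← hTcard, ← hFV]
    exact Finset.card_le_card hTsub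
  · intro hEqc
    have hEq : FD ∪ U = FV := by
      apply Finset.eq_of_subset_of_card_le hTsub
      rw [hTcard, hFV, hEqc]
    intro v hv
    have hvF : v ∈ FV := by simp only [FV, Finset.mem_filter, Finset.mem_univ, true_and]; exact hv
    rw [← hEq] at hvF
    rcases Finset.mem_union.mp hvF with h | h
    · simp only [FD, Finset.mem_filter, Finset.mem_univ, true_and] at h
      exact Or.inl h
    · obtain ⟨i, _, hxi⟩ := Finset.mem_biUnion.mp h
      simp only [F, FS, Finset.mem_sdiff, Finset.mem_filter, Finset.mem_univ, true_and] at hxi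
      exact Or.inr ⟨i, hxi.1⟩

/-- PACK (L): packing. For pairwise "opposite" `g ∈ Rp ⊆ P` the subgroups `Y ∩ U(gAg⁻¹)` have order `|Y ∩ U(A)|` and pairwise
meet in `V₀`; so `|V₀| + |Rp|·(|Y ∩ U(A)| − |V₀|) ≤ |Y|`, and in case of equality they cover `Y` (together with `V₀`, for the
case `Rp = ∅`). Uses OPP only. -/
theorem PACK (S : Setup p V P Mg Tg R A) (Y : Subgroup G) (hYP : P ≤ Subgroup.normalizer (Y : Set G))
    (hY0 : fixV V P ≤ Y) (Rp : Set G) (hRp : Rp ⊆ (P : Set G))
    (hopp : ∀ g ∈ Rp, ∀ h ∈ Rp, g ≠ h → g⁻¹ * h ∉ Mg) :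
    Nat.card ↥(fixV V P) + Rp.ncard * (Nat.card ↥(Y ⊓ fixV V A : Subgroup G) - Nat.card ↥(fixV V P)) ≤ Nat.card ↥Y ∧
    (Nat.card ↥(fixV V P) + Rp.ncard * (Nat.card ↥(Y ⊓ fixV V A : Subgroup G) - Nat.card ↥(fixV V P)) = Nat.card ↥Y →
      ∀ y ∈ Y, y ∈ fixV V P ∨ ∃ g ∈ Rp, y ∈ fixV V (cjs g A)) := by
  classical
  have hfin : Rp.Finite := Set.toFinite Rp
  let _inst : Fintype ↥Rp := hfin.fintype
  have hcardI : Fintype.card ↥Rp = Rp.ncard := by
    rw [← Nat.card_eq_fintype_card, Nat.card_coe_set_eq]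
  have hAP : A ≤ P := S.hAT.trans (S.hTM.trans S.hMP)
  obtain ⟨h1, h2⟩ := PACK_aux_count (I := ↥Rp) Y (fixV V P)
    (fun g => Y ⊓ fixV V (cjs (g : G) A))
    (fun g => inf_le_left) hY0
    (fun g => le_inf hY0 (fix_anti (cj_le_of_mem (hRp g.2) hAP)))
    (fun g h hgh => by
      have hne : (g : G) ≠ (h : G) := fun e => hgh (Subtype.ext e)
      have := (OPP S (hRp g.2) (hRp h.2) (hopp g g.2 h h.2 hne)).2
      rw [← this]
      exact inf_le_inf inf_le_right inf_le_right)
    (Nat.card ↥(Y ⊓ fixV V A : Subgroup G))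
    (fun g => by
      have hg : (g : G) ∈ P := hRp g.2
      have e1 : cjs (g : G) Y = Y := cj_norm (hYP hg)
      have e2 : fixV V (cjs (g : G) A) = cjs (g : G) (fixV V A) := cj_fix A (S.hPV hg)
      have e3 : Y ⊓ fixV V (cjs (g : G) A) = cjs (g : G) (Y ⊓ fixV V A) := by
        rw [cj_inf, e1, e2]
      rw [e3, cj_card])
  rw [hcardI] at h1 h2
  refine ⟨h1, fun heq y hy => ?_⟩
  rcases h2 heq y hy with h | ⟨g, hg⟩
  · exact Or.inl h
  · exact Or.inr ⟨g, g.2, hg.2⟩

end Cfsg.Agent.S2999P
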