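import Mathlib
import Cfsg.Agent.Helper28.S3000Defs

/-! Board `s3000pieces`, row TKD1: `Tool.fixH`, `Tool.cover`, `Tool.VE` (from the fields of `Tool` only). -/

set_option autoImplicit false
set_option linter.unusedSectionVars false
set_option linter.unusedVariables false

namespace Cfsg.Agent.S3000P

open Cfsg.Agent.S2789P Cfsg.Agent.S2999P Cfsg.Agent.S3000P
open scoped commutatorElement

variable {G : Type*} [Group G] [Finite G] {p : ℕ} [Fact p.Prime] {V P : Subgroup G} {T : Sylow p ↥P}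
  {M : Subgroup ↥P} {q : ℕ}

section TKD
variable {A E H : Subgroup G} {w : G}

/-- TKD1 (S) -/
theorem Tool.fixH (Hy : Hyp p V P T M) (K : Tool p V P q A E H w) : fixV V H = fixV V E := by
  apply le_antisymm
  · obtain ⟨h₁, hh₁, -, -, hne, -, -⟩ := K.hsum
    intro v hv
    rw [mem_fix] at hv
    have h1 : h₁ * v * h₁⁻¹ = v := by
      rw [hv.2 h₁ hh₁, mul_inv_cancel_right]
    exact K.hfixH h₁ hh₁ hne v hv.1 h1
  · exact fix_anti K.hHE

/-- `C_V(A)` is strictly bigger than `C_V(E)`. -/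
theorem TKD1_aux_exists (Hy : Hyp p V P T M) (K : Tool p V P q A E H w) :
    ∃ u ∈ fixV V A, u ∉ fixV V E := by
  by_contra hcon
  have hle : fixV V A ≤ fixV V E := by
    intro u hu
    by_contra h
    exact hcon ⟨u, hu, h⟩
  have heq : fixV V A = fixV V E := le_antisymm hle (fix_anti K.hAE)
  have h1 := F3_card Hy K.hA.le K.hA.so
  rw [K.hA.card, heq, K.hcardC] at h1
  -- q * c = q^2 * c
  have hc : 0 < Nat.card ↥(fixV V E) := Nat.card_pos
  have hq0 : 0 < q := by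
    rw [← K.hA.card]; exact Nat.card_pos
  have hq1 : q ≠ 1 := by
    intro h
    apply K.hA.so.ne
    rw [← K.hA.card] at h
    exact Subgroup.card_eq_one.mp h
  have h2 : q * Nat.card ↥(fixV V E) = (q * q) * Nat.card ↥(fixV V E) := by
    rw [h1]; ring
  have h3 : q = q * q := Nat.eq_of_mul_eq_mul_right hc h2
  have h4 : q * 1 = q * q := by rw [mul_one]; exact h3
  exact hq1 (Nat.eq_of_mul_eq_mul_left hq0 h4).symm

/-- TKD2 (M): the `q+1` subspaces `C_V(ᵉA)` cover `V`. -/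
theorem Tool.cover (Hy : Hyp p V P T M) (K : Tool p V P q A E H w) :
    ∀ v ∈ V, ∃ e ∈ E, v ∈ fixV V (cjs e A) := by
  intro v hv
  by_cases hvC : v ∈ fixV V E
  · refine ⟨1, E.one_mem, ?_⟩
    rw [cj_one]
    exact fix_anti K.hAE hvC
  · obtain ⟨u, hu, huC⟩ := TKD1_aux_exists Hy K
    obtain ⟨e, he, hc⟩ := K.htrans u (fix_le V A hu) huC v hv hvC
    refine ⟨e, he, ?_⟩
    have heN : e ∈ Subgroup.normalizer (V : Set G) := Hy.hPV (K.hEP he)
    have h1 : e * u * e⁻¹ ∈ fixV V (cjs e A) := by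
      rw [cj_fix A heN]
      exact cj_mem_conj.mpr hu
    have h2 : fixV V E ≤ fixV V (cjs e A) := fix_anti (cj_le_of_mem he K.hAE)
    have h3 : v = (e * u * e⁻¹ * v⁻¹)⁻¹ * (e * u * e⁻¹) := by group
    rw [h3]
    exact Subgroup.mul_mem _ (Subgroup.inv_mem _ (h2 hc)) h1

/-- core of TKD4: `V = [V,E] C_V(E)` from the coprime decomposition `V = [V,H] C_V(H)`. -/
theorem TKD1_aux_VE_core (Hy : Hyp p V P T M) (K : Tool p V P q A E H w)
    (h1 : ⁅V, H⁆ ⊔ fixV V H = V) : ⁅V, E⁆ ⊔ fixV V E = V := by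
  apply le_antisymm
  · refine sup_le ?_ (fix_le V E)
    rw [Subgroup.commutator_le]
    intro v hv e he
    have heN : e ∈ Subgroup.normalizer (V : Set G) := Hy.hPV (K.hEP he)
    have h2 : e * v⁻¹ * e⁻¹ ∈ V :=
      (Subgroup.mem_normalizer_iff.mp heN v⁻¹).mp (V.inv_mem hv)
    rw [commutatorElement_def]
    have : v * e * v⁻¹ * e⁻¹ = v * (e * v⁻¹ * e⁻¹) := by group
    rw [this]
    exact V.mul_mem hv h2
  · rw [Tool.fixH Hy K] at h1
    calc V = ⁅V, H⁆ ⊔ fixV V E := h1.symm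
      _ ≤ ⁅V, E⁆ ⊔ fixV V E := sup_le_sup_right (Subgroup.commutator_mono le_rfl K.hHE) _

/-- the hypotheses of COPR for `X = V` and the torus `H`. -/
theorem TKD1_aux_VE_hyps (Hy : Hyp p V P T M) (K : Tool p V P q A E H w) :
    (∀ x ∈ V, ∀ y ∈ V, x * y = y * x) ∧ (∀ h ∈ H, cjs h V = V) ∧
      (Nat.card ↥H).Coprime (Nat.card ↥V) := by
  refine ⟨?_, ?_, ?_⟩
  · intro x hx y hy
    have := Hy.hV.1.is_comm.comm ⟨x, hx⟩ ⟨y, hy⟩
    exact congrArg Subtype.val this
  · intro h hh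
    have hN : h ∈ Subgroup.normalizer (V : Set G) := Hy.hPV (K.hEP (K.hHE hh))
    exact cj_norm hN
  · have hVp : IsPGroup p ↥V := F2_aux_isPGroup Hy.hV
    obtain ⟨n, hn⟩ := hVp.exists_card_eq
    rw [hn]
    exact Nat.Coprime.pow_right n K.hHp

end TKD

end Cfsg.Agent.S3000P
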