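import Mathlib
import Cfsg.Agent.Helper25.S2981BDefs
import Cfsg.Agent.Helper28.S3000Defs
import Cfsg.Agent.Helper12.S2999Basic
import Cfsg.Agent.Helper20.S3000TOOLa

/-! Board `s2981pieces`, rows T1, T3, T7 (2×2 matrix computations in the coordinates of a package). -/

set_option autoImplicit false
set_option linter.unusedSectionVars false
set_option linter.unusedSimpArgs false
set_option linter.unusedVariables false

namespace Cfsg.Agent.S2981P

open Cfsg.Agent.S2789P Cfsg.Agent.S2999P Cfsg.Agent.S3000P Cfsg.Agent.S2981P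
open scoped commutatorElement

variable {G : Type*} [Group G] [Finite G] {p : ℕ} [Fact p.Prime] {V P : Subgroup G} {T : Sylow p ↥P} {M : Subgroup ↥P} {q : ℕ}

variable {A E : Subgroup G}

section COORD
variable {F : Type} [Field F] [Fintype F]

local notation "SL2" => Matrix.SpecialLinearGroup (Fin 2) F

omit [Fintype F] in
/-- diagonal matrices commute -/
theorem T1_aux_comm {d d' : SL2} (hd : d ∈ diagSL F) (hd' : d' ∈ diagSL F) : d * d' = d' * d := by
  obtain ⟨d01, d10⟩ := hd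
  obtain ⟨e01, e10⟩ := hd'
  apply TOOLa_aux_ext
  · simp only [TOOLa_aux_mul_apply, d01, d10, e01, e10]; ring
  · simp only [TOOLa_aux_mul_apply, d01, d10, e01, e10]; ring
  · simp only [TOOLa_aux_mul_apply, d01, d10, e01, e10]; ring
  · simp only [TOOLa_aux_mul_apply, d01, d10, e01, e10]; ring

/-- T1 (S): the torus is abelian. -/
theorem T1 (c : Coord F V A E) : ∀ h ∈ c.torus, ∀ h' ∈ c.torus, h * h' = h' * h := by
  intro h hh h' hh'
  obtain ⟨x, hx, rfl⟩ := (TOOLa_aux_mem_torus c).mp hh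
  obtain ⟨y, hy, rfl⟩ := (TOOLa_aux_mem_torus c).mp hh'
  have key : x * y = y * x := by
    apply c.ρ.injective
    rw [map_mul, map_mul]
    exact T1_aux_comm hx hy
  exact congrArg Subtype.val key

omit [Fintype F] in
/-- a diagonal matrix commuting with `u(1)` is scalar with `d₀₀² = 1`. -/
theorem T3_aux_scalar {d : SL2} (hd : d ∈ diagSL F) (hc : d * TOOLa_aux_unip (1 : F) = TOOLa_aux_unip (1 : F) * d) :
    (d : Matrix (Fin 2) (Fin 2) F) 1 1 = (d : Matrix (Fin 2) (Fin 2) F) 0 0 ∧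
      (d : Matrix (Fin 2) (Fin 2) F) 0 0 * (d : Matrix (Fin 2) (Fin 2) F) 0 0 = 1 := by
  obtain ⟨d01, d10⟩ := hd
  obtain ⟨u00, u01, u10, u11⟩ := TOOLa_aux_unip_entries (1 : F)
  have h1 : ((d * TOOLa_aux_unip (1 : F) : SL2) : Matrix (Fin 2) (Fin 2) F) 0 1
      = ((TOOLa_aux_unip (1 : F) * d : SL2) : Matrix (Fin 2) (Fin 2) F) 0 1 := by rw [hc]
  simp only [TOOLa_aux_mul_apply, d01, d10, u00, u01, u10, u11] at h1
  have hdet := TOOLa_aux_det d
  rw [d01] at hdet
  have e : (d : Matrix (Fin 2) (Fin 2) F) 1 1 = (d : Matrix (Fin 2) (Fin 2) F) 0 0 := by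
    linear_combination (-1 : F) * h1
  refine ⟨e, ?_⟩
  rw [e] at hdet
  linear_combination hdet

omit [Fintype F] in
/-- a scalar matrix of `SL₂` is central and squares to `1`. -/
theorem T3_aux_central {d : SL2} (hd : d ∈ diagSL F)
    (h11 : (d : Matrix (Fin 2) (Fin 2) F) 1 1 = (d : Matrix (Fin 2) (Fin 2) F) 0 0)
    (hsq : (d : Matrix (Fin 2) (Fin 2) F) 0 0 * (d : Matrix (Fin 2) (Fin 2) F) 0 0 = 1) :
    d * d = 1 ∧ ∀ g : SL2, d * g = g * d := by
  obtain ⟨d01, d10⟩ := hd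
  constructor
  · apply TOOLa_aux_ext
    · simp only [TOOLa_aux_mul_apply, d01, d10, h11, Matrix.SpecialLinearGroup.coe_one, Matrix.one_apply_eq]
      linear_combination hsq
    · simp only [TOOLa_aux_mul_apply, d01, d10, h11, Matrix.SpecialLinearGroup.coe_one]
      simp
    · simp only [TOOLa_aux_mul_apply, d01, d10, h11, Matrix.SpecialLinearGroup.coe_one]
      simp
    · simp only [TOOLa_aux_mul_apply, d01, d10, h11, Matrix.SpecialLinearGroup.coe_one, Matrix.one_apply_eq]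
      linear_combination hsq
  · intro g
    apply TOOLa_aux_ext
    · simp only [TOOLa_aux_mul_apply, d01, d10, h11]; ring
    · simp only [TOOLa_aux_mul_apply, d01, d10, h11]; ring
    · simp only [TOOLa_aux_mul_apply, d01, d10, h11]; ring
    · simp only [TOOLa_aux_mul_apply, d01, d10, h11]; ring

/-- the matrix of a torus element centralising `A` -/
theorem T3_aux_mat (c : Coord F V A E) (hAE : A ≤ E) {x : ↥E} (hx : c.ρ x ∈ diagSL F)
    (hc : ∀ a ∈ A, (x : G) * a = a * (x : G)) :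
    ((c.ρ x : SL2) : Matrix (Fin 2) (Fin 2) F) 1 1 = ((c.ρ x : SL2) : Matrix (Fin 2) (Fin 2) F) 0 0 ∧
      ((c.ρ x : SL2) : Matrix (Fin 2) (Fin 2) F) 0 0 * ((c.ρ x : SL2) : Matrix (Fin 2) (Fin 2) F) 0 0 = 1 := by
  set a₁ : ↥E := c.ρ.symm (TOOLa_aux_unip (1 : F)) with ha₁
  have ha₁A : (a₁ : G) ∈ A := by
    rw [TOOLa_aux_mem_A c, ha₁, MulEquiv.apply_symm_apply]
    exact TOOLa_aux_unip_isU 1
  have h1 : x * a₁ = a₁ * x := Subtype.ext (hc _ ha₁A)
  have h2 := congrArg c.ρ h1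
  rw [map_mul, map_mul, ha₁, MulEquiv.apply_symm_apply] at h2
  exact T3_aux_scalar hx h2

/-- T3 (M): `C_H(A) ≤ {±1}`: its elements are central involutions of `E`, and there is at most one nontrivial one. -/
theorem T3 (c : Coord F V A E) (hAE : A ≤ E) :
    (∀ h ∈ c.torus, (∀ a ∈ A, h * a = a * h) → h * h = 1 ∧ ∀ e ∈ E, h * e = e * h) ∧
      ∀ h ∈ c.torus, ∀ h' ∈ c.torus, (∀ a ∈ A, h * a = a * h) → (∀ a ∈ A, h' * a = a * h') → h ≠ 1 → h' ≠ 1 → h = h' := by
  constructor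
  · intro h hh hc
    obtain ⟨x, hx, rfl⟩ := (TOOLa_aux_mem_torus c).mp hh
    obtain ⟨h11, hsq⟩ := T3_aux_mat c hAE hx hc
    obtain ⟨k1, k2⟩ := T3_aux_central hx h11 hsq
    constructor
    · have : x * x = 1 := by
        apply c.ρ.injective
        rw [map_mul, map_one]
        exact k1
      exact congrArg Subtype.val this
    · intro e he
      have : x * ⟨e, he⟩ = ⟨e, he⟩ * x := by
        apply c.ρ.injective
        rw [map_mul, map_mul]
        exact k2 _
      exact congrArg Subtype.val this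
  · intro h hh h' hh' hc hc' hne hne'
    obtain ⟨x, hx, rfl⟩ := (TOOLa_aux_mem_torus c).mp hh
    obtain ⟨y, hy, rfl⟩ := (TOOLa_aux_mem_torus c).mp hh'
    obtain ⟨x11, xsq⟩ := T3_aux_mat c hAE hx hc
    obtain ⟨y11, ysq⟩ := T3_aux_mat c hAE hy hc'
    -- the (0,0) entries are both `-1`
    have hval : ∀ z : ↥E, c.ρ z ∈ diagSL F →
        ((c.ρ z : SL2) : Matrix (Fin 2) (Fin 2) F) 1 1 = ((c.ρ z : SL2) : Matrix (Fin 2) (Fin 2) F) 0 0 →
        ((c.ρ z : SL2) : Matrix (Fin 2) (Fin 2) F) 0 0 * ((c.ρ z : SL2) : Matrix (Fin 2) (Fin 2) F) 0 0 = 1 →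
        (z : G) ≠ 1 → ((c.ρ z : SL2) : Matrix (Fin 2) (Fin 2) F) 0 0 = -1 := by
      intro z hz z11 zsq zne
      rcases mul_self_eq_one_iff.mp zsq with h1 | h1
      · exfalso
        apply zne
        have : z = 1 := by
          apply c.ρ.injective
          rw [map_one]
          apply TOOLa_aux_ext
          · rw [h1]; simp
          · rw [hz.1]; simp
          · rw [hz.2]; simp
          · rw [z11, h1]; simp
        rw [this]; rfl
      · exact h1
    have hx00 := hval x hx x11 xsq hne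
    have hy00 := hval y hy y11 ysq hne'
    have : x = y := by
      apply c.ρ.injective
      apply TOOLa_aux_ext
      · rw [hx00, hy00]
      · rw [hx.1, hy.1]
      · rw [hx.2, hy.2]
      · rw [x11, y11, hx00, hy00]
    rw [this]

omit [Fintype F] in
/-- an upper triangular matrix normalises the upper unitriangular matrices -/
theorem T7_aux_borel_conj {g u : SL2} (hg : (g : Matrix (Fin 2) (Fin 2) F) 1 0 = 0) (hu : TOOLa_aux_IsU u) :
    TOOLa_aux_IsU (g * u * g⁻¹) := by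
  obtain ⟨i00, i01, i10, i11⟩ := TOOLa_aux_inv_apply g
  have hdet := TOOLa_aux_det g
  rw [hg] at hdet
  constructor
  · simp only [TOOLa_aux_mul_apply, i00, i10, hg, hu.1]
    ring
  · simp only [TOOLa_aux_mul_apply, i00, i10, hg, hu.1, hu.2]
    linear_combination hdet

omit [Fintype F] [Finite G] in
/-- an element of `E` with upper triangular matrix normalises `A` -/
theorem T7_aux_borel (c : Coord F V A E) (hAE : A ≤ E) {b : ↥E}
    (hb : ((c.ρ b : SL2) : Matrix (Fin 2) (Fin 2) F) 1 0 = 0) : cjs (b : G) A = A := by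
  have key : ∀ b : ↥E, ((c.ρ b : SL2) : Matrix (Fin 2) (Fin 2) F) 1 0 = 0 → cjs (b : G) A ≤ A := by
    intro b hb x hx
    rw [cj_mem] at hx
    set a' : ↥E := ⟨(b : G)⁻¹ * x * (b : G), hAE hx⟩ with ha'
    have h1 : ((b * a' * b⁻¹ : ↥E) : G) ∈ A := by
      rw [TOOLa_aux_mem_A c, map_mul, map_mul, map_inv]
      exact T7_aux_borel_conj hb ((TOOLa_aux_mem_A c a').mp hx)
    have h2 : ((b * a' * b⁻¹ : ↥E) : G) = x := by
      rw [Subgroup.coe_mul, Subgroup.coe_mul, Subgroup.coe_inv, ha']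
      show (b : G) * ((b : G)⁻¹ * x * (b : G)) * (b : G)⁻¹ = x
      group
    rwa [h2] at h1
  apply le_antisymm (key b hb)
  have hb' : ((c.ρ b⁻¹ : SL2) : Matrix (Fin 2) (Fin 2) F) 1 0 = 0 := by
    rw [map_inv, (TOOLa_aux_inv_apply (c.ρ b)).2.2.1, hb, neg_zero]
  have h1 := key b⁻¹ hb'
  have h2 := cj_mono (g := (b : G)) h1
  rw [Subgroup.coe_inv, cj_cj_inv] at h2
  exact h2

/-- T7 (M), Bruhat: the `E`-conjugates of `A` other than `A` are the `cjs (a * w) A`, `a ∈ A`. -/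
theorem T7 (c : Coord F V A E) (hAE : A ≤ E) : ∀ e ∈ E, cjs e A ≠ A → ∃ a ∈ A, cjs e A = cjs (a * c.weyl) A := by
  intro e he hne
  set e' : ↥E := ⟨e, he⟩ with he'
  set g : SL2 := c.ρ e' with hg
  have hc : (g : Matrix (Fin 2) (Fin 2) F) 1 0 ≠ 0 := by
    intro h0
    exact hne (T7_aux_borel c hAE (b := e') h0)
  set s : F := (g : Matrix (Fin 2) (Fin 2) F) 0 0 / (g : Matrix (Fin 2) (Fin 2) F) 1 0 with hs
  set a' : ↥E := c.ρ.symm (TOOLa_aux_unip s) with ha'
  set w' : ↥E := c.ρ.symm (weylSL F) with hw'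
  have hw : (w' : G) = c.weyl := rfl
  have ha'A : (a' : G) ∈ A := by
    rw [TOOLa_aux_mem_A c, ha', MulEquiv.apply_symm_apply]
    exact TOOLa_aux_unip_isU s
  refine ⟨(a' : G), ha'A, ?_⟩
  -- `b := (a' w')⁻¹ e'` is upper triangular
  set b : ↥E := (a' * w')⁻¹ * e' with hb
  have hb10 : ((c.ρ b : SL2) : Matrix (Fin 2) (Fin 2) F) 1 0 = 0 := by
    rw [hb, map_mul, map_inv, map_mul, ha', hw', MulEquiv.apply_symm_apply, MulEquiv.apply_symm_apply, mul_inv_rev]
    obtain ⟨i00, i01, i10, i11⟩ := TOOLa_aux_inv_apply (weylSL F)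
    obtain ⟨w00, w01, w10, w11⟩ := TOOLa_aux_weyl_entries (F := F)
    obtain ⟨j00, j01, j10, j11⟩ := TOOLa_aux_inv_apply (TOOLa_aux_unip s)
    obtain ⟨u00, u01, u10, u11⟩ := TOOLa_aux_unip_entries s
    simp only [TOOLa_aux_mul_apply, i00, i01, i10, i11, w00, w01, w10, w11, j00, j01, j10, j11, u00, u01, u10, u11]
    rw [hs]
    field_simp
    ring
  have hbA : cjs (b : G) A = A := T7_aux_borel c hAE hb10
  have he_eq : e = ((a' : G) * c.weyl) * (b : G) := by
    rw [hb, ← hw]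
    simp only [Subgroup.coe_mul, Subgroup.coe_inv]
    show e = (a' : G) * (w' : G) * (((a' : G) * (w' : G))⁻¹ * e)
    group
  calc cjs e A = cjs (((a' : G) * c.weyl) * (b : G)) A := by rw [← he_eq]
    _ = cjs ((a' : G) * c.weyl) (cjs (b : G) A) := (cj_mul _ _ _).symm
    _ = cjs ((a' : G) * c.weyl) A := by rw [hbA]

end COORD

end Cfsg.Agent.S2981P
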