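import Mathlib
import Cfsg.Agent.Helper25.S2981BDefs
import Cfsg.Agent.Helper28.S3000Defs
import Cfsg.Agent.Helper20.S3000TOOLa

/-! Board `s2981pieces`, rows T2 and T4 (2×2 matrix computations in the coordinates of a package). -/

set_option autoImplicit false
set_option linter.unusedSectionVars false
set_option linter.unusedSimpArgs false
set_option linter.unusedVariables false

namespace Cfsg.Agent.S2981P

open Cfsg.Agent.S2789P Cfsg.Agent.S2999P Cfsg.Agent.S3000P Cfsg.Agent.S2981P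
open scoped commutatorElement

variable {G : Type*} [Group G] [Finite G] {p : ℕ} [Fact p.Prime] {V P : Subgroup G} {T : Sylow p ↥P} {M : Subgroup ↥P} {q : ℕ}

variable {A E : Subgroup G}

section COORD
variable {F : Type} [Field F] [Fintype F]

local notation "SL2" => Matrix.SpecialLinearGroup (Fin 2) F

omit [Fintype F] in
/-- if `g u(1) g⁻¹` is upper unitriangular then `g₁₀ = 0`. -/
theorem T2_aux_lower {g : SL2} (h : TOOLa_aux_IsU (g * TOOLa_aux_unip (1 : F) * g⁻¹)) :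
    (g : Matrix (Fin 2) (Fin 2) F) 1 0 = 0 := by
  obtain ⟨i00, i01, i10, i11⟩ := TOOLa_aux_inv_apply g
  obtain ⟨u00, u01, u10, u11⟩ := TOOLa_aux_unip_entries (1 : F)
  have h1 := h.1
  simp only [TOOLa_aux_mul_apply, i00, i10, u00, u01, u10, u11] at h1
  have h2 : (g : Matrix (Fin 2) (Fin 2) F) 1 0 * (g : Matrix (Fin 2) (Fin 2) F) 1 0 = 0 := by
    linear_combination (-1 : F) * h1
  exact mul_self_eq_zero.mp h2

omit [Fintype F] in
/-- if `W⁻¹ (g (W u(1) W⁻¹) g⁻¹) W` is upper unitriangular then `g₀₁ = 0`. -/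
theorem T2_aux_upper {g : SL2}
    (h : TOOLa_aux_IsU ((weylSL F)⁻¹ * (g * (weylSL F * TOOLa_aux_unip (1 : F) * (weylSL F)⁻¹) * g⁻¹) * weylSL F)) :
    (g : Matrix (Fin 2) (Fin 2) F) 0 1 = 0 := by
  have e : (weylSL F)⁻¹ * (g * (weylSL F * TOOLa_aux_unip (1 : F) * (weylSL F)⁻¹) * g⁻¹) * weylSL F
      = ((weylSL F)⁻¹ * g * weylSL F) * TOOLa_aux_unip (1 : F) * ((weylSL F)⁻¹ * g * weylSL F)⁻¹ := by group
  rw [e] at h
  have h1 := T2_aux_lower h
  obtain ⟨i00, i01, i10, i11⟩ := TOOLa_aux_inv_apply (weylSL F)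
  obtain ⟨w00, w01, w10, w11⟩ := TOOLa_aux_weyl_entries (F := F)
  simp only [TOOLa_aux_mul_apply, i00, i01, i10, i11, w00, w01, w10, w11] at h1
  linear_combination (-1 : F) * h1

/-- T2 (M): `N_E(A) ∩ N_E(ʷA) ≤ H`. -/
theorem T2 (c : Coord F V A E) (hAE : A ≤ E) : ∀ e ∈ E, cjs e A = A → cjs e (cjs c.weyl A) = cjs c.weyl A → e ∈ c.torus := by
  intro e he h1 h2
  set e' : ↥E := ⟨e, he⟩ with he'
  set a₁ : ↥E := c.ρ.symm (TOOLa_aux_unip (1 : F)) with ha₁
  set w' : ↥E := c.ρ.symm (weylSL F) with hw'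
  have hw : (w' : G) = c.weyl := rfl
  have ha₁A : (a₁ : G) ∈ A := by
    rw [TOOLa_aux_mem_A c, ha₁, MulEquiv.apply_symm_apply]
    exact TOOLa_aux_unip_isU 1
  -- lower-left entry
  have hlow : ((c.ρ e' : SL2) : Matrix (Fin 2) (Fin 2) F) 1 0 = 0 := by
    apply T2_aux_lower
    have h3 : e * (a₁ : G) * e⁻¹ ∈ A := le_of_eq h1 (cj_mem_conj.mpr ha₁A)
    have h4 : ((e' * a₁ * e'⁻¹ : ↥E) : G) ∈ A := by
      rw [Subgroup.coe_mul, Subgroup.coe_mul, Subgroup.coe_inv]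
      exact h3
    rw [TOOLa_aux_mem_A c, map_mul, map_mul, map_inv, ha₁, MulEquiv.apply_symm_apply] at h4
    exact h4
  -- upper-right entry
  have hupp : ((c.ρ e' : SL2) : Matrix (Fin 2) (Fin 2) F) 0 1 = 0 := by
    apply T2_aux_upper
    have h3 : c.weyl * (a₁ : G) * c.weyl⁻¹ ∈ cjs c.weyl A := cj_mem_conj.mpr ha₁A
    have h4 : e * (c.weyl * (a₁ : G) * c.weyl⁻¹) * e⁻¹ ∈ cjs c.weyl A := le_of_eq h2 (cj_mem_conj.mpr h3)
    rw [cj_mem] at h4
    have h5 : ((w'⁻¹ * (e' * (w' * a₁ * w'⁻¹) * e'⁻¹) * w' : ↥E) : G) ∈ A := by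
      simp only [Subgroup.coe_mul, Subgroup.coe_inv, hw]
      exact h4
    rw [TOOLa_aux_mem_A c] at h5
    simp only [map_mul, map_inv, ha₁, hw', MulEquiv.apply_symm_apply] at h5
    exact h5
  rw [TOOLa_aux_mem_torus]
  exact ⟨e', ⟨hupp, hlow⟩, rfl⟩

/-- a finite field with more than three elements has an element `λ ≠ 0` with `λ² ≠ 1`. -/
theorem T4_aux_exists (h3 : 3 < Fintype.card F) : ∃ l : F, l ≠ 0 ∧ l ^ 2 ≠ 1 := by
  classical
  by_contra hcon0
  have hcon : ∀ l : F, l ≠ 0 → l ^ 2 = 1 := by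
    intro l hl
    by_contra h
    exact hcon0 ⟨l, hl, h⟩
  have hsub : (Finset.univ : Finset F) ⊆ {0, 1, -1} := by
    intro x _
    by_cases hx : x = 0
    · simp [hx]
    · have h1 := hcon x hx
      have h2 : x * x = 1 := by rw [← h1]; ring
      rcases mul_self_eq_one_iff.mp h2 with h | h
      · simp [h]
      · simp [h]
  have h4 := Finset.card_le_card hsub
  have h5 : ({0, 1, -1} : Finset F).card ≤ 3 := Finset.card_le_three
  rw [Finset.card_univ] at h4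
  omega

/-- T4 (M): `A = [A, H]` when `|F| > 3`: every `a ∈ A` is a commutator `h a' h⁻¹ a'⁻¹`. -/
theorem T4 (c : Coord F V A E) (hAE : A ≤ E) (h3 : 3 < Fintype.card F) :
    ∀ a ∈ A, ∃ h ∈ c.torus, ∃ a' ∈ A, a = h * a' * h⁻¹ * a'⁻¹ := by
  intro a ha
  obtain ⟨l, hl0, hl1⟩ := T4_aux_exists (F := F) h3
  have hU := (TOOLa_aux_mem_A c ⟨a, hAE ha⟩).mp ha
  set t : F := ((c.ρ ⟨a, hAE ha⟩ : SL2) : Matrix (Fin 2) (Fin 2) F) 0 1 with ht
  have hρa : c.ρ ⟨a, hAE ha⟩ = TOOLa_aux_unip t := TOOLa_aux_isU_eq hU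
  have hne : l ^ 2 - 1 ≠ 0 := sub_ne_zero.mpr hl1
  set s : F := t / (l ^ 2 - 1) with hs
  set h' : ↥E := c.ρ.symm (TOOLa_aux_diag l hl0) with hh'
  set a' : ↥E := c.ρ.symm (TOOLa_aux_unip s) with ha'
  have hh'T : (h' : G) ∈ c.torus := TOOLa_aux_symm_mem_torus c (TOOLa_aux_diag_mem l hl0)
  have ha'A : (a' : G) ∈ A := by
    rw [TOOLa_aux_mem_A c, ha', MulEquiv.apply_symm_apply]
    exact TOOLa_aux_unip_isU s
  refine ⟨(h' : G), hh'T, (a' : G), ha'A, ?_⟩
  have key : (⟨a, hAE ha⟩ : ↥E) = h' * a' * h'⁻¹ * a'⁻¹ := by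
    apply c.ρ.injective
    rw [hρa, map_mul, map_mul, map_mul, map_inv, map_inv, hh', ha', MulEquiv.apply_symm_apply, MulEquiv.apply_symm_apply,
      TOOLa_aux_diag_conj_unip]
    obtain ⟨u00, u01, u10, u11⟩ := TOOLa_aux_unip_entries t
    obtain ⟨v00, v01, v10, v11⟩ := TOOLa_aux_unip_entries (l ^ 2 * s)
    obtain ⟨x00, x01, x10, x11⟩ := TOOLa_aux_unip_entries s
    obtain ⟨i00, i01, i10, i11⟩ := TOOLa_aux_inv_apply (TOOLa_aux_unip s)
    have hst : l ^ 2 * s - s = t := by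
      rw [hs]; field_simp
    apply TOOLa_aux_ext
    · simp only [TOOLa_aux_mul_apply, i00, i10, u00, v00, v01, x10, x11]
      ring
    · simp only [TOOLa_aux_mul_apply, i01, i11, u01, v00, v01, x00, x01]
      linear_combination (-1 : F) * hst
    · simp only [TOOLa_aux_mul_apply, i00, i10, u10, v10, v11, x10, x11]
      ring
    · simp only [TOOLa_aux_mul_apply, i01, i11, u11, v10, v11, x00, x01]
      ring
  have := congrArg Subtype.val key
  simpa using this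

end COORD

end Cfsg.Agent.S2981P
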