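import Mathlib
import Cfsg.Agent.Helper25.S2981BDefs
import Cfsg.Agent.Helper28.S3000Defs
import Cfsg.Agent.Helper12.S2999Basic
import Cfsg.Agent.Helper12.S3000PKG1w
import Cfsg.Agent.Helper20.S3000TOOLa
import Cfsg.Agent.Helper8.S2981T137

/-! Board `s2981pieces`, rows BOREL1 and PKG1nq. -/

set_option autoImplicit false
set_option linter.unusedSectionVars false
set_option linter.unusedVariables false

namespace Cfsg.Agent.S2981P

open Cfsg.Agent.S2789P Cfsg.Agent.S2999P Cfsg.Agent.S3000P Cfsg.Agent.S2981P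
open scoped commutatorElement

variable {G : Type*} [Group G] [Finite G] {p : ℕ} [Fact p.Prime] {V P : Subgroup G} {T : Sylow p ↥P} {M : Subgroup ↥P} {q : ℕ}

variable {A E : Subgroup G}

section COORD
variable {F : Type} [Field F] [Fintype F]

/-- BOREL1 (M): after correcting by some `a ∈ A`, `x` normalises the opposite subgroup `ʷA` (T7). -/
theorem BOREL1 (Hy : Hyp p V P T M) (hq2 : 2 < q) (hK : Pack p V P q A E) (hF : Fintype.card F = q) (c : Coord F V A E)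
    {x : G} (hxP : x ∈ P) (hxE : cjs x E = E) (hxA : cjs x A = A) :
    ∃ a ∈ A, cjs (a⁻¹ * x) (cjs c.weyl A) = cjs c.weyl A := by
  have hAE : A ≤ E := hK.hAE
  have hwE : c.weyl ∈ E := (c.ρ.symm (weylSL F)).2
  -- `e := x w x⁻¹ ∈ E`
  have heE : x * c.weyl * x⁻¹ ∈ E := le_of_eq hxE (cj_mem_conj.mpr hwE)
  -- `cjs x (ʷA) = cjs e A`
  have h1 : cjs x (cjs c.weyl A) = cjs (x * c.weyl * x⁻¹) A := by
    calc cjs x (cjs c.weyl A) = cjs (x * c.weyl) A := cj_mul _ _ _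
      _ = cjs ((x * c.weyl * x⁻¹) * x) A := by
          congr 1; group
      _ = cjs (x * c.weyl * x⁻¹) (cjs x A) := (cj_mul _ _ _).symm
      _ = cjs (x * c.weyl * x⁻¹) A := by rw [hxA]
  have hne : cjs (x * c.weyl * x⁻¹) A ≠ A := by
    intro h
    rw [← h1] at h
    have h2 : cjs x (cjs c.weyl A) = cjs x A := h.trans hxA.symm
    exact TOOLa_aux_weyl_ne c hAE (cj_inj.mp h2)
  obtain ⟨a, ha, h3⟩ := T7 c hAE _ heE hne
  refine ⟨a, ha, ?_⟩
  calc cjs (a⁻¹ * x) (cjs c.weyl A) = cjs a⁻¹ (cjs x (cjs c.weyl A)) := (cj_mul _ _ _).symm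
    _ = cjs a⁻¹ (cjs (a * c.weyl) A) := by rw [h1, h3]
    _ = cjs a⁻¹ (cjs a (cjs c.weyl A)) := by rw [cj_mul a c.weyl A]
    _ = cjs c.weyl A := cj_inv_cj _ _

end COORD

/-- PKG1nq (S): `PKG1` without the (unused) hypothesis `MinQ` (copy of helper12's proof in `Helper12.S3000PKG1w`). -/
theorem PKG1nq (Hy : Hyp p V P T M) {q₁ : ℕ} {B₁ : Subgroup G} (hB : InA p V P q₁ B₁) (hBT : B₁ ≤ TT T) :
    ∃ (E' : Subgroup G) (g : G), g ∈ P ∧ Pack p V P q₁ B₁ E' ∧ Based (cjs g (MM M)) B₁ E' := by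
  obtain ⟨E, g, hgP, hAE, hEP, hEM, -, hiii, -, ⟨TE, RE, S⟩, F, iF, iFt, ρ, ψ, K⟩ := PKG1_core Hy hBT hB.so
  have hAM : B₁ ≤ cjs g (MM M) := fun a ha => (S.hTM (S.hAT ha)).1
  have hnorm : ∀ e ∈ E, e ∈ cjs g (MM M) → cjs e B₁ = B₁ := by
    intro e heE heM
    have h1 : fixV V (cjs e B₁) = fixV V B₁ := FIN_spread S ⟨heM, heE⟩
    have heP : e ∈ P := hEP heE
    exact F3_eq_of_fix Hy (cj_le_of_mem heP hB.le) (hB.so.conj (Hy.hPV heP)) hB.le hB.so h1
  refine ⟨E, g, hgP, ⟨hB, hAE, hEP, ?_, FIN_cva S, ⟨F, iF, iFt, K.card.trans hB.card, ⟨K.toCoord⟩⟩⟩, ⟨hAM, hEM, ?_⟩⟩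
  · intro e heE hne
    apply hiii e heE
    intro heM
    exact hne (hnorm e heE heM)
  · intro e heE hfix
    by_contra heM
    have h1 := hiii e heE heM
    rw [hfix, sup_idem] at h1
    apply hEM
    rw [← h1]
    exact hAM

end Cfsg.Agent.S2981P
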