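import Mathlib
import Cfsg.Agent.Helper28.S3000Defs
import Cfsg.Agent.Helper8.S3000TKD1
import Cfsg.Agent.Helper19.S3000COPR

/-! Board `s3000pieces`, row TKD1 (last part): `Tool.VE`, from COPR. -/

set_option autoImplicit false
set_option linter.unusedSectionVars false
set_option linter.unusedVariables false

namespace Cfsg.Agent.S3000P

open Cfsg.Agent.S2789P Cfsg.Agent.S2999P Cfsg.Agent.S3000P
open scoped commutatorElement

variable {G : Type*} [Group G] [Finite G] {p : ℕ} [Fact p.Prime] {V P : Subgroup G} {T : Sylow p ↥P}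
  {M : Subgroup ↥P} {q : ℕ}

section TKD
variable {A E H : Subgroup G} {w : G}

/-- TKD4 (M): `V = [V,E] C_V(E)`. -/
theorem Tool.VE (Hy : Hyp p V P T M) (K : Tool p V P q A E H w) : ⁅V, E⁆ ⊔ fixV V E = V := by
  obtain ⟨h1, h2, h3⟩ := TKD1_aux_VE_hyps Hy K
  exact TKD1_aux_VE_core Hy K (COPR h1 h2 h3).1

end TKD

end Cfsg.Agent.S3000P
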