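import Mathlib
import Cfsg.Agent.S0058

set_option autoImplicit false

/-! Board `s3913pieces`, piece CLIF0: the fixed-point counting argument. -/

namespace Cfsg.Agent.S3913P

/-- aux: membership in `S ⊓ centralizer {v}`. -/
theorem CLIF0_aux_mem {G : Type*} [Group G] {S : Subgroup G} {v x : G} :
    x ∈ S ⊓ Subgroup.centralizer ({v} : Set G) ↔ x ∈ S ∧ v * x = x * v := by
  rw [Subgroup.mem_inf, Subgroup.mem_centralizer_iff]
  simp

/-- aux: the stabilisers `S_v = S ⊓ C(v)`, `v ∈ N ∖ 1`, of constant order are all equal. -/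
theorem CLIF0_aux_stab {G : Type*} [Group G] [Finite G] (S N : Subgroup G) [N.Normal]
    (hNab : ∀ a ∈ N, ∀ b ∈ N, a * b = b * a) (hSab : ∀ a ∈ S, ∀ b ∈ S, a * b = b * a)
    (hρ : ∀ v ∈ N, ∀ w ∈ N, v ≠ 1 → w ≠ 1 →
      Nat.card ↥(S ⊓ Subgroup.centralizer ({v} : Set G)) = Nat.card ↥(S ⊓ Subgroup.centralizer ({w} : Set G)))
    (v w : G) (hv : v ∈ N) (hw : w ∈ N) (hv1 : v ≠ 1) (hw1 : w ≠ 1) :
    S ⊓ Subgroup.centralizer ({v} : Set G) = S ⊓ Subgroup.centralizer ({w} : Set G) := by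
  by_contra hne
  have heq : ∀ a b : G, a ∈ N → b ∈ N → a ≠ 1 → b ≠ 1 →
      S ⊓ Subgroup.centralizer ({a} : Set G) ≤ S ⊓ Subgroup.centralizer ({b} : Set G) →
      S ⊓ Subgroup.centralizer ({a} : Set G) = S ⊓ Subgroup.centralizer ({b} : Set G) := by
    intro a b ha hb ha1 hb1 hle
    exact Subgroup.eq_of_le_of_card_ge hle (le_of_eq (hρ b hb a ha hb1 ha1))
  have hvw1 : v * w ≠ 1 := by
    intro h
    apply hne
    have hw' : w = v⁻¹ := (eq_inv_of_mul_eq_one_right h)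
    ext x
    rw [CLIF0_aux_mem, CLIF0_aux_mem, hw']
    constructor
    · rintro ⟨hx, hc⟩
      refine ⟨hx, ?_⟩
      calc v⁻¹ * x = v⁻¹ * (x * v) * v⁻¹ := by group
        _ = v⁻¹ * (v * x) * v⁻¹ := by rw [hc]
        _ = x * v⁻¹ := by group
    · rintro ⟨hx, hc⟩
      refine ⟨hx, ?_⟩
      calc v * x = v * (x * v⁻¹) * v := by group
        _ = v * (v⁻¹ * x) * v := by rw [hc]
        _ = x * v := by group
  have hvwN : v * w ∈ N := N.mul_mem hv hw
  have key : S ⊓ Subgroup.centralizer ({v * w} : Set G) ≤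
      (S ⊓ Subgroup.centralizer ({v} : Set G)) ⊓ (S ⊓ Subgroup.centralizer ({w} : Set G)) := by
    intro x hx
    rw [CLIF0_aux_mem] at hx
    obtain ⟨hxS, hxc⟩ := hx
    -- conjugates
    have hv' : x * v * x⁻¹ ∈ N := ‹N.Normal›.conj_mem v hv x
    have hw' : x * w * x⁻¹ ∈ N := ‹N.Normal›.conj_mem w hw x
    have hprod : (x * v * x⁻¹) * (x * w * x⁻¹) = v * w := by
      calc (x * v * x⁻¹) * (x * w * x⁻¹) = x * (v * w) * x⁻¹ := by group
        _ = (v * w * x) * x⁻¹ := by rw [hxc]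
        _ = v * w := by group
    obtain ⟨d, hd⟩ : ∃ d : G, d = x * v * x⁻¹ * v⁻¹ := ⟨_, rfl⟩
    have hdN : d ∈ N := by rw [hd]; exact N.mul_mem hv' (N.inv_mem hv)
    -- second expression of d
    have hd2 : d = w * (x * w * x⁻¹)⁻¹ := by
      have h1 : x * v * x⁻¹ = v * w * (x * w * x⁻¹)⁻¹ := by
        rw [← hprod]; group
      rw [hd, h1]
      have h2 : w * (x * w * x⁻¹)⁻¹ ∈ N := N.mul_mem hw (N.inv_mem hw')
      calc v * w * (x * w * x⁻¹)⁻¹ * v⁻¹ = v * (w * (x * w * x⁻¹)⁻¹) * v⁻¹ := by group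
        _ = (w * (x * w * x⁻¹)⁻¹) * v * v⁻¹ := by rw [hNab v hv _ h2]
        _ = w * (x * w * x⁻¹)⁻¹ := by group
    have hd1 : d = 1 := by
      by_contra hd1
      have hle1 : S ⊓ Subgroup.centralizer ({v} : Set G) ≤ S ⊓ Subgroup.centralizer ({d} : Set G) := by
        intro s hs
        rw [CLIF0_aux_mem] at hs ⊢
        obtain ⟨hsS, hsc⟩ := hs
        refine ⟨hsS, ?_⟩
        have hsx : s * x = x * s := hSab s hsS x hxS
        have hsx' : s * x⁻¹ = x⁻¹ * s := by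
          calc s * x⁻¹ = x⁻¹ * (x * s) * x⁻¹ := by group
            _ = x⁻¹ * (s * x) * x⁻¹ := by rw [hsx]
            _ = x⁻¹ * s := by group
        have hsv' : s * v⁻¹ = v⁻¹ * s := by
          calc s * v⁻¹ = v⁻¹ * (v * s) * v⁻¹ := by group
            _ = v⁻¹ * (s * v) * v⁻¹ := by rw [hsc]
            _ = v⁻¹ * s := by group
        rw [hd]
        calc x * v * x⁻¹ * v⁻¹ * s = x * v * x⁻¹ * (v⁻¹ * s) := by group
          _ = x * v * x⁻¹ * (s * v⁻¹) := by rw [hsv']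
          _ = x * v * (x⁻¹ * s) * v⁻¹ := by group
          _ = x * v * (s * x⁻¹) * v⁻¹ := by rw [hsx']
          _ = x * (v * s) * x⁻¹ * v⁻¹ := by group
          _ = x * (s * v) * x⁻¹ * v⁻¹ := by rw [hsc]
          _ = (x * s) * v * x⁻¹ * v⁻¹ := by group
          _ = (s * x) * v * x⁻¹ * v⁻¹ := by rw [hsx]
          _ = s * (x * v * x⁻¹ * v⁻¹) := by group
      have hle2 : S ⊓ Subgroup.centralizer ({w} : Set G) ≤ S ⊓ Subgroup.centralizer ({d} : Set G) := by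
        intro s hs
        rw [CLIF0_aux_mem] at hs ⊢
        obtain ⟨hsS, hsc⟩ := hs
        refine ⟨hsS, ?_⟩
        have hsx : s * x = x * s := hSab s hsS x hxS
        have hsx' : s * x⁻¹ = x⁻¹ * s := by
          calc s * x⁻¹ = x⁻¹ * (x * s) * x⁻¹ := by group
            _ = x⁻¹ * (s * x) * x⁻¹ := by rw [hsx]
            _ = x⁻¹ * s := by group
        have hsw' : s * w⁻¹ = w⁻¹ * s := by
          calc s * w⁻¹ = w⁻¹ * (w * s) * w⁻¹ := by group
            _ = w⁻¹ * (s * w) * w⁻¹ := by rw [hsc]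
            _ = w⁻¹ * s := by group
        rw [hd2]
        have e : w * (x * w * x⁻¹)⁻¹ = w * x * w⁻¹ * x⁻¹ := by group
        rw [e]
        calc w * x * w⁻¹ * x⁻¹ * s = w * x * w⁻¹ * (x⁻¹ * s) := by group
          _ = w * x * w⁻¹ * (s * x⁻¹) := by rw [hsx']
          _ = w * x * (w⁻¹ * s) * x⁻¹ := by group
          _ = w * x * (s * w⁻¹) * x⁻¹ := by rw [hsw']
          _ = w * (x * s) * w⁻¹ * x⁻¹ := by group
          _ = w * (s * x) * w⁻¹ * x⁻¹ := by rw [hsx]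
          _ = (w * s) * x * w⁻¹ * x⁻¹ := by group
          _ = (s * w) * x * w⁻¹ * x⁻¹ := by rw [hsc]
          _ = s * (w * x * w⁻¹ * x⁻¹) := by group
      have e1 := heq v d hv hdN hv1 hd1 hle1
      have e2 := heq w d hw hdN hw1 hd1 hle2
      exact hne (e1.trans e2.symm)
    -- x commutes with v and w
    have hxv : v * x = x * v := by
      have : x * v * x⁻¹ * v⁻¹ = 1 := by rw [← hd]; exact hd1
      calc v * x = (x * v * x⁻¹ * v⁻¹)⁻¹ * (x * v) := by group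
        _ = x * v := by rw [this]; group
    have hxw : w * x = x * w := by
      have h1 : w * (x * w * x⁻¹)⁻¹ = 1 := by rw [← hd2]; exact hd1
      calc w * x = (w * (x * w * x⁻¹)⁻¹) * (x * w) := by group
        _ = x * w := by rw [h1, one_mul]
    exact Subgroup.mem_inf.mpr ⟨CLIF0_aux_mem.mpr ⟨hxS, hxv⟩, CLIF0_aux_mem.mpr ⟨hxS, hxw⟩⟩
  have e1 := heq (v * w) v hvwN hv hvw1 hv1 (key.trans inf_le_left)
  have e2 := heq (v * w) w hvwN hw hvw1 hw1 (key.trans inf_le_right)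
  exact hne (e1.symm.trans e2)

/-- CLIF0 (L; `Cfsg.Agent.S0058.result`): the fixed-point counting argument. -/
theorem CLIF0 {G : Type*} [Group G] [Finite G] (S N : Subgroup G) [N.Normal]
    (hNab : ∀ a ∈ N, ∀ b ∈ N, a * b = b * a) (hSab : ∀ a ∈ S, ∀ b ∈ S, a * b = b * a)
    (hnc : ¬ IsCyclic ↥S) (hcop : (Nat.card ↥S).Coprime (Nat.card ↥N))
    (hc : ∀ a ∈ S, ∀ b ∈ S, a ≠ 1 → b ≠ 1 →
      Nat.card ↥(N ⊓ Subgroup.centralizer ({a} : Set G)) = Nat.card ↥(N ⊓ Subgroup.centralizer ({b} : Set G)))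
    (hρ : ∀ v ∈ N, ∀ w ∈ N, v ≠ 1 → w ≠ 1 →
      Nat.card ↥(S ⊓ Subgroup.centralizer ({v} : Set G)) = Nat.card ↥(S ⊓ Subgroup.centralizer ({w} : Set G))) :
    N ≤ Subgroup.centralizer (S : Set G) := by
  by_cases hN : N = ⊥
  · rw [hN]; exact bot_le
  have : IsMulCommutative ↥S := ⟨⟨fun a b => Subtype.ext (hSab a a.2 b b.2)⟩⟩
  have hSN : S ≤ Subgroup.normalizer (N : Set G) := by
    rw [Subgroup.normalizer_eq_top]; exact le_top
  have hgen := Cfsg.Agent.S0058.result S N hnc hSN hcop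
  -- some a₀ ∈ S ∖ 1 with C_N(a₀) ≠ ⊥
  obtain ⟨a₀, ha₀S, ha₀1, ha₀⟩ : ∃ a₀ ∈ S, a₀ ≠ 1 ∧ N ⊓ Subgroup.centralizer ({a₀} : Set G) ≠ ⊥ := by
    by_contra hcon
    push Not at hcon
    apply hN
    rw [← hgen]
    apply le_antisymm _ bot_le
    refine iSup₂_le fun a ha => ?_
    rw [hcon a ha.1 ha.2]
  have hfix : ∀ b ∈ S, b ≠ 1 → ∃ v ∈ N, v ≠ 1 ∧ b * v = v * b := by
    intro b hb hb1
    have h1 : N ⊓ Subgroup.centralizer ({b} : Set G) ≠ ⊥ := by
      intro h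
      have h2 := hc a₀ ha₀S b hb ha₀1 hb1
      rw [h, Subgroup.card_bot] at h2
      exact ha₀ (Subgroup.card_eq_one.mp h2)
    obtain ⟨v, hv1⟩ := (Subgroup.ne_bot_iff_exists_ne_one).mp h1
    refine ⟨v, (Subgroup.mem_inf.mp v.2).1, fun h => hv1 (Subtype.ext h), ?_⟩
    have h3 := (Subgroup.mem_inf.mp v.2).2
    rw [Subgroup.mem_centralizer_iff] at h3
    exact h3 b rfl
  intro v hv
  rw [Subgroup.mem_centralizer_iff]
  intro s hs
  by_cases hv1 : v = 1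
  · rw [hv1]; simp
  by_cases hs1 : s = 1
  · rw [hs1]; simp
  obtain ⟨w, hw, hw1, hsw⟩ := hfix s hs hs1
  have h1 : s ∈ S ⊓ Subgroup.centralizer ({w} : Set G) := CLIF0_aux_mem.mpr ⟨hs, hsw.symm⟩
  rw [CLIF0_aux_stab S N hNab hSab hρ w v hw hv hw1 hv1] at h1
  exact ((CLIF0_aux_mem.mp h1).2).symm

end Cfsg.Agent.S3913P
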