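import Mathlib
import Cfsg.Agent.Helper26.S3911Defs
import Cfsg.Agent.Helper8.S3913CLIF0
import Cfsg.Agent.Helper9.S3913SCONJ

set_option autoImplicit false

/-!
# S3913 piece CLIF1

An elementary abelian noncyclic `r`-subgroup `S` with `F ⊔ S` normal (`F` abelian normal of order
prime to `|S|`) centralises every normal subgroup `N ≤ F` of prime exponent, in a group whose abelian
subgroups of equal order are conjugate.
-/

namespace Cfsg.Agent.S3913P

open Cfsg.Agent.S3911P

/-- if `b = g a^k g⁻¹` and `a = g⁻¹ b^j g`, conjugation by `g` carries `C(a)` onto `C(b)`. -/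
theorem CLIF1_aux_cent_map {G : Type*} [Group G] (a b g : G) (k j : ℤ)
    (hb : b = g * a ^ k * g⁻¹) (ha : a = g⁻¹ * b ^ j * g) :
    (Subgroup.centralizer ({a} : Set G)).map (MulAut.conj g).toMonoidHom =
      Subgroup.centralizer ({b} : Set G) := by
  ext y
  rw [Subgroup.mem_map]
  constructor
  · rintro ⟨x, hx, rfl⟩
    rw [Subgroup.mem_centralizer_singleton_iff] at hx ⊢
    have hc : Commute a x := (show Commute x a from hx).symm
    have hk : a ^ k * x = x * a ^ k := (hc.zpow_left k).eq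
    simp only [MulEquiv.coe_toMonoidHom, MulAut.conj_apply]
    symm
    calc b * (g * x * g⁻¹) = g * (a ^ k * x) * g⁻¹ := by rw [hb]; group
      _ = g * (x * a ^ k) * g⁻¹ := by rw [hk]
      _ = g * x * g⁻¹ * b := by rw [hb]; group
  · intro hy
    rw [Subgroup.mem_centralizer_singleton_iff] at hy
    have hc : Commute b y := (show Commute y b from hy).symm
    have hj : b ^ j * y = y * b ^ j := (hc.zpow_left j).eq
    refine ⟨g⁻¹ * y * g, ?_, ?_⟩
    · rw [Subgroup.mem_centralizer_singleton_iff]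
      symm
      calc a * (g⁻¹ * y * g) = g⁻¹ * (b ^ j * y) * g := by rw [ha]; group
        _ = g⁻¹ * (y * b ^ j) * g := by rw [hj]
        _ = g⁻¹ * y * g * a := by rw [ha]; group
    · simp only [MulEquiv.coe_toMonoidHom, MulAut.conj_apply]
      group

/-- two nontrivial elements killed by the same prime `q` are conjugate up to powers. -/
theorem CLIF1_aux_conj {G : Type*} [Group G] (hB : BProp G) (a b : G) (q : ℕ) [Fact q.Prime]
    (ha : a ^ q = 1) (hb : b ^ q = 1) (ha1 : a ≠ 1) (hb1 : b ≠ 1) :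
    ∃ (g : G) (k j : ℤ), b = g * a ^ k * g⁻¹ ∧ a = g⁻¹ * b ^ j * g := by
  have hoa : orderOf a = q := orderOf_eq_prime ha ha1
  have hob : orderOf b = q := orderOf_eq_prime hb hb1
  have ia : IsMulCommutative ↥(Subgroup.zpowers a) :=
    ⟨⟨fun x y => by
      obtain ⟨x, ⟨m, rfl⟩⟩ := x
      obtain ⟨y, ⟨n, rfl⟩⟩ := y
      apply Subtype.ext
      show a ^ m * a ^ n = a ^ n * a ^ m
      rw [← zpow_add, ← zpow_add, add_comm]⟩⟩
  have ib : IsMulCommutative ↥(Subgroup.zpowers b) :=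
    ⟨⟨fun x y => by
      obtain ⟨x, ⟨m, rfl⟩⟩ := x
      obtain ⟨y, ⟨n, rfl⟩⟩ := y
      apply Subtype.ext
      show b ^ m * b ^ n = b ^ n * b ^ m
      rw [← zpow_add, ← zpow_add, add_comm]⟩⟩
  obtain ⟨g, hg⟩ := hB (Subgroup.zpowers a) (Subgroup.zpowers b) ia ib
    (by rw [Nat.card_zpowers, Nat.card_zpowers, hoa, hob])
  have h1 : b ∈ (Subgroup.zpowers a).map (MulAut.conj g).toMonoidHom :=
    hg ▸ Subgroup.mem_zpowers b
  obtain ⟨x, hx, hxb⟩ := h1
  obtain ⟨k, rfl⟩ := hx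
  have h2 : g * a * g⁻¹ ∈ Subgroup.zpowers b := by
    rw [hg]
    exact ⟨a, Subgroup.mem_zpowers a, by simp⟩
  obtain ⟨j, hj⟩ := h2
  refine ⟨g, k, j, ?_, ?_⟩
  · simpa using hxb.symm
  · have hj' : b ^ j = g * a * g⁻¹ := hj
    rw [hj']
    group

theorem CLIF1 {G : Type*} [Group G] [Finite G] (hB : BProp G) (F S : Subgroup G) [F.Normal]
    (hFab : ∀ a ∈ F, ∀ b ∈ F, a * b = b * a) (hSab : ∀ a ∈ S, ∀ b ∈ S, a * b = b * a)
    (hnc : ¬ IsCyclic ↥S) (r : ℕ) (hr : r.Prime) (hexp : ∀ x ∈ S, x ^ r = 1)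
    (hcop : (Nat.card ↥S).Coprime (Nat.card ↥F)) (hFS : (F ⊔ S).Normal)
    (N : Subgroup G) [N.Normal] (hNF : N ≤ F) (p : ℕ) (hp : p.Prime) (hNp : ∀ v ∈ N, v ^ p = 1) :
    N ≤ Subgroup.centralizer (S : Set G) := by
  have : Fact r.Prime := ⟨hr⟩
  have : Fact p.Prime := ⟨hp⟩
  have hinj : ∀ g : G, Function.Injective ((MulAut.conj g).toMonoidHom : G →* G) :=
    fun g => (MulAut.conj g).injective
  apply CLIF0 S N (fun a ha b hb => hFab a (hNF ha) b (hNF hb)) hSab hnc
  · exact Nat.Coprime.coprime_dvd_right (Subgroup.card_dvd_of_le hNF) hcop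
  · intro a ha b hb ha1 hb1
    obtain ⟨g, k, j, h1, h2⟩ := CLIF1_aux_conj hB a b r (hexp a ha) (hexp b hb) ha1 hb1
    have e1 := CLIF1_aux_cent_map a b g k j h1 h2
    have hN : N.map (MulAut.conj g).toMonoidHom = N := Subgroup.Normal.map_conj_eq N g
    calc Nat.card ↥(N ⊓ Subgroup.centralizer ({a} : Set G))
        = Nat.card ↥((N ⊓ Subgroup.centralizer ({a} : Set G)).map (MulAut.conj g).toMonoidHom) :=
          (Subgroup.card_map_of_injective (hinj g)).symm
      _ = Nat.card ↥(N ⊓ Subgroup.centralizer ({b} : Set G)) := by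
          rw [Subgroup.map_inf _ _ _ (hinj g), e1, hN]
  · intro v hv w hw hv1 hw1
    obtain ⟨g, k, j, h1, h2⟩ := CLIF1_aux_conj hB v w p (hNp v hv) (hNp w hw) hv1 hw1
    obtain ⟨f, hf, hfS⟩ := SCONJ F S hFab hcop hFS g
    have e1 := CLIF1_aux_cent_map v w g k j h1 h2
    have hwF : w ∈ F := hNF hw
    have hfw : f * w = w * f := hFab f hf w hwF
    have e2 := CLIF1_aux_cent_map w w f 1 1
      (by rw [zpow_one, hfw, mul_inv_cancel_right])
      (by rw [zpow_one, mul_assoc, ← hfw, inv_mul_cancel_left])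
    calc Nat.card ↥(S ⊓ Subgroup.centralizer ({v} : Set G))
        = Nat.card ↥((S ⊓ Subgroup.centralizer ({v} : Set G)).map (MulAut.conj g).toMonoidHom) :=
          (Subgroup.card_map_of_injective (hinj g)).symm
      _ = Nat.card ↥(S.map (MulAut.conj f).toMonoidHom ⊓
            (Subgroup.centralizer ({w} : Set G)).map (MulAut.conj f).toMonoidHom) := by
          rw [Subgroup.map_inf _ _ _ (hinj g), e1, hfS, e2]
      _ = Nat.card ↥((S ⊓ Subgroup.centralizer ({w} : Set G)).map (MulAut.conj f).toMonoidHom) := by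
          rw [Subgroup.map_inf _ _ _ (hinj f)]
      _ = Nat.card ↥(S ⊓ Subgroup.centralizer ({w} : Set G)) :=
          Subgroup.card_map_of_injective (hinj f)

end Cfsg.Agent.S3913P
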