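import Mathlib
import Cfsg.Prelude.Def_Transfer
import Cfsg.Agent.Helper4.S4404Defs
import Cfsg.Agent.Helper1.PGroup
import Cfsg.Agent.Lead.Coprime3

/-! Board `s4404pieces`, rows PGDER, PGCUBE, PGFULL (lemmas on `3`-groups). -/

set_option autoImplicit false
set_option linter.unusedVariables false
set_option linter.unusedSectionVars false
set_option linter.style.haveILetI false

namespace Cfsg.Agent.S4404P

open Subgroup
open scoped commutatorElement

variable {S : Type*} [Group S] [Finite S]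

/-- PGDER : `P' ≤ Φ(P)` and cubes lie in `Φ(P)` for a `3`-group `P`. -/
theorem der_le_fr_three (P : Subgroup S) (hP : IsPGroup 3 ↥P) : ⁅P, P⁆ ≤ Fr P ∧ ∀ t ∈ P, t ^ 3 ∈ Fr P := by
  haveI : Fact (Nat.Prime 3) := ⟨Nat.prime_three⟩
  constructor
  · unfold Fr
    rw [← Subgroup.map_subtype_commutator]
    exact Subgroup.map_mono (Cfsg.Agent.Helper1.IsPGroup.commutator_le_frattini hP)
  · intro t ht
    have h := Cfsg.Agent.Helper1.IsPGroup.pow_mem_frattini hP (⟨t, ht⟩ : ↥P)
    exact ⟨_, h, by simp⟩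

omit [Finite S] in
/-- the cube of a product when `c = y⁻¹x⁻¹yx` commutes with `x` and `y`. -/
theorem PGCUBE_aux_cube {H : Type*} [Group H] (x y c : H) (A : y * x = x * y * c) (hcx : c * x = x * c)
    (hcy : c * y = y * c) : (x * y) ^ 3 = x ^ 3 * y ^ 3 * c ^ 3 := by
  have B : x * y * (x * y) = x * x * (y * y) * c := by
    calc x * y * (x * y) = x * (y * x) * y := by group
      _ = x * (x * y * c) * y := by rw [A]
      _ = x * x * y * (c * y) := by group
      _ = x * x * y * (y * c) := by rw [hcy]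
      _ = x * x * (y * y) * c := by group
  calc (x * y) ^ 3 = x * y * (x * y) * (x * y) := by rw [pow_succ, pow_two]
    _ = x * x * (y * y) * c * (x * y) := by rw [B]
    _ = x * x * (y * y) * (c * x) * y := by group
    _ = x * x * (y * y) * (x * c) * y := by rw [hcx]
    _ = x * x * y * (y * x) * (c * y) := by group
    _ = x * x * y * (x * y * c) * (y * c) := by rw [A, hcy]
    _ = x * x * (y * x) * y * (c * y) * c := by group
    _ = x * x * (x * y * c) * y * (y * c) * c := by rw [A, hcy]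
    _ = x * x * x * y * (c * y) * y * c * c := by group
    _ = x * x * x * y * (y * c) * y * c * c := by rw [hcy]
    _ = x * x * x * y * y * (c * y) * c * c := by group
    _ = x * x * x * y * y * (y * c) * c * c := by rw [hcy]
    _ = x ^ 3 * y ^ 3 * c ^ 3 := by simp only [pow_succ, pow_zero, one_mul, mul_assoc]

omit [Finite S] in
/-- in a group with central commutators and central cubes, cubing is multiplicative. -/
theorem PGCUBE_aux_mul_cube {H : Type*} [Group H] (h1 : ∀ a b : H, a⁻¹ * b⁻¹ * a * b ∈ Subgroup.center H)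
    (h2 : ∀ a : H, a ^ 3 ∈ Subgroup.center H) (x y : H) : (x * y) ^ 3 = x ^ 3 * y ^ 3 := by
  set c : H := y⁻¹ * x⁻¹ * y * x with hc
  have hcc : c ∈ Subgroup.center H := h1 y x
  have hcomm : ∀ g : H, g * c = c * g := fun g => Subgroup.mem_center_iff.mp hcc g
  have A : y * x = x * y * c := by rw [hc]; group
  have hc3 : c ^ 3 = 1 := by
    have e1 : x⁻¹ * y * x = y * c := by rw [hc]; group
    have e2 : (x⁻¹ * y * x) ^ 3 = y ^ 3 := by
      have : (x⁻¹ * y * x) ^ 3 = x⁻¹ * y ^ 3 * x := by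
        simp only [pow_succ, pow_zero, one_mul, mul_assoc, mul_inv_cancel_left]
      rw [this]
      have h3 := Subgroup.mem_center_iff.mp (h2 y) x
      calc x⁻¹ * y ^ 3 * x = x⁻¹ * (y ^ 3 * x) := by group
        _ = x⁻¹ * (x * y ^ 3) := by rw [← h3]
        _ = y ^ 3 := by group
    have e3 : (y * c) ^ 3 = y ^ 3 * c ^ 3 := (show Commute y c from hcomm y).mul_pow 3
    rw [e1, e3] at e2
    exact mul_left_cancel (a := y ^ 3) (by rw [e2, mul_one])
  rw [PGCUBE_aux_cube x y c A (hcomm x).symm (hcomm y).symm, hc3, mul_one]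

/-- PGCUBE : if `Φ(P) ≤ Z(P)` in a `3`-group then `t ↦ t³` is a homomorphism `P → Φ(P)`; its kernel `Ω`. -/
theorem exists_omega (P : Subgroup S) (hP : IsPGroup 3 ↥P) (hΦ : Fr P ≤ Zc P) :
    ∃ Ω : Subgroup S, (∀ t : S, t ∈ Ω ↔ t ∈ P ∧ t ^ 3 = 1) ∧ Nat.card ↥P ≤ Nat.card ↥Ω * Nat.card ↥(Fr P) := by
  obtain ⟨hder, hcube⟩ := der_le_fr_three P hP
  -- elements of `Fr P` are central in `↥P`
  have hcen : ∀ z : ↥P, (z : S) ∈ Fr P → z ∈ Subgroup.center ↥P := by
    intro z hz
    have hz' := hΦ hz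
    rw [Subgroup.mem_center_iff]
    intro g
    have := (Subgroup.mem_centralizer_iff.mp (Subgroup.mem_inf.mp hz').2) (g : S) g.2
    exact Subtype.ext this
  have h1 : ∀ a b : ↥P, a⁻¹ * b⁻¹ * a * b ∈ Subgroup.center ↥P := by
    intro a b
    apply hcen
    apply hder
    have : ((a⁻¹ * b⁻¹ * a * b : ↥P) : S) = ⁅(a : S)⁻¹, (b : S)⁻¹⁆ := by
      simp [commutatorElement_def]
    rw [this]
    exact Subgroup.commutator_mem_commutator (P.inv_mem a.2) (P.inv_mem b.2)
  have h2 : ∀ a : ↥P, a ^ 3 ∈ Subgroup.center ↥P := by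
    intro a
    apply hcen
    have := hcube (a : S) a.2
    simpa using this
  let φ : ↥P →* ↥P :=
    { toFun := fun t => t ^ 3
      map_one' := one_pow 3
      map_mul' := PGCUBE_aux_mul_cube h1 h2 }
  refine ⟨φ.ker.map P.subtype, ?_, ?_⟩
  · intro t
    constructor
    · rintro ⟨u, hu, rfl⟩
      refine ⟨u.2, ?_⟩
      have : u ^ 3 = 1 := MonoidHom.mem_ker.mp hu
      have := congrArg Subtype.val this
      simpa using this
    · rintro ⟨ht, ht3⟩
      refine ⟨⟨t, ht⟩, ?_, rfl⟩
      show (⟨t, ht⟩ : ↥P) ∈ φ.ker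
      rw [MonoidHom.mem_ker]
      apply Subtype.ext
      show ((⟨t, ht⟩ : ↥P) ^ 3 : ↥P).1 = 1
      simpa using ht3
  · have hk : Nat.card ↥(φ.ker.map P.subtype) = Nat.card ↥φ.ker :=
      Subgroup.card_map_of_injective P.subtype_injective
    have hr : Nat.card ↥φ.range ≤ Nat.card ↥(Fr P) := by
      have hle : φ.range ≤ (Fr P).subgroupOf P := by
        rintro _ ⟨t, rfl⟩
        rw [Subgroup.mem_subgroupOf]
        show ((t ^ 3 : ↥P) : S) ∈ Fr P
        have := hcube (t : S) t.2
        simpa using this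
      calc Nat.card ↥φ.range ≤ Nat.card ↥((Fr P).subgroupOf P) := Subgroup.card_le_of_le hle
        _ = Nat.card ↥(Fr P) := Nat.card_congr (Subgroup.subgroupOfEquivOfLe (Fr_le P)).toEquiv
    have hL : Nat.card ↥φ.ker * φ.ker.index = Nat.card ↥P := Subgroup.card_mul_index φ.ker
    rw [Subgroup.index_ker] at hL
    rw [hk, ← hL]
    exact Nat.mul_le_mul_left _ hr

/-- PGFULL (`S0027`): `[T₀, a] = T₀`. -/
theorem minAct_comm_eq (T₀ : Subgroup S) (hT : IsPGroup 3 ↥T₀) (a : S) (q : ℕ) [Fact q.Prime] (hq3 : q ≠ 3)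
    (haq : ∃ k : ℕ, a ^ q ^ k = 1) (h : MinAct T₀ a) : ⁅T₀, zpowers a⁆ = T₀ := by
  haveI : Fact (Nat.Prime 3) := ⟨Nat.prime_three⟩
  obtain ⟨hN, hnC, hmin⟩ := h
  set K : Subgroup S := zpowers a with hK
  have haK : a ∈ K := Subgroup.mem_zpowers a
  have hKN : K ≤ normalizer (T₀ : Set S) := by rw [hK, Subgroup.zpowers_le]; exact hN
  -- coprimality
  have hcop : (Nat.card ↥K).Coprime (Nat.card ↥T₀) := by
    obtain ⟨k, hk⟩ := haq
    obtain ⟨n, hn⟩ := IsPGroup.iff_card.mp hT
    rw [hn, hK, Nat.card_zpowers]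
    have hdvd : orderOf a ∣ q ^ k := orderOf_dvd_of_pow_eq_one hk
    have hq : q.Prime := Fact.out
    have h3 : Nat.Coprime q 3 := (Nat.coprime_primes hq Nat.prime_three).mpr hq3
    exact Nat.Coprime.coprime_dvd_left hdvd ((h3.pow_left k).pow_right n)
  haveI := hT.isNilpotent
  have hcc : ⁅⁅T₀, K⁆, K⁆ = ⁅T₀, K⁆ :=
    Cfsg.Agent.Lead.coprime_commutator_commutator K T₀ hKN hcop (Or.inr inferInstance)
  have hle : ⁅T₀, K⁆ ≤ T₀ := Cfsg.Agent.Lead.commutator_le_of_le_normalizer hKN
  by_contra hne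
  -- `a` normalises `[T₀,K]`
  have haN : a ∈ normalizer ((⁅T₀, K⁆ : Subgroup S) : Set S) := by
    have hnorm : (⁅T₀, K⁆).map (MulAut.conj a).toMonoidHom = ⁅T₀, K⁆ := by
      rw [Subgroup.map_commutator]
      congr 1
      · ext x
        constructor
        · rintro ⟨y, hy, rfl⟩
          exact (Subgroup.mem_normalizer_iff.mp hN y).mp hy
        · intro hx
          refine ⟨a⁻¹ * x * a, ?_, ?_⟩
          · have := (Subgroup.mem_normalizer_iff.mp (Subgroup.inv_mem _ hN) x).mp hx
            simpa using this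
          · show a * (a⁻¹ * x * a) * a⁻¹ = x
            group
      · ext x
        constructor
        · rintro ⟨y, hy, rfl⟩
          exact K.mul_mem (K.mul_mem haK hy) (K.inv_mem haK)
        · intro hx
          refine ⟨a⁻¹ * x * a, K.mul_mem (K.mul_mem (K.inv_mem haK) hx) haK, ?_⟩
          show a * (a⁻¹ * x * a) * a⁻¹ = x
          group
    rw [Subgroup.mem_normalizer_iff]
    intro x
    constructor
    · intro hx
      rw [← hnorm]
      exact ⟨x, hx, rfl⟩
    · intro hx
      rw [← hnorm] at hx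
      obtain ⟨y, hy, hyx⟩ := hx
      have : y = x := by
        have h1 : a * y * a⁻¹ = a * x * a⁻¹ := hyx
        have h2 := mul_right_cancel h1
        exact mul_left_cancel h2
      rwa [← this]
  have haC := hmin _ hle hne haN
  -- hence `[[T₀,K],K] = ⊥`
  have hKC : K ≤ centralizer ((⁅T₀, K⁆ : Subgroup S) : Set S) := by
    rw [hK, Subgroup.zpowers_le]; exact haC
  have hbot : ⁅⁅T₀, K⁆, K⁆ = ⊥ := by
    rw [Subgroup.commutator_comm, Subgroup.commutator_eq_bot_iff_le_centralizer]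
    exact hKC
  rw [hbot] at hcc
  -- so `a` centralises `T₀`
  apply hnC
  have h3 : T₀ ≤ centralizer (K : Set S) := Subgroup.commutator_eq_bot_iff_le_centralizer.mp hcc.symm
  rw [Subgroup.mem_centralizer_iff]
  intro t ht
  have := (Subgroup.mem_centralizer_iff.mp (h3 ht)) a haK
  exact this.symm

end Cfsg.Agent.S4404P
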