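import Mathlib
import Cfsg.Agent.Helper8.D1Base
import Cfsg.Agent.Helper8.CharComp
import Cfsg.Agent.Helper24.Expansion

/-!
# Defect one: integrality and conjugation invariance of `Dnum`
-/

set_option autoImplicit false

namespace Cfsg.Agent.Helper8.D1

open Cfsg Cfsg.Agent.Helper24

variable {G : Type*} [Group G] [Finite G]

/-- `Dnum` is an integer -/
theorem Dnum_int {p : ℕ} (H : Subgroup G) {μ : H → ℂ} (hμ : IsPLin p μ) (θ : IrrCharacter H)
    (χ : IrrCharacter G) : ∃ d : ℤ, (d : ℂ) = Dnum H μ (θ : H → ℂ) (χ : G → ℂ) := by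
  classical
  have : Fintype H := Fintype.ofFinite H
  have : Fintype (IrrCharacter H) := Fintype.ofFinite _
  have hres : IsCharacter H (fun c : H => (χ : G → ℂ) c) :=
    Cfsg.Agent.Helper8.isCharacter_restrict H (IsIrrCharacter.isCharacter χ.2)
  obtain ⟨a, ha⟩ := IsCharacter.classInner_irr_nat hres ⟨_, hμ.isIrr_mul θ.2⟩
  obtain ⟨b, hb⟩ := IsCharacter.classInner_irr_nat hres θ
  refine ⟨(a : ℤ) - b, ?_⟩
  unfold Dnum
  have e1 : (Fintype.ofFinite H) = ‹Fintype H› := Subsingleton.elim _ _
  rw [e1]
  simp only at ha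
  rw [ha, hb]
  push_cast
  ring

/-- invariance under conjugation by `N_G(P)` -/
theorem Dnum_conj (P : Subgroup G) (n : G) (hn : n ∈ Subgroup.normalizer (P : Set G))
    (μ θ : ↥(Subgroup.centralizer (P : Set G)) → ℂ) {χ : G → ℂ} (hχ : IsClassFunction G χ) :
    Dnum (Subgroup.centralizer (P : Set G)) (fun c => μ (kap P n hn c))
      (fun c => θ (kap P n hn c)) χ = Dnum (Subgroup.centralizer (P : Set G)) μ θ χ := by
  classical
  let _ : Fintype ↥(Subgroup.centralizer (P : Set G)) := Fintype.ofFinite _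
  have key : ∀ F : ↥(Subgroup.centralizer (P : Set G)) → ℂ,
      classInner (fun c : ↥(Subgroup.centralizer (P : Set G)) => χ c)
          (fun c => F (kap P n hn c)) =
        classInner (fun c : ↥(Subgroup.centralizer (P : Set G)) => χ c) F := by
    intro F
    unfold classInner
    congr 1
    rw [← Equiv.sum_comp (kap P n hn).toEquiv
      (fun c => χ (c : G) * (starRingEnd ℂ) (F c))]
    apply Finset.sum_congr rfl
    intro c _
    congr 1
    show χ c = χ ((kap P n hn c : _) : G)
    rw [coe_kap]
    exact (hχ c n).symm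
  unfold Dnum
  show classInner (fun c : ↥(Subgroup.centralizer (P : Set G)) => χ c)
      (fun c => μ (kap P n hn c) * θ (kap P n hn c)) -
      classInner (fun c : ↥(Subgroup.centralizer (P : Set G)) => χ c) (fun c => θ (kap P n hn c)) =
    classInner (fun c : ↥(Subgroup.centralizer (P : Set G)) => χ c) (fun c => μ c * θ c) -
      classInner (fun c : ↥(Subgroup.centralizer (P : Set G)) => χ c) θ
  rw [key θ, key (fun c => μ c * θ c)]

end Cfsg.Agent.Helper8.D1
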