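import Mathlib
import Cfsg.Agent.Helper8.D1Base
import Cfsg.Agent.Helper8.D1Inv
import Cfsg.Agent.Helper24.Rep

/-!
# Defect one: `T`-conjugacy of `p`-linear functions on `C_G(P)`
-/

set_option autoImplicit false

namespace Cfsg.Agent.Helper8.D1

open Cfsg Cfsg.Agent.Helper24

variable {G : Type*} [Group G]

/-- non-trivial `p`-linear function -/
def NT (p : ℕ) {X : Type*} [Group X] (μ : X → ℂ) : Prop := IsPLin p μ ∧ ∃ x, μ x ≠ 1

/-- `ν` is a `T`-conjugate of `μ` -/
def TConj (P T : Subgroup G) (μ ν : ↥(Subgroup.centralizer (P : Set G)) → ℂ) : Prop :=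
  ∃ (n : G) (hn : n ∈ Subgroup.normalizer (P : Set G)), n ∈ T ∧ ν = fun c => μ (kap P n hn c)

theorem kap_one' (P : Subgroup G) (h1 : (1 : G) ∈ Subgroup.normalizer (P : Set G))
    (c : ↥(Subgroup.centralizer (P : Set G))) : kap P 1 h1 c = c := by
  apply Subtype.ext
  rw [coe_kap]
  group

theorem kap_mul' (P : Subgroup G) {a b : G} (ha : a ∈ Subgroup.normalizer (P : Set G))
    (hb : b ∈ Subgroup.normalizer (P : Set G)) (hab : a * b ∈ Subgroup.normalizer (P : Set G))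
    (c : ↥(Subgroup.centralizer (P : Set G))) :
    kap P (a * b) hab c = kap P a ha (kap P b hb c) := by
  apply Subtype.ext
  simp only [coe_kap]
  group

theorem kap_kap_inv' (P : Subgroup G) {a : G} (ha : a ∈ Subgroup.normalizer (P : Set G))
    (ha' : a⁻¹ ∈ Subgroup.normalizer (P : Set G))
    (c : ↥(Subgroup.centralizer (P : Set G))) :
    kap P a ha (kap P a⁻¹ ha' c) = c := by
  apply Subtype.ext
  simp only [coe_kap]
  group

theorem kap_pow (P : Subgroup G) {a : G} (ha : a ∈ Subgroup.normalizer (P : Set G))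
    (c : ↥(Subgroup.centralizer (P : Set G))) (k : ℕ) :
    kap P a ha (c ^ k) = (kap P a ha c) ^ k := map_pow _ _ _

theorem TConj.refl (P T : Subgroup G) (μ : ↥(Subgroup.centralizer (P : Set G)) → ℂ) :
    TConj P T μ μ :=
  ⟨1, Subgroup.one_mem _, Subgroup.one_mem _, funext fun c => by rw [kap_one']⟩

theorem TConj.symm {P T : Subgroup G} {μ ν : ↥(Subgroup.centralizer (P : Set G)) → ℂ}
    (h : TConj P T μ ν) : TConj P T ν μ := by
  obtain ⟨n, hn, hnT, rfl⟩ := h
  refine ⟨n⁻¹, Subgroup.inv_mem _ hn, Subgroup.inv_mem _ hnT, funext fun c => ?_⟩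
  simp only
  rw [kap_kap_inv']

theorem TConj.trans {P T : Subgroup G} {μ ν ρ : ↥(Subgroup.centralizer (P : Set G)) → ℂ}
    (h : TConj P T μ ν) (h' : TConj P T ν ρ) : TConj P T μ ρ := by
  obtain ⟨n, hn, hnT, rfl⟩ := h
  obtain ⟨m, hm, hmT, rfl⟩ := h'
  refine ⟨n * m, Subgroup.mul_mem _ hn hm, Subgroup.mul_mem _ hnT hmT, funext fun c => ?_⟩
  simp only
  rw [kap_mul' P hn hm]

/-- `T`-conjugacy preserves non-triviality -/
theorem TConj.nt {p : ℕ} {P T : Subgroup G} {μ ν : ↥(Subgroup.centralizer (P : Set G)) → ℂ}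
    (h : TConj P T μ ν) (hμ : NT p μ) : NT p ν := by
  obtain ⟨n, hn, -, rfl⟩ := h
  refine ⟨hμ.1.comp (kap P n hn), ?_⟩
  obtain ⟨x, hx⟩ := hμ.2
  refine ⟨(kap P n hn).symm x, ?_⟩
  simp only
  rwa [MulEquiv.apply_symm_apply]

/-- `T`-conjugacy is compatible with composing with a power map -/
theorem TConj.pow {P T : Subgroup G} {μ ν : ↥(Subgroup.centralizer (P : Set G)) → ℂ}
    (h : TConj P T μ ν) (k : ℕ) : TConj P T (fun c => μ (c ^ k)) (fun c => ν (c ^ k)) := by
  obtain ⟨n, hn, hnT, rfl⟩ := h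
  refine ⟨n, hn, hnT, funext fun c => ?_⟩
  simp only
  rw [kap_pow]

end Cfsg.Agent.Helper8.D1
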