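import Mathlib
import Cfsg.Prelude.Def_Characters
import Cfsg.Agent.Helper8.Ind
import Cfsg.Agent.Helper8.CharComp
import Cfsg.Agent.Helper24.Induced
import Cfsg.Agent.Helper24.Expansion
import Cfsg.Agent.Helper24.Elementary
import Cfsg.Agent.Helper24.BrauerChar

/-!
# `|G|_p` times the `p`-regular truncation of a character is a generalized character

* `exists_normal_pComplement_of_isNilpotent`: a finite nilpotent group has a normal
  `p`-complement, consisting exactly of the `p`-regular elements.
* `isCharacter_pRegular_of_isNilpotent`: for nilpotent `E`, `|E|_p * θ` truncated to the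
  `p`-regular elements is a character.
* `isGeneralizedCharacter_pRegular`: for any finite `G` and character `χ`,
  `x ↦ if p ∣ orderOf x then 0 else |G|_p * χ x` is a generalized character
  (through Brauer's characterization of characters).
-/

namespace Cfsg.Agent.Helper8.PRegular

open Subgroup

theorem mem_of_coprime_index_orderOf {E : Type*} [Group E] (K : Subgroup E) [K.Normal]
    (e : E) (h : (K.index).Coprime (orderOf e)) : e ∈ K := by
  have h1 : e ^ K.index ∈ K := Subgroup.pow_index_mem K e
  obtain ⟨m, hm⟩ := exists_pow_eq_self_of_coprime h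
  rw [← hm]
  exact Subgroup.pow_mem _ h1 m

theorem orderOf_conj_eq {E : Type*} [Group E] (g k : E) :
    orderOf (g * k * g⁻¹) = orderOf k := by
  have := orderOf_injective (MulAut.conj g).toMonoidHom (MulAut.conj g).injective k
  simpa [MulAut.conj_apply] using this

/-- A finite nilpotent group has a normal `p`-complement, consisting exactly of the
`p`-regular elements. -/
theorem exists_normal_pComplement_of_isNilpotent {E : Type*} [Group E] [Finite E]
    [hn : Group.IsNilpotent E] (p : ℕ) [hp : Fact p.Prime] :
    ∃ K : Subgroup E, K.Normal ∧ (∀ e : E, e ∈ K ↔ ¬ p ∣ orderOf e) ∧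
      K.index = p ^ (Nat.card E).factorization p := by
  classical
  obtain ⟨P⟩ : Nonempty (Sylow p E) := inferInstance
  have hPn : (P : Subgroup E).Normal :=
    Sylow.normal_of_normalizerCondition Group.normalizerCondition_of_isNilpotent P
  obtain ⟨K, hK⟩ := Subgroup.exists_right_complement'_of_coprime (P.card_coprime_index)
  have hcard : Nat.card (P : Subgroup E) * Nat.card K = Nat.card E := hK.card_mul_card
  have hPcard : Nat.card (P : Subgroup E) = p ^ (Nat.card E).factorization p :=
    P.card_eq_multiplicity
  have hidx : K.index = p ^ (Nat.card E).factorization p := by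
    have h1 := K.card_mul_index
    rw [← hcard, mul_comm] at h1
    have hK0 : Nat.card K ≠ 0 := Nat.card_pos.ne'
    have := Nat.eq_of_mul_eq_mul_right (Nat.pos_of_ne_zero hK0) h1
    rw [this, hPcard]
  have hKcop : (Nat.card K).Coprime p := by
    have h1 : Nat.card K = (P : Subgroup E).index := by
      have h2 := (P : Subgroup E).card_mul_index
      rw [← hcard] at h2
      have hP0 : Nat.card (P : Subgroup E) ≠ 0 := Nat.card_pos.ne'
      exact (Nat.eq_of_mul_eq_mul_left (Nat.pos_of_ne_zero hP0) h2).symm
    rw [h1]
    have := P.card_coprime_index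
    rw [hPcard] at this
    by_cases h0 : (Nat.card E).factorization p = 0
    · rw [Nat.coprime_comm, Nat.Prime.coprime_iff_not_dvd hp.out]
      intro hdvd
      have : p ∣ Nat.card E := by
        rw [← (P : Subgroup E).card_mul_index]; exact Dvd.dvd.mul_left hdvd _
      have := (Nat.Prime.factorization_pos_of_dvd hp.out Nat.card_pos.ne' this)
      omega
    · exact (Nat.Coprime.coprime_dvd_left (dvd_pow_self p h0) this).symm
  have hKnorm : K.Normal := by
    rw [← Subgroup.normalizer_eq_top_iff]
    by_contra hne
    have hlt : normalizer (K : Set E) < ⊤ := lt_top_iff_ne_top.mpr hne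
    have h2 := Group.normalizerCondition_of_isNilpotent (G := E) _ hlt
    obtain ⟨g, hgN, hgK⟩ := SetLike.exists_of_lt h2
    apply hgK
    rw [Subgroup.mem_normalizer_iff]
    have hsub : ∀ k ∈ K, g * k * g⁻¹ ∈ K := by
      intro k hk
      have hkN : k ∈ normalizer (K : Set E) := Subgroup.le_normalizer hk
      have hconjN : g * k * g⁻¹ ∈ normalizer (K : Set E) :=
        (Subgroup.mem_normalizer_iff.mp hgN k).mp hkN
      have : (K.subgroupOf (normalizer (K : Set E))).Normal := Subgroup.normal_in_normalizer
      have hmem : (⟨g * k * g⁻¹, hconjN⟩ : normalizer (K : Set E)) ∈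
          K.subgroupOf (normalizer (K : Set E)) := by
        apply mem_of_coprime_index_orderOf
        have h3 : (K.subgroupOf (normalizer (K : Set E))).index ∣
            p ^ (Nat.card E).factorization p := by
          rw [← hidx]
          exact Subgroup.relIndex_dvd_index_of_le Subgroup.le_normalizer
        have h4 : orderOf (⟨g * k * g⁻¹, hconjN⟩ : normalizer (K : Set E)) ∣ Nat.card K := by
          rw [← Subgroup.orderOf_coe]
          simp only
          rw [orderOf_conj_eq]
          have := orderOf_dvd_natCard (⟨k, hk⟩ : K)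
          rwa [← Subgroup.orderOf_coe] at this
        refine Nat.Coprime.coprime_dvd_left h3 (Nat.Coprime.coprime_dvd_right h4 ?_)
        exact Nat.Coprime.pow_left _ hKcop.symm
      exact Subgroup.mem_subgroupOf.mp hmem
    intro k
    constructor
    · intro hk; exact hsub k hk
    · intro hk
      have hinj : Function.Injective (fun k : K => (⟨g * k * g⁻¹, hsub k k.2⟩ : K)) := by
        intro a b hab
        have := congrArg Subtype.val hab
        simp only at this
        rw [mul_assoc, mul_assoc] at this
        exact Subtype.ext (mul_right_cancel (mul_left_cancel this))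
      obtain ⟨k', hk'⟩ := (Finite.injective_iff_surjective.mp hinj) ⟨g * k * g⁻¹, hk⟩
      have := congrArg Subtype.val hk'
      simp only at this
      rw [mul_assoc, mul_assoc] at this
      have : (k' : E) = k := mul_right_cancel (mul_left_cancel this)
      rw [← this]; exact k'.2
  refine ⟨K, hKnorm, ?_, hidx⟩
  intro e
  constructor
  · intro he hdvd
    have h1 : orderOf e ∣ Nat.card K := by
      have := orderOf_dvd_natCard (⟨e, he⟩ : K)
      rwa [← Subgroup.orderOf_coe] at this
    have := (Nat.Prime.coprime_iff_not_dvd hp.out).mp hKcop.symm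
    exact this (dvd_trans hdvd h1)
  · intro he
    have := hKnorm
    apply mem_of_coprime_index_orderOf
    rw [hidx]
    exact Nat.Coprime.pow_left _ ((Nat.Prime.coprime_iff_not_dvd hp.out).mpr he)

universe u

/-- Induction from a normal subgroup `K` made of the `p`-regular elements. -/
theorem indFun_pComplement {E : Type u} [Group E] [Fintype E] (p b : ℕ)
    (K : Subgroup E) [hKn : K.Normal] (hK : ∀ e : E, e ∈ K ↔ ¬ p ∣ orderOf e)
    (hidx : K.index = p ^ b) (θ : E → ℂ) (hθ : Cfsg.IsClassFunction E θ) :
    Cfsg.indFun K (fun k : K => θ k) =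
      fun e : E => if p ∣ orderOf e then (0 : ℂ) else ((p ^ b : ℕ) : ℂ) * θ e := by
  funext e
  by_cases he : p ∣ orderOf e
  · rw [if_pos he]
    apply Cfsg.Agent.Helper8.indFun_eq_zero_of_not_mem
    intro h
    exact (hK e).mp h he
  · rw [if_neg he]
    have heK : e ∈ K := (hK e).mpr he
    have := Cfsg.Agent.Helper8.indFun_normal_apply K (fun k : K => θ k) ⟨e, heK⟩
    simp only at this
    rw [this]
    have h1 : ∀ x : E, θ (x * e * x⁻¹) = θ e := fun x => hθ e x
    simp only [h1, Finset.sum_const, Finset.card_univ, nsmul_eq_mul]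
    rw [← hidx, ← Nat.card_eq_fintype_card, ← K.card_mul_index]
    have hK0 : (Nat.card K : ℂ) ≠ 0 := by
      exact_mod_cast (Nat.card_pos (α := K)).ne'
    push_cast
    field_simp

/-- For nilpotent `E`, `|E|_p` times the `p`-regular truncation of a character is a
character. -/
theorem isCharacter_pRegular_of_isNilpotent {E : Type u} [Group E] [Fintype E]
    [hn : Group.IsNilpotent E] (p : ℕ) [hp : Fact p.Prime] {θ : E → ℂ}
    (hθ : Cfsg.IsCharacter E θ) :
    Cfsg.IsCharacter E (fun e : E => if p ∣ orderOf e then (0 : ℂ) else
      ((p ^ (Nat.card E).factorization p : ℕ) : ℂ) * θ e) := by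
  obtain ⟨K, hKn, hK, hidx⟩ := exists_normal_pComplement_of_isNilpotent (E := E) p
  rw [← indFun_pComplement p _ K hK hidx θ (Cfsg.Agent.Helper24.IsCharacter.isClassFunction hθ)]
  exact Cfsg.Agent.Helper24.isCharacter_indFun K (Cfsg.Agent.Helper8.isCharacter_restrict K hθ)

theorem isClassFunction_pRegular {G : Type u} [Group G] (p : ℕ) (c : ℂ) {χ : G → ℂ}
    (hχ : Cfsg.IsClassFunction G χ) :
    Cfsg.IsClassFunction G (fun x : G => if p ∣ orderOf x then (0 : ℂ) else c * χ x) := by
  intro g h
  simp only
  rw [orderOf_conj_eq, hχ g h]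

/-- **`|G|_p χ̃` is a generalized character.** -/
theorem isGeneralizedCharacter_pRegular {G : Type u} [Group G] [Fintype G] (p : ℕ)
    [hp : Fact p.Prime] {χ : G → ℂ} (hχ : Cfsg.IsCharacter G χ) :
    Cfsg.IsGeneralizedCharacter G (fun x : G => if p ∣ orderOf x then (0 : ℂ) else
      ((p ^ (Nat.card G).factorization p : ℕ) : ℂ) * χ x) := by
  classical
  apply Cfsg.Agent.Helper24.isGeneralizedCharacter_of_restrict_elementary
  · exact isClassFunction_pRegular p _ (Cfsg.Agent.Helper24.IsCharacter.isClassFunction hχ)
  · intro E q hq hE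
    haveI : Fintype E := Fintype.ofFinite E
    haveI : Group.IsNilpotent E := Cfsg.Agent.Helper24.IsElementary.isNilpotent hq hE
    have h1 := isCharacter_pRegular_of_isNilpotent (E := E) p
      (Cfsg.Agent.Helper8.isCharacter_restrict E hχ)
    -- compare exponents
    have hdvd : Nat.card E ∣ Nat.card G := Subgroup.card_subgroup_dvd_card E
    have hle : (Nat.card E).factorization p ≤ (Nat.card G).factorization p :=
      (Nat.factorization_le_iff_dvd Nat.card_pos.ne' Nat.card_pos.ne').mpr hdvd p
    have h2 := Cfsg.Agent.Helper24.IsCharacter.nsmul h1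
      (p ^ ((Nat.card G).factorization p - (Nat.card E).factorization p))
    refine Cfsg.Agent.Helper24.IsCharacter.isGeneralizedCharacter ?_
    convert h2 using 1
    funext e
    simp only [Pi.smul_apply, Subgroup.orderOf_coe]
    by_cases he : p ∣ orderOf e
    · simp [he]
    · simp only [he, if_false, nsmul_eq_mul]
      rw [← mul_assoc]
      congr 1
      rw [← Nat.cast_mul, ← pow_add, Nat.sub_add_cancel hle]

end Cfsg.Agent.Helper8.PRegular
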