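import Mathlib
import Cfsg.Agent.Helper8.D1Base
import Cfsg.Agent.Helper24.Orthogonality
import Cfsg.Agent.Helper24.Abelian
import Cfsg.Agent.Helper20.D1Lattice

/-!
# Defect one: the linear-algebra lemma `|κ| + l(B) ≤ k(B)`

If `κ` linearly independent combinations of the members of `B` vanish on the `p`-regular elements
then `|κ| + blockRank p B ≤ |B|`.
-/

set_option autoImplicit false

namespace Cfsg.Agent.Helper8.D1

open Cfsg Cfsg.Agent.Helper24

set_option linter.unusedSectionVars false

variable {G : Type*} [Group G] [Finite G]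

/-- `pRegularPart` as a linear map -/
noncomputable def pRegLin (p : ℕ) : (G → ℂ) →ₗ[ℂ] (G → ℂ) where
  toFun φ := pRegularPart p φ
  map_add' φ φ' := by
    funext g
    unfold pRegularPart
    simp only [Pi.add_apply]
    split_ifs <;> simp
  map_smul' c φ := by
    funext g
    unfold pRegularPart
    simp only [Pi.smul_apply, RingHom.id_apply]
    split_ifs <;> simp

theorem pRegLin_apply (p : ℕ) (φ : G → ℂ) : pRegLin p φ = pRegularPart p φ := rfl

theorem pRegularPart_of_reg (p : ℕ) (φ : G → ℂ) {g : G} (hg : ¬ p ∣ orderOf g) :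
    pRegularPart p φ g = φ g := by
  unfold pRegularPart
  rw [if_pos (show IsPRegular p g from hg)]

theorem pRegularPart_of_sing (p : ℕ) (φ : G → ℂ) {g : G} (hg : p ∣ orderOf g) :
    pRegularPart p φ g = 0 := by
  unfold pRegularPart
  rw [if_neg (fun h : IsPRegular p g => h hg)]

/-- the linear-algebra lemma -/
theorem card_add_blockRank_le [Fintype (IrrCharacter G)] (p : ℕ) (B : Set (IrrCharacter G))
    {κ : Type*} [Fintype κ] (a : κ → IrrCharacter G → ℂ)
    (hsupp : ∀ k ψ, ψ ∉ B → a k ψ = 0)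
    (hvan : ∀ k (x : G), ¬ p ∣ orderOf x → ∑ ψ, a k ψ * (ψ : G → ℂ) x = 0)
    (hnd : ∀ c : κ → ℂ, (∀ ψ, ∑ k, c k * a k ψ = 0) → ∀ k, c k = 0) :
    Fintype.card κ + blockRank p B ≤ Nat.card B := by
  classical
  have hli := linearIndependent_irr (G := G)
  -- the span of `B`
  set V : Submodule ℂ (G → ℂ) :=
    Submodule.span ℂ ((fun χ : IrrCharacter G => (χ : G → ℂ)) '' B) with hV
  have hVcard : Module.finrank ℂ V = Nat.card B := by
    have h1 : (fun χ : IrrCharacter G => (χ : G → ℂ)) '' B =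
        Set.range (fun b : B => ((b : IrrCharacter G) : G → ℂ)) := by
      ext φ
      constructor
      · rintro ⟨χ, hχ, rfl⟩; exact ⟨⟨χ, hχ⟩, rfl⟩
      · rintro ⟨b, rfl⟩; exact ⟨b.1, b.2, rfl⟩
    have h2 : LinearIndependent ℂ (fun b : B => ((b : IrrCharacter G) : G → ℂ)) :=
      hli.comp Subtype.val Subtype.val_injective
    rw [hV, h1, finrank_span_eq_card h2, Nat.card_eq_fintype_card]
  -- the restriction map
  set f : V →ₗ[ℂ] (G → ℂ) := (pRegLin p).domRestrict V with hf
  have hrange : Module.finrank ℂ (LinearMap.range f) = blockRank p B := by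
    rw [hf, LinearMap.range_domRestrict, hV, Submodule.map_span, Set.image_image]
    rfl
  have hrn := LinearMap.finrank_range_add_finrank_ker f
  -- the family in the kernel
  set u : κ → (G → ℂ) := fun k => ∑ ψ, a k ψ • (ψ : G → ℂ) with hu
  have huV : ∀ k, u k ∈ V := by
    intro k
    apply Submodule.sum_mem
    intro ψ _
    by_cases hψ : ψ ∈ B
    · exact Submodule.smul_mem _ _ (Submodule.subset_span ⟨ψ, hψ, rfl⟩)
    · rw [hsupp k ψ hψ, zero_smul]; exact Submodule.zero_mem _
  have huker : ∀ k, (⟨u k, huV k⟩ : V) ∈ LinearMap.ker f := by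
    intro k
    rw [LinearMap.mem_ker, hf, LinearMap.domRestrict_apply, pRegLin_apply]
    funext x
    by_cases hx : p ∣ orderOf x
    · rw [pRegularPart_of_sing p _ hx]; rfl
    · rw [pRegularPart_of_reg p _ hx]
      show u k x = 0
      rw [hu]
      simp only [Finset.sum_apply, Pi.smul_apply, smul_eq_mul]
      exact hvan k x hx
  have huli : LinearIndependent ℂ u := by
    rw [Fintype.linearIndependent_iff]
    intro c hc
    have h1 : ∑ ψ : IrrCharacter G, (∑ k, c k * a k ψ) • (ψ : G → ℂ) = 0 := by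
      rw [← hc]
      simp only [hu, Finset.smul_sum, Finset.sum_smul, smul_smul]
      rw [Finset.sum_comm]
    have h2 := Fintype.linearIndependent_iff.mp hli _ h1
    exact hnd c h2
  have hwli : LinearIndependent ℂ (fun k => (⟨⟨u k, huV k⟩, huker k⟩ : LinearMap.ker f)) := by
    apply LinearIndependent.of_comp (V.subtype.comp (LinearMap.ker f).subtype)
    exact huli
  have hle := hwli.fintype_card_le_finrank
  rw [← hVcard, ← hrn, hrange]
  omega


theorem sum_eq_sum_subtype_of_support [Fintype (IrrCharacter G)] {R : Type*} [AddCommMonoid R]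
    (B : Set (IrrCharacter G)) [DecidablePred (· ∈ B)] (f : IrrCharacter G → R)
    (h : ∀ χ, χ ∉ B → f χ = 0) : ∑ χ, f χ = ∑ b : B, f b := by
  classical
  rw [← Finset.sum_subtype (Finset.univ.filter (· ∈ B)) (by simp) f]
  rw [Finset.sum_filter]
  apply Finset.sum_congr rfl
  intro χ _
  by_cases hχ : χ ∈ B
  · rw [if_pos hχ]
  · rw [if_neg hχ, h χ hχ]

/-- nondegeneracy of the Gram matrix `e J + I` -/
theorem gram_nondeg [Fintype (IrrCharacter G)] {ι : Type*} [Fintype ι] [DecidableEq ι] (e : ℕ)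
    (D : ι → IrrCharacter G → ℤ)
    (hgram : ∀ i j, ∑ χ, D i χ * D j χ = (e : ℤ) + if i = j then 1 else 0)
    (c : ι → ℂ) (hc : ∀ ψ, ∑ i, c i * (D i ψ : ℂ) = 0) : ∀ i, c i = 0 := by
  have hgramC : ∀ i j, ∑ χ, (D i χ : ℂ) * (D j χ : ℂ) = (e : ℂ) + if i = j then 1 else 0 := by
    intro i j
    have h2 := congrArg (Int.cast : ℤ → ℂ) (hgram i j)
    by_cases hij : i = j
    · rw [if_pos hij] at h2 ⊢
      push_cast at h2
      exact h2
    · rw [if_neg hij] at h2 ⊢
      push_cast at h2
      exact h2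
  set S := ∑ i, c i with hS
  have hj : ∀ j, (e : ℂ) * S + c j = 0 := by
    intro j
    have h1 : ∑ ψ, (∑ i, c i * (D i ψ : ℂ)) * (D j ψ : ℂ) = 0 := by
      apply Finset.sum_eq_zero
      intro ψ _
      rw [hc ψ, zero_mul]
    rw [← h1]
    simp only [Finset.sum_mul]
    rw [Finset.sum_comm]
    have h2 : ∀ i, ∑ ψ, c i * (D i ψ : ℂ) * (D j ψ : ℂ) =
        c i * ((e : ℂ) + if i = j then 1 else 0) := by
      intro i
      rw [← hgramC i j, Finset.mul_sum]
      apply Finset.sum_congr rfl
      intro ψ _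
      ring
    rw [Finset.sum_congr rfl (fun i _ => h2 i)]
    simp only [mul_add, Finset.sum_add_distrib, mul_ite, mul_one, mul_zero,
      Finset.sum_ite_eq', Finset.mem_univ, if_true]
    rw [← Finset.sum_mul, ← hS]
    ring
  have hsum : S * ((e : ℂ) * (Fintype.card ι : ℂ) + 1) = 0 := by
    have h1 : ∑ j, ((e : ℂ) * S + c j) = 0 := Finset.sum_eq_zero (fun j _ => hj j)
    rw [Finset.sum_add_distrib, Finset.sum_const, Finset.card_univ, nsmul_eq_mul, ← hS] at h1
    rw [← h1]; ring
  have hne : ((e : ℂ) * (Fintype.card ι : ℂ) + 1) ≠ 0 := by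
    have : ((e * Fintype.card ι + 1 : ℕ) : ℂ) ≠ 0 :=
      Nat.cast_ne_zero.mpr (Nat.succ_ne_zero (e * Fintype.card ι))
    push_cast at this
    exact this
  have hS0 : S = 0 := by
    rcases mul_eq_zero.mp hsum with h | h
    · exact h
    · exact absurd h hne
  intro j
  have := hj j
  rw [hS0, mul_zero, zero_add] at this
  exact this

/-- **abstract core** -/
theorem abstract_core [Fintype (IrrCharacter G)] [DecidableEq (IrrCharacter G)] (p : ℕ)
    (hp1 : ¬ p ∣ 1)
    (B : Set (IrrCharacter G))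
    {ι : Type*} [Fintype ι] [DecidableEq ι] [Nonempty ι] (e : ℕ)
    (D : ι → IrrCharacter G → ℤ)
    (hgram : ∀ i j, ∑ χ, D i χ * D j χ = (e : ℤ) + if i = j then 1 else 0)
    (hvan : ∀ i (x : G), ¬ p ∣ orderOf x → ∑ χ, (D i χ : ℂ) * (χ : G → ℂ) x = 0)
    (hsupp0 : ∀ i χ, χ ∉ B → D i χ = 0)
    (hsupp : ∀ χ ∈ B, ∑ i, D i χ ≠ 0)
    (hrank : e ≤ blockRank p B) :
    Nat.card B = e + Fintype.card ι ∧
    ∃ (ψ : ι → IrrCharacter G) (ε : ℤ) (w : IrrCharacter G → ℤ), Function.Injective ψ ∧
      (∀ i, ψ i ∈ B) ∧ (ε = 1 ∨ ε = -1) ∧ (∀ i, w (ψ i) = 0) ∧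
      (∀ χ ∈ B, χ ∉ Set.range ψ → (w χ = 1 ∨ w χ = -1)) ∧ (∀ χ, χ ∉ B → w χ = 0) ∧
      (∀ i χ, D i χ = w χ + if χ = ψ i then ε else 0) ∧
      (∀ χ ∈ B, ∀ χ' ∈ B, (∀ x : G, ¬ p ∣ orderOf x → (χ : G → ℂ) x = (χ' : G → ℂ) x) →
        (∀ i, D i χ = D i χ') → χ = χ') := by
  classical
  -- Step 1, 2
  have hnd := gram_nondeg e D hgram
  have hLA := card_add_blockRank_le p B (fun i χ => (D i χ : ℂ))
    (fun i χ hχ => by rw [hsupp0 i χ hχ]; simp) hvan hnd
  have hcard : e + Fintype.card ι ≤ Nat.card B := by omega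
  -- Step 3
  have hBcard : Nat.card B = Fintype.card B := Nat.card_eq_fintype_card
  have hgram' : ∀ i j, ∑ b : B, D i b * D j b = (e : ℤ) + if i = j then 1 else 0 := by
    intro i j
    rw [← hgram i j]
    exact (sum_eq_sum_subtype_of_support B (fun χ => D i χ * D j χ)
      (fun χ hχ => by rw [hsupp0 i χ hχ, zero_mul])).symm
  have horth' : ∀ i, ∑ b : B, D i b * (irrDeg (b : IrrCharacter G) : ℤ) = 0 := by
    intro i
    have h1 := hvan i 1 (by rw [orderOf_one]; exact hp1)
    have h2 : ∑ χ : IrrCharacter G, D i χ * (irrDeg χ : ℤ) = 0 := by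
      have h3 : ((∑ χ : IrrCharacter G, D i χ * (irrDeg χ : ℤ) : ℤ) : ℂ) = 0 := by
        rw [← h1]
        push_cast
        apply Finset.sum_congr rfl
        intro χ _
        rw [irrDeg_spec]
      exact_mod_cast h3
    rw [← h2]
    exact (sum_eq_sum_subtype_of_support B (fun χ => D i χ * (irrDeg χ : ℤ))
      (fun χ hχ => by rw [hsupp0 i χ hχ, zero_mul])).symm
  obtain ⟨hcardeq, ψ', ε, w', hinj, hε, hw0, hw1, hD⟩ :=
    Cfsg.Agent.Helper20.D1Lattice.lattice_structure (β := B) e (fun i b => D i b)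
      (fun b => (irrDeg (b : IrrCharacter G) : ℤ))
      (fun b => by exact_mod_cast irrDeg_pos (b : IrrCharacter G)) hgram' horth'
      (fun b => hsupp b.1 b.2) (by rw [← hBcard]; exact hcard)
  have hBeq : Nat.card B = e + Fintype.card ι := by rw [hBcard]; exact hcardeq
  refine ⟨hBeq, fun i => (ψ' i).1, ε, fun χ => if h : χ ∈ B then w' ⟨χ, h⟩ else 0, ?_, ?_, hε,
    ?_, ?_, ?_, ?_, ?_⟩
  · exact Subtype.val_injective.comp hinj
  · intro i; exact (ψ' i).2
  · intro i
    dsimp only
    rw [dif_pos (ψ' i).2]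
    exact hw0 i
  · intro χ hχ hr
    dsimp only
    rw [dif_pos hχ]
    apply hw1
    rintro ⟨i, hi⟩
    exact hr ⟨i, by show ((ψ' i : B) : IrrCharacter G) = χ; rw [hi]⟩
  · intro χ hχ
    dsimp only
    rw [dif_neg hχ]
  · intro i χ
    dsimp only
    by_cases hχ : χ ∈ B
    · rw [dif_pos hχ]
      have := hD i ⟨χ, hχ⟩
      simp only at this
      rw [this]
      congr 1
      by_cases h : (⟨χ, hχ⟩ : B) = ψ' i
      · rw [if_pos h, if_pos (by rw [← h])]
      · rw [if_neg h, if_neg (fun h' => h (Subtype.ext h'))]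
    · rw [dif_neg hχ, hsupp0 i χ hχ, zero_add, if_neg]
      intro h
      exact hχ (h ▸ (ψ' i).2)
  · -- rigidity
    intro χ hχ χ' hχ' hreg hDeq
    by_contra hne
    set a : Option ι → IrrCharacter G → ℂ := fun k ψ =>
      match k with
      | none => (if ψ = χ then 1 else 0) - (if ψ = χ' then 1 else 0)
      | some i => (D i ψ : ℂ) with ha
    have hpair : ∀ F : IrrCharacter G → ℂ, ∑ ψ, a none ψ * F ψ = F χ - F χ' := by
      intro F
      simp only [ha, sub_mul, ite_mul, one_mul, zero_mul, Finset.sum_sub_distrib,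
        Finset.sum_ite_eq', Finset.mem_univ, if_true]
    have hLA2 := card_add_blockRank_le p B a ?_ ?_ ?_
    · rw [Fintype.card_option] at hLA2
      omega
    · intro k ψ hψ
      cases k with
      | none =>
        simp only [ha]
        rw [if_neg (fun h : ψ = χ => hψ (by rw [h]; exact hχ)),
          if_neg (fun h : ψ = χ' => hψ (by rw [h]; exact hχ')), sub_zero]
      | some i => simp only [ha]; rw [hsupp0 i ψ hψ]; simp
    · intro k x hx
      cases k with
      | none => rw [hpair, hreg x hx, sub_self]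
      | some i => exact hvan i x hx
    · intro c hc
      have hc' : ∀ ψ, c none * a none ψ + ∑ i, c (some i) * (D i ψ : ℂ) = 0 := by
        intro ψ
        have := hc ψ
        rw [Fintype.sum_option] at this
        exact this
      have h0 : c none = 0 := by
        have h1 : ∑ ψ, a none ψ * (c none * a none ψ + ∑ i, c (some i) * (D i ψ : ℂ)) = 0 := by
          apply Finset.sum_eq_zero
          intro ψ _
          rw [hc' ψ, mul_zero]
        rw [hpair] at h1
        have h2 : a none χ = 1 := by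
          simp [ha, hne]
        have h3 : a none χ' = -1 := by
          have hne' : ¬ χ' = χ := fun h => hne h.symm
          simp [ha, hne']
        rw [h2, h3] at h1
        have h4 : ∀ i, (D i χ : ℂ) = (D i χ' : ℂ) := fun i => by rw [hDeq i]
        simp only [h4] at h1
        have : c none * 2 = 0 := by linear_combination h1
        rcases mul_eq_zero.mp this with h | h
        · exact h
        · norm_num at h
      have hrest : ∀ i, c (some i) = 0 := by
        apply hnd (fun i => c (some i))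
        intro ψ
        have := hc' ψ
        rw [h0, zero_mul, zero_add] at this
        exact this
      intro k
      cases k with
      | none => exact h0
      | some i => exact hrest i

end Cfsg.Agent.Helper8.D1
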