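import Mathlib
import Cfsg.Agent.Helper8.D1Base
import Cfsg.Agent.Helper8.D1Inv
import Cfsg.Agent.Helper8.D1Conj
import Cfsg.Agent.Helper8.D1Core
import Cfsg.Agent.Helper11.D1QC
import Cfsg.Agent.Helper18.D1QF
import Cfsg.Agent.Helper5.D1Mod
import Cfsg.Agent.Helper5.D1QS
import Cfsg.Agent.Helper3.D1QV
import Cfsg.Agent.Helper18.D1QOFinal
import Cfsg.Agent.Helper24.D1QH
import Cfsg.Agent.Helper29.D1QG

/-!
# Blocks of defect one: the main structure theorem
-/

set_option autoImplicit false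
set_option maxHeartbeats 1600000

namespace Cfsg.Agent.Helper8.D1

open Cfsg Cfsg.Agent.Helper24

/-- The structure of a block with a defect group of prime order. -/
theorem core {G : Type*} [Group G] [Finite G] (p : ℕ) [Fact p.Prime] (M : Ideal AlgInt)
    (hM : IsPModular p M) (P : Sylow p G) (hP : Nat.card P = p) (B : Set (IrrCharacter G))
    (hB : IsPBlock M B) (hBP : IsDefectGroup p M B P)
    (b : Set (IrrCharacter (Subgroup.centralizer ((P : Subgroup G) : Set G))))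
    (hind : IsInducedBlock M (Subgroup.centralizer ((P : Subgroup G) : Set G)) b B)
    (θ : IrrCharacter (Subgroup.centralizer ((P : Subgroup G) : Set G))) (hθ : θ ∈ b)
    (hθP : ∀ x : Subgroup.centralizer ((P : Subgroup G) : Set G), (x : G) ∈ (P : Subgroup G) →
      (θ : Subgroup.centralizer ((P : Subgroup G) : Set G) → ℂ) x =
        (θ : Subgroup.centralizer ((P : Subgroup G) : Set G) → ℂ) 1)
    (T : Subgroup G)
    (hT : ∀ g : G, g ∈ T ↔ (g ∈ Subgroup.normalizer ((P : Subgroup G) : Set G) ∧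
      ∀ c c' : Subgroup.centralizer ((P : Subgroup G) : Set G), (c' : G) = g * c * g⁻¹ →
        (θ : Subgroup.centralizer ((P : Subgroup G) : Set G) → ℂ) c' =
          (θ : Subgroup.centralizer ((P : Subgroup G) : Set G) → ℂ) c))
    (e f : ℕ) (he : (Subgroup.centralizer ((P : Subgroup G) : Set G)).relIndex T = e)
    (hf : (Subgroup.centralizer ((P : Subgroup G) : Set G)).relIndex
      (Subgroup.normalizer ((P : Subgroup G) : Set G)) = f) :
    e ∣ p - 1 ∧ e ∣ f ∧ Nat.card B = e + (p - 1) / e ∧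
    ∃ (Ψ : (Subgroup.centralizer ((P : Subgroup G) : Set G) → ℂ) → IrrCharacter G) (ε : ℤ)
      (w : IrrCharacter G → ℤ),
      (ε = 1 ∨ ε = -1) ∧
      (∀ μ, NT p μ → Ψ μ ∈ B) ∧
      (∀ μ ν, NT p μ → NT p ν → (Ψ μ = Ψ ν ↔ TConj (P : Subgroup G) T μ ν)) ∧
      (∀ μ, NT p μ → w (Ψ μ) = 0) ∧
      (∀ χ ∈ B, (∀ μ, NT p μ → χ ≠ Ψ μ) → (w χ = 1 ∨ w χ = -1)) ∧
      (∀ χ, χ ∉ B → w χ = 0) ∧
      (∀ μ, NT p μ → Dnum (Subgroup.centralizer ((P : Subgroup G) : Set G)) μ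
        (θ : Subgroup.centralizer ((P : Subgroup G) : Set G) → ℂ) ((Ψ μ : IrrCharacter G) : G → ℂ)
          = (ε : ℂ)) ∧
      (∀ μ, NT p μ → ∀ χ : IrrCharacter G, χ ≠ Ψ μ →
        Dnum (Subgroup.centralizer ((P : Subgroup G) : Set G)) μ
          (θ : Subgroup.centralizer ((P : Subgroup G) : Set G) → ℂ) (χ : G → ℂ) = (w χ : ℂ)) ∧
      (∀ χ ∈ B, ∀ χ' ∈ B, (∀ x : G, ¬ p ∣ orderOf x → (χ : G → ℂ) x = (χ' : G → ℂ) x) →
        (∀ μ, NT p μ → Dnum (Subgroup.centralizer ((P : Subgroup G) : Set G)) μ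
          (θ : Subgroup.centralizer ((P : Subgroup G) : Set G) → ℂ) (χ : G → ℂ) =
          Dnum (Subgroup.centralizer ((P : Subgroup G) : Set G)) μ
          (θ : Subgroup.centralizer ((P : Subgroup G) : Set G) → ℂ) (χ' : G → ℂ)) → χ = χ') ∧
      Nat.card {χ : IrrCharacter G // ∃ μ, NT p μ ∧ χ = Ψ μ} = (p - 1) / e ∧
      (∀ χ ∈ B, (∀ μ, NT p μ → χ ≠ Ψ μ) → (charDegree (χ : G → ℂ) : ℤ) ≡
        - w χ * ((f / e * charDegree (θ : Subgroup.centralizer ((P : Subgroup G) : Set G) → ℂ) : ℕ) : ℤ)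
          [ZMOD p]) ∧
      (∀ μ, NT p μ → (charDegree ((Ψ μ : IrrCharacter G) : G → ℂ) : ℤ) ≡
        ε * ((f * charDegree (θ : Subgroup.centralizer ((P : Subgroup G) : Set G) → ℂ) : ℕ) : ℤ)
          [ZMOD p]) ∧
      (∀ μ, NT p μ → ∀ x : G, ¬ p ∣ orderOf x →
        haveI : Fintype (IrrCharacter G) := Fintype.ofFinite _
        ∑ χ : IrrCharacter G, (w χ : ℂ) * (χ : G → ℂ) x +
          (ε : ℂ) * ((Ψ μ : IrrCharacter G) : G → ℂ) x = 0) := by
  classical
  have hp : p.Prime := Fact.out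
  let _ : Fintype (IrrCharacter G) := Fintype.ofFinite _
  -- Step 0: C ≤ T ≤ N
  have hTN : T ≤ Subgroup.normalizer ((P : Subgroup G) : Set G) := fun g hg => ((hT g).mp hg).1
  have hθcf : IsClassFunction _ (θ : Subgroup.centralizer ((P : Subgroup G) : Set G) → ℂ) :=
    IsCharacter.isClassFunction (IsIrrCharacter.isCharacter θ.2)
  have hCT : Subgroup.centralizer ((P : Subgroup G) : Set G) ≤ T := by
    intro g hg
    rw [hT]
    refine ⟨Subgroup.centralizer_le_normalizer _ hg, ?_⟩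
    intro c c' hcc'
    have h1 : c' = ⟨g, hg⟩ * c * (⟨g, hg⟩ : Subgroup.centralizer ((P : Subgroup G) : Set G))⁻¹ :=
      Subtype.ext (by rw [hcc']; rfl)
    rw [h1]
    exact hθcf c ⟨g, hg⟩
  have hθT : ∀ (n : G) (hn : n ∈ Subgroup.normalizer ((P : Subgroup G) : Set G)), n ∈ T →
      ∀ c, (θ : Subgroup.centralizer ((P : Subgroup G) : Set G) → ℂ) (kap (P : Subgroup G) n hn c) =
        (θ : Subgroup.centralizer ((P : Subgroup G) : Set G) → ℂ) c := by
    intro n hn hnT c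
    exact ((hT n).mp hnT).2 c (kap (P : Subgroup G) n hn c) (coe_kap _ _ _ _)
  -- Step 1: orbit representatives
  obtain ⟨hediv, R, hRcard, hR1, hR2, hR3, hR4⟩ :=
    Cfsg.Agent.Helper18.D1QO.exists_orbit_reps P hP T hCT hTN
  rw [he] at hediv hRcard
  simp only [he] at hR4
  have hp1 : 0 < p - 1 := by have := hp.two_le; omega
  have hepos : 0 < e := Nat.pos_of_dvd_of_pos hediv hp1
  have hRpos : 0 < R.card := by
    rcases Nat.eq_zero_or_pos R.card with h | h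
    · rw [h, zero_mul] at hRcard; omega
    · exact h
  have hdiv : (p - 1) / e = R.card := Nat.div_eq_of_eq_mul_left hepos hRcard.symm
  have : Nonempty R := by
    obtain ⟨r, hr⟩ := Finset.card_pos.mp hRpos
    exact ⟨⟨r, hr⟩⟩
  have hef : e ∣ f := by
    have h := Subgroup.relIndex_mul_relIndex _ _ _ hCT hTN
    rw [he, hf] at h
    exact ⟨_, h.symm⟩
  -- Step 2: the integers D
  have hDex : ∀ (i : R) (χ : IrrCharacter G), ∃ d : ℤ, (d : ℂ) =
      Dnum (Subgroup.centralizer ((P : Subgroup G) : Set G)) i.1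
        (θ : Subgroup.centralizer ((P : Subgroup G) : Set G) → ℂ) (χ : G → ℂ) :=
    fun i χ => Dnum_int _ (hR1 i.1 i.2).1 θ χ
  choose D hD using hDex
  -- Gram
  have hgram : ∀ i j : R, ∑ χ, D i χ * D j χ = (e : ℤ) + if i = j then 1 else 0 := by
    intro i j
    have h := Cfsg.Agent.Helper29.D1QG.gram P hP θ hθP T hT i.1 j.1 (hR1 _ i.2).1 (hR1 _ j.2).1
      (hR1 _ i.2).2 (hR1 _ j.2).2
    rw [he] at h
    have hcast : ((∑ χ, D i χ * D j χ : ℤ) : ℂ) = ∑ χ : IrrCharacter G,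
        Dnum (Subgroup.centralizer ((P : Subgroup G) : Set G)) i.1
          (θ : Subgroup.centralizer ((P : Subgroup G) : Set G) → ℂ) (χ : G → ℂ) *
        (starRingEnd ℂ) (Dnum (Subgroup.centralizer ((P : Subgroup G) : Set G)) j.1
          (θ : Subgroup.centralizer ((P : Subgroup G) : Set G) → ℂ) (χ : G → ℂ)) := by
      push_cast
      refine Finset.sum_congr rfl fun χ _ => ?_
      rw [← hD i χ, ← hD j χ, map_intCast]
    by_cases hij : i = j
    · subst hij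
      rw [if_pos rfl]
      have h1 := h.1 (TConj.refl (P : Subgroup G) T i.1)
      have h2 : ((∑ χ, D i χ * D i χ : ℤ) : ℂ) = (((e : ℤ) + 1 : ℤ) : ℂ) := by
        rw [hcast, h1]; push_cast; rfl
      exact_mod_cast h2
    · rw [if_neg hij, add_zero]
      have h1 := h.2 (fun hc => hij (Subtype.ext (hR3 i.1 i.2 j.1 j.2 hc)))
      have h2 : ((∑ χ, D i χ * D j χ : ℤ) : ℂ) = ((e : ℤ) : ℂ) := by
        rw [hcast, h1]; push_cast; rfl
      exact_mod_cast h2
  have hvan : ∀ (i : R) (x : G), ¬ p ∣ orderOf x →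
      ∑ χ : IrrCharacter G, (D i χ : ℂ) * (χ : G → ℂ) x = 0 := by
    intro i x hx
    have h := Cfsg.Agent.Helper3.D1QV.sum_Dnum_mul_eq_zero P θ i.1 (hR1 _ i.2).1 x hx
    rw [← h]
    refine Finset.sum_congr rfl fun χ _ => ?_
    rw [← hD i χ, map_intCast]
  have hsupp0 : ∀ (i : R) (χ : IrrCharacter G), χ ∉ B → D i χ = 0 := by
    intro i χ hχ
    have h := Cfsg.Agent.Helper5.D1Q.Dnum_eq_zero_of_not_mem hM P hP b B hind θ hθ i.1
      (hR1 _ i.2).1 χ hχ
    rw [← hD i χ] at h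
    exact_mod_cast h
  -- the sum over all non-trivial μ
  have hsum : ∀ χ : IrrCharacter G,
      ∑ᶠ μ ∈ {μ : Subgroup.centralizer ((P : Subgroup G) : Set G) → ℂ | IsPLin p μ ∧ ∃ x, μ x ≠ 1},
        Dnum (Subgroup.centralizer ((P : Subgroup G) : Set G)) μ
          (θ : Subgroup.centralizer ((P : Subgroup G) : Set G) → ℂ) (χ : G → ℂ) =
        (((e : ℤ) * ∑ i : R, D i χ : ℤ) : ℂ) := by
    intro χ
    have hχcf : IsClassFunction G (χ : G → ℂ) :=
      IsCharacter.isClassFunction (IsIrrCharacter.isCharacter χ.2)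
    rw [Cfsg.Agent.Helper18.D1QF.orbit_sum P T e hepos R hR1 hR2 hR3 hR4
      (fun μ => Dnum (Subgroup.centralizer ((P : Subgroup G) : Set G)) μ
          (θ : Subgroup.centralizer ((P : Subgroup G) : Set G) → ℂ) (χ : G → ℂ))]
    · push_cast
      congr 1
      rw [← Finset.sum_coe_sort R]
      exact Finset.sum_congr rfl fun i _ => (hD i χ).symm
    · intro μ n hn hnT
      have h1 := Dnum_conj (P : Subgroup G) n hn μ
        (θ : Subgroup.centralizer ((P : Subgroup G) : Set G) → ℂ) hχcf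
      rw [show (fun c => (θ : Subgroup.centralizer ((P : Subgroup G) : Set G) → ℂ)
        (kap (P : Subgroup G) n hn c)) = (θ : Subgroup.centralizer ((P : Subgroup G) : Set G) → ℂ)
        from funext (hθT n hn hnT)] at h1
      exact h1
  -- the degree congruence in terms of D
  have hcong : ∀ χ ∈ B, (charDegree (χ : G → ℂ) : ℤ) ≡
      (((f / e * charDegree (θ : Subgroup.centralizer ((P : Subgroup G) : Set G) → ℂ) : ℕ) : ℤ)) *
        ((e : ℤ) * ∑ i : R, D i χ) [ZMOD p] := by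
    intro χ hχ
    obtain ⟨s, hs, hc⟩ := Cfsg.Agent.Helper11.D1QC.degree_congr hM P hP B hB hBP b hind θ hθ hθP
      T hT χ hχ
    rw [he, hf] at hc
    have hs' : s = (e : ℤ) * ∑ i : R, D i χ := by
      have : (s : ℂ) = (((e : ℤ) * ∑ i : R, D i χ : ℤ) : ℂ) := by rw [hs, hsum χ]
      exact_mod_cast this
    rw [hs'] at hc
    exact hc
  have hsupp : ∀ χ ∈ B, ∑ i : R, D i χ ≠ 0 := by
    intro χ hχ h0
    have hc := hcong χ hχ
    rw [h0, mul_zero, mul_zero] at hc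
    have hdvd : (p : ℤ) ∣ (charDegree (χ : G → ℂ) : ℤ) := Int.modEq_zero_iff_dvd.mp hc
    exact Cfsg.Agent.Helper24.D1QH.not_dvd_charDegree hM P hP B hB hBP χ hχ
      (by exact_mod_cast hdvd)
  have hrank : e ≤ blockRank p B := by
    rw [← he]
    exact Cfsg.Agent.Helper5.D1.relIndex_le_blockRank p M hM P hP B b hind θ hθ hθP T hT
  have hp1' : ¬ p ∣ 1 := by rw [Nat.dvd_one]; exact hp.ne_one
  obtain ⟨hcard, ψ, ε, w, hψinj, hψB, hε, hwψ, hwX, hw0, hstruct, hrigid⟩ :=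
    abstract_core p hp1' B e D hgram hvan hsupp0 hsupp hrank
  rw [Fintype.card_coe] at hcard
  -- representatives
  have hrep : ∀ μ : Subgroup.centralizer ((P : Subgroup G) : Set G) → ℂ,
      ∃ i : R, NT p μ → TConj (P : Subgroup G) T i.1 μ := by
    intro μ
    by_cases hμ : NT p μ
    · obtain ⟨r, hr, hc⟩ := hR2 μ hμ.1 hμ.2
      exact ⟨⟨r, hr⟩, fun _ => hc⟩
    · exact ⟨Classical.arbitrary R, fun h => absurd h hμ⟩
  choose rep hrepspec using hrep
  have hrepR : ∀ i : R, rep i.1 = i := by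
    intro i
    have h := hrepspec i.1 (hR1 i.1 i.2)
    exact Subtype.ext (hR3 (rep i.1).1 (rep i.1).2 i.1 i.2 h)
  have hDμ : ∀ μ, NT p μ → ∀ χ : IrrCharacter G,
      Dnum (Subgroup.centralizer ((P : Subgroup G) : Set G)) μ
        (θ : Subgroup.centralizer ((P : Subgroup G) : Set G) → ℂ) (χ : G → ℂ) =
        (D (rep μ) χ : ℂ) := by
    intro μ hμ χ
    have hχcf : IsClassFunction G (χ : G → ℂ) :=
      IsCharacter.isClassFunction (IsIrrCharacter.isCharacter χ.2)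
    obtain ⟨n, hn, hnT, hμeq⟩ := hrepspec μ hμ
    have h1 := Dnum_conj (P : Subgroup G) n hn (rep μ).1
      (θ : Subgroup.centralizer ((P : Subgroup G) : Set G) → ℂ) hχcf
    rw [show (fun c => (θ : Subgroup.centralizer ((P : Subgroup G) : Set G) → ℂ)
      (kap (P : Subgroup G) n hn c)) = (θ : Subgroup.centralizer ((P : Subgroup G) : Set G) → ℂ)
      from funext (hθT n hn hnT)] at h1
    rw [hD (rep μ) χ, ← h1]
    exact congrArg (fun m => Dnum (Subgroup.centralizer ((P : Subgroup G) : Set G)) m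
        (θ : Subgroup.centralizer ((P : Subgroup G) : Set G) → ℂ) (χ : G → ℂ)) hμeq
  have hrepeq : ∀ μ ν, NT p μ → NT p ν → (rep μ = rep ν ↔ TConj (P : Subgroup G) T μ ν) := by
    intro μ ν hμ hν
    constructor
    · intro h
      have h1 := hrepspec μ hμ
      have h2 := hrepspec ν hν
      rw [← h] at h2
      exact h1.symm.trans h2
    · intro h
      have h1 := hrepspec μ hμ
      have h2 := hrepspec ν hν
      exact Subtype.ext (hR3 _ (rep μ).2 _ (rep ν).2 ((h1.trans h).trans h2.symm))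
  have hrange : ∀ χ : IrrCharacter G, (∃ μ, NT p μ ∧ χ = ψ (rep μ)) ↔ χ ∈ Set.range ψ := by
    intro χ
    constructor
    · rintro ⟨μ, -, rfl⟩
      exact ⟨rep μ, rfl⟩
    · rintro ⟨i, rfl⟩
      exact ⟨i.1, hR1 i.1 i.2, by rw [hrepR]⟩
  have hsumD_out : ∀ χ : IrrCharacter G, (∀ μ, NT p μ → χ ≠ ψ (rep μ)) →
      ∑ i : R, D i χ = (R.card : ℤ) * w χ := by
    intro χ hχ
    have : ∀ i : R, D i χ = w χ := by
      intro i
      rw [hstruct i χ, if_neg, add_zero]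
      intro h
      exact hχ i.1 (hR1 i.1 i.2) (by rw [hrepR]; exact h)
    rw [Finset.sum_congr rfl fun i _ => this i, Finset.sum_const, Finset.card_univ,
      Fintype.card_coe, nsmul_eq_mul]
  have hsumD_in : ∀ i₀ : R, ∑ i : R, D i (ψ i₀) = ε := by
    intro i₀
    have : ∀ i : R, D i (ψ i₀) = if i = i₀ then ε else 0 := by
      intro i
      rw [hstruct i (ψ i₀), hwψ i₀, zero_add]
      by_cases h : i = i₀
      · rw [if_pos h, if_pos (by rw [h])]
      · rw [if_neg h, if_neg (fun h' => h (hψinj h').symm)]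
    rw [Finset.sum_congr rfl fun i _ => this i, Finset.sum_ite_eq' Finset.univ i₀]
    simp
  refine ⟨hediv, hef, by rw [hcard, hdiv], fun μ => ψ (rep μ), ε, w, hε, fun μ _ => hψB _, ?_,
    fun μ _ => hwψ _, ?_, hw0, ?_, ?_, ?_, ?_, ?_, ?_, ?_⟩
  · intro μ ν hμ hν
    show ψ (rep μ) = ψ (rep ν) ↔ _
    rw [← hrepeq μ ν hμ hν]
    exact ⟨fun h => hψinj h, fun h => by rw [h]⟩
  · intro χ hχ hne
    apply hwX χ hχ
    intro hr
    obtain ⟨μ, hμ, hμe⟩ := (hrange χ).mpr hr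
    exact hne μ hμ hμe
  · intro μ hμ
    rw [hDμ μ hμ, hstruct, hwψ, if_pos rfl, zero_add]
  · intro μ hμ χ hχ
    rw [hDμ μ hμ, hstruct, if_neg hχ, add_zero]
  · intro χ hχ χ' hχ' hreg hDeq
    apply hrigid χ hχ χ' hχ' hreg
    intro i
    have h := hDeq i.1 (hR1 i.1 i.2)
    rw [← hD i χ, ← hD i χ'] at h
    exact_mod_cast h
  · rw [hdiv]
    have h1 : {χ : IrrCharacter G | ∃ μ, NT p μ ∧ χ = ψ (rep μ)} = Set.range ψ :=
      Set.ext hrange
    show Nat.card ↥{χ : IrrCharacter G | ∃ μ, NT p μ ∧ χ = ψ (rep μ)} = R.card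
    rw [h1, Nat.card_range_of_injective hψinj, Nat.card_eq_fintype_card, Fintype.card_coe]
  · intro χ hχ hne
    have hc := hcong χ hχ
    rw [hsumD_out χ hne] at hc
    have h2 : ((e : ℤ) * ((R.card : ℤ) * w χ)) = ((p : ℤ) - 1) * w χ := by
      have : (R.card : ℤ) * (e : ℤ) = (p : ℤ) - 1 := by
        have := hRcard
        have h3 : ((R.card * e : ℕ) : ℤ) = ((p - 1 : ℕ) : ℤ) := by rw [this]
        rw [Nat.cast_sub hp.one_le] at h3
        push_cast at h3
        exact h3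
      rw [← this]; ring
    rw [h2] at hc
    refine hc.trans ?_
    have h3 : ((p : ℤ) - 1) ≡ -1 [ZMOD p] := by
      have : ((p : ℤ) - 1) - (-1) = p := by ring
      exact (Int.modEq_iff_dvd.mpr ⟨-1, by ring⟩)
    calc (((f / e * charDegree (θ : Subgroup.centralizer ((P : Subgroup G) : Set G) → ℂ) : ℕ) : ℤ)) *
          (((p : ℤ) - 1) * w χ)
        ≡ (((f / e * charDegree (θ : Subgroup.centralizer ((P : Subgroup G) : Set G) → ℂ) : ℕ) : ℤ)) *
          ((-1) * w χ) [ZMOD p] := Int.ModEq.mul_left _ (Int.ModEq.mul_right _ h3)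
      _ = - w χ * ((f / e * charDegree (θ : Subgroup.centralizer ((P : Subgroup G) : Set G) → ℂ) : ℕ) : ℤ) := by
        ring
  · intro μ hμ
    have hc := hcong (ψ (rep μ)) (hψB _)
    rw [hsumD_in] at hc
    refine hc.trans ?_
    have : (((f / e * charDegree (θ : Subgroup.centralizer ((P : Subgroup G) : Set G) → ℂ) : ℕ) : ℤ)) *
        ((e : ℤ) * ε) = ε * ((f * charDegree (θ : Subgroup.centralizer ((P : Subgroup G) : Set G) → ℂ) : ℕ) : ℤ) := by
      obtain ⟨k, hk⟩ := hef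
      rw [hk, Nat.mul_div_cancel_left _ hepos]
      push_cast
      ring
    rw [this]
  · intro μ hμ x hx
    have h := hvan (rep μ) x hx
    have h2 : ∀ χ : IrrCharacter G, (D (rep μ) χ : ℂ) * (χ : G → ℂ) x =
        (w χ : ℂ) * (χ : G → ℂ) x + if χ = ψ (rep μ) then (ε : ℂ) * (χ : G → ℂ) x else 0 := by
      intro χ
      rw [hstruct]
      by_cases hχ : χ = ψ (rep μ)
      · rw [if_pos hχ, if_pos hχ]; push_cast; ring
      · rw [if_neg hχ, if_neg hχ]; push_cast; ring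
    rw [Finset.sum_congr rfl fun χ _ => h2 χ, Finset.sum_add_distrib,
      Finset.sum_ite_eq' Finset.univ (ψ (rep μ))] at h
    simp only [Finset.mem_univ, if_true] at h
    convert h using 3

/-- **Blocks of defect one** (the statement of S4442 without the hypothesis `p ≠ 2`). -/
theorem block_main {G : Type*} [Group G] [Finite G] (p : ℕ) [Fact p.Prime] (M : Ideal Cfsg.AlgInt) (hM : Cfsg.IsPModular p M) (P : Sylow p G) (hP : Nat.card P = p) (B : Set (Cfsg.IrrCharacter G)) (hB : Cfsg.IsPBlock M B) (hBP : Cfsg.IsDefectGroup p M B P) (b : Set (Cfsg.IrrCharacter (Subgroup.centralizer ((P : Subgroup G) : Set G)))) (hind : Cfsg.IsInducedBlock M (Subgroup.centralizer ((P : Subgroup G) : Set G)) b B) (θ : Cfsg.IrrCharacter (Subgroup.centralizer ((P : Subgroup G) : Set G))) (hθ : θ ∈ b) (hθP : ∀ x : Subgroup.centralizer ((P : Subgroup G) : Set G), (x : G) ∈ (P : Subgroup G) → (θ : Subgroup.centralizer ((P : Subgroup G) : Set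 G) → ℂ) x = (θ : Subgroup.centralizer ((P : Subgroup G) : Set G) → ℂ) 1) (T : Subgroup G) (hT : ∀ g : G, g ∈ T ↔ (g ∈ Subgroup.normalizer ((P : Subgroup G) : Set G) ∧ ∀ c c' : Subgroup.centralizer ((P : Subgroup G) : Set G), (c' : G) = g * c * g⁻¹ → (θ : Subgroup.centralizer ((P : Subgroup G) : Set G) → ℂ) c' = (θ : Subgroup.centralizer ((P : Subgroup G) : Set G) → ℂ) c)) (e f : ℕ) (he : (Subgroup.centralizer ((P : Subgroup G) : Set G)).relIndex T = e) (hf : (Subgroup.centralizer ((P : Subgroup G) : Set G)).relIndex (Subgroup.normalizer ((P : Subgroup G) : Set G)) = f) : e ∣ p - 1 ∧ Nat.card B = e + (p - 1) / e ∧ ∃ X Y : Set (Cfsg.IrrCharacter G), B = X ∪ Y ∧ Disjoint X Y ∧ Nat.card X = e ∧ Nat.card Y = (p - 1) / e ∧ (∀ χ ∈ X, (Cfsg.charDegree (χ : G → ℂ) : ℤ) ≡ ((f / e * Cfsg.charDegree (θ : Subgroup.centralizer ((P : Subgroup G) : Set G) → ℂ) : ℕ) : ℤ) [ZMOD p] ∨ (Cfsg.charDegree (χ : G → ℂ) : ℤ) ≡ -((f / e * Cfsg.charDegree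 (θ : Subgroup.centralizer ((P : Subgroup G) : Set G) → ℂ) : ℕ) : ℤ) [ZMOD p]) ∧ (∃ ε : ℤ, (ε = 1 ∨ ε = -1) ∧ ∀ ψ ∈ Y, (Cfsg.charDegree (ψ : G → ℂ) : ℤ) ≡ ε * ((f * Cfsg.charDegree (θ : Subgroup.centralizer ((P : Subgroup G) : Set G) → ℂ) : ℕ) : ℤ) [ZMOD p]) ∧ ∀ ψ ∈ Y, ∀ ψ' ∈ Y, ∀ g : G, ¬ p ∣ orderOf g → (ψ : G → ℂ) g = (ψ' : G → ℂ) g := by
  classical
  obtain ⟨hediv, -, hcard, Ψ, ε, w, hε, hΨB, -, -, hwX, -, -, -, -, hYcard, hcX, hcY, hrel⟩ :=
    core p M hM P hP B hB hBP b hind θ hθ hθP T hT e f he hf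
  have hYB : {χ : IrrCharacter G | ∃ μ, NT p μ ∧ χ = Ψ μ} ⊆ B := by
    rintro χ ⟨μ, hμ, rfl⟩
    exact hΨB μ hμ
  have hfinB : (B : Set (IrrCharacter G)).Finite := Set.toFinite B
  refine ⟨hediv, hcard, B \ {χ : IrrCharacter G | ∃ μ, NT p μ ∧ χ = Ψ μ},
    {χ : IrrCharacter G | ∃ μ, NT p μ ∧ χ = Ψ μ}, (Set.sdiff_union_of_subset hYB).symm,
    Set.disjoint_sdiff_left, ?_, hYcard, ?_, ⟨ε, hε, ?_⟩, ?_⟩
  · have h1 : Nat.card ↥(B \ {χ : IrrCharacter G | ∃ μ, NT p μ ∧ χ = Ψ μ}) =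
        Nat.card B - Nat.card ↥{χ : IrrCharacter G | ∃ μ, NT p μ ∧ χ = Ψ μ} := by
      rw [Nat.card_coe_set_eq, Nat.card_coe_set_eq, Nat.card_coe_set_eq]
      exact Set.ncard_sdiff hYB (Set.toFinite _)
    have hY' : Nat.card ↥{χ : IrrCharacter G | ∃ μ, NT p μ ∧ χ = Ψ μ} = (p - 1) / e := hYcard
    rw [h1, hY', hcard]
    omega
  · intro χ hχ
    have hne : ∀ μ, NT p μ → χ ≠ Ψ μ := fun μ hμ h => hχ.2 ⟨μ, hμ, h⟩
    have hc := hcX χ hχ.1 hne
    rcases hwX χ hχ.1 hne with h | h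
    · right
      rw [h] at hc
      simpa using hc
    · left
      rw [h] at hc
      simpa using hc
  · rintro ψ ⟨μ, hμ, rfl⟩
    exact hcY μ hμ
  · rintro ψ ⟨μ, hμ, rfl⟩ ψ' ⟨μ', hμ', rfl⟩ g hg
    have h1 := hrel μ hμ g hg
    have h2 := hrel μ' hμ' g hg
    have hε0 : (ε : ℂ) ≠ 0 := by
      rcases hε with h | h <;> rw [h] <;> simp
    have h3 : (ε : ℂ) * ((Ψ μ : IrrCharacter G) : G → ℂ) g =
        (ε : ℂ) * ((Ψ μ' : IrrCharacter G) : G → ℂ) g := by
      have := h1.trans h2.symm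
      exact add_left_cancel this
    exact mul_left_cancel₀ hε0 h3
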