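import Mathlib
import Cfsg.Agent.Helper8.D1Base
import Cfsg.Agent.Helper8.D1Conj
import Cfsg.Agent.Helper11.D1QL
import Cfsg.Agent.Helper18.D1QO
import Cfsg.Agent.Helper24.Orthogonality
import Cfsg.Agent.Helper24.Linear

/-!
# S0720 piece T1, part a: Fourier analysis of the `p`-linear functions on `C_G(P) = P`
-/

set_option autoImplicit false

namespace Cfsg.Agent.Helper8.W2p

open Cfsg Cfsg.Agent.Helper24 Cfsg.Agent.Helper8.D1

/-- a `p`-linear function is an irreducible character -/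
theorem isIrr_of_isPLin {X : Type*} [Group X] [Finite X] {p : ℕ} {μ : X → ℂ} (h : IsPLin p μ) :
    IsIrrCharacter X μ := by
  have h1 := h.isIrr_mul (trivIrr X).2
  have h2 : (fun x => μ x * ((trivIrr X : IrrCharacter X) : X → ℂ) x) = μ := by
    funext x
    rw [trivIrr_apply, mul_one]
  rw [← h2]
  exact h1

section

variable {G : Type*} [Group G] [Finite G] {p : ℕ} [Fact p.Prime] (P : Sylow p G)

local notation "CP" => Subgroup.centralizer ((P : Subgroup G) : Set G)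

/-- the type of `p`-linear functions on the centralizer -/
abbrev PL : Type _ := {μ : CP → ℂ // IsPLin p μ}

omit [Finite G] [Fact p.Prime] in
theorem mem_P_of_mem_CP (hC : CP = (P : Subgroup G)) (c : CP) : (c : G) ∈ (P : Subgroup G) := by
  have h2 : ∀ (A B : Subgroup G), A = B → ∀ y : G, y ∈ A → y ∈ B := by
    intro A B hAB y hy
    rw [← hAB]; exact hy
  exact h2 _ _ hC _ c.2

omit [Finite G] [Fact p.Prime] in
theorem card_CP (hP : Nat.card P = p) (hC : CP = (P : Subgroup G)) : Nat.card CP = p := by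
  rw [hC]; exact hP

theorem card_PL (hP : Nat.card P = p) : Nat.card (PL P) = p := by
  obtain ⟨hZ, hZc, hZi⟩ := Cfsg.Agent.Helper18.D1QO.subgroupOf_facts P hP
  exact Cfsg.Agent.Helper11.D1QL.card_pLin _ hZ hZc hZi

theorem finite_PL (hP : Nat.card P = p) : Finite (PL P) :=
  Nat.finite_of_card_ne_zero (by rw [card_PL P hP]; exact (Fact.out : p.Prime).ne_zero)

/-- a non-trivial `p`-linear function is `≠ 1` at every non-identity element -/
theorem nt_apply_ne_one (hP : Nat.card P = p) (hC : CP = (P : Subgroup G))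
    {ν : CP → ℂ} (hν : NT p ν) (z : CP) (hz : z ≠ 1) : ν z ≠ 1 := by
  obtain ⟨hZ, hZc, hZi⟩ := Cfsg.Agent.Helper18.D1QO.subgroupOf_facts P hP
  exact Cfsg.Agent.Helper11.D1QL.pLin_apply_ne_one _ hZ hZc hZi hν.1 hν.2
    (Subgroup.mem_subgroupOf.mpr (mem_P_of_mem_CP P hC z)) hz

/-- there is a non-trivial `p`-linear function -/
theorem exists_nt (hP : Nat.card P = p) : ∃ μ : PL P, NT p μ.1 := by
  classical
  haveI := finite_PL P hP
  have hp := (Fact.out : p.Prime)
  have h1 : 1 < Nat.card (PL P) := by rw [card_PL P hP]; exact hp.one_lt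
  rw [Finite.one_lt_card_iff_nontrivial] at h1
  obtain ⟨μ, hμ⟩ := exists_ne (⟨fun _ => 1, isPLin_one p⟩ : PL P)
  refine ⟨μ, μ.2, ?_⟩
  by_contra hno
  push Not at hno
  apply hμ
  apply Subtype.ext
  funext x
  exact hno x

/-- multiplication by a fixed `p`-linear function, as a permutation -/
noncomputable def mulPL (μ₀ : PL P) : PL P ≃ PL P where
  toFun ν := ⟨fun x => μ₀.1 x * ν.1 x, μ₀.2.mul' ν.2⟩
  invFun ν := ⟨fun x => (μ₀.1 x)⁻¹ * ν.1 x, μ₀.2.inv'.mul' ν.2⟩
  left_inv ν := by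
    apply Subtype.ext
    funext x
    show (μ₀.1 x)⁻¹ * (μ₀.1 x * ν.1 x) = ν.1 x
    rw [← mul_assoc, inv_mul_cancel₀ (μ₀.2.ne_zero x), one_mul]
  right_inv ν := by
    apply Subtype.ext
    funext x
    show μ₀.1 x * ((μ₀.1 x)⁻¹ * ν.1 x) = ν.1 x
    rw [← mul_assoc, mul_inv_cancel₀ (μ₀.2.ne_zero x), one_mul]

/-- column orthogonality -/
theorem sum_PL_apply (hP : Nat.card P = p) (hC : CP = (P : Subgroup G)) [Fintype (PL P)]
    (z : CP) (hz : z ≠ 1) : ∑ μ : PL P, μ.1 z = 0 := by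
  obtain ⟨μ₀, hμ₀⟩ := exists_nt P hP
  have ha := nt_apply_ne_one P hP hC hμ₀ z hz
  have h1 : ∑ μ : PL P, μ.1 z = μ₀.1 z * ∑ μ : PL P, μ.1 z := by
    rw [Finset.mul_sum]
    exact (Fintype.sum_equiv (mulPL P μ₀) (fun ν => μ₀.1 z * ν.1 z) (fun ν => ν.1 z)
      (fun ν => rfl)).symm
  have h2 : (1 - μ₀.1 z) * ∑ μ : PL P, μ.1 z = 0 := by
    rw [sub_mul, one_mul, ← h1, sub_self]
  rcases mul_eq_zero.1 h2 with h3 | h3
  · exact absurd (sub_eq_zero.1 h3).symm ha
  · exact h3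

theorem sum_PL_apply_one (hP : Nat.card P = p) [Fintype (PL P)] :
    ∑ μ : PL P, μ.1 (1 : CP) = (p : ℂ) := by
  rw [Finset.sum_congr rfl (fun μ _ => μ.2.one)]
  rw [Finset.sum_const, Finset.card_univ, nsmul_eq_mul, mul_one, ← Nat.card_eq_fintype_card,
    card_PL P hP]

/-- row orthogonality -/
theorem sum_CP_mul_conj (hP : Nat.card P = p) (hC : CP = (P : Subgroup G)) [Fintype CP]
    {ν ν' : CP → ℂ} (hν : IsPLin p ν) (hν' : IsPLin p ν') [Decidable (ν = ν')] :
    ∑ c : CP, ν c * (starRingEnd ℂ) (ν' c) = if ν = ν' then (p : ℂ) else 0 := by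
  have h1 := classInner_of_isIrrCharacter (isIrr_of_isPLin hν) (isIrr_of_isPLin hν')
  unfold classInner at h1
  rw [card_CP P hP hC] at h1
  have hp0 : (p : ℂ) ≠ 0 := by exact_mod_cast (Fact.out : p.Prime).ne_zero
  have h2 : ∑ c : CP, ν c * (starRingEnd ℂ) (ν' c) =
      (p : ℂ) * ((p : ℂ)⁻¹ * ∑ c : CP, ν c * (starRingEnd ℂ) (ν' c)) := by
    rw [← mul_assoc, mul_inv_cancel₀ hp0, one_mul]
  rw [h2, h1]
  split_ifs <;> simp

/-- the sum of a non-trivial `p`-linear function vanishes -/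
theorem sum_CP_nt (hP : Nat.card P = p) (hC : CP = (P : Subgroup G)) [Fintype CP]
    {ν : CP → ℂ} (hν : NT p ν) : ∑ c : CP, ν c = 0 := by
  classical
  have h1 := sum_CP_mul_conj P hP hC hν.1 (isPLin_one p)
  have hne : ν ≠ fun _ => (1 : ℂ) := by
    intro h
    obtain ⟨x, hx⟩ := hν.2
    exact hx (congrFun h x)
  rw [if_neg hne] at h1
  simpa using h1

/-- Fourier inversion on `C_G(P) = P` -/
theorem fourier_inv (hP : Nat.card P = p) (hC : CP = (P : Subgroup G)) [Fintype CP]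
    [Fintype (PL P)] (f : CP → ℂ) (y : CP) :
    ∑ μ : PL P, classInner f μ.1 * μ.1 y = f y := by
  classical
  have hp0 : (p : ℂ) ≠ 0 := by exact_mod_cast (Fact.out : p.Prime).ne_zero
  unfold classInner
  rw [card_CP P hP hC]
  have h1 : ∀ μ : PL P, ((p : ℂ)⁻¹ * ∑ c : CP, f c * (starRingEnd ℂ) (μ.1 c)) * μ.1 y =
      (p : ℂ)⁻¹ * ∑ c : CP, f c * μ.1 (c⁻¹ * y) := by
    intro μ
    rw [mul_assoc, Finset.sum_mul]
    congr 1
    apply Finset.sum_congr rfl
    intro c _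
    have h2 : (starRingEnd ℂ) (μ.1 c) = (μ.1 c)⁻¹ := by
      have := μ.2.mul_conj c
      exact eq_inv_of_mul_eq_one_right this
    rw [h2, μ.2.mul, μ.2.inv]
    ring
  rw [Finset.sum_congr rfl (fun μ _ => h1 μ), ← Finset.mul_sum, Finset.sum_comm]
  have h3 : ∀ c : CP, ∑ μ : PL P, f c * μ.1 (c⁻¹ * y) = if c = y then (p : ℂ) * f c else 0 := by
    intro c
    rw [← Finset.mul_sum]
    by_cases hcy : c = y
    · rw [if_pos hcy, hcy, inv_mul_cancel, sum_PL_apply_one P hP, mul_comm]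
    · rw [if_neg hcy, sum_PL_apply P hP hC, mul_zero]
      intro h
      apply hcy
      have := congrArg (c * ·) h
      simpa using this.symm
  rw [Finset.sum_congr rfl (fun c _ => h3 c), Finset.sum_ite_eq' Finset.univ y]
  simp only [Finset.mem_univ, if_true]
  rw [← mul_assoc, inv_mul_cancel₀ hp0, one_mul]

/-- the values on `P ∖ 1` in terms of the numbers `Dnum` -/
theorem apply_eq_sum_Dnum (hP : Nat.card P = p) (hC : CP = (P : Subgroup G))
    [Fintype (PL P)] (θ : CP → ℂ) (hθ : ∀ c, θ c = 1) (χ : G → ℂ) (y : CP) (hy : y ≠ 1) :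
    χ y = ∑ μ : PL P, Dnum CP μ.1 θ χ * μ.1 y := by
  classical
  letI : Fintype CP := Fintype.ofFinite _
  have hθ' : θ = fun _ => 1 := funext hθ
  have h1 : ∀ μ : PL P, Dnum CP μ.1 θ χ =
      classInner (fun c : CP => χ c) μ.1 - classInner (fun c : CP => χ c) (fun _ => 1) := by
    intro μ
    unfold Dnum
    rw [hθ']
    simp only [mul_one]
  rw [Finset.sum_congr rfl (fun μ _ => by rw [h1 μ, sub_mul])]
  rw [Finset.sum_sub_distrib, fourier_inv P hP hC (fun c : CP => χ c) y, ← Finset.mul_sum,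
    sum_PL_apply P hP hC y hy, mul_zero, sub_zero]

end

end Cfsg.Agent.Helper8.W2p
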