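import Mathlib
import Cfsg.Agent.Helper8.W2pT1a
import Cfsg.Agent.Helper1.W2pDefs
import Cfsg.Agent.Helper24.Expansion
import Cfsg.Agent.Helper8.CharComp

/-!
# S0720 piece T1, part b: assembling `BrauerData` from the numbers `Dnum`
-/

set_option autoImplicit false

namespace Cfsg.Agent.Helper8.W2p

open Cfsg Cfsg.Agent.Helper24 Cfsg.Agent.Helper8.D1 Cfsg.Agent.Helper1.W2p

universe u

section

variable {G : Type u} [Group G] [Finite G] {p : ℕ} [Fact p.Prime] (P : Sylow p G)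

local notation "CP" => Subgroup.centralizer ((P : Subgroup G) : Set G)

/-- the trivial `p`-linear function -/
def onePL : PL P := ⟨fun _ => 1, isPLin_one p⟩

omit [Finite G] [Fact p.Prime] in
theorem nt_iff_ne_one (μ : PL P) : NT p μ.1 ↔ μ ≠ onePL P := by
  constructor
  · rintro ⟨-, x, hx⟩ h
    apply hx
    rw [h]; rfl
  · intro h
    refine ⟨μ.2, ?_⟩
    by_contra hno
    push Not at hno
    apply h
    apply Subtype.ext
    funext x
    exact hno x

open Classical in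
/-- the sum of a family of `p`-linear functions, as a function on `G` -/
noncomputable def LamOf (O : Finset (PL P)) : G → ℂ := fun g =>
  if h : g ∈ CP then ∑ ν ∈ O, ν.1 ⟨g, h⟩ else 0

omit [Finite G] [Fact p.Prime] in
theorem LamOf_coe (O : Finset (PL P)) (c : CP) : LamOf P O (c : G) = ∑ ν ∈ O, ν.1 c := by
  unfold LamOf
  rw [dif_pos c.2]

omit [Finite G] [Fact p.Prime] in
theorem LamOf_one (O : Finset (PL P)) : LamOf P O 1 = (O.card : ℂ) := by
  have h := LamOf_coe P O 1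
  rw [Subgroup.coe_one] at h
  rw [h, Finset.sum_congr rfl (fun ν _ => ν.2.one), Finset.sum_const, nsmul_eq_mul, mul_one]

omit [Finite G] [Fact p.Prime] in
theorem finsum_P_eq_sum_CP (hC : CP = (P : Subgroup G)) [Fintype CP] (F : G → ℂ) :
    ∑ᶠ y : ↥(P : Subgroup G), F (y : G) = ∑ c : CP, F (c : G) := by
  rw [← finsum_eq_sum_of_fintype]
  exact (finsum_comp_equiv (MulEquiv.subgroupCongr hC).toEquiv
    (f := fun y : ↥(P : Subgroup G) => F (y : G))).symm

theorem LamOf_sum (hP : Nat.card P = p) (hC : CP = (P : Subgroup G)) (O : Finset (PL P))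
    (hO : ∀ ν ∈ O, NT p ν.1) : ∑ᶠ y : ↥(P : Subgroup G), LamOf P O (y : G) = 0 := by
  classical
  letI : Fintype CP := Fintype.ofFinite _
  rw [finsum_P_eq_sum_CP P hC]
  rw [Finset.sum_congr rfl (fun c _ => LamOf_coe P O c), Finset.sum_comm]
  exact Finset.sum_eq_zero (fun ν hν => sum_CP_nt P hP hC (hO ν hν))

theorem LamOf_inner (hP : Nat.card P = p) (hC : CP = (P : Subgroup G)) [DecidableEq (PL P)]
    (O O' : Finset (PL P)) :
    ∑ᶠ y : ↥(P : Subgroup G), LamOf P O (y : G) * (starRingEnd ℂ) (LamOf P O' (y : G)) =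
      (p : ℂ) * ((O ∩ O').card : ℂ) := by
  letI : Fintype CP := Fintype.ofFinite _
  rw [finsum_P_eq_sum_CP P hC (fun g => LamOf P O g * (starRingEnd ℂ) (LamOf P O' g))]
  have h1 : ∀ c : CP, LamOf P O (c : G) * (starRingEnd ℂ) (LamOf P O' (c : G)) =
      ∑ ν ∈ O, ∑ ν' ∈ O', ν.1 c * (starRingEnd ℂ) (ν'.1 c) := by
    intro c
    rw [LamOf_coe, LamOf_coe, map_sum, Finset.sum_mul_sum]
  rw [Finset.sum_congr rfl (fun c _ => h1 c), Finset.sum_comm]
  have h2 : ∀ ν ∈ O, ∑ c : CP, ∑ ν' ∈ O', ν.1 c * (starRingEnd ℂ) (ν'.1 c) =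
      if ν ∈ O' then (p : ℂ) else 0 := by
    intro ν _
    rw [Finset.sum_comm]
    rw [Finset.sum_congr rfl (fun ν' _ => sum_CP_mul_conj P hP hC ν.2 ν'.2)]
    have h3 : ∀ ν' ∈ O', (if ν.1 = ν'.1 then (p : ℂ) else 0) = if ν' = ν then (p : ℂ) else 0 := by
      intro ν' _
      by_cases h : ν' = ν
      · rw [if_pos h, if_pos (by rw [h])]
      · rw [if_neg h, if_neg (fun h' => h (Subtype.ext h'.symm))]
    rw [Finset.sum_congr rfl h3, Finset.sum_ite_eq' O' ν]
  rw [Finset.sum_congr rfl h2, Finset.sum_ite_mem, Finset.sum_const, nsmul_eq_mul, mul_comm]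

end

end Cfsg.Agent.Helper8.W2p
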