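import Mathlib
import Cfsg.Agent.Helper1.S4503Defs
import Cfsg.Agent.Helper1.D1PA
import Cfsg.Agent.Helper11.D1QL
import Cfsg.Agent.Helper11.D1QLb
import Cfsg.Agent.Helper11.D1QCd
import Cfsg.Agent.Helper18.D1QO
import Cfsg.Agent.Helper23.BlockTransport
import Cfsg.Agent.Helper24.Span

/-!
# S4503, piece ORBC: the orbit of `μ θ` under `N_G(P)`
-/

set_option autoImplicit false
set_option linter.style.haveILetI false

namespace Cfsg.Agent.Helper8.S4503ORBC

open Cfsg Cfsg.Agent.Helper24 Cfsg.Agent.Helper8.D1 Cfsg.Agent.S4705P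
open Cfsg.Agent.S4503P Cfsg.Agent.Helper11.D1QC Cfsg.Agent.Helper11.D1QL Cfsg.Agent.Helper23.BT
open scoped ComplexConjugate

universe u

variable {G : Type u} [Group G] [Finite G] {p : ℕ} [Fact p.Prime] (P : Sylow p G)

local notation "CP" => Subgroup.centralizer ((P : Subgroup G) : Set G)
local notation "NP" => Subgroup.normalizer ((P : Subgroup G) : Set G)

/-- the stabilizer of `μ θ` in `N_G(P)` is `C_G(P)` -/
theorem stab_eq (hP : Nat.card P = p) (θ : IrrCharacter CP)
    (hθP : ∀ x : CP, (x : G) ∈ (P : Subgroup G) → (θ : CP → ℂ) x = (θ : CP → ℂ) 1)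
    (μ : CP → ℂ) (hμ : NT p μ) (g : G) :
    g ∈ CP ↔ (g ∈ NP ∧ ∀ c c' : CP, (c' : G) = g * c * g⁻¹ →
      (fun c : CP => μ c * (θ : CP → ℂ) c) c' = (fun c : CP => μ c * (θ : CP → ℂ) c) c) := by
  have hirr : IsIrrCharacter CP (fun c : CP => μ c * (θ : CP → ℂ) c) := hμ.1.isIrr_mul θ.2
  constructor
  · intro hg
    refine ⟨Subgroup.centralizer_le_normalizer _ hg, ?_⟩
    intro c c' hcc'
    have h1 : c' = ⟨g, hg⟩ * c * (⟨g, hg⟩ : CP)⁻¹ := Subtype.ext (by rw [hcc']; rfl)
    rw [h1]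
    exact isClassFunction_irr ⟨_, hirr⟩ c ⟨g, hg⟩
  · rintro ⟨hgN, h⟩
    obtain ⟨hZ, hZc, hZi⟩ := Cfsg.Agent.Helper18.D1QO.subgroupOf_facts P hP
    have hle := Cfsg.Agent.Helper1.D1PA.le_centralizer P hP
    -- `kap g` preserves `P`
    have hkapP : ∀ u : CP, u ∈ (P : Subgroup G).subgroupOf CP →
        kap (P : Subgroup G) g hgN u ∈ (P : Subgroup G).subgroupOf CP := by
      intro u hu
      rw [Subgroup.mem_subgroupOf] at hu ⊢
      rw [coe_kap]
      exact (Subgroup.mem_normalizer_iff.mp hgN (u : G)).mp hu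
    have hθZ : ∀ z ∈ (P : Subgroup G).subgroupOf CP, (θ : CP → ℂ) z = (θ : CP → ℂ) 1 :=
      fun z hz => hθP z (Subgroup.mem_subgroupOf.mp hz)
    have hθZ' : ∀ z ∈ (P : Subgroup G).subgroupOf CP,
        (pullIrr (kap (P : Subgroup G) g hgN) θ : CP → ℂ) z =
          (pullIrr (kap (P : Subgroup G) g hgN) θ : CP → ℂ) 1 := by
      intro z hz
      rw [pullIrr_apply, pullIrr_apply, map_one]
      exact hθZ _ (hkapP z hz)
    have hdec : ((⟨_, hirr⟩ : IrrCharacter CP) : CP → ℂ) =
        fun x => μ x * (θ : CP → ℂ) x := rfl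
    have hdec' : ((⟨_, hirr⟩ : IrrCharacter CP) : CP → ℂ) =
        fun x => (fun y => μ (kap (P : Subgroup G) g hgN y)) x *
          (pullIrr (kap (P : Subgroup G) g hgN) θ : CP → ℂ) x := by
      funext x
      exact (h x (kap (P : Subgroup G) g hgN x) (coe_kap _ _ _ _)).symm
    have hμeq : ∀ u ∈ (P : Subgroup G).subgroupOf CP,
        μ (kap (P : Subgroup G) g hgN u) = μ u := by
      intro u hu
      have d1 := decomp_apply _ ⟨_, hirr⟩ hμ.1 θ hθZ hdec hu
      have d2 := decomp_apply _ ⟨_, hirr⟩ (hμ.1.comp (kap (P : Subgroup G) g hgN))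
        (pullIrr (kap (P : Subgroup G) g hgN) θ) hθZ' hdec' hu
      rw [d1]
      exact d2
    rw [Subgroup.mem_centralizer_iff]
    intro x hx
    have hxP : x ∈ (P : Subgroup G) := hx
    set u : CP := ⟨x, hle hxP⟩ with hu
    have huZ : u ∈ (P : Subgroup G).subgroupOf CP := Subgroup.mem_subgroupOf.mpr hxP
    have hwZ : kap (P : Subgroup G) g hgN u * u⁻¹ ∈ (P : Subgroup G).subgroupOf CP :=
      mul_mem (hkapP u huZ) (inv_mem huZ)
    have hw1 : μ (kap (P : Subgroup G) g hgN u * u⁻¹) = 1 := by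
      rw [hμ.1.mul, hμeq u huZ, hμ.1.inv, mul_inv_cancel₀ (hμ.1.ne_zero u)]
    have hw : kap (P : Subgroup G) g hgN u * u⁻¹ = 1 := by
      by_contra hne
      exact pLin_apply_ne_one _ hZ hZc hZi hμ.1 hμ.2 hwZ hne hw1
    have h2 : kap (P : Subgroup G) g hgN u = u := by
      rw [mul_inv_eq_one] at hw
      exact hw
    have h3 : g * x * g⁻¹ = x := by
      have h4 := congrArg (fun c : CP => (c : G)) h2
      exact h4
    calc x * g = (g * x * g⁻¹) * g := by rw [h3]
      _ = g * x := by group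

end Cfsg.Agent.Helper8.S4503ORBC

namespace Cfsg.Agent.S4503P

open Cfsg Cfsg.Agent.Helper24 Cfsg.Agent.Helper8.D1 Cfsg.Agent.S4705P
open Cfsg.Agent.Helper11.D1QC Cfsg.Agent.Helper23.BT Cfsg.Agent.Helper8.S4503ORBC
open scoped ComplexConjugate

universe u

variable {G : Type u} [Group G] [Finite G]

theorem exists_orbit_finset (p : ℕ) [Fact p.Prime] (P : Sylow p G) (hP : Nat.card P = p)
    (θ : IrrCharacter (Subgroup.centralizer ((P : Subgroup G) : Set G)))
    (hθP : ∀ x : Subgroup.centralizer ((P : Subgroup G) : Set G), (x : G) ∈ (P : Subgroup G) →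
      (θ : Subgroup.centralizer ((P : Subgroup G) : Set G) → ℂ) x =
        (θ : Subgroup.centralizer ((P : Subgroup G) : Set G) → ℂ) 1)
    (μ : Subgroup.centralizer ((P : Subgroup G) : Set G) → ℂ) (hμ : NT p μ) :
    ∃ S : Finset (IrrCharacter (Subgroup.centralizer ((P : Subgroup G) : Set G))),
      S.card = fN (P : Subgroup G) ∧
      (∀ ξ ∈ S, ∃ (n : G) (hn : n ∈ Subgroup.normalizer ((P : Subgroup G) : Set G)),
        (ξ : Subgroup.centralizer ((P : Subgroup G) : Set G) → ℂ) =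
          fun c => μ (kap (P : Subgroup G) n hn c) *
            (θ : Subgroup.centralizer ((P : Subgroup G) : Set G) → ℂ)
              (kap (P : Subgroup G) n hn c)) ∧
      (∀ (n : G) (hn : n ∈ Subgroup.normalizer ((P : Subgroup G) : Set G)), ∃ ξ ∈ S,
        (ξ : Subgroup.centralizer ((P : Subgroup G) : Set G) → ℂ) =
          fun c => μ (kap (P : Subgroup G) n hn c) *
            (θ : Subgroup.centralizer ((P : Subgroup G) : Set G) → ℂ)
              (kap (P : Subgroup G) n hn c)) := by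
  classical
  letI : Fintype (IrrCharacter (Subgroup.centralizer ((P : Subgroup G) : Set G))) :=
    Fintype.ofFinite _
  letI := funAct (P : Subgroup G)
  have hirr : IsIrrCharacter (Subgroup.centralizer ((P : Subgroup G) : Set G))
      (fun c => μ c * (θ : Subgroup.centralizer ((P : Subgroup G) : Set G) → ℂ) c) :=
    hμ.1.isIrr_mul θ.2
  set ψ₀ : IrrCharacter (Subgroup.centralizer ((P : Subgroup G) : Set G)) := ⟨_, hirr⟩ with hψ₀
  set O : Set (Subgroup.centralizer ((P : Subgroup G) : Set G) → ℂ) :=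
    MulAction.orbit ↥(Subgroup.normalizer ((P : Subgroup G) : Set G))
      (fun c => μ c * (θ : Subgroup.centralizer ((P : Subgroup G) : Set G) → ℂ) c) with hO
  have hOmem : ∀ ψ : Subgroup.centralizer ((P : Subgroup G) : Set G) → ℂ, ψ ∈ O ↔
      ∃ (n : G) (hn : n ∈ Subgroup.normalizer ((P : Subgroup G) : Set G)),
        ψ = fun c => μ (kap (P : Subgroup G) n hn c) *
            (θ : Subgroup.centralizer ((P : Subgroup G) : Set G) → ℂ)
              (kap (P : Subgroup G) n hn c) :=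
    fun ψ => mem_orbit_funAct_iff (P : Subgroup G) _ ψ
  have hcard : O.ncard = fN (P : Subgroup G) :=
    ncard_orbit_funAct (P : Subgroup G) _ (Subgroup.centralizer ((P : Subgroup G) : Set G))
      (stab_eq P hP θ hθP μ hμ)
  refine ⟨Finset.univ.filter (fun ξ : IrrCharacter
    (Subgroup.centralizer ((P : Subgroup G) : Set G)) =>
      (ξ : Subgroup.centralizer ((P : Subgroup G) : Set G) → ℂ) ∈ O), ?_, ?_, ?_⟩
  · have himg : O = Subtype.val '' ((Finset.univ.filter (fun ξ : IrrCharacter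
        (Subgroup.centralizer ((P : Subgroup G) : Set G)) =>
          (ξ : Subgroup.centralizer ((P : Subgroup G) : Set G) → ℂ) ∈ O) : Finset _) :
            Set (IrrCharacter (Subgroup.centralizer ((P : Subgroup G) : Set G)))) := by
      ext ψ
      constructor
      · intro hψ
        obtain ⟨n, hn, rfl⟩ := (hOmem ψ).1 hψ
        refine ⟨pullIrr (kap (P : Subgroup G) n hn) ψ₀, ?_, rfl⟩
        rw [Finset.coe_filter]
        exact ⟨Finset.mem_univ _, hψ⟩
      · rintro ⟨ξ, hξ, rfl⟩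
        rw [Finset.coe_filter] at hξ
        exact hξ.2
    rw [← hcard]
    conv_rhs => rw [himg]
    rw [Set.ncard_image_of_injective _ Subtype.val_injective, Set.ncard_coe_finset]
  · intro ξ hξ
    rw [Finset.mem_filter] at hξ
    exact (hOmem _).1 hξ.2
  · intro n hn
    refine ⟨pullIrr (kap (P : Subgroup G) n hn) ψ₀, ?_, rfl⟩
    rw [Finset.mem_filter]
    refine ⟨Finset.mem_univ _, ?_⟩
    rw [hOmem]
    exact ⟨n, hn, rfl⟩

end Cfsg.Agent.S4503P
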