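import Mathlib
import Cfsg.Agent.Helper1.S4503Defs
import Cfsg.Agent.Helper5.S4503EXACTD
import Cfsg.Agent.Helper8.S4503ORBC
import Cfsg.Agent.Helper11.D1QCa
import Cfsg.Agent.Helper24.Codegree

/-!
# S4503, piece PSETS: the restrictions of `ψ`, `ψ₂` to `C_G(P)`
-/

set_option autoImplicit false
set_option linter.style.haveILetI false

namespace Cfsg.Agent.Helper8.S4503PSETS

open Cfsg Cfsg.Agent.Helper24 Cfsg.Agent.Helper8.D1 Cfsg.Agent.S4705P
open Cfsg.Agent.S4503P Cfsg.Agent.Helper11.D1QC Cfsg.Agent.Helper11.D1QL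
open scoped ComplexConjugate

universe u

set_option linter.unusedSectionVars false

variable {G : Type u} [Group G] [Finite G] {p : ℕ} [Fact p.Prime] (P : Sylow p G)

local notation "CP" => Subgroup.centralizer ((P : Subgroup G) : Set G)
local notation "NP" => Subgroup.normalizer ((P : Subgroup G) : Set G)

/-- two different `p`-linear functions are orthogonal on `P` -/
theorem sum_P_pLin (hP : Nat.card P = p) {ν ν' : CP → ℂ} (hν : IsPLin p ν) (hν' : IsPLin p ν')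
    (hne : ν ≠ ν') :
    ∑ᶠ c ∈ {c : CP | (c : G) ∈ (P : Subgroup G)}, ν c * conj (ν' c) = 0 := by
  obtain ⟨hZ, hZc, hZi⟩ := Cfsg.Agent.Helper18.D1QO.subgroupOf_facts P hP
  have hp : p.Prime := Fact.out
  have hconj : ∀ c : CP, conj (ν' c) = (ν' c)⁻¹ :=
    fun c => eq_inv_of_mul_eq_one_right (hν'.mul_conj c)
  have hlam : IsPLin p (fun c : CP => ν c * (ν' c)⁻¹) := hν.mul' hν'.inv'
  have hlamNT : ∃ x : CP, (fun c : CP => ν c * (ν' c)⁻¹) x ≠ 1 := by
    by_contra hno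
    push Not at hno
    apply hne
    funext c
    have h1 : ν c * (ν' c)⁻¹ = 1 := hno c
    have h2 : ν c = ν c * (ν' c)⁻¹ * ν' c := by
      rw [mul_assoc, inv_mul_cancel₀ (hν'.ne_zero c), mul_one]
    rw [h2, h1, one_mul]
  -- a non-identity element of `P`
  haveI : Finite ((P : Subgroup G).subgroupOf CP) :=
    Nat.finite_of_card_ne_zero (by rw [hZ]; exact hp.ne_zero)
  have hnt : Nontrivial ((P : Subgroup G).subgroupOf CP) := by
    rw [← Finite.one_lt_card_iff_nontrivial, hZ]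
    exact hp.one_lt
  obtain ⟨u, hu⟩ := exists_ne (1 : (P : Subgroup G).subgroupOf CP)
  have hu1 : (u : CP) ≠ 1 := fun h => hu (Subtype.ext h)
  have huP : ((u : CP) : G) ∈ (P : Subgroup G) := Subgroup.mem_subgroupOf.mp u.2
  have hlamu : ν u * (ν' u)⁻¹ ≠ 1 := pLin_apply_ne_one _ hZ hZc hZi hlam hlamNT u.2 hu1
  -- translate by `u`
  have hshift : ∑ᶠ c ∈ {c : CP | (c : G) ∈ (P : Subgroup G)}, ν c * conj (ν' c) =
      ∑ᶠ c ∈ {c : CP | (c : G) ∈ (P : Subgroup G)},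
        (ν u * (ν' u)⁻¹) * (ν c * conj (ν' c)) := by
    symm
    refine finsum_mem_eq_of_bijOn (fun c : CP => (u : CP) * c) ⟨?_, ?_, ?_⟩ ?_
    · intro c hc
      exact mul_mem huP hc
    · intro a _ b _ h
      exact mul_left_cancel h
    · intro c hc
      refine ⟨(u : CP)⁻¹ * c, ?_, ?_⟩
      · exact mul_mem (inv_mem huP) hc
      · simp
    · intro c _
      show (ν u * (ν' u)⁻¹) * (ν c * conj (ν' c)) = ν (u * c) * conj (ν' (u * c))
      rw [hconj, hconj, hν.mul, hν'.mul, mul_inv]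
      ring
  rw [← mul_finsum_mem] at hshift
  have h2 : (1 - ν u * (ν' u)⁻¹) *
      ∑ᶠ c ∈ {c : CP | (c : G) ∈ (P : Subgroup G)}, ν c * conj (ν' c) = 0 := by
    rw [sub_mul, one_mul, ← hshift, sub_self]
  rcases mul_eq_zero.1 h2 with h3 | h3
  · exact absurd (sub_eq_zero.1 h3).symm hlamu
  · exact h3

/-- the members of the orbit of `μ θ` are constituents of `ψ`, of degree `θ(1)` -/
theorem orbit_member (ψ : IrrCharacter G) (θ : IrrCharacter CP) (μ : CP → ℂ) (hμ : IsPLin p μ)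
    (h1 : mult CP (fun c => μ c * (θ : CP → ℂ) c) (ψ : G → ℂ) ≠ 0)
    (ξ : IrrCharacter CP) (n : G) (hn : n ∈ NP)
    (hξ : (ξ : CP → ℂ) = fun c => μ (kap (P : Subgroup G) n hn c) *
      (θ : CP → ℂ) (kap (P : Subgroup G) n hn c)) :
    mult CP (ξ : CP → ℂ) (ψ : G → ℂ) ≠ 0 ∧ irrDeg ξ = irrDeg θ := by
  constructor
  · rw [hξ]
    unfold mult at h1 ⊢
    rw [classInner_res_kap (P : Subgroup G) (isClassFunction_irr ψ) hn
      (fun c => μ c * (θ : CP → ℂ) c)]
    exact h1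
  · have h2 := irrDeg_spec ξ
    have h3 := irrDeg_spec θ
    rw [hξ] at h2
    simp only [map_one] at h2
    rw [hμ.one, one_mul, h3] at h2
    exact_mod_cast h2.symm

end Cfsg.Agent.Helper8.S4503PSETS

namespace Cfsg.Agent.S4503P

open Cfsg Cfsg.Agent.Helper24 Cfsg.Agent.Helper8.D1 Cfsg.Agent.S4705P
open Cfsg.Agent.Helper8.S4503PSETS
open scoped ComplexConjugate

universe u

variable {G : Type u} [Group G] [Finite G]

theorem exists_psiSets (p : ℕ) [Fact p.Prime] (P : Sylow p G) (hP : Nat.card P = p)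
    (ψ ψ₂ : IrrCharacter G)
    (θ : IrrCharacter (Subgroup.centralizer ((P : Subgroup G) : Set G)))
    (μ₁ μ₂ : Subgroup.centralizer ((P : Subgroup G) : Set G) → ℂ)
    (hθP : ∀ x : Subgroup.centralizer ((P : Subgroup G) : Set G), (x : G) ∈ (P : Subgroup G) →
      (θ : Subgroup.centralizer ((P : Subgroup G) : Set G) → ℂ) x =
        (θ : Subgroup.centralizer ((P : Subgroup G) : Set G) → ℂ) 1)
    (hμ₁ : NT p μ₁) (hμ₂ : NT p μ₂)
    (hnc : ¬ TConj (P : Subgroup G) (Subgroup.normalizer ((P : Subgroup G) : Set G)) μ₁ μ₂)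
    (hdeg₂ : irrDeg ψ₂ = irrDeg ψ)
    (h1 : mult (Subgroup.centralizer ((P : Subgroup G) : Set G))
      (fun c => μ₁ c * (θ : Subgroup.centralizer ((P : Subgroup G) : Set G) → ℂ) c)
      (ψ : G → ℂ) ≠ 0)
    (h2 : mult (Subgroup.centralizer ((P : Subgroup G) : Set G))
      (fun c => μ₂ c * (θ : Subgroup.centralizer ((P : Subgroup G) : Set G) → ℂ) c)
      (ψ₂ : G → ℂ) ≠ 0)
    (hdeg : irrDeg ψ = fN (P : Subgroup G) * irrDeg θ) : Nonempty (PsiSets p P ψ ψ₂) := by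
  classical
  obtain ⟨S, hScard, hSmem, -⟩ := exists_orbit_finset p P hP θ hθP μ₁ hμ₁
  obtain ⟨S₂, hS₂card, hS₂mem, -⟩ := exists_orbit_finset p P hP θ hθP μ₂ hμ₂
  have hS : ∀ ξ ∈ S, mult (Subgroup.centralizer ((P : Subgroup G) : Set G))
      (ξ : Subgroup.centralizer ((P : Subgroup G) : Set G) → ℂ) (ψ : G → ℂ) ≠ 0 ∧
      irrDeg ξ = irrDeg θ := by
    intro ξ hξ
    obtain ⟨n, hn, hξn⟩ := hSmem ξ hξ
    exact orbit_member P ψ θ μ₁ hμ₁.1 h1 ξ n hn hξn
  have hS₂ : ∀ ξ ∈ S₂, mult (Subgroup.centralizer ((P : Subgroup G) : Set G))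
      (ξ : Subgroup.centralizer ((P : Subgroup G) : Set G) → ℂ) (ψ₂ : G → ℂ) ≠ 0 ∧
      irrDeg ξ = irrDeg θ := by
    intro ξ hξ
    obtain ⟨n, hn, hξn⟩ := hS₂mem ξ hξ
    exact orbit_member P ψ₂ θ μ₂ hμ₂.1 h2 ξ n hn hξn
  have hsumS : ∑ ξ ∈ S, irrDeg ξ = charDegree (ψ : G → ℂ) := by
    rw [Finset.sum_congr rfl (fun ξ hξ => (hS ξ hξ).2), Finset.sum_const, hScard, smul_eq_mul,
      charDegree_irr, hdeg]
  have hsumS₂ : ∑ ξ ∈ S₂, irrDeg ξ = charDegree (ψ₂ : G → ℂ) := by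
    rw [Finset.sum_congr rfl (fun ξ hξ => (hS₂ ξ hξ).2), Finset.sum_const, hS₂card, smul_eq_mul,
      charDegree_irr, hdeg₂, hdeg]
  refine ⟨⟨S, S₂, hScard, hS₂card, ?_, ?_, ?_⟩⟩
  · exact restrict_eq_sum_of_degree _ _ (IsIrrCharacter.isCharacter ψ.2) S
      (fun ξ hξ => (hS ξ hξ).1) hsumS
  · exact restrict_eq_sum_of_degree _ _ (IsIrrCharacter.isCharacter ψ₂.2) S₂
      (fun ξ hξ => (hS₂ ξ hξ).1) hsumS₂
  · intro ξ hξ ξ' hξ'
    obtain ⟨n, hn, hξn⟩ := hSmem ξ hξ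
    obtain ⟨n', hn', hξn'⟩ := hS₂mem ξ' hξ'
    have hν : IsPLin p (fun c => μ₁ (kap (P : Subgroup G) n hn c)) :=
      hμ₁.1.comp (kap (P : Subgroup G) n hn)
    have hν' : IsPLin p (fun c => μ₂ (kap (P : Subgroup G) n' hn' c)) :=
      hμ₂.1.comp (kap (P : Subgroup G) n' hn')
    have hne : (fun c => μ₁ (kap (P : Subgroup G) n hn c)) ≠
        (fun c => μ₂ (kap (P : Subgroup G) n' hn' c)) := by
      intro h
      apply hnc
      have t1 : TConj (P : Subgroup G) (Subgroup.normalizer ((P : Subgroup G) : Set G)) μ₁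
          (fun c => μ₁ (kap (P : Subgroup G) n hn c)) := ⟨n, hn, hn, rfl⟩
      have t2 : TConj (P : Subgroup G) (Subgroup.normalizer ((P : Subgroup G) : Set G)) μ₂
          (fun c => μ₂ (kap (P : Subgroup G) n' hn' c)) := ⟨n', hn', hn', rfl⟩
      rw [h] at t1
      exact t1.trans t2.symm
    have h0 := sum_P_pLin P hP hν hν' hne
    have hkapP : ∀ (m : G) (hm : m ∈ Subgroup.normalizer ((P : Subgroup G) : Set G))
        (c : Subgroup.centralizer ((P : Subgroup G) : Set G)), (c : G) ∈ (P : Subgroup G) →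
        ((kap (P : Subgroup G) m hm c : Subgroup.centralizer ((P : Subgroup G) : Set G)) : G) ∈
          (P : Subgroup G) := by
      intro m hm c hc
      rw [coe_kap]
      exact (Subgroup.mem_normalizer_iff.mp hm (c : G)).mp hc
    have hcongr : ∑ᶠ c ∈ {c : Subgroup.centralizer ((P : Subgroup G) : Set G) |
          (c : G) ∈ (P : Subgroup G)},
        (ξ : Subgroup.centralizer ((P : Subgroup G) : Set G) → ℂ) c *
          conj ((ξ' : Subgroup.centralizer ((P : Subgroup G) : Set G) → ℂ) c) =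
        ∑ᶠ c ∈ {c : Subgroup.centralizer ((P : Subgroup G) : Set G) |
          (c : G) ∈ (P : Subgroup G)},
          ((θ : Subgroup.centralizer ((P : Subgroup G) : Set G) → ℂ) 1 *
            conj ((θ : Subgroup.centralizer ((P : Subgroup G) : Set G) → ℂ) 1)) *
          (μ₁ (kap (P : Subgroup G) n hn c) * conj (μ₂ (kap (P : Subgroup G) n' hn' c))) := by
      apply finsum_mem_congr rfl
      intro c hc
      rw [hξn, hξn']
      simp only
      rw [hθP _ (hkapP n hn c hc), hθP _ (hkapP n' hn' c hc), map_mul]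
      ring
    rw [hcongr, ← mul_finsum_mem, h0, mul_zero]

end Cfsg.Agent.S4503P
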