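import Mathlib
import Cfsg.Agent.Helper1.S4503Defs
import Cfsg.Agent.Helper5.D1QS
import Cfsg.Agent.Helper5.D1QX
import Cfsg.Agent.Helper5.D1Count
import Cfsg.Agent.Helper5.ThirdMain
import Cfsg.Agent.Helper5.BlockBasic
import Cfsg.Agent.Helper23.D1QI
import Cfsg.Agent.S0936
import Cfsg.Agent.Helper24.Codegree

/-!
# S4503, piece FZ: members of the principal block see only the trivial character of `V`
-/

set_option autoImplicit false

namespace Cfsg.Agent.S4503P

open Cfsg Cfsg.Agent.Helper24 Cfsg.Agent.Helper8.D1 Cfsg.Agent.S4705P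
open Cfsg.Agent.Helper5 Cfsg.Agent.Helper5.Loc Cfsg.Agent.Helper5.CC Cfsg.Agent.Helper5.D1Q
open scoped ComplexConjugate

universe u

variable {G : Type u} [Group G] [Finite G]

theorem dnum_eq_zero_of_ne_triv (p : ℕ) [Fact p.Prime] (M : Ideal AlgInt) (hM : IsPModular p M)
    (P : Sylow p G) (hP : Nat.card P = p) (χ : IrrCharacter G) (hχ : χ ∈ principalBlock M G)
    (φ : IrrCharacter (Subgroup.centralizer ((P : Subgroup G) : Set G)))
    (hφP : ∀ x : Subgroup.centralizer ((P : Subgroup G) : Set G), (x : G) ∈ (P : Subgroup G) →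
      (φ : Subgroup.centralizer ((P : Subgroup G) : Set G) → ℂ) x =
        (φ : Subgroup.centralizer ((P : Subgroup G) : Set G) → ℂ) 1)
    (hφ : ∃ c, (φ : Subgroup.centralizer ((P : Subgroup G) : Set G) → ℂ) c ≠ 1)
    (μ : Subgroup.centralizer ((P : Subgroup G) : Set G) → ℂ) (hμ : IsPLin p μ) :
    Dnum (Subgroup.centralizer ((P : Subgroup G) : Set G)) μ
      (φ : Subgroup.centralizer ((P : Subgroup G) : Set G) → ℂ) (χ : G → ℂ) = 0 := by
  classical
  have hr : p.Prime := Fact.out
  have hMp := isPrime_of_isPModular hM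
  obtain ⟨B', hind'⟩ := Cfsg.Agent.Helper23.D1QI.exists_induced hM P hP φ
  have hφb : φ ∈ blockOf M (φ : Subgroup.centralizer ((P : Subgroup G) : Set G) → ℂ) :=
    mem_blockOf_self hMp φ
  by_cases hχB' : χ ∈ B'
  swap
  · exact Dnum_eq_zero_of_not_mem hM P hP _ B' hind' φ hφb μ hμ χ hχB'
  exfalso
  -- `B'` is the principal block
  have hB' : IsPBlock M B' := hind'.2.1
  have hB₀ : IsPBlock M (principalBlock M G) := isPBlock_principalBlock
  have hBeq : B' = principalBlock M G := by
    rw [IsPBlock_eq_blockOf hMp hB' hχB', IsPBlock_eq_blockOf hMp hB₀ hχ]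
  rw [hBeq] at hind'
  -- arithmetic
  have hcardR : Nat.card P = p ^ (Nat.card G).factorization p := P.card_eq_multiplicity
  have hfac : (Nat.card G).factorization p = 1 := by
    rw [hP] at hcardR
    have h1 : p ^ 1 = p ^ (Nat.card G).factorization p := by rw [pow_one]; exact hcardR
    exact (Nat.pow_right_injective hr.two_le h1).symm
  have h0 : Nat.card G ≠ 0 := Nat.card_pos.ne'
  have hdiv : p ∣ Nat.card G := (hr.dvd_iff_one_le_factorization h0).mpr (by omega)
  have hsq : ¬ p ^ 2 ∣ Nat.card G := fun h => by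
    have := (hr.pow_dvd_iff_le_factorization h0).mp h
    omega
  -- the principal block has positive defect
  have hd : 0 < blockDefect p (principalBlock M G) := by
    unfold blockDefect
    have h1 : sInf ((fun ψ : IrrCharacter G => (charDegree (ψ : G → ℂ)).factorization p) ''
        (principalBlock M G)) = 0 := by
      apply Nat.eq_zero_of_le_zero
      apply Nat.sInf_le
      refine ⟨trivIrr G, trivIrr_mem_principalBlock hMp, ?_⟩
      show (charDegree (trivIrr G : G → ℂ)).factorization p = 0
      rw [charDegree_irr]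
      apply Nat.factorization_eq_zero_of_not_dvd
      have h2 : irrDeg (trivIrr G) = 1 := by
        have h3 := irrDeg_spec (trivIrr G)
        rw [trivIrr_apply] at h3
        exact_mod_cast h3.symm
      rw [h2]
      exact hr.one_lt.ne' ∘ Nat.dvd_one.1
    rw [h1, Nat.sub_zero, hfac]
    exact Nat.one_pos
  have hBP : IsDefectGroup p M (principalBlock M G) P :=
    isDefectGroup_sylow_of_pos hM hdiv hsq P _ hB₀ hd
  -- the principal block of `C` induces the principal block of `G`
  obtain ⟨B'', hind''⟩ := Cfsg.Agent.Helper23.D1QI.exists_induced hM P hP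
    (trivIrr (Subgroup.centralizer ((P : Subgroup G) : Set G)))
  have hind₀ : IsInducedBlock M (Subgroup.centralizer ((P : Subgroup G) : Set G))
      (principalBlock M (Subgroup.centralizer ((P : Subgroup G) : Set G)))
      (principalBlock M G) :=
    (Cfsg.Agent.S0936.result p M hM _ _ ⟨B'', hind''⟩).2 rfl
  obtain ⟨n, hn, hconj⟩ := exists_conj_canonical hM P hP (principalBlock M G) hBP
    (principalBlock M (Subgroup.centralizer ((P : Subgroup G) : Set G)))
    (blockOf M (φ : Subgroup.centralizer ((P : Subgroup G) : Set G) → ℂ)) hind₀ hind'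
    (trivIrr _) φ (trivIrr_mem_principalBlock hMp) hφb (fun _ _ => rfl) hφP
  obtain ⟨c, hc⟩ := hφ
  apply hc
  rw [hconj c, trivIrr_apply]

end Cfsg.Agent.S4503P
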