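import Mathlib
import Cfsg.Agent.Helper1.S4503Defs
import Cfsg.Agent.Helper8.W2pT1a
import Cfsg.Agent.Helper8.CharComp
import Cfsg.Agent.Helper11.D1QL
import Cfsg.Agent.Helper11.D1QCc
import Cfsg.Agent.Helper18.D1QO
import Cfsg.Agent.Helper24.Expansion
import Cfsg.Agent.Helper24.Orthogonality

/-!
# S4503, piece VAL: the values of `χ` on the `p`-singular elements of `C_G(P)`
-/

set_option autoImplicit false
set_option linter.style.haveILetI false

namespace Cfsg.Agent.Helper8.S4503VAL

open Cfsg Cfsg.Agent.Helper24 Cfsg.Agent.Helper8.D1 Cfsg.Agent.Helper8.W2p Cfsg.Agent.S4705P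
open Cfsg.Agent.S4503P Cfsg.Agent.Helper11.D1QC
open scoped ComplexConjugate

universe u

variable {G : Type u} [Group G] [Finite G]

/-- the natural number `multN` is the multiplicity -/
theorem multN_cast' (H : Subgroup G) (ξ : H → ℂ) (hξ : IsIrrCharacter H ξ) (Ξ : G → ℂ)
    (hΞ : IsCharacter G Ξ) : ((multN H ξ Ξ : ℕ) : ℂ) = mult H ξ Ξ := by
  classical
  letI : Fintype H := Fintype.ofFinite H
  letI : Fintype (IrrCharacter H) := Fintype.ofFinite _
  obtain ⟨n, hn⟩ := IsCharacter.classInner_irr_nat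
    (Cfsg.Agent.Helper8.isCharacter_restrict H hΞ) ⟨ξ, hξ⟩
  have h1 : mult H ξ Ξ = (n : ℂ) := by
    rw [mult_eq]
    exact hn
  unfold multN
  rw [h1, Complex.natCast_re, Nat.floor_natCast]

variable {p : ℕ} [Fact p.Prime] (P : Sylow p G)

local notation "CP" => Subgroup.centralizer ((P : Subgroup G) : Set G)

/-- column orthogonality for the `p`-linear functions at a `p`-singular element -/
theorem sum_PL_singular (hP : Nat.card P = p) [Fintype (PL P)]
    (c : CP) (hc : p ∣ orderOf (c : G)) : ∑ μ : PL P, μ.1 c = 0 := by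
  obtain ⟨μ₀, hμ₀⟩ := exists_nt P hP
  obtain ⟨hZ, hZc, hZi⟩ := Cfsg.Agent.Helper18.D1QO.subgroupOf_facts P hP
  have hu : c ^ ((P : Subgroup G).subgroupOf CP).index ∈ (P : Subgroup G).subgroupOf CP :=
    Cfsg.Agent.Helper11.D1QL.pow_index_mem _ hZc c
  have hu1 : c ^ ((P : Subgroup G).subgroupOf CP).index ≠ 1 := by
    intro h
    apply hZi
    have h2 : orderOf c ∣ ((P : Subgroup G).subgroupOf CP).index := orderOf_dvd_of_pow_eq_one h
    rw [← Subgroup.orderOf_coe] at h2
    exact hc.trans h2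
  have ha0 := Cfsg.Agent.Helper11.D1QL.pLin_apply_ne_one _ hZ hZc hZi hμ₀.1 hμ₀.2 hu hu1
  have ha : μ₀.1 c ≠ 1 := by
    intro h
    apply ha0
    rw [hμ₀.1.pow, h, one_pow]
  have h1 : ∑ μ : PL P, μ.1 c = μ₀.1 c * ∑ μ : PL P, μ.1 c := by
    rw [Finset.mul_sum]
    exact (Fintype.sum_equiv (mulPL P μ₀) (fun ν => μ₀.1 c * ν.1 c) (fun ν => ν.1 c)
      (fun ν => rfl)).symm
  have h2 : (1 - μ₀.1 c) * ∑ μ : PL P, μ.1 c = 0 := by
    rw [sub_mul, one_mul, ← h1, sub_self]
  rcases mul_eq_zero.1 h2 with h3 | h3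
  · exact absurd (sub_eq_zero.1 h3).symm ha
  · exact h3

end Cfsg.Agent.Helper8.S4503VAL

namespace Cfsg.Agent.S4503P

open Cfsg Cfsg.Agent.Helper24 Cfsg.Agent.Helper8.D1 Cfsg.Agent.Helper8.W2p Cfsg.Agent.S4705P
open Cfsg.Agent.Helper11.D1QC Cfsg.Agent.Helper8.S4503VAL
open scoped ComplexConjugate

universe u

variable {G : Type u} [Group G] [Finite G]

theorem val_of_dnum_zero (p : ℕ) [Fact p.Prime] (P : Sylow p G) (hP : Nat.card P = p)
    (χ : IrrCharacter G)
    (hZ : ∀ φ : IrrCharacter (Subgroup.centralizer ((P : Subgroup G) : Set G)),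
      (∀ x : Subgroup.centralizer ((P : Subgroup G) : Set G), (x : G) ∈ (P : Subgroup G) →
        (φ : Subgroup.centralizer ((P : Subgroup G) : Set G) → ℂ) x =
          (φ : Subgroup.centralizer ((P : Subgroup G) : Set G) → ℂ) 1) →
      (∃ c, (φ : Subgroup.centralizer ((P : Subgroup G) : Set G) → ℂ) c ≠ 1) →
      ∀ μ, IsPLin p μ → Dnum (Subgroup.centralizer ((P : Subgroup G) : Set G)) μ
        (φ : Subgroup.centralizer ((P : Subgroup G) : Set G) → ℂ) (χ : G → ℂ) = 0)
    (c : Subgroup.centralizer ((P : Subgroup G) : Set G)) (hc : p ∣ orderOf (c : G)) :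
    (χ : G → ℂ) c = ∑ᶠ ν ∈ {ν : Subgroup.centralizer ((P : Subgroup G) : Set G) → ℂ | NT p ν},
      (((multN (Subgroup.centralizer ((P : Subgroup G) : Set G)) ν (χ : G → ℂ) : ℤ) -
        multN (Subgroup.centralizer ((P : Subgroup G) : Set G)) (triv _) (χ : G → ℂ) : ℤ) : ℂ) *
          ν c := by
  classical
  have := finite_PL P hP
  letI : Fintype (PL P) := Fintype.ofFinite _
  letI : Fintype (Subgroup.centralizer ((P : Subgroup G) : Set G)) := Fintype.ofFinite _
  letI : Fintype (IrrCharacter (Subgroup.centralizer ((P : Subgroup G) : Set G))) :=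
    Fintype.ofFinite _
  letI : Fintype (Tty (P : Subgroup G)) := Fintype.ofFinite _
  have hχc : IsCharacter G (χ : G → ℂ) := IsIrrCharacter.isCharacter χ.2
  set a : (Subgroup.centralizer ((P : Subgroup G) : Set G) → ℂ) → ℂ :=
    fun ξ => mult (Subgroup.centralizer ((P : Subgroup G) : Set G)) ξ (χ : G → ℂ) with ha
  set f : (Subgroup.centralizer ((P : Subgroup G) : Set G) → ℂ) → ℂ := fun ν =>
    (((multN (Subgroup.centralizer ((P : Subgroup G) : Set G)) ν (χ : G → ℂ) : ℤ) -
        multN (Subgroup.centralizer ((P : Subgroup G) : Set G)) (triv _) (χ : G → ℂ) : ℤ) : ℂ) *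
          ν c with hf
  have htriv : IsIrrCharacter (Subgroup.centralizer ((P : Subgroup G) : Set G))
      (triv (Subgroup.centralizer ((P : Subgroup G) : Set G))) := isIrrCharacter_const_one
  -- `f` on `p`-linear functions
  have hfμ : ∀ μ : PL P, f μ.1 = (a μ.1 - a (triv _)) * μ.1 c := by
    intro μ
    rw [hf]
    simp only
    rw [Int.cast_sub, Int.cast_natCast, Int.cast_natCast,
      multN_cast' _ _ (isIrr_of_isPLin μ.2) _ hχc, multN_cast' _ _ htriv _ hχc]
  -- the finsum as a finite sum over `PL P`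
  have hfin : ∑ᶠ ν ∈ {ν : Subgroup.centralizer ((P : Subgroup G) : Set G) → ℂ | NT p ν}, f ν =
      ∑ μ : PL P, f μ.1 := by
    have h1 : ∑ᶠ ν ∈ {ν : Subgroup.centralizer ((P : Subgroup G) : Set G) → ℂ | NT p ν}, f ν =
        ∑ᶠ ν ∈ {ν : Subgroup.centralizer ((P : Subgroup G) : Set G) → ℂ | IsPLin p ν}, f ν := by
      apply finsum_mem_inter_support_eq
      ext μ
      simp only [Set.mem_inter_iff, Set.mem_ofPred_eq, Function.mem_support]
      constructor
      · rintro ⟨h, h'⟩; exact ⟨h.1, h'⟩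
      · rintro ⟨h, h'⟩
        refine ⟨⟨h, ?_⟩, h'⟩
        by_contra hno
        push Not at hno
        apply h'
        have hμ1 : μ = triv _ := by
          funext x
          exact hno x
        rw [hf]
        simp only
        rw [hμ1, sub_self, Int.cast_zero, zero_mul]
    rw [h1, ← finsum_set_coe_eq_finsum_mem]
    exact finsum_eq_sum_of_fintype (fun μ : PL P => f μ.1)
  show (χ : G → ℂ) c = ∑ᶠ ν ∈ {ν : Subgroup.centralizer ((P : Subgroup G) : Set G) → ℂ | NT p ν}, f ν
  rw [hfin]
  -- expansion of `χ` on `C`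
  have h1 : (χ : G → ℂ) c =
      ∑ ξ : IrrCharacter (Subgroup.centralizer ((P : Subgroup G) : Set G)),
        a (ξ : Subgroup.centralizer ((P : Subgroup G) : Set G) → ℂ) *
          (ξ : Subgroup.centralizer ((P : Subgroup G) : Set G) → ℂ) c := by
    have h := IsCharacter.eq_sum_classInner
      (Cfsg.Agent.Helper8.isCharacter_restrict (Subgroup.centralizer ((P : Subgroup G) : Set G)) hχc)
    have h2 := congrFun h c
    simp only [Finset.sum_apply, Pi.smul_apply, smul_eq_mul] at h2
    rw [h2]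
    apply Finset.sum_congr rfl
    intro ξ _
    rw [ha]
    simp only
    rw [mult_eq]
  rw [h1, sum_irr_eq_sum_prod P hP]
  -- the trivial character of `C` in `Tty`
  set t₀ : Tty (P : Subgroup G) := ⟨trivIrr _, fun z _ => rfl⟩ with ht₀
  have hmul : ∀ (μ : PL P) (θ : IrrCharacter (Subgroup.centralizer ((P : Subgroup G) : Set G))),
      ((mulIrr μ θ : IrrCharacter (Subgroup.centralizer ((P : Subgroup G) : Set G))) :
        Subgroup.centralizer ((P : Subgroup G) : Set G) → ℂ) =
        fun x => μ.1 x * (θ : Subgroup.centralizer ((P : Subgroup G) : Set G) → ℂ) x :=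
    fun μ θ => rfl
  rw [Finset.sum_eq_single t₀]
  · -- the trivial character
    have h3 : ∀ μ : PL P,
        a ((mulIrr μ t₀.1 : IrrCharacter (Subgroup.centralizer ((P : Subgroup G) : Set G))) :
          Subgroup.centralizer ((P : Subgroup G) : Set G) → ℂ) *
          ((mulIrr μ t₀.1 : IrrCharacter (Subgroup.centralizer ((P : Subgroup G) : Set G))) :
            Subgroup.centralizer ((P : Subgroup G) : Set G) → ℂ) c =
        f μ.1 + a (triv _) * μ.1 c := by
      intro μ
      have h4 : ((mulIrr μ t₀.1 : IrrCharacter (Subgroup.centralizer ((P : Subgroup G) : Set G))) :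
          Subgroup.centralizer ((P : Subgroup G) : Set G) → ℂ) = μ.1 := by
        rw [hmul]
        funext x
        rw [ht₀]
        simp only [trivIrr_apply, mul_one]
      rw [h4, hfμ μ]
      ring
    rw [Finset.sum_congr rfl (fun μ _ => h3 μ), Finset.sum_add_distrib, ← Finset.mul_sum,
      sum_PL_singular P hP c hc, mul_zero, add_zero]
  · -- the other characters
    intro θ' _ hθ'
    have hne : ∃ x, (θ'.1 : Subgroup.centralizer ((P : Subgroup G) : Set G) → ℂ) x ≠ 1 := by
      by_contra hno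
      push Not at hno
      apply hθ'
      apply Subtype.ext
      apply Subtype.ext
      funext x
      rw [hno x]
      rfl
    have hθP : ∀ x : Subgroup.centralizer ((P : Subgroup G) : Set G), (x : G) ∈ (P : Subgroup G) →
        (θ'.1 : Subgroup.centralizer ((P : Subgroup G) : Set G) → ℂ) x =
          (θ'.1 : Subgroup.centralizer ((P : Subgroup G) : Set G) → ℂ) 1 :=
      fun x hx => θ'.2 x (Subgroup.mem_subgroupOf.mpr hx)
    have h3 : ∀ μ : PL P,
        a ((mulIrr μ θ'.1 : IrrCharacter (Subgroup.centralizer ((P : Subgroup G) : Set G))) :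
          Subgroup.centralizer ((P : Subgroup G) : Set G) → ℂ) *
          ((mulIrr μ θ'.1 : IrrCharacter (Subgroup.centralizer ((P : Subgroup G) : Set G))) :
            Subgroup.centralizer ((P : Subgroup G) : Set G) → ℂ) c =
        (a (θ'.1 : Subgroup.centralizer ((P : Subgroup G) : Set G) → ℂ) *
          (θ'.1 : Subgroup.centralizer ((P : Subgroup G) : Set G) → ℂ) c) * μ.1 c := by
      intro μ
      have h4 := hZ θ'.1 hθP hne μ.1 μ.2
      rw [Dnum_eq_mult, sub_eq_zero] at h4
      rw [hmul, ha]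
      simp only
      rw [h4]
      ring
    rw [Finset.sum_congr rfl (fun μ _ => h3 μ), ← Finset.mul_sum, sum_PL_singular P hP c hc,
      mul_zero]
  · intro h
    exact absurd (Finset.mem_univ _) h

end Cfsg.Agent.S4503P
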