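import Mathlib

set_option autoImplicit false

/-! S4607 piece MINOR. -/

namespace Cfsg.Agent.S4607P

namespace MINOR

/-- `rank` many linearly independent rows -/
theorem exists_rows {K : Type*} [Field K] {m n : Type*} [Fintype m] [Fintype n]
    [DecidableEq m] [DecidableEq n] (A : Matrix m n K) (r : ℕ) (hr : A.rank = r) :
    ∃ f : Fin r → m, LinearIndependent K (A.submatrix f id).row := by
  subst hr
  rw [Matrix.rank_eq_finrank_span_row]
  obtain ⟨F, hFmem, -, hFli⟩ := Submodule.exists_fun_fin_finrank_span_eq K (Set.range A.row)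
  choose f hf using hFmem
  refine ⟨f, ?_⟩
  have : (A.submatrix f id).row = F := by
    funext i
    rw [← hf i]
    rfl
  rw [this]
  exact hFli

end MINOR

/-- MINOR: a matrix over a field has a nonvanishing minor of size its rank -/
theorem exists_submatrix_det_ne_zero {K : Type*} [Field K] {m n : Type*} [Fintype m] [Fintype n]
    [DecidableEq m] [DecidableEq n] (A : Matrix m n K) :
    ∃ (f : Fin A.rank → m) (g : Fin A.rank → n), (A.submatrix f g).det ≠ 0 := by
  classical
  obtain ⟨f, hf⟩ := MINOR.exists_rows A A.rank rfl
  have h1 : (A.submatrix f id).rank = A.rank := by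
    rw [hf.rank_matrix, Fintype.card_fin]
  have h2 : (A.submatrix f id).transpose.rank = A.rank := by
    rw [Matrix.rank_transpose, h1]
  obtain ⟨g, hg⟩ := MINOR.exists_rows (A.submatrix f id).transpose A.rank h2
  refine ⟨f, g, ?_⟩
  have hunit := Matrix.linearIndependent_rows_iff_isUnit.mp hg
  have hdet := (Matrix.isUnit_iff_isUnit_det _).mp hunit
  have heq : A.submatrix f g = ((A.submatrix f id).transpose.submatrix g id).transpose := by
    ext i j
    rfl
  rw [heq, Matrix.det_transpose]
  exact hdet.ne_zero

end Cfsg.Agent.S4607P
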