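import Mathlib

set_option autoImplicit false

/-! S4607 pieces IDEMSUM. -/

namespace Cfsg.Agent.S4607P

/-- IDEMSUM: for an idempotent matrix over a field, `rank P + rank (1 - P)` is the size -/
theorem rank_add_rank_one_sub {K : Type*} [Field K] {ι : Type*} [Fintype ι] [DecidableEq ι]
    (P : Matrix ι ι K) (hP : P * P = P) : P.rank + (1 - P).rank = Fintype.card ι := by
  have h1 : LinearMap.range (1 - P).mulVecLin = LinearMap.ker P.mulVecLin := by
    ext v
    constructor
    · rintro ⟨w, rfl⟩
      rw [LinearMap.mem_ker, Matrix.mulVecLin_apply, Matrix.mulVecLin_apply, Matrix.mulVec_mulVec,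
        Matrix.mul_sub, Matrix.mul_one, hP, sub_self, Matrix.zero_mulVec]
    · intro hv
      rw [LinearMap.mem_ker, Matrix.mulVecLin_apply] at hv
      refine ⟨v, ?_⟩
      rw [Matrix.mulVecLin_apply, Matrix.sub_mulVec, Matrix.one_mulVec, hv, sub_zero]
  have h2 := LinearMap.finrank_range_add_finrank_ker P.mulVecLin
  rw [Module.finrank_fintype_fun_eq_card] at h2
  rw [Matrix.rank, Matrix.rank, h1]
  exact h2

end Cfsg.Agent.S4607P
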