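import Mathlib

set_option autoImplicit false

namespace Cfsg.Agent.Helper8

/-- A subgroup whose order is coprime to the index of a normal subgroup lies in it. -/
theorem le_of_coprime_index {G : Type*} [Group G] [Finite G] (N K : Subgroup G) [N.Normal]
    (hcop : (Nat.card K).Coprime N.index) : K ≤ N := by
  have h1 : Nat.card (K.map (QuotientGroup.mk' N)) ∣ Nat.card K := Subgroup.card_map_dvd _ _
  have h2 : Nat.card (K.map (QuotientGroup.mk' N)) ∣ N.index := by
    rw [Subgroup.index_eq_card]
    exact Subgroup.card_subgroup_dvd_card _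
  have h3 : Nat.card (K.map (QuotientGroup.mk' N)) = 1 :=
    Nat.eq_one_of_dvd_coprimes hcop h1 h2
  have h4 := Subgroup.eq_bot_of_card_eq _ h3
  rw [Subgroup.map_eq_bot_iff, QuotientGroup.ker_mk'] at h4
  exact h4

/-- Relative version: `N, K ≤ C`, `C` normalizes `N`, `|K|` coprime to `[C : N]` implies `K ≤ N`. -/
theorem le_of_coprime_relIndex {G : Type*} [Group G] [Finite G] {N K C : Subgroup G}
    (hKC : K ≤ C) (hnorm : C ≤ Subgroup.normalizer (N : Set G))
    (hcop : (Nat.card K).Coprime (N.relIndex C)) : K ≤ N := by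
  have : (N.subgroupOf C).Normal := Subgroup.normal_subgroupOf_of_le_normalizer hnorm
  have hc : Nat.card (K.subgroupOf C) = Nat.card K :=
    Nat.card_congr (Subgroup.subgroupOfEquivOfLe hKC).toEquiv
  have := le_of_coprime_index (N.subgroupOf C) (K.subgroupOf C) (by rw [hc]; exact hcop)
  intro k hk
  have hk' : (⟨k, hKC hk⟩ : C) ∈ K.subgroupOf C := by
    rw [Subgroup.mem_subgroupOf]; exact hk
  have := this hk'
  rw [Subgroup.mem_subgroupOf] at this
  exact this

/-- If `N ⊓ M = ⊥`, `N ⊔ M = C` and `C` normalizes `N` then `[C : N] = |M|`. -/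
theorem relIndex_eq_card_of_compl {G : Type*} [Group G] {N M C : Subgroup G}
    (hnorm : C ≤ Subgroup.normalizer (N : Set G)) (hinf : N ⊓ M = ⊥) (hsup : N ⊔ M = C) :
    N.relIndex C = Nat.card M := by
  have hNC : N ≤ C := hsup ▸ le_sup_left
  have hMC : M ≤ C := hsup ▸ le_sup_right
  have : (N.subgroupOf C).Normal := Subgroup.normal_subgroupOf_of_le_normalizer hnorm
  have hcompl : Subgroup.IsComplement' (M.subgroupOf C) (N.subgroupOf C) := by
    apply Subgroup.isComplement'_of_disjoint_and_mul_eq_univ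
    · rw [Subgroup.disjoint_def]
      intro x hxM hxN
      rw [Subgroup.mem_subgroupOf] at hxM hxN
      have : (x : G) ∈ N ⊓ M := ⟨hxN, hxM⟩
      rw [hinf, Subgroup.mem_bot] at this
      exact Subtype.ext this
    · rw [Set.eq_univ_iff_forall]
      intro c
      have hc : (c : G) ∈ (↑(M ⊔ N) : Set G) := by
        rw [sup_comm, hsup]; exact c.2
      rw [Subgroup.coe_mul_of_left_le_normalizer_right M N (hMC.trans hnorm)] at hc
      obtain ⟨m, hm, n, hn, hmn⟩ := hc
      refine ⟨⟨m, hMC hm⟩, ?_, ⟨n, hNC hn⟩, ?_, ?_⟩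
      · exact hm
      · exact hn
      · exact Subtype.ext hmn
  have := hcompl.index_eq_card
  rw [Subgroup.relIndex, this]
  exact Nat.card_congr (Subgroup.subgroupOfEquivOfLe hMC).toEquiv

/-- The order of a conjugate. -/
theorem orderOf_conj_eq {G : Type*} [Group G] (x g : G) : orderOf (x * g * x⁻¹) = orderOf g :=
  orderOf_injective (MulAut.conj x).toMonoidHom (MulAut.conj x).injective g

end Cfsg.Agent.Helper8
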