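import Mathlib
import Cfsg.Prelude.Def_Characters
import Cfsg.Prelude.Def_OddOrderChar
import Cfsg.Agent.Helper8.Basic
import Cfsg.Agent.Helper3.ProdCard

set_option autoImplicit false

namespace Cfsg.Agent.Helper8

open scoped ComplexConjugate Pointwise

variable {G : Type*} [Group G] {A : Set G} {L : Subgroup G} {H : G → Subgroup G}

/-- elements of `A` commute with `H a` -/
theorem dade_commute (hD : Cfsg.DadeHypothesis A L H) {a u : G} (ha : a ∈ A) (hu : u ∈ H a) :
    Commute a u := by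
  have := hD.le_centralizer a ha hu
  rw [Subgroup.mem_centralizer_singleton_iff] at this
  exact this.symm

theorem pow_eq_pow_of_modEq_of_pow_eq_one {x : G} {m k j : ℕ} (hx : x ^ m = 1)
    (h : k ≡ j [MOD m]) : x ^ k = x ^ j := by
  rw [pow_eq_pow_iff_modEq]
  exact h.of_dvd (orderOf_dvd_of_pow_eq_one hx)

/-- a common exponent extracting the `A`-part -/
theorem dade_pow [Finite G] (hD : Cfsg.DadeHypothesis A L H) {a u b v : G} (ha : a ∈ A)
    (hu : u ∈ H a) (hb : b ∈ A) (hv : v ∈ H b) :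
    ∃ k : ℕ, (a * u) ^ k = a ∧ (b * v) ^ k = b := by
  set ma := Nat.card ↥(L ⊓ Subgroup.centralizer ({a} : Set G)) with hma
  set mb := Nat.card ↥(L ⊓ Subgroup.centralizer ({b} : Set G)) with hmb
  set ha' := Nat.card (H a) with hha
  set hb' := Nat.card (H b) with hhb
  have hco : Nat.Coprime (ma * mb) (ha' * hb') := by
    apply Nat.Coprime.mul_left <;> apply Nat.Coprime.mul_right
    · exact (hD.coprime a ha a ha).symm
    · exact (hD.coprime b hb a ha).symm
    · exact (hD.coprime a ha b hb).symm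
    · exact (hD.coprime b hb b hb).symm
  obtain ⟨k, hk1, hk0⟩ := Nat.chineseRemainder hco 1 0
  have hapow : a ^ ma = 1 := by
    have hmem : a ∈ L ⊓ Subgroup.centralizer ({a} : Set G) :=
      ⟨hD.subset ha, Subgroup.mem_centralizer_singleton_iff.mpr rfl⟩
    have := pow_card_eq_one' (G := ↥(L ⊓ Subgroup.centralizer ({a} : Set G))) (x := ⟨a, hmem⟩)
    exact congrArg Subtype.val this
  have hbpow : b ^ mb = 1 := by
    have hmem : b ∈ L ⊓ Subgroup.centralizer ({b} : Set G) :=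
      ⟨hD.subset hb, Subgroup.mem_centralizer_singleton_iff.mpr rfl⟩
    have := pow_card_eq_one' (G := ↥(L ⊓ Subgroup.centralizer ({b} : Set G))) (x := ⟨b, hmem⟩)
    exact congrArg Subtype.val this
  have hupow : u ^ ha' = 1 := by
    have := pow_card_eq_one' (G := ↥(H a)) (x := ⟨u, hu⟩)
    exact congrArg Subtype.val this
  have hvpow : v ^ hb' = 1 := by
    have := pow_card_eq_one' (G := ↥(H b)) (x := ⟨v, hv⟩)
    exact congrArg Subtype.val this
  refine ⟨k, ?_, ?_⟩
  · rw [(dade_commute hD ha hu).mul_pow]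
    have h1 : a ^ k = a ^ 1 := by
      apply pow_eq_pow_of_modEq_of_pow_eq_one (m := ma * mb)
      · rw [pow_mul, hapow, one_pow]
      · exact hk1
    have h2 : u ^ k = u ^ 0 := by
      apply pow_eq_pow_of_modEq_of_pow_eq_one (m := ha' * hb')
      · rw [pow_mul, hupow, one_pow]
      · exact hk0
    rw [h1, h2, pow_one, pow_zero, mul_one]
  · rw [(dade_commute hD hb hv).mul_pow]
    have h1 : b ^ k = b ^ 1 := by
      apply pow_eq_pow_of_modEq_of_pow_eq_one (m := ma * mb)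
      · rw [mul_comm, pow_mul, hbpow, one_pow]
      · exact hk1
    have h2 : v ^ k = v ^ 0 := by
      apply pow_eq_pow_of_modEq_of_pow_eq_one (m := ha' * hb')
      · rw [mul_comm, pow_mul, hvpow, one_pow]
      · exact hk0
    rw [h1, h2, pow_one, pow_zero, mul_one]

/-- conjugacy of `a u` and `b v` forces conjugacy of the parts -/
theorem dade_conj [Finite G] (hD : Cfsg.DadeHypothesis A L H) {a u b v x : G} (ha : a ∈ A)
    (hu : u ∈ H a) (hb : b ∈ A) (hv : v ∈ H b) (h : x * (a * u) * x⁻¹ = b * v) :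
    x * a * x⁻¹ = b ∧ x * u * x⁻¹ = v := by
  obtain ⟨k, hk1, hk2⟩ := dade_pow hD ha hu hb hv
  have h1 : x * a * x⁻¹ = b := by
    rw [← hk1, ← conj_pow, h, hk2]
  refine ⟨h1, ?_⟩
  have : x * u * x⁻¹ = (x * a * x⁻¹)⁻¹ * (x * (a * u) * x⁻¹) := by group
  rw [this, h, h1]
  group

/-- the normaliser condition in subgroup form -/
theorem dade_le_normalizer (hD : Cfsg.DadeHypothesis A L H) {a : G} (ha : a ∈ A) :
    Subgroup.centralizer ({a} : Set G) ≤ Subgroup.normalizer (H a : Set G) := by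
  intro c hc
  rw [Subgroup.mem_set_normalizer_iff]
  intro h
  constructor
  · intro hh
    exact hD.conj_mem_H a ha c hc h hh
  · intro hh
    have := hD.conj_mem_H a ha c⁻¹ (Subgroup.inv_mem _ hc) _ hh
    simpa [mul_assoc] using this

theorem dade_relIndex (hD : Cfsg.DadeHypothesis A L H) {a : G} (ha : a ∈ A) :
    (H a).relIndex (Subgroup.centralizer ({a} : Set G))
      = Nat.card ↥(L ⊓ Subgroup.centralizer ({a} : Set G)) :=
  relIndex_eq_card_of_compl (dade_le_normalizer hD ha) (hD.inf_eq_bot a ha) (hD.sup_eq a ha)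

/-- `|C_G(a)| = |H a| |C_L(a)|` -/
theorem dade_card_centralizer (hD : Cfsg.DadeHypothesis A L H) {a : G} (ha : a ∈ A) :
    Nat.card ↥(Subgroup.centralizer ({a} : Set G))
      = Nat.card (H a) * Nat.card ↥(L ⊓ Subgroup.centralizer ({a} : Set G)) := by
  rw [← dade_relIndex hD ha]
  have := Subgroup.relIndex_mul_relIndex ⊥ (H a) (Subgroup.centralizer ({a} : Set G)) bot_le
    (hD.le_centralizer a ha)
  rw [Subgroup.relIndex_bot_left, Subgroup.relIndex_bot_left] at this
  exact this.symm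

/-- elements of `C_G(a)` of order prime to `|C_L(a)|` lie in `H a` -/
theorem dade_mem_H_of_coprime [Finite G] (hD : Cfsg.DadeHypothesis A L H) {a c : G} (ha : a ∈ A)
    (hc : c ∈ Subgroup.centralizer ({a} : Set G))
    (hco : Nat.Coprime (orderOf c) (Nat.card ↥(L ⊓ Subgroup.centralizer ({a} : Set G)))) :
    c ∈ H a := by
  have hle : Subgroup.zpowers c ≤ Subgroup.centralizer ({a} : Set G) := by
    rw [Subgroup.zpowers_le]; exact hc
  have := le_of_coprime_relIndex hle (dade_le_normalizer hD ha)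
    (by rw [Nat.card_zpowers, dade_relIndex hD ha]; exact hco)
  exact this (Subgroup.mem_zpowers c)

/-- `H (l a l⁻¹) ⊇ l (H a) l⁻¹` for `l ∈ L` -/
theorem dade_H_conj [Finite G] (hD : Cfsg.DadeHypothesis A L H) {a l u : G} (ha : a ∈ A)
    (hl : l ∈ L) (hu : u ∈ H a) : l * u * l⁻¹ ∈ H (l * a * l⁻¹) := by
  have ha' : l * a * l⁻¹ ∈ A := hD.conj_mem l hl a ha
  apply dade_mem_H_of_coprime hD ha'
  · rw [Subgroup.mem_centralizer_singleton_iff]
    have := (dade_commute hD ha hu).eq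
    calc l * u * l⁻¹ * (l * a * l⁻¹) = l * (u * a) * l⁻¹ := by group
      _ = l * (a * u) * l⁻¹ := by rw [this]
      _ = l * a * l⁻¹ * (l * u * l⁻¹) := by group
  · rw [orderOf_conj_eq]
    have hdvd : orderOf u ∣ Nat.card (H a) := by
      have := orderOf_dvd_natCard (⟨u, hu⟩ : H a)
      rwa [Subgroup.orderOf_mk] at this
    exact Nat.Coprime.coprime_dvd_left hdvd (hD.coprime a ha _ ha')

theorem dade_card_H_conj [Finite G] (hD : Cfsg.DadeHypothesis A L H) {a l : G} (ha : a ∈ A)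
    (hl : l ∈ L) : Nat.card (H (l * a * l⁻¹)) = Nat.card (H a) := by
  have key : ∀ {a l : G}, a ∈ A → l ∈ L → Nat.card (H a) ≤ Nat.card (H (l * a * l⁻¹)) := by
    intro a l ha hl
    apply Nat.card_le_card_of_injective
      (fun u : H a => (⟨l * u * l⁻¹, dade_H_conj hD ha hl u.2⟩ : H (l * a * l⁻¹)))
    intro u v huv
    have := congrArg Subtype.val huv
    simp only [mul_left_inj, mul_right_inj] at this
    exact Subtype.ext this
  apply le_antisymm
  · have := key (hD.conj_mem l hl a ha) (L.inv_mem hl)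
    have e : l⁻¹ * (l * a * l⁻¹) * l⁻¹⁻¹ = a := by group
    rwa [e] at this
  · exact key ha hl

/-- the set `L · C_G(a)` describes which conjugates of `a u` are again of the Dade form -/
theorem dade_fiber_iff [Finite G] (hD : Cfsg.DadeHypothesis A L H) {a u y : G} (ha : a ∈ A)
    (hu : u ∈ H a) :
    (y * a * y⁻¹ ∈ A ∧ y * u * y⁻¹ ∈ H (y * a * y⁻¹)) ↔
      y ∈ ((L : Set G) * (Subgroup.centralizer ({a} : Set G) : Set G)) := by
  constructor
  · rintro ⟨h1, _⟩
    obtain ⟨l, hl, he⟩ := hD.fusion a ha y h1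
    refine ⟨l, hl, l⁻¹ * y, ?_, by group⟩
    rw [SetLike.mem_coe, Subgroup.mem_centralizer_singleton_iff]
    have : l⁻¹ * (l * a * l⁻¹) * l = l⁻¹ * (y * a * y⁻¹) * l := by rw [he]
    calc l⁻¹ * y * a = l⁻¹ * (y * a * y⁻¹) * l * (l⁻¹ * y) := by group
      _ = l⁻¹ * (l * a * l⁻¹) * l * (l⁻¹ * y) := by rw [← this]
      _ = a * (l⁻¹ * y) := by group
  · rintro ⟨l, hl, c, hc, rfl⟩
    have hc' : c * a = a * c := Subgroup.mem_centralizer_singleton_iff.mp hc
    have e1 : l * c * a * (l * c)⁻¹ = l * a * l⁻¹ := by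
      calc l * c * a * (l * c)⁻¹ = l * (c * a) * c⁻¹ * l⁻¹ := by group
        _ = l * (a * c) * c⁻¹ * l⁻¹ := by rw [hc']
        _ = l * a * l⁻¹ := by group
    have e2 : l * c * u * (l * c)⁻¹ = l * (c * u * c⁻¹) * l⁻¹ := by group
    change l * c * a * (l * c)⁻¹ ∈ A ∧ l * c * u * (l * c)⁻¹ ∈ H (l * c * a * (l * c)⁻¹)
    rw [e1, e2]
    exact ⟨hD.conj_mem l hl a ha, dade_H_conj hD ha hl (hD.conj_mem_H a ha c hc u hu)⟩

theorem dade_card_H_of_fiber [Finite G] (hD : Cfsg.DadeHypothesis A L H) {a y : G} (ha : a ∈ A)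
    (hy : y ∈ ((L : Set G) * (Subgroup.centralizer ({a} : Set G) : Set G))) :
    Nat.card (H (y * a * y⁻¹)) = Nat.card (H a) := by
  obtain ⟨l, hl, c, hc, rfl⟩ := hy
  have hc' : c * a = a * c := Subgroup.mem_centralizer_singleton_iff.mp hc
  have e1 : l * c * a * (l * c)⁻¹ = l * a * l⁻¹ := by
    calc l * c * a * (l * c)⁻¹ = l * (c * a) * c⁻¹ * l⁻¹ := by group
      _ = l * (a * c) * c⁻¹ * l⁻¹ := by rw [hc']
      _ = l * a * l⁻¹ := by group
  change Nat.card (H (l * c * a * (l * c)⁻¹)) = _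
  rw [e1]
  exact dade_card_H_conj hD ha hl

/-- `|L · C_G(a)| = |L| |H a|` -/
theorem dade_card_mul_set [Finite G] (hD : Cfsg.DadeHypothesis A L H) {a : G} (ha : a ∈ A) :
    Nat.card ((L : Set G) * (Subgroup.centralizer ({a} : Set G) : Set G) : Set G)
      = Nat.card L * Nat.card (H a) := by
  have h1 := Cfsg.Agent.Helper3.card_mul_set_mul_card_inf L (Subgroup.centralizer ({a} : Set G))
  rw [dade_card_centralizer hD ha] at h1
  have hpos : 0 < Nat.card ↥(L ⊓ Subgroup.centralizer ({a} : Set G)) := Nat.card_pos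
  have : Nat.card ((L : Set G) * (Subgroup.centralizer ({a} : Set G) : Set G) : Set G)
      * Nat.card ↥(L ⊓ Subgroup.centralizer ({a} : Set G))
      = (Nat.card L * Nat.card (H a)) * Nat.card ↥(L ⊓ Subgroup.centralizer ({a} : Set G)) := by
    rw [h1]; ring
  exact Nat.eq_of_mul_eq_mul_right hpos this

section Count

variable [Fintype G]

open Classical in
/-- the weighted number of ways of conjugating `g` into a coset `a · H a` -/
noncomputable def dadeCount (A : Set G) (H : G → Subgroup G) (g : G) : ℂ :=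
  ∑ x : G, ∑ a : G, ∑ u : G,
    if (a ∈ A ∧ u ∈ H a ∧ x * g * x⁻¹ = a * u) then (Nat.card (H a) : ℂ)⁻¹ else 0

open Classical in
theorem dade_inner_sum (hD : Cfsg.DadeHypothesis A L H) {a₀ u₀ : G} (ha₀ : a₀ ∈ A)
    (hu₀ : u₀ ∈ H a₀) (y : G) :
    (∑ a : G, ∑ u : G,
      if (a ∈ A ∧ u ∈ H a ∧ y * (a₀ * u₀) * y⁻¹ = a * u) then (Nat.card (H a) : ℂ)⁻¹ else 0)
      = if y ∈ ((L : Set G) * (Subgroup.centralizer ({a₀} : Set G) : Set G)) then
          (Nat.card (H a₀) : ℂ)⁻¹ else 0 := by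
  by_cases hy : y ∈ ((L : Set G) * (Subgroup.centralizer ({a₀} : Set G) : Set G))
  · rw [if_pos hy]
    obtain ⟨h1, h2⟩ := (dade_fiber_iff hD ha₀ hu₀).mpr hy
    rw [Finset.sum_eq_single (y * a₀ * y⁻¹)]
    · rw [Finset.sum_eq_single (y * u₀ * y⁻¹)]
      · rw [if_pos ⟨h1, h2, by group⟩, dade_card_H_of_fiber hD ha₀ hy]
      · intro u _ hne
        rw [if_neg]
        rintro ⟨_, hu, he⟩
        exact hne (dade_conj hD ha₀ hu₀ h1 hu he).2.symm
      · intro h; exact absurd (Finset.mem_univ _) h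
    · intro a _ hne
      apply Finset.sum_eq_zero
      intro u _
      rw [if_neg]
      rintro ⟨ha, hu, he⟩
      exact hne (dade_conj hD ha₀ hu₀ ha hu he).1.symm
    · intro h; exact absurd (Finset.mem_univ _) h
  · rw [if_neg hy]
    apply Finset.sum_eq_zero
    intro a _
    apply Finset.sum_eq_zero
    intro u _
    rw [if_neg]
    rintro ⟨ha, hu, he⟩
    apply hy
    obtain ⟨e1, e2⟩ := dade_conj hD ha₀ hu₀ ha hu he
    apply (dade_fiber_iff hD ha₀ hu₀).mp
    rw [e1, e2]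
    exact ⟨ha, hu⟩

theorem sum_ite_mem_mul_right (S : Set G) [DecidablePred (· ∈ S)] (c : ℂ) (x₀ : G)
    [DecidablePred (fun x => x * x₀⁻¹ ∈ S)] :
    (∑ x : G, if x * x₀⁻¹ ∈ S then c else 0) = (Nat.card S : ℂ) * c := by
  rw [Finset.sum_ite, Finset.sum_const_zero, add_zero, Finset.sum_const, nsmul_eq_mul]
  congr 2
  rw [Nat.card_eq_fintype_card, Fintype.card_subtype]
  exact Finset.card_equiv (Equiv.mulRight x₀⁻¹) (by simp)

open Classical in
/-- the weighted count is `|L|` on the Dade support and `0` off it -/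
theorem dade_count_eq (hD : Cfsg.DadeHypothesis A L H) (g : G) :
    dadeCount A H g
      = if (∃ a ∈ A, ∃ u ∈ H a, ∃ x : G, x * g * x⁻¹ = a * u) then (Nat.card L : ℂ) else 0 := by
  unfold dadeCount
  split_ifs with hg
  · obtain ⟨a₀, ha₀, u₀, hu₀, x₀, hx₀⟩ := hg
    have h1 : ∀ x : G, (∑ a : G, ∑ u : G,
        if (a ∈ A ∧ u ∈ H a ∧ x * g * x⁻¹ = a * u) then (Nat.card (H a) : ℂ)⁻¹ else 0)
        = if (x * x₀⁻¹) ∈ ((L : Set G) * (Subgroup.centralizer ({a₀} : Set G) : Set G)) then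
          (Nat.card (H a₀) : ℂ)⁻¹ else 0 := by
      intro x
      rw [← dade_inner_sum hD ha₀ hu₀ (x * x₀⁻¹)]
      have e : x * x₀⁻¹ * (a₀ * u₀) * (x * x₀⁻¹)⁻¹ = x * g * x⁻¹ := by
        rw [← hx₀]; group
      rw [e]
    rw [Finset.sum_congr rfl (fun x _ => h1 x)]
    rw [sum_ite_mem_mul_right, dade_card_mul_set hD ha₀, Nat.cast_mul]
    have hne : (Nat.card (H a₀) : ℂ) ≠ 0 := Nat.cast_ne_zero.mpr Nat.card_pos.ne'
    field_simp
  · apply Finset.sum_eq_zero
    intro x _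
    apply Finset.sum_eq_zero
    intro a _
    apply Finset.sum_eq_zero
    intro u _
    rw [if_neg]
    rintro ⟨ha, hu, he⟩
    exact hg ⟨a, ha, u, hu, x, he⟩

open Classical in
theorem dade_sum_count (F : G → ℂ) (hF : Cfsg.IsClassFunction G F) :
    ∑ g : G, F g * dadeCount A H g
      = (Nat.card G : ℂ) * ∑ a : G,
          if a ∈ A then (Nat.card (H a) : ℂ)⁻¹ * ∑ u : G, (if u ∈ H a then F (a * u) else 0)
          else 0 := by
  unfold dadeCount
  have hinner : ∀ (x a u : G), (∑ g : G, F g *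
      (if (a ∈ A ∧ u ∈ H a ∧ x * g * x⁻¹ = a * u) then (Nat.card (H a) : ℂ)⁻¹ else 0))
      = if (a ∈ A ∧ u ∈ H a) then F (a * u) * (Nat.card (H a) : ℂ)⁻¹ else 0 := by
    intro x a u
    by_cases hc : a ∈ A ∧ u ∈ H a
    · rw [if_pos hc, Finset.sum_eq_single (x⁻¹ * (a * u) * x)]
      · rw [if_pos ⟨hc.1, hc.2, by group⟩]
        have := hF (a * u) x⁻¹
        rw [inv_inv] at this
        rw [this]
      · intro g _ hne
        rw [if_neg, mul_zero]
        rintro ⟨_, _, he⟩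
        apply hne
        rw [← he]; group
      · intro h; exact absurd (Finset.mem_univ _) h
    · rw [if_neg hc]
      apply Finset.sum_eq_zero
      intro g _
      rw [if_neg, mul_zero]
      rintro ⟨h1, h2, _⟩
      exact hc ⟨h1, h2⟩
  calc ∑ g : G, F g * ∑ x : G, ∑ a : G, ∑ u : G,
        (if (a ∈ A ∧ u ∈ H a ∧ x * g * x⁻¹ = a * u) then (Nat.card (H a) : ℂ)⁻¹ else 0)
      = ∑ g : G, ∑ x : G, ∑ a : G, ∑ u : G, F g *
        (if (a ∈ A ∧ u ∈ H a ∧ x * g * x⁻¹ = a * u) then (Nat.card (H a) : ℂ)⁻¹ else 0) := by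
        simp only [Finset.mul_sum]
    _ = ∑ x : G, ∑ g : G, ∑ a : G, ∑ u : G, F g *
        (if (a ∈ A ∧ u ∈ H a ∧ x * g * x⁻¹ = a * u) then (Nat.card (H a) : ℂ)⁻¹ else 0) :=
        Finset.sum_comm
    _ = ∑ x : G, ∑ a : G, ∑ g : G, ∑ u : G, F g *
        (if (a ∈ A ∧ u ∈ H a ∧ x * g * x⁻¹ = a * u) then (Nat.card (H a) : ℂ)⁻¹ else 0) := by
        apply Finset.sum_congr rfl
        intro x _
        exact Finset.sum_comm
    _ = ∑ x : G, ∑ a : G, ∑ u : G, ∑ g : G, F g *
        (if (a ∈ A ∧ u ∈ H a ∧ x * g * x⁻¹ = a * u) then (Nat.card (H a) : ℂ)⁻¹ else 0) := by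
        apply Finset.sum_congr rfl
        intro x _
        apply Finset.sum_congr rfl
        intro a _
        exact Finset.sum_comm
    _ = ∑ _x : G, ∑ a : G, ∑ u : G,
          (if (a ∈ A ∧ u ∈ H a) then F (a * u) * (Nat.card (H a) : ℂ)⁻¹ else 0) := by
        apply Finset.sum_congr rfl
        intro x _
        apply Finset.sum_congr rfl
        intro a _
        apply Finset.sum_congr rfl
        intro u _
        exact hinner x a u
    _ = (Nat.card G : ℂ) * ∑ a : G, ∑ u : G,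
          (if (a ∈ A ∧ u ∈ H a) then F (a * u) * (Nat.card (H a) : ℂ)⁻¹ else 0) := by
        rw [Finset.sum_const, Finset.card_univ, nsmul_eq_mul, Nat.card_eq_fintype_card]
    _ = _ := by
        congr 1
        apply Finset.sum_congr rfl
        intro a _
        by_cases ha : a ∈ A
        · rw [if_pos ha, Finset.mul_sum]
          apply Finset.sum_congr rfl
          intro u _
          by_cases hu : u ∈ H a
          · rw [if_pos ⟨ha, hu⟩, if_pos hu, mul_comm]
          · rw [if_neg (fun h => hu h.2), if_neg hu, mul_zero]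
        · rw [if_neg ha]
          apply Finset.sum_eq_zero
          intro u _
          rw [if_neg (fun h => ha h.1)]

open Classical in
/-- **The Dade counting formula.** -/
theorem dade_sum_formula (hD : Cfsg.DadeHypothesis A L H) (F : G → ℂ)
    (hF : Cfsg.IsClassFunction G F) :
    (Nat.card L : ℂ) * ∑ g : G,
        (if (∃ a ∈ A, ∃ u ∈ H a, ∃ x : G, x * g * x⁻¹ = a * u) then F g else 0)
      = (Nat.card G : ℂ) * ∑ a : G,
          if a ∈ A then (Nat.card (H a) : ℂ)⁻¹ * ∑ u : G, (if u ∈ H a then F (a * u) else 0)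
          else 0 := by
  rw [← dade_sum_count F hF, Finset.mul_sum]
  apply Finset.sum_congr rfl
  intro g _
  rw [dade_count_eq hD g]
  split_ifs <;> ring

omit [Group G] in
theorem finsum_mem_eq_sum_ite (S : Set G) [DecidablePred (· ∈ S)] (f : G → ℂ) :
    ∑ᶠ u ∈ S, f u = ∑ u : G, if u ∈ S then f u else 0 := by
  rw [finsum_mem_eq_finite_toFinset_sum f (Set.toFinite S), ← Finset.sum_filter]
  apply Finset.sum_congr
  · ext x; simp
  · intro x _; rfl

end Count

section Isometry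

/-- value of the Dade image on the support -/
theorem dadeIsometry_apply [Finite G] (hD : Cfsg.DadeHypothesis A L H) (α : L → ℂ)
    (hα : Cfsg.IsClassFunction L α) (a : L) (ha : (a : G) ∈ A) {u x g : G} (hu : u ∈ H (a : G))
    (hx : x * g * x⁻¹ = (a : G) * u) : Cfsg.dadeIsometry A L H α g = α a := by
  unfold Cfsg.dadeIsometry
  have hex : ∃ a : ↥L, (a : G) ∈ A ∧ ∃ x : G, ∃ u ∈ H (a : G), x * g * x⁻¹ = (a : G) * u :=
    ⟨a, ha, x, u, hu, hx⟩
  rw [dif_pos hex]
  obtain ⟨ha', x', u', hu', hx'⟩ := Classical.choose_spec hex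
  set a' := Classical.choose hex with ha'def
  -- `a' u'` and `a u` are conjugate
  have hconj : (x * x'⁻¹) * ((a' : G) * u') * (x * x'⁻¹)⁻¹ = (a : G) * u := by
    rw [← hx', ← hx]; group
  obtain ⟨h1, _⟩ := dade_conj hD ha' hu' ha hu hconj
  obtain ⟨l, hl, hle⟩ := hD.fusion (a' : G) ha' (x * x'⁻¹) (by rw [h1]; exact ha)
  have h2 : (⟨l, hl⟩ : L) * a' * (⟨l, hl⟩ : L)⁻¹ = a := by
    apply Subtype.ext
    simp only [Subgroup.coe_mul, Subgroup.coe_inv]
    rw [hle, h1]
  rw [← h2]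
  exact (hα a' ⟨l, hl⟩).symm

/-- the Dade image vanishes off the support -/
theorem dadeIsometry_eq_zero (α : L → ℂ) {g : G}
    (hg : ¬ ∃ a ∈ A, ∃ u ∈ H a, ∃ x : G, x * g * x⁻¹ = a * u) :
    Cfsg.dadeIsometry A L H α g = 0 := by
  unfold Cfsg.dadeIsometry
  rw [dif_neg]
  rintro ⟨a, ha, x, u, hu, hx⟩
  exact hg ⟨a, ha, u, hu, x, hx⟩

/-- the Dade image is a class function -/
theorem dadeIsometry_isClassFunction [Finite G] (hD : Cfsg.DadeHypothesis A L H) (α : L → ℂ)
    (hα : Cfsg.IsClassFunction L α) : Cfsg.IsClassFunction G (Cfsg.dadeIsometry A L H α) := by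
  intro g y
  by_cases hg : ∃ a ∈ A, ∃ u ∈ H a, ∃ x : G, x * g * x⁻¹ = a * u
  · obtain ⟨a, ha, u, hu, x, hx⟩ := hg
    have haL : a ∈ L := hD.subset ha
    rw [dadeIsometry_apply hD α hα ⟨a, haL⟩ ha hu hx,
      dadeIsometry_apply hD α hα ⟨a, haL⟩ ha hu (x := x * y⁻¹) (g := y * g * y⁻¹)
        (by rw [← hx]; group)]
  · rw [dadeIsometry_eq_zero α hg, dadeIsometry_eq_zero α]
    rintro ⟨a, ha, u, hu, x, hx⟩
    exact hg ⟨a, ha, u, hu, x * y, by rw [← hx]; group⟩

end Isometry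

end Cfsg.Agent.Helper8
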