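import Mathlib
import Cfsg.Prelude.Def_Characters
import Cfsg.Agent.Helper24.Rational
import Cfsg.Agent.Helper24.Integrality

/-!
A character value which is invariant under all power maps coprime to the group order is an integer.
-/

set_option autoImplicit false

namespace Cfsg.Agent.Helper8

/-- simultaneous congruences with a unit -/
theorem exists_coprime_modEq {n a b k : ℕ} (hn : 0 < n) (ha : a ∣ n) (hb : b ∣ n)
    (hab : a.Coprime b) (hk : k.Coprime n) :
    ∃ s : ℕ, s.Coprime n ∧ s ≡ k [MOD a] ∧ s ≡ 1 [MOD b] := by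
  have : NeZero n := ⟨hn.ne'⟩
  have hd : a * b ∣ n := Nat.Coprime.mul_dvd_of_dvd_of_dvd hab ha hb
  obtain ⟨s₀, hs₀a, hs₀b⟩ := Nat.chineseRemainder hab k 1
  have hca : s₀.Coprime a := by
    have h1 : k.Coprime a := Nat.Coprime.coprime_dvd_right ha hk
    have := hs₀a.gcd_eq
    unfold Nat.Coprime
    rw [this]; exact h1
  have hcb : s₀.Coprime b := by
    have := hs₀b.gcd_eq
    unfold Nat.Coprime
    rw [this]; exact Nat.gcd_one_left b
  have hcd : s₀.Coprime (a * b) := Nat.Coprime.mul_right hca hcb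
  obtain ⟨u, hu⟩ := ZMod.unitsMap_surjective hd (ZMod.unitOfCoprime s₀ hcd)
  refine ⟨(u : ZMod n).val, ZMod.val_coe_unit_coprime u, ?_, ?_⟩
  all_goals
    have h1 : (((u : ZMod n).val : ℕ) : ZMod (a * b)) = (s₀ : ZMod (a * b)) := by
      have h2 := congrArg (fun v : (ZMod (a * b))ˣ => (v : ZMod (a * b))) hu
      simp only [ZMod.unitsMap_def, Units.coe_map, ZMod.coe_unitOfCoprime] at h2
      rw [← h2, ZMod.natCast_val]
      rfl
    have h3 : (u : ZMod n).val ≡ s₀ [MOD a * b] := (ZMod.natCast_eq_natCast_iff _ _ _).mp h1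
  · exact (Nat.ModEq.of_mul_right b h3).trans hs₀a
  · exact (Nat.ModEq.of_mul_left a h3).trans hs₀b

/-- A character value invariant under all power maps coprime to `|G|` is an integer. -/
theorem char_int_of_pow_invariant {G : Type*} [Group G] [Finite G] {χ : G → ℂ}
    (hχ : Cfsg.IsCharacter G χ) (g : G)
    (h : ∀ k : ℕ, k.Coprime (Nat.card G) → χ (g ^ k) = χ g) : ∃ n : ℤ, χ g = n := by
  obtain ⟨n, ρ, rfl⟩ := hχ
  have hNpos : 0 < Nat.card G := Nat.card_pos
  have := Cfsg.Agent.Helper23.finiteDimensional_cyclo (Nat.card G) hNpos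
  obtain ⟨q, hq⟩ := Cfsg.Agent.Helper24.mem_range_algebraMap_of_forall_embedding
    (Cfsg.Agent.Helper23.cyclo (Nat.card G))
    ⟨ρ.character g, Cfsg.Agent.Helper23.char_mem_cyclo ρ g⟩ (by
      intro σ
      obtain ⟨k, hkcop, hk⟩ := Cfsg.Agent.Helper23.exists_pow_of_embedding (Nat.card G) hNpos σ
      rw [Cfsg.Agent.Helper23.embedding_char ρ σ k hk g]
      exact h k hkcop)
  have hq' : ρ.character g = (q : ℂ) := hq
  have hint : IsIntegral ℤ (ρ.character g) := Cfsg.Agent.Helper24.char_isIntegral ρ g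
  rw [hq'] at hint
  obtain ⟨m, hm⟩ := Cfsg.Agent.Helper24.exists_int_of_isIntegral_ratCast hint
  refine ⟨m, ?_⟩
  rw [hq', hm]
  simp

end Cfsg.Agent.Helper8
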