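import Mathlib
import Cfsg.Prelude.Def_Characters
import Cfsg.Prelude.Def_Blocks
import Cfsg.Agent.Helper24.Ito
import Cfsg.Agent.Helper24.ColumnOrth
import Cfsg.Agent.Helper24.Product
import Cfsg.Agent.Helper24.Abelian
import Cfsg.Agent.Helper24.GagolaCentral
import Cfsg.Agent.Helper5.PElementCongr
import Cfsg.Agent.Helper8.RationalValue
import Cfsg.Agent.Helper8.GaloisChar
import Cfsg.Agent.Helper8.Dade

set_option autoImplicit false
set_option linter.style.haveILetI false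
set_option linter.unusedSectionVars false
set_option linter.unusedVariables false

/-! # `k(G) ≤ |P|` for a normal abelian Sylow subgroup with a regular orbit -/

namespace Cfsg.Agent.Helper8

open Cfsg
open scoped commutatorElement

section Modular

/-- there is a maximal ideal of the algebraic integers over every prime -/
theorem exists_isPModular (p : ℕ) (hp : p.Prime) : ∃ M : Ideal Cfsg.AlgInt, Cfsg.IsPModular p M := by
  have hne : Ideal.span ({(p : Cfsg.AlgInt)} : Set Cfsg.AlgInt) ≠ ⊤ := by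
    intro h
    rw [Ideal.eq_top_iff_one, Ideal.mem_span_singleton'] at h
    obtain ⟨a, ha⟩ := h
    have h1 : (a : ℂ) * (p : ℂ) = 1 := by
      have := congrArg (fun z : Cfsg.AlgInt => (z : ℂ)) ha
      simpa using this
    have hp0 : (p : ℂ) ≠ 0 := by exact_mod_cast hp.ne_zero
    have h2 : (a : ℂ) = ((1 / p : ℚ) : ℂ) := by
      push_cast
      rw [eq_div_iff hp0]
      exact h1
    have hint : IsIntegral ℤ ((1 / p : ℚ) : ℂ) := h2 ▸ a.2
    obtain ⟨m, hm⟩ := Cfsg.Agent.Helper24.exists_int_of_isIntegral_ratCast hint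
    have hpq : (p : ℚ) ≠ 0 := by exact_mod_cast hp.ne_zero
    have h3 : (1 : ℚ) = m * p := by
      have : (1 / p : ℚ) * p = 1 := by
        rw [div_mul_cancel₀ _ hpq]
      rw [← this, hm]
    have h4 : (1 : ℤ) = m * p := by exact_mod_cast h3
    have h5 : (p : ℤ) ∣ 1 := ⟨m, by rw [h4]; ring⟩
    have h6 := Int.natCast_dvd_natCast.mp (by simpa using h5 : ((p : ℕ) : ℤ) ∣ ((1 : ℕ) : ℤ))
    exact hp.one_lt.ne' (Nat.dvd_one.mp h6)
  obtain ⟨M, hM, hle⟩ := Ideal.exists_le_maximal _ hne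
  exact ⟨M, hp, hM, hle (Ideal.subset_span (Set.mem_singleton _))⟩

variable {G : Type*} [Group G] [Finite G]

/-- a character of degree prime to `p` does not vanish at `p`-elements -/
theorem char_ne_zero_of_pElement {p : ℕ} [hp : Fact p.Prime] {χ : G → ℂ}
    (hχ : Cfsg.IsCharacter G χ) {d : ℕ} (hd : χ 1 = d) (hpd : ¬ p ∣ d) (h : G) (k : ℕ)
    (hh : h ^ (p ^ k) = 1) : χ h ≠ 0 := by
  obtain ⟨M, hM⟩ := exists_isPModular p hp.out
  have h1 := Cfsg.Agent.Helper5.Loc.char_mul_sub_char_memLocalIdeal hM hχ h 1 (Commute.one_right h) k hh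
  rw [mul_one, hd] at h1
  intro h0
  rw [h0, zero_sub] at h1
  have h2 := Cfsg.Agent.Helper5.Loc.li_neg h1
  rw [neg_neg] at h2
  exact hpd ((Cfsg.Agent.Helper5.Loc.memLocalIdeal_natCast_iff hM d).mp h2)

end Modular

section Galois

variable {G : Type*} [Group G] [Finite G]

theorem isCharacter_finset_prod {ι : Type*} (s : Finset ι) (f : ι → G → ℂ)
    (h : ∀ i ∈ s, Cfsg.IsCharacter G (f i)) : Cfsg.IsCharacter G (∏ i ∈ s, f i) := by
  classical
  induction s using Finset.induction_on with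
  | empty =>
    rw [Finset.prod_empty]
    exact Cfsg.Agent.Helper24.isCharacter_const_one
  | insert a s ha ih =>
    rw [Finset.prod_insert ha]
    exact Cfsg.Agent.Helper24.IsCharacter.mul (h a (Finset.mem_insert_self a s))
      (ih fun i hi => h i (Finset.mem_insert_of_mem hi))

theorem pow_pow_uval (x : G) (j : ℕ) (hj : j.Coprime (Nat.card G))
    (u : (ZMod (Nat.card G))ˣ) :
    (x ^ j) ^ ((u : ZMod (Nat.card G)).val)
      = x ^ (((ZMod.unitOfCoprime j hj * u : (ZMod (Nat.card G))ˣ) : ZMod (Nat.card G)).val) := by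
  rw [← pow_mul]
  apply pow_eq_pow_of_modEq_of_pow_eq_one (m := Nat.card G) pow_card_eq_one'
  rw [Units.val_mul, ZMod.coe_unitOfCoprime, ZMod.val_mul, ZMod.val_natCast]
  have h1 : (j % Nat.card G * (u : ZMod (Nat.card G)).val) % Nat.card G
      ≡ j % Nat.card G * (u : ZMod (Nat.card G)).val [MOD Nat.card G] := Nat.mod_modEq _ _
  have h2 : j % Nat.card G * (u : ZMod (Nat.card G)).val
      ≡ j * (u : ZMod (Nat.card G)).val [MOD Nat.card G] :=
    (Nat.mod_modEq j (Nat.card G)).mul_right _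
  exact (h1.trans h2).symm

/-- the "norm" of a character value is a rational integer -/
theorem galois_prod_int {χ : G → ℂ} (hχ : Cfsg.IsCharacter G χ) (g : G) :
    ∃ m : ℤ, ∏ u : (ZMod (Nat.card G))ˣ, χ (g ^ (u : ZMod (Nat.card G)).val) = m := by
  set ψ : G → ℂ := ∏ u : (ZMod (Nat.card G))ˣ,
    (fun x => χ (x ^ (u : ZMod (Nat.card G)).val)) with hψ
  have hψc : Cfsg.IsCharacter G ψ := isCharacter_finset_prod _ _
    (fun u _ => isCharacter_pow_of_coprime _ (ZMod.val_coe_unit_coprime u) hχ)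
  have hψv : ∀ x, ψ x = ∏ u : (ZMod (Nat.card G))ˣ, χ (x ^ (u : ZMod (Nat.card G)).val) := by
    intro x
    rw [hψ, Finset.prod_apply]
  obtain ⟨m, hm⟩ := char_int_of_pow_invariant hψc g (by
    intro j hj
    rw [hψv, hψv]
    simp only [pow_pow_uval g j hj]
    exact Fintype.prod_equiv (Equiv.mulLeft (ZMod.unitOfCoprime j hj)) _ _ (fun u => rfl))
  exact ⟨m, by rw [← hψv]; exact hm⟩

/-- AM-GM in the form needed -/
theorem card_le_sum_of_one_le_prod {ι : Type*} [Fintype ι] [Nonempty ι] (z : ι → ℝ)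
    (hz : ∀ i, 0 ≤ z i) (hprod : 1 ≤ ∏ i, z i) : (Fintype.card ι : ℝ) ≤ ∑ i, z i := by
  have h := Real.geom_mean_le_arith_mean Finset.univ (fun _ : ι => (1 : ℝ)) z
    (fun _ _ => zero_le_one) (by
      rw [Finset.sum_const, Finset.card_univ, nsmul_eq_mul, mul_one]
      exact_mod_cast Fintype.card_pos) (fun i _ => hz i)
  simp only [Real.rpow_one, one_mul, Finset.sum_const, Finset.card_univ, nsmul_eq_mul,
    mul_one] at h
  have hpos : (0 : ℝ) < Fintype.card ι := by exact_mod_cast Fintype.card_pos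
  have h1 : (1 : ℝ) ≤ (∏ i, z i) ^ ((Fintype.card ι : ℝ))⁻¹ :=
    Real.one_le_rpow hprod (inv_nonneg.mpr hpos.le)
  have h2 := h1.trans h
  rwa [le_div_iff₀ hpos, one_mul] at h2

end Galois

section Main

variable {G : Type*} [Group G] [Finite G] {p : ℕ} [hp : Fact p.Prime]

theorem centralizer_pow_eq_of_pow {g : G} {k j : ℕ} (h : (g ^ k) ^ j = g) :
    Subgroup.centralizer ({g ^ k} : Set G) = Subgroup.centralizer ({g} : Set G) := by
  ext x
  simp only [Subgroup.mem_centralizer_iff, Set.mem_singleton_iff, forall_eq]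
  constructor
  · intro hx
    have h1 : Commute (g ^ k) x := hx
    have h2 := h1.pow_left j
    rw [h] at h2
    exact h2
  · intro hx
    have h1 : Commute g x := hx
    exact h1.pow_left k

theorem pow_uval_pow_inv (g : G) (u : (ZMod (Nat.card G))ˣ) :
    (g ^ (u : ZMod (Nat.card G)).val) ^ ((u⁻¹ : (ZMod (Nat.card G))ˣ) : ZMod (Nat.card G)).val
      = g := by
  rw [pow_pow_uval g _ (ZMod.val_coe_unit_coprime u) u⁻¹]
  have h1 : ZMod.unitOfCoprime (u : ZMod (Nat.card G)).val (ZMod.val_coe_unit_coprime u) = u := by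
    apply Units.ext
    rw [ZMod.coe_unitOfCoprime, ZMod.natCast_zmod_val]
  rw [h1, mul_inv_cancel, Units.val_one, ZMod.val_one_eq_one_mod]
  have h2 := pow_eq_pow_of_modEq_of_pow_eq_one (x := g) (m := Nat.card G) pow_card_eq_one'
    (Nat.mod_modEq 1 (Nat.card G))
  rw [h2, pow_one]

theorem sum_sq_ge_card_units (P : Sylow p G) [hPn : (P : Subgroup G).Normal]
    (hab : ∀ a ∈ P, ∀ b ∈ P, a * b = b * a) (g : G) (hg : g ∈ P) (χ : Cfsg.IrrCharacter G) :
    (Fintype.card (ZMod (Nat.card G))ˣ : ℝ)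
      ≤ ∑ u : (ZMod (Nat.card G))ˣ, ‖(χ : G → ℂ) (g ^ (u : ZMod (Nat.card G)).val)‖ ^ 2 := by
  haveI : Fintype G := Fintype.ofFinite G
  obtain ⟨d, hd, hdvd⟩ := Cfsg.Agent.Helper24.ito_character (P : Subgroup G) hab χ χ.2
  have hpd : ¬ p ∣ d := fun h => P.not_dvd_index (h.trans hdvd)
  have hχc := Cfsg.Agent.Helper24.IsIrrCharacter.isCharacter χ.2
  obtain ⟨k, hk⟩ := P.2 ⟨g, hg⟩
  have hk' : g ^ (p ^ k) = 1 := by
    have := congrArg Subtype.val hk
    simpa using this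
  have hne : ∀ u : (ZMod (Nat.card G))ˣ, (χ : G → ℂ) (g ^ (u : ZMod (Nat.card G)).val) ≠ 0 := by
    intro u
    apply char_ne_zero_of_pElement hχc hd hpd _ k
    rw [← pow_mul, mul_comm, pow_mul, hk', one_pow]
  obtain ⟨m, hm⟩ := galois_prod_int hχc g
  have hm0 : m ≠ 0 := by
    intro h
    rw [h, Int.cast_zero, Finset.prod_eq_zero_iff] at hm
    obtain ⟨u, -, hu⟩ := hm
    exact hne u hu
  apply card_le_sum_of_one_le_prod _ (fun _ => sq_nonneg _)
  rw [Finset.prod_pow, ← norm_prod, hm, Complex.norm_intCast]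
  have h1 : (1 : ℝ) ≤ |(m : ℝ)| := by
    have := Int.one_le_abs hm0
    exact_mod_cast this
  nlinarith [h1]

/-- **`k(G) ≤ |P|`** -/
theorem card_irr_le_of_regular_orbit (P : Sylow p G) [hPn : (P : Subgroup G).Normal]
    (hab : ∀ a ∈ P, ∀ b ∈ P, a * b = b * a) (g : G) (hg : g ∈ P)
    (hC : Subgroup.centralizer ({g} : Set G) = P) :
    Nat.card (Cfsg.IrrCharacter G) ≤ Nat.card P ∧
      (Nat.card (Cfsg.IrrCharacter G) = Nat.card P → commutator G ≤ P) := by
  classical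
  haveI : Fintype G := Fintype.ofFinite G
  haveI : Fintype (Cfsg.IrrCharacter G) := Fintype.ofFinite _
  set N : ℕ := Fintype.card (ZMod (Nat.card G))ˣ with hN
  have hNpos : 0 < N := Fintype.card_pos
  -- column orthogonality at each `g ^ u`
  have hcol : ∀ u : (ZMod (Nat.card G))ˣ,
      ∑ χ : Cfsg.IrrCharacter G, ‖(χ : G → ℂ) (g ^ (u : ZMod (Nat.card G)).val)‖ ^ 2
        = (Nat.card P : ℝ) := by
    intro u
    have h1 := Cfsg.Agent.Helper24.sum_irr_mul_conj (g ^ (u : ZMod (Nat.card G)).val)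
      (g ^ (u : ZMod (Nat.card G)).val)
    rw [if_pos (IsConj.refl _), centralizer_pow_eq_of_pow (pow_uval_pow_inv g u), hC] at h1
    have h2 : ∀ χ : Cfsg.IrrCharacter G,
        (χ : G → ℂ) (g ^ (u : ZMod (Nat.card G)).val)
          * (starRingEnd ℂ) ((χ : G → ℂ) (g ^ (u : ZMod (Nat.card G)).val))
        = ((‖(χ : G → ℂ) (g ^ (u : ZMod (Nat.card G)).val)‖ ^ 2 : ℝ) : ℂ) := by
      intro χ
      rw [Complex.mul_conj, Complex.normSq_eq_norm_sq]
    simp only [h2] at h1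
    have h3 : ((∑ χ : Cfsg.IrrCharacter G,
        ‖(χ : G → ℂ) (g ^ (u : ZMod (Nat.card G)).val)‖ ^ 2 : ℝ) : ℂ)
        = ((Nat.card P : ℝ) : ℂ) := by
      push_cast at h1 ⊢
      exact h1
    exact Complex.ofReal_injective h3
  -- the double sum
  have hdouble : ∑ χ : Cfsg.IrrCharacter G, ∑ u : (ZMod (Nat.card G))ˣ,
      ‖(χ : G → ℂ) (g ^ (u : ZMod (Nat.card G)).val)‖ ^ 2 = (N : ℝ) * (Nat.card P : ℝ) := by
    rw [Finset.sum_comm]
    simp only [hcol]
    rw [Finset.sum_const, Finset.card_univ, nsmul_eq_mul]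
  have hge : ∀ χ : Cfsg.IrrCharacter G, (N : ℝ)
      ≤ ∑ u : (ZMod (Nat.card G))ˣ, ‖(χ : G → ℂ) (g ^ (u : ZMod (Nat.card G)).val)‖ ^ 2 :=
    fun χ => sum_sq_ge_card_units P hab g hg χ
  have hk : (Fintype.card (Cfsg.IrrCharacter G) : ℝ) * N ≤ (N : ℝ) * (Nat.card P : ℝ) := by
    rw [← hdouble]
    calc (Fintype.card (Cfsg.IrrCharacter G) : ℝ) * N
        = ∑ _χ : Cfsg.IrrCharacter G, (N : ℝ) := by
          rw [Finset.sum_const, Finset.card_univ, nsmul_eq_mul]
      _ ≤ _ := Finset.sum_le_sum (fun χ _ => hge χ)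
  have hNr : (0 : ℝ) < N := by exact_mod_cast hNpos
  have hle : Fintype.card (Cfsg.IrrCharacter G) ≤ Nat.card P := by
    have : (Fintype.card (Cfsg.IrrCharacter G) : ℝ) ≤ (Nat.card P : ℝ) := by
      rw [mul_comm] at hk
      exact le_of_mul_le_mul_left hk hNr
    exact_mod_cast this
  rw [Nat.card_eq_fintype_card]
  refine ⟨hle, ?_⟩
  intro heq
  -- every term attains equality
  have hsum0 : ∑ χ : Cfsg.IrrCharacter G,
      ((∑ u : (ZMod (Nat.card G))ˣ, ‖(χ : G → ℂ) (g ^ (u : ZMod (Nat.card G)).val)‖ ^ 2)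
        - (N : ℝ)) = 0 := by
    rw [Finset.sum_sub_distrib, hdouble, Finset.sum_const, Finset.card_univ, nsmul_eq_mul, heq]
    ring
  have hterm := (Finset.sum_eq_zero_iff_of_nonneg
    (fun χ _ => sub_nonneg.mpr (hge χ))).mp hsum0
  -- the quotient is abelian
  have hQ : ∀ a b : G ⧸ (P : Subgroup G), a * b = b * a := by
    rw [Cfsg.Agent.Helper24.comm_iff_forall_irr_one]
    intro ψ
    have h1 := hterm (Cfsg.Agent.Helper24.irrInflate (P : Subgroup G) ψ) (Finset.mem_univ _)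
    have h2 : ∀ u : (ZMod (Nat.card G))ˣ,
        ((Cfsg.Agent.Helper24.irrInflate (P : Subgroup G) ψ : Cfsg.IrrCharacter G) : G → ℂ)
          (g ^ (u : ZMod (Nat.card G)).val) = (ψ : G ⧸ (P : Subgroup G) → ℂ) 1 := by
      intro u
      show (ψ : G ⧸ (P : Subgroup G) → ℂ) (QuotientGroup.mk (g ^ (u : ZMod (Nat.card G)).val)) = _
      rw [(QuotientGroup.eq_one_iff _).mpr (Subgroup.pow_mem _ hg _)]
    simp only [h2] at h1
    rw [Finset.sum_const, Finset.card_univ, nsmul_eq_mul, ← hN, sub_eq_zero] at h1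
    have h3 : ‖(ψ : G ⧸ (P : Subgroup G) → ℂ) 1‖ ^ 2 = 1 := by
      have : (N : ℝ) * ‖(ψ : G ⧸ (P : Subgroup G) → ℂ) 1‖ ^ 2 = (N : ℝ) * 1 := by
        rw [h1, mul_one]
      exact mul_left_cancel₀ hNr.ne' this
    rw [Cfsg.Agent.Helper24.irrDeg_spec] at h3 ⊢
    rw [Complex.norm_natCast] at h3
    have h4 : (Cfsg.Agent.Helper24.irrDeg ψ : ℝ) = 1 := by
      have hpos : (0 : ℝ) ≤ (Cfsg.Agent.Helper24.irrDeg ψ : ℝ) := Nat.cast_nonneg _
      nlinarith [h3, hpos]
    have h5 : Cfsg.Agent.Helper24.irrDeg ψ = 1 := by exact_mod_cast h4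
    rw [h5, Nat.cast_one]
  rw [commutator_def, Subgroup.commutator_le]
  intro a _ b _
  rw [← QuotientGroup.eq_one_iff]
  have : ((⁅a, b⁆ : G) : G ⧸ (P : Subgroup G))
      = ⁅(QuotientGroup.mk a : G ⧸ (P : Subgroup G)), QuotientGroup.mk b⁆ := rfl
  rw [this, commutatorElement_eq_one_iff_mul_comm]
  exact hQ _ _

end Main

end Cfsg.Agent.Helper8
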