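import Mathlib
import Cfsg.Prelude.Def_Blocks
import Cfsg.Agent.Helper5.BlockGalois
import Cfsg.Agent.Helper5.CenterFunctional
import Cfsg.Agent.Helper5.Kulshammer
import Cfsg.Agent.Helper5.DefectOrder
import Cfsg.Agent.Helper24.RealChar
import Cfsg.Agent.Helper24.SmallDegree
import Cfsg.Agent.Helper8.PRegular
import Cfsg.Agent.Helper8.RegularOrbitBound

/-!
# Exact divisibility of the `p`-regular truncation of an irreducible character

`[|G|_p χ̃, ψ]` is an integer divisible by `χ(1)_p`.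
-/

namespace Cfsg.Agent.Helper8.PRegularDiv

open Cfsg Cfsg.Agent.Helper24 Cfsg.Agent.Helper5.CC Cfsg.Agent.Helper5.Loc

variable {M : Ideal AlgInt}

/-- An integer which is `p ^ ν` times a local integer is divisible by `p ^ ν`. -/
theorem pow_dvd_of_eq_pow_mul {p : ℕ} (hM : IsPModular p M) :
    ∀ (ν : ℕ) (n : ℤ) (r : ℂ), MemLocalRing M r → (n : ℂ) = (p : ℂ) ^ ν * r →
      (p : ℤ) ^ ν ∣ n := by
  have hMp := isPrime_of_isPModular hM
  have hp0 : (p : ℂ) ≠ 0 := by
    have := hM.1.pos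
    exact_mod_cast this.ne'
  intro ν
  induction ν with
  | zero => intro n r _ _; simp
  | succ k ih =>
    intro n r hr h
    have h1 : MemLocalIdeal M (n : ℂ) := by
      rw [h, pow_succ, mul_comm ((p : ℂ) ^ k), mul_assoc]
      refine li_mul_right hMp ((memLocalIdeal_natCast_iff hM p).mpr dvd_rfl) ?_
      exact lr_mul hMp (lr_pow hMp (memLocalRing_natCast hMp p) k) hr
    obtain ⟨n', rfl⟩ := (Cfsg.Agent.Helper5.BG.memLocalIdeal_intCast_iff hM n).mp h1
    have h2 : ((n' : ℤ) : ℂ) = (p : ℂ) ^ k * r := by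
      have : (p : ℂ) * (n' : ℂ) = (p : ℂ) * ((p : ℂ) ^ k * r) := by
        rw [← mul_assoc, ← pow_succ']
        rw [← h]; push_cast; ring
      exact mul_left_cancel₀ hp0 this
    obtain ⟨q, rfl⟩ := ih n' r hr h2
    exact ⟨q, by ring⟩

variable {G : Type*} [Group G] [Fintype G]

/-- The key divisibility: the integer `[|G|_p χ̃, ψ]` is divisible by `χ(1)_p`. -/
theorem pow_dvd_classInner_pRegular (p : ℕ) [hp : Fact p.Prime] (χ ψ : IrrCharacter G) (n : ℤ)
    (hn : classInner (fun x : G => if p ∣ orderOf x then (0 : ℂ) else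
      ((p ^ (Nat.card G).factorization p : ℕ) : ℂ) * (χ : G → ℂ) x) (ψ : G → ℂ) = n) :
    (p : ℤ) ^ (irrDeg χ).factorization p ∣ n := by
  classical
  obtain ⟨M, hM⟩ := Cfsg.Agent.Helper8.exists_isPModular p hp.out
  have hMp := isPrime_of_isPModular hM
  set a := (Nat.card G).factorization p with ha
  set ν := (irrDeg χ).factorization p with hν
  set m := Nat.card G / p ^ a with hm
  have hGm : p ^ a * m = Nat.card G := Nat.ordProj_mul_ordCompl_eq_self (Nat.card G) p
  have hmcop : ¬ p ∣ m := Nat.not_dvd_ordCompl hp.out Nat.card_pos.ne'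
  set d' := irrDeg χ / p ^ ν with hd'
  have hd : p ^ ν * d' = irrDeg χ := Nat.ordProj_mul_ordCompl_eq_self (irrDeg χ) p
  set c : G → ℂ := fun t => regInd p t * (starRingEnd ℂ) ((ψ : G → ℂ) t) with hc
  have hcclass : IsClassFunction G c := by
    intro g x
    simp only [hc]
    rw [isClassFunction_regInd p g x, isClassFunction_irr ψ g x]
  have hclr : ∀ t, MemLocalRing M (c t) := by
    intro t
    refine lr_mul hMp (lr_regInd hMp p t) ?_
    rw [← irr_inv]
    exact memLocalRing_of_isIntegral hMp (irr_isIntegral ψ _)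
  have hact := act_lr hMp hcclass hclr χ
  have hχ1 : (χ : G → ℂ) 1 ≠ 0 := by
    rw [irrDeg_spec]; exact_mod_cast (irrDeg_pos χ).ne'
  -- the sum
  have hsum : ∑ g : G, (if p ∣ orderOf g then (0 : ℂ) else
      ((p ^ a : ℕ) : ℂ) * (χ : G → ℂ) g) * (starRingEnd ℂ) ((ψ : G → ℂ) g) =
      ((p ^ a : ℕ) : ℂ) * ((χ : G → ℂ) 1 * act c χ) := by
    rw [act, mul_div_cancel₀ _ hχ1, Finset.mul_sum]
    refine Finset.sum_congr rfl ?_
    intro g _
    simp only [hc]
    by_cases hg : p ∣ orderOf g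
    · rw [if_pos hg, regInd_of_dvd hg]; ring
    · rw [if_neg hg, regInd_of_not_dvd hg]; ring
  rw [classInner, hsum] at hn
  have hcard : (Nat.card G : ℂ) ≠ 0 := by exact_mod_cast (Nat.card_pos (α := G)).ne'
  have hpa : ((p ^ a : ℕ) : ℂ) ≠ 0 := by
    exact_mod_cast (pow_pos hp.out.pos a).ne'
  -- n * m = χ(1) * act
  have h1 : ((n * (m : ℤ) : ℤ) : ℂ) = (p : ℂ) ^ ν * ((d' : ℂ) * act c χ) := by
    have hG : (Nat.card G : ℂ) = ((p ^ a : ℕ) : ℂ) * (m : ℂ) := by
      rw [← hGm]; push_cast; ring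
    have h2 : (n : ℂ) * (Nat.card G : ℂ) = ((p ^ a : ℕ) : ℂ) * ((χ : G → ℂ) 1 * act c χ) := by
      rw [← hn]; field_simp
    rw [hG] at h2
    have h3 : (n : ℂ) * (m : ℂ) = (χ : G → ℂ) 1 * act c χ := by
      apply mul_left_cancel₀ hpa
      rw [← h2]; ring
    push_cast
    rw [h3, irrDeg_spec, ← hd]
    push_cast; ring
  have h4 := pow_dvd_of_eq_pow_mul hM ν (n * (m : ℤ)) _
    (lr_mul hMp (memLocalRing_natCast hMp d') hact) h1
  have hcop : IsCoprime ((p : ℤ) ^ ν) (m : ℤ) := by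
    apply IsCoprime.pow_left
    rw [Int.isCoprime_iff_gcd_eq_one, Int.gcd_natCast_natCast]
    exact (Nat.Prime.coprime_iff_not_dvd hp.out).mpr hmcop
  exact hcop.dvd_of_dvd_mul_right h4

end Cfsg.Agent.Helper8.PRegularDiv
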