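import Mathlib
import Cfsg.Prelude.Def_Blocks
import Cfsg.Agent.Helper5.BlockOrth
import Cfsg.Agent.Helper24.Orthogonality

/-!
# Characters of different blocks are orthogonal on the `p`-regular elements

From weak block orthogonality (`Helper5.CC.block_orthogonality`): for `χ ∈ B`, `ψ ∉ B`,
`∑_{x p-regular} χ(x) conj ψ(x) = 0`.
-/

namespace Cfsg.Agent.Helper8.BlockReg

open Cfsg Cfsg.Agent.Helper24 Cfsg.Agent.Helper5.CC

variable {G : Type*} [Group G] [Fintype G] {M : Ideal AlgInt}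

theorem sum_pRegular_eq_zero [Fintype (IrrCharacter G)] {p : ℕ} [hp : Fact p.Prime]
    (hM : IsPModular p M) {B : Set (IrrCharacter G)} (hB : IsPBlock M B)
    (χ₀ ψ : IrrCharacter G) (hχ₀ : χ₀ ∈ B) (hψ : ψ ∉ B) :
    ∑ y : G, (if p ∣ orderOf y then (0 : ℂ) else
      (χ₀ : G → ℂ) y * (starRingEnd ℂ) ((ψ : G → ℂ) y)) = 0 := by
  classical
  set R : G → ℂ := fun y => if p ∣ orderOf y then (0 : ℂ) else 1 with hR
  set w : IrrCharacter G → ℂ := fun χ => if χ ∈ B then (1 : ℂ) else 0 with hw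
  set c : IrrCharacter G → ℂ := fun χ =>
    ∑ y : G, R y * ((χ : G → ℂ) y * (starRingEnd ℂ) ((ψ : G → ℂ) y)) with hc
  have hcard : (Nat.card G : ℂ) ≠ 0 := by exact_mod_cast (Nat.card_pos (α := G)).ne'
  -- full orthogonality
  have horth : ∀ χ : IrrCharacter G, χ ∈ B →
      ∑ y : G, (χ : G → ℂ) y * (starRingEnd ℂ) ((ψ : G → ℂ) y) = 0 := by
    intro χ hχ
    have hne : χ ≠ ψ := fun h => hψ (h ▸ hχ)
    have := classInner_irr_ne hne
    rw [classInner] at this
    rcases mul_eq_zero.mp this with h | h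
    · exact absurd (inv_eq_zero.mp h) hcard
    · exact h
  -- weak orthogonality, conjugated
  have hweak : ∀ x y : G, ¬ p ∣ orderOf x → p ∣ orderOf y →
      ∑ χ : IrrCharacter G, w χ * ((starRingEnd ℂ) ((χ : G → ℂ) x) * (χ : G → ℂ) y) = 0 := by
    intro x y hx hy
    have h := block_orthogonality hM hB x y hx hy
    have h2 := congrArg (starRingEnd ℂ) h
    rw [map_sum, map_zero] at h2
    rw [← h2]
    refine Finset.sum_congr rfl ?_
    intro χ _
    rw [map_mul, map_mul, Complex.conj_conj]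
    congr 1
    simp only [hw]
    split_ifs <;> simp
  -- Claim 1
  have claim1 : ∀ x : G, ¬ p ∣ orderOf x →
      ∑ χ : IrrCharacter G, w χ * ((starRingEnd ℂ) ((χ : G → ℂ) x) * c χ) = 0 := by
    intro x hx
    have h1 : ∑ χ : IrrCharacter G, w χ * ((starRingEnd ℂ) ((χ : G → ℂ) x) * c χ) =
        ∑ y : G, R y * (starRingEnd ℂ) ((ψ : G → ℂ) y) *
          ∑ χ : IrrCharacter G, w χ * ((starRingEnd ℂ) ((χ : G → ℂ) x) * (χ : G → ℂ) y) := by
      simp only [hc, Finset.mul_sum]
      rw [Finset.sum_comm]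
      refine Finset.sum_congr rfl ?_
      intro y _
      refine Finset.sum_congr rfl ?_
      intro χ _
      ring
    rw [h1]
    have h2 : ∀ y : G, R y * (starRingEnd ℂ) ((ψ : G → ℂ) y) *
          ∑ χ : IrrCharacter G, w χ * ((starRingEnd ℂ) ((χ : G → ℂ) x) * (χ : G → ℂ) y) =
        (starRingEnd ℂ) ((ψ : G → ℂ) y) *
          ∑ χ : IrrCharacter G, w χ * ((starRingEnd ℂ) ((χ : G → ℂ) x) * (χ : G → ℂ) y) := by
      intro y
      by_cases hy : p ∣ orderOf y
      · rw [hweak x y hx hy]; ring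
      · simp only [hR, if_neg hy, one_mul]
    simp only [h2, Finset.mul_sum]
    rw [Finset.sum_comm]
    refine Finset.sum_eq_zero ?_
    intro χ _
    by_cases hχ : χ ∈ B
    · have := horth χ hχ
      calc ∑ y : G, (starRingEnd ℂ) ((ψ : G → ℂ) y) *
            (w χ * ((starRingEnd ℂ) ((χ : G → ℂ) x) * (χ : G → ℂ) y))
          = w χ * (starRingEnd ℂ) ((χ : G → ℂ) x) *
            ∑ y : G, (χ : G → ℂ) y * (starRingEnd ℂ) ((ψ : G → ℂ) y) := by
            rw [Finset.mul_sum]
            refine Finset.sum_congr rfl ?_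
            intro y _
            ring
        _ = 0 := by rw [this, mul_zero]
    · simp [hw, hχ]
  -- Claim 2
  have claim2 : ∑ χ : IrrCharacter G, w χ * ((starRingEnd ℂ) (c χ) * c χ) = 0 := by
    have h1 : ∑ χ : IrrCharacter G, w χ * ((starRingEnd ℂ) (c χ) * c χ) =
        ∑ y : G, R y * (starRingEnd ℂ) ((ψ : G → ℂ) y) *
          ∑ χ : IrrCharacter G, w χ * ((starRingEnd ℂ) (c χ) * (χ : G → ℂ) y) := by
      have : ∀ χ : IrrCharacter G, w χ * ((starRingEnd ℂ) (c χ) * c χ) =
          ∑ y : G, R y * (starRingEnd ℂ) ((ψ : G → ℂ) y) *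
            (w χ * ((starRingEnd ℂ) (c χ) * (χ : G → ℂ) y)) := by
        intro χ
        conv_lhs => rw [show c χ = ∑ y : G, R y * ((χ : G → ℂ) y *
          (starRingEnd ℂ) ((ψ : G → ℂ) y)) from rfl]
        rw [Finset.mul_sum, Finset.mul_sum]
        refine Finset.sum_congr rfl ?_
        intro y _
        ring
      simp only [this, Finset.mul_sum]
      rw [Finset.sum_comm]
    rw [h1]
    refine Finset.sum_eq_zero ?_
    intro y _
    by_cases hy : p ∣ orderOf y
    · simp [hR, hy]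
    · have h3 := claim1 y hy
      have h4 := congrArg (starRingEnd ℂ) h3
      rw [map_sum, map_zero] at h4
      have h5 : ∑ χ : IrrCharacter G, w χ * ((starRingEnd ℂ) (c χ) * (χ : G → ℂ) y) = 0 := by
        rw [← h4]
        refine Finset.sum_congr rfl ?_
        intro χ _
        rw [map_mul, map_mul, Complex.conj_conj]
        have : (starRingEnd ℂ) (w χ) = w χ := by
          simp only [hw]; split_ifs <;> simp
        rw [this]; ring
      rw [h5, mul_zero]
  -- conclude
  have hnn : ∀ χ : IrrCharacter G, w χ * ((starRingEnd ℂ) (c χ) * c χ) =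
      ((if χ ∈ B then Complex.normSq (c χ) else 0 : ℝ) : ℂ) := by
    intro χ
    by_cases hχ : χ ∈ B
    · simp only [hw, if_pos hχ, one_mul]
      rw [mul_comm, Complex.mul_conj]
    · simp [hw, hχ]
  simp only [hnn] at claim2
  rw [← Complex.ofReal_sum] at claim2
  have claim3 := Complex.ofReal_eq_zero.mp claim2
  have hnonneg : ∀ χ ∈ (Finset.univ : Finset (IrrCharacter G)),
      0 ≤ (if χ ∈ B then Complex.normSq (c χ) else 0 : ℝ) := by
    intro χ _
    split_ifs
    · exact Complex.normSq_nonneg _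
    · exact le_refl _
  have h0 := (Finset.sum_eq_zero_iff_of_nonneg hnonneg).mp claim3 χ₀ (Finset.mem_univ _)
  rw [if_pos hχ₀] at h0
  have hc0 : c χ₀ = 0 := Complex.normSq_eq_zero.mp h0
  refine Eq.trans ?_ hc0
  simp only [hc, hR]
  refine Finset.sum_congr rfl ?_
  intro y _
  split_ifs <;> simp

/-- In `classInner` form. -/
theorem classInner_pRegular_eq_zero [Fintype (IrrCharacter G)] {p : ℕ} [hp : Fact p.Prime]
    (hM : IsPModular p M) {B : Set (IrrCharacter G)} (hB : IsPBlock M B)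
    (χ₀ ψ : IrrCharacter G) (hχ₀ : χ₀ ∈ B) (hψ : ψ ∉ B) (a : ℂ) :
    classInner (fun y : G => if p ∣ orderOf y then (0 : ℂ) else a * (χ₀ : G → ℂ) y)
      (ψ : G → ℂ) = 0 := by
  rw [classInner]
  have h := sum_pRegular_eq_zero hM hB χ₀ ψ hχ₀ hψ
  have : ∑ g : G, (if p ∣ orderOf g then (0 : ℂ) else a * (χ₀ : G → ℂ) g) *
      (starRingEnd ℂ) ((ψ : G → ℂ) g) = a * ∑ y : G, (if p ∣ orderOf y then (0 : ℂ) else
      (χ₀ : G → ℂ) y * (starRingEnd ℂ) ((ψ : G → ℂ) y)) := by
    rw [Finset.mul_sum]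
    refine Finset.sum_congr rfl ?_
    intro y _
    split_ifs <;> ring
  rw [this, h, mul_zero, mul_zero]

end Cfsg.Agent.Helper8.BlockReg
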