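import Mathlib
import Cfsg.Prelude.Def_Blocks
import Cfsg.Agent.Helper5.BlockBasic
import Cfsg.Agent.Helper8.PRegularDiv
import Cfsg.Agent.Helper8.BlockReg
import Cfsg.Agent.S4425

/-!
# Height zero characters and the inner products `[|G|_p χ̃, ξ]`

For `χ` in a block `B`: `χ` has height zero iff the integer `[|G|_p χ̃, ξ]` has `p`-adic valuation
exactly `ν_p(ξ(1))` for some (equivalently all) `ξ ∈ B`.
-/

namespace Cfsg.Agent.Helper8.HZI

open Cfsg Cfsg.Agent.Helper24 Cfsg.Agent.Helper5.CC Cfsg.Agent.Helper5.Loc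

variable {G : Type*} [Group G] [Fintype G] {M : Ideal AlgInt}

/-- `|G|_p χ̃`. -/
noncomputable def trunc (p : ℕ) (χ : G → ℂ) : G → ℂ :=
  fun x : G => if p ∣ orderOf x then (0 : ℂ) else
    ((p ^ (Nat.card G).factorization p : ℕ) : ℂ) * χ x

/-- The class function `1_{p-reg} * conj χ`. -/
noncomputable def cfun (p : ℕ) (χ : IrrCharacter G) : G → ℂ :=
  fun t => regInd p t * (starRingEnd ℂ) ((χ : G → ℂ) t)

theorem isClassFunction_cfun (p : ℕ) (χ : IrrCharacter G) : IsClassFunction G (cfun p χ) := by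
  intro g x
  simp only [cfun]
  rw [isClassFunction_regInd p g x, isClassFunction_irr χ g x]

theorem lr_cfun (hM : M.IsPrime) (p : ℕ) (χ : IrrCharacter G) (t : G) :
    MemLocalRing M (cfun p χ t) := by
  refine lr_mul hM (lr_regInd hM p t) ?_
  rw [← irr_inv]
  exact memLocalRing_of_isIntegral hM (irr_isIntegral χ _)

/-- The `p'`-part of the group order. -/
noncomputable def mm (G : Type*) [Group G] (p : ℕ) : ℕ :=
  Nat.card G / p ^ (Nat.card G).factorization p

theorem classInner_trunc_mul (p : ℕ) [hp : Fact p.Prime] (χ ψ : IrrCharacter G) :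
    classInner (trunc p (χ : G → ℂ)) (ψ : G → ℂ) * (mm G p : ℂ) =
      (χ : G → ℂ) 1 * act (cfun p ψ) χ := by
  classical
  set a := (Nat.card G).factorization p with ha
  have hGm : p ^ a * mm G p = Nat.card G := Nat.ordProj_mul_ordCompl_eq_self (Nat.card G) p
  have hχ1 : (χ : G → ℂ) 1 ≠ 0 := by
    rw [irrDeg_spec]; exact_mod_cast (irrDeg_pos χ).ne'
  have hsum : ∑ g : G, trunc p (χ : G → ℂ) g * (starRingEnd ℂ) ((ψ : G → ℂ) g) =
      ((p ^ a : ℕ) : ℂ) * ((χ : G → ℂ) 1 * act (cfun p ψ) χ) := by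
    rw [act, mul_div_cancel₀ _ hχ1, Finset.mul_sum]
    refine Finset.sum_congr rfl ?_
    intro g _
    simp only [cfun, trunc]
    by_cases hg : p ∣ orderOf g
    · rw [if_pos hg, regInd_of_dvd hg]; ring
    · rw [if_neg hg, regInd_of_not_dvd hg]; ring
  rw [classInner, hsum]
  have hcard : (Nat.card G : ℂ) ≠ 0 := by exact_mod_cast (Nat.card_pos (α := G)).ne'
  have hG : (Nat.card G : ℂ) = ((p ^ a : ℕ) : ℂ) * (mm G p : ℂ) := by
    rw [← hGm]; push_cast; ring
  have hpa : ((p ^ a : ℕ) : ℂ) ≠ 0 := by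
    exact_mod_cast (pow_pos hp.out.pos a).ne'
  have hm0 : (mm G p : ℂ) ≠ 0 := by
    intro h; rw [h, mul_zero] at hG; exact hcard hG
  rw [hG]
  field_simp

theorem classInner_trunc_symm (p : ℕ) (χ ψ : IrrCharacter G) :
    classInner (trunc p (ψ : G → ℂ)) (χ : G → ℂ) =
      (starRingEnd ℂ) (classInner (trunc p (χ : G → ℂ)) (ψ : G → ℂ)) := by
  rw [classInner, classInner, map_mul, map_sum, map_inv₀, Complex.conj_natCast]
  congr 1
  refine Finset.sum_congr rfl ?_
  intro g _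
  simp only [trunc]
  by_cases hg : p ∣ orderOf g
  · simp [hg]
  · simp only [if_neg hg, map_mul, Complex.conj_conj, Complex.conj_natCast]
    ring

theorem exists_int (p : ℕ) [hp : Fact p.Prime] (χ ψ : IrrCharacter G) :
    ∃ n : ℤ, classInner (trunc p (χ : G → ℂ)) (ψ : G → ℂ) = n := by
  haveI : Fintype (IrrCharacter G) := Fintype.ofFinite _
  exact IsGeneralizedCharacter.classInner_irr_int
    (Cfsg.Agent.Helper8.PRegular.isGeneralizedCharacter_pRegular p
      (IsIrrCharacter.isCharacter χ.2)) ψ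

/-- The integer `[|G|_p χ̃, ψ]`. -/
noncomputable def N (p : ℕ) [hp : Fact p.Prime] (χ ψ : IrrCharacter G) : ℤ :=
  (exists_int p χ ψ).choose

theorem N_spec (p : ℕ) [hp : Fact p.Prime] (χ ψ : IrrCharacter G) :
    classInner (trunc p (χ : G → ℂ)) (ψ : G → ℂ) = N p χ ψ :=
  (exists_int p χ ψ).choose_spec

theorem N_symm (p : ℕ) [hp : Fact p.Prime] (χ ψ : IrrCharacter G) : N p χ ψ = N p ψ χ := by
  have h1 := N_spec p χ ψ
  have h2 := N_spec p ψ χ
  rw [classInner_trunc_symm, h1, map_intCast] at h2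
  exact_mod_cast h2

theorem pow_dvd_N_left (p : ℕ) [hp : Fact p.Prime] (χ ψ : IrrCharacter G) :
    (p : ℤ) ^ (irrDeg χ).factorization p ∣ N p χ ψ :=
  Cfsg.Agent.Helper8.PRegularDiv.pow_dvd_classInner_pRegular p χ ψ _ (N_spec p χ ψ)

theorem pow_dvd_N_right (p : ℕ) [hp : Fact p.Prime] (χ ψ : IrrCharacter G) :
    (p : ℤ) ^ (irrDeg ψ).factorization p ∣ N p χ ψ := by
  rw [N_symm]; exact pow_dvd_N_left p ψ χ

theorem N_eq_zero {p : ℕ} [hp : Fact p.Prime] (hM : IsPModular p M)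
    {B : Set (IrrCharacter G)} (hB : IsPBlock M B) {χ ψ : IrrCharacter G} (hχ : χ ∈ B)
    (hψ : ψ ∉ B) : N p χ ψ = 0 := by
  haveI : Fintype (IrrCharacter G) := Fintype.ofFinite _
  have h1 := N_spec p χ ψ
  have h0 := Cfsg.Agent.Helper8.BlockReg.classInner_pRegular_eq_zero hM hB χ ψ hχ hψ
      ((p ^ (Nat.card G).factorization p : ℕ) : ℂ)
  have h0' : classInner (trunc p (χ : G → ℂ)) (ψ : G → ℂ) = 0 := h0
  rw [h0'] at h1
  exact_mod_cast h1.symm

theorem N_mul (p : ℕ) [hp : Fact p.Prime] (χ ξ : IrrCharacter G) :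
    (N p χ ξ : ℂ) * (mm G p : ℂ) = (ξ : G → ℂ) 1 * act (cfun p χ) ξ := by
  rw [N_symm, ← N_spec, classInner_trunc_mul]

theorem not_dvd_mm (p : ℕ) [hp : Fact p.Prime] : ¬ p ∣ mm G p :=
  Nat.not_dvd_ordCompl hp.out Nat.card_pos.ne'

/-- Unit criterion. -/
theorem li_act_iff {p : ℕ} [hp : Fact p.Prime] (hM : IsPModular p M) (χ ξ : IrrCharacter G)
    (q : ℤ) (hq : N p χ ξ = (p : ℤ) ^ (irrDeg ξ).factorization p * q) :
    MemLocalIdeal M (act (cfun p χ) ξ) ↔ (p : ℤ) ∣ q := by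
  have hMp := isPrime_of_isPModular hM
  set ν := (irrDeg ξ).factorization p with hν
  set d' := irrDeg ξ / p ^ ν with hd'
  have hd : p ^ ν * d' = irrDeg ξ := Nat.ordProj_mul_ordCompl_eq_self (irrDeg ξ) p
  have hd'cop : ¬ p ∣ d' := Nat.not_dvd_ordCompl hp.out (irrDeg_pos ξ).ne'
  have hact : MemLocalRing M (act (cfun p χ) ξ) :=
    act_lr hMp (isClassFunction_cfun p χ) (lr_cfun hMp p χ) ξ
  have hp0 : (p : ℂ) ^ ν ≠ 0 := by
    apply pow_ne_zero
    exact_mod_cast hp.out.pos.ne'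
  have hkey : ((q * (mm G p : ℤ) : ℤ) : ℂ) = (d' : ℂ) * act (cfun p χ) ξ := by
    have h1 := N_mul p χ ξ
    rw [hq, irrDeg_spec, ← hd] at h1
    push_cast at h1 ⊢
    apply mul_left_cancel₀ hp0
    rw [← mul_assoc, ← mul_assoc, ← h1]
  have hd'li : ¬ MemLocalIdeal M (d' : ℂ) := by
    rw [memLocalIdeal_natCast_iff hM]; exact hd'cop
  constructor
  · intro h
    have h2 : MemLocalIdeal M (((q * (mm G p : ℤ) : ℤ) : ℂ)) := by
      rw [hkey]; exact li_mul_left hMp (memLocalRing_natCast hMp d') h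
    have h3 := (Cfsg.Agent.Helper5.BG.memLocalIdeal_intCast_iff hM _).mp h2
    have hpp : Prime (p : ℤ) := Nat.prime_iff_prime_int.mp hp.out
    rcases hpp.dvd_or_dvd h3 with h4 | h4
    · exact h4
    · exfalso
      apply not_dvd_mm (G := G) p
      exact_mod_cast h4
  · intro h
    have h2 : MemLocalIdeal M (((q * (mm G p : ℤ) : ℤ) : ℂ)) :=
      (Cfsg.Agent.Helper5.BG.memLocalIdeal_intCast_iff hM _).mpr (Dvd.dvd.mul_right h _)
    rw [hkey] at h2
    rcases li_of_mul hMp (memLocalRing_natCast hMp d') hact h2 with h3 | h3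
    · exact absurd h3 hd'li
    · exact h3

/-- The valuation condition on `ξ`. -/
def Good (p : ℕ) [hp : Fact p.Prime] (χ ξ : IrrCharacter G) : Prop :=
  N p χ ξ ≠ 0 ∧ padicValInt p (N p χ ξ) = (irrDeg ξ).factorization p

theorem good_iff {p : ℕ} [hp : Fact p.Prime] (hM : IsPModular p M) (χ ξ : IrrCharacter G) :
    Good p χ ξ ↔ ¬ MemLocalIdeal M (act (cfun p χ) ξ) := by
  obtain ⟨q, hq⟩ := pow_dvd_N_right p χ ξ
  rw [li_act_iff hM χ ξ q hq]
  have hp1 : (p : ℤ) ≠ 0 := by exact_mod_cast hp.out.pos.ne'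
  have hpp : ∀ k : ℕ, padicValInt p ((p : ℤ) ^ k) = k := by
    intro k
    rw [show ((p : ℤ) ^ k) = ((p ^ k : ℕ) : ℤ) by push_cast; rfl, padicValInt.of_nat,
      padicValNat.prime_pow]
  constructor
  · rintro ⟨h0, hv⟩ hdvd
    have hq0 : q ≠ 0 := by
      rintro rfl; rw [mul_zero] at hq; exact h0 hq
    rw [hq, padicValInt.mul (pow_ne_zero _ hp1) hq0, hpp] at hv
    have : padicValInt p q = 0 := by omega
    have h1 := (padicValInt_dvd_iff (p := p) 1 q).mp (by simpa using hdvd)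
    rcases h1 with h1 | h1
    · exact hq0 h1
    · omega
  · intro hndvd
    have hq0 : q ≠ 0 := by
      rintro rfl; exact hndvd (dvd_zero _)
    refine ⟨?_, ?_⟩
    · rw [hq]; exact mul_ne_zero (pow_ne_zero _ hp1) hq0
    · rw [hq, padicValInt.mul (pow_ne_zero _ hp1) hq0, hpp]
      have : padicValInt p q = 0 := by
        by_contra hne
        apply hndvd
        have h1 : 1 ≤ padicValInt p q := Nat.one_le_iff_ne_zero.mpr hne
        have := (padicValInt_dvd_iff (p := p) 1 q).mpr (Or.inr h1)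
        simpa using this
      omega

theorem good_congr {p : ℕ} [hp : Fact p.Prime] (hM : IsPModular p M)
    {B : Set (IrrCharacter G)} (hB : IsPBlock M B) (χ : IrrCharacter G)
    {ξ₁ ξ₂ : IrrCharacter G} (h1 : ξ₁ ∈ B) (h2 : ξ₂ ∈ B) : Good p χ ξ₁ ↔ Good p χ ξ₂ := by
  have hMp := isPrime_of_isPModular hM
  rw [good_iff hM, good_iff hM]
  have hs := act_sub_act_memLocalIdeal hMp (isClassFunction_cfun p χ) (lr_cfun hMp p χ)
    (sameBlock_of_mem hMp hB h1 h2)
  constructor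
  · intro h hc
    apply h
    have := li_add hMp hs hc
    rwa [sub_add_cancel] at this
  · intro h hc
    apply h
    have := li_sub hMp hc hs
    rwa [sub_sub_cancel] at this

/-- (B): a good `ξ ∈ B` forces height zero. -/
theorem minimal_of_good {p : ℕ} [hp : Fact p.Prime] (hM : IsPModular p M)
    {B : Set (IrrCharacter G)} (hB : IsPBlock M B) {χ ξ : IrrCharacter G} (hξ : ξ ∈ B)
    (hgood : Good p χ ξ) :
    ∀ ψ ∈ B, (irrDeg χ).factorization p ≤ (irrDeg ψ).factorization p := by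
  intro ψ hψ
  have hg := (good_congr hM hB χ hξ hψ).mp hgood
  obtain ⟨q, hq⟩ := pow_dvd_N_right p χ ψ
  have hnd : ¬ (p : ℤ) ∣ q := by
    rw [← li_act_iff hM χ ψ q hq]
    exact (good_iff hM χ ψ).mp hg
  by_contra hlt
  push Not at hlt
  apply hnd
  have h1 := pow_dvd_N_left p χ ψ
  rw [hq] at h1
  have hp1 : (p : ℤ) ≠ 0 := by exact_mod_cast hp.out.pos.ne'
  obtain ⟨k, hk⟩ := Nat.exists_eq_add_of_lt hlt
  rw [hk, show (irrDeg ψ).factorization p + k + 1 = (irrDeg ψ).factorization p + (k + 1) by ring,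
    pow_add] at h1
  have h2 := (mul_dvd_mul_iff_left (pow_ne_zero _ hp1)).mp h1
  exact dvd_trans (dvd_pow_self _ (Nat.succ_ne_zero k)) h2

/-- (A): for `χ ∈ B` of minimal `p`-part of the degree, all `ξ ∈ B` are good. -/
theorem good_of_minimal {p : ℕ} [hp : Fact p.Prime] (hM : IsPModular p M)
    {B : Set (IrrCharacter G)} (hB : IsPBlock M B) {χ : IrrCharacter G} (hχ : χ ∈ B)
    (hmin : ∀ ψ ∈ B, (irrDeg χ).factorization p ≤ (irrDeg ψ).factorization p) :
    ∀ ξ ∈ B, Good p χ ξ := by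
  classical
  haveI : Fintype (IrrCharacter G) := Fintype.ofFinite _
  intro ξ₀ hξ₀
  by_contra hbad
  -- then nobody in B is good
  have hall : ∀ ξ : IrrCharacter G, (p : ℤ) ^ ((irrDeg χ).factorization p + 1) ∣ N p χ ξ := by
    intro ξ
    by_cases hξ : ξ ∈ B
    · have hb : ¬ Good p χ ξ := fun h => hbad ((good_congr hM hB χ hξ hξ₀).mp h)
      obtain ⟨q, hq⟩ := pow_dvd_N_right p χ ξ
      rw [good_iff hM, not_not, li_act_iff hM χ ξ q hq] at hb
      obtain ⟨q', rfl⟩ := hb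
      rw [hq]
      have hle := hmin ξ hξ
      have : (p : ℤ) ^ ((irrDeg χ).factorization p + 1) ∣
          (p : ℤ) ^ ((irrDeg ξ).factorization p + 1) := pow_dvd_pow _ (by omega)
      refine dvd_trans this ?_
      exact ⟨q', by ring⟩
    · rw [N_eq_zero hM hB hχ hξ]; exact dvd_zero _
  -- so `|G|_p χ̃ / p^(ν+1)` is a generalized character
  have hS := (Cfsg.Agent.S4425.result p χ).2
  apply hS
  rw [charDegree_eq_irrDeg]
  set ν := (irrDeg χ).factorization p with hν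
  have hp0 : ((p ^ (ν + 1) : ℕ) : ℂ) ≠ 0 := by
    exact_mod_cast (pow_pos hp.out.pos (ν + 1)).ne'
  have hfun : (fun x : G => if p ∣ orderOf x then (0 : ℂ) else
      ((p ^ (Nat.card G).factorization p : ℕ) : ℂ) / ((p ^ (ν + 1) : ℕ) : ℂ) *
        (χ : G → ℂ) x) = (((p ^ (ν + 1) : ℕ) : ℂ)⁻¹) • trunc p (χ : G → ℂ) := by
    funext x
    simp only [trunc, Pi.smul_apply, smul_eq_mul]
    by_cases hx : p ∣ orderOf x
    · simp [hx]
    · simp only [if_neg hx]
      field_simp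
  rw [hfun]
  have hgen : IsGeneralizedCharacter G (trunc p (χ : G → ℂ)) :=
    Cfsg.Agent.Helper8.PRegular.isGeneralizedCharacter_pRegular p
      (IsIrrCharacter.isCharacter χ.2)
  refine isGeneralizedCharacter_of_classInner_int ?_ ?_
  · intro g x
    simp only [Pi.smul_apply]
    rw [IsGeneralizedCharacter.isClassFunction hgen g x]
  · intro ψ
    obtain ⟨q, hq⟩ := hall ψ
    refine ⟨q, ?_⟩
    rw [classInner_smul_left, N_spec, hq]
    have hpc : (p : ℂ) ≠ 0 := by exact_mod_cast hp.out.pos.ne'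
    push_cast
    field_simp

end Cfsg.Agent.Helper8.HZI
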