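import Mathlib
import Cfsg.Prelude.Def_Blocks
import Cfsg.Agent.Helper5.ThirdMain
import Cfsg.Agent.Helper5.BlockPart
import Cfsg.Agent.Helper5.Osima
import Cfsg.Agent.Helper5.IndFun
import Cfsg.Agent.Helper5.BlockGalois
import Cfsg.Agent.Helper24.Induced
import Cfsg.Agent.Helper24.Expansion
import Cfsg.Agent.Helper24.SmallDegree
import Cfsg.Agent.Helper8.Ind
import Cfsg.Agent.Helper8.PRegularDiv

/-!
# The block parts of an induced character

For `b^G = B₀` and `ξ ∈ b`, the value at `1` of the `B`-part of `ξ^G` is `ξ^G(1) · λ_B` with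
`λ_B` a local integer congruent to `1` (if `B = B₀`) or `0` (otherwise) modulo the local ideal.
-/

namespace Cfsg.Agent.Helper8.IndPart

open Cfsg Cfsg.Agent.Helper24 Cfsg.Agent.Helper5.CC Cfsg.Agent.Helper5.Loc

variable {M : Ideal AlgInt}

/-- A natural number `n = D · λ` with `λ` a local integer: the `p`-adic valuation of `n` is
that of `D` if `λ` is a local unit, and larger (or `n = 0`) otherwise. -/
theorem nat_val_of_eq_mul {p : ℕ} [hp : Fact p.Prime] (hM : IsPModular p M) (n D : ℕ) (hD : D ≠ 0)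
    (lam : ℂ) (hlam : MemLocalRing M lam) (h : (n : ℂ) = (D : ℂ) * lam) :
    (¬ MemLocalIdeal M lam → n ≠ 0 ∧ n.factorization p = D.factorization p) ∧
    (MemLocalIdeal M lam → n = 0 ∨ D.factorization p < n.factorization p) := by
  have hMp := isPrime_of_isPModular hM
  set d := D.factorization p with hd
  set D' := D / p ^ d with hD'
  have hDD : p ^ d * D' = D := Nat.ordProj_mul_ordCompl_eq_self D p
  have hcop : ¬ p ∣ D' := Nat.not_dvd_ordCompl hp.out hD
  have hp0 : (p : ℂ) ≠ 0 := by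
    have := hp.out.pos
    exact_mod_cast this.ne'
  have hpd0 : ((p : ℂ) ^ d) ≠ 0 := pow_ne_zero _ hp0
  have h1 : ((n : ℤ) : ℂ) = (p : ℂ) ^ d * ((D' : ℂ) * lam) := by
    rw [Int.cast_natCast, h, ← hDD]; push_cast; ring
  have h2 : (p : ℤ) ^ d ∣ (n : ℤ) :=
    Cfsg.Agent.Helper8.PRegularDiv.pow_dvd_of_eq_pow_mul hM d n _
      (lr_mul hMp (memLocalRing_natCast hMp D') hlam) h1
  have h3 : p ^ d ∣ n := by exact_mod_cast h2
  obtain ⟨n', rfl⟩ := h3
  have h4 : (n' : ℂ) = (D' : ℂ) * lam := by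
    have : (p : ℂ) ^ d * (n' : ℂ) = (p : ℂ) ^ d * ((D' : ℂ) * lam) := by
      rw [← h1]; push_cast; ring
    exact mul_left_cancel₀ hpd0 this
  have hpdn : p ^ d ≠ 0 := pow_ne_zero _ hp.out.pos.ne'
  have hfac : ∀ (hn' : n' ≠ 0), (p ^ d * n').factorization p = d + n'.factorization p := by
    intro hn'
    rw [Nat.factorization_mul hpdn hn', Nat.Prime.factorization_pow hp.out]
    simp
  constructor
  · intro hli
    have h5 : ¬ p ∣ n' := by
      intro hdvd
      have h6 : MemLocalIdeal M (n' : ℂ) := (memLocalIdeal_natCast_iff hM n').mpr hdvd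
      rw [h4] at h6
      have h7 : MemLocalIdeal M ((D' : ℂ)⁻¹ * ((D' : ℂ) * lam)) :=
        li_mul_left hMp (memLocalRing_inv_natCast hM hcop) h6
      have hD'0 : (D' : ℂ) ≠ 0 := by
        have : D' ≠ 0 := fun h0 => hcop (h0 ▸ dvd_zero p)
        exact_mod_cast this
      rw [← mul_assoc, inv_mul_cancel₀ hD'0, one_mul] at h7
      exact hli h7
    have hn' : n' ≠ 0 := fun h0 => h5 (h0 ▸ dvd_zero p)
    refine ⟨mul_ne_zero hpdn hn', ?_⟩
    rw [hfac hn', Nat.factorization_eq_zero_of_not_dvd h5, add_zero]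
  · intro hli
    by_cases hn' : n' = 0
    · left; rw [hn', mul_zero]
    · right
      have h6 : MemLocalIdeal M (n' : ℂ) := by
        rw [h4]
        exact li_mul_left hMp (memLocalRing_natCast hMp D') hli
      have h7 : p ∣ n' := (memLocalIdeal_natCast_iff hM n').mp h6
      have h8 : 1 ≤ n'.factorization p :=
        (hp.out.dvd_iff_one_le_factorization hn').mp h7
      rw [hfac hn']
      omega

variable {G : Type*} [Group G] [Fintype G]

/-- The value at `1` of the `B`-part of an induced class function. -/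
theorem blockPart_indFun_one [Fintype (IrrCharacter G)] (H : Subgroup G) [Fintype H]
    (B : Set (IrrCharacter G)) (ξ : IrrCharacter H) :
    blockPart B (indFun H (ξ : H → ℂ)) 1 =
      indFun H (ξ : H → ℂ) 1 * act (fun k : H => blockCoeff B (k : G)) ξ := by
  classical
  have hcl : IsClassFunction G (indFun H (ξ : H → ℂ)) :=
    Cfsg.Agent.Helper8.indFun_isClassFunction H _
  rw [blockPart_eq_sum_blockCoeff B hcl 1]
  simp only [mul_one]
  -- Frobenius reciprocity with `conj ∘ blockCoeff B`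
  have hcB : IsClassFunction G (fun g => (starRingEnd ℂ) (blockCoeff B g)) := by
    intro g x
    simp only
    rw [isClassFunction_blockCoeff B g x]
  have hfr := Cfsg.Agent.Helper8.frobenius_reciprocity H (ξ : H → ℂ)
    (fun g => (starRingEnd ℂ) (blockCoeff B g)) hcB
  simp only [classInner, Complex.conj_conj] at hfr
  have hG : (Nat.card G : ℂ) ≠ 0 := Nat.cast_ne_zero.mpr Nat.card_pos.ne'
  have hH : (Nat.card H : ℂ) ≠ 0 := Nat.cast_ne_zero.mpr Nat.card_pos.ne'
  have hξ1 : (ξ : H → ℂ) 1 ≠ 0 := irr_one_ne_zero ξ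
  have hidx : (H.index : ℂ) * (Nat.card H : ℂ) = (Nat.card G : ℂ) := by
    rw [← Nat.cast_mul, mul_comm, Subgroup.card_mul_index]
  rw [Cfsg.Agent.Helper5.indFun_apply_one, act]
  have e1 : ∑ k : G, blockCoeff B k * indFun H (ξ : H → ℂ) k =
      (Nat.card G : ℂ) * ((Nat.card G : ℂ)⁻¹ * ∑ g : G, indFun H (ξ : H → ℂ) g * blockCoeff B g) := by
    rw [← mul_assoc, mul_inv_cancel₀ hG, one_mul]
    refine Finset.sum_congr rfl fun k _ => ?_
    ring
  rw [e1, hfr]
  have e2 : ∑ t : H, blockCoeff B (t : G) * (ξ : H → ℂ) t =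
      ∑ g : H, (ξ : H → ℂ) g * blockCoeff B (g : G) := by
    refine Finset.sum_congr rfl fun k _ => ?_
    ring
  rw [e2, ← hidx]
  field_simp

/-- `λ_B` is a local integer. -/
theorem lam_lr [Fintype (IrrCharacter G)] (hM : M.IsPrime) (H : Subgroup G) [Fintype H]
    (B : Set (IrrCharacter G)) (hB : IsPBlock M B) (ξ : IrrCharacter H) :
    MemLocalRing M (act (fun k : H => blockCoeff B (k : G)) ξ) := by
  refine act_lr hM ?_ (fun t => osima hM B hB _) ξ
  intro g x
  simp only [Subgroup.coe_mul, InvMemClass.coe_inv]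
  exact isClassFunction_blockCoeff B _ _

/-- `λ_B ≡ [χ₀ ∈ B]` modulo the local ideal, for `χ₀ ∈ B₀ = b^G`. -/
theorem lam_cong [Fintype (IrrCharacter G)] (hM : M.IsPrime) (H : Subgroup G) [Fintype H]
    {b : Set (IrrCharacter H)} {B₀ : Set (IrrCharacter G)} (hind : IsInducedBlock M H b B₀)
    (B : Set (IrrCharacter G)) [DecidablePred (· ∈ B)] (hB : IsPBlock M B)
    (ξ : IrrCharacter H) (hξ : ξ ∈ b) (χ₀ : IrrCharacter G) (hχ₀ : χ₀ ∈ B₀) :
    MemLocalIdeal M (act (fun k : H => blockCoeff B (k : G)) ξ - if χ₀ ∈ B then 1 else 0) := by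
  haveI : Fintype (ConjClasses G) := Fintype.ofFinite _
  have h := act_restrict_sub_act hM H hind (isClassFunction_blockCoeff B)
    (fun t => osima hM B hB t) ξ hξ χ₀ hχ₀
  rwa [act_blockCoeff] at h

/-- The value at `1` of the `B`-part of a character, as a natural number. -/
theorem blockPart_one_nat [Fintype (IrrCharacter G)] (B : Set (IrrCharacter G))
    [DecidablePred (· ∈ B)] (Φ : G → ℂ) (m : IrrCharacter G → ℕ)
    (hm : ∀ χ : IrrCharacter G, classInner Φ (χ : G → ℂ) = m χ) :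
    blockPart B Φ 1 = ((∑ χ : IrrCharacter G, if χ ∈ B then m χ * irrDeg χ else 0 : ℕ) : ℂ) := by
  have hinst : Fintype.ofFinite G = ‹Fintype G› := Subsingleton.elim _ _
  simp only [blockPart]
  rw [hinst, finsum_mem_eq_sum_ite]
  push_cast
  refine Finset.sum_congr rfl fun χ _ => ?_
  rw [hm, irrDeg_spec]

/-- The degree of an induced irreducible character. -/
theorem charDegree_indFun (H : Subgroup G) [Fintype H] (ξ : IrrCharacter H) :
    charDegree (indFun H (ξ : H → ℂ)) = H.index * irrDeg ξ := by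
  rw [charDegree, Cfsg.Agent.Helper5.indFun_apply_one, irrDeg_spec, ← Nat.cast_mul,
    Complex.natCast_re, Nat.floor_natCast]

/-- **Main statement**: the valuation of the value at `1` of the block parts of `ξ^G`. -/
theorem main [Fintype (IrrCharacter G)] {p : ℕ} [hp : Fact p.Prime] (hM : IsPModular p M)
    (H : Subgroup G) [Fintype H]
    {b : Set (IrrCharacter H)} {B₀ : Set (IrrCharacter G)} (hind : IsInducedBlock M H b B₀)
    (ξ : IrrCharacter H) (hξ : ξ ∈ b) (B : Set (IrrCharacter G)) [DecidablePred (· ∈ B)]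
    (hB : IsPBlock M B) (m : IrrCharacter G → ℕ)
    (hm : ∀ χ : IrrCharacter G, classInner (indFun H (ξ : H → ℂ)) (χ : G → ℂ) = m χ) :
    blockPart B (indFun H (ξ : H → ℂ)) 1 =
      ((∑ χ : IrrCharacter G, if χ ∈ B then m χ * irrDeg χ else 0 : ℕ) : ℂ) ∧
    (B = B₀ → (∑ χ : IrrCharacter G, if χ ∈ B then m χ * irrDeg χ else 0) ≠ 0 ∧
      (∑ χ : IrrCharacter G, if χ ∈ B then m χ * irrDeg χ else 0).factorization p =
        (H.index * irrDeg ξ).factorization p) ∧
    (B ≠ B₀ → (∑ χ : IrrCharacter G, if χ ∈ B then m χ * irrDeg χ else 0) = 0 ∨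
      (H.index * irrDeg ξ).factorization p <
        (∑ χ : IrrCharacter G, if χ ∈ B then m χ * irrDeg χ else 0).factorization p) := by
  have hMp := isPrime_of_isPModular hM
  have hnat := blockPart_one_nat B (indFun H (ξ : H → ℂ)) m hm
  set n := ∑ χ : IrrCharacter G, if χ ∈ B then m χ * irrDeg χ else 0 with hn
  have hD : H.index * irrDeg ξ ≠ 0 :=
    mul_ne_zero (Subgroup.index_ne_zero_of_finite) (irrDeg_pos ξ).ne'
  have hform := blockPart_indFun_one H B ξ
  rw [hnat, Cfsg.Agent.Helper5.indFun_apply_one, irrDeg_spec, ← Nat.cast_mul] at hform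
  have hlr := lam_lr hMp H B hB ξ
  obtain ⟨h1, h2⟩ := nat_val_of_eq_mul hM _ _ hD _ hlr hform
  obtain ⟨χ₀, hχ₀⟩ : ∃ χ₀, χ₀ ∈ B₀ := IsPBlock.nonempty hMp hind.2.1
  have hcong := lam_cong hMp H hind B hB ξ hξ χ₀ hχ₀
  refine ⟨hnat, ?_, ?_⟩
  · intro hBB
    rw [if_pos (hBB ▸ hχ₀)] at hcong
    apply h1
    intro hli
    have := li_sub hMp hli hcong
    rw [sub_sub_cancel] at this
    exact not_memLocalIdeal_one hMp this
  · intro hBB
    have hχ₀B : χ₀ ∉ B := by
      intro hmem
      apply hBB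
      rw [IsPBlock_eq_blockOf hMp hB hmem, IsPBlock_eq_blockOf hMp hind.2.1 hχ₀]
    rw [if_neg hχ₀B, sub_zero] at hcong
    exact h2 hcong

end Cfsg.Agent.Helper8.IndPart
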