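import Mathlib
import Cfsg.Prelude.Def_Blocks
import Cfsg.Agent.Helper8.InducedPart
import Cfsg.Agent.Helper5.DefectOrder

/-!
# Height-zero constituents of an induced height-zero character (equal defects)
-/

namespace Cfsg.Agent.Helper8.IndHt

open Cfsg Cfsg.Agent.Helper24 Cfsg.Agent.Helper5.CC Cfsg.Agent.Helper5.Loc

variable {G : Type*} [Group G] [Finite G]

/-- The minimal `p`-adic valuation of a degree in `B`. -/
noncomputable def minVal (p : ℕ) (B : Set (IrrCharacter G)) : ℕ :=
  sInf ((fun χ : IrrCharacter G => (charDegree (χ : G → ℂ)).factorization p) '' B)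

theorem minVal_le (p : ℕ) {B : Set (IrrCharacter G)} {χ : IrrCharacter G} (hχ : χ ∈ B) :
    minVal p B ≤ (irrDeg χ).factorization p := by
  have : (irrDeg χ).factorization p ∈
      ((fun ψ : IrrCharacter G => (charDegree (ψ : G → ℂ)).factorization p) '' B) :=
    ⟨χ, hχ, by simp only; rw [charDegree_eq_irrDeg]⟩
  exact Nat.sInf_le this

theorem exists_minVal (p : ℕ) {B : Set (IrrCharacter G)} (hne : ∃ χ, χ ∈ B) :
    ∃ χ ∈ B, (irrDeg χ).factorization p = minVal p B := by
  obtain ⟨χ₀, hχ₀⟩ := hne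
  have hne' : ((fun ψ : IrrCharacter G => (charDegree (ψ : G → ℂ)).factorization p) '' B).Nonempty :=
    ⟨_, χ₀, hχ₀, rfl⟩
  obtain ⟨χ, hχ, h⟩ := Nat.sInf_mem hne'
  refine ⟨χ, hχ, ?_⟩
  simp only at h
  rw [charDegree_eq_irrDeg] at h
  exact h

theorem blockHeight_eq (p : ℕ) (B : Set (IrrCharacter G)) (χ : IrrCharacter G) :
    blockHeight p B (χ : G → ℂ) = (irrDeg χ).factorization p - minVal p B := by
  rw [blockHeight, charDegree_eq_irrDeg, minVal]

theorem blockDefect_eq (p : ℕ) (B : Set (IrrCharacter G)) :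
    blockDefect p B = (Nat.card G).factorization p - minVal p B := by
  rw [blockDefect, minVal]

theorem factorization_irrDeg_le_card (p : ℕ) [hp : Fact p.Prime] (χ : IrrCharacter G) :
    (irrDeg χ).factorization p ≤ (Nat.card G).factorization p :=
  (Nat.factorization_le_iff_dvd (irrDeg_pos χ).ne' Nat.card_pos.ne').mpr (irrDeg_dvd_card χ) p

variable {M : Ideal AlgInt}

/-- **S4725 in explicit form.** -/
theorem exists_heightZero_not_dvd [Fintype G] {p : ℕ} [hp : Fact p.Prime] (hM : IsPModular p M)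
    (H : Subgroup G) [Fintype H]
    {b : Set (IrrCharacter H)} {B : Set (IrrCharacter G)} (hind : IsInducedBlock M H b B)
    (hdef : blockDefect p b = blockDefect p B) (ζ : IrrCharacter H) (hζ : ζ ∈ b)
    (hζ0 : blockHeight p b (ζ : H → ℂ) = 0) (m : IrrCharacter G → ℕ)
    (hm : ∀ χ : IrrCharacter G, classInner (indFun H (ζ : H → ℂ)) (χ : G → ℂ) = m χ) :
    ∃ χ ∈ B, blockHeight p B (χ : G → ℂ) = 0 ∧ ¬ p ∣ m χ := by
  classical
  haveI : Fintype (IrrCharacter G) := Fintype.ofFinite _
  have hMp := isPrime_of_isPModular hM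
  obtain ⟨-, h2, -⟩ := Cfsg.Agent.Helper8.IndPart.main hM H hind ζ hζ B hind.2.1 m hm
  obtain ⟨hn0, hnv⟩ := h2 rfl
  set n := ∑ χ : IrrCharacter G, if χ ∈ B then m χ * irrDeg χ else 0 with hn
  -- the valuations
  set μ := minVal p B with hμ
  set μb := minVal p b with hμb
  have hζμ : (irrDeg ζ).factorization p = μb := by
    rw [blockHeight_eq, Nat.sub_eq_zero_iff_le] at hζ0
    exact le_antisymm hζ0 (minVal_le p hζ)
  have hidx : (Nat.card G).factorization p =
      (Nat.card H).factorization p + H.index.factorization p := by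
    rw [← Subgroup.card_mul_index H, Nat.factorization_mul Nat.card_pos.ne'
      Subgroup.index_ne_zero_of_finite]
    rfl
  have hμbH : μb ≤ (Nat.card H).factorization p := by
    rw [← hζμ]; exact factorization_irrDeg_le_card p ζ
  obtain ⟨χ₁, hχ₁, hχ₁μ⟩ := exists_minVal p (IsPBlock.nonempty hMp hind.2.1)
  have hμG : μ ≤ (Nat.card G).factorization p := by
    rw [hμ, ← hχ₁μ]; exact factorization_irrDeg_le_card p χ₁
  rw [blockDefect_eq, blockDefect_eq] at hdef
  have hD : (H.index * irrDeg ζ).factorization p = μ := by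
    rw [Nat.factorization_mul Subgroup.index_ne_zero_of_finite (irrDeg_pos ζ).ne']
    simp only [Finsupp.coe_add, Pi.add_apply]
    rw [hζμ]
    omega
  rw [hD] at hnv
  by_contra hcon
  push Not at hcon
  -- every term is divisible by `p ^ (μ + 1)`
  have hdiv : p ^ (μ + 1) ∣ n := by
    rw [hn]
    apply Finset.dvd_sum
    intro χ _
    by_cases hχ : χ ∈ B
    · rw [if_pos hχ]
      by_cases hh : blockHeight p B (χ : G → ℂ) = 0
      · have h1 : p ∣ m χ := hcon χ hχ hh
        have h2 : p ^ μ ∣ irrDeg χ := by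
          have := minVal_le p hχ
          exact (pow_dvd_pow p this).trans (Nat.ordProj_dvd (irrDeg χ) p)
        rw [pow_succ, mul_comm (p ^ μ)]
        exact mul_dvd_mul h1 h2
      · rw [blockHeight_eq] at hh
        have h3 : μ + 1 ≤ (irrDeg χ).factorization p := by omega
        exact Dvd.dvd.mul_left ((pow_dvd_pow p h3).trans (Nat.ordProj_dvd (irrDeg χ) p)) _
    · rw [if_neg hχ]; exact dvd_zero _
  have := (hp.out.pow_dvd_iff_le_factorization hn0).mp hdiv
  omega

end Cfsg.Agent.Helper8.IndHt
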