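import Mathlib
import Cfsg.Prelude.Def_Blocks
import Cfsg.Agent.Helper8.HeightZeroInner
import Cfsg.Agent.Helper8.InducedHeight

/-!
# The Brauer–Feit bound

For a `p`-block `B` of defect `d` and `χ₁ ∈ B` of height zero, the integers
`N(χ₁, ψ) = [|G|_p χ̃₁, ψ]` satisfy `∑_ψ N(χ₁,ψ)² = p^a N(χ₁,χ₁)`, are nonzero on `B` and divisible
by `ψ(1)_p`.  Hence `∑_{ψ ∈ B, ψ ≠ χ₁} p^(2 ht ψ) ≤ p^(2d)/4`.
-/

namespace Cfsg.Agent.Helper8.BF

open Cfsg Cfsg.Agent.Helper24 Cfsg.Agent.Helper5.CC Cfsg.Agent.Helper5.Loc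
open Cfsg.Agent.Helper8.HZI Cfsg.Agent.Helper8.IndHt

variable {G : Type*} [Group G] [Fintype G] {M : Ideal AlgInt}

/-- Parseval for the truncated character: `∑_ψ N(χ,ψ)² = p^a N(χ,χ)`. -/
theorem sum_N_sq [Fintype (IrrCharacter G)] (p : ℕ) [hp : Fact p.Prime] (χ : IrrCharacter G) :
    ∑ ψ : IrrCharacter G, (N p χ ψ) ^ 2 = (p : ℤ) ^ (Nat.card G).factorization p * N p χ χ := by
  classical
  set a := (Nat.card G).factorization p with ha
  set f := trunc p (χ : G → ℂ) with hf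
  have hcf : IsClassFunction G f :=
    Cfsg.Agent.Helper8.PRegular.isClassFunction_pRegular p _ (isClassFunction_irr χ)
  have hexp := IsClassFunction.eq_sum_classInner hcf
  -- `[f, f] = ∑ N²`
  have h1 : classInner f f = ∑ ψ : IrrCharacter G, ((N p χ ψ : ℤ) : ℂ) ^ 2 := by
    conv_lhs => arg 1; rw [hexp]
    rw [classInner_sum_left]
    refine Finset.sum_congr rfl fun ψ _ => ?_
    rw [classInner_smul_left, ← Cfsg.Agent.Helper24.classInner_conj_symm f (ψ : G → ℂ), N_spec,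
      map_intCast]
    ring
  -- `[f, f] = p^a [f, χ]`
  have h2 : classInner f f = ((p ^ a : ℕ) : ℂ) * classInner f (χ : G → ℂ) := by
    have hs : ∑ g : G, f g * (starRingEnd ℂ) (f g) =
        ((p ^ a : ℕ) : ℂ) * ∑ g : G, f g * (starRingEnd ℂ) ((χ : G → ℂ) g) := by
      rw [Finset.mul_sum]
      refine Finset.sum_congr rfl fun g _ => ?_
      simp only [hf, trunc]
      by_cases hg : p ∣ orderOf g
      · simp [hg]
      · simp only [if_neg hg, map_mul, Complex.conj_natCast]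
        ring
    rw [classInner, classInner, hs]
    ring
  rw [h1, N_spec] at h2
  have h3 : ((∑ ψ : IrrCharacter G, (N p χ ψ) ^ 2 : ℤ) : ℂ) =
      (((p : ℤ) ^ a * N p χ χ : ℤ) : ℂ) := by
    push_cast
    rw [h2]
    push_cast
    ring
  exact_mod_cast h3

/-- **The Brauer–Feit inequality**, weighted form with one height-zero character removed. -/
theorem main [Fintype (IrrCharacter G)] {p : ℕ} [hp : Fact p.Prime] (hM : IsPModular p M)
    {B : Set (IrrCharacter G)} [DecidablePred (· ∈ B)] (hB : IsPBlock M B) :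
    ∃ χ₁ ∈ B, blockHeight p B (χ₁ : G → ℂ) = 0 ∧
      4 * (∑ ψ : IrrCharacter G, if ψ ∈ B ∧ ψ ≠ χ₁ then p ^ (2 * blockHeight p B (ψ : G → ℂ)) else 0)
        ≤ p ^ (2 * blockDefect p B) := by
  classical
  have hMp := isPrime_of_isPModular hM
  obtain ⟨χ₁, hχ₁, hχ₁μ⟩ := exists_minVal p (IsPBlock.nonempty hMp hB)
  set μ := minVal p B with hμ
  set a := (Nat.card G).factorization p with ha
  have hμa : μ ≤ a := by
    rw [← hχ₁μ]; exact factorization_irrDeg_le_card p χ₁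
  have hd : blockDefect p B = a - μ := blockDefect_eq p B
  have hh0 : blockHeight p B (χ₁ : G → ℂ) = 0 := by
    rw [blockHeight_eq, hχ₁μ, Nat.sub_self]
  refine ⟨χ₁, hχ₁, hh0, ?_⟩
  have hmin : ∀ ψ ∈ B, (irrDeg χ₁).factorization p ≤ (irrDeg ψ).factorization p := by
    intro ψ hψ; rw [hχ₁μ]; exact minVal_le p hψ
  have hgood := good_of_minimal hM hB hχ₁ hmin
  have hp1 : (1 : ℤ) ≤ (p : ℤ) := by exact_mod_cast hp.out.one_le
  have hp0 : (0 : ℤ) < (p : ℤ) := by exact_mod_cast hp.out.pos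
  -- lower bound for each square
  have hlow : ∀ ψ : IrrCharacter G, ψ ∈ B →
      (p : ℤ) ^ (2 * μ) * (p : ℤ) ^ (2 * blockHeight p B (ψ : G → ℂ)) ≤ (N p χ₁ ψ) ^ 2 := by
    intro ψ hψ
    obtain ⟨hne, -⟩ := hgood ψ hψ
    obtain ⟨q, hq⟩ := pow_dvd_N_right p χ₁ ψ
    have hq0 : q ≠ 0 := by
      rintro rfl; rw [mul_zero] at hq; exact hne hq
    have hq1 : 1 ≤ q ^ 2 := by
      have := sq_nonneg q
      have h0 : q ^ 2 ≠ 0 := pow_ne_zero _ hq0
      omega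
    have hle : μ ≤ (irrDeg ψ).factorization p := minVal_le p hψ
    have hexp : 2 * μ + 2 * blockHeight p B (ψ : G → ℂ) = 2 * (irrDeg ψ).factorization p := by
      rw [blockHeight_eq]; omega
    rw [← pow_add, hexp, hq, mul_pow, ← pow_mul, mul_comm ((irrDeg ψ).factorization p) 2]
    have hpos : (0 : ℤ) ≤ (p : ℤ) ^ (2 * (irrDeg ψ).factorization p) := by positivity
    nlinarith
  -- Parseval
  have hpars := sum_N_sq p χ₁
  rw [← ha] at hpars
  have hsplit : ∑ ψ : IrrCharacter G, (N p χ₁ ψ) ^ 2 =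
      (N p χ₁ χ₁) ^ 2 + ∑ ψ : IrrCharacter G, if ψ ≠ χ₁ then (N p χ₁ ψ) ^ 2 else 0 := by
    rw [← Finset.add_sum_erase Finset.univ _ (Finset.mem_univ χ₁)]
    congr 1
    rw [← Finset.sum_filter]
    refine Finset.sum_congr ?_ fun _ _ => rfl
    ext ψ; simp [Finset.mem_erase]
  have hrest : ∑ ψ : IrrCharacter G, (if ψ ≠ χ₁ then (N p χ₁ ψ) ^ 2 else 0) =
      (p : ℤ) ^ a * N p χ₁ χ₁ - (N p χ₁ χ₁) ^ 2 := by
    rw [← hpars, hsplit]; ring
  -- compare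
  have hcmp : ∑ ψ : IrrCharacter G, (if ψ ∈ B ∧ ψ ≠ χ₁ then
        (p : ℤ) ^ (2 * μ) * (p : ℤ) ^ (2 * blockHeight p B (ψ : G → ℂ)) else 0) ≤
      ∑ ψ : IrrCharacter G, (if ψ ≠ χ₁ then (N p χ₁ ψ) ^ 2 else 0) := by
    refine Finset.sum_le_sum fun ψ _ => ?_
    by_cases h1 : ψ ≠ χ₁
    · by_cases h2 : ψ ∈ B
      · rw [if_pos ⟨h2, h1⟩, if_pos h1]; exact hlow ψ h2
      · rw [if_neg (fun h => h2 h.1), if_pos h1]; positivity
    · rw [if_neg (fun h => h1 h.2), if_neg h1]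
  have hAM : 4 * ((p : ℤ) ^ a * N p χ₁ χ₁ - (N p χ₁ χ₁) ^ 2) ≤ ((p : ℤ) ^ a) ^ 2 := by
    nlinarith [sq_nonneg ((p : ℤ) ^ a - 2 * N p χ₁ χ₁)]
  -- assemble in ℤ
  have hZ : (p : ℤ) ^ (2 * μ) * (4 * ∑ ψ : IrrCharacter G, (if ψ ∈ B ∧ ψ ≠ χ₁ then
        (p : ℤ) ^ (2 * blockHeight p B (ψ : G → ℂ)) else 0)) ≤
      (p : ℤ) ^ (2 * μ) * (p : ℤ) ^ (2 * (a - μ)) := by
    have e1 : (p : ℤ) ^ (2 * μ) * (4 * ∑ ψ : IrrCharacter G, (if ψ ∈ B ∧ ψ ≠ χ₁ then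
        (p : ℤ) ^ (2 * blockHeight p B (ψ : G → ℂ)) else 0)) =
        4 * ∑ ψ : IrrCharacter G, (if ψ ∈ B ∧ ψ ≠ χ₁ then
        (p : ℤ) ^ (2 * μ) * (p : ℤ) ^ (2 * blockHeight p B (ψ : G → ℂ)) else 0) := by
      rw [mul_left_comm, Finset.mul_sum]
      congr 1
      refine Finset.sum_congr rfl fun ψ _ => ?_
      split_ifs <;> simp
    have e2 : (p : ℤ) ^ (2 * μ) * (p : ℤ) ^ (2 * (a - μ)) = ((p : ℤ) ^ a) ^ 2 := by
      rw [← pow_add, ← pow_mul]; congr 1; omega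
    rw [e1, e2]
    calc 4 * ∑ ψ : IrrCharacter G, (if ψ ∈ B ∧ ψ ≠ χ₁ then
          (p : ℤ) ^ (2 * μ) * (p : ℤ) ^ (2 * blockHeight p B (ψ : G → ℂ)) else 0)
        ≤ 4 * ∑ ψ : IrrCharacter G, (if ψ ≠ χ₁ then (N p χ₁ ψ) ^ 2 else 0) := by
          linarith [hcmp]
      _ = 4 * ((p : ℤ) ^ a * N p χ₁ χ₁ - (N p χ₁ χ₁) ^ 2) := by rw [hrest]
      _ ≤ ((p : ℤ) ^ a) ^ 2 := hAM
  have hZ' := le_of_mul_le_mul_left hZ (by positivity : (0 : ℤ) < (p : ℤ) ^ (2 * μ))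
  rw [hd]
  have hcast : ((4 * (∑ ψ : IrrCharacter G, if ψ ∈ B ∧ ψ ≠ χ₁ then
      p ^ (2 * blockHeight p B (ψ : G → ℂ)) else 0) : ℕ) : ℤ) ≤ ((p ^ (2 * (a - μ)) : ℕ) : ℤ) := by
    push_cast
    exact hZ'
  exact_mod_cast hcast

/-- Splitting off one member of a set in a sum of indicator-weighted terms. -/
theorem sum_ite_split {ι : Type*} [Fintype ι] [DecidableEq ι] (B : Set ι) [DecidablePred (· ∈ B)]
    (x : ι) (hx : x ∈ B) (w : ι → ℕ) :
    (∑ i : ι, if i ∈ B then w i else 0) = w x + ∑ i : ι, if i ∈ B ∧ i ≠ x then w i else 0 := by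
  rw [← Finset.add_sum_erase Finset.univ _ (Finset.mem_univ x), if_pos hx]
  congr 1
  rw [← Finset.sum_filter, ← Finset.sum_filter]
  refine Finset.sum_congr ?_ fun _ _ => rfl
  ext i
  simp only [Finset.mem_filter, Finset.mem_erase, Finset.mem_univ, true_and, and_true]
  tauto

/-- A `finsum` over a set of a finite type as an indicator sum. -/
theorem finsum_mem_eq_sum_ite_nat {ι : Type*} [Fintype ι] (B : Set ι) [DecidablePred (· ∈ B)]
    (f : ι → ℕ) : ∑ᶠ i ∈ B, f i = ∑ i, if i ∈ B then f i else 0 := by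
  rw [finsum_mem_eq_finite_toFinset_sum f (Set.toFinite B), ← Finset.sum_filter]
  congr 1
  ext i
  simp

/-- The number of members of a set as a sum. -/
theorem natCard_eq_sum {ι : Type*} [Fintype ι] (B : Set ι) [DecidablePred (· ∈ B)] :
    Nat.card B = ∑ i : ι, if i ∈ B then 1 else 0 := by
  rw [Nat.card_eq_fintype_card, Fintype.card_subtype, Finset.card_filter]

/-- **Brauer–Feit**: `4 k(B) ≤ p^(2d) + 4`. -/
theorem four_mul_card_le [Fintype (IrrCharacter G)] {p : ℕ} [hp : Fact p.Prime]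
    (hM : IsPModular p M) {B : Set (IrrCharacter G)} (hB : IsPBlock M B) :
    4 * Nat.card B ≤ p ^ (2 * blockDefect p B) + 4 := by
  classical
  obtain ⟨χ₁, hχ₁, -, hle⟩ := main hM hB
  rw [natCard_eq_sum B, sum_ite_split B χ₁ hχ₁ (fun _ => 1)]
  have h1 : ∑ ψ : IrrCharacter G, (if ψ ∈ B ∧ ψ ≠ χ₁ then 1 else 0) ≤
      ∑ ψ : IrrCharacter G, if ψ ∈ B ∧ ψ ≠ χ₁ then p ^ (2 * blockHeight p B (ψ : G → ℂ)) else 0 := by
    refine Finset.sum_le_sum fun ψ _ => ?_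
    split_ifs
    · exact Nat.one_le_pow _ _ hp.out.pos
    · exact le_rfl
  omega

/-- **Brauer–Feit, weighted form**: `∑_{χ ∈ B} p^(2 ht χ) ≤ p^(2d)/4 + 1`. -/
theorem finsum_pow_height_le [Fintype (IrrCharacter G)] {p : ℕ} [hp : Fact p.Prime]
    (hM : IsPModular p M) {B : Set (IrrCharacter G)} (hB : IsPBlock M B) :
    ∑ᶠ χ ∈ B, p ^ (2 * blockHeight p B (χ : G → ℂ)) ≤ p ^ (2 * blockDefect p B) / 4 + 1 := by
  classical
  obtain ⟨χ₁, hχ₁, hh0, hle⟩ := main hM hB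
  rw [finsum_mem_eq_sum_ite_nat B,
    sum_ite_split B χ₁ hχ₁ (fun ψ => p ^ (2 * blockHeight p B (ψ : G → ℂ)))]
  simp only [hh0, mul_zero, pow_zero]
  have h4 : (∑ ψ : IrrCharacter G, if ψ ∈ B ∧ ψ ≠ χ₁ then
      p ^ (2 * blockHeight p B (ψ : G → ℂ)) else 0) ≤ p ^ (2 * blockDefect p B) / 4 := by
    rw [Nat.le_div_iff_mul_le (by norm_num : 0 < 4), mul_comm]
    exact hle
  omega

end Cfsg.Agent.Helper8.BF
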