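import Mathlib

set_option autoImplicit false

/-! S4607 piece TRIDEM. -/

namespace Cfsg.Agent.S4607P

/-- TRIDEM: the rank of an idempotent complex matrix is its trace -/
theorem rank_eq_trace_of_idem {ι : Type*} [Fintype ι] [DecidableEq ι] (E : Matrix ι ι ℂ)
    (hE : E * E = E) : (E.rank : ℂ) = E.trace := by
  have hproj : LinearMap.IsProj (LinearMap.range (Matrix.toLin' E)) (Matrix.toLin' E) := by
    refine ⟨fun x => LinearMap.mem_range_self _ x, ?_⟩
    rintro _ ⟨w, rfl⟩
    rw [← LinearMap.comp_apply, ← Matrix.toLin'_mul, hE]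
  have h := hproj.trace
  rw [Matrix.trace_toLin'_eq] at h
  rw [h]
  rfl

end Cfsg.Agent.S4607P
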