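import Mathlib
import Cfsg.Prelude.Def_ClassicalGeometry
import Cfsg.Agent.Helper1.S5956Defs
import Cfsg.Agent.Helper10.S5961ORTHC
import Cfsg.Agent.Helper23.S5961RESTR
import Cfsg.Agent.Helper23.S5961STRUCT
import Cfsg.Agent.Helper1.S5956DSTEP

set_option autoImplicit false
open scoped MatrixGroups

/-! S5956 piece DECOMP (helper8). -/

universe u

namespace Cfsg.Agent.S5956P

open Polynomial Cfsg.Agent.Helper2.SympInvol Cfsg.Agent.Helper2.SympUnits Cfsg.Agent.S5961P
  Cfsg.Agent.S5955P Cfsg.Agent.Helper2.InvolComb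

namespace DECOMP

variable {F V : Type*} [Field F] [AddCommGroup V] [Module F V]

/-- powers of `y - 1` on an invariant subspace -/
theorem restrict_sub_one_pow_apply (y : Module.End F V) (W : Submodule F V)
    (hW : ∀ v ∈ W, y v ∈ W) (i : ℕ) (w : W) :
    ((((y.restrict hW - 1) ^ i) w : W) : V) = ((y - 1) ^ i) (w : V) := by
  induction i generalizing w with
  | zero => rw [pow_zero, pow_zero, Module.End.one_apply, Module.End.one_apply]
  | succ i ih =>
    rw [pow_succ, pow_succ, Module.End.mul_apply, Module.End.mul_apply, ih]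
    congr 1

theorem restrict_unip (y : Module.End F V) (W : Submodule F V)
    (hW : ∀ v ∈ W, y v ∈ W) (hunip : ∃ e : ℕ, (y - 1) ^ e = 0) :
    ∃ e : ℕ, (y.restrict hW - 1) ^ e = 0 := by
  obtain ⟨e, he⟩ := hunip
  refine ⟨e, ?_⟩
  apply LinearMap.ext
  intro w
  apply Subtype.ext
  rw [restrict_sub_one_pow_apply, he]
  rfl

/-- kernels of powers of `y - 1` inside a subspace of an invariant subspace -/
theorem map_inf_ker (y : Module.End F V) (W : Submodule F V)
    (hW : ∀ v ∈ W, y v ∈ W) (U' : Submodule F W) (i : ℕ) :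
    (U' ⊓ LinearMap.ker ((y.restrict hW - 1) ^ i)).map W.subtype =
      U'.map W.subtype ⊓ LinearMap.ker ((y - 1) ^ i) := by
  ext v
  constructor
  · rintro ⟨w, ⟨hwU, hwk⟩, rfl⟩
    refine ⟨⟨w, hwU, rfl⟩, ?_⟩
    have hwk' : ((y.restrict hW - 1) ^ i) w = 0 := hwk
    show ((y - 1) ^ i) (W.subtype w) = 0
    rw [Submodule.subtype_apply, ← restrict_sub_one_pow_apply y W hW i w, hwk']
    rfl
  · rintro ⟨⟨w, hwU, rfl⟩, hk⟩
    refine ⟨w, ⟨hwU, ?_⟩, rfl⟩
    have hk' : ((y - 1) ^ i) (W.subtype w) = 0 := hk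
    show ((y.restrict hW - 1) ^ i) w = 0
    apply Subtype.ext
    rw [restrict_sub_one_pow_apply]
    exact hk'

theorem finrank_inf_ker [FiniteDimensional F V] (y : Module.End F V) (W : Submodule F V)
    (hW : ∀ v ∈ W, y v ∈ W) (U' : Submodule F W) (i : ℕ) :
    Module.finrank F ↥(U'.map W.subtype ⊓ LinearMap.ker ((y - 1) ^ i)) =
      Module.finrank F ↥(U' ⊓ LinearMap.ker ((y.restrict hW - 1) ^ i)) := by
  rw [← map_inf_ker y W hW U' i]
  exact (LinearEquiv.finrank_eq (Submodule.equivMapOfInjective W.subtype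
    (Submodule.injective_subtype W) _)).symm

end DECOMP

open DECOMP STRUCT in
/-- DECOMP (uses DSTEP, S5961 `orth_compl`, `restr_transport`): orthogonal decomposition of a
unipotent isometry into cyclic (even size) and bicyclic (odd size) nondegenerate blocks -/
theorem exists_unip_decomp {F V : Type*} [Field F] [AddCommGroup V] [Module F V]
    [FiniteDimensional F V] (h2 : (2 : F) ≠ 0) (B : LinearMap.BilinForm F V)
    (halt : ∀ v, B v v = 0) (hnd : Nondeg B ⊤) (y : Module.End F V)
    (hy : ∀ u v, B (y u) (y v) = B u v) (hunip : ∃ e : ℕ, (y - 1) ^ e = 0) :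
    ∃ (k : ℕ) (E : Fin k → Submodule F V) (a : Fin k → ℕ), (∀ j, 0 < a j) ∧
      (∀ j, (E j).map y ≤ E j) ∧ (∀ j, Nondeg B (E j)) ∧
      (∀ j j', j ≠ j' → Orth B (E j) (E j')) ∧ iSupIndep E ∧ (⨆ j, E j) = ⊤ ∧
      ∀ (j : Fin k) (i : ℕ),
        Module.finrank F ↥(E j ⊓ LinearMap.ker ((y - 1) ^ i)) = mult (a j) * min i (a j) := by
  induction' hn : Module.finrank F V using Nat.strong_induction_on with n ih generalizing V
  rcases Nat.eq_zero_or_pos n with hn0 | hnpos
  · -- the zero space
    refine ⟨0, Fin.elim0, Fin.elim0, fun j => j.elim0, fun j => j.elim0, fun j => j.elim0,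
      fun j => j.elim0, fun j => j.elim0, ?_, fun j => j.elim0⟩
    rw [hn0] at hn
    have : Subsingleton V := Module.finrank_zero_iff.mp hn
    exact Subsingleton.elim _ _
  · have hVpos : 0 < Module.finrank F V := by rw [hn]; exact hnpos
    obtain ⟨E0, a0, ha0, hE0inv, hE0nd, hE0fr⟩ := exists_unip_block h2 B halt hnd y hy hunip hVpos
    have hyinj : Function.Injective y := by
      intro u v huv
      by_contra hne
      have hne' : u - v ≠ 0 := sub_ne_zero.mpr hne
      obtain ⟨w, -, hw⟩ := hnd (u - v) trivial hne'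
      apply hw
      rw [← hy, map_sub, huv, sub_self, map_zero, LinearMap.zero_apply]
    obtain ⟨hUW, hoUW, hoWU, hWnd, hWinv, -⟩ := orth_compl B halt E0 hE0nd
    have hWnd' := hWnd hnd
    have hWinv' := hWinv y hy hyinj hE0inv
    have hE0pos : 0 < Module.finrank F E0 := by
      have h1 := hE0fr a0
      rw [min_self] at h1
      have h3 : Module.finrank F ↥(E0 ⊓ LinearMap.ker ((y - 1) ^ a0)) ≤ Module.finrank F E0 :=
        Submodule.finrank_mono inf_le_left
      have h4 : 0 < mult a0 * a0 := Nat.mul_pos (mult_pos a0) ha0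
      omega
    have hfrW : Module.finrank F (B.orthogonal E0) < n := by
      have := Submodule.finrank_add_eq_of_isCompl hUW
      omega
    have hWinv'' : ∀ v ∈ B.orthogonal E0, y v ∈ B.orthogonal E0 :=
      fun v hv => hWinv' ⟨v, hv, rfl⟩
    obtain ⟨-, haltW, hisoW, hndW, -, -, -, hsubW⟩ :=
      restr_transport B y (B.orthogonal E0) hWinv''
    obtain ⟨k', E', a', ha', hE'inv, hE'nd, hE'o, -, hE'sup, hE'fr⟩ :=
      ih (Module.finrank F (B.orthogonal E0)) hfrW (B.restrict (B.orthogonal E0)) (haltW halt)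
        (hndW.mpr hWnd') (y.restrict hWinv'') (hisoW hy) (restrict_unip y _ hWinv'' hunip) rfl
    have hEinv : ∀ j, ((Fin.cons E0 (fun j => (E' j).map (B.orthogonal E0).subtype) :
        Fin (k' + 1) → Submodule F V) j).map y ≤
        (Fin.cons E0 (fun j => (E' j).map (B.orthogonal E0).subtype) :
        Fin (k' + 1) → Submodule F V) j := by
      intro j
      refine Fin.cases ?_ (fun j' => ?_) j
      · rw [Fin.cons_zero]; exact hE0inv
      · rw [Fin.cons_succ]; exact (hsubW (E' j')).2.2.2.1.mp (hE'inv j')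
    have hEnd : ∀ j, Nondeg B ((Fin.cons E0 (fun j => (E' j).map (B.orthogonal E0).subtype) :
        Fin (k' + 1) → Submodule F V) j) := by
      intro j
      refine Fin.cases ?_ (fun j' => ?_) j
      · rw [Fin.cons_zero]; exact hE0nd
      · rw [Fin.cons_succ]; exact (hsubW (E' j')).2.2.1.mp (hE'nd j')
    have hEo : ∀ j j', j ≠ j' →
        Orth B ((Fin.cons E0 (fun j => (E' j).map (B.orthogonal E0).subtype) :
          Fin (k' + 1) → Submodule F V) j)
        ((Fin.cons E0 (fun j => (E' j).map (B.orthogonal E0).subtype) :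
          Fin (k' + 1) → Submodule F V) j') := by
      intro j j'
      refine Fin.cases ?_ (fun k => ?_) j
      · refine Fin.cases ?_ (fun k'' => ?_) j'
        · intro h; exact absurd rfl h
        · intro _
          rw [Fin.cons_zero, Fin.cons_succ]
          intro u hu v hv
          exact hoUW u hu v ((hsubW (E' k'')).1 hv)
      · refine Fin.cases ?_ (fun k'' => ?_) j'
        · intro _
          rw [Fin.cons_zero, Fin.cons_succ]
          intro u hu v hv
          exact hoWU u ((hsubW (E' k)).1 hu) v hv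
        · intro h
          rw [Fin.cons_succ, Fin.cons_succ]
          have hkk' : k ≠ k'' := fun h' => h (by rw [h'])
          exact ((hsubW (E' k)).2.2.2.2 (E' k'')).mp (hE'o k k'' hkk')
    refine ⟨k' + 1, Fin.cons E0 (fun j => (E' j).map (B.orthogonal E0).subtype),
      Fin.cons a0 a', ?_, hEinv, hEnd, hEo, indep_of_orth B _ hEnd hEo, ?_, ?_⟩
    · intro j
      refine Fin.cases ?_ (fun j' => ?_) j
      · rw [Fin.cons_zero]; exact ha0
      · rw [Fin.cons_succ]; exact ha' j'
    · rw [iSup_cons, ← Submodule.map_iSup, hE'sup, Submodule.map_subtype_top]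
      exact hUW.sup_eq_top
    · intro j i
      refine Fin.cases ?_ (fun j' => ?_) j
      · rw [Fin.cons_zero, Fin.cons_zero]; exact hE0fr i
      · rw [Fin.cons_succ, Fin.cons_succ, finrank_inf_ker y _ hWinv'' (E' j') i]
        exact hE'fr j' i

end Cfsg.Agent.S5956P
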