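import Mathlib
import Cfsg.Prelude.Def_ClassicalGeometry
import Cfsg.Agent.Helper1.S5956Defs
import Cfsg.Agent.Helper24.S5956JBLOCK

set_option autoImplicit false
open scoped MatrixGroups

/-! S5956 piece MODELV (helper8): a single Jordan block of even size on a symplectic space
(Cayley transform of the shift). -/

universe u

namespace Cfsg.Agent.S5956P

open Polynomial Cfsg.Agent.Helper2.SympInvol Cfsg.Agent.Helper2.SympUnits Cfsg.Agent.S5961P
  Cfsg.Agent.S5955P Cfsg.Agent.Helper2.InvolComb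

namespace MODELV

section Cayley

variable {F V : Type*} [Field F] [AddCommGroup V] [Module F V]

/-- the geometric sum `1 + N + … + N^(a-1)`, the inverse of `1 - N` -/
def gs (N : Module.End F V) (a : ℕ) : Module.End F V := ∑ k ∈ Finset.range a, N ^ k

theorem one_sub_mul_gs (N : Module.End F V) (a : ℕ) (hN : N ^ a = 0) : (1 - N) * gs N a = 1 := by
  unfold gs
  rw [mul_neg_geom_sum, hN, sub_zero]

theorem gs_mul_one_sub (N : Module.End F V) (a : ℕ) (hN : N ^ a = 0) : gs N a * (1 - N) = 1 := by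
  unfold gs
  rw [geom_sum_mul_neg, hN, sub_zero]

theorem commute_gs (N : Module.End F V) (a : ℕ) : Commute N (gs N a) := by
  unfold gs
  exact Commute.sum_right _ _ _ (fun k _ => Commute.pow_right (Commute.refl N) k)

/-- the Cayley transform -/
def cay (N : Module.End F V) (a : ℕ) : Module.End F V := (1 + N) * gs N a

theorem cay_sub_one (N : Module.End F V) (a : ℕ) (hN : N ^ a = 0) :
    cay N a - 1 = (2 : F) • (N * gs N a) := by
  unfold cay
  have h1 := one_sub_mul_gs N a hN
  calc (1 + N) * gs N a - 1 = (1 + N) * gs N a - (1 - N) * gs N a := by rw [h1]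
    _ = (N + N) * gs N a := by
        rw [← sub_mul]
        congr 1
        abel
    _ = (2 : F) • (N * gs N a) := by rw [two_smul, add_mul]

theorem cay_isometry (B : LinearMap.BilinForm F V) (N : Module.End F V) (a : ℕ)
    (hN : N ^ a = 0) (hskew : ∀ u v, B (N u) v = -B u (N v)) (u v : V) :
    B (cay N a u) (cay N a v) = B u v := by
  have key : ∀ x x' : V, B ((1 + N) x) ((1 + N) x') = B ((1 - N) x) ((1 - N) x') := by
    intro x x'
    simp only [LinearMap.add_apply, LinearMap.sub_apply, Module.End.one_apply, map_add, map_sub,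
      LinearMap.add_apply, LinearMap.sub_apply]
    rw [hskew x x']
    abel
  have hu : (1 - N) (gs N a u) = u := by
    rw [← Module.End.mul_apply, one_sub_mul_gs N a hN, Module.End.one_apply]
  have hv : (1 - N) (gs N a v) = v := by
    rw [← Module.End.mul_apply, one_sub_mul_gs N a hN, Module.End.one_apply]
  unfold cay
  rw [Module.End.mul_apply, Module.End.mul_apply, key, hu, hv]

theorem ker_cay_sub_one_pow (h2 : (2 : F) ≠ 0) (N : Module.End F V) (a : ℕ) (hN : N ^ a = 0)
    (i : ℕ) : LinearMap.ker ((cay N a - 1) ^ i) = LinearMap.ker (N ^ i) := by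
  rw [cay_sub_one N a hN, _root_.smul_pow, LinearMap.ker_smul _ _ (pow_ne_zero i h2),
    (commute_gs N a).mul_pow, ((commute_gs N a).pow_pow i i).eq]
  have hinj : LinearMap.ker (gs N a ^ i) = ⊥ := by
    rw [LinearMap.ker_eq_bot]
    apply Function.LeftInverse.injective (g := ((1 - N) ^ i : Module.End F V))
    intro x
    have hc : Commute (1 - N) (gs N a) :=
      ((Commute.one_right (gs N a)).sub_right (commute_gs N a).symm).symm
    rw [← Module.End.mul_apply, ← hc.mul_pow, one_sub_mul_gs N a hN, one_pow,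
      Module.End.one_apply]
  exact LinearMap.ker_comp_of_ker_eq_bot _ hinj

end Cayley


section Concrete

variable {F : Type u} [Field F]

/-- the form `B(u, v) = ∑_j (-1)^j u_j v_{a-1-j}` -/
def formB (a : ℕ) : LinearMap.BilinForm F (Fin a → F) :=
  LinearMap.mk₂ F (fun u v => ∑ j : Fin a, (-1 : F) ^ (j : ℕ) * (u j * v (Fin.rev j)))
    (fun u u' v => by
      simp only [Pi.add_apply, add_mul, mul_add, Finset.sum_add_distrib])
    (fun c u v => by
      simp only [Pi.smul_apply, smul_eq_mul, Finset.mul_sum]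
      apply Finset.sum_congr rfl
      intro j _
      ring)
    (fun u v v' => by
      simp only [Pi.add_apply, mul_add, Finset.sum_add_distrib])
    (fun c u v => by
      simp only [Pi.smul_apply, smul_eq_mul, Finset.mul_sum]
      apply Finset.sum_congr rfl
      intro j _
      ring)

theorem formB_apply (a : ℕ) (u v : Fin a → F) :
    formB a u v = ∑ j : Fin a, (-1 : F) ^ (j : ℕ) * (u j * v (Fin.rev j)) := rfl

theorem neg_one_pow_rev {n : ℕ} (hn : Odd n) (j : Fin (n + 1)) :
    (-1 : F) ^ ((Fin.rev j : Fin (n + 1)) : ℕ) = -(-1 : F) ^ (j : ℕ) := by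
  have hj : ((Fin.rev j : Fin (n + 1)) : ℕ) + (j : ℕ) = n := by
    rw [Fin.val_rev]
    have := j.2
    omega
  have h1 : (-1 : F) ^ ((Fin.rev j : Fin (n + 1)) : ℕ) * (-1 : F) ^ (j : ℕ) = -1 := by
    rw [← pow_add, hj, hn.neg_one_pow]
  have h2 : (-1 : F) ^ (j : ℕ) * (-1 : F) ^ (j : ℕ) = 1 := by
    rw [← pow_add, ← two_mul, pow_mul, neg_one_sq, one_pow]
  calc (-1 : F) ^ ((Fin.rev j : Fin (n + 1)) : ℕ)
      = (-1 : F) ^ ((Fin.rev j : Fin (n + 1)) : ℕ) * ((-1 : F) ^ (j : ℕ) * (-1 : F) ^ (j : ℕ)) := by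
        rw [h2, mul_one]
    _ = -(-1 : F) ^ (j : ℕ) := by rw [← mul_assoc, h1, neg_one_mul]

/-- the form is skew-symmetric when `a` is even -/
theorem formB_skew {n : ℕ} (hn : Odd n) (u v : Fin (n + 1) → F) :
    formB (n + 1) v u = -formB (n + 1) u v := by
  rw [formB_apply, formB_apply, ← Finset.sum_neg_distrib,
    ← Equiv.sum_comp Fin.revPerm (fun j => (-1 : F) ^ (j : ℕ) * (v j * u (Fin.rev j)))]
  apply Finset.sum_congr rfl
  intro j _
  rw [Fin.revPerm_apply, Fin.rev_rev, neg_one_pow_rev hn]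
  ring

theorem formB_alt (h2 : (2 : F) ≠ 0) {n : ℕ} (hn : Odd n) (v : Fin (n + 1) → F) :
    formB (n + 1) v v = 0 := by
  have h := formB_skew hn v v
  have h3 : (2 : F) * formB (n + 1) v v = 0 := by linear_combination h
  exact (mul_eq_zero.mp h3).resolve_left h2

theorem formB_nondeg (a : ℕ) : Nondeg (formB (F := F) a) ⊤ := by
  classical
  intro u _ hu
  obtain ⟨k, hk⟩ := Function.ne_iff.mp hu
  refine ⟨Pi.single (Fin.rev k) 1, trivial, ?_⟩
  rw [formB_apply]
  have : ∀ j : Fin a, (-1 : F) ^ (j : ℕ) * (u j * (Pi.single (Fin.rev k) (1 : F) : Fin a → F) (Fin.rev j)) =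
      if j = k then (-1 : F) ^ (k : ℕ) * u k else 0 := by
    intro j
    rw [Pi.single_apply]
    by_cases hjk : j = k
    · rw [if_pos (by rw [hjk]), if_pos hjk, hjk, mul_one]
    · rw [if_neg (fun h => hjk (Fin.rev_injective h)), if_neg hjk, mul_zero, mul_zero]
  rw [Finset.sum_congr rfl (fun j _ => this j), Finset.sum_ite_eq' Finset.univ k,
    if_pos (Finset.mem_univ k)]
  exact mul_ne_zero (pow_ne_zero _ (neg_ne_zero.mpr one_ne_zero)) hk

theorem shift_castSucc {n : ℕ} (u : Fin (n + 1) → F) (k : Fin n) :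
    JBLOCK.shift (n + 1) 1 u k.castSucc = u k.succ := by
  rw [JBLOCK.shift_apply]
  have h : (k.castSucc : Fin (n + 1)).val + 1 < n + 1 := by
    rw [Fin.val_castSucc]
    have := k.2
    omega
  rw [dif_pos h]
  congr 1

theorem shift_last {n : ℕ} (u : Fin (n + 1) → F) :
    JBLOCK.shift (n + 1) 1 u (Fin.last n) = 0 := by
  rw [JBLOCK.shift_apply]
  have h : ¬ (Fin.last n : Fin (n + 1)).val + 1 < n + 1 := by
    rw [Fin.val_last]
    omega
  rw [dif_neg h]

/-- the shift is skew-adjoint -/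
theorem formB_shift {n : ℕ} (u v : Fin (n + 1) → F) :
    formB (n + 1) (JBLOCK.shift (n + 1) 1 u) v = -formB (n + 1) u (JBLOCK.shift (n + 1) 1 v) := by
  rw [formB_apply, formB_apply, Fin.sum_univ_castSucc, Fin.sum_univ_succ, shift_last,
    Fin.rev_zero, shift_last, zero_mul, mul_zero, mul_zero, mul_zero, add_zero, zero_add,
    ← Finset.sum_neg_distrib]
  apply Finset.sum_congr rfl
  intro k _
  rw [shift_castSucc, Fin.rev_succ, shift_castSucc, Fin.rev_castSucc, Fin.val_castSucc,
    Fin.val_succ, pow_succ]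
  ring

end Concrete

end MODELV

/-- MODELV: a single Jordan block of even size `a ≤ p` on a nondegenerate alternating space -/
theorem exists_model_cyclic {F : Type u} [Field F] {p : ℕ} [Fact p.Prime] [CharP F p]
    (hp2 : p ≠ 2) (a : ℕ) (hae : Even a) (ha0 : 0 < a) (hap : a ≤ p) :
    ∃ (V : Type u) (_ : AddCommGroup V) (_ : Module F V) (_ : FiniteDimensional F V)
      (B : LinearMap.BilinForm F V) (y : Module.End F V), IsYSp B y p ∧
      ∀ i : ℕ, Module.finrank F (LinearMap.ker ((y - 1) ^ i)) = min i a := by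
  obtain ⟨n, rfl⟩ : ∃ n, a = n + 1 := ⟨a - 1, by omega⟩
  have hn : Odd n := by
    rcases hae with ⟨k, hk⟩
    exact ⟨k - 1, by omega⟩
  have hpp : p.Prime := Fact.out
  have h2 : (2 : F) ≠ 0 := by
    intro h
    have h3 : ((2 : ℕ) : F) = 0 := by exact_mod_cast h
    rw [CharP.cast_eq_zero_iff F p] at h3
    exact hp2 ((Nat.prime_dvd_prime_iff_eq hpp Nat.prime_two).mp h3)
  have hN : (JBLOCK.shift (F := F) (n + 1) 1) ^ (n + 1) = 0 := by
    rw [JBLOCK.shift_pow, JBLOCK.shift_eq_zero _ _ le_rfl]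
  refine ⟨Fin (n + 1) → F, inferInstance, inferInstance, inferInstance, MODELV.formB (n + 1),
    MODELV.cay (JBLOCK.shift (n + 1) 1) (n + 1), ⟨MODELV.formB_alt h2 hn, MODELV.formB_nondeg _,
      MODELV.cay_isometry _ _ _ hN MODELV.formB_shift, ?_⟩, ?_⟩
  · have : Nontrivial (Fin (n + 1) → F) := inferInstance
    have : CharP (Module.End F (Fin (n + 1) → F)) p :=
      charP_of_injective_algebraMap (algebraMap F (Module.End F (Fin (n + 1) → F))).injective p
    have h0 : (MODELV.cay (JBLOCK.shift (F := F) (n + 1) 1) (n + 1) - 1) ^ p = 0 := by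
      rw [ MODELV.cay_sub_one _ _ hN, _root_.smul_pow, (MODELV.commute_gs _ _).mul_pow,
        JBLOCK.shift_pow, JBLOCK.shift_eq_zero _ _ hap, zero_mul, smul_zero]
    have h1 : MODELV.cay (JBLOCK.shift (F := F) (n + 1) 1) (n + 1) =
        (MODELV.cay (JBLOCK.shift (F := F) (n + 1) 1) (n + 1) - 1) + 1 := by abel
    rw [h1, add_pow_char_of_commute p (Commute.one_right _), h0, one_pow, zero_add]
  · intro i
    rw [ MODELV.ker_cay_sub_one_pow h2 _ _ hN, JBLOCK.shift_pow, JBLOCK.finrank_ker_shift]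

end Cfsg.Agent.S5956P
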