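import Mathlib
import Cfsg.Agent.Helper5.VL.Defs

set_option autoImplicit false
set_option linter.style.haveILetI false
set_option linter.unusedSectionVars false
set_option linter.unusedVariables false

/-!
# S3777 (Vaughan-Lee) piece SUPIDX: `|G : A W| ≤ |G : A U| · |U : W|` for `A` normal, `W ≤ U`
-/

namespace Cfsg.Agent.Helper5.VL

open Subgroup
open scoped commutatorElement

universe u
variable {p : ℕ} [Fact p.Prime] {G : Type u} [Group G] [Finite G]

/-- SUPIDX -/
theorem sup_index_le (A W U : Subgroup G) [A.Normal] (hWU : W ≤ U) :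
    (A ⊔ W).index ≤ (A ⊔ U).index * W.relIndex U := by
  have hle : A ⊔ W ≤ A ⊔ U := sup_le_sup_left hWU A
  -- notation
  set r1 := (A ⊔ W).relIndex (A ⊔ U) with hr1
  set a1 := A.relIndex W with ha1
  set a2 := A.relIndex U with ha2
  have e1 : a1 * r1 = a2 := by
    have := Subgroup.relIndex_mul_relIndex A (A ⊔ W) (A ⊔ U) le_sup_left hle
    rwa [Subgroup.relIndex_sup_left, Subgroup.relIndex_sup_left] at this
  have e3 : a1 * W.relIndex U = (A ⊓ W).relIndex U := by
    have := Subgroup.relIndex_mul_relIndex (A ⊓ W) W U inf_le_right hWU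
    rwa [Subgroup.inf_relIndex_right] at this
  have e4 : (A ⊓ W).relIndex (A ⊓ U) * a2 = (A ⊓ W).relIndex U := by
    have := Subgroup.relIndex_mul_relIndex (A ⊓ W) (A ⊓ U) U (inf_le_inf_left A hWU) inf_le_right
    rwa [Subgroup.inf_relIndex_right] at this
  have hc : 1 ≤ (A ⊓ W).relIndex (A ⊓ U) := by
    rw [Nat.one_le_iff_ne_zero]
    exact (Subgroup.index_ne_zero_of_finite (H := (A ⊓ W).subgroupOf (A ⊓ U)))
  have ha1pos : 0 < a1 :=
    Nat.pos_of_ne_zero (Subgroup.index_ne_zero_of_finite (H := A.subgroupOf W))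
  have hkey : r1 ≤ W.relIndex U := by
    have h1 : a1 * r1 ≤ a1 * W.relIndex U := by
      rw [e1, e3, ← e4]
      exact Nat.le_mul_of_pos_left _ hc
    exact Nat.le_of_mul_le_mul_left h1 ha1pos
  have e0 : r1 * (A ⊔ U).index = (A ⊔ W).index := Subgroup.relIndex_mul_index hle
  rw [← e0, mul_comm]
  exact Nat.mul_le_mul_left _ hkey

end Cfsg.Agent.Helper5.VL
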