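import Mathlib
import Cfsg.Prelude.Def_Blocks
import Cfsg.Agent.Helper8.BrauerFeit

/-!
# Brauer–Feit: characters of positive height have height at most `d - 2`

If `χ ∈ B` has positive height then `ν_p(χ(1)) + 2 ≤ ν_p(|G|)`.
-/

namespace Cfsg.Agent.Helper8.HB

open Cfsg Cfsg.Agent.Helper24 Cfsg.Agent.Helper5.CC Cfsg.Agent.Helper5.Loc
open Cfsg.Agent.Helper8.HZI Cfsg.Agent.Helper8.IndHt Cfsg.Agent.Helper8.BF

variable {G : Type*} [Group G] [Fintype G] {M : Ideal AlgInt}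

/-- A character of positive height in a block has `ν_p(χ(1)) + 2 ≤ ν_p(|G|)`. -/
theorem factorization_add_two_le [Fintype (IrrCharacter G)] {p : ℕ} [hp : Fact p.Prime]
    (hM : IsPModular p M) {B : Set (IrrCharacter G)} (hB : IsPBlock M B) {χ : IrrCharacter G}
    (hχ : χ ∈ B) (hpos : minVal p B < (irrDeg χ).factorization p) :
    (irrDeg χ).factorization p + 2 ≤ (Nat.card G).factorization p := by
  classical
  have hMp := isPrime_of_isPModular hM
  set a := (Nat.card G).factorization p with ha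
  set ν := (irrDeg χ).factorization p with hν
  by_contra hcon
  push Not at hcon
  have hνa : a ≤ ν + 1 := by omega
  -- a height-zero character
  obtain ⟨χ₁, hχ₁, hχ₁μ⟩ := exists_minVal p (IsPBlock.nonempty hMp hB)
  have hne : χ₁ ≠ χ := by
    rintro rfl
    omega
  have hmin : ∀ ψ ∈ B, (irrDeg χ₁).factorization p ≤ (irrDeg ψ).factorization p := by
    intro ψ hψ; rw [hχ₁μ]; exact minVal_le p hψ
  have hgood := good_of_minimal hM hB hχ₁ hmin χ hχ
  have hN1 : N p χ χ₁ ≠ 0 := by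
    rw [N_symm]; exact hgood.1
  -- `χ` is not good with itself
  have hnotgood : ¬ Good p χ χ := by
    intro hg
    have := minimal_of_good hM hB hχ hg χ₁ hχ₁
    omega
  -- Parseval
  have hpars := sum_N_sq p χ
  rw [← ha] at hpars
  set N₀ := N p χ χ with hN₀
  have hsum : N₀ ^ 2 + (N p χ χ₁) ^ 2 ≤ ∑ ψ : IrrCharacter G, (N p χ ψ) ^ 2 := by
    have h1 : ∑ ψ ∈ ({χ, χ₁} : Finset (IrrCharacter G)), (N p χ ψ) ^ 2 ≤
        ∑ ψ : IrrCharacter G, (N p χ ψ) ^ 2 :=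
      Finset.sum_le_sum_of_subset_of_nonneg (Finset.subset_univ _) (fun _ _ _ => sq_nonneg _)
    rw [Finset.sum_pair hne.symm] at h1
    exact h1
  rw [hpars] at hsum
  have hsq : 0 < (N p χ χ₁) ^ 2 := by positivity
  have hpa : (0 : ℤ) < (p : ℤ) ^ a := by
    have : (0 : ℤ) < (p : ℤ) := by exact_mod_cast hp.out.pos
    positivity
  have hN₀pos : 0 < N₀ := by
    by_contra h
    push Not at h
    have : (p : ℤ) ^ a * N₀ ≤ 0 := mul_nonpos_of_nonneg_of_nonpos hpa.le h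
    nlinarith [sq_nonneg N₀]
  have hN₀lt : N₀ < (p : ℤ) ^ a := by
    by_contra h
    push Not at h
    nlinarith
  -- but `p ^ a ∣ N₀`
  have hdvd : (p : ℤ) ^ (ν + 1) ∣ N₀ := by
    have h1 : (p : ℤ) ^ ν ∣ N₀ := pow_dvd_N_left p χ χ
    have h2 : padicValInt p N₀ ≠ ν := by
      intro h
      exact hnotgood ⟨hN₀pos.ne', h⟩
    have h3 : ν ≤ padicValInt p N₀ :=
      (padicValInt_dvd_iff ν N₀).mp h1 |>.resolve_left hN₀pos.ne'
    have h4 : ν + 1 ≤ padicValInt p N₀ := by omega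
    exact (padicValInt_dvd_iff (ν + 1) N₀).mpr (Or.inr h4)
  have hdvd' : (p : ℤ) ^ a ∣ N₀ := (pow_dvd_pow (p : ℤ) hνa).trans hdvd
  have := Int.le_of_dvd hN₀pos hdvd'
  omega

/-- If `χ ∈ B` has positive height, then `4 p^(2ν(χ)) k₀(B) ≤ p^(2a)`. -/
theorem four_mul_heightZero_le [Fintype (IrrCharacter G)] {p : ℕ} [hp : Fact p.Prime]
    (hM : IsPModular p M) {B : Set (IrrCharacter G)} [DecidablePred (· ∈ B)] (hB : IsPBlock M B)
    {χ : IrrCharacter G} (hχ : χ ∈ B) (hpos : minVal p B < (irrDeg χ).factorization p) :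
    4 * (p ^ (2 * (irrDeg χ).factorization p) *
      ∑ ψ : IrrCharacter G, if ψ ∈ B ∧ blockHeight p B (ψ : G → ℂ) = 0 then 1 else 0) ≤
      p ^ (2 * (Nat.card G).factorization p) := by
  classical
  have hMp := isPrime_of_isPModular hM
  set a := (Nat.card G).factorization p with ha
  set ν := (irrDeg χ).factorization p with hν
  have hp0 : (0 : ℤ) < (p : ℤ) := by exact_mod_cast hp.out.pos
  -- lower bound for each square
  have hlow : ∀ ψ : IrrCharacter G, ψ ∈ B → blockHeight p B (ψ : G → ℂ) = 0 →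
      (p : ℤ) ^ (2 * ν) ≤ (N p χ ψ) ^ 2 ∧ ψ ≠ χ := by
    intro ψ hψ hh
    rw [blockHeight_eq, Nat.sub_eq_zero_iff_le] at hh
    have hmin : ∀ ξ ∈ B, (irrDeg ψ).factorization p ≤ (irrDeg ξ).factorization p := by
      intro ξ hξ; exact le_trans hh (minVal_le p hξ)
    have hgood := good_of_minimal hM hB hψ hmin χ hχ
    have hne : N p χ ψ ≠ 0 := by rw [N_symm]; exact hgood.1
    obtain ⟨q, hq⟩ := pow_dvd_N_left p χ ψ
    have hq0 : q ≠ 0 := by
      rintro rfl; rw [mul_zero] at hq; exact hne hq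
    have hq1 : 1 ≤ q ^ 2 := by
      have := sq_nonneg q
      have h0 : q ^ 2 ≠ 0 := pow_ne_zero _ hq0
      omega
    refine ⟨?_, ?_⟩
    · rw [hq, mul_pow, ← pow_mul, mul_comm ν 2]
      have hpos' : (0 : ℤ) ≤ (p : ℤ) ^ (2 * ν) := by positivity
      nlinarith
    · rintro rfl
      omega
  have hpars := sum_N_sq p χ
  rw [← ha] at hpars
  have hsplit : ∑ ψ : IrrCharacter G, (N p χ ψ) ^ 2 =
      (N p χ χ) ^ 2 + ∑ ψ : IrrCharacter G, if ψ ≠ χ then (N p χ ψ) ^ 2 else 0 := by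
    rw [← Finset.add_sum_erase Finset.univ _ (Finset.mem_univ χ)]
    congr 1
    rw [← Finset.sum_filter]
    refine Finset.sum_congr ?_ fun _ _ => rfl
    ext ψ; simp [Finset.mem_erase]
  have hrest : ∑ ψ : IrrCharacter G, (if ψ ≠ χ then (N p χ ψ) ^ 2 else 0) =
      (p : ℤ) ^ a * N p χ χ - (N p χ χ) ^ 2 := by
    rw [← hpars, hsplit]; ring
  have hcmp : ∑ ψ : IrrCharacter G, (if ψ ∈ B ∧ blockHeight p B (ψ : G → ℂ) = 0 then
        (p : ℤ) ^ (2 * ν) else 0) ≤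
      ∑ ψ : IrrCharacter G, (if ψ ≠ χ then (N p χ ψ) ^ 2 else 0) := by
    refine Finset.sum_le_sum fun ψ _ => ?_
    by_cases h1 : ψ ∈ B ∧ blockHeight p B (ψ : G → ℂ) = 0
    · obtain ⟨h2, h3⟩ := hlow ψ h1.1 h1.2
      rw [if_pos h1, if_pos h3]; exact h2
    · rw [if_neg h1]
      split_ifs
      · positivity
      · exact le_rfl
  have hAM : 4 * ((p : ℤ) ^ a * N p χ χ - (N p χ χ) ^ 2) ≤ ((p : ℤ) ^ a) ^ 2 := by
    nlinarith [sq_nonneg ((p : ℤ) ^ a - 2 * N p χ χ)]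
  have hZ : 4 * ((p : ℤ) ^ (2 * ν) * ∑ ψ : IrrCharacter G,
      (if ψ ∈ B ∧ blockHeight p B (ψ : G → ℂ) = 0 then (1 : ℤ) else 0)) ≤ (p : ℤ) ^ (2 * a) := by
    have e1 : (p : ℤ) ^ (2 * ν) * ∑ ψ : IrrCharacter G,
        (if ψ ∈ B ∧ blockHeight p B (ψ : G → ℂ) = 0 then (1 : ℤ) else 0) =
        ∑ ψ : IrrCharacter G, (if ψ ∈ B ∧ blockHeight p B (ψ : G → ℂ) = 0 then
        (p : ℤ) ^ (2 * ν) else 0) := by
      rw [Finset.mul_sum]
      refine Finset.sum_congr rfl fun ψ _ => ?_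
      split_ifs <;> simp
    have e2 : (p : ℤ) ^ (2 * a) = ((p : ℤ) ^ a) ^ 2 := by rw [← pow_mul, mul_comm]
    rw [e1, e2]
    linarith
  have hcast : ((4 * (p ^ (2 * ν) *
      ∑ ψ : IrrCharacter G, if ψ ∈ B ∧ blockHeight p B (ψ : G → ℂ) = 0 then 1 else 0) : ℕ) : ℤ) ≤
      ((p ^ (2 * a) : ℕ) : ℤ) := by
    push_cast
    exact hZ
  exact_mod_cast hcast

end Cfsg.Agent.Helper8.HB
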