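import Mathlib
import Cfsg.Prelude.Def_Solvable
import Cfsg.Prelude.Def_Transfer
import Cfsg.Agent.Helper16.KleinSylow
import Cfsg.Agent.Helper15.ExtClosed2

/-!
# Groups with a Klein four Sylow 2-subgroup and a central involution are 2-nilpotent
-/

set_option autoImplicit false

namespace Cfsg.Agent.Helper8.KleinC

open Cfsg Cfsg.Agent.Helper16

variable {H : Type*} [Group H] [Finite H]

/-- With a central involution in a Klein four Sylow 2-subgroup `Q`, `N(Q) ≤ C(Q)`. -/
theorem normalizer_le_centralizer (Q : Sylow 2 H) (hQ : IsKleinFour (Q : Subgroup H))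
    (z : H) (hzc : ∀ h : H, h * z = z * h) (hzQ : z ∈ Q) (hz1 : z ≠ 1) :
    Subgroup.normalizer ((Q : Subgroup H) : Set H) ≤
      Subgroup.centralizer ((Q : Subgroup H) : Set H) := by
  obtain ⟨a, b, ha, hb, ha1, hb1, hab⟩ := klein_exists_gens Q hQ
  -- an involution of `Q` other than `z`
  obtain ⟨w, hw, hw1, hwz⟩ : ∃ w : H, w ∈ Q ∧ w ≠ 1 ∧ z ≠ w := by
    by_cases h : z = a
    · exact ⟨b, hb, hb1, by rw [h]; exact hab⟩
    · exact ⟨a, ha, ha1, h⟩
  have hnc : ∀ y : H, IsConj z y → y = z := by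
    intro y hy
    obtain ⟨c, hc⟩ := isConj_iff.mp hy
    rw [← hc, hzc c, mul_inv_cancel_right]
  rcases klein_dichotomy Q hQ hzQ hw hz1 hw1 hwz with ⟨h1, _⟩ | ⟨h1, h2, h3⟩
  · exact absurd (hnc w h1).symm hwz
  · exact klein_normalizer_le_centralizer Q hQ (klein_card_three Q hQ hzQ hw hz1 hw1 hwz h1 h2 h3)

/-- Such a group has a normal `2`-complement. -/
theorem index_pPrimeCore (Q : Sylow 2 H) (hQ : IsKleinFour (Q : Subgroup H))
    (z : H) (hzc : ∀ h : H, h * z = z * h) (hzQ : z ∈ Q) (hz1 : z ≠ 1) :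
    (pPrimeCore 2 H).index = 2 ^ 2 ∧ HasNormalPComplement 2 H := by
  haveI : Fact (Nat.Prime 2) := ⟨Nat.prime_two⟩
  have hN := normalizer_le_centralizer Q hQ z hzc hzQ hz1
  have hc := MonoidHom.ker_transferSylow_isComplement' Q hN
  have hker := Cfsg.Agent.Helper15.pPrimeCore_eq_ker_transferSylow Q hN
  refine ⟨?_, ⟨Q, (MonoidHom.transferSylow Q hN).ker, inferInstance, hc⟩⟩
  rw [hker]
  have h1 := hc.card_mul_card
  have h2 := Subgroup.card_mul_index (MonoidHom.transferSylow Q hN).ker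
  have h4 : Nat.card (Q : Subgroup H) = 4 := IsKleinFour.card_four
  have hpos : 0 < Nat.card (MonoidHom.transferSylow Q hN).ker := Nat.card_pos
  have : Nat.card (MonoidHom.transferSylow Q hN).ker * (MonoidHom.transferSylow Q hN).ker.index =
      Nat.card (MonoidHom.transferSylow Q hN).ker * 4 := by rw [h2, ← h1, h4]
  have := Nat.eq_of_mul_eq_mul_left hpos this
  rw [this]
  norm_num

end Cfsg.Agent.Helper8.KleinC
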