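import Mathlib
import Cfsg.Prelude.Def_Characters
import Cfsg.Prelude.Def_Blocks
import Cfsg.Agent.Helper8.GaloisChar
import Cfsg.Agent.Helper8.CharComp
import Cfsg.Agent.Helper5.BlockOrth
import Cfsg.Agent.Helper5.ThirdMain
import Cfsg.Agent.Helper24.Expansion
import Cfsg.Agent.Helper24.Linear
import Cfsg.Agent.Helper5.DefectOrder

/-!
Parity of the number of odd-degree characters in the principal `2`-block fixed by a Galois
automorphism of `2`-power order.
-/

set_option autoImplicit false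
set_option linter.unusedSectionVars false
set_option linter.style.haveILetI false

namespace Cfsg.Agent.Helper8

section Arith

theorem two_pow_dvd_odd_pow_sub_one {x : ℕ} (hx : Odd x) (j : ℕ) :
    2 ^ (j + 1) ∣ x ^ (2 ^ j) - 1 := by
  induction j with
  | zero =>
    obtain ⟨m, hm⟩ := hx
    simp only [pow_zero, pow_one, zero_add]
    exact ⟨m, by omega⟩
  | succ j ih =>
    have h1 : x ^ (2 ^ (j + 1)) - 1 = (x ^ (2 ^ j) - 1) * (x ^ (2 ^ j) + 1) := by
      have hpos : 1 ≤ x ^ (2 ^ j) := Nat.one_le_pow _ _ hx.pos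
      rw [pow_succ, pow_mul]
      zify [hpos, Nat.one_le_pow 2 (x ^ 2 ^ j) (by omega)]
      ring
    have h2 : 2 ∣ x ^ (2 ^ j) + 1 := by
      have : Odd (x ^ (2 ^ j)) := hx.pow
      exact (this.add_one).two_dvd
    rw [h1, pow_succ]
    exact Nat.mul_dvd_mul ih h2

end Arith

section PowOrder

variable {G : Type*} [Group G] [Finite G]

/-- the power map cubing `2`-elements and fixing elements of odd order has `2`-power order -/
theorem pow_pow_two_pow_eq (k : ℕ)
    (hk₁ : ∀ g : G, (∃ j : ℕ, orderOf g = 2 ^ j) → g ^ k = g ^ 3)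
    (hk₂ : ∀ g : G, Odd (orderOf g) → g ^ k = g) (g : G) :
    g ^ (k ^ (2 ^ Nat.card G)) = g := by
  have hn0 : orderOf g ≠ 0 := (orderOf_pos g).ne'
  obtain ⟨s, n', hn'odd, hn⟩ := Nat.exists_eq_two_pow_mul_odd hn0
  have hn'pos : 0 < n' := hn'odd.pos
  -- the odd part
  have h1 : k ≡ 1 [MOD n'] := by
    have ho : orderOf (g ^ (2 ^ s)) = n' := by
      rw [orderOf_pow_of_dvd (pow_ne_zero _ two_ne_zero) ⟨n', hn⟩, hn,
        Nat.mul_div_cancel_left _ (pow_pos two_pos _)]
    have h2 := hk₂ (g ^ (2 ^ s)) (by rw [ho]; exact hn'odd)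
    have h3 : (g ^ (2 ^ s)) ^ k = (g ^ (2 ^ s)) ^ 1 := by rw [h2, pow_one]
    have h4 := pow_eq_pow_iff_modEq.mp h3
    rw [ho] at h4
    exact h4
  -- the `2`-part
  have h2 : k ≡ 3 [MOD 2 ^ s] := by
    have ho : orderOf (g ^ n') = 2 ^ s := by
      rw [orderOf_pow_of_dvd hn'pos.ne' ⟨2 ^ s, by rw [hn, mul_comm]⟩, hn,
        Nat.mul_div_cancel _ hn'pos]
    have h3 := hk₁ (g ^ n') ⟨s, ho⟩
    have h4 := pow_eq_pow_iff_modEq.mp h3
    rw [ho] at h4
    exact h4
  set N := Nat.card G with hN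
  have hsN : s ≤ N + 1 := by
    have h3 : 2 ^ s ≤ orderOf g := by
      rw [hn]
      exact Nat.le_mul_of_pos_right _ hn'pos
    have h4 : orderOf g ≤ N := orderOf_le_card
    have h5 : s < 2 ^ s := Nat.lt_two_pow_self
    omega
  have h3 : k ^ (2 ^ N) ≡ 1 [MOD n'] := by
    have := h1.pow (2 ^ N)
    rwa [one_pow] at this
  have h4 : k ^ (2 ^ N) ≡ 1 [MOD 2 ^ s] := by
    have h5 := h2.pow (2 ^ N)
    refine h5.trans ?_
    have h6 : 2 ^ s ∣ 3 ^ (2 ^ N) - 1 :=
      (pow_dvd_pow 2 hsN).trans (two_pow_dvd_odd_pow_sub_one (by decide) N)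
    have h7 : 1 ≤ 3 ^ (2 ^ N) := Nat.one_le_pow _ _ (by norm_num)
    exact ((Nat.modEq_iff_dvd' h7).mpr h6).symm
  have hcop : Nat.Coprime (2 ^ s) n' :=
    Nat.Coprime.pow_left s (Nat.coprime_two_left.mpr hn'odd)
  have h5 : k ^ (2 ^ N) ≡ 1 [MOD 2 ^ s * n'] :=
    (Nat.modEq_and_modEq_iff_modEq_mul hcop).mp ⟨h4, h3⟩
  rw [← hn] at h5
  have h6 : g ^ (k ^ (2 ^ N)) = g ^ 1 := pow_eq_pow_iff_modEq.mpr h5
  rw [h6, pow_one]

theorem coprime_of_pow_pow_eq (k m : ℕ) (hm : 0 < m) (h : ∀ g : G, g ^ (k ^ m) = g) :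
    Nat.Coprime k (Nat.card G) := by
  by_contra hcon
  obtain ⟨q, hq, hqk, hqG⟩ := Nat.Prime.not_coprime_iff_dvd.mp hcon
  haveI : Fact q.Prime := ⟨hq⟩
  obtain ⟨g, hg⟩ := exists_prime_orderOf_dvd_card' q hqG
  have h1 : g ^ k = 1 := by
    apply orderOf_dvd_iff_pow_eq_one.mp
    rw [hg]
    exact hqk
  have h2 : g ^ (k ^ m) = 1 := by
    obtain ⟨m', rfl⟩ : ∃ m', m = m' + 1 := ⟨m - 1, by omega⟩
    rw [pow_succ', pow_mul, h1, one_pow]
  rw [h g] at h2
  rw [h2, orderOf_one] at hg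
  exact hq.one_lt.ne hg

end PowOrder

section Involution

variable {G : Type*} [Group G] [Finite G]

/-- the value of a character at an involution is an integer congruent to the degree mod `2` -/
theorem char_involution {χ : G → ℂ} (hχ : Cfsg.IsCharacter G χ) {y : G} (hy : orderOf y = 2) :
    ∃ d m : ℕ, χ 1 = d ∧ χ y = 2 * (m : ℂ) - d := by
  classical
  obtain ⟨d, hd⟩ := char_degree_nat hχ
  set H := Subgroup.zpowers y with hH
  haveI : Fintype H := Fintype.ofFinite H
  haveI : Fintype (Cfsg.IrrCharacter H) := Fintype.ofFinite _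
  have hres : Cfsg.IsCharacter H (fun h : H => χ h) := isCharacter_restrict H hχ
  have hone : Cfsg.IsCharacter H (fun _ : H => (1 : ℂ)) :=
    Cfsg.Agent.Helper24.IsIrrCharacter.isCharacter Cfsg.Agent.Helper24.isIrrCharacter_const_one
  obtain ⟨m, hm⟩ := Cfsg.Agent.Helper24.IsCharacter.classInner_nat hres hone
  refine ⟨d, m, hd, ?_⟩
  have hyH : y ∈ H := Subgroup.mem_zpowers y
  have hcard : Nat.card H = 2 := by rw [hH, Nat.card_zpowers, hy]
  have hy1 : y ≠ 1 := by
    intro h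
    rw [h, orderOf_one] at hy
    omega
  have hne : (1 : H) ≠ ⟨y, hyH⟩ := by
    intro h
    apply hy1
    have := congrArg Subtype.val h
    exact this.symm
  have huniv : (Finset.univ : Finset H) = {1, ⟨y, hyH⟩} := by
    symm
    apply Finset.eq_univ_of_card
    rw [Finset.card_pair hne, ← Nat.card_eq_fintype_card, hcard]
  unfold Cfsg.classInner at hm
  rw [huniv, Finset.sum_pair hne, hcard] at hm
  simp only [map_one, mul_one] at hm
  have h1 : χ ((1 : H) : G) = χ 1 := rfl
  rw [h1, hd] at hm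
  have h2 : (d : ℂ) + χ y = 2 * (m : ℂ) := by
    have h3 : ((2 : ℕ) : ℂ) ≠ 0 := by norm_num
    have := (inv_mul_eq_iff_eq_mul₀ h3).mp hm
    rw [this]
    push_cast
    ring
  linear_combination h2

end Involution

section Parity

variable {G : Type*} [Group G] [Finite G]

open Cfsg.Agent.Helper24 Cfsg.Agent.Helper5 in
/-- the principal `2`-block of a group of even order contains an even number of characters of odd
degree -/
theorem even_card_odd_degree_principal (M : Ideal Cfsg.AlgInt) (hM : Cfsg.IsPModular 2 M)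
    (hev : Even (Nat.card G)) :
    Even (Nat.card {χ : Cfsg.IrrCharacter G //
      χ ∈ Cfsg.principalBlock M G ∧ Odd (Cfsg.charDegree (χ : G → ℂ))}) := by
  classical
  haveI : Fintype G := Fintype.ofFinite G
  haveI : Fintype (Cfsg.IrrCharacter G) := Fintype.ofFinite _
  haveI : Fact (Nat.Prime 2) := ⟨Nat.prime_two⟩
  obtain ⟨y, hy⟩ := exists_prime_orderOf_dvd_card' 2 hev.two_dvd
  have horth := CC.block_orthogonality hM (CC.isPBlock_principalBlock (M := M) (G := G)) 1 y
    (by rw [orderOf_one]; norm_num) (by rw [hy])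
  -- the values
  have hval : ∀ χ : Cfsg.IrrCharacter G, ∃ m : ℕ,
      (χ : G → ℂ) y = 2 * (m : ℂ) - (irrDeg χ : ℂ) := by
    intro χ
    obtain ⟨d, m, hd, hm⟩ := char_involution (IsIrrCharacter.isCharacter χ.2) hy
    refine ⟨m, ?_⟩
    rw [hm, ← irrDeg_spec, hd]
  choose m hm using hval
  set F := Finset.univ.filter (fun χ : Cfsg.IrrCharacter G => χ ∈ Cfsg.principalBlock M G) with hF
  have hsum : ∑ χ ∈ F, ((irrDeg χ : ℤ) * (2 * (m χ : ℤ) - irrDeg χ)) = 0 := by
    have h1 : ((∑ χ ∈ F, ((irrDeg χ : ℤ) * (2 * (m χ : ℤ) - irrDeg χ)) : ℤ) : ℂ) = 0 := by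
      rw [← horth, hF, Finset.sum_filter]
      push_cast
      apply Finset.sum_congr rfl
      intro χ _
      by_cases hχ : χ ∈ Cfsg.principalBlock M G
      · rw [if_pos hχ, if_pos hχ, one_mul, hm χ, irrDeg_spec, map_sub, map_mul, map_natCast,
          map_natCast, map_ofNat]
      · rw [if_neg hχ, if_neg hχ, zero_mul]
    exact_mod_cast h1
  have hz : ∑ χ ∈ F, (irrDeg χ : ZMod 2) = 0 := by
    have h1 := congrArg (fun z : ℤ => (z : ZMod 2)) hsum
    simp only [Int.cast_sum, Int.cast_mul, Int.cast_sub, Int.cast_natCast, Int.cast_ofNat,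
      Int.cast_zero] at h1
    have h2 : (2 : ZMod 2) = 0 := rfl
    simp only [h2, zero_mul, zero_sub, mul_neg] at h1
    rw [Finset.sum_neg_distrib, neg_eq_zero] at h1
    rw [← h1]
    apply Finset.sum_congr rfl
    intro χ _
    have := ZMod.pow_card (irrDeg χ : ZMod 2)
    rw [sq] at this
    exact this.symm
  have hcount : ∑ χ ∈ F, (irrDeg χ : ZMod 2)
      = ((F.filter (fun χ => Odd (irrDeg χ))).card : ZMod 2) := by
    rw [← Finset.sum_boole]
    apply Finset.sum_congr rfl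
    intro χ _
    by_cases hodd : Odd (irrDeg χ)
    · rw [if_pos hodd]
      obtain ⟨j, hj⟩ := hodd
      rw [hj]
      push_cast
      have h2 : (2 : ZMod 2) = 0 := rfl
      rw [h2, zero_mul, zero_add]
    · rw [if_neg hodd]
      rw [Nat.not_odd_iff_even] at hodd
      obtain ⟨j, hj⟩ := hodd
      rw [hj]
      push_cast
      have : (j : ZMod 2) + j = 2 * j := by ring
      rw [this]
      have h2 : (2 : ZMod 2) = 0 := rfl
      rw [h2, zero_mul]
  rw [hcount] at hz
  have hdvd : 2 ∣ (F.filter (fun χ => Odd (irrDeg χ))).card :=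
    (ZMod.natCast_eq_zero_iff _ 2).mp hz
  have hcardeq : Nat.card {χ : Cfsg.IrrCharacter G //
      χ ∈ Cfsg.principalBlock M G ∧ Odd (Cfsg.charDegree (χ : G → ℂ))}
      = (F.filter (fun χ => Odd (irrDeg χ))).card := by
    rw [Nat.card_eq_fintype_card, Fintype.card_subtype]
    congr 1
    ext χ
    simp only [hF, Finset.mem_filter, Finset.mem_univ, true_and, CC.charDegree_eq_irrDeg]
  rw [hcardeq]
  exact even_iff_two_dvd.mpr hdvd

end Parity

section Final

variable {G : Type*} [Group G] [Finite G]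

theorem centralizer_pow_eq {g : G} {k j : ℕ} (h : (g ^ k) ^ j = g) :
    Subgroup.centralizer ({g ^ k} : Set G) = Subgroup.centralizer ({g} : Set G) := by
  ext x
  simp only [Subgroup.mem_centralizer_iff, Set.mem_singleton_iff, forall_eq]
  constructor
  · intro hx
    have h1 : Commute (g ^ k) x := hx
    have h2 := h1.pow_left j
    rw [h] at h2
    exact h2
  · intro hx
    have h1 : Commute g x := hx
    exact h1.pow_left k

theorem centralChar_pow (χ : G → ℂ) {g : G} {k j : ℕ} (h : (g ^ k) ^ j = g) :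
    Cfsg.centralChar (fun x => χ (x ^ k)) g = Cfsg.centralChar χ (g ^ k) := by
  unfold Cfsg.centralChar
  rw [centralizer_pow_eq h]
  show _ * χ (g ^ k) / χ (1 ^ k) = _
  rw [one_pow]

theorem centralChar_const_pow {g : G} {k j : ℕ} (h : (g ^ k) ^ j = g) :
    Cfsg.centralChar (fun _ : G => (1 : ℂ)) g = Cfsg.centralChar (fun _ : G => (1 : ℂ)) (g ^ k) := by
  unfold Cfsg.centralChar
  rw [centralizer_pow_eq h]

/-- the power-map conjugate of an irreducible character -/
noncomputable def powIrr (k : ℕ) (hk : Nat.Coprime k (Nat.card G)) (χ : Cfsg.IrrCharacter G) :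
    Cfsg.IrrCharacter G :=
  ⟨fun g => (χ : G → ℂ) (g ^ k), isIrrCharacter_pow_of_coprime k hk χ.2⟩

theorem powIrr_apply (k : ℕ) (hk : Nat.Coprime k (Nat.card G)) (χ : Cfsg.IrrCharacter G) (g : G) :
    (powIrr k hk χ : G → ℂ) g = (χ : G → ℂ) (g ^ k) := rfl

theorem charDegree_powIrr (k : ℕ) (hk : Nat.Coprime k (Nat.card G)) (χ : Cfsg.IrrCharacter G) :
    Cfsg.charDegree (powIrr k hk χ : G → ℂ) = Cfsg.charDegree (χ : G → ℂ) := by
  unfold Cfsg.charDegree
  rw [powIrr_apply, one_pow]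

theorem powIrr_mem_principalBlock (M : Ideal Cfsg.AlgInt) (k m : ℕ) (hm : 0 < m)
    (hk : Nat.Coprime k (Nat.card G)) (hpow : ∀ g : G, g ^ (k ^ m) = g)
    {χ : Cfsg.IrrCharacter G} (hχ : χ ∈ Cfsg.principalBlock M G) :
    powIrr k hk χ ∈ Cfsg.principalBlock M G := by
  intro g
  have h : (g ^ k) ^ (k ^ (m - 1)) = g := by
    rw [← pow_mul, ← pow_succ']
    have : m - 1 + 1 = m := by omega
    rw [this]
    exact hpow g
  have h1 : Cfsg.centralChar ((powIrr k hk χ : Cfsg.IrrCharacter G) : G → ℂ) g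
      = Cfsg.centralChar (χ : G → ℂ) (g ^ k) := centralChar_pow (χ : G → ℂ) h
  rw [h1, centralChar_const_pow h]
  exact hχ (g ^ k)

/-- **Parity of the number of fixed odd-degree characters in the principal `2`-block.** -/
theorem even_card_fixed_odd_principal (M : Ideal Cfsg.AlgInt) (hM : Cfsg.IsPModular 2 M)
    (hev : Even (Nat.card G)) (k : ℕ)
    (hk₁ : ∀ g : G, (∃ j : ℕ, orderOf g = 2 ^ j) → g ^ k = g ^ 3)
    (hk₂ : ∀ g : G, Odd (orderOf g) → g ^ k = g) :
    Even (Nat.card {χ : Cfsg.IrrCharacter G // χ ∈ Cfsg.principalBlock M G ∧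
      Odd (Cfsg.charDegree (χ : G → ℂ)) ∧ ∀ g : G, (χ : G → ℂ) (g ^ k) = (χ : G → ℂ) g}) := by
  classical
  haveI : Fintype G := Fintype.ofFinite G
  haveI : Fintype (Cfsg.IrrCharacter G) := Fintype.ofFinite _
  haveI : Fact (Nat.Prime 2) := ⟨Nat.prime_two⟩
  set N := Nat.card G with hN
  have hpow : ∀ g : G, g ^ (k ^ (2 ^ N)) = g := pow_pow_two_pow_eq k hk₁ hk₂
  have hmpos : 0 < 2 ^ N := pow_pos two_pos _
  have hk : Nat.Coprime k (Nat.card G) := coprime_of_pow_pow_eq k (2 ^ N) hmpos hpow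
  -- the ambient set and the map
  let T := {χ : Cfsg.IrrCharacter G //
    χ ∈ Cfsg.principalBlock M G ∧ Odd (Cfsg.charDegree (χ : G → ℂ))}
  let σ : Function.End T := fun χ => ⟨powIrr k hk χ.1,
    powIrr_mem_principalBlock M k (2 ^ N) hmpos hk hpow χ.2.1,
    by rw [charDegree_powIrr]; exact χ.2.2⟩
  have hiter : ∀ (j : ℕ) (χ : T) (g : G),
      (((σ^[j] χ : T) : Cfsg.IrrCharacter G) : G → ℂ) g
        = ((χ : Cfsg.IrrCharacter G) : G → ℂ) (g ^ (k ^ j)) := by
    intro j
    induction j with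
    | zero =>
      intro χ g
      simp only [pow_zero, pow_one]
      rfl
    | succ j ih =>
      intro χ g
      rw [Function.iterate_succ', Function.comp_apply]
      show (((σ^[j] χ : T) : Cfsg.IrrCharacter G) : G → ℂ) (g ^ k) = _
      rw [ih, ← pow_mul, ← pow_succ']
  have hσ : σ ^ 2 ^ N = 1 := by
    have h1 : (σ ^ 2 ^ N : Function.End T) = σ^[2 ^ N] :=
      hom_coe_pow (fun g : Function.End T => g) rfl (fun g h => rfl) σ (2 ^ N)
    rw [h1]
    funext χ
    show σ^[2 ^ N] χ = χ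
    apply Subtype.ext
    apply Subtype.ext
    funext g
    rw [hiter, hpow]
  haveI : Fintype T := Fintype.ofFinite T
  have hmod := Equiv.Perm.card_fixedPoints_modEq (p := 2) (n := N) hσ
  have hT : Even (Fintype.card T) := by
    have := even_card_odd_degree_principal (G := G) M hM hev
    rwa [Nat.card_eq_fintype_card] at this
  have hfix : Even (Fintype.card (Function.fixedPoints σ)) := by
    rw [Nat.even_iff] at hT ⊢
    have := hmod
    unfold Nat.ModEq at this
    omega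
  have hequiv : {χ : Cfsg.IrrCharacter G // χ ∈ Cfsg.principalBlock M G ∧
      Odd (Cfsg.charDegree (χ : G → ℂ)) ∧ ∀ g : G, (χ : G → ℂ) (g ^ k) = (χ : G → ℂ) g}
      ≃ Function.fixedPoints σ :=
    { toFun := fun χ => ⟨⟨χ.1, χ.2.1, χ.2.2.1⟩, by
        show σ _ = _
        apply Subtype.ext
        apply Subtype.ext
        funext g
        exact χ.2.2.2 g⟩
      invFun := fun χ => ⟨χ.1.1, χ.1.2.1, χ.1.2.2, by
        intro g
        have h1 : σ χ.1 = χ.1 := χ.2
        have h2 := congrArg (fun t : T => ((t : Cfsg.IrrCharacter G) : G → ℂ) g) h1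
        exact h2⟩
      left_inv := fun χ => rfl
      right_inv := fun χ => rfl }
  rw [Nat.card_congr hequiv, Nat.card_eq_fintype_card]
  exact hfix

end Final

end Cfsg.Agent.Helper8
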