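import Mathlib
import Cfsg.Prelude.Def_Blocks
import Cfsg.Agent.Helper5.BlockBasic
import Cfsg.Agent.Helper5.BlockSupport
import Cfsg.Agent.Helper5.BlockCount
import Cfsg.Agent.Helper5.DefectOrder
import Cfsg.Agent.Helper5.ThirdMain
import Cfsg.Agent.Helper24.RealChar
import Cfsg.Agent.Helper24.BrauerPerm
import Cfsg.Agent.Helper20.Basic

/-!
# Real 2-blocks of full defect

A real `2`-block of full defect is the principal block.
-/

namespace Cfsg.Agent.Helper8.RealBlock2

open Cfsg Cfsg.Agent.Helper24 Cfsg.Agent.Helper5.CC Cfsg.Agent.Helper5.Loc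

variable {M : Ideal AlgInt}

/-- Pairing along an involution, modulo the local ideal at a prime over `2`. -/
theorem sum_sub_sum_fixed_li (hM : M.IsPrime) (h2 : MemLocalIdeal M (2 : ℂ))
    {α : Type*} [LinearOrder α] (s : Finset α) (σ : α → α) [DecidablePred (fun a => σ a = a)]
    (hs : ∀ a ∈ s, σ a ∈ s)
    (hσ : ∀ a ∈ s, σ (σ a) = a) (f : α → ℂ) (hf : ∀ a ∈ s, MemLocalRing M (f a))
    (hfσ : ∀ a ∈ s, MemLocalIdeal M (f (σ a) - f a)) :
    MemLocalIdeal M (∑ a ∈ s, f a - ∑ a ∈ s.filter (fun a => σ a = a), f a) := by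
  classical
  have hsplit : s = s.filter (fun a => σ a = a) ∪
      (s.filter (fun a => a < σ a) ∪ s.filter (fun a => σ a < a)) := by
    ext a
    simp only [Finset.mem_union, Finset.mem_filter]
    constructor
    · intro ha
      rcases lt_trichotomy a (σ a) with h | h | h
      · exact Or.inr (Or.inl ⟨ha, h⟩)
      · exact Or.inl ⟨ha, h.symm⟩
      · exact Or.inr (Or.inr ⟨ha, h⟩)
    · rintro (⟨ha, _⟩ | ⟨ha, _⟩ | ⟨ha, _⟩) <;> exact ha
  have hdisj1 : Disjoint (s.filter (fun a => a < σ a)) (s.filter (fun a => σ a < a)) := by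
    rw [Finset.disjoint_filter]
    intro a _ h1 h2
    exact lt_asymm h1 h2
  have hdisj0 : Disjoint (s.filter (fun a => σ a = a))
      (s.filter (fun a => a < σ a) ∪ s.filter (fun a => σ a < a)) := by
    rw [Finset.disjoint_union_right, Finset.disjoint_filter, Finset.disjoint_filter]
    constructor
    · intro a _ h1 h2; rw [h1] at h2; exact lt_irrefl _ h2
    · intro a _ h1 h2; rw [h1] at h2; exact lt_irrefl _ h2
  have hB : ∑ a ∈ s.filter (fun a => σ a < a), f a =
      ∑ a ∈ s.filter (fun a => a < σ a), f (σ a) := by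
    refine Finset.sum_nbij' σ σ ?_ ?_ ?_ ?_ ?_
    · intro a ha
      rw [Finset.mem_filter] at ha ⊢
      refine ⟨hs a ha.1, ?_⟩
      rw [hσ a ha.1]
      exact ha.2
    · intro a ha
      rw [Finset.mem_filter] at ha ⊢
      refine ⟨hs a ha.1, ?_⟩
      rw [hσ a ha.1]
      exact ha.2
    · intro a ha
      exact hσ a (Finset.mem_filter.mp ha).1
    · intro a ha
      exact hσ a (Finset.mem_filter.mp ha).1
    · intro a ha
      rw [hσ a (Finset.mem_filter.mp ha).1]
  have hrew : ∑ a ∈ s, f a - ∑ a ∈ s.filter (fun a => σ a = a), f a =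
      ∑ a ∈ s.filter (fun a => a < σ a), (2 * f a + (f (σ a) - f a)) := by
    conv_lhs => rw [hsplit]
    rw [Finset.sum_union hdisj0, Finset.sum_union hdisj1, hB, ← Finset.sum_add_distrib]
    have hfilt : (s.filter (fun a => σ a = a) ∪
        (s.filter (fun a => a < σ a) ∪ s.filter (fun a => σ a < a))).filter
          (fun a => σ a = a) = s.filter (fun a => σ a = a) := by
      rw [← hsplit, ]
    rw [hfilt, add_sub_cancel_left]
    refine Finset.sum_congr rfl ?_
    intro a _
    ring
  rw [hrew]
  apply li_sum hM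
  intro a ha
  have ha' := (Finset.mem_filter.mp ha).1
  exact li_add hM (li_mul_right hM h2 (hf a ha')) (hfσ a ha')

variable {G : Type*} [Group G] [Fintype G]

omit [Fintype G] in
theorem centralizer_singleton_inv (g : G) :
    Subgroup.centralizer ({g⁻¹} : Set G) = Subgroup.centralizer ({g} : Set G) := by
  ext h
  simp only [Subgroup.mem_centralizer_iff, Set.mem_singleton_iff, forall_eq]
  constructor
  · intro hh
    have : g⁻¹ * h * g = h := by rw [hh, mul_assoc, inv_mul_cancel, mul_one]
    calc g * h = g * (g⁻¹ * h * g) := by rw [this]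
      _ = h * g := by group
  · intro hh
    have : g * h * g⁻¹ = h := by rw [hh, mul_assoc, mul_inv_cancel, mul_one]
    calc g⁻¹ * h = g⁻¹ * (g * h * g⁻¹) := by rw [this]
      _ = h * g⁻¹ := by group

theorem centralChar_irrStar (χ : IrrCharacter G) (g : G) :
    centralChar ((irrStar χ : IrrCharacter G) : G → ℂ) g = centralChar (χ : G → ℂ) g⁻¹ := by
  rw [centralChar, centralChar, irrStar_apply, irrStar_apply, centralizer_singleton_inv,
    irr_inv χ g]
  congr 1
  rw [irrDeg_spec, Complex.conj_natCast]

omit [Fintype G] in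
/-- The class of a real element `≠ 1` of odd order has even size. -/
theorem even_index_centralizer_of_real [Finite G] (x : G) (hodd : Odd (orderOf x)) (hx1 : x ≠ 1)
    (hreal : IsConj x x⁻¹) : Even (Subgroup.centralizer ({x} : Set G)).index := by
  classical
  rw [← Cfsg.Agent.Helper20.ncard_setOf_isConj]
  set S : Set G := {h : G | IsConj x h} with hS
  haveI : Fintype S := Fintype.ofFinite S
  have hinvmem : ∀ y : G, y ∈ S → y⁻¹ ∈ S := by
    intro y hy
    have h1 : IsConj x⁻¹ y⁻¹ := by
      obtain ⟨c, hc⟩ := isConj_iff.mp hy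
      rw [isConj_iff]
      refine ⟨c, ?_⟩
      rw [← hc]; group
    exact hreal.trans h1
  let σ : Equiv.Perm S :=
    { toFun := fun y => ⟨(y : G)⁻¹, hinvmem y y.2⟩
      invFun := fun y => ⟨(y : G)⁻¹, hinvmem y y.2⟩
      left_inv := fun y => Subtype.ext (inv_inv _)
      right_inv := fun y => Subtype.ext (inv_inv _) }
  have hσ2 : σ ^ 2 = 1 := by
    ext y
    simp [σ, sq]
  have hsupp : σ.support = Finset.univ := by
    ext y
    simp only [Equiv.Perm.mem_support, Finset.mem_univ, iff_true]
    intro h
    have h1 : ((y : G))⁻¹ = y := congrArg Subtype.val h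
    have hy2 : (y : G) ^ 2 = 1 := by
      rw [sq]
      calc (y : G) * y = (y : G)⁻¹ * y := by rw [h1]
        _ = 1 := inv_mul_cancel _
    have hord : orderOf (y : G) = orderOf x := by
      obtain ⟨c, hc⟩ := isConj_iff.mp y.2
      rw [← hc]
      exact orderOf_injective (MulAut.conj c).toMonoidHom (MulAut.conj c).injective x
    have hd : orderOf (y : G) ∣ 2 := orderOf_dvd_of_pow_eq_one hy2
    rw [hord] at hd
    have h3 : orderOf x = 1 := by
      rcases (Nat.dvd_prime Nat.prime_two).mp hd with h | h
      · exact h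
      · rw [h] at hodd; exact absurd hodd (by decide)
    exact hx1 (orderOf_eq_one_iff.mp h3)
  have h2 := Equiv.Perm.two_dvd_card_support hσ2
  rw [hsupp, Finset.card_univ] at h2
  rw [← Nat.card_coe_set_eq, Nat.card_eq_fintype_card]
  exact even_iff_two_dvd.mpr h2

/-- Key congruence: for `χ` in a real `2`-block `B'` of full defect and a real block `B''`,
`[χ ∈ B''] ≡ e_{B''}(1)` modulo the local ideal. -/
theorem key [Fintype (IrrCharacter G)] (hM : IsPModular 2 M)
    {B' B'' : Set (IrrCharacter G)} (hB' : IsPBlock M B') (hB'' : IsPBlock M B'')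
    (hreal' : ∀ χ ∈ B', irrStar χ ∈ B')
    (hd' : blockDefect 2 B' = (Nat.card G).factorization 2)
    (hreal'' : ∀ g : G, blockCoeff B'' g⁻¹ = blockCoeff B'' g)
    {χ : IrrCharacter G} (hχ : χ ∈ B') [DecidablePred (· ∈ B'')] :
    MemLocalIdeal M ((if χ ∈ B'' then (1 : ℂ) else 0) - blockCoeff B'' 1) := by
  classical
  haveI : Fact (Nat.Prime 2) := ⟨Nat.prime_two⟩
  have hMp := isPrime_of_isPModular hM
  haveI : Fintype (ConjClasses G) := Fintype.ofFinite _
  letI : LinearOrder (ConjClasses G) :=
    LinearOrder.lift' (Fintype.equivFin (ConjClasses G)) (Equiv.injective _)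
  have h2li : MemLocalIdeal M (2 : ℂ) := by
    have := (memLocalIdeal_natCast_iff hM 2).mpr dvd_rfl
    simpa using this
  have hcl := isClassFunction_blockCoeff (G := G) B''
  rw [← act_blockCoeff B'' χ, act_eq_sum_centralChar hcl]
  set f : ConjClasses G → ℂ := fun K =>
    blockCoeff B'' (rep K) * centralChar (χ : G → ℂ) (rep K) with hf
  -- conjugacy of representatives
  have hrepinv : ∀ K : ConjClasses G, IsConj (rep (conjClassesInv K)) (rep K)⁻¹ := by
    intro K
    rw [← ConjClasses.mk_eq_mk_iff_isConj, mk_rep, ← conjClassesInv_mk, mk_rep]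
  have hcc : ∀ (ψ : IrrCharacter G), IsClassFunction G (centralChar (ψ : G → ℂ)) := by
    intro ψ g x
    rw [centralChar, centralChar, isClassFunction_irr ψ g x]
    congr 2
    have h1 := Cfsg.Agent.Helper20.ncard_setOf_isConj g
    have h2 := Cfsg.Agent.Helper20.ncard_setOf_isConj (x * g * x⁻¹)
    have hset : {h : G | IsConj (x * g * x⁻¹) h} = {h : G | IsConj g h} := by
      ext y
      simp only [Set.mem_ofPred_eq]
      have hc : IsConj g (x * g * x⁻¹) := isConj_iff.mpr ⟨x, rfl⟩
      exact ⟨fun h => hc.trans h, fun h => hc.symm.trans h⟩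
    rw [← h1, ← h2, hset]
  have hfval : ∀ K : ConjClasses G, f (conjClassesInv K) =
      blockCoeff B'' (rep K) * centralChar ((irrStar χ : IrrCharacter G) : G → ℂ) (rep K) := by
    intro K
    obtain ⟨c, hc⟩ := isConj_iff.mp (hrepinv K)
    simp only [hf]
    have e1 : blockCoeff B'' (rep (conjClassesInv K)) = blockCoeff B'' (rep K) := by
      rw [← hreal'' (rep K), ← hc]
      exact (hcl _ c).symm
    have e2 : centralChar (χ : G → ℂ) (rep (conjClassesInv K)) =
        centralChar ((irrStar χ : IrrCharacter G) : G → ℂ) (rep K) := by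
      rw [centralChar_irrStar, ← hc]
      exact (hcc χ _ c).symm
    rw [e1, e2]
  have hinv2 : ∀ K : ConjClasses G, conjClassesInv (conjClassesInv K) = K := by
    intro K
    obtain ⟨g, rfl⟩ := ConjClasses.mk_surjective K
    rw [conjClassesInv_mk, conjClassesInv_mk, inv_inv]
  have hpair := sum_sub_sum_fixed_li hMp h2li (Finset.univ : Finset (ConjClasses G))
    conjClassesInv (fun _ _ => Finset.mem_univ _) (fun K _ => hinv2 K) f
    (fun K _ => lr_mul hMp (osima hMp B'' hB'' _) (memLocalRing_centralChar hMp χ _))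
    (fun K _ => by
      rw [hfval K]
      simp only [hf]
      rw [← mul_sub]
      refine li_mul_left hMp (osima hMp B'' hB'' _) ?_
      exact sameBlock_of_mem hMp hB' (hreal' χ hχ) hχ (rep K))
  -- the fixed classes other than the class of 1 contribute elements of the local ideal
  set K₁ : ConjClasses G := ConjClasses.mk (1 : G) with hK₁
  have hrep1 : rep K₁ = 1 := by
    have h := mk_rep K₁
    rw [hK₁, ConjClasses.mk_eq_mk_iff_isConj] at h
    exact isConj_one_right.mp h.symm ▸ rfl
  have hK₁fix : conjClassesInv K₁ = K₁ := by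
    rw [hK₁, conjClassesInv_mk, inv_one]
  have hfixed : MemLocalIdeal M (∑ K ∈ (Finset.univ : Finset (ConjClasses G)).filter
      (fun K => conjClassesInv K = K), f K - f K₁) := by
    have hmem : K₁ ∈ (Finset.univ : Finset (ConjClasses G)).filter
        (fun K => conjClassesInv K = K) := by
      rw [Finset.mem_filter]; exact ⟨Finset.mem_univ _, hK₁fix⟩
    rw [← Finset.add_sum_erase _ f hmem, add_sub_cancel_left]
    apply li_sum hMp
    intro K hK
    rw [Finset.mem_erase, Finset.mem_filter] at hK
    obtain ⟨hne, -, hfix⟩ := hK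
    simp only [hf]
    by_cases hsing : 2 ∣ orderOf (rep K)
    · rw [blockCoeff_eq_zero_of_singular hM hB'' _ hsing, zero_mul]
      exact memLocalIdeal_zero hMp
    · refine li_mul_left hMp (osima hMp B'' hB'' _) ?_
      by_contra hunit
      have hle := Cfsg.Agent.Helper5.BCnt.blockDefect_le_of_centralChar hM hB' hχ (rep K) hunit
      rw [hd'] at hle
      -- but the class is real, of odd order elements, nontrivial
      have hx1 : rep K ≠ 1 := by
        intro h1
        apply hne
        rw [← mk_rep K, h1]
      have hreal : IsConj (rep K) (rep K)⁻¹ := by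
        have := hrepinv K
        rw [hfix] at this
        exact this
      have heven := even_index_centralizer_of_real (rep K)
        (Nat.odd_iff.mpr (Nat.two_dvd_ne_zero.mp hsing)) hx1 hreal
      have hmul := (Subgroup.centralizer ({rep K} : Set G)).card_mul_index
      have hfac : (Nat.card G).factorization 2 =
          (Nat.card (Subgroup.centralizer ({rep K} : Set G))).factorization 2 +
            ((Subgroup.centralizer ({rep K} : Set G)).index).factorization 2 := by
        rw [← hmul, Nat.factorization_mul Nat.card_pos.ne'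
          (Subgroup.index_ne_zero_of_finite)]
        rfl
      have hpos : 0 < ((Subgroup.centralizer ({rep K} : Set G)).index).factorization 2 :=
        Nat.Prime.factorization_pos_of_dvd Nat.prime_two Subgroup.index_ne_zero_of_finite
          (even_iff_two_dvd.mp heven)
      omega
  have hf1 : f K₁ = blockCoeff B'' 1 := by
    simp only [hf, hrep1]
    rw [centralChar, Subgroup.centralizer_eq_top_iff_subset.mpr (by simp), Subgroup.index_top]
    have h1 : (χ : G → ℂ) 1 ≠ 0 := irr_one_ne_zero χ
    field_simp
    simp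
  have := li_add hMp hpair hfixed
  rw [hf1] at this
  convert this using 1
  ring

end Cfsg.Agent.Helper8.RealBlock2
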