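import Mathlib
import Cfsg.Prelude.Def_Blocks
import Cfsg.Agent.Helper8.RealBlock2

/-!
# A real `2`-block of full defect is the principal block (packaged form)
-/

namespace Cfsg.Agent.Helper8.RealBlock2

open Cfsg Cfsg.Agent.Helper24 Cfsg.Agent.Helper5.CC Cfsg.Agent.Helper5.Loc

variable {M : Ideal AlgInt} {G : Type*} [Group G] [Fintype G]

/-- The principal block is closed under complex conjugation. -/
theorem irrStar_mem_principalBlock {χ : IrrCharacter G} (hχ : χ ∈ principalBlock M G) :
    irrStar χ ∈ principalBlock M G := by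
  have h1 : SameBlock M (fun _ : G => (1 : ℂ)) (χ : G → ℂ) := hχ
  show SameBlock M (fun _ : G => (1 : ℂ)) ((irrStar χ : IrrCharacter G) : G → ℂ)
  intro g
  have h2 := h1 g⁻¹
  rw [centralChar_irrStar]
  have h3 : centralChar (fun _ : G => (1 : ℂ)) g = centralChar (fun _ : G => (1 : ℂ)) g⁻¹ := by
    rw [centralChar, centralChar, centralizer_singleton_inv]
  rw [h3]
  exact h2

/-- The principal block has full defect. -/
theorem blockDefect_principalBlock (hM : M.IsPrime) (p : ℕ) :
    blockDefect p (principalBlock M G) = (Nat.card G).factorization p := by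
  rw [blockDefect]
  have hmem : 0 ∈ ((fun χ : IrrCharacter G => (charDegree (χ : G → ℂ)).factorization p) ''
      principalBlock M G) := by
    refine ⟨trivIrr G, trivIrr_mem_principalBlock hM, ?_⟩
    simp only
    rw [charDegree_eq_irrDeg]
    have h1 := irrDeg_spec (trivIrr G)
    have h2 : ((trivIrr G : IrrCharacter G) : G → ℂ) 1 = 1 := rfl
    rw [h2] at h1
    have h3 : irrDeg (trivIrr G) = 1 := by exact_mod_cast h1.symm
    rw [h3]; simp
  have : sInf ((fun χ : IrrCharacter G => (charDegree (χ : G → ℂ)).factorization p) ''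
      principalBlock M G) = 0 := Nat.eq_zero_of_le_zero (Nat.sInf_le hmem)
  rw [this, Nat.sub_zero]

/-- The coefficients of the idempotent of a real block are invariant under inversion. -/
theorem blockCoeff_inv_of_real [Fintype (IrrCharacter G)] {B : Set (IrrCharacter G)}
    (hreal : ∀ χ ∈ B, irrStar χ ∈ B) (g : G) : blockCoeff B g⁻¹ = blockCoeff B g := by
  classical
  rw [blockCoeff_eq, blockCoeff_eq]
  congr 1
  let e : IrrCharacter G ≃ IrrCharacter G :=
    { toFun := irrStar
      invFun := irrStar
      left_inv := irrStar_irrStar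
      right_inv := irrStar_irrStar }
  rw [← Equiv.sum_comp e]
  refine Finset.sum_congr rfl ?_
  intro χ _
  have hiff : e χ ∈ B ↔ χ ∈ B := by
    constructor
    · intro h
      have := hreal _ h
      rwa [show irrStar (e χ) = χ from irrStar_irrStar χ] at this
    · intro h; exact hreal χ h
  have hval : ∀ x : G, ((e χ : IrrCharacter G) : G → ℂ) x = (starRingEnd ℂ) ((χ : G → ℂ) x) :=
    fun x => irrStar_apply χ x
  rw [hval, hval, Complex.conj_conj, irr_inv χ g]
  by_cases h : χ ∈ B
  · rw [if_pos (hiff.mpr h), if_pos h]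
    rw [irrDeg_spec, Complex.conj_natCast]
  · rw [if_neg (fun h' => h (hiff.mp h')), if_neg h, zero_mul, zero_mul]

/-- **A real `2`-block of full defect is the principal block.** -/
theorem eq_principalBlock_of_real [Fintype (IrrCharacter G)] (hM : IsPModular 2 M)
    {B : Set (IrrCharacter G)} (hB : IsPBlock M B) (hreal : ∀ χ ∈ B, irrStar χ ∈ B)
    (hd : blockDefect 2 B = (Nat.card G).factorization 2) : B = principalBlock M G := by
  classical
  by_contra hnp
  have hMp := isPrime_of_isPModular hM
  set B₀ := principalBlock M G with hB₀def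
  have hB₀ : IsPBlock M B₀ := isPBlock_principalBlock
  have htriv : trivIrr G ∈ B₀ := trivIrr_mem_principalBlock hMp
  have hrealB₀ : ∀ χ ∈ B₀, irrStar χ ∈ B₀ := fun χ hχ => irrStar_mem_principalBlock hχ
  have hd₀ : blockDefect 2 B₀ = (Nat.card G).factorization 2 := blockDefect_principalBlock hMp 2
  have hcoeff := blockCoeff_inv_of_real hrealB₀
  have k1 := key hM hB₀ hB₀ hrealB₀ hd₀ hcoeff htriv
  obtain ⟨χ, hχ⟩ := IsPBlock.nonempty hMp hB
  have hχ₀ : χ ∉ B₀ := by
    intro h
    apply hnp
    rw [IsPBlock_eq_blockOf hMp hB hχ, IsPBlock_eq_blockOf hMp hB₀ h]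
  have k2 := key hM hB hB₀ hreal hd hcoeff hχ
  rw [if_pos htriv] at k1
  rw [if_neg hχ₀] at k2
  have := li_sub hMp k1 k2
  rw [show (1 : ℂ) - blockCoeff B₀ 1 - (0 - blockCoeff B₀ 1) = 1 by ring] at this
  exact not_memLocalIdeal_one hMp this

end Cfsg.Agent.Helper8.RealBlock2
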