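import Mathlib
import Cfsg.Prelude.Def_BlockRank
import Cfsg.Agent.Helper8.BlockReg
import Cfsg.Agent.Helper8.PRegular
import Cfsg.Agent.Helper24.Span

/-!
# The `p`-regular rank of a block as a trace

For a `p`-block `B` of a finite group, `l(B) = ∑_{ψ ∈ B} [ψ̃, ψ]`, where `ψ̃` is the restriction of
`ψ` to the `p`-regular elements: the operator `f ↦ ∑_{ψ ∈ B} [f, ψ] ψ̃` is a projection onto the span
of the `ψ̃`, and its trace is the right-hand side.
-/

set_option autoImplicit false

namespace Cfsg.Agent.Helper8.RankTr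

open Cfsg Cfsg.Agent.Helper24 Cfsg.Agent.Helper5.CC

variable {G : Type*} [Group G] [Fintype G] {M : Ideal AlgInt}

/-- `f ↦ [f, ψ]` as a linear functional. -/
noncomputable def innerL (ψ : G → ℂ) : (G → ℂ) →ₗ[ℂ] ℂ where
  toFun f := classInner f ψ
  map_add' f g := classInner_add_left f g ψ
  map_smul' c f := by
    simp only [RingHom.id_apply, smul_eq_mul]
    exact classInner_smul_left c f ψ

theorem innerL_apply (ψ f : G → ℂ) : innerL ψ f = classInner f ψ := rfl

omit [Fintype G] in
theorem pRegularPart_fun (p : ℕ) (χ : G → ℂ) :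
    pRegularPart p χ = fun g => if p ∣ orderOf g then (0 : ℂ) else 1 * χ g := by
  classical
  funext g
  unfold pRegularPart IsPRegular
  by_cases hg : p ∣ orderOf g
  · rw [if_neg (not_not.mpr hg), if_pos hg]
  · rw [if_pos hg, if_neg hg, one_mul]

/-- Truncation to the `p`-regular elements as a linear map. -/
noncomputable def truncL (p : ℕ) : (G → ℂ) →ₗ[ℂ] (G → ℂ) where
  toFun f := pRegularPart p f
  map_add' f g := by
    funext x
    rw [pRegularPart_fun, pRegularPart_fun, pRegularPart_fun]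
    simp only [Pi.add_apply]
    split_ifs <;> ring
  map_smul' c f := by
    funext x
    rw [pRegularPart_fun, pRegularPart_fun]
    simp only [Pi.smul_apply, smul_eq_mul, RingHom.id_apply]
    split_ifs <;> ring

omit [Fintype G] in
theorem truncL_apply (p : ℕ) (f : G → ℂ) : truncL p f = pRegularPart p f := rfl

omit [Fintype G] in
theorem pRegularPart_idem (p : ℕ) (f : G → ℂ) :
    pRegularPart p (pRegularPart p f) = pRegularPart p f := by
  funext x
  rw [pRegularPart_fun p (pRegularPart p f), pRegularPart_fun p f]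
  simp only
  split_ifs <;> ring

/-- The projection operator `f ↦ ∑_{ψ ∈ B} [f, ψ] ψ̃`. -/
noncomputable def projL (p : ℕ) (B : Set (IrrCharacter G)) [Fintype (IrrCharacter G)]
    [DecidablePred (· ∈ B)] : (G → ℂ) →ₗ[ℂ] (G → ℂ) :=
  ∑ ψ : IrrCharacter G, if ψ ∈ B then
    (innerL (ψ : G → ℂ)).smulRight (pRegularPart p (ψ : G → ℂ)) else 0

theorem projL_apply (p : ℕ) (B : Set (IrrCharacter G)) [Fintype (IrrCharacter G)]
    [DecidablePred (· ∈ B)] (f : G → ℂ) :
    projL p B f = ∑ ψ : IrrCharacter G, if ψ ∈ B then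
      classInner f (ψ : G → ℂ) • pRegularPart p (ψ : G → ℂ) else 0 := by
  rw [projL, LinearMap.sum_apply]
  refine Finset.sum_congr rfl fun ψ _ => ?_
  split_ifs
  · rw [LinearMap.smulRight_apply, innerL_apply]
  · rfl

theorem trace_projL (p : ℕ) (B : Set (IrrCharacter G)) [Fintype (IrrCharacter G)]
    [DecidablePred (· ∈ B)] :
    LinearMap.trace ℂ (G → ℂ) (projL p B) = ∑ ψ : IrrCharacter G, if ψ ∈ B then
      classInner (pRegularPart p (ψ : G → ℂ)) (ψ : G → ℂ) else 0 := by
  rw [projL, map_sum]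
  refine Finset.sum_congr rfl fun ψ _ => ?_
  split_ifs
  · rw [LinearMap.trace_smulRight, innerL_apply]
  · rw [map_zero]

/-- The projection fixes `ψ̃` for `ψ` in the block. -/
theorem projL_fix [Fintype (IrrCharacter G)] {p : ℕ} [hp : Fact p.Prime]
    (hM : IsPModular p M) {B : Set (IrrCharacter G)} [DecidablePred (· ∈ B)] (hB : IsPBlock M B)
    (ψ' : IrrCharacter G) (hψ' : ψ' ∈ B) :
    projL p B (pRegularPart p (ψ' : G → ℂ)) = pRegularPart p (ψ' : G → ℂ) := by
  rw [projL_apply]
  have hcf : IsClassFunction G (pRegularPart p (ψ' : G → ℂ)) := by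
    rw [pRegularPart_fun]
    exact Cfsg.Agent.Helper8.PRegular.isClassFunction_pRegular p 1 (isClassFunction_irr ψ')
  have h1 : ∀ ψ : IrrCharacter G,
      (if ψ ∈ B then classInner (pRegularPart p (ψ' : G → ℂ)) (ψ : G → ℂ) •
        pRegularPart p (ψ : G → ℂ) else 0) =
      truncL p (classInner (pRegularPart p (ψ' : G → ℂ)) (ψ : G → ℂ) • (ψ : G → ℂ)) := by
    intro ψ
    rw [map_smul, truncL_apply]
    by_cases hψ : ψ ∈ B
    · rw [if_pos hψ]
    · rw [if_neg hψ]
      have h0 := Cfsg.Agent.Helper8.BlockReg.classInner_pRegular_eq_zero hM hB ψ' ψ hψ' hψ 1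
      rw [← pRegularPart_fun] at h0
      rw [h0, zero_smul]
  rw [Finset.sum_congr rfl (fun ψ _ => h1 ψ), ← map_sum, ← IsClassFunction.eq_sum_classInner hcf,
    truncL_apply, pRegularPart_idem]

/-- **The `p`-regular rank of a block as a trace.** -/
theorem blockRank_eq_sum [Fintype (IrrCharacter G)] {p : ℕ} [hp : Fact p.Prime]
    (hM : IsPModular p M) {B : Set (IrrCharacter G)} [DecidablePred (· ∈ B)] (hB : IsPBlock M B) :
    (blockRank p B : ℂ) = ∑ ψ : IrrCharacter G, if ψ ∈ B then
      classInner (pRegularPart p (ψ : G → ℂ)) (ψ : G → ℂ) else 0 := by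
  rw [← trace_projL]
  set W : Submodule ℂ (G → ℂ) :=
    Submodule.span ℂ ((fun χ : IrrCharacter G => pRegularPart p (χ : G → ℂ)) '' B) with hW
  have hproj : LinearMap.IsProj W (projL p B) := by
    refine ⟨?_, ?_⟩
    · intro f
      rw [projL_apply]
      refine Submodule.sum_mem _ fun ψ _ => ?_
      split_ifs with hψ
      · exact Submodule.smul_mem _ _ (Submodule.subset_span ⟨ψ, hψ, rfl⟩)
      · exact Submodule.zero_mem _
    · intro f hf
      have : Set.EqOn (projL p B) (LinearMap.id : (G → ℂ) →ₗ[ℂ] (G → ℂ)) (W : Set (G → ℂ)) := by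
        rw [hW]
        apply LinearMap.eqOn_span
        rintro _ ⟨ψ', hψ', rfl⟩
        rw [LinearMap.id_apply]
        exact projL_fix hM hB ψ' hψ'
      exact this hf
  rw [hproj.trace]
  rfl

end Cfsg.Agent.Helper8.RankTr
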