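import Mathlib
import Cfsg.Prelude.Def_Blocks
import Cfsg.Agent.Helper5.PPart
import Cfsg.Agent.Helper5.RelDefectZero
import Cfsg.Agent.Helper8.PRegular

/-!
# Summation over a finite group by `p`-sections

If `X` is a set of representatives of the classes of `p`-elements of `G` and `F` is invariant
under conjugation, then
`∑_g F(g) = ∑_{x ∈ X} |G : C_G(x)| ∑_{y ∈ C_G(x) p-regular} F(x y)`.
-/

set_option autoImplicit false

namespace Cfsg.Agent.Helper8.SecSum

open Cfsg Cfsg.Agent.Helper5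

variable {G : Type*} [Group G]

theorem IsPPart_conj {p : ℕ} {g z : G} (h : IsPPart p g z) (t : G) :
    IsPPart p (t * g * t⁻¹) (t * z * t⁻¹) := by
  obtain ⟨y, hzy, hc, ⟨k, hk⟩, hy⟩ := h
  refine ⟨t * y * t⁻¹, ?_, ?_, ⟨k, ?_⟩, ?_⟩
  · rw [← hzy]; group
  · show t * z * t⁻¹ * (t * y * t⁻¹) = t * y * t⁻¹ * (t * z * t⁻¹)
    have := hc.eq
    calc t * z * t⁻¹ * (t * y * t⁻¹) = t * (z * y) * t⁻¹ := by group
      _ = t * (y * z) * t⁻¹ := by rw [this]
      _ = t * y * t⁻¹ * (t * z * t⁻¹) := by group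
  · rw [Cfsg.Agent.Helper8.PRegular.orderOf_conj_eq, hk]
  · rw [Cfsg.Agent.Helper8.PRegular.orderOf_conj_eq]; exact hy

/-- A chosen `p`-part. -/
noncomputable def pp [Finite G] (p : ℕ) [hp : Fact p.Prime] (g : G) : G :=
  Classical.choose (Cfsg.Agent.Helper5.RDZ.exists_isPPart p g)

theorem pp_spec [Finite G] (p : ℕ) [hp : Fact p.Prime] (g : G) : IsPPart p g (pp p g) :=
  Classical.choose_spec (Cfsg.Agent.Helper5.RDZ.exists_isPPart p g)

theorem pp_eq [Finite G] {p : ℕ} [hp : Fact p.Prime] {g z : G} (h : IsPPart p g z) :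
    pp p g = z :=
  isPPart_unique (pp_spec p g) h

theorem pp_conj [Finite G] (p : ℕ) [hp : Fact p.Prime] (g t : G) :
    pp p (t * g * t⁻¹) = t * pp p g * t⁻¹ :=
  pp_eq (IsPPart_conj (pp_spec p g) t)

theorem pp_isPElement [Finite G] (p : ℕ) [hp : Fact p.Prime] (g : G) :
    ∃ k : ℕ, orderOf (pp p g) = p ^ k := by
  obtain ⟨y, _, _, hk, _⟩ := pp_spec p g
  exact hk

theorem pp_mul_iff [Finite G] {p : ℕ} [hp : Fact p.Prime] {x : G}
    (hx : ∃ k : ℕ, orderOf x = p ^ k) (y : G) :
    pp p (x * y) = x ↔ (Commute x y ∧ ¬ p ∣ orderOf y) := by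
  constructor
  · intro h
    have hs := pp_spec p (x * y)
    rw [h] at hs
    obtain ⟨y', hxy, hc, _, hy⟩ := hs
    have : y' = y := mul_left_cancel hxy
    rw [this] at hc hy
    exact ⟨hc, hy⟩
  · rintro ⟨hc, hy⟩
    exact pp_eq ⟨y, rfl, hc, hx, hy⟩

/-- The number of elements conjugating `x` to `z`. -/
theorem card_transporter [Fintype G] [DecidableEq G] (x z : G) [Decidable (IsConj x z)] :
    ((Finset.univ.filter (fun t : G => t * x * t⁻¹ = z)).card : ℂ) =
      if IsConj x z then (Nat.card (Subgroup.centralizer ({x} : Set G)) : ℂ) else 0 := by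
  by_cases h : IsConj x z
  · rw [if_pos h]
    obtain ⟨t₀, ht₀⟩ := isConj_iff.mp h
    congr 1
    rw [← Fintype.card_subtype, ← Nat.card_eq_fintype_card]
    apply Nat.card_congr
    refine ⟨fun t => ⟨t₀⁻¹ * (t : G), ?_⟩, fun c => ⟨t₀ * (c : G), ?_⟩, ?_, ?_⟩
    · rw [Subgroup.mem_centralizer_iff]
      intro w hw
      rw [Set.mem_singleton_iff] at hw
      subst hw
      have h1 := t.2
      have h2 : (t : G) * w * (t : G)⁻¹ = t₀ * w * t₀⁻¹ := by rw [h1, ht₀]
      have h3 : w * (t₀⁻¹ * (t : G)) = t₀⁻¹ * (t₀ * w * t₀⁻¹) * (t : G) := by group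
      rw [h3, ← h2]; group
    · have hc := c.2
      rw [Subgroup.mem_centralizer_iff] at hc
      have h1 := hc x (Set.mem_singleton x)
      show t₀ * (c : G) * x * (t₀ * (c : G))⁻¹ = z
      rw [← ht₀]
      have : t₀ * (c : G) * x * (t₀ * (c : G))⁻¹ = t₀ * ((c : G) * x) * (c : G)⁻¹ * t₀⁻¹ := by group
      rw [this, ← h1]; group
    · intro t
      apply Subtype.ext
      show t₀ * (t₀⁻¹ * (t : G)) = (t : G)
      group
    · intro c
      apply Subtype.ext
      show t₀⁻¹ * (t₀ * (c : G)) = (c : G)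
      group
  · rw [if_neg h]
    have : Finset.univ.filter (fun t : G => t * x * t⁻¹ = z) = ∅ := by
      rw [Finset.filter_eq_empty_iff]
      intro t _ ht
      exact h (isConj_iff.mpr ⟨t, ht⟩)
    rw [this, Finset.card_empty, Nat.cast_zero]

/-- **Summation by `p`-sections.** -/
theorem sum_eq_sum_sections [Fintype G] [DecidableEq G] {p : ℕ} [hp : Fact p.Prime] (X : Finset G)
    (hX : ∀ x ∈ X, ∃ k : ℕ, orderOf x = p ^ k)
    (hXrep : ∀ g : G, (∃ k : ℕ, orderOf g = p ^ k) → ∃! x, x ∈ X ∧ IsConj g x)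
    (F : G → ℂ) (hF : ∀ g t : G, F (t * g * t⁻¹) = F g) :
    ∑ g : G, F g = ∑ x ∈ X,
      ((Nat.card G : ℂ) / (Nat.card (Subgroup.centralizer ({x} : Set G)) : ℂ)) *
        ∑ y : G, (if (x * y = y * x ∧ ¬ p ∣ orderOf y) then F (x * y) else 0) := by
  have h1 : ∀ g : G, F g = ∑ x ∈ X, if IsConj x (pp p g) then F g else 0 := by
    intro g
    obtain ⟨x₀, ⟨hx₀X, hx₀c⟩, huniq⟩ := hXrep (pp p g) (pp_isPElement p g)
    rw [Finset.sum_eq_single x₀]
    · rw [if_pos hx₀c.symm]
    · intro x hxX hne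
      rw [if_neg]
      intro hc
      exact hne (huniq x ⟨hxX, hc.symm⟩)
    · intro h; exact absurd hx₀X h
  rw [Finset.sum_congr rfl (fun g _ => h1 g), Finset.sum_comm]
  refine Finset.sum_congr rfl fun x hxX => ?_
  set Cx : ℂ := (Nat.card (Subgroup.centralizer ({x} : Set G)) : ℂ) with hCx
  have hCx0 : Cx ≠ 0 := by
    rw [hCx]
    exact_mod_cast (Nat.card_pos (α := Subgroup.centralizer ({x} : Set G))).ne'
  -- the key double count
  have key : Cx * ∑ g : G, (if IsConj x (pp p g) then F g else 0) =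
      (Nat.card G : ℂ) * ∑ g : G, (if pp p g = x then F g else 0) := by
    have e1 : Cx * ∑ g : G, (if IsConj x (pp p g) then F g else 0) =
        ∑ g : G, ∑ t : G, (if t * x * t⁻¹ = pp p g then F g else 0) := by
      rw [Finset.mul_sum]
      refine Finset.sum_congr rfl fun g _ => ?_
      rw [← Finset.sum_filter, Finset.sum_const, nsmul_eq_mul, card_transporter x (pp p g)]
      split_ifs <;> ring
    rw [e1, Finset.sum_comm]
    have e2 : ∀ t : G, ∑ g : G, (if t * x * t⁻¹ = pp p g then F g else 0) =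
        ∑ g : G, (if pp p g = x then F g else 0) := by
      intro t
      symm
      refine Fintype.sum_equiv (MulAut.conj t).toEquiv _ _ fun g => ?_
      show (if pp p g = x then F g else 0) =
        if t * x * t⁻¹ = pp p (MulAut.conj t g) then F (MulAut.conj t g) else 0
      rw [MulAut.conj_apply, pp_conj, hF]
      by_cases h : pp p g = x
      · rw [if_pos h, if_pos (by rw [h])]
      · rw [if_neg h, if_neg]
        intro h'
        apply h
        have := congrArg (fun w => t⁻¹ * w * t) h'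
        beta_reduce at this
        have e : t⁻¹ * (t * x * t⁻¹) * t = x := by group
        have e' : t⁻¹ * (t * pp p g * t⁻¹) * t = pp p g := by group
        rw [e, e'] at this
        exact this.symm
    rw [Finset.sum_congr rfl (fun t _ => e2 t), Finset.sum_const, Finset.card_univ,
      nsmul_eq_mul, Nat.card_eq_fintype_card]
  have e3 : ∑ g : G, (if pp p g = x then F g else 0) =
      ∑ y : G, (if (x * y = y * x ∧ ¬ p ∣ orderOf y) then F (x * y) else 0) := by
    symm
    refine Fintype.sum_equiv (Equiv.mulLeft x) _ _ fun y => ?_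
    show _ = if pp p (x * y) = x then F (x * y) else 0
    by_cases h : x * y = y * x ∧ ¬ p ∣ orderOf y
    · rw [if_pos h, if_pos ((pp_mul_iff (hX x hxX) y).mpr h)]
    · rw [if_neg h, if_neg (fun h' => h ((pp_mul_iff (hX x hxX) y).mp h'))]
  rw [← e3, div_mul_eq_mul_div, ← key]
  field_simp

end Cfsg.Agent.Helper8.SecSum
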