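import Mathlib
import Cfsg.Prelude.Def_Blocks
import Cfsg.Agent.Helper5.StrongOrth
import Cfsg.Agent.Helper24.ColumnOrth
import Cfsg.Agent.Helper24.Expansion
import Cfsg.Agent.Helper8.SectionSum

/-!
# Block-refined orthogonality on a `p`-section

Let `x` be a `p`-element of `G`, `C = C_G(x)`, `B` a `p`-block of `G` and `S` the union of the
blocks of `C` inducing `B`. Then
`∑_{y ∈ C p-regular} ∑_{χ ∈ B} |χ(x y)|² = ∑_{ψ ∈ S} ∑_{y ∈ C p-regular} |ψ(y)|²`.
-/

set_option autoImplicit false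

namespace Cfsg.Agent.Helper8.SecCore

open Cfsg Cfsg.Agent.Helper24 Cfsg.Agent.Helper5 Cfsg.Agent.Helper5.CC Cfsg.Agent.Helper5.Loc

variable {G : Type*} [Group G] [Fintype G] {M : Ideal AlgInt}

/-- The union of the blocks of `C` inducing `B`. -/
def indSet (M : Ideal AlgInt) (C : Subgroup G) (B : Set (IrrCharacter G)) :
    Set (IrrCharacter C) :=
  {ψ | IsInducedBlock M C (blockOf M (ψ : C → ℂ)) B}

omit [Fintype G] in
theorem indSet_closed (hMp : M.IsPrime) (C : Subgroup G) (B : Set (IrrCharacter G)) :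
    ∀ ψ ∈ indSet M C B, blockOf M (ψ : C → ℂ) ⊆ indSet M C B := by
  intro ψ hψ ψ' hψ'
  show IsInducedBlock M C (blockOf M (ψ' : C → ℂ)) B
  rw [← blockOf_eq_of_sameBlock hMp hψ']
  exact hψ

/-- The second main theorem in idempotent form, for all characters at once. -/
theorem step1 [Fintype (IrrCharacter G)] {p : ℕ} [hp : Fact p.Prime]
    (hM : IsPModular p M) (x : G) (hx : ∃ k : ℕ, orderOf x = p ^ k)
    (C : Subgroup G) [Fintype C] (hxC : x ∈ C) (hcomm : ∀ c : C, x * (c : G) = (c : G) * x)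
    (hcent : Subgroup.centralizer ({x} : Set G) ≤ C)
    (B : Set (IrrCharacter G)) (hB : IsPBlock M B) (y : C) (hy : ¬ p ∣ orderOf y)
    (χ : IrrCharacter G) [Decidable (χ ∈ B)] :
    ∑ k : C, blockCoeff (indSet M C B) k * (χ : G → ℂ) ((k : G) * (x * (y : G))) =
      if χ ∈ B then (χ : G → ℂ) (x * (y : G)) else 0 := by
  classical
  have hMp := isPrime_of_isPModular hM
  have : Fintype (IrrCharacter C) := Fintype.ofFinite _
  have : Finite G := Finite.of_fintype G
  obtain ⟨k, hk⟩ := hx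
  have hP : IsPGroup p (Subgroup.zpowers x) := by
    apply IsPGroup.of_card (n := k)
    rw [Nat.card_zpowers, hk]
  have hPH : Subgroup.zpowers x ≤ C := by
    rw [Subgroup.zpowers_le]; exact hxC
  have hCH : Subgroup.centralizer ((Subgroup.zpowers x : Subgroup G) : Set G) ≤ C := by
    refine le_trans (Subgroup.centralizer_le ?_) hcent
    rw [Set.singleton_subset_iff]
    exact Subgroup.mem_zpowers x
  have hHN : C ≤ Subgroup.normalizer ((Subgroup.zpowers x : Subgroup G) : Set G) := by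
    refine le_trans ?_ (Subgroup.centralizer_le_normalizer _)
    intro c hc
    rw [Subgroup.mem_centralizer_iff]
    intro q hq
    obtain ⟨i, rfl⟩ := Subgroup.mem_zpowers_iff.mp hq
    have h1 : Commute x c := hcomm ⟨c, hc⟩
    exact (h1.zpow_left i).eq
  have hdef : ∀ b : Set (IrrCharacter C), IsPBlock M b → InducedBlockDefined M C b := fun b hb =>
    Cfsg.Agent.S0919.result p M hM (Subgroup.zpowers x) C hP hPH hCH hHN b hb
  set S : Set (IrrCharacter C) := indSet M C B with hSdef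
  have hS : ∀ ψ ∈ S, blockOf M (ψ : C → ℂ) ⊆ S := indSet_closed hMp C B
  have hSc : ∀ ψ ∈ Sᶜ, blockOf M (ψ : C → ℂ) ⊆ Sᶜ := by
    intro ψ hψ ψ' hψ' hcon
    apply hψ
    show IsInducedBlock M C (blockOf M (ψ : C → ℂ)) B
    rw [blockOf_eq_of_sameBlock hMp hψ']
    exact hcon
  have hxyC : x * (y : G) ∈ C := C.mul_mem hxC y.2
  have hy' : ¬ p ∣ orderOf (y : G) := by rwa [Subgroup.orderOf_coe]
  have hpp : IsPPart p (x * (y : G)) x := ⟨(y : G), rfl, hcomm y, ⟨k, hk⟩, hy'⟩
  have hCu : ∀ z : G, IsPPart p (((⟨x * (y : G), hxyC⟩ : C) : G)) z →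
      Subgroup.centralizer ({z} : Set G) ≤ C := by
    intro z hz
    have : x = z := isPPart_unique hpp hz
    rw [← this]
    exact hcent
  have hsum : ∑ k : C, blockCoeff S k * (χ : G → ℂ) ((k : G) * (x * (y : G))) +
      ∑ k : C, blockCoeff Sᶜ k * (χ : G → ℂ) ((k : G) * (x * (y : G))) =
      (χ : G → ℂ) (x * (y : G)) := by
    rw [← Finset.sum_add_distrib]
    simp_rw [← add_mul, blockCoeff_add_compl]
    rw [Finset.sum_eq_single (1 : C)]
    · rw [deltaOne_apply_one, one_mul, Subgroup.coe_one, one_mul]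
    · intro k _ hk1; rw [deltaOne_apply_ne hk1, zero_mul]
    · intro h; exact absurd (Finset.mem_univ _) h
  by_cases hχ : χ ∈ B
  · rw [if_pos hχ]
    have h0 : ∑ k : C, blockCoeff Sᶜ k * (χ : G → ℂ) ((k : G) * (x * (y : G))) = 0 := by
      apply second_main_union hM C Sᶜ hSc ⟨x * (y : G), hxyC⟩ hCu χ
      intro ψ hψ
      obtain ⟨B', hB'⟩ := hdef _ (isPBlock_blockOf ψ)
      refine ⟨B', hB', ?_⟩
      intro hcon
      apply hψ
      show IsInducedBlock M C (blockOf M (ψ : C → ℂ)) B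
      have e1 := IsPBlock_eq_blockOf hMp hB hχ
      have e2 := IsPBlock_eq_blockOf hMp hB'.2.1 hcon
      rw [e1, ← e2]
      exact hB'
    rw [h0, add_zero] at hsum
    exact hsum
  · rw [if_neg hχ]
    apply second_main_union hM C S hS ⟨x * (y : G), hxyC⟩ hCu χ
    intro ψ hψ
    exact ⟨B, hψ, hχ⟩

/-- For a union of blocks `S` and a `p`-regular `y`, the `S`-part at `y` of a function only depends
on the values at the `p`-regular elements. -/
theorem sum_classInner_congr [Fintype (IrrCharacter G)] {p : ℕ} [hp : Fact p.Prime]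
    (hM : IsPModular p M) (S : Set (IrrCharacter G)) [DecidablePred (· ∈ S)]
    (hS : ∀ ψ ∈ S, blockOf M (ψ : G → ℂ) ⊆ S)
    (f g : G → ℂ) (hfg : ∀ c : G, ¬ p ∣ orderOf c → f c = g c) (y : G) (hy : ¬ p ∣ orderOf y) :
    ∑ ψ : IrrCharacter G, (if ψ ∈ S then classInner f (ψ : G → ℂ) * (ψ : G → ℂ) y else 0) =
    ∑ ψ : IrrCharacter G, (if ψ ∈ S then classInner g (ψ : G → ℂ) * (ψ : G → ℂ) y else 0) := by
  have h2 : ∀ (F : G → ℂ), ∑ ψ : IrrCharacter G,
      (if ψ ∈ S then classInner F (ψ : G → ℂ) * (ψ : G → ℂ) y else 0) =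
      ∑ c : G, (Nat.card G : ℂ)⁻¹ * F c *
        ∑ ψ : IrrCharacter G,
          (if ψ ∈ S then (ψ : G → ℂ) y * (starRingEnd ℂ) ((ψ : G → ℂ) c) else 0) := by
    intro F
    simp_rw [Finset.mul_sum]
    rw [Finset.sum_comm]
    refine Finset.sum_congr rfl fun ψ _ => ?_
    by_cases hψ : ψ ∈ S
    · simp only [if_pos hψ, classInner]
      rw [Finset.mul_sum, Finset.sum_mul]
      refine Finset.sum_congr rfl fun c _ => ?_
      ring
    · simp only [if_neg hψ, mul_zero, Finset.sum_const_zero]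
  rw [h2 f, h2 g]
  refine Finset.sum_congr rfl fun c _ => ?_
  by_cases hc : p ∣ orderOf c
  · have := block_orthogonality_union hM S hS y c hy hc
    rw [finsum_mem_eq_sum_ite] at this
    rw [this, mul_zero, mul_zero]
  · rw [hfg c hc]

omit [Fintype G] in
/-- An element commuting with `x * c` commutes with `x` (`x` a `p`-element, `c` a `p`-regular
element commuting with `x`). -/
theorem conj_eq_of_conj_mul {p : ℕ} [hp : Fact p.Prime] (x : G) (hx : ∃ k : ℕ, orderOf x = p ^ k)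
    (c c' : G) (hxc : Commute x c) (hxc' : Commute x c')
    (hc : ¬ p ∣ orderOf c) (hc' : ¬ p ∣ orderOf c') (t : G)
    (ht : t * (x * c) * t⁻¹ = x * c') : t * x * t⁻¹ = x ∧ t * c * t⁻¹ = c' := by
  have hpp1 : IsPPart p (x * c') x := ⟨c', rfl, hxc', hx, hc'⟩
  have hpp2 : IsPPart p (t * (x * c) * t⁻¹) (t * x * t⁻¹) :=
    SecSum.IsPPart_conj ⟨c, rfl, hxc, hx, hc⟩ t
  rw [ht] at hpp2
  have htx : t * x * t⁻¹ = x := isPPart_unique hpp2 hpp1
  refine ⟨htx, ?_⟩
  have h1 : t * (x * c) * t⁻¹ = (t * x * t⁻¹) * (t * c * t⁻¹) := by group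
  rw [h1, htx] at ht
  exact mul_left_cancel ht

omit [Fintype G] in
theorem mem_of_conj_eq (x : G) (C : Subgroup G)
    (hcent : Subgroup.centralizer ({x} : Set G) ≤ C) (t : G) (htx : t * x * t⁻¹ = x) : t ∈ C := by
  apply hcent
  rw [Subgroup.mem_centralizer_iff]
  intro w hw
  rw [Set.mem_singleton_iff] at hw
  subst hw
  have : t * w = w * t := by
    calc t * w = t * w * t⁻¹ * t := by group
      _ = w * t := by rw [htx]
  exact this.symm

omit [Fintype G] in
theorem isConj_mul_iff {p : ℕ} [hp : Fact p.Prime] (x : G) (hx : ∃ k : ℕ, orderOf x = p ^ k)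
    (C : Subgroup G) (hcomm : ∀ c : C, x * (c : G) = (c : G) * x)
    (hcent : Subgroup.centralizer ({x} : Set G) ≤ C) (c c' : C)
    (hc : ¬ p ∣ orderOf c) (hc' : ¬ p ∣ orderOf c') :
    IsConj (x * (c : G)) (x * (c' : G)) ↔ IsConj c c' := by
  have hcG : ¬ p ∣ orderOf (c : G) := by rwa [Subgroup.orderOf_coe]
  have hc'G : ¬ p ∣ orderOf (c' : G) := by rwa [Subgroup.orderOf_coe]
  constructor
  · intro h
    obtain ⟨t, ht⟩ := isConj_iff.mp h
    obtain ⟨htx, htc⟩ := conj_eq_of_conj_mul x hx c c' (hcomm c) (hcomm c') hcG hc'G t ht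
    have htC : t ∈ C := mem_of_conj_eq x C hcent t htx
    rw [isConj_iff]
    refine ⟨⟨t, htC⟩, ?_⟩
    apply Subtype.ext
    show t * (c : G) * t⁻¹ = (c' : G)
    exact htc
  · intro h
    obtain ⟨t, ht⟩ := isConj_iff.mp h
    rw [isConj_iff]
    refine ⟨(t : G), ?_⟩
    have h1 : (t : G) * (c : G) * (t : G)⁻¹ = (c' : G) := by
      have := congrArg Subtype.val ht
      simpa using this
    have h2 := hcomm t
    calc (t : G) * (x * (c : G)) * (t : G)⁻¹ = ((t : G) * x) * (c : G) * (t : G)⁻¹ := by group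
      _ = (x * (t : G)) * (c : G) * (t : G)⁻¹ := by rw [h2]
      _ = x * ((t : G) * (c : G) * (t : G)⁻¹) := by group
      _ = x * (c' : G) := by rw [h1]

omit [Fintype G] in
theorem card_centralizer_mul {p : ℕ} [hp : Fact p.Prime] (x : G)
    (hx : ∃ k : ℕ, orderOf x = p ^ k)
    (C : Subgroup G) (hcomm : ∀ c : C, x * (c : G) = (c : G) * x)
    (hcent : Subgroup.centralizer ({x} : Set G) ≤ C) (c : C) (hc : ¬ p ∣ orderOf c) :
    Nat.card (Subgroup.centralizer ({x * (c : G)} : Set G)) =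
      Nat.card (Subgroup.centralizer ({c} : Set C)) := by
  have hcG : ¬ p ∣ orderOf (c : G) := by rwa [Subgroup.orderOf_coe]
  have key : ∀ g : G, g ∈ Subgroup.centralizer ({x * (c : G)} : Set G) →
      g * x * g⁻¹ = x ∧ g * (c : G) * g⁻¹ = (c : G) := by
    intro g hg
    rw [Subgroup.mem_centralizer_iff] at hg
    have h1 := hg _ (Set.mem_singleton _)
    have h2 : g * (x * (c : G)) * g⁻¹ = x * (c : G) := by
      rw [← h1]; group
    exact conj_eq_of_conj_mul x hx c c (hcomm c) (hcomm c) hcG hcG g h2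
  apply Nat.card_congr
  refine ⟨fun g => ⟨⟨(g : G), mem_of_conj_eq x C hcent g (key g g.2).1⟩, ?_⟩,
    fun g => ⟨((g : C) : G), ?_⟩, ?_, ?_⟩
  · rw [Subgroup.mem_centralizer_iff]
    intro w hw
    rw [Set.mem_singleton_iff] at hw
    subst hw
    apply Subtype.ext
    show (w : G) * (g : G) = (g : G) * (w : G)
    have := (key g g.2).2
    calc (w : G) * (g : G) = (g : G) * (w : G) * (g : G)⁻¹ * (g : G) := by rw [this]
      _ = (g : G) * (w : G) := by group
  · have hg := g.2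
    rw [Subgroup.mem_centralizer_iff] at hg ⊢
    intro w hw
    rw [Set.mem_singleton_iff] at hw
    subst hw
    have h1 := congrArg Subtype.val (hg c (Set.mem_singleton c))
    simp only [Subgroup.coe_mul] at h1
    have h2 := hcomm (g : C)
    calc x * (c : G) * ((g : C) : G) = x * ((c : G) * ((g : C) : G)) := by group
      _ = x * (((g : C) : G) * (c : G)) := by rw [h1]
      _ = (x * ((g : C) : G)) * (c : G) := by group
      _ = (((g : C) : G) * x) * (c : G) := by rw [h2]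
      _ = ((g : C) : G) * (x * (c : G)) := by group
  · intro g; rfl
  · intro g; rfl

/-- **The kernels agree on the `p`-regular elements.** -/
theorem sum_irr_section_eq [Fintype (IrrCharacter G)] {p : ℕ} [hp : Fact p.Prime] (x : G)
    (hx : ∃ k : ℕ, orderOf x = p ^ k)
    (C : Subgroup G) [Fintype C] [Fintype (IrrCharacter C)]
    (hcomm : ∀ c : C, x * (c : G) = (c : G) * x)
    (hcent : Subgroup.centralizer ({x} : Set G) ≤ C) (c c' : C)
    (hc : ¬ p ∣ orderOf c) (hc' : ¬ p ∣ orderOf c') :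
    ∑ χ : IrrCharacter G, (χ : G → ℂ) (x * (c : G)) * (starRingEnd ℂ) ((χ : G → ℂ) (x * (c' : G))) =
    ∑ ψ : IrrCharacter C, (ψ : C → ℂ) c * (starRingEnd ℂ) ((ψ : C → ℂ) c') := by
  classical
  rw [sum_irr_mul_conj, sum_irr_mul_conj]
  by_cases h : IsConj c c'
  · rw [if_pos h, if_pos ((isConj_mul_iff x hx C hcomm hcent c c' hc hc').mpr h),
      card_centralizer_mul x hx C hcomm hcent c hc]
  · rw [if_neg h, if_neg (fun h' => h ((isConj_mul_iff x hx C hcomm hcent c c' hc hc').mp h'))]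

/-- Expansion of a sum of squared inner products through the kernel of the family. -/
theorem kernel_expand {T I : Type*} [Fintype T] [Fintype I] (u : I → T → ℂ) (w r : T → ℂ)
    (hr : ∀ c, (starRingEnd ℂ) (r c) = r c) (N : ℂ) (hN : (starRingEnd ℂ) N = N) (hN0 : N ≠ 0) :
    ∑ i : I, (N⁻¹ * ∑ c : T, r c * u i c * (starRingEnd ℂ) (w c)) *
      (N * (starRingEnd ℂ) (N⁻¹ * ∑ c : T, r c * u i c * (starRingEnd ℂ) (w c))) =
    N⁻¹ * ∑ c : T, ∑ c' : T, (r c * r c' * (starRingEnd ℂ) (w c) * w c') *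
      ∑ i : I, u i c * (starRingEnd ℂ) (u i c') := by
  have h1 : ∀ i : I, (N⁻¹ * ∑ c : T, r c * u i c * (starRingEnd ℂ) (w c)) *
      (N * (starRingEnd ℂ) (N⁻¹ * ∑ c : T, r c * u i c * (starRingEnd ℂ) (w c))) =
      N⁻¹ * ∑ c : T, ∑ c' : T, (r c * r c' * (starRingEnd ℂ) (w c) * w c') *
        (u i c * (starRingEnd ℂ) (u i c')) := by
    intro i
    rw [map_mul, map_inv₀, hN, map_sum]
    have e : N⁻¹ * (∑ c : T, r c * u i c * (starRingEnd ℂ) (w c)) *
        (N * (N⁻¹ * ∑ c : T, (starRingEnd ℂ) (r c * u i c * (starRingEnd ℂ) (w c)))) =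
        N⁻¹ * ((∑ c : T, r c * u i c * (starRingEnd ℂ) (w c)) *
          ∑ c : T, (starRingEnd ℂ) (r c * u i c * (starRingEnd ℂ) (w c))) := by
      field_simp
    rw [e, Finset.sum_mul_sum]
    congr 1
    refine Finset.sum_congr rfl fun c _ => ?_
    refine Finset.sum_congr rfl fun c' _ => ?_
    rw [map_mul, map_mul, hr, Complex.conj_conj]
    ring
  rw [Finset.sum_congr rfl (fun i _ => h1 i), ← Finset.mul_sum]
  congr 1
  rw [Finset.sum_comm]
  refine Finset.sum_congr rfl fun c _ => ?_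
  rw [Finset.sum_comm]
  refine Finset.sum_congr rfl fun c' _ => ?_
  rw [Finset.mul_sum]

/-- **Block-refined orthogonality on the `p`-section of `x`.** -/
theorem core [Fintype (IrrCharacter G)] {p : ℕ} [hp : Fact p.Prime]
    (hM : IsPModular p M) (x : G) (hx : ∃ k : ℕ, orderOf x = p ^ k)
    (C : Subgroup G) [Fintype C] [Fintype (IrrCharacter C)] (hxC : x ∈ C)
    (hcomm : ∀ c : C, x * (c : G) = (c : G) * x)
    (hcent : Subgroup.centralizer ({x} : Set G) ≤ C)
    (B : Set (IrrCharacter G)) [DecidablePred (· ∈ B)] (hB : IsPBlock M B)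
    [DecidablePred (· ∈ indSet M C B)] :
    ∑ y : C, (if p ∣ orderOf y then (0 : ℂ) else ∑ χ : IrrCharacter G,
      if χ ∈ B then
        (χ : G → ℂ) (x * (y : G)) * (starRingEnd ℂ) ((χ : G → ℂ) (x * (y : G))) else 0) =
    ∑ ψ : IrrCharacter C, if ψ ∈ indSet M C B then
      ∑ y : C, (if p ∣ orderOf y then (0 : ℂ) else
        (ψ : C → ℂ) y * (starRingEnd ℂ) ((ψ : C → ℂ) y))
      else 0 := by
  have hMp := isPrime_of_isPModular hM
  set S := indSet M C B with hSdef
  have hS := indSet_closed hMp C B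
  set r : C → ℂ := fun c => if p ∣ orderOf c then (0 : ℂ) else 1 with hr
  have hrc : ∀ c, (starRingEnd ℂ) (r c) = r c := by
    intro c; simp only [hr]; split_ifs <;> simp
  have hr0 : ∀ c : C, p ∣ orderOf c → r c = 0 := fun c hc => by simp only [hr, if_pos hc]
  have hr1 : ∀ c : C, ¬ p ∣ orderOf c → r c = 1 := fun c hc => by simp only [hr, if_neg hc]
  set N : ℂ := (Nat.card C : ℂ) with hN
  have hN0 : N ≠ 0 := by rw [hN]; exact_mod_cast (Nat.card_pos (α := C)).ne'
  have hNc : (starRingEnd ℂ) N = N := by rw [hN]; exact Complex.conj_natCast _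
  set D : IrrCharacter G → IrrCharacter C → ℂ := fun χ ψ =>
    N⁻¹ * ∑ c : C, r c * (χ : G → ℂ) (x * (c : G)) * (starRingEnd ℂ) ((ψ : C → ℂ) c) with hD
  -- step 2
  have step2 : ∀ (χ : IrrCharacter G) (y : C), ¬ p ∣ orderOf y →
      (if χ ∈ B then (χ : G → ℂ) (x * (y : G)) else 0) =
        ∑ ψ : IrrCharacter C, if ψ ∈ S then D χ ψ * (ψ : C → ℂ) y else 0 := by
    intro χ y hy
    rw [← step1 hM x hx C hxC hcomm hcent B hB y hy χ]
    have hΘ : IsClassFunction C (fun c : C => (χ : G → ℂ) (x * (c : G))) := by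
      intro c h
      show (χ : G → ℂ) (x * ((h * c * h⁻¹ : C) : G)) = (χ : G → ℂ) (x * (c : G))
      rw [← isClassFunction_irr χ (x * (c : G)) (h : G)]
      simp only [Subgroup.coe_mul, Subgroup.coe_inv]
      rw [← mul_assoc, ← mul_assoc, hcomm h]
      group
    have e3 : ∑ k : C, blockCoeff S k * (χ : G → ℂ) ((k : G) * (x * (y : G))) =
        blockPart S (fun c : C => (χ : G → ℂ) (x * (c : G))) y := by
      rw [blockPart_eq_sum_blockCoeff S hΘ y]
      refine Finset.sum_congr rfl fun k _ => ?_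
      congr 1
      show (χ : G → ℂ) ((k : G) * (x * (y : G))) = (χ : G → ℂ) (x * ((k * y : C) : G))
      rw [Subgroup.coe_mul, ← mul_assoc, ← mul_assoc, hcomm k]
    rw [e3]
    have hinstC : Fintype.ofFinite C = ‹Fintype C› := Subsingleton.elim _ _
    simp only [blockPart]
    rw [hinstC, finsum_mem_eq_sum_ite]
    rw [sum_classInner_congr hM S hS (fun c : C => (χ : G → ℂ) (x * (c : G)))
      (fun c : C => r c * (χ : G → ℂ) (x * (c : G))) ?_ y hy]
    · refine Finset.sum_congr rfl fun ψ _ => ?_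
      by_cases hψ : ψ ∈ S
      · rw [if_pos hψ, if_pos hψ]
        simp only [classInner, hD, hN]
      · rw [if_neg hψ, if_neg hψ]
    · intro c hc
      simp only [hr1 c hc, one_mul]
  -- conj D
  have hDconj : ∀ χ ψ, N * (starRingEnd ℂ) (D χ ψ) =
      ∑ y : C, r y * ((ψ : C → ℂ) y * (starRingEnd ℂ) ((χ : G → ℂ) (x * (y : G)))) := by
    intro χ ψ
    simp only [hD, map_mul, map_sum, map_inv₀, Complex.conj_conj, hNc, hrc]
    rw [← mul_assoc, mul_inv_cancel₀ hN0, one_mul]
    refine Finset.sum_congr rfl fun y _ => ?_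
    ring
  -- step 3
  have step3 : ∑ y : C, (if p ∣ orderOf y then (0 : ℂ) else ∑ χ : IrrCharacter G,
      if χ ∈ B then
        (χ : G → ℂ) (x * (y : G)) * (starRingEnd ℂ) ((χ : G → ℂ) (x * (y : G))) else 0) =
      ∑ ψ : IrrCharacter C, if ψ ∈ S then
        ∑ χ : IrrCharacter G, D χ ψ * (N * (starRingEnd ℂ) (D χ ψ)) else 0 := by
    have h1 : ∀ y : C, (if p ∣ orderOf y then (0 : ℂ) else ∑ χ : IrrCharacter G,
        if χ ∈ B then
          (χ : G → ℂ) (x * (y : G)) * (starRingEnd ℂ) ((χ : G → ℂ) (x * (y : G))) else 0) =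
        ∑ χ : IrrCharacter G, ∑ ψ : IrrCharacter C, if ψ ∈ S then
          D χ ψ * (r y * ((ψ : C → ℂ) y * (starRingEnd ℂ) ((χ : G → ℂ) (x * (y : G))))) else 0 := by
      intro y
      by_cases hy : p ∣ orderOf y
      · rw [if_pos hy]
        symm
        apply Finset.sum_eq_zero
        intro χ _
        apply Finset.sum_eq_zero
        intro ψ _
        rw [hr0 y hy]
        split_ifs <;> ring
      · rw [if_neg hy]
        refine Finset.sum_congr rfl fun χ _ => ?_
        have e : (if χ ∈ B then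
            (χ : G → ℂ) (x * (y : G)) * (starRingEnd ℂ) ((χ : G → ℂ) (x * (y : G))) else 0) =
            (if χ ∈ B then (χ : G → ℂ) (x * (y : G)) else 0) *
              (starRingEnd ℂ) ((χ : G → ℂ) (x * (y : G))) := by
          split_ifs <;> ring
        rw [e, step2 χ y hy, Finset.sum_mul]
        refine Finset.sum_congr rfl fun ψ _ => ?_
        rw [hr1 y hy]
        split_ifs <;> ring
    rw [Finset.sum_congr rfl (fun y _ => h1 y), Finset.sum_comm]
    rw [Finset.sum_congr rfl (fun χ _ => Finset.sum_comm), Finset.sum_comm]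
    refine Finset.sum_congr rfl fun ψ _ => ?_
    by_cases hψ : ψ ∈ S
    · simp only [if_pos hψ]
      refine Finset.sum_congr rfl fun χ _ => ?_
      rw [hDconj, Finset.mul_sum]
    · simp only [if_neg hψ, Finset.sum_const_zero]
  rw [step3]
  refine Finset.sum_congr rfl fun ψ _ => ?_
  by_cases hψ : ψ ∈ S
  swap
  · rw [if_neg hψ, if_neg hψ]
  rw [if_pos hψ, if_pos hψ]
  -- step 4
  have k1 := kernel_expand (fun (χ : IrrCharacter G) (c : C) => (χ : G → ℂ) (x * (c : G)))
    (ψ : C → ℂ) r hrc N hNc hN0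
  have k2 := kernel_expand (fun (ψ' : IrrCharacter C) (c : C) => (ψ' : C → ℂ) c)
    (ψ : C → ℂ) r hrc N hNc hN0
  have hker : ∀ c c' : C, (r c * r c' * (starRingEnd ℂ) ((ψ : C → ℂ) c) * (ψ : C → ℂ) c') *
      ∑ χ : IrrCharacter G, (χ : G → ℂ) (x * (c : G)) *
        (starRingEnd ℂ) ((χ : G → ℂ) (x * (c' : G))) =
      (r c * r c' * (starRingEnd ℂ) ((ψ : C → ℂ) c) * (ψ : C → ℂ) c') *
      ∑ ψ' : IrrCharacter C, (ψ' : C → ℂ) c * (starRingEnd ℂ) ((ψ' : C → ℂ) c') := by
    intro c c'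
    by_cases hc : p ∣ orderOf c
    · rw [hr0 c hc]; ring
    by_cases hc' : p ∣ orderOf c'
    · rw [hr0 c' hc']; ring
    rw [sum_irr_section_eq x hx C hcomm hcent c c' hc hc']
  have hk12 : ∑ χ : IrrCharacter G, D χ ψ * (N * (starRingEnd ℂ) (D χ ψ)) =
      ∑ ψ' : IrrCharacter C,
        (N⁻¹ * ∑ c : C, r c * (ψ' : C → ℂ) c * (starRingEnd ℂ) ((ψ : C → ℂ) c)) *
        (N * (starRingEnd ℂ)
          (N⁻¹ * ∑ c : C, r c * (ψ' : C → ℂ) c * (starRingEnd ℂ) ((ψ : C → ℂ) c))) := by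
    rw [k2]
    simp only [hD]
    rw [k1]
    congr 1
    refine Finset.sum_congr rfl fun c _ => ?_
    refine Finset.sum_congr rfl fun c' _ => ?_
    exact hker c c'
  rw [hk12]
  -- Parseval
  set ψt : C → ℂ := fun c => r c * (ψ : C → ℂ) c with hψt
  have hcf : IsClassFunction C ψt := by
    intro c h
    simp only [hψt, hr]
    rw [Cfsg.Agent.Helper8.PRegular.orderOf_conj_eq, isClassFunction_irr ψ c h]
  have hexp := IsClassFunction.eq_sum_classInner hcf
  have hpars : classInner ψt ψt = ∑ ψ' : IrrCharacter C,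
      classInner ψt (ψ' : C → ℂ) * (starRingEnd ℂ) (classInner ψt (ψ' : C → ℂ)) := by
    conv_lhs => rw [hexp]
    rw [classInner_sum_sum]
  have ha : ∀ ψ' : IrrCharacter C,
      N⁻¹ * ∑ c : C, r c * (ψ' : C → ℂ) c * (starRingEnd ℂ) ((ψ : C → ℂ) c) =
      (starRingEnd ℂ) (classInner ψt (ψ' : C → ℂ)) := by
    intro ψ'
    simp only [classInner, hψt, map_mul, map_sum, map_inv₀, Complex.conj_conj, hrc,
      Complex.conj_natCast, hN]
    congr 1
    refine Finset.sum_congr rfl fun c _ => ?_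
    ring
  simp_rw [ha, Complex.conj_conj]
  have e5 : ∑ ψ' : IrrCharacter C, (starRingEnd ℂ) (classInner ψt (ψ' : C → ℂ)) *
      (N * classInner ψt (ψ' : C → ℂ)) = N * classInner ψt ψt := by
    rw [hpars, Finset.mul_sum]
    refine Finset.sum_congr rfl fun ψ' _ => ?_
    ring
  rw [e5]
  simp only [classInner, ← hN]
  rw [← mul_assoc, mul_inv_cancel₀ hN0, one_mul]
  refine Finset.sum_congr rfl fun c _ => ?_
  by_cases hc : p ∣ orderOf c
  · rw [if_pos hc]; simp only [hψt, hr0 c hc]; ring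
  · rw [if_neg hc]; simp only [hψt, hr1 c hc, one_mul]

end Cfsg.Agent.Helper8.SecCore
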