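import Mathlib
import Cfsg.Prelude.Def_BlockRank
import Cfsg.Agent.Helper8.RankTrace
import Cfsg.Agent.Helper8.SectionSum
import Cfsg.Agent.Helper8.SectionCore
import Cfsg.Agent.Helper8.BrauerFeit

/-!
# Brauer's count of the characters of a block by subsections

`k(B) = ∑_{x} ∑_{b^G = B} l(b)`, `x` over representatives of the classes of `p`-elements and `b` over
the blocks of `C_G(x)` inducing `B`.
-/

set_option autoImplicit false

namespace Cfsg.Agent.Helper8.SecCount

open Cfsg Cfsg.Agent.Helper24 Cfsg.Agent.Helper5 Cfsg.Agent.Helper5.CC Cfsg.Agent.Helper5.Loc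
open Cfsg.Agent.Helper8.SecCore

variable {G : Type*} [Group G] [Fintype G] {M : Ideal AlgInt}

/-- The sum of the ranks of the blocks of `H` inducing `B`. -/
theorem sum_blockRank_eq {p : ℕ} [hp : Fact p.Prime] (hM : IsPModular p M)
    (H : Subgroup G) [Fintype H] [Fintype (IrrCharacter H)] (B : Set (IrrCharacter G))
    [DecidablePred (· ∈ indSet M H B)] :
    ((∑ᶠ b ∈ {b : Set (IrrCharacter H) | IsInducedBlock M H b B}, blockRank p b : ℕ) : ℂ) =
      ∑ ψ : IrrCharacter H, if ψ ∈ indSet M H B then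
        classInner (pRegularPart p (ψ : H → ℂ)) (ψ : H → ℂ) else 0 := by
  classical
  have hMp := isPrime_of_isPModular hM
  have hfin : ({b : Set (IrrCharacter H) | IsInducedBlock M H b B}).Finite := Set.toFinite _
  rw [finsum_mem_eq_finite_toFinset_sum _ hfin, Nat.cast_sum]
  have h1 : ∀ b ∈ hfin.toFinset, ((blockRank p b : ℕ) : ℂ) =
      ∑ ψ : IrrCharacter H, if ψ ∈ b then
        classInner (pRegularPart p (ψ : H → ℂ)) (ψ : H → ℂ) else 0 := by
    intro b hb
    rw [Set.Finite.mem_toFinset] at hb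
    exact Cfsg.Agent.Helper8.RankTr.blockRank_eq_sum hM hb.1
  rw [Finset.sum_congr rfl h1, Finset.sum_comm]
  refine Finset.sum_congr rfl fun ψ _ => ?_
  by_cases hψ : ψ ∈ indSet M H B
  · rw [if_pos hψ, Finset.sum_eq_single (blockOf M (ψ : H → ℂ))]
    · rw [if_pos (mem_blockOf_self hMp ψ)]
    · intro b hb hne
      rw [if_neg]
      intro hψb
      rw [Set.Finite.mem_toFinset] at hb
      exact hne (IsPBlock_eq_blockOf hMp hb.1 hψb)
    · intro h
      exfalso
      apply h
      rw [Set.Finite.mem_toFinset]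
      exact hψ
  · rw [if_neg hψ]
    apply Finset.sum_eq_zero
    intro b hb
    rw [if_neg]
    intro hψb
    rw [Set.Finite.mem_toFinset] at hb
    apply hψ
    show IsInducedBlock M H (blockOf M (ψ : H → ℂ)) B
    rw [← IsPBlock_eq_blockOf hMp hb.1 hψb]
    exact hb

omit [Fintype G] in
theorem sum_subgroup_eq [Fintype G] (H : Subgroup G) [Fintype H] [DecidablePred (· ∈ H)]
    (f : G → ℂ) :
    ∑ y : G, (if y ∈ H then f y else 0) = ∑ y : H, f (y : G) := by
  rw [← Finset.sum_filter]
  exact Finset.sum_subtype (Finset.univ.filter (· ∈ H)) (by simp) f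

/-- **Brauer's count by subsections.** -/
theorem main [Fintype (IrrCharacter G)] {p : ℕ} [hp : Fact p.Prime] (hM : IsPModular p M)
    (B : Set (IrrCharacter G)) (hB : IsPBlock M B) (X : Finset G)
    (hX : ∀ x ∈ X, ∃ k : ℕ, orderOf x = p ^ k)
    (hXrep : ∀ g : G, (∃ k : ℕ, orderOf g = p ^ k) → ∃! x, x ∈ X ∧ IsConj g x) :
    Nat.card B = ∑ x ∈ X, ∑ᶠ b ∈ {b : Set (IrrCharacter ↥(Subgroup.centralizer ({x} : Set G))) |
      IsInducedBlock M (Subgroup.centralizer ({x} : Set G)) b B}, blockRank p b := by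
  classical
  apply Nat.cast_injective (R := ℂ)
  rw [Nat.cast_sum]
  have hG0 : (Nat.card G : ℂ) ≠ 0 := by exact_mod_cast (Nat.card_pos (α := G)).ne'
  set F : G → ℂ := fun g => ∑ χ : IrrCharacter G,
    if χ ∈ B then (χ : G → ℂ) g * (starRingEnd ℂ) ((χ : G → ℂ) g) else 0 with hF
  have hFc : ∀ g t : G, F (t * g * t⁻¹) = F g := by
    intro g t
    simp only [hF]
    refine Finset.sum_congr rfl fun χ _ => ?_
    rw [isClassFunction_irr χ g t]
  -- the left-hand side
  have hL : (Nat.card B : ℂ) = (Nat.card G : ℂ)⁻¹ * ∑ g : G, F g := by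
    rw [Cfsg.Agent.Helper8.BF.natCard_eq_sum B]
    push_cast
    simp only [hF]
    rw [Finset.sum_comm, Finset.mul_sum]
    refine Finset.sum_congr rfl fun χ _ => ?_
    by_cases hχ : χ ∈ B
    · simp only [if_pos hχ]
      have := classInner_irr_self χ
      rw [classInner] at this
      exact this.symm
    · simp only [if_neg hχ, Finset.sum_const_zero, mul_zero]
  rw [hL, Cfsg.Agent.Helper8.SecSum.sum_eq_sum_sections X hX hXrep F hFc, Finset.mul_sum]
  refine Finset.sum_congr rfl fun x hxX => ?_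
  set C : Subgroup G := Subgroup.centralizer ({x} : Set G) with hC
  have : Fintype C := Fintype.ofFinite _
  have : Fintype (IrrCharacter C) := Fintype.ofFinite _
  have hC0 : (Nat.card C : ℂ) ≠ 0 := by exact_mod_cast (Nat.card_pos (α := C)).ne'
  have hmem : ∀ y : G, y ∈ C ↔ x * y = y * x := by
    intro y
    show y ∈ Subgroup.centralizer ({x} : Set G) ↔ _
    rw [Subgroup.mem_centralizer_iff]
    constructor
    · intro h; exact h x (Set.mem_singleton x)
    · intro h w hw
      rw [Set.mem_singleton_iff] at hw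
      rw [hw]; exact h
  have hxC : x ∈ C := (hmem x).mpr rfl
  have hcomm : ∀ c : C, x * (c : G) = (c : G) * x := fun c => (hmem c).mp c.2
  -- convert the sum over `G` to a sum over `C`
  have e1 : ∑ y : G, (if (x * y = y * x ∧ ¬ p ∣ orderOf y) then F (x * y) else 0) =
      ∑ y : C, (if p ∣ orderOf y then (0 : ℂ) else F (x * (y : G))) := by
    have e1' : ∑ y : C, (if p ∣ orderOf (y : G) then (0 : ℂ) else F (x * (y : G))) =
        ∑ y : C, (if p ∣ orderOf y then (0 : ℂ) else F (x * (y : G))) := by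
      refine Finset.sum_congr rfl fun y _ => ?_
      rw [Subgroup.orderOf_coe]
    rw [← e1']
    refine Eq.trans ?_
      (sum_subgroup_eq C (fun y : G => if p ∣ orderOf y then (0 : ℂ) else F (x * y)))
    refine Finset.sum_congr rfl fun y _ => ?_
    by_cases hy : y ∈ C
    · rw [if_pos hy]
      by_cases hpy : p ∣ orderOf y
      · rw [if_pos hpy, if_neg (fun h => h.2 hpy)]
      · rw [if_neg hpy, if_pos ⟨(hmem y).mp hy, hpy⟩]
    · rw [if_neg hy, if_neg (fun h => hy ((hmem y).mpr h.1))]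
  rw [e1]
  have e2 := core hM x (hX x hxX) C hxC hcomm (le_refl _) B hB
  have e3 : ∀ ψ : IrrCharacter C,
      ∑ y : C, (if p ∣ orderOf y then (0 : ℂ) else
        (ψ : C → ℂ) y * (starRingEnd ℂ) ((ψ : C → ℂ) y)) =
      (Nat.card C : ℂ) * classInner (pRegularPart p (ψ : C → ℂ)) (ψ : C → ℂ) := by
    intro ψ
    rw [classInner, ← mul_assoc, mul_inv_cancel₀ hC0, one_mul,
      Cfsg.Agent.Helper8.RankTr.pRegularPart_fun]
    refine Finset.sum_congr rfl fun y _ => ?_
    by_cases hy : p ∣ orderOf y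
    · simp only [if_pos hy, zero_mul]
    · simp only [if_neg hy, one_mul]
  rw [sum_blockRank_eq hM C B]
  have e4 : ∑ y : C, (if p ∣ orderOf y then (0 : ℂ) else F (x * (y : G))) =
      (Nat.card C : ℂ) * ∑ ψ : IrrCharacter C, if ψ ∈ indSet M C B then
        classInner (pRegularPart p (ψ : C → ℂ)) (ψ : C → ℂ) else 0 := by
    simp only [hF]
    rw [e2, Finset.mul_sum]
    refine Finset.sum_congr rfl fun ψ _ => ?_
    by_cases hψ : ψ ∈ indSet M C B
    · rw [if_pos hψ, if_pos hψ, e3 ψ]
    · rw [if_neg hψ, if_neg hψ, mul_zero]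
  rw [e4]
  field_simp

end Cfsg.Agent.Helper8.SecCount
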