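import Mathlib
import Cfsg.Agent.Helper8.SectionCount

/-!
# Brauer's count by subsections, with the trivial subsection split off

`k(B) = l(B) + ∑_{x ≠ 1} ∑_{b^G = B} l(b)`.
-/

set_option autoImplicit false

namespace Cfsg.Agent.Helper8.SecCount

open Cfsg Cfsg.Agent.Helper24 Cfsg.Agent.Helper5 Cfsg.Agent.Helper5.CC Cfsg.Agent.Helper5.Loc
open Cfsg.Agent.Helper8.SecCore

variable {G : Type*} [Group G] [Fintype G] {M : Ideal AlgInt}

/-- `g ↦ ∑_{χ ∈ B} |χ(g)|²`. -/
noncomputable def FB [Fintype (IrrCharacter G)] (B : Set (IrrCharacter G)) [DecidablePred (· ∈ B)]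
    (g : G) : ℂ :=
  ∑ χ : IrrCharacter G,
    if χ ∈ B then (χ : G → ℂ) g * (starRingEnd ℂ) ((χ : G → ℂ) g) else 0

/-- The contribution of the section of `x`. -/
theorem term_eq [Fintype (IrrCharacter G)] [DecidableEq G] {p : ℕ} [hp : Fact p.Prime]
    (hM : IsPModular p M)
    (B : Set (IrrCharacter G)) [DecidablePred (· ∈ B)] (hB : IsPBlock M B) (x : G)
    (hx : ∃ k : ℕ, orderOf x = p ^ k) :
    ∑ y : G, (if (x * y = y * x ∧ ¬ p ∣ orderOf y) then FB B (x * y) else 0) =
      (Nat.card (Subgroup.centralizer ({x} : Set G)) : ℂ) *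
      ((∑ᶠ b ∈ {b : Set (IrrCharacter ↥(Subgroup.centralizer ({x} : Set G))) |
        IsInducedBlock M (Subgroup.centralizer ({x} : Set G)) b B}, blockRank p b : ℕ) : ℂ) := by
  classical
  set C : Subgroup G := Subgroup.centralizer ({x} : Set G) with hC
  have : Fintype C := Fintype.ofFinite _
  have : Fintype (IrrCharacter C) := Fintype.ofFinite _
  have hC0 : (Nat.card C : ℂ) ≠ 0 := by exact_mod_cast (Nat.card_pos (α := C)).ne'
  have hmem : ∀ y : G, y ∈ C ↔ x * y = y * x := by
    intro y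
    show y ∈ Subgroup.centralizer ({x} : Set G) ↔ _
    rw [Subgroup.mem_centralizer_iff]
    constructor
    · intro h; exact h x (Set.mem_singleton x)
    · intro h w hw
      rw [Set.mem_singleton_iff] at hw
      rw [hw]; exact h
  have hxC : x ∈ C := (hmem x).mpr rfl
  have hcomm : ∀ c : C, x * (c : G) = (c : G) * x := fun c => (hmem c).mp c.2
  have e1 : ∑ y : G, (if (x * y = y * x ∧ ¬ p ∣ orderOf y) then FB B (x * y) else 0) =
      ∑ y : C, (if p ∣ orderOf y then (0 : ℂ) else FB B (x * (y : G))) := by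
    have e1' : ∑ y : C, (if p ∣ orderOf (y : G) then (0 : ℂ) else FB B (x * (y : G))) =
        ∑ y : C, (if p ∣ orderOf y then (0 : ℂ) else FB B (x * (y : G))) := by
      refine Finset.sum_congr rfl fun y _ => ?_
      rw [Subgroup.orderOf_coe]
    rw [← e1']
    refine Eq.trans ?_
      (sum_subgroup_eq C (fun y : G => if p ∣ orderOf y then (0 : ℂ) else FB B (x * y)))
    refine Finset.sum_congr rfl fun y _ => ?_
    by_cases hy : y ∈ C
    · rw [if_pos hy]
      by_cases hpy : p ∣ orderOf y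
      · rw [if_pos hpy, if_neg (fun h => h.2 hpy)]
      · rw [if_neg hpy, if_pos ⟨(hmem y).mp hy, hpy⟩]
    · rw [if_neg hy, if_neg (fun h => hy ((hmem y).mpr h.1))]
  rw [e1]
  have e2 := core hM x hx C hxC hcomm (le_refl _) B hB
  have e3 : ∀ ψ : IrrCharacter C,
      ∑ y : C, (if p ∣ orderOf y then (0 : ℂ) else
        (ψ : C → ℂ) y * (starRingEnd ℂ) ((ψ : C → ℂ) y)) =
      (Nat.card C : ℂ) * classInner (pRegularPart p (ψ : C → ℂ)) (ψ : C → ℂ) := by
    intro ψ
    rw [classInner, ← mul_assoc, mul_inv_cancel₀ hC0, one_mul,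
      Cfsg.Agent.Helper8.RankTr.pRegularPart_fun]
    refine Finset.sum_congr rfl fun y _ => ?_
    by_cases hy : p ∣ orderOf y
    · simp only [if_pos hy, zero_mul]
    · simp only [if_neg hy, one_mul]
  rw [sum_blockRank_eq hM C B]
  simp only [FB]
  rw [e2, Finset.mul_sum]
  refine Finset.sum_congr rfl fun ψ _ => ?_
  by_cases hψ : ψ ∈ indSet M C B
  · rw [if_pos hψ, if_pos hψ, e3 ψ]
  · rw [if_neg hψ, if_neg hψ, mul_zero]

/-- **The trivial subsection contributes `l(B)`.** -/
theorem term_one [Fintype (IrrCharacter G)] {p : ℕ} [hp : Fact p.Prime]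
    (hM : IsPModular p M) (B : Set (IrrCharacter G)) (hB : IsPBlock M B) :
    (∑ᶠ b ∈ {b : Set (IrrCharacter ↥(Subgroup.centralizer ({(1 : G)} : Set G))) |
        IsInducedBlock M (Subgroup.centralizer ({(1 : G)} : Set G)) b B}, blockRank p b) =
      blockRank p B := by
  classical
  apply Nat.cast_injective (R := ℂ)
  have hG0 : (Nat.card G : ℂ) ≠ 0 := by exact_mod_cast (Nat.card_pos (α := G)).ne'
  have h1 := term_eq hM B hB (1 : G) ⟨0, by simp⟩
  have hc : Nat.card (Subgroup.centralizer ({(1 : G)} : Set G)) = Nat.card G := by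
    have : Subgroup.centralizer ({(1 : G)} : Set G) = ⊤ := by
      ext g
      simp [Subgroup.mem_centralizer_iff]
    rw [this, Nat.card_congr Subgroup.topEquiv.toEquiv]
  rw [hc] at h1
  have h2 : ∑ y : G, (if ((1 : G) * y = y * 1 ∧ ¬ p ∣ orderOf y) then FB B (1 * y) else 0) =
      (Nat.card G : ℂ) * (blockRank p B : ℂ) := by
    rw [Cfsg.Agent.Helper8.RankTr.blockRank_eq_sum hM hB, Finset.mul_sum]
    simp only [FB]
    have e : ∀ y : G, (if ((1 : G) * y = y * 1 ∧ ¬ p ∣ orderOf y) then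
        (∑ χ : IrrCharacter G, if χ ∈ B then
          (χ : G → ℂ) (1 * y) * (starRingEnd ℂ) ((χ : G → ℂ) (1 * y)) else 0) else 0) =
        ∑ χ : IrrCharacter G, if χ ∈ B then
          (if p ∣ orderOf y then (0 : ℂ) else
            (χ : G → ℂ) y * (starRingEnd ℂ) ((χ : G → ℂ) y)) else 0 := by
      intro y
      by_cases hy : p ∣ orderOf y
      · rw [if_neg (fun h => h.2 hy)]
        symm
        apply Finset.sum_eq_zero
        intro χ _
        rw [if_pos hy]
        split_ifs <;> rfl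
      · rw [if_pos ⟨by rw [one_mul, mul_one], hy⟩]
        refine Finset.sum_congr rfl fun χ _ => ?_
        rw [if_neg hy, one_mul]
    rw [Finset.sum_congr rfl (fun y _ => e y), Finset.sum_comm]
    refine Finset.sum_congr rfl fun χ _ => ?_
    by_cases hχ : χ ∈ B
    · simp only [if_pos hχ]
      rw [classInner, ← mul_assoc, mul_inv_cancel₀ hG0, one_mul,
        Cfsg.Agent.Helper8.RankTr.pRegularPart_fun]
      refine Finset.sum_congr rfl fun y _ => ?_
      by_cases hy : p ∣ orderOf y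
      · simp only [if_pos hy, zero_mul]
      · simp only [if_neg hy, one_mul]
    · simp only [if_neg hχ, Finset.sum_const_zero, mul_zero]
  rw [h2] at h1
  exact (mul_left_cancel₀ hG0 h1).symm

/-- **Brauer's count, trivial subsection split off.** -/
theorem main' [Fintype (IrrCharacter G)] [DecidableEq G] {p : ℕ} [hp : Fact p.Prime]
    (hM : IsPModular p M)
    (B : Set (IrrCharacter G)) (hB : IsPBlock M B) (X : Finset G)
    (hX : ∀ x ∈ X, ∃ k : ℕ, orderOf x = p ^ k)
    (hXrep : ∀ g : G, (∃ k : ℕ, orderOf g = p ^ k) → ∃! x, x ∈ X ∧ IsConj g x) :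
    Nat.card B = blockRank p B +
      ∑ x ∈ X.erase 1, ∑ᶠ b ∈ {b : Set (IrrCharacter ↥(Subgroup.centralizer ({x} : Set G))) |
        IsInducedBlock M (Subgroup.centralizer ({x} : Set G)) b B}, blockRank p b := by
  classical
  have h1X : (1 : G) ∈ X := by
    obtain ⟨x, ⟨hxX, hx⟩, _⟩ := hXrep 1 ⟨0, by simp⟩
    have : x = 1 := isConj_one_right.mp hx
    rwa [this] at hxX
  rw [main hM B hB X hX hXrep, ← Finset.add_sum_erase X _ h1X, term_one hM B hB]

end Cfsg.Agent.Helper8.SecCount
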