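import Mathlib
import Cfsg.Agent.Helper8.SectionCount2
import Cfsg.Agent.Helper8.KleinCentral
import Cfsg.Agent.Helper8.PrincipalParity
import Cfsg.Agent.Helper8.HeightBound
import Cfsg.Agent.Helper8.RealBlock2b
import Cfsg.Agent.Helper5.PrincipalInducing
import Cfsg.Agent.S0947
import Cfsg.Agent.S4691
import Cfsg.Agent.S4646

/-!
# The principal 2-block of a group with Klein four Sylow 2-subgroups and one class of involutions
-/

set_option autoImplicit false

namespace Cfsg.Agent.Helper8.KleinB

open Cfsg Cfsg.Agent.Helper24 Cfsg.Agent.Helper5 Cfsg.Agent.Helper5.CC Cfsg.Agent.Helper5.Loc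
open Cfsg.Agent.Helper16

variable {G : Type*} [Group G] [Finite G]

/-- A group of order four and exponent two is a Klein four group. -/
theorem isKleinFour_of_card {P : Type*} [Group P] (hP : Nat.card P = 4)
    (hexp : ∀ x : P, x * x = 1) : IsKleinFour P := by
  refine ⟨hP, ?_⟩
  have hdvd : Monoid.exponent P ∣ 2 := by
    apply Monoid.exponent_dvd_of_forall_pow_eq_one
    intro x
    rw [pow_two]; exact hexp x
  have hne : Monoid.exponent P ≠ 1 := by
    intro h
    have := Monoid.exp_eq_one_iff.mp h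
    have h1 : Nat.card P = 1 := Nat.card_unique
    omega
  rcases (Nat.dvd_prime Nat.prime_two).mp hdvd with h | h
  · exact absurd h hne
  · exact h

/-- The centralizer of an involution of a Klein four Sylow 2-subgroup has a normal
2-complement. -/
theorem centralizer_npc (P : Sylow 2 G) (hP : IsKleinFour (P : Subgroup G)) (z : G) (hzP : z ∈ P)
    (hz1 : z ≠ 1) :
    (pPrimeCore 2 ↥(Subgroup.centralizer ({z} : Set G))).index = 2 ^ 2 ∧
      HasNormalPComplement 2 ↥(Subgroup.centralizer ({z} : Set G)) ∧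
      (Nat.card (Subgroup.centralizer ({z} : Set G))).factorization 2 = 2 := by
  haveI : Fact (Nat.Prime 2) := ⟨Nat.prime_two⟩
  set C : Subgroup G := Subgroup.centralizer ({z} : Set G) with hC
  have hmem : ∀ y : G, y ∈ C ↔ z * y = y * z := by
    intro y
    show y ∈ Subgroup.centralizer ({z} : Set G) ↔ _
    rw [Subgroup.mem_centralizer_iff]
    constructor
    · intro h; exact h z (Set.mem_singleton z)
    · intro h w hw
      rw [Set.mem_singleton_iff] at hw
      rw [hw]; exact h
  have hPC : (P : Subgroup G) ≤ C := by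
    intro x hx
    exact (hmem x).mpr (klein_comm P hP hzP hx)
  have hzC : z ∈ C := hPC hzP
  have hcardP : Nat.card (P : Subgroup G) = 4 := IsKleinFour.card_four
  have hνG : (Nat.card G).factorization 2 = 2 := by
    have h1 := P.card_eq_multiplicity
    rw [hcardP] at h1
    have : (2 : ℕ) ^ 2 = 2 ^ (Nat.card G).factorization 2 := by rw [← h1]; norm_num
    exact (Nat.pow_right_injective (le_refl 2) this).symm
  have e : ((P : Subgroup G).subgroupOf C) ≃* (P : Subgroup G) :=
    Subgroup.subgroupOfEquivOfLe hPC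
  have hcardQ : Nat.card ((P : Subgroup G).subgroupOf C) = 4 := by
    rw [Nat.card_congr e.toEquiv, hcardP]
  have hνC : (Nat.card C).factorization 2 = 2 := by
    have hC0 : Nat.card C ≠ 0 := Nat.card_pos.ne'
    have hG0 : Nat.card G ≠ 0 := Nat.card_pos.ne'
    have h1 : Nat.card C ∣ Nat.card G := Subgroup.card_subgroup_dvd_card C
    have h2 : (Nat.card C).factorization 2 ≤ (Nat.card G).factorization 2 :=
      (Nat.factorization_le_iff_dvd hC0 hG0).mpr h1 2
    have h3 : 2 ^ 2 ∣ Nat.card C := by
      have := Subgroup.card_subgroup_dvd_card ((P : Subgroup G).subgroupOf C)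
      rw [hcardQ] at this
      exact this
    have h4 : 2 ≤ (Nat.card C).factorization 2 :=
      (Nat.Prime.pow_dvd_iff_le_factorization Nat.prime_two hC0).mp h3
    omega
  let Q : Sylow 2 C := Sylow.ofCard ((P : Subgroup G).subgroupOf C) (by rw [hcardQ, hνC]; norm_num)
  have hQcoe : (Q : Subgroup C) = (P : Subgroup G).subgroupOf C := Sylow.coe_ofCard _ _
  have hQK : IsKleinFour (Q : Subgroup C) := by
    rw [hQcoe]
    refine ⟨hcardQ, ?_⟩
    rw [Monoid.exponent_eq_of_mulEquiv e]
    exact IsKleinFour.exponent_two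
  have hzc : ∀ h : C, h * (⟨z, hzC⟩ : C) = ⟨z, hzC⟩ * h := by
    intro h
    apply Subtype.ext
    show (h : G) * z = z * (h : G)
    exact ((hmem h).mp h.2).symm
  have hzQ : (⟨z, hzC⟩ : C) ∈ Q := by
    show (⟨z, hzC⟩ : C) ∈ (Q : Subgroup C)
    rw [hQcoe, Subgroup.mem_subgroupOf]
    exact hzP
  have hz1' : (⟨z, hzC⟩ : C) ≠ 1 := by
    intro h
    apply hz1
    exact congrArg Subtype.val h
  obtain ⟨h1, h2⟩ := Cfsg.Agent.Helper8.KleinC.index_pPrimeCore Q hQK ⟨z, hzC⟩ hzc hzQ hz1'
  exact ⟨h1, h2, hνC⟩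

section Fin

variable [Fintype G] {M : Ideal AlgInt}

/-- All members of the principal 2-block have odd degree when `|G|_2 = 4`. -/
theorem odd_irrDeg [Fintype (IrrCharacter G)] (hM : IsPModular 2 M)
    (hν : (Nat.card G).factorization 2 = 2) (χ : IrrCharacter G)
    (hχ : χ ∈ principalBlock M G) : ¬ 2 ∣ irrDeg χ := by
  haveI : Fact (Nat.Prime 2) := ⟨Nat.prime_two⟩
  have hMp := isPrime_of_isPModular hM
  intro h2
  have hpos : 1 ≤ (irrDeg χ).factorization 2 :=
    (Nat.Prime.dvd_iff_one_le_factorization Nat.prime_two (irrDeg_pos χ).ne').mp h2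
  have hmin : Cfsg.Agent.Helper8.IndHt.minVal 2 (principalBlock M G) = 0 := by
    have h0 := Cfsg.Agent.Helper8.IndHt.minVal_le 2
      (trivIrr_mem_principalBlock (M := M) (G := G) hMp)
    have h1 := irrDeg_spec (trivIrr G)
    have h2 : ((trivIrr G : IrrCharacter G) : G → ℂ) 1 = 1 := rfl
    rw [h2] at h1
    have h3 : irrDeg (trivIrr G) = 1 := by exact_mod_cast h1.symm
    rw [h3] at h0
    simpa using h0
  have := Cfsg.Agent.Helper8.HB.factorization_add_two_le hM isPBlock_principalBlock hχ
    (by omega)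
  omega

/-- The value of an irreducible character at an involution is an integer of the parity of the
degree. -/
theorem exists_int_involution (χ : IrrCharacter G) {z : G} (hz : orderOf z = 2) :
    ∃ n : ℤ, (χ : G → ℂ) z = (n : ℂ) ∧ (2 : ℤ) ∣ n - (irrDeg χ : ℤ) := by
  obtain ⟨d, m, hd, hm⟩ :=
    Cfsg.Agent.Helper8.char_involution (IsIrrCharacter.isCharacter χ.2) hz
  have hd' : d = irrDeg χ := by
    have := irrDeg_spec χ
    rw [hd] at this
    exact_mod_cast this
  refine ⟨2 * (m : ℤ) - d, ?_, ?_⟩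
  · rw [hm]; push_cast; ring
  · rw [hd']
    exact ⟨(m : ℤ) - irrDeg χ, by ring⟩

omit [Fintype G] in
theorem orderOf_eq_two_of_mem (P : Sylow 2 G) (hP : IsKleinFour (P : Subgroup G)) {z : G}
    (hzP : z ∈ P) (hz1 : z ≠ 1) : orderOf z = 2 := by
  haveI : Fact (Nat.Prime 2) := ⟨Nat.prime_two⟩
  exact orderOf_eq_prime (by rw [pow_two]; exact klein_mul_self P hP hzP) hz1

omit [Fintype G] in
theorem factorization_card (P : Sylow 2 G) (hP : IsKleinFour (P : Subgroup G)) :
    (Nat.card G).factorization 2 = 2 := by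
  haveI : Fact (Nat.Prime 2) := ⟨Nat.prime_two⟩
  have hcardP : Nat.card (P : Subgroup G) = 4 := IsKleinFour.card_four
  have h1 := P.card_eq_multiplicity
  rw [hcardP] at h1
  have : (2 : ℕ) ^ 2 = 2 ^ (Nat.card G).factorization 2 := by rw [← h1]; norm_num
  exact (Nat.pow_right_injective (le_refl 2) this).symm

omit [Fintype G] in
/-- `∑_{ζ ∈ B₀} |ζ(z)|² = 4` at an involution `z`. -/
theorem sum_sq_involution (hM : IsPModular 2 M) (P : Sylow 2 G)
    (hP : IsKleinFour (P : Subgroup G)) (z : G) (hzP : z ∈ P) (hz1 : z ≠ 1) :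
    ∑ᶠ ζ ∈ principalBlock M G, ‖(ζ : G → ℂ) z‖ ^ 2 = 4 := by
  haveI : Fact (Nat.Prime 2) := ⟨Nat.prime_two⟩
  obtain ⟨h1, _, h3⟩ := centralizer_npc P hP z hzP hz1
  have hz2 := orderOf_eq_two_of_mem P hP hzP hz1
  have key := (Cfsg.Agent.S0947.result 2 M hM z ⟨1, by rw [hz2, pow_one]⟩ hz1
    (1 : Subgroup.centralizer ({z} : Set G)) (by rw [orderOf_one]; norm_num)).2 ⟨2, h1⟩
  rw [h3] at key
  simp only [Subgroup.coe_one, mul_one] at key
  rw [key]
  norm_num

/-- **`k(B₀) = 4`, and the members of `B₀` take the values `±1` at involutions.** -/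
theorem card_and_values [Fintype (IrrCharacter G)] (hM : IsPModular 2 M) (P : Sylow 2 G)
    (hP : IsKleinFour (P : Subgroup G)) (z : G) (hzP : z ∈ P) (hz1 : z ≠ 1) :
    Nat.card (principalBlock M G) = 4 ∧
      ∀ ζ ∈ principalBlock M G, ((ζ : G → ℂ) z = 1 ∨ (ζ : G → ℂ) z = -1) := by
  classical
  have hz2 := orderOf_eq_two_of_mem P hP hzP hz1
  have hνG := factorization_card P hP
  have hsum := sum_sq_involution hM P hP z hzP hz1
  have hn : ∀ ζ : IrrCharacter G, ∃ n : ℤ, (ζ : G → ℂ) z = (n : ℂ) ∧
      (2 : ℤ) ∣ n - (irrDeg ζ : ℤ) := fun ζ => exists_int_involution ζ hz2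
  choose n hn1 hn2 using hn
  rw [finsum_mem_eq_sum_ite'] at hsum
  have hZ : ∑ ζ : IrrCharacter G, (if ζ ∈ principalBlock M G then (n ζ) ^ 2 else 0) = 4 := by
    have : ((∑ ζ : IrrCharacter G, (if ζ ∈ principalBlock M G then (n ζ) ^ 2 else 0) : ℤ) : ℝ) =
        4 := by
      rw [← hsum]
      push_cast
      refine Finset.sum_congr rfl fun ζ _ => ?_
      split_ifs
      · rw [hn1 ζ, Complex.norm_intCast, sq_abs]
      · rfl
    exact_mod_cast this
  have hodd : ∀ ζ ∈ principalBlock M G, (n ζ) % 2 = 1 := by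
    intro ζ hζ
    have h1 := odd_irrDeg hM hνG ζ hζ
    have h2 := hn2 ζ
    omega
  have hsq : ∀ ζ ∈ principalBlock M G, (n ζ) ^ 2 = 1 := by
    intro ζ hζ
    by_contra hne
    have h1 := hodd ζ hζ
    have h9 : 9 ≤ (n ζ) ^ 2 := by
      have hcases : n ζ ≤ -3 ∨ n ζ = -1 ∨ n ζ = 1 ∨ 3 ≤ n ζ := by omega
      rcases hcases with h | h | h | h
      · nlinarith
      · exfalso; apply hne; rw [h]; norm_num
      · exfalso; apply hne; rw [h]; norm_num
      · nlinarith
    have hle : (if ζ ∈ principalBlock M G then (n ζ) ^ 2 else 0) ≤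
        ∑ ζ : IrrCharacter G, (if ζ ∈ principalBlock M G then (n ζ) ^ 2 else 0) := by
      apply Finset.single_le_sum (f := fun ζ : IrrCharacter G =>
        if ζ ∈ principalBlock M G then (n ζ) ^ 2 else 0) _ (Finset.mem_univ ζ)
      intro ξ _
      split_ifs
      · positivity
      · exact le_refl _
    rw [if_pos hζ, hZ] at hle
    omega
  constructor
  · have hk := Cfsg.Agent.Helper8.BF.natCard_eq_sum (principalBlock M G)
    have : ((Nat.card (principalBlock M G) : ℕ) : ℤ) = 4 := by
      rw [hk, ← hZ]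
      push_cast
      refine Finset.sum_congr rfl fun ζ _ => ?_
      split_ifs with hζ
      · rw [hsq ζ hζ]
      · rfl
    exact_mod_cast this
  · intro ζ hζ
    have h1 := hsq ζ hζ
    have h2 : (n ζ - 1) * (n ζ + 1) = 0 := by ring_nf; ring_nf at h1; omega
    rcases mul_eq_zero.mp h2 with h | h
    · left
      rw [hn1 ζ]
      have : n ζ = 1 := by omega
      rw [this]; norm_num
    · right
      rw [hn1 ζ]
      have : n ζ = -1 := by omega
      rw [this]; norm_num

omit [Fintype G] in
/-- The principal block of the centralizer of an involution has rank one. -/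
theorem blockRank_centralizer (hM : IsPModular 2 M) (P : Sylow 2 G)
    (hP : IsKleinFour (P : Subgroup G)) (z : G) (hzP : z ∈ P) (hz1 : z ≠ 1) :
    blockRank 2 (principalBlock M ↥(Subgroup.centralizer ({z} : Set G))) = 1 := by
  haveI : Fact (Nat.Prime 2) := ⟨Nat.prime_two⟩
  obtain ⟨_, h2, _⟩ := centralizer_npc P hP z hzP hz1
  haveI : Fintype ↥(Subgroup.centralizer ({z} : Set G)) := Fintype.ofFinite _
  exact (Cfsg.Agent.S4646.result 2 M hM).mp ((Cfsg.Agent.S4691.result 2 M hM).mp h2)

/-- The only block of the centralizer of a `p`-element inducing the principal block is the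
principal block. -/
theorem inducing_eq_singleton [Fintype (IrrCharacter G)] {p : ℕ} [hp : Fact p.Prime]
    (hM : IsPModular p M) (x : G) (hx : ∃ k : ℕ, orderOf x = p ^ k) :
    {b : Set (IrrCharacter ↥(Subgroup.centralizer ({x} : Set G))) |
      IsInducedBlock M (Subgroup.centralizer ({x} : Set G)) b (principalBlock M G)} =
    {principalBlock M ↥(Subgroup.centralizer ({x} : Set G))} := by
  have hMp := isPrime_of_isPModular hM
  set C : Subgroup G := Subgroup.centralizer ({x} : Set G) with hC
  have : Fintype C := Fintype.ofFinite _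
  have hmem : ∀ y : G, y ∈ C ↔ x * y = y * x := by
    intro y
    show y ∈ Subgroup.centralizer ({x} : Set G) ↔ _
    rw [Subgroup.mem_centralizer_iff]
    constructor
    · intro h; exact h x (Set.mem_singleton x)
    · intro h w hw
      rw [Set.mem_singleton_iff] at hw
      rw [hw]; exact h
  have hxC : x ∈ C := (hmem x).mpr rfl
  have hcomm : ∀ c : C, x * (c : G) = (c : G) * x := fun c => (hmem c).mp c.2
  have hset := inducingSet_principalBlock (M := M) hM x hx C hxC hcomm (le_refl _)
  ext b
  rw [Set.mem_ofPred_eq, Set.mem_singleton_iff]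
  constructor
  · intro hb
    obtain ⟨ψ, hψ⟩ := IsPBlock.nonempty hMp hb.1
    have e1 := IsPBlock_eq_blockOf hMp hb.1 hψ
    have hψS : ψ ∈ inducingSet M C (principalBlock M G) := by
      show IsInducedBlock M C (blockOf M (ψ : C → ℂ)) (principalBlock M G)
      rw [← e1]; exact hb
    rw [hset] at hψS
    rw [e1, IsPBlock_eq_blockOf hMp isPBlock_principalBlock hψS]
  · intro hb
    rw [hb]
    have h1 : trivIrr C ∈ inducingSet M C (principalBlock M G) := by
      rw [hset]; exact trivIrr_mem_principalBlock hMp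
    have h2 : principalBlock M C = blockOf M ((trivIrr C : IrrCharacter C) : C → ℂ) :=
      IsPBlock_eq_blockOf hMp isPBlock_principalBlock (trivIrr_mem_principalBlock hMp)
    rw [h2]
    exact h1

/-- **`l(B₀) = 3`.** -/
theorem blockRank_principal [Fintype (IrrCharacter G)] (hM : IsPModular 2 M) (P : Sylow 2 G)
    (hP : IsKleinFour (P : Subgroup G))
    (hone : ∀ s t : G, orderOf s = 2 → orderOf t = 2 → IsConj s t) :
    blockRank 2 (principalBlock M G) = 3 := by
  classical
  haveI : Fact (Nat.Prime 2) := ⟨Nat.prime_two⟩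
  obtain ⟨z, _, hzP, _, hz1, _, _⟩ := klein_exists_gens P hP
  have hz2 := orderOf_eq_two_of_mem P hP hzP hz1
  -- representatives of the classes of 2-elements
  have hX : ∀ x ∈ ({1, z} : Finset G), ∃ k : ℕ, orderOf x = 2 ^ k := by
    intro x hx
    rw [Finset.mem_insert, Finset.mem_singleton] at hx
    rcases hx with rfl | rfl
    · exact ⟨0, by simp⟩
    · exact ⟨1, by rw [hz2, pow_one]⟩
  have hXrep : ∀ g : G, (∃ k : ℕ, orderOf g = 2 ^ k) →
      ∃! x, x ∈ ({1, z} : Finset G) ∧ IsConj g x := by
    intro g ⟨k, hk⟩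
    -- `g` is the identity or an involution
    have hg : g = 1 ∨ orderOf g = 2 := by
      have hzp : IsPGroup 2 (Subgroup.zpowers g) := by
        apply IsPGroup.of_card (n := k)
        rw [Nat.card_zpowers, hk]
      obtain ⟨Q, hQ⟩ := hzp.exists_le_sylow
      obtain ⟨c, rfl⟩ := MulAction.exists_smul_eq G P Q
      have hgQ : g ∈ ((c • P : Sylow 2 G) : Subgroup G) := hQ (Subgroup.mem_zpowers g)
      rw [Sylow.smul_def, Sylow.pointwise_smul_def,
        Subgroup.mem_pointwise_smul_iff_inv_smul_mem] at hgQ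
      have hgP : c⁻¹ * g * c ∈ (P : Subgroup G) := by simpa [MulAut.smul_def] using hgQ
      have hsq := klein_mul_self P hP hgP
      have hgg : g * g = 1 := by
        have : c⁻¹ * g * c * (c⁻¹ * g * c) = c⁻¹ * (g * g) * c := by group
        rw [this] at hsq
        have := congrArg (fun w => c * w * c⁻¹) hsq
        simpa [mul_assoc] using this
      by_cases h1 : g = 1
      · left; exact h1
      · right
        exact orderOf_eq_prime (by rw [pow_two]; exact hgg) h1
    rcases hg with rfl | hg2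
    · refine ⟨1, ⟨by simp, IsConj.refl 1⟩, ?_⟩
      rintro y ⟨_, hy⟩
      exact isConj_one_right.mp hy
    · refine ⟨z, ⟨by simp, hone g z hg2 hz2⟩, ?_⟩
      rintro y ⟨hyX, hy⟩
      rw [Finset.mem_insert, Finset.mem_singleton] at hyX
      rcases hyX with rfl | rfl
      · exfalso
        have := isConj_one_left.mp hy
        rw [this, orderOf_one] at hg2
        norm_num at hg2
      · rfl
  have hmain := Cfsg.Agent.Helper8.SecCount.main' hM (principalBlock M G)
    isPBlock_principalBlock ({1, z} : Finset G) hX hXrep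
  have herase : ({1, z} : Finset G).erase 1 = {z} := by
    rw [Finset.erase_insert]
    rw [Finset.mem_singleton]
    exact fun h => hz1 h.symm
  rw [herase, Finset.sum_singleton, inducing_eq_singleton hM z ⟨1, by rw [hz2, pow_one]⟩,
    finsum_mem_singleton, blockRank_centralizer hM P hP z hzP hz1,
    (card_and_values hM P hP z hzP hz1).1] at hmain
  omega

end Fin

end Cfsg.Agent.Helper8.KleinB
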