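import Mathlib
import Cfsg.Agent.Helper8.KleinBlock
import Cfsg.Agent.Helper5.BlockOrth

/-!
# The principal 2-block for Klein four Sylow 2-subgroups with one class of involutions: Brauer's
description of the four characters
-/

set_option autoImplicit false

namespace Cfsg.Agent.Helper8.KleinB

open Cfsg Cfsg.Agent.Helper24 Cfsg.Agent.Helper5 Cfsg.Agent.Helper5.CC Cfsg.Agent.Helper5.Loc
open Cfsg.Agent.Helper16

variable {G : Type*} [Group G] [Finite G] [Fintype G] {M : Ideal AlgInt}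

/-- `χ(1) ≡ χ(z) (mod 4)` when all involutions are conjugate. -/
theorem degree_mod_four (P : Sylow 2 G) (hP : IsKleinFour (P : Subgroup G))
    (hone : ∀ s t : G, orderOf s = 2 → orderOf t = 2 → IsConj s t)
    (χ : IrrCharacter G) (z : G) (hz : orderOf z = 2) (n : ℤ) (hn : (χ : G → ℂ) z = (n : ℂ)) :
    (4 : ℤ) ∣ (irrDeg χ : ℤ) - n := by
  classical
  haveI : Fintype (P : Subgroup G) := Fintype.ofFinite _
  haveI : Fintype (IrrCharacter (P : Subgroup G)) := Fintype.ofFinite _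
  have hres : IsCharacter (P : Subgroup G) (fun h : (P : Subgroup G) => (χ : G → ℂ) h) :=
    Cfsg.Agent.Helper8.isCharacter_restrict (P : Subgroup G) (IsIrrCharacter.isCharacter χ.2)
  have hone' : IsCharacter (P : Subgroup G) (fun _ : (P : Subgroup G) => (1 : ℂ)) :=
    IsIrrCharacter.isCharacter isIrrCharacter_const_one
  obtain ⟨m, hm⟩ := IsCharacter.classInner_nat hres hone'
  have hcard : Nat.card (P : Subgroup G) = 4 := IsKleinFour.card_four
  have hval : ∀ h : (P : Subgroup G), h ≠ 1 → (χ : G → ℂ) (h : G) = (n : ℂ) := by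
    intro h hh
    have hh1 : (h : G) ≠ 1 := fun e => hh (Subtype.ext e)
    have h2 := orderOf_eq_two_of_mem P hP h.2 hh1
    obtain ⟨c, hc⟩ := isConj_iff.mp (hone z (h : G) hz h2)
    rw [← hc, isClassFunction_irr χ z c, hn]
  have hsum : ∑ h : (P : Subgroup G), (χ : G → ℂ) (h : G) = (irrDeg χ : ℂ) + 3 * (n : ℂ) := by
    rw [← Finset.add_sum_erase Finset.univ _ (Finset.mem_univ (1 : (P : Subgroup G)))]
    congr 1
    · rw [Subgroup.coe_one, irrDeg_spec]
    · rw [Finset.sum_congr rfl (fun h hh => hval h (Finset.ne_of_mem_erase hh)),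
        Finset.sum_const, Finset.card_erase_of_mem (Finset.mem_univ _), Finset.card_univ,
        ← Nat.card_eq_fintype_card, hcard]
      simp
  unfold classInner at hm
  rw [hcard] at hm
  simp only [map_one, mul_one] at hm
  rw [hsum] at hm
  have h4 : ((irrDeg χ : ℤ) : ℂ) + 3 * (n : ℂ) = 4 * ((m : ℤ) : ℂ) := by
    have h3 : ((4 : ℕ) : ℂ) ≠ 0 := by norm_num
    have := (inv_mul_eq_iff_eq_mul₀ h3).mp hm
    push_cast at this ⊢
    rw [this]
  have h5 : (irrDeg χ : ℤ) + 3 * n = 4 * (m : ℤ) := by exact_mod_cast h4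
  exact ⟨(m : ℤ) - n, by linarith⟩

/-- **Brauer's description of the principal 2-block.** -/
theorem klein_principal_block [Fintype (IrrCharacter G)] (hM : IsPModular 2 M) (P : Sylow 2 G)
    (hP : IsKleinFour (P : Subgroup G))
    (hone : ∀ s t : G, orderOf s = 2 → orderOf t = 2 → IsConj s t) :
    ∃ ζ₂ ζ₃ ζ₄ : IrrCharacter G, ∃ ε : ℤ, (ε = 1 ∨ ε = -1) ∧
      (ζ₂ : G → ℂ) ≠ (fun _ => 1) ∧ (ζ₃ : G → ℂ) ≠ (fun _ => 1) ∧ ζ₂ ≠ ζ₃ ∧ ζ₂ ≠ ζ₄ ∧ ζ₃ ≠ ζ₄ ∧
      principalBlock M G =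
        {χ : IrrCharacter G | (χ : G → ℂ) = (fun _ => 1) ∨ χ = ζ₂ ∨ χ = ζ₃ ∨ χ = ζ₄} ∧
      (∀ z : G, orderOf z = 2 →
        (ζ₂ : G → ℂ) z = 1 ∧ (ζ₃ : G → ℂ) z = (ε : ℂ) ∧ (ζ₄ : G → ℂ) z = -1) ∧
      (4 : ℤ) ∣ (charDegree (ζ₂ : G → ℂ) : ℤ) - 1 ∧
      (4 : ℤ) ∣ (charDegree (ζ₃ : G → ℂ) : ℤ) - ε ∧
      (4 : ℤ) ∣ (charDegree (ζ₄ : G → ℂ) : ℤ) + 1 ∧
      ∀ y : G, Odd (orderOf y) →
        1 + (ζ₂ : G → ℂ) y + (ε : ℂ) * (ζ₃ : G → ℂ) y - (ζ₄ : G → ℂ) y = 0 := by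
  classical
  haveI : Fact (Nat.Prime 2) := ⟨Nat.prime_two⟩
  have hMp := isPrime_of_isPModular hM
  obtain ⟨z₀, _, hz₀P, _, hz₀1, _, _⟩ := klein_exists_gens P hP
  have hz₀2 := orderOf_eq_two_of_mem P hP hz₀P hz₀1
  obtain ⟨hcard, hval⟩ := card_and_values hM P hP z₀ hz₀P hz₀1
  set B₀ := principalBlock M G with hB₀
  have htriv : trivIrr G ∈ B₀ := trivIrr_mem_principalBlock hMp
  -- value at any involution
  have hinv : ∀ (χ : IrrCharacter G) (z : G), orderOf z = 2 →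
      (χ : G → ℂ) z = (χ : G → ℂ) z₀ := by
    intro χ z hz
    obtain ⟨c, hc⟩ := isConj_iff.mp (hone z₀ z hz₀2 hz)
    rw [← hc, isClassFunction_irr χ z₀ c]
  -- the other three members
  set T : Finset (IrrCharacter G) :=
    Finset.univ.filter (fun χ => χ ∈ B₀ ∧ χ ≠ trivIrr G) with hT
  have hmemT : ∀ χ, χ ∈ T ↔ (χ ∈ B₀ ∧ χ ≠ trivIrr G) := by
    intro χ; rw [hT, Finset.mem_filter]; simp
  have hfilter : Finset.univ.filter (fun χ : IrrCharacter G => χ ∈ B₀) = insert (trivIrr G) T := by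
    ext χ
    rw [Finset.mem_filter, Finset.mem_insert, hmemT]
    constructor
    · intro h
      by_cases h1 : χ = trivIrr G
      · left; exact h1
      · right; exact ⟨h.2, h1⟩
    · rintro (h | h)
      · rw [h]; exact ⟨Finset.mem_univ _, htriv⟩
      · exact ⟨Finset.mem_univ _, h.1⟩
  have htT : trivIrr G ∉ T := fun h => ((hmemT _).mp h).2 rfl
  have hTcard : T.card = 3 := by
    have h1 : Nat.card B₀ = (Finset.univ.filter (fun χ : IrrCharacter G => χ ∈ B₀)).card := by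
      rw [Nat.card_eq_fintype_card, Fintype.card_subtype]
    rw [hfilter, Finset.card_insert_of_notMem htT, hcard] at h1
    omega
  -- orthogonality
  have horth : ∀ y : G, Odd (orderOf y) →
      1 + ∑ χ ∈ T, (χ : G → ℂ) z₀ * (χ : G → ℂ) y = 0 := by
    intro y hy
    have h2y : ¬ 2 ∣ orderOf y := by
      have := Nat.odd_iff.mp hy
      omega
    have h2z : 2 ∣ orderOf z₀ := by rw [hz₀2]
    have h := block_orthogonality hM (isPBlock_principalBlock (M := M) (G := G)) y z₀ h2y h2z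
    have e1 : ∑ χ : IrrCharacter G, (if χ ∈ B₀ then (1 : ℂ) else 0) *
        ((χ : G → ℂ) y * (starRingEnd ℂ) ((χ : G → ℂ) z₀)) =
        ∑ χ ∈ Finset.univ.filter (fun χ : IrrCharacter G => χ ∈ B₀),
          (χ : G → ℂ) z₀ * (χ : G → ℂ) y := by
      rw [Finset.sum_filter]
      refine Finset.sum_congr rfl fun χ _ => ?_
      by_cases hχ : χ ∈ B₀
      · rw [if_pos hχ, if_pos hχ, one_mul]
        have : (starRingEnd ℂ) ((χ : G → ℂ) z₀) = (χ : G → ℂ) z₀ := by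
          rcases hval χ hχ with h | h <;> rw [h] <;> simp
        rw [this]; ring
      · rw [if_neg hχ, if_neg hχ, zero_mul]
    rw [e1, hfilter, Finset.sum_insert htT] at h
    simpa using h
  have hdegsum : ∀ S : Finset (IrrCharacter G), 
      ∑ χ ∈ S, (χ : G → ℂ) 1 = ((∑ χ ∈ S, irrDeg χ : ℕ) : ℂ) := by
    intro S
    push_cast
    refine Finset.sum_congr rfl fun χ _ => irrDeg_spec χ
  have hodd1 : Odd (orderOf (1 : G)) := by rw [orderOf_one]; exact odd_one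
  -- a member with value -1
  obtain ⟨ζ₄, hζ₄T, hζ₄v⟩ : ∃ ζ ∈ T, (ζ : G → ℂ) z₀ = -1 := by
    by_contra hcon
    push Not at hcon
    have hall : ∀ χ ∈ T, (χ : G → ℂ) z₀ = 1 := by
      intro χ hχ
      rcases hval χ ((hmemT χ).mp hχ).1 with h | h
      · exact h
      · exact absurd h (hcon χ hχ)
    have h0 := horth 1 hodd1
    rw [Finset.sum_congr rfl (fun χ hχ => by rw [hall χ hχ, one_mul]), hdegsum] at h0
    have : ((1 + ∑ χ ∈ T, irrDeg χ : ℕ) : ℂ) = 0 := by push_cast; push_cast at h0; exact h0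
    have := Nat.cast_eq_zero.mp this
    omega
  -- a member with value 1
  obtain ⟨ζ₂, hζ₂T, hζ₂v⟩ : ∃ ζ ∈ T, (ζ : G → ℂ) z₀ = 1 := by
    by_contra hcon
    push Not at hcon
    have hall : ∀ χ ∈ T, (χ : G → ℂ) z₀ = -1 := by
      intro χ hχ
      rcases hval χ ((hmemT χ).mp hχ).1 with h | h
      · exact absurd h (hcon χ hχ)
      · exact h
    have h0 := horth 1 hodd1
    rw [Finset.sum_congr rfl (fun χ hχ => by rw [hall χ hχ, neg_one_mul]),
      Finset.sum_neg_distrib, hdegsum] at h0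
    have h1 : ((∑ χ ∈ T, irrDeg χ : ℕ) : ℂ) = ((1 : ℕ) : ℂ) := by
      push_cast; push_cast at h0; linear_combination -h0
    have h2 : ∑ χ ∈ T, irrDeg χ = 1 := Nat.cast_injective h1
    have h3 : T.card ≤ ∑ χ ∈ T, irrDeg χ := by
      rw [Finset.card_eq_sum_ones]
      exact Finset.sum_le_sum fun χ _ => irrDeg_pos χ
    omega
  have h24 : ζ₂ ≠ ζ₄ := by
    intro h
    rw [h, hζ₄v] at hζ₂v
    norm_num at hζ₂v
  -- the third member
  have hc1 : ((T.erase ζ₂).erase ζ₄).card = 1 := by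
    rw [Finset.card_erase_of_mem (Finset.mem_erase.mpr ⟨h24.symm, hζ₄T⟩),
      Finset.card_erase_of_mem hζ₂T, hTcard]
  obtain ⟨ζ₃, hζ₃⟩ := Finset.card_eq_one.mp hc1
  have hζ₃mem : ζ₃ ∈ (T.erase ζ₂).erase ζ₄ := by rw [hζ₃]; exact Finset.mem_singleton_self _
  have h34 : ζ₃ ≠ ζ₄ := (Finset.mem_erase.mp hζ₃mem).1
  have h32 : ζ₃ ≠ ζ₂ := (Finset.mem_erase.mp (Finset.mem_erase.mp hζ₃mem).2).1
  have hζ₃T : ζ₃ ∈ T := (Finset.mem_erase.mp (Finset.mem_erase.mp hζ₃mem).2).2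
  have hTeq : T = insert ζ₂ (insert ζ₄ {ζ₃}) := by
    rw [← hζ₃, Finset.insert_erase (Finset.mem_erase.mpr ⟨h24.symm, hζ₄T⟩),
      Finset.insert_erase hζ₂T]
  obtain ⟨ε, hε, hεv⟩ : ∃ ε : ℤ, (ε = 1 ∨ ε = -1) ∧ (ζ₃ : G → ℂ) z₀ = (ε : ℂ) := by
    rcases hval ζ₃ ((hmemT ζ₃).mp hζ₃T).1 with h | h
    · exact ⟨1, Or.inl rfl, by rw [h]; norm_num⟩
    · exact ⟨-1, Or.inr rfl, by rw [h]; norm_num⟩
  have hne_triv : ∀ ζ ∈ T, (ζ : G → ℂ) ≠ (fun _ => 1) := by
    intro ζ hζ h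
    apply ((hmemT ζ).mp hζ).2
    exact Subtype.ext h
  refine ⟨ζ₂, ζ₃, ζ₄, ε, hε, hne_triv ζ₂ hζ₂T, hne_triv ζ₃ hζ₃T, h32.symm, h24, h34, ?_, ?_, ?_,
    ?_, ?_, ?_⟩
  · ext χ
    rw [Set.mem_ofPred_eq]
    constructor
    · intro hχ
      by_cases h1 : χ = trivIrr G
      · left; rw [h1]; rfl
      · right
        have : χ ∈ T := (hmemT χ).mpr ⟨hχ, h1⟩
        rw [hTeq, Finset.mem_insert, Finset.mem_insert, Finset.mem_singleton] at this
        rcases this with h | h | h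
        · left; exact h
        · right; right; exact h
        · right; left; exact h
    · rintro (h | h | h | h)
      · have : χ = trivIrr G := Subtype.ext h
        rw [this]; exact htriv
      · rw [h]; exact ((hmemT _).mp hζ₂T).1
      · rw [h]; exact ((hmemT _).mp hζ₃T).1
      · rw [h]; exact ((hmemT _).mp hζ₄T).1
  · intro z hz
    rw [hinv ζ₂ z hz, hinv ζ₃ z hz, hinv ζ₄ z hz]
    exact ⟨hζ₂v, hεv, hζ₄v⟩
  · rw [charDegree_eq_irrDeg]
    have := degree_mod_four P hP hone ζ₂ z₀ hz₀2 1 (by rw [hζ₂v]; norm_num)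
    exact this
  · rw [charDegree_eq_irrDeg]
    exact degree_mod_four P hP hone ζ₃ z₀ hz₀2 ε hεv
  · rw [charDegree_eq_irrDeg]
    have := degree_mod_four P hP hone ζ₄ z₀ hz₀2 (-1) (by rw [hζ₄v]; norm_num)
    rw [sub_neg_eq_add] at this
    exact this
  · intro y hy
    have h0 := horth y hy
    rw [hTeq, Finset.sum_insert, Finset.sum_insert, Finset.sum_singleton, hζ₂v, hζ₄v, hεv] at h0
    · linear_combination h0
    · rw [Finset.mem_singleton]; exact h34.symm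
    · rw [Finset.mem_insert, Finset.mem_singleton]
      rintro (h | h)
      · exact h24 h
      · exact h32 h.symm

end Cfsg.Agent.Helper8.KleinB
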