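import Mathlib
import Cfsg.Agent.Helper16.KleinSylow

/-!
# Groups of order `4 · odd` without a normal 2-complement
-/

set_option autoImplicit false

namespace Cfsg.Agent.Helper8.KleinNC

open Cfsg Cfsg.Agent.Helper16

/-- A group of order `4 g₀`, `g₀` odd, without a normal subgroup of order `g₀` has Klein four
Sylow 2-subgroups and a single class of involutions. -/
theorem klein_of_no_complement {G : Type*} [Group G] [Finite G] (g₀ : ℕ) (hg₀ : Odd g₀)
    (hG : Nat.card G = 4 * g₀)
    (hnc : ¬ ∃ N : Subgroup G, N.Normal ∧ Nat.card N = g₀) (P : Sylow 2 G) :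
    IsKleinFour (P : Subgroup G) ∧
      ∀ s t : G, orderOf s = 2 → orderOf t = 2 → IsConj s t := by
  haveI : Fact (Nat.Prime 2) := ⟨Nat.prime_two⟩
  have hg₀0 : g₀ ≠ 0 := by
    rintro rfl
    simp at hg₀
  have hν : (Nat.card G).factorization 2 = 2 := by
    rw [hG, Nat.factorization_mul (by norm_num) hg₀0]
    have h4 : (4 : ℕ).factorization 2 = 2 := by
      have : (4 : ℕ) = 2 ^ 2 := by norm_num
      rw [this, Nat.Prime.factorization_pow Nat.prime_two]
      simp
    have h0 : g₀.factorization 2 = 0 := by
      apply Nat.factorization_eq_zero_of_not_dvd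
      intro h
      exact (Nat.not_even_iff_odd.mpr hg₀) (even_iff_two_dvd.mpr h)
    rw [Finsupp.add_apply, h4, h0]
  have hcardP : Nat.card (P : Subgroup G) = 4 := by
    rw [P.card_eq_multiplicity, hν]
    norm_num
  -- a normal complement is impossible
  have hnoN : ¬ (Subgroup.normalizer ((P : Subgroup G) : Set G) ≤
      Subgroup.centralizer ((P : Subgroup G) : Set G)) := by
    intro hN
    have hc := MonoidHom.ker_transferSylow_isComplement' P hN
    apply hnc
    refine ⟨(MonoidHom.transferSylow P hN).ker, inferInstance, ?_⟩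
    have h1 := hc.card_mul_card
    rw [hcardP, hG] at h1
    omega
  have hK : IsKleinFour (P : Subgroup G) := by
    have hncyc : ¬ IsCyclic (P : Subgroup G) := by
      intro hcyc
      apply hnoN
      apply IsCyclic.normalizer_le_centralizer _ hcyc
      rw [Nat.minFac_eq_two_iff, hG]
      exact ⟨2 * g₀, by ring⟩
    refine ⟨hcardP, ?_⟩
    have hexp : ∀ x : (P : Subgroup G), x ^ 2 = 1 := by
      intro x
      have h1 : orderOf x ∣ 2 ^ 2 := by
        have := orderOf_dvd_natCard x
        rw [hcardP] at this
        exact this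
      obtain ⟨m, hm, hx⟩ := (Nat.dvd_prime_pow Nat.prime_two).mp h1
      have hm2 : m ≠ 2 := by
        intro h
        apply hncyc
        apply isCyclic_of_orderOf_eq_card x
        rw [hx, h, hcardP]
        norm_num
      have : orderOf x ∣ 2 := by
        rw [hx]
        interval_cases m
        · norm_num
        · norm_num
        · exact absurd rfl hm2
      exact orderOf_dvd_iff_pow_eq_one.mp this
    have hdvd : Monoid.exponent (P : Subgroup G) ∣ 2 :=
      Monoid.exponent_dvd_of_forall_pow_eq_one hexp
    have hne : Monoid.exponent (P : Subgroup G) ≠ 1 := by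
      intro h
      have := Monoid.exp_eq_one_iff.mp h
      have h1 : Nat.card (P : Subgroup G) = 1 := Nat.card_unique
      omega
    rcases (Nat.dvd_prime Nat.prime_two).mp hdvd with h | h
    · exact absurd h hne
    · exact h
  refine ⟨hK, ?_⟩
  obtain ⟨a, b, ha, hb, ha1, hb1, hab⟩ := klein_exists_gens P hK
  rcases klein_dichotomy P hK ha hb ha1 hb1 hab with ⟨h1, h2⟩ | ⟨h1, h2, h3⟩
  · have hall : ∀ t : G, orderOf t = 2 → IsConj t a := by
      intro t ht
      rcases klein_invol_conj P hK ha hb ha1 hb1 hab t ht with h | h | h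
      · exact h
      · exact h.trans h1.symm
      · exact h.trans h2.symm
    intro s t hs ht
    exact (hall s hs).trans (hall t ht).symm
  · exfalso
    apply hnoN
    exact klein_normalizer_le_centralizer P hK
      (klein_card_three P hK ha hb ha1 hb1 hab h1 h2 h3)

end Cfsg.Agent.Helper8.KleinNC
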