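import Mathlib
import Cfsg.Agent.Helper8.KleinCentral
import Cfsg.Agent.Helper8.SectionSum
import Cfsg.Agent.Helper19.Cores

/-!
# Counting pairs of involutions with product in a coset of the odd core
-/

set_option autoImplicit false

namespace Cfsg.Agent.Helper8.KleinCnt

open Cfsg Cfsg.Agent.Helper16

/-- The class equation for one class: `|cl(x)| · |C(x)| = |H|`. -/
theorem card_class_mul {H : Type*} [Group H] [Fintype H] [DecidableEq H] (x : H)
    [DecidablePred (IsConj x)] :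
    (∑ t : H, if IsConj x t then 1 else 0) * Nat.card (Subgroup.centralizer ({x} : Set H)) =
      Nat.card H := by
  classical
  have h1 : ((∑ t : H, if IsConj x t then 1 else 0 : ℕ) : ℂ) *
      (Nat.card (Subgroup.centralizer ({x} : Set H)) : ℂ) = (Nat.card H : ℂ) := by
    push_cast
    rw [Finset.sum_mul]
    have h2 : ∀ z : H, (if IsConj x z then (1 : ℂ) else 0) *
        (Nat.card (Subgroup.centralizer ({x} : Set H)) : ℂ) =
        ((Finset.univ.filter (fun t : H => t * x * t⁻¹ = z)).card : ℂ) := by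
      intro z
      rw [Cfsg.Agent.Helper8.SecSum.card_transporter x z]
      split_ifs <;> simp
    rw [Finset.sum_congr rfl fun z _ => h2 z]
    rw [← Nat.cast_sum, Nat.card_eq_fintype_card, ← Finset.card_univ]
    congr 1
    exact (Finset.card_eq_sum_card_fiberwise (f := fun t : H => t * x * t⁻¹)
      (s := Finset.univ) (t := Finset.univ) (fun _ _ => Finset.mem_univ _)).symm
  exact_mod_cast h1

/-- A `p`-element is conjugate into any Sylow `p`-subgroup. -/
theorem exists_conj_mem_sylow {H : Type*} [Group H] [Finite H] {p : ℕ} [hp : Fact p.Prime]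
    (Q : Sylow p H) (t : H) (ht : ∃ k : ℕ, orderOf t = p ^ k) :
    ∃ c : H, c⁻¹ * t * c ∈ (Q : Subgroup H) := by
  obtain ⟨k, hk⟩ := ht
  have hzp : IsPGroup p (Subgroup.zpowers t) := by
    apply IsPGroup.of_card (n := k)
    rw [Nat.card_zpowers, hk]
  obtain ⟨Q', hQ'⟩ := hzp.exists_le_sylow
  obtain ⟨c, rfl⟩ := MulAction.exists_smul_eq H Q Q'
  have hgQ : t ∈ ((c • Q : Sylow p H) : Subgroup H) := hQ' (Subgroup.mem_zpowers t)
  rw [Sylow.smul_def, Sylow.pointwise_smul_def,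
    Subgroup.mem_pointwise_smul_iff_inv_smul_mem] at hgQ
  exact ⟨c, by simpa [MulAut.smul_def] using hgQ⟩

section Main

variable {H : Type*} [Group H] [Finite H] (Q : Sylow 2 H) (hQ : IsKleinFour (Q : Subgroup H))

include hQ in
/-- `Q ∩ O(H) = 1`. -/
theorem eq_one_of_mem_of_mem {x : H} (hxQ : x ∈ Q) (hxK : x ∈ pPrimeCore 2 H) : x = 1 := by
  have h1 : orderOf x ∣ 2 := by
    apply orderOf_dvd_of_pow_eq_one
    rw [pow_two]; exact klein_mul_self Q hQ hxQ
  have h2 : orderOf x ∣ Nat.card (pPrimeCore 2 H) := Subgroup.orderOf_dvd_natCard _ hxK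
  have hcop : (Nat.card (pPrimeCore 2 H)).Coprime 2 := Cfsg.Agent.Helper19.pPrimeCore_coprime 2
  have h3 : orderOf x = 1 := Nat.eq_one_of_dvd_coprimes hcop h2 h1
  exact orderOf_eq_one_iff.mp h3

theorem mk_conj (hcomm : ∀ u v : H ⧸ pPrimeCore 2 H, u * v = v * u) (h t : H) :
    ((h * t * h⁻¹ : H) : H ⧸ pPrimeCore 2 H) = (t : H ⧸ pPrimeCore 2 H) := by
  rw [QuotientGroup.mk_mul, QuotientGroup.mk_mul, QuotientGroup.mk_inv, hcomm, ← mul_assoc,
    inv_mul_cancel, one_mul]

variable (z : H) (hzc : ∀ h : H, h * z = z * h) (hzQ : z ∈ Q) (hz1 : z ≠ 1)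

include hQ hzc hzQ hz1 in
theorem quotient_comm : ∀ u v : H ⧸ pPrimeCore 2 H, u * v = v * u := by
  haveI : Fact (Nat.Prime 2) := ⟨Nat.prime_two⟩
  have hidx := (Cfsg.Agent.Helper8.KleinC.index_pPrimeCore Q hQ z hzc hzQ hz1).1
  have hV : Nat.card (H ⧸ pPrimeCore 2 H) = 2 ^ 2 := by
    rw [← Subgroup.index_eq_card]; exact hidx
  exact (IsPGroup.isMulCommutative_of_card_eq_prime_sq hV).is_comm.comm

theorem orderOf_conj_eq_two {a : H} (ha : a * a = 1) (ha1 : a ≠ 1) {t : H} (h : IsConj a t) :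
    orderOf t = 2 := by
  haveI : Fact (Nat.Prime 2) := ⟨Nat.prime_two⟩
  obtain ⟨c, hc⟩ := isConj_iff.mp h
  apply orderOf_eq_prime
  · rw [pow_two, ← hc]
    calc c * a * c⁻¹ * (c * a * c⁻¹) = c * (a * a) * c⁻¹ := by group
      _ = 1 := by rw [ha]; group
  · intro h1
    apply ha1
    rw [h1] at hc
    have : a = c⁻¹ * 1 * c := by rw [← hc]; group
    rw [this]; group

include hQ hzc hzQ hz1 in
/-- Pairs of involutions with product in `z O(H)`. -/
theorem key_iff (a : H) (haQ : a ∈ Q) (ha1 : a ≠ 1) (haz : a ≠ z) (t v : H) :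
    (orderOf t = 2 ∧ orderOf v = 2 ∧ z⁻¹ * t * v ∈ pPrimeCore 2 H) ↔
      ((IsConj a t ∧ IsConj (z * a) v) ∨ (IsConj (z * a) t ∧ IsConj a v)) := by
  haveI : Fact (Nat.Prime 2) := ⟨Nat.prime_two⟩
  have hcomm := quotient_comm Q hQ z hzc hzQ hz1
  have hzz : z * z = 1 := klein_mul_self Q hQ hzQ
  have haa : a * a = 1 := klein_mul_self Q hQ haQ
  have hzaQ : z * a ∈ (Q : Subgroup H) := (Q : Subgroup H).mul_mem hzQ haQ
  have hza1 : z * a ≠ 1 := by
    intro h
    apply haz
    have : a = z⁻¹ := by rw [eq_inv_iff_mul_eq_one, hzc]; exact h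
    rw [this]
    exact inv_eq_of_mul_eq_one_left hzz
  have hzaza : (z * a) * (z * a) = 1 := klein_mul_self Q hQ hzaQ
  have hzinv : z⁻¹ = z := inv_eq_of_mul_eq_one_left hzz
  have hainv : a⁻¹ = a := inv_eq_of_mul_eq_one_left haa
  constructor
  · rintro ⟨ht, hv, hK⟩
    obtain ⟨c, hc⟩ := exists_conj_mem_sylow Q t ⟨1, by rw [ht, pow_one]⟩
    obtain ⟨d, hd⟩ := exists_conj_mem_sylow Q v ⟨1, by rw [hv, pow_one]⟩
    set t' := c⁻¹ * t * c with ht'
    set v' := d⁻¹ * v * d with hv'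
    have ht_eq : t = c * t' * c⁻¹ := by rw [ht']; group
    have hv_eq : v = d * v' * d⁻¹ := by rw [hv']; group
    have ht1 : t ≠ 1 := by
      intro h; rw [h, orderOf_one] at ht; norm_num at ht
    have hv1 : v ≠ 1 := by
      intro h; rw [h, orderOf_one] at hv; norm_num at hv
    have ht'1 : t' ≠ 1 := by
      intro h; apply ht1; rw [ht_eq, h]; group
    have hv'1 : v' ≠ 1 := by
      intro h; apply hv1; rw [hv_eq, h]; group
    -- the product of the representatives is `z`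
    have hprod : z⁻¹ * t' * v' = 1 := by
      apply eq_one_of_mem_of_mem Q hQ
      · exact (Q : Subgroup H).mul_mem ((Q : Subgroup H).mul_mem
          ((Q : Subgroup H).inv_mem hzQ) hc) hd
      · rw [← QuotientGroup.eq_one_iff] at hK ⊢
        rw [QuotientGroup.mk_mul, QuotientGroup.mk_mul] at hK ⊢
        have e1 : ((t' : H) : H ⧸ pPrimeCore 2 H) = (t : H ⧸ pPrimeCore 2 H) := by
          have := mk_conj hcomm c⁻¹ t
          rw [inv_inv] at this
          exact this
        have e2 : ((v' : H) : H ⧸ pPrimeCore 2 H) = (v : H ⧸ pPrimeCore 2 H) := by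
          have := mk_conj hcomm d⁻¹ v
          rw [inv_inv] at this
          exact this
        rw [e1, e2]
        exact hK
    have hv'eq : v' = t'⁻¹ * z := by
      have : z⁻¹ * t' * v' = 1 := hprod
      calc v' = (z⁻¹ * t')⁻¹ * (z⁻¹ * t' * v') := by group
        _ = t'⁻¹ * z := by rw [this]; group
    have ht'z : t' ≠ z := by
      intro h
      apply hv'1
      rw [hv'eq, h, inv_mul_cancel]
    by_cases hta : t' = a
    · left
      refine ⟨isConj_iff.mpr ⟨c, by rw [ht_eq, hta]⟩, isConj_iff.mpr ⟨d, ?_⟩⟩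
      rw [hv_eq, hv'eq, hta, hainv, hzc a]
    · right
      have ht'za : t' = z * a :=
        klein_eq_mul Q hQ hzQ haQ hc hz1 ha1 (Ne.symm haz) ht'1 ht'z hta
      refine ⟨isConj_iff.mpr ⟨c, by rw [ht_eq, ht'za]⟩, isConj_iff.mpr ⟨d, ?_⟩⟩
      rw [hv_eq, hv'eq, ht'za]
      congr 2
      rw [mul_inv_rev, inv_mul_cancel_right, hainv]
  · have hmk : ∀ t v : H, IsConj a t → IsConj (z * a) v →
        ((t : H ⧸ pPrimeCore 2 H)) * ((v : H ⧸ pPrimeCore 2 H)) = ((z : H ⧸ pPrimeCore 2 H)) := by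
      intro t v h1 h2
      obtain ⟨c, hc⟩ := isConj_iff.mp h1
      obtain ⟨d, hd⟩ := isConj_iff.mp h2
      rw [← hc, ← hd, mk_conj hcomm, mk_conj hcomm, ← QuotientGroup.mk_mul]
      congr 1
      rw [← mul_assoc, hzc a, mul_assoc, haa, mul_one]
    rintro (⟨h1, h2⟩ | ⟨h1, h2⟩)
    · refine ⟨orderOf_conj_eq_two haa ha1 h1, orderOf_conj_eq_two hzaza hza1 h2, ?_⟩
      rw [← QuotientGroup.eq_one_iff, mul_assoc, QuotientGroup.mk_mul, QuotientGroup.mk_mul,
        hmk t v h1 h2, ← QuotientGroup.mk_mul, inv_mul_cancel, QuotientGroup.mk_one]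
    · refine ⟨orderOf_conj_eq_two hzaza hza1 h1, orderOf_conj_eq_two haa ha1 h2, ?_⟩
      rw [← QuotientGroup.eq_one_iff, mul_assoc, QuotientGroup.mk_mul, QuotientGroup.mk_mul,
        hcomm (t : H ⧸ pPrimeCore 2 H), hmk v t h2 h1, ← QuotientGroup.mk_mul, inv_mul_cancel,
        QuotientGroup.mk_one]

include hQ hzc hzQ hz1 in
theorem centralizer_eq (a : H) (haQ : a ∈ Q) (ha1 : a ≠ 1) (haz : a ≠ z) :
    Subgroup.centralizer ({a} : Set H) = Subgroup.centralizer ((Q : Subgroup H) : Set H) := by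
  apply le_antisymm
  · intro h hh
    have hha : a * h = h * a := (Subgroup.mem_centralizer_iff.mp hh) a (Set.mem_singleton a)
    rw [Subgroup.mem_centralizer_iff]
    intro q hq
    have hq : q ∈ (Q : Subgroup H) := hq
    by_cases hq1 : q = 1
    · rw [hq1, one_mul, mul_one]
    by_cases hqz : q = z
    · rw [hqz]; exact (hzc h).symm
    by_cases hqa : q = a
    · rw [hqa]; exact hha
    have hqza : q = z * a := klein_eq_mul Q hQ hzQ haQ hq hz1 ha1 (Ne.symm haz) hq1 hqz hqa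
    rw [hqza, mul_assoc, hha, ← mul_assoc, ← hzc h, mul_assoc]
  · apply Subgroup.centralizer_le
    rw [Set.singleton_subset_iff]
    exact haQ

include hQ hzc hzQ hz1 in
/-- The number of pairs of involutions `(t, v)` with `t v ∈ z O(H)`, in the form
`∑_{c ∈ O(H)} #{t | o(t) = 2, o(t⁻¹ z c) = 2}`. -/
theorem count_pairs [Fintype H] [DecidableEq H] [DecidablePred (· ∈ pPrimeCore 2 H)] :
    (∑ c : H, ∑ t : H, (if c ∈ pPrimeCore 2 H ∧ orderOf t = 2 ∧ orderOf (t⁻¹ * (z * c)) = 2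
      then 1 else 0)) * (Nat.card (Subgroup.centralizer ((Q : Subgroup H) : Set H))) ^ 2 =
      2 * (Nat.card H) ^ 2 := by
  classical
  obtain ⟨a₀, b₀, ha₀, hb₀, ha₀1, hb₀1, hab₀⟩ := klein_exists_gens Q hQ
  obtain ⟨a, haQ, ha1, haz⟩ : ∃ w : H, w ∈ Q ∧ w ≠ 1 ∧ w ≠ z := by
    by_cases h : a₀ = z
    · exact ⟨b₀, hb₀, hb₀1, by rw [← h]; exact Ne.symm hab₀⟩
    · exact ⟨a₀, ha₀, ha₀1, h⟩
  have hzz : z * z = 1 := klein_mul_self Q hQ hzQ
  have haa : a * a = 1 := klein_mul_self Q hQ haQ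
  have hbQ : z * a ∈ (Q : Subgroup H) := (Q : Subgroup H).mul_mem hzQ haQ
  have hb1 : z * a ≠ 1 := by
    intro h
    apply haz
    have : a = z⁻¹ := by rw [eq_inv_iff_mul_eq_one, hzc]; exact h
    rw [this]
    exact inv_eq_of_mul_eq_one_left hzz
  have hbz : z * a ≠ z := by
    intro h
    apply ha1
    exact mul_left_cancel (a := z) (by rw [h, mul_one])
  have hcomm := quotient_comm Q hQ z hzc hzQ hz1
  -- `a` and `z a` are not conjugate
  have hnot : ∀ t : H, IsConj a t → IsConj (z * a) t → False := by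
    intro t h1 h2
    obtain ⟨c, hc⟩ := isConj_iff.mp h1
    obtain ⟨d, hd⟩ := isConj_iff.mp h2
    have e1 : ((a : H) : H ⧸ pPrimeCore 2 H) = ((z * a : H) : H ⧸ pPrimeCore 2 H) := by
      rw [← mk_conj hcomm c a, hc, ← hd, mk_conj hcomm d (z * a)]
    apply hz1
    apply eq_one_of_mem_of_mem Q hQ hzQ
    rw [← QuotientGroup.eq_one_iff]
    rw [QuotientGroup.mk_mul] at e1
    exact mul_eq_right.mp e1.symm
  -- reorganize the sum
  have hswap : (∑ c : H, ∑ t : H, (if c ∈ pPrimeCore 2 H ∧ orderOf t = 2 ∧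
      orderOf (t⁻¹ * (z * c)) = 2 then 1 else 0)) =
      ∑ t : H, ∑ v : H, ((if IsConj a t then 1 else 0) * (if IsConj (z * a) v then 1 else 0) +
        (if IsConj (z * a) t then 1 else 0) * (if IsConj a v then 1 else 0)) := by
    rw [Finset.sum_comm]
    refine Finset.sum_congr rfl fun t _ => ?_
    rw [← Equiv.sum_comp ((Equiv.mulLeft z).trans (Equiv.mulLeft t⁻¹))
      (fun v : H => ((if IsConj a t then 1 else 0) * (if IsConj (z * a) v then 1 else 0) +
        (if IsConj (z * a) t then 1 else 0) * (if IsConj a v then 1 else 0)))]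
    refine Finset.sum_congr rfl fun c _ => ?_
    have he : ((Equiv.mulLeft z).trans (Equiv.mulLeft t⁻¹)) c = t⁻¹ * (z * c) := rfl
    rw [he]
    have hkey := key_iff Q hQ z hzc hzQ hz1 a haQ ha1 haz t (t⁻¹ * (z * c))
    have hc_eq : z⁻¹ * t * (t⁻¹ * (z * c)) = c := by group
    rw [hc_eq] at hkey
    by_cases hcond : c ∈ pPrimeCore 2 H ∧ orderOf t = 2 ∧ orderOf (t⁻¹ * (z * c)) = 2
    · rw [if_pos hcond]
      rcases hkey.mp ⟨hcond.2.1, hcond.2.2, hcond.1⟩ with ⟨h1, h2⟩ | ⟨h1, h2⟩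
      · have h3 : ¬ IsConj (z * a) t := fun h => hnot t h1 h
        rw [if_pos h1, if_pos h2, if_neg h3, zero_mul, mul_one, add_zero]
      · have h3 : ¬ IsConj a t := fun h => hnot t h h1
        rw [if_neg h3, if_pos h1, if_pos h2, zero_mul, mul_one, zero_add]
    · rw [if_neg hcond]
      have h1 : ¬ (IsConj a t ∧ IsConj (z * a) (t⁻¹ * (z * c))) := by
        intro h
        apply hcond
        obtain ⟨e1, e2, e3⟩ := hkey.mpr (Or.inl h)
        exact ⟨e3, e1, e2⟩
      have h2 : ¬ (IsConj (z * a) t ∧ IsConj a (t⁻¹ * (z * c))) := by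
        intro h
        apply hcond
        obtain ⟨e1, e2, e3⟩ := hkey.mpr (Or.inr h)
        exact ⟨e3, e1, e2⟩
      by_cases h3 : IsConj a t
      · have h4 : ¬ IsConj (z * a) (t⁻¹ * (z * c)) := fun h => h1 ⟨h3, h⟩
        have h5 : ¬ IsConj (z * a) t := fun h => hnot t h3 h
        rw [if_pos h3, if_neg h4, if_neg h5, mul_zero, zero_mul, add_zero]
      · by_cases h5 : IsConj (z * a) t
        · have h4 : ¬ IsConj a (t⁻¹ * (z * c)) := fun h => h2 ⟨h5, h⟩
          rw [if_neg h3, if_pos h5, if_neg h4, zero_mul, mul_zero, add_zero]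
        · rw [if_neg h3, if_neg h5, zero_mul, zero_mul, add_zero]
  rw [hswap]
  have hfact : ∑ t : H, ∑ v : H, ((if IsConj a t then 1 else 0) *
      (if IsConj (z * a) v then 1 else 0) +
        (if IsConj (z * a) t then 1 else 0) * (if IsConj a v then 1 else 0)) =
      2 * ((∑ t : H, if IsConj a t then 1 else 0) * (∑ t : H, if IsConj (z * a) t then 1 else 0)) := by
    simp only [Finset.sum_add_distrib, ← Finset.mul_sum, ← Finset.sum_mul]
    ring
  rw [hfact]
  have hca := card_class_mul a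
  have hcb := card_class_mul (z * a)
  rw [centralizer_eq Q hQ z hzc hzQ hz1 a haQ ha1 haz] at hca
  rw [centralizer_eq Q hQ z hzc hzQ hz1 (z * a) hbQ hb1 hbz] at hcb
  set na := ∑ t : H, if IsConj a t then 1 else 0 with hna
  set nb := ∑ t : H, if IsConj (z * a) t then 1 else 0 with hnb
  set m := Nat.card (Subgroup.centralizer ((Q : Subgroup H) : Set H)) with hm
  calc 2 * (na * nb) * m ^ 2 = 2 * ((na * m) * (nb * m)) := by ring
    _ = 2 * (Nat.card H) ^ 2 := by rw [hca, hcb]; ring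

end Main

end Cfsg.Agent.Helper8.KleinCnt
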