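import Mathlib
import Cfsg.Agent.Helper8.KleinCount

/-!
# Pairs of involutions of `G` with product in `J · O(C_G(J))`
-/

set_option autoImplicit false

namespace Cfsg.Agent.Helper8.KleinCnt

open Cfsg Cfsg.Agent.Helper16

/-- The dihedral argument: two involutions whose product is `J c`, with `c` of odd order
commuting with the involution `J`, commute with `J`. -/
theorem commute_of_involution_pair {G : Type*} [Group G] (J c t : G) (hJ : J * J = 1)
    (hJc : J * c = c * J) (hodd : Odd (orderOf c)) (ht : t * t = 1)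
    (hv : (t⁻¹ * (J * c)) * (t⁻¹ * (J * c)) = 1) : t * J = J * t := by
  have htinv : t⁻¹ = t := inv_eq_of_mul_eq_one_left ht
  set u := J * c with hu
  have hconj : t * u * t⁻¹ = u⁻¹ := by
    rw [htinv] at hv ⊢
    have h1 : t * u * t * u = 1 := by rw [← hv]; group
    calc t * u * t = (t * u * t * u) * u⁻¹ := by group
      _ = u⁻¹ := by rw [h1, one_mul]
  obtain ⟨k, hk⟩ := hodd
  have hJm : J ^ (orderOf c) = J := by
    rw [hk, pow_succ, pow_mul, pow_two, hJ, one_pow, one_mul]
  have hum : u ^ (orderOf c) = J := by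
    have hcomm : Commute J c := hJc
    rw [hu, hcomm.mul_pow, pow_orderOf_eq_one, mul_one, hJm]
  have hJinv : J⁻¹ = J := inv_eq_of_mul_eq_one_left hJ
  have h2 : t * J * t⁻¹ = J := by
    calc t * J * t⁻¹ = t * u ^ (orderOf c) * t⁻¹ := by rw [hum]
      _ = (t * u * t⁻¹) ^ (orderOf c) := (conj_pow).symm
      _ = (u⁻¹) ^ (orderOf c) := by rw [hconj]
      _ = (u ^ (orderOf c))⁻¹ := inv_pow u _
      _ = J := by rw [hum, hJinv]
  calc t * J = t * J * t⁻¹ * t := by group
    _ = J * t := by rw [h2]

/-- A Klein four Sylow 2-subgroup of `G` contained in `C` is a Klein four Sylow 2-subgroup of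
`C`. -/
theorem exists_sylow_sub {G : Type*} [Group G] [Finite G] (P : Sylow 2 G)
    (hP : IsKleinFour (P : Subgroup G)) (C : Subgroup G) (hPC : (P : Subgroup G) ≤ C) :
    ∃ Q : Sylow 2 C, (Q : Subgroup C) = (P : Subgroup G).subgroupOf C ∧
      IsKleinFour (Q : Subgroup C) := by
  haveI : Fact (Nat.Prime 2) := ⟨Nat.prime_two⟩
  have hcardP : Nat.card (P : Subgroup G) = 4 := IsKleinFour.card_four
  have hνG : (Nat.card G).factorization 2 = 2 := by
    have h1 := P.card_eq_multiplicity
    rw [hcardP] at h1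
    have : (2 : ℕ) ^ 2 = 2 ^ (Nat.card G).factorization 2 := by rw [← h1]; norm_num
    exact (Nat.pow_right_injective (le_refl 2) this).symm
  have e : ((P : Subgroup G).subgroupOf C) ≃* (P : Subgroup G) :=
    Subgroup.subgroupOfEquivOfLe hPC
  have hcardQ : Nat.card ((P : Subgroup G).subgroupOf C) = 4 := by
    rw [Nat.card_congr e.toEquiv, hcardP]
  have hνC : (Nat.card C).factorization 2 = 2 := by
    have hC0 : Nat.card C ≠ 0 := Nat.card_pos.ne'
    have hG0 : Nat.card G ≠ 0 := Nat.card_pos.ne'
    have h1 : Nat.card C ∣ Nat.card G := Subgroup.card_subgroup_dvd_card C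
    have h2 : (Nat.card C).factorization 2 ≤ (Nat.card G).factorization 2 :=
      (Nat.factorization_le_iff_dvd hC0 hG0).mpr h1 2
    have h3 : 2 ^ 2 ∣ Nat.card C := by
      have := Subgroup.card_subgroup_dvd_card ((P : Subgroup G).subgroupOf C)
      rw [hcardQ] at this
      exact this
    have h4 : 2 ≤ (Nat.card C).factorization 2 :=
      (Nat.Prime.pow_dvd_iff_le_factorization Nat.prime_two hC0).mp h3
    omega
  let Q : Sylow 2 C := Sylow.ofCard ((P : Subgroup G).subgroupOf C) (by rw [hcardQ, hνC]; norm_num)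
  have hQcoe : (Q : Subgroup C) = (P : Subgroup G).subgroupOf C := Sylow.coe_ofCard _ _
  refine ⟨Q, hQcoe, ?_⟩
  rw [hQcoe]
  refine ⟨hcardQ, ?_⟩
  rw [Monoid.exponent_eq_of_mulEquiv e]
  exact IsKleinFour.exponent_two

/-- **The count of pairs of involutions of `G` with product in `J · O(C_G(J))`.** -/
theorem count_pairs_G {G : Type*} [Group G] [Fintype G] [DecidableEq G] (P : Sylow 2 G)
    (hP : IsKleinFour (P : Subgroup G)) (J : G) (hJP : J ∈ P) (hJ1 : J ≠ 1)
    (hone : ∀ s t : G, orderOf s = 2 → orderOf t = 2 → IsConj s t)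
    (C : Subgroup G) (hC : C = Subgroup.centralizer ({J} : Set G)) [Fintype C]
    [DecidablePred (· ∈ pPrimeCore 2 C)] :
    (∑ c : C, if c ∈ pPrimeCore 2 C then
        Nat.card {t : G // IsConj J t ∧ IsConj J (t⁻¹ * (J * (c : G)))} else 0) *
      (Nat.card (Subgroup.centralizer ((P : Subgroup G) : Set G))) ^ 2 =
      2 * (Nat.card C) ^ 2 := by
  classical
  haveI : Fact (Nat.Prime 2) := ⟨Nat.prime_two⟩
  have hmem : ∀ y : G, y ∈ C ↔ J * y = y * J := by
    intro y
    rw [hC, Subgroup.mem_centralizer_iff]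
    constructor
    · intro h; exact h J (Set.mem_singleton J)
    · intro h w hw
      rw [Set.mem_singleton_iff] at hw
      rw [hw]; exact h
  have hPC : (P : Subgroup G) ≤ C := by
    intro x hx
    exact (hmem x).mpr (klein_comm P hP hJP hx)
  have hJC : J ∈ C := hPC hJP
  have hJJ : J * J = 1 := klein_mul_self P hP hJP
  have hJ2 : orderOf J = 2 := orderOf_eq_prime (by rw [pow_two]; exact hJJ) hJ1
  obtain ⟨Q, hQcoe, hQK⟩ := exists_sylow_sub P hP C hPC
  have hQmem : ∀ q : C, q ∈ (Q : Subgroup C) ↔ (q : G) ∈ (P : Subgroup G) := by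
    intro q
    rw [hQcoe, Subgroup.mem_subgroupOf]
  have hzc : ∀ h : C, h * (⟨J, hJC⟩ : C) = ⟨J, hJC⟩ * h := by
    intro h
    apply Subtype.ext
    show (h : G) * J = J * (h : G)
    exact ((hmem h).mp h.2).symm
  have hzQ : (⟨J, hJC⟩ : C) ∈ Q := (hQmem _).mpr hJP
  have hz1 : (⟨J, hJC⟩ : C) ≠ 1 := by
    intro h
    apply hJ1
    exact congrArg Subtype.val h
  have hcount := count_pairs Q hQK (⟨J, hJC⟩ : C) hzc hzQ hz1
  -- the centralizers of `Q` in `C` and of `P` in `G` have the same order
  have hcard : Nat.card (Subgroup.centralizer ((Q : Subgroup C) : Set C)) =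
      Nat.card (Subgroup.centralizer ((P : Subgroup G) : Set G)) := by
    apply Nat.card_congr
    refine
      { toFun := fun h => ⟨((h : C) : G), ?_⟩
        invFun := fun g => ⟨⟨(g : G), ?_⟩, ?_⟩
        left_inv := fun h => rfl
        right_inv := fun g => rfl }
    · rw [Subgroup.mem_centralizer_iff]
      intro x hx
      have hx' : (⟨x, hPC hx⟩ : C) ∈ (Q : Subgroup C) := (hQmem _).mpr hx
      have := (Subgroup.mem_centralizer_iff.mp h.2) ⟨x, hPC hx⟩ hx'
      exact congrArg Subtype.val this
    · rw [hmem]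
      exact (Subgroup.mem_centralizer_iff.mp g.2) J hJP
    · rw [Subgroup.mem_centralizer_iff]
      intro q hq
      have hq' : ((q : C) : G) ∈ (P : Subgroup G) := (hQmem q).mp hq
      apply Subtype.ext
      exact (Subgroup.mem_centralizer_iff.mp g.2) (q : G) hq'
  rw [hcard] at hcount
  rw [← hcount]
  congr 1
  refine Finset.sum_congr rfl fun c _ => ?_
  by_cases hc : c ∈ pPrimeCore 2 C
  · rw [if_pos hc]
    have hodd : Odd (orderOf (c : G)) := by
      rw [Subgroup.orderOf_coe]
      have h1 : orderOf c ∣ Nat.card (pPrimeCore 2 C) := Subgroup.orderOf_dvd_natCard _ hc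
      have hcop : (Nat.card (pPrimeCore 2 C)).Coprime 2 :=
        Cfsg.Agent.Helper19.pPrimeCore_coprime 2
      exact Odd.of_dvd_nat (Nat.coprime_two_right.mp hcop) h1
    have horder : ∀ t : G, IsConj J t ↔ orderOf t = 2 := by
      intro t
      constructor
      · intro h; exact orderOf_conj_eq_two hJJ hJ1 h
      · intro h; exact hone J t hJ2 h
    have hsq : ∀ t : G, orderOf t = 2 → t * t = 1 := by
      intro t ht
      have := pow_orderOf_eq_one t
      rw [ht, pow_two] at this
      exact this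
    have hin : ∀ t : G, IsConj J t ∧ IsConj J (t⁻¹ * (J * (c : G))) → t ∈ C := by
      intro t ht
      rw [hmem]
      exact (commute_of_involution_pair J (c : G) t hJJ ((hmem c).mp c.2) hodd
        (hsq t ((horder t).mp ht.1)) (hsq _ ((horder _).mp ht.2))).symm
    have e : {t : G // IsConj J t ∧ IsConj J (t⁻¹ * (J * (c : G)))} ≃
        {t : C // orderOf t = 2 ∧ orderOf (t⁻¹ * ((⟨J, hJC⟩ : C) * c)) = 2} :=
      { toFun := fun t => ⟨⟨t.1, hin t.1 t.2⟩, by
          constructor
          · rw [Subgroup.orderOf_mk]; exact (horder t.1).mp t.2.1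
          · rw [← Subgroup.orderOf_coe]
            exact (horder _).mp t.2.2⟩
        invFun := fun t => ⟨((t.1 : C) : G), by
          constructor
          · rw [horder, Subgroup.orderOf_coe]; exact t.2.1
          · rw [horder]
            have := t.2.2
            rw [← Subgroup.orderOf_coe] at this
            exact this⟩
        left_inv := fun t => rfl
        right_inv := fun t => rfl }
    rw [Nat.card_congr e, Nat.card_eq_fintype_card, Fintype.card_subtype, Finset.card_filter]
    refine Finset.sum_congr rfl fun t _ => ?_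
    by_cases h : orderOf t = 2 ∧ orderOf (t⁻¹ * ((⟨J, hJC⟩ : C) * c)) = 2
    · rw [if_pos h, if_pos ⟨hc, h⟩]
    · rw [if_neg h, if_neg (fun h' => h h'.2)]
  · rw [if_neg hc]
    symm
    apply Finset.sum_eq_zero
    intro t _
    rw [if_neg (fun h' => hc h'.1)]

end Cfsg.Agent.Helper8.KleinCnt
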