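import Mathlib
import Cfsg.Agent.Helper8.SectionCore
import Cfsg.Agent.Helper8.CharComp
import Cfsg.Agent.Helper23.CentralChar

/-!
# Expansion of the values on a `p`-section through the characters of the centralizer
-/

set_option autoImplicit false

namespace Cfsg.Agent.Helper8.SecCore

open Cfsg Cfsg.Agent.Helper24 Cfsg.Agent.Helper5 Cfsg.Agent.Helper5.CC Cfsg.Agent.Helper5.Loc

variable {G : Type*} [Group G] [Fintype G] {M : Ideal AlgInt}

/-- **Second main theorem, character form**: for `χ ∈ Irr(G)`, a `p`-element `x` with centralizer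
`C` and a `p`-regular `y ∈ C`,
`[χ ∈ B] χ(xy) = ∑_{ψ ∈ S} [χ(x·), ψ] ψ(y)`, `S` the union of the blocks of `C` inducing `B`. -/
theorem section_expansion [Fintype (IrrCharacter G)] {p : ℕ} [hp : Fact p.Prime]
    (hM : IsPModular p M) (x : G) (hx : ∃ k : ℕ, orderOf x = p ^ k)
    (C : Subgroup G) [Fintype C] [Fintype (IrrCharacter C)] (hxC : x ∈ C)
    (hcomm : ∀ c : C, x * (c : G) = (c : G) * x)
    (hcent : Subgroup.centralizer ({x} : Set G) ≤ C)
    (B : Set (IrrCharacter G)) [DecidablePred (· ∈ B)] (hB : IsPBlock M B)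
    [DecidablePred (· ∈ indSet M C B)] (χ : IrrCharacter G) (y : C) (hy : ¬ p ∣ orderOf y) :
    (if χ ∈ B then (χ : G → ℂ) (x * (y : G)) else 0) =
      ∑ ψ : IrrCharacter C, if ψ ∈ indSet M C B then
        classInner (fun c : C => (χ : G → ℂ) (x * (c : G))) (ψ : C → ℂ) * (ψ : C → ℂ) y else 0 := by
  rw [← step1 hM x hx C hxC hcomm hcent B hB y hy χ]
  have hΘ : IsClassFunction C (fun c : C => (χ : G → ℂ) (x * (c : G))) := by
    intro c h
    show (χ : G → ℂ) (x * ((h * c * h⁻¹ : C) : G)) = (χ : G → ℂ) (x * (c : G))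
    rw [← isClassFunction_irr χ (x * (c : G)) (h : G)]
    simp only [Subgroup.coe_mul, Subgroup.coe_inv]
    rw [← mul_assoc, ← mul_assoc, hcomm h]
    group
  have e3 : ∑ k : C, blockCoeff (indSet M C B) k * (χ : G → ℂ) ((k : G) * (x * (y : G))) =
      blockPart (indSet M C B) (fun c : C => (χ : G → ℂ) (x * (c : G))) y := by
    rw [blockPart_eq_sum_blockCoeff (indSet M C B) hΘ y]
    refine Finset.sum_congr rfl fun k _ => ?_
    congr 1
    show (χ : G → ℂ) ((k : G) * (x * (y : G))) = (χ : G → ℂ) (x * ((k * y : C) : G))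
    rw [Subgroup.coe_mul, ← mul_assoc, ← mul_assoc, hcomm k]
  rw [e3]
  have hinstC : Fintype.ofFinite C = ‹Fintype C› := Subsingleton.elim _ _
  simp only [blockPart]
  rw [hinstC, finsum_mem_eq_sum_ite]

/-- For a central involution `x` of `C`, the inner products `[χ(x·), ψ]` are integers. -/
theorem classInner_shift_int (C : Subgroup G) [Fintype C] [Fintype (IrrCharacter C)] (x : G)
    (hxC : x ∈ C) (hcomm : ∀ c : C, x * (c : G) = (c : G) * x) (hx2 : x * x = 1)
    (χ : IrrCharacter G) (ψ : IrrCharacter C) :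
    ∃ n : ℤ, classInner (fun c : C => (χ : G → ℂ) (x * (c : G))) (ψ : C → ℂ) = (n : ℂ) := by
  classical
  have hxZ : (⟨x, hxC⟩ : C) ∈ Subgroup.center C := by
    rw [Subgroup.mem_center_iff]
    intro c
    apply Subtype.ext
    show (c : G) * x = x * (c : G)
    exact (hcomm c).symm
  obtain ⟨ω, hω⟩ := Cfsg.Agent.Helper23.exists_central_character ψ
  set w : ℂ := ω ⟨⟨x, hxC⟩, hxZ⟩ with hw
  have hw2 : w * w = 1 := by
    rw [hw, ← map_mul]
    have : (⟨⟨x, hxC⟩, hxZ⟩ : Subgroup.center C) * ⟨⟨x, hxC⟩, hxZ⟩ = 1 := by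
      apply Subtype.ext
      apply Subtype.ext
      show x * x = 1
      exact hx2
    rw [this, map_one]
  have hwpm : w = 1 ∨ w = -1 := by
    have : (w - 1) * (w + 1) = 0 := by ring_nf; rw [← sub_eq_zero] at hw2; ring_nf at hw2; exact hw2
    rcases mul_eq_zero.mp this with h | h
    · left; linear_combination h
    · right; linear_combination h
  have hres : IsCharacter C (fun c : C => (χ : G → ℂ) (c : G)) :=
    Cfsg.Agent.Helper8.isCharacter_restrict C (IsIrrCharacter.isCharacter χ.2)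
  obtain ⟨m, hm⟩ := IsCharacter.classInner_irr_nat hres ψ
  have key : classInner (fun c : C => (χ : G → ℂ) (x * (c : G))) (ψ : C → ℂ) =
      (starRingEnd ℂ) w * classInner (fun c : C => (χ : G → ℂ) (c : G)) (ψ : C → ℂ) := by
    have hsum : ∑ c : C, (χ : G → ℂ) (x * (c : G)) * (starRingEnd ℂ) ((ψ : C → ℂ) c) =
        (starRingEnd ℂ) w * ∑ c : C, (χ : G → ℂ) (c : G) * (starRingEnd ℂ) ((ψ : C → ℂ) c) := by
      rw [Finset.mul_sum]
      symm
      refine Fintype.sum_equiv (Equiv.mulLeft (⟨x, hxC⟩ : C))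
        (fun c : C => (starRingEnd ℂ) w * ((χ : G → ℂ) (c : G) * (starRingEnd ℂ) ((ψ : C → ℂ) c)))
        (fun c : C => (χ : G → ℂ) (x * (c : G)) * (starRingEnd ℂ) ((ψ : C → ℂ) c)) fun c => ?_
      show (starRingEnd ℂ) w * ((χ : G → ℂ) (c : G) * (starRingEnd ℂ) ((ψ : C → ℂ) c)) =
        (χ : G → ℂ) (x * (((⟨x, hxC⟩ : C) * c : C) : G)) *
          (starRingEnd ℂ) ((ψ : C → ℂ) ((⟨x, hxC⟩ : C) * c))
      have e1 : x * (((⟨x, hxC⟩ : C) * c : C) : G) = (c : G) := by
        show x * (x * (c : G)) = (c : G)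
        rw [← mul_assoc, hx2, one_mul]
      have e2 : (ψ : C → ℂ) ((⟨x, hxC⟩ : C) * c) = w * (ψ : C → ℂ) c := by
        have h1 : (⟨x, hxC⟩ : C) * c = c * ((⟨⟨x, hxC⟩, hxZ⟩ : Subgroup.center C) : C) := by
          have := Subgroup.mem_center_iff.mp hxZ c
          exact this.symm
        rw [h1, hω]
      rw [e1, e2, map_mul]
      ring
    unfold classInner
    rw [hsum]
    ring
  rw [key, hm]
  rcases hwpm with h | h
  · exact ⟨m, by rw [h]; simp⟩
  · exact ⟨-m, by rw [h]; simp⟩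

end Cfsg.Agent.Helper8.SecCore
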