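import Mathlib
import Cfsg.Agent.Helper8.KleinBlock
import Cfsg.Agent.Helper8.SectionExpand
import Cfsg.Agent.S0939
import Cfsg.Agent.Helper19.Cores
import Cfsg.Agent.Helper8.KleinCount2
import Cfsg.Agent.Helper5.ClassMul

/-!
# The order formula for groups with Klein four Sylow 2-subgroups: character-theoretic part
-/

set_option autoImplicit false

namespace Cfsg.Agent.Helper8.KleinOrd

open Cfsg Cfsg.Agent.Helper24 Cfsg.Agent.Helper5 Cfsg.Agent.Helper5.CC Cfsg.Agent.Helper5.Loc
open Cfsg.Agent.Helper16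

/-- An element outside the `p'`-core of a group with a normal `p`-complement is `p`-singular. -/
theorem dvd_orderOf_of_not_mem {H : Type*} [Group H] [Finite H] {p : ℕ} [hp : Fact p.Prime]
    (hnc : ∃ k : ℕ, (pPrimeCore p H).index = p ^ k) (c : H) (hc : c ∉ pPrimeCore p H) :
    p ∣ orderOf c := by
  by_contra hnd
  apply hc
  obtain ⟨k, hk⟩ := hnc
  have hcop : (orderOf c).Coprime ((pPrimeCore p H).index) := by
    rw [hk]
    exact Nat.Coprime.pow_right k ((Nat.Prime.coprime_iff_not_dvd hp.out).mpr hnd).symm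
  rw [← QuotientGroup.eq_one_iff]
  have h1 : ((c : H ⧸ pPrimeCore p H)) ^ (orderOf c) = 1 := by
    rw [← QuotientGroup.mk_pow, pow_orderOf_eq_one, QuotientGroup.mk_one]
  have h2 : ((c : H ⧸ pPrimeCore p H)) ^ ((pPrimeCore p H).index) = 1 := by
    rw [Subgroup.index_eq_card]
    exact pow_card_eq_one'
  have h3 := orderOf_dvd_of_pow_eq_one h1
  have h4 := orderOf_dvd_of_pow_eq_one h2
  have h5 : orderOf (c : H ⧸ pPrimeCore p H) = 1 :=
    Nat.eq_one_of_dvd_coprimes hcop h3 h4
  exact orderOf_eq_one_iff.mp h5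

variable {M : Ideal AlgInt}

/-- In a group with a normal `p`-complement `K`, `∑_{ψ ∈ B₀} ψ(1) conj ψ(c)` is `|H : K|` for
`c ∈ K` and vanishes otherwise. -/
theorem sum_principal_npc {H : Type*} [Group H] [Fintype H] [Fintype (IrrCharacter H)]
    {p : ℕ} [hp : Fact p.Prime] (hM : IsPModular p M)
    (hnc : ∃ k : ℕ, (pPrimeCore p H).index = p ^ k) (c : H)
    [DecidablePred (· ∈ principalBlock M H)] [Decidable (c ∈ pPrimeCore p H)] :
    ∑ ψ : IrrCharacter H, (if ψ ∈ principalBlock M H then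
      (ψ : H → ℂ) 1 * (starRingEnd ℂ) ((ψ : H → ℂ) c) else 0) =
    if c ∈ pPrimeCore p H then ((pPrimeCore p H).index : ℂ) else 0 := by
  classical
  have hMp := isPrime_of_isPModular hM
  have hB := Cfsg.Agent.S0939.result p M hM hnc
  -- the singular case
  have hsing : ∀ c : H, c ∉ pPrimeCore p H →
      ∑ ψ : IrrCharacter H, (if ψ ∈ principalBlock M H then
        (ψ : H → ℂ) 1 * (starRingEnd ℂ) ((ψ : H → ℂ) c) else 0) = 0 := by
    intro c hc
    have h1 := block_orthogonality hM (isPBlock_principalBlock (M := M) (G := H)) 1 c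
      (by rw [orderOf_one]; exact fun h => hp.out.one_lt.ne' (Nat.dvd_one.mp h))
      (dvd_orderOf_of_not_mem hnc c hc)
    refine Eq.trans ?_ h1
    refine Finset.sum_congr rfl fun ψ _ => ?_
    split_ifs <;> simp
  -- the regular case: the value does not depend on `c`
  set D : ℂ := ∑ ψ : IrrCharacter H, (if ψ ∈ principalBlock M H then
        (ψ : H → ℂ) 1 * (starRingEnd ℂ) ((ψ : H → ℂ) 1) else 0) with hD
  have hreg : ∀ c : H, c ∈ pPrimeCore p H →
      ∑ ψ : IrrCharacter H, (if ψ ∈ principalBlock M H then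
        (ψ : H → ℂ) 1 * (starRingEnd ℂ) ((ψ : H → ℂ) c) else 0) = D := by
    intro c hc
    rw [hD]
    refine Finset.sum_congr rfl fun ψ _ => ?_
    by_cases hψ : ψ ∈ principalBlock M H
    · rw [if_pos hψ, if_pos hψ]
      have : ψ ∈ {χ : IrrCharacter H | ∀ n ∈ pPrimeCore p H, (χ : H → ℂ) n = (χ : H → ℂ) 1} := by
        rw [← hB]; exact hψ
      rw [this c hc]
    · rw [if_neg hψ, if_neg hψ]
  -- total sum
  have htot : ∑ c : H, ∑ ψ : IrrCharacter H, (if ψ ∈ principalBlock M H then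
        (ψ : H → ℂ) 1 * (starRingEnd ℂ) ((ψ : H → ℂ) c) else 0) = (Nat.card H : ℂ) := by
    rw [Finset.sum_comm]
    have hterm : ∀ ψ : IrrCharacter H, ∑ c : H, (if ψ ∈ principalBlock M H then
        (ψ : H → ℂ) 1 * (starRingEnd ℂ) ((ψ : H → ℂ) c) else 0) =
        if ψ = trivIrr H then (Nat.card H : ℂ) else 0 := by
      intro ψ
      have hinner : ∑ c : H, (starRingEnd ℂ) ((ψ : H → ℂ) c) =
          (Nat.card H : ℂ) * classInner ((trivIrr H : IrrCharacter H) : H → ℂ) (ψ : H → ℂ) := by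
        unfold classInner
        have hne : (Nat.card H : ℂ) ≠ 0 := by
          exact_mod_cast (Nat.card_pos (α := H)).ne'
        rw [← mul_assoc, mul_inv_cancel₀ hne, one_mul]
        refine Finset.sum_congr rfl fun c _ => ?_
        rw [trivIrr_apply, one_mul]
      by_cases hψ : ψ ∈ principalBlock M H
      · simp only [if_pos hψ]
        rw [← Finset.mul_sum, hinner]
        by_cases h1 : ψ = trivIrr H
        · rw [if_pos h1, h1, classInner_irr_self, mul_one]
          show (1 : ℂ) * _ = _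
          rw [one_mul]
        · rw [if_neg h1, classInner_irr_ne (Ne.symm h1), mul_zero, mul_zero]
      · simp only [if_neg hψ]
        rw [Finset.sum_const_zero]
        have h1 : ψ ≠ trivIrr H := by
          intro h
          apply hψ
          rw [h]
          exact trivIrr_mem_principalBlock hMp
        rw [if_neg h1]
    rw [Finset.sum_congr rfl fun ψ _ => hterm ψ]
    rw [Finset.sum_ite_eq' Finset.univ (trivIrr H)]
    simp
  -- split the total sum
  have hsplit : ∑ c : H, ∑ ψ : IrrCharacter H, (if ψ ∈ principalBlock M H then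
        (ψ : H → ℂ) 1 * (starRingEnd ℂ) ((ψ : H → ℂ) c) else 0) =
      (Nat.card (pPrimeCore p H) : ℂ) * D := by
    have h1 : ∀ c : H, ∑ ψ : IrrCharacter H, (if ψ ∈ principalBlock M H then
        (ψ : H → ℂ) 1 * (starRingEnd ℂ) ((ψ : H → ℂ) c) else 0) =
        if c ∈ pPrimeCore p H then D else 0 := by
      intro c
      by_cases hc : c ∈ pPrimeCore p H
      · rw [if_pos hc, hreg c hc]
      · rw [if_neg hc, hsing c hc]
    rw [Finset.sum_congr rfl fun c _ => h1 c]
    rw [← Finset.sum_filter, Finset.sum_const, nsmul_eq_mul]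
    congr 1
    rw [Nat.card_eq_fintype_card, Fintype.card_subtype]
  have hKne : (Nat.card (pPrimeCore p H) : ℂ) ≠ 0 := by
    exact_mod_cast (Nat.card_pos (α := (pPrimeCore p H))).ne'
  have hDval : D = ((pPrimeCore p H).index : ℂ) := by
    have h1 : (Nat.card (pPrimeCore p H) : ℂ) * D = (Nat.card H : ℂ) := by
      rw [← hsplit, htot]
    have h2 : (Nat.card H : ℂ) =
        (Nat.card (pPrimeCore p H) : ℂ) * ((pPrimeCore p H).index : ℂ) := by
      rw [← Subgroup.card_mul_index (pPrimeCore p H)]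
      push_cast; ring
    rw [h2] at h1
    exact mul_left_cancel₀ hKne h1
  by_cases hc : c ∈ pPrimeCore p H
  · rw [if_pos hc, hreg c hc, hDval]
  · rw [if_neg hc, hsing c hc]

/-- **Values of the principal block on a section with `p`-nilpotent centralizer.**  If the
centralizer `C` of the `p`-element `x` has a normal `p`-complement `K`, then for every
`χ ∈ Irr(G)`, `[χ ∈ B₀] χ(x) = |K|⁻¹ ∑_{k ∈ K} χ(x k)`. -/
theorem principal_section_value {G : Type*} [Group G] [Fintype G] [Fintype (IrrCharacter G)]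
    {p : ℕ} [hp : Fact p.Prime] (hM : IsPModular p M) (x : G) (hx : ∃ k : ℕ, orderOf x = p ^ k)
    (C : Subgroup G) [Fintype C] (hxC : x ∈ C)
    (hcomm : ∀ c : C, x * (c : G) = (c : G) * x)
    (hcent : Subgroup.centralizer ({x} : Set G) ≤ C)
    (hnc : ∃ k : ℕ, (pPrimeCore p C).index = p ^ k)
    [DecidablePred (· ∈ principalBlock M G)] [DecidablePred (· ∈ pPrimeCore p C)]
    (χ : IrrCharacter G) :
    (if χ ∈ principalBlock M G then (χ : G → ℂ) x else 0) =
      (Nat.card (pPrimeCore p C) : ℂ)⁻¹ *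
        ∑ c : C, (if c ∈ pPrimeCore p C then (χ : G → ℂ) (x * (c : G)) else 0) := by
  classical
  haveI : Fintype (IrrCharacter C) := Fintype.ofFinite _
  have hexp := Cfsg.Agent.Helper8.SecCore.section_expansion hM x hx C hxC hcomm hcent
    (principalBlock M G) isPBlock_principalBlock χ (1 : C)
    (by rw [orderOf_one]; exact fun h => hp.out.one_lt.ne' (Nat.dvd_one.mp h))
  have hset : Cfsg.Agent.Helper8.SecCore.indSet M C (principalBlock M G) = principalBlock M C :=
    inducingSet_principalBlock (M := M) hM x hx C hxC hcomm hcent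
  simp only [Subgroup.coe_one, mul_one] at hexp
  rw [hexp]
  have hCne : (Nat.card C : ℂ) ≠ 0 := by
    exact_mod_cast (Nat.card_pos (α := C)).ne'
  have hKne : (Nat.card (pPrimeCore p C) : ℂ) ≠ 0 := by
    exact_mod_cast (Nat.card_pos (α := (pPrimeCore p C))).ne'
  have hstep : ∑ ψ : IrrCharacter C,
      (if ψ ∈ Cfsg.Agent.Helper8.SecCore.indSet M C (principalBlock M G) then
        classInner (fun c : C => (χ : G → ℂ) (x * (c : G))) (ψ : C → ℂ) * (ψ : C → ℂ) 1 else 0) =
      (Nat.card C : ℂ)⁻¹ * ∑ c : C, (χ : G → ℂ) (x * (c : G)) *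
        ∑ ψ : IrrCharacter C, (if ψ ∈ principalBlock M C then
          (ψ : C → ℂ) 1 * (starRingEnd ℂ) ((ψ : C → ℂ) c) else 0) := by
    simp only [Finset.mul_sum]
    rw [Finset.sum_comm]
    refine Finset.sum_congr rfl fun ψ _ => ?_
    by_cases hψ : ψ ∈ principalBlock M C
    · have hψ' : ψ ∈ Cfsg.Agent.Helper8.SecCore.indSet M C (principalBlock M G) := by
        rw [hset]; exact hψ
      rw [if_pos hψ']
      simp only [if_pos hψ]
      unfold classInner
      rw [Finset.mul_sum, Finset.sum_mul]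
      refine Finset.sum_congr rfl fun c _ => ?_
      ring
    · have hψ' : ψ ∉ Cfsg.Agent.Helper8.SecCore.indSet M C (principalBlock M G) := by
        rw [hset]; exact hψ
      rw [if_neg hψ']
      simp only [if_neg hψ]
      simp
  rw [hstep]
  rw [Finset.sum_congr rfl fun c _ => by rw [sum_principal_npc hM hnc c]]
  have hidx : ((pPrimeCore p C).index : ℂ) =
      (Nat.card C : ℂ) * (Nat.card (pPrimeCore p C) : ℂ)⁻¹ := by
    rw [eq_mul_inv_iff_mul_eq₀ hKne, ← Subgroup.card_mul_index (pPrimeCore p C)]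
    push_cast; ring
  rw [Finset.mul_sum, Finset.mul_sum]
  refine Finset.sum_congr rfl fun c _ => ?_
  by_cases hc : c ∈ pPrimeCore p C
  · rw [if_pos hc, if_pos hc, hidx]
    field_simp
  · rw [if_neg hc, if_neg hc]
    simp

/-- **Brauer's order formula, character form.**  For a group with Klein four Sylow
2-subgroup `P`, one class of involutions and an involution `J ∈ P`:
`(∑_{χ ∈ B₀} χ(J)³/χ(1)) · |G| · |C(P)|² = 8 |C(J)|³`. -/
theorem main_aux {G : Type*} [Group G] [Fintype G] [Fintype (IrrCharacter G)] [DecidableEq G]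
    (hM : IsPModular 2 M) (P : Sylow 2 G) (hP : IsKleinFour (P : Subgroup G)) (J : G)
    (hJP : J ∈ P) (hJ1 : J ≠ 1)
    (hone : ∀ s t : G, orderOf s = 2 → orderOf t = 2 → IsConj s t)
    [DecidablePred (· ∈ principalBlock M G)]
    (C : Subgroup G) (hC : C = Subgroup.centralizer ({J} : Set G)) [Fintype C] :
    (∑ χ : IrrCharacter G, if χ ∈ principalBlock M G then
        (χ : G → ℂ) J ^ 2 * (starRingEnd ℂ) ((χ : G → ℂ) J) / (χ : G → ℂ) 1 else 0) *
      (Nat.card G : ℂ) *
      (Nat.card (Subgroup.centralizer ((P : Subgroup G) : Set G)) : ℂ) ^ 2 =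
    8 * (Nat.card C : ℂ) ^ 3 := by
  classical
  haveI : Fact (Nat.Prime 2) := ⟨Nat.prime_two⟩
  have hmem : ∀ y : G, y ∈ C ↔ J * y = y * J := by
    intro y
    rw [hC, Subgroup.mem_centralizer_iff]
    constructor
    · intro h; exact h J (Set.mem_singleton J)
    · intro h w hw
      rw [Set.mem_singleton_iff] at hw
      rw [hw]; exact h
  have hJC : J ∈ C := (hmem J).mpr rfl
  have hcomm : ∀ c : C, J * (c : G) = (c : G) * J := fun c => (hmem c).mp c.2
  have hJ2 : orderOf J = 2 := Cfsg.Agent.Helper8.KleinB.orderOf_eq_two_of_mem P hP hJP hJ1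
  have hidx : (pPrimeCore 2 C).index = 2 ^ 2 := by
    have := (Cfsg.Agent.Helper8.KleinB.centralizer_npc P hP J hJP hJ1).1
    rw [← hC] at this
    exact this
  have hval := fun χ : IrrCharacter G => principal_section_value hM J ⟨1, by rw [hJ2, pow_one]⟩
    C hJC hcomm (le_of_eq hC.symm) ⟨2, hidx⟩ χ
  have hcnt := Cfsg.Agent.Helper8.KleinCnt.count_pairs_G P hP J hJP hJ1 hone C hC
  have hmul : ∀ u : G, (Nat.card {t : G // IsConj J t ∧ IsConj J (t⁻¹ * u)} : ℂ) =
      (Nat.card G : ℂ)⁻¹ * ∑ χ : IrrCharacter G,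
        centralChar (χ : G → ℂ) J * centralChar (χ : G → ℂ) J *
          ((χ : G → ℂ) 1 * (starRingEnd ℂ) ((χ : G → ℂ) u)) := by
    intro u
    rw [← Cfsg.Agent.Helper5.ClassMul.conv_classIndicator_apply,
      Cfsg.Agent.Helper5.ClassMul.conv_classIndicator_eq]
  have hg : (Nat.card G : ℂ) ≠ 0 := by exact_mod_cast (Nat.card_pos (α := G)).ne'
  have hk : (Nat.card (pPrimeCore 2 C) : ℂ) ≠ 0 := by
    exact_mod_cast (Nat.card_pos (α := (pPrimeCore 2 C))).ne'
  have hk4 : (Nat.card (pPrimeCore 2 C) : ℂ) * 4 = (Nat.card C : ℂ) := by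
    have := Subgroup.card_mul_index (pPrimeCore 2 C)
    rw [hidx] at this
    rw [← this]
    push_cast; norm_num
  have hidxC : (C.index : ℂ) * (Nat.card C : ℂ) = (Nat.card G : ℂ) := by
    rw [← Subgroup.card_mul_index C]
    push_cast; ring
  have hidx0 : (C.index : ℂ) ≠ 0 := by
    intro h
    rw [h, zero_mul] at hidxC
    exact hg hidxC.symm
  have hω : ∀ χ : IrrCharacter G, centralChar (χ : G → ℂ) J =
      (C.index : ℂ) * (χ : G → ℂ) J / (χ : G → ℂ) 1 := by
    intro χ
    rw [hC]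
    rfl
  -- the two evaluations of the key sum
  have hA : ∑ χ : IrrCharacter G, centralChar (χ : G → ℂ) J * centralChar (χ : G → ℂ) J *
      ((χ : G → ℂ) 1 * (starRingEnd ℂ) (if χ ∈ principalBlock M G then (χ : G → ℂ) J else 0)) =
      (C.index : ℂ) ^ 2 * ∑ χ : IrrCharacter G, if χ ∈ principalBlock M G then
        (χ : G → ℂ) J ^ 2 * (starRingEnd ℂ) ((χ : G → ℂ) J) / (χ : G → ℂ) 1 else 0 := by
    rw [Finset.mul_sum]
    refine Finset.sum_congr rfl fun χ _ => ?_
    have h1 : (χ : G → ℂ) 1 ≠ 0 := irr_one_ne_zero χ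
    by_cases hχ : χ ∈ principalBlock M G
    · rw [if_pos hχ, if_pos hχ, hω]
      field_simp
    · rw [if_neg hχ, if_neg hχ, map_zero, mul_zero, mul_zero, mul_zero]
  have hB : ∑ χ : IrrCharacter G, centralChar (χ : G → ℂ) J * centralChar (χ : G → ℂ) J *
      ((χ : G → ℂ) 1 * (starRingEnd ℂ) (if χ ∈ principalBlock M G then (χ : G → ℂ) J else 0)) =
      (Nat.card (pPrimeCore 2 C) : ℂ)⁻¹ * (Nat.card G : ℂ) *
        ((∑ c : C, if c ∈ pPrimeCore 2 C then
          Nat.card {t : G // IsConj J t ∧ IsConj J (t⁻¹ * (J * (c : G)))} else 0 : ℕ) : ℂ) := by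
    have h1 : ∀ χ : IrrCharacter G,
        (starRingEnd ℂ) (if χ ∈ principalBlock M G then (χ : G → ℂ) J else 0) =
        (Nat.card (pPrimeCore 2 C) : ℂ)⁻¹ * ∑ c : C, (if c ∈ pPrimeCore 2 C then
          (starRingEnd ℂ) ((χ : G → ℂ) (J * (c : G))) else 0) := by
      intro χ
      rw [hval χ, map_mul, map_inv₀, map_natCast, map_sum]
      congr 1
      refine Finset.sum_congr rfl fun c _ => ?_
      split_ifs
      · rfl
      · rw [map_zero]
    simp only [h1]
    have h2 : ∀ c : C, ∑ χ : IrrCharacter G,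
        centralChar (χ : G → ℂ) J * centralChar (χ : G → ℂ) J *
          ((χ : G → ℂ) 1 * (starRingEnd ℂ) ((χ : G → ℂ) (J * (c : G)))) =
        (Nat.card G : ℂ) *
          (Nat.card {t : G // IsConj J t ∧ IsConj J (t⁻¹ * (J * (c : G)))} : ℂ) := by
      intro c
      rw [hmul (J * (c : G)), ← mul_assoc, mul_inv_cancel₀ hg, one_mul]
    push_cast
    rw [Finset.mul_sum]
    have h3 : ∀ χ : IrrCharacter G, centralChar (χ : G → ℂ) J * centralChar (χ : G → ℂ) J *
        ((χ : G → ℂ) 1 * ((Nat.card (pPrimeCore 2 C) : ℂ)⁻¹ * ∑ c : C,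
          (if c ∈ pPrimeCore 2 C then (starRingEnd ℂ) ((χ : G → ℂ) (J * (c : G))) else 0))) =
        ∑ c : C, (if c ∈ pPrimeCore 2 C then (Nat.card (pPrimeCore 2 C) : ℂ)⁻¹ *
          (centralChar (χ : G → ℂ) J * centralChar (χ : G → ℂ) J *
          ((χ : G → ℂ) 1 * (starRingEnd ℂ) ((χ : G → ℂ) (J * (c : G))))) else 0) := by
      intro χ
      rw [Finset.mul_sum, Finset.mul_sum, Finset.mul_sum]
      refine Finset.sum_congr rfl fun c _ => ?_
      split_ifs
      · ring
      · ring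
    rw [Finset.sum_congr rfl fun χ _ => h3 χ, Finset.sum_comm]
    refine Finset.sum_congr rfl fun c _ => ?_
    by_cases hc : c ∈ pPrimeCore 2 C
    · simp only [if_pos hc]
      rw [← Finset.mul_sum, h2 c]
      ring
    · simp only [if_neg hc]
      rw [Finset.sum_const_zero, mul_zero]
  have hcntC : ((∑ c : C, if c ∈ pPrimeCore 2 C then
      Nat.card {t : G // IsConj J t ∧ IsConj J (t⁻¹ * (J * (c : G)))} else 0 : ℕ) : ℂ) *
      (Nat.card (Subgroup.centralizer ((P : Subgroup G) : Set G)) : ℂ) ^ 2 =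
      2 * (Nat.card C : ℂ) ^ 2 := by
    exact_mod_cast hcnt
  have hAB := hA.symm.trans hB
  set S := ∑ χ : IrrCharacter G, if χ ∈ principalBlock M G then
        (χ : G → ℂ) J ^ 2 * (starRingEnd ℂ) ((χ : G → ℂ) J) / (χ : G → ℂ) 1 else 0 with hS
  set N : ℂ := ((∑ c : C, if c ∈ pPrimeCore 2 C then
      Nat.card {t : G // IsConj J t ∧ IsConj J (t⁻¹ * (J * (c : G)))} else 0 : ℕ) : ℂ) with hN
  have hfin : (C.index : ℂ) ^ 2 * (S * (Nat.card G : ℂ) *
      (Nat.card (Subgroup.centralizer ((P : Subgroup G) : Set G)) : ℂ) ^ 2) =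
      (C.index : ℂ) ^ 2 * (8 * (Nat.card C : ℂ) ^ 3) := by
    calc (C.index : ℂ) ^ 2 * (S * (Nat.card G : ℂ) *
        (Nat.card (Subgroup.centralizer ((P : Subgroup G) : Set G)) : ℂ) ^ 2)
        = ((C.index : ℂ) ^ 2 * S) * (Nat.card G : ℂ) *
          (Nat.card (Subgroup.centralizer ((P : Subgroup G) : Set G)) : ℂ) ^ 2 := by ring
      _ = (Nat.card (pPrimeCore 2 C) : ℂ)⁻¹ * (Nat.card G : ℂ) ^ 2 *
          (N * (Nat.card (Subgroup.centralizer ((P : Subgroup G) : Set G)) : ℂ) ^ 2) := by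
            rw [hAB]; ring
      _ = (Nat.card (pPrimeCore 2 C) : ℂ)⁻¹ * (Nat.card G : ℂ) ^ 2 *
          (2 * (Nat.card C : ℂ) ^ 2) := by rw [hcntC]
      _ = (C.index : ℂ) ^ 2 * (8 * (Nat.card C : ℂ) ^ 3) := by
            rw [← hidxC, ← hk4]
            field_simp
            ring
  exact mul_left_cancel₀ (pow_ne_zero 2 hidx0) hfin

end Cfsg.Agent.Helper8.KleinOrd
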