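import Mathlib
import Cfsg.Agent.Helper8.KleinBlock
import Cfsg.Agent.Helper5.StrongOrth

/-!
# The Frobenius–Schur relation on the principal 2-block of a group with Klein four Sylow 2-subgroups

The square-root counting function `ϑ(g) = #{s : s² = g}` is a class function with
`(ϑ, χ) = conj ν(χ)`; when the Sylow 2-subgroups have exponent two it vanishes on the
2-section of an involution, whence `∑_{χ ∈ B} conj ν(χ) χ(J) = 0` for each 2-block `B`.
-/

set_option autoImplicit false

namespace Cfsg.Agent.Helper8.KleinFS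

open Cfsg Cfsg.Agent.Helper24 Cfsg.Agent.Helper5 Cfsg.Agent.Helper5.CC Cfsg.Agent.Helper5.Loc
open Cfsg.Agent.Helper16

variable {G : Type*} [Group G] [Fintype G] [DecidableEq G]

/-- The number of square roots of `g`. -/
noncomputable def sqCount (g : G) : ℂ :=
  ((Finset.univ.filter (fun s : G => s * s = g)).card : ℂ)

theorem isClassFunction_sqCount : IsClassFunction G (sqCount (G := G)) := by
  intro g h
  unfold sqCount
  congr 1
  refine Finset.card_bij' (fun s _ => h⁻¹ * s * h) (fun s _ => h * s * h⁻¹) ?_ ?_ ?_ ?_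
  · intro s hs
    rw [Finset.mem_filter] at hs ⊢
    refine ⟨Finset.mem_univ _, ?_⟩
    have : h⁻¹ * s * h * (h⁻¹ * s * h) = h⁻¹ * (s * s) * h := by group
    rw [this, hs.2]; group
  · intro s hs
    rw [Finset.mem_filter] at hs ⊢
    refine ⟨Finset.mem_univ _, ?_⟩
    have : h * s * h⁻¹ * (h * s * h⁻¹) = h * (s * s) * h⁻¹ := by group
    rw [this, hs.2]
  · intro s _; group
  · intro s _; group

theorem classInner_sqCount (χ : G → ℂ) :
    classInner (sqCount (G := G)) χ =
      (Nat.card G : ℂ)⁻¹ * ∑ s : G, (starRingEnd ℂ) (χ (s * s)) := by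
  unfold classInner
  congr 1
  have h1 : ∀ g : G, sqCount g * (starRingEnd ℂ) (χ g) =
      ∑ s : G, if s * s = g then (starRingEnd ℂ) (χ (s * s)) else 0 := by
    intro g
    unfold sqCount
    rw [← Finset.sum_filter, Finset.card_eq_sum_ones, Nat.cast_sum, Finset.sum_mul]
    refine Finset.sum_congr rfl fun s hs => ?_
    rw [Finset.mem_filter] at hs
    rw [hs.2]; simp
  simp_rw [h1]
  rw [Finset.sum_comm]
  refine Finset.sum_congr rfl fun s _ => ?_
  rw [Finset.sum_ite_eq]
  simp

omit [Fintype G] [DecidableEq G] in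
/-- With Klein four Sylow 2-subgroups, no element of the 2-section of an involution is a square. -/
theorem no_sq [Finite G] (P : Sylow 2 G) (hP : IsKleinFour (P : Subgroup G)) {J c s : G}
    (hJ2 : orderOf J = 2) (hcomm : J * c = c * J) (hc : ¬ 2 ∣ orderOf c) : s * s ≠ J * c := by
  haveI : Fact (Nat.Prime 2) := ⟨Nat.prime_two⟩
  intro h
  have hJJ : J ^ 2 = 1 := by rw [← hJ2]; exact pow_orderOf_eq_one J
  have hJ1 : J ≠ 1 := by
    intro h1; rw [h1, orderOf_one] at hJ2; norm_num at hJ2
  obtain ⟨k, hk⟩ : ∃ k, orderOf c = 2 * k + 1 := by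
    have : orderOf c % 2 = 1 := by omega
    exact ⟨orderOf c / 2, by omega⟩
  set t := s ^ orderOf c with ht
  have htt : t * t = J := by
    have e1 : t * t = (s * s) ^ orderOf c := by
      have a1 : s ^ orderOf c * s ^ orderOf c = s ^ (2 * orderOf c) := by
        rw [← pow_add, two_mul]
      have a2 : (s * s) ^ orderOf c = s ^ (2 * orderOf c) := by
        rw [← pow_two, ← pow_mul]
      rw [a2, ← a1]
    have hcm : Commute J c := hcomm
    rw [e1, h, hcm.mul_pow, pow_orderOf_eq_one, mul_one, hk, pow_succ, pow_mul, hJJ, one_pow,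
      one_mul]
  have ht4 : t ^ 4 = 1 := by
    have : t ^ 4 = (t * t) ^ 2 := by
      rw [show (4 : ℕ) = 2 * 2 from rfl, pow_mul, pow_two t]
    rw [this, htt, hJJ]
  have hzp : IsPGroup 2 (Subgroup.zpowers t) := by
    have hd : orderOf t ∣ 2 ^ 2 := by
      have := orderOf_dvd_of_pow_eq_one ht4
      norm_num at this ⊢; exact this
    obtain ⟨j, _, hj⟩ := (Nat.dvd_prime_pow Nat.prime_two).mp hd
    apply IsPGroup.of_card (n := j)
    rw [Nat.card_zpowers, hj]
  obtain ⟨Q, hQ⟩ := hzp.exists_le_sylow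
  obtain ⟨d, rfl⟩ := MulAction.exists_smul_eq G P Q
  have hgQ : t ∈ ((d • P : Sylow 2 G) : Subgroup G) := hQ (Subgroup.mem_zpowers t)
  rw [Sylow.smul_def, Sylow.pointwise_smul_def,
    Subgroup.mem_pointwise_smul_iff_inv_smul_mem] at hgQ
  have hgP : d⁻¹ * t * d ∈ (P : Subgroup G) := by simpa [MulAut.smul_def] using hgQ
  have hsq := klein_mul_self P hP hgP
  have hgg : t * t = 1 := by
    have : d⁻¹ * t * d * (d⁻¹ * t * d) = d⁻¹ * (t * t) * d := by group
    rw [this] at hsq
    have := congrArg (fun w => d * w * d⁻¹) hsq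
    simpa [mul_assoc] using this
  rw [htt] at hgg
  exact hJ1 hgg

variable {M : Ideal AlgInt}

/-- **The Frobenius–Schur relation on a 2-block.**  With Klein four Sylow 2-subgroups and an
involution `J`: `∑_{χ ∈ B} conj ν(χ) · χ(J) = 0`. -/
theorem fs_relation [Fintype (IrrCharacter G)] (hM : IsPModular 2 M) (P : Sylow 2 G)
    (hP : IsKleinFour (P : Subgroup G)) (J : G) (hJ2 : orderOf J = 2)
    (B : Set (IrrCharacter G)) [DecidablePred (· ∈ B)] (hB : IsPBlock M B) :
    ∑ χ : IrrCharacter G, (if χ ∈ B then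
      ((Nat.card G : ℂ)⁻¹ * ∑ s : G, (starRingEnd ℂ) ((χ : G → ℂ) (s * s))) * (χ : G → ℂ) J
      else 0) = 0 := by
  haveI : Fact (Nat.Prime 2) := ⟨Nat.prime_two⟩
  set C := Subgroup.centralizer ({J} : Set G) with hC
  haveI : Fintype C := Fintype.ofFinite _
  have hmem : ∀ y : G, y ∈ C ↔ J * y = y * J := by
    intro y
    rw [hC, Subgroup.mem_centralizer_iff]
    constructor
    · intro h; exact h J (Set.mem_singleton J)
    · intro h w hw
      rw [Set.mem_singleton_iff] at hw
      rw [hw]; exact h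
  have hJC : J ∈ C := (hmem J).mpr rfl
  have hcomm : ∀ c : C, J * (c : G) = (c : G) * J := fun c => (hmem c).mp c.2
  have hvan : ∀ c : C, ¬ 2 ∣ orderOf c → sqCount (J * (c : G)) = 0 := by
    intro c hc
    unfold sqCount
    rw [Nat.cast_eq_zero, Finset.card_eq_zero, Finset.filter_eq_empty_iff]
    intro s _
    refine no_sq P hP hJ2 (hcomm c) ?_
    rwa [Subgroup.orderOf_coe]
  have h := blockPart_eq_zero_of_section (M := M) hM J ⟨1, by rw [hJ2, pow_one]⟩ C hJC hcomm
    le_rfl isClassFunction_sqCount hvan B hB (1 : C) (by rw [orderOf_one]; norm_num)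
  have hinst : Fintype.ofFinite G = ‹Fintype G› := Subsingleton.elim _ _
  simp only [blockPart] at h
  rw [hinst, finsum_mem_eq_sum_ite] at h
  refine Eq.trans ?_ h
  refine Finset.sum_congr rfl fun χ _ => ?_
  split_ifs
  · rw [classInner_sqCount]; simp
  · rfl

end Cfsg.Agent.Helper8.KleinFS
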