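import Mathlib

/-!
# Arithmetic for the `PSL₂(q)`-shaped order formula
-/

set_option autoImplicit false

namespace Cfsg.Agent.Helper8.KleinPSLArith

theorem arith (g cJ cP x : ℕ) (hcP : 0 < cP) (hcJ : 0 < cJ) (h1 : cP ∣ cJ) (h2 : cJ ∣ g)
    (hform : g * (x + 1) ^ 2 * cP ^ 2 = 4 * x * (2 * x + 1) * cJ ^ 3) :
    ∃ m : ℕ, 4 * cJ = m * cP * ((2 * x + 1) + 1) ∧
      8 * g = m ^ 3 * cP * ((2 * x + 1) ^ 3 - (2 * x + 1)) := by
  obtain ⟨u, rfl⟩ := h1
  obtain ⟨n, rfl⟩ := h2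
  have hu : 0 < u := by
    rcases Nat.eq_zero_or_pos u with h | h
    · rw [h, mul_zero] at hcJ; exact absurd hcJ (lt_irrefl 0)
    · exact h
  have hE : n * (x + 1) ^ 2 = x * (2 * x + 1) * (2 * u) ^ 2 := by
    have hpos : 0 < cP ^ 3 * u := by positivity
    apply Nat.eq_of_mul_eq_mul_left hpos
    calc cP ^ 3 * u * (n * (x + 1) ^ 2) = cP * u * n * (x + 1) ^ 2 * cP ^ 2 := by ring
      _ = 4 * x * (2 * x + 1) * (cP * u) ^ 3 := hform
      _ = cP ^ 3 * u * (x * (2 * x + 1) * (2 * u) ^ 2) := by ring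
  have hc1 : Nat.Coprime (x + 1) x := by simp
  have hc2 : Nat.Coprime (x + 1) (2 * x + 1) := by
    have : 2 * x + 1 = x + (x + 1) := by ring
    rw [this, Nat.coprime_add_self_right]
    exact hc1
  have hc : Nat.Coprime ((x + 1) ^ 2) (x * (2 * x + 1)) :=
    Nat.Coprime.pow_left 2 (Nat.Coprime.mul_right hc1 hc2)
  have hd : (x + 1) ^ 2 ∣ (2 * u) ^ 2 := by
    apply hc.dvd_of_dvd_mul_left
    rw [← hE]
    exact Dvd.intro_left n rfl
  have hd' : (x + 1) ∣ 2 * u := (Nat.pow_dvd_pow_iff (by norm_num)).mp hd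
  obtain ⟨m, hm⟩ := hd'
  have hn : n = x * (2 * x + 1) * m ^ 2 := by
    have hpos : 0 < (x + 1) ^ 2 := by positivity
    apply Nat.eq_of_mul_eq_mul_right hpos
    rw [hE, hm]; ring
  have hcube : (2 * x + 1) ^ 3 - (2 * x + 1) = 4 * x * (x + 1) * (2 * x + 1) := by
    have : (2 * x + 1) ^ 3 = 4 * x * (x + 1) * (2 * x + 1) + (2 * x + 1) := by ring
    rw [this, Nat.add_sub_cancel]
  refine ⟨m, ?_, ?_⟩
  · calc 4 * (cP * u) = 2 * cP * (2 * u) := by ring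
      _ = 2 * cP * ((x + 1) * m) := by rw [hm]
      _ = m * cP * (2 * x + 1 + 1) := by ring
  · rw [hcube, hn]
    calc 8 * (cP * u * (x * (2 * x + 1) * m ^ 2))
        = 4 * cP * (2 * u) * (x * (2 * x + 1) * m ^ 2) := by ring
      _ = 4 * cP * ((x + 1) * m) * (x * (2 * x + 1) * m ^ 2) := by rw [hm]
      _ = m ^ 3 * cP * (4 * x * (x + 1) * (2 * x + 1)) := by ring

end Cfsg.Agent.Helper8.KleinPSLArith
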