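import Mathlib
import Cfsg.Prelude.Def_Blocks
import Cfsg.Agent.Helper8.RealBlock2b
import Cfsg.Agent.Helper8.BrauerFeit

/-!
# Real irreducible characters of odd degree lie in the principal `2`-block
-/

namespace Cfsg.Agent.Helper8.RealOdd

open Cfsg Cfsg.Agent.Helper24 Cfsg.Agent.Helper5.CC Cfsg.Agent.Helper5.Loc
open Cfsg.Agent.Helper8.RealBlock2 Cfsg.Agent.Helper8.IndHt

variable {M : Ideal AlgInt} {G : Type*} [Group G] [Fintype G]

/-- Complex conjugation maps the block of `χ` to the block of `χ̄`. -/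
theorem irrStar_mem_blockOf {χ ψ : IrrCharacter G} (h : ψ ∈ blockOf M (χ : G → ℂ)) :
    irrStar ψ ∈ blockOf M ((irrStar χ : IrrCharacter G) : G → ℂ) := by
  have h1 : SameBlock M (χ : G → ℂ) (ψ : G → ℂ) := h
  show SameBlock M ((irrStar χ : IrrCharacter G) : G → ℂ) ((irrStar ψ : IrrCharacter G) : G → ℂ)
  intro g
  rw [centralChar_irrStar, centralChar_irrStar]
  exact h1 g⁻¹

/-- A real-valued irreducible character equals its conjugate. -/
theorem irrStar_eq_self_of_real {χ : IrrCharacter G} (h : ∀ g : G, ((χ : G → ℂ) g).im = 0) :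
    irrStar χ = χ := by
  apply Subtype.ext
  funext g
  rw [irrStar_apply]
  exact Complex.conj_eq_iff_im.mpr (h g)

/-- **Real odd-degree irreducible characters lie in the principal `2`-block.** -/
theorem mem_principalBlock_of_real_odd [Fintype (IrrCharacter G)] (hM : IsPModular 2 M)
    (χ : IrrCharacter G) (hreal : ∀ g : G, ((χ : G → ℂ) g).im = 0)
    (hodd : Odd (charDegree (χ : G → ℂ))) : χ ∈ principalBlock M G := by
  classical
  haveI : Fact (Nat.Prime 2) := ⟨Nat.prime_two⟩
  have hMp := isPrime_of_isPModular hM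
  set B := blockOf M (χ : G → ℂ) with hBdef
  have hB : IsPBlock M B := ⟨χ, rfl⟩
  have hχB : χ ∈ B := mem_blockOf_self hMp χ
  have hstar : ∀ ψ ∈ B, irrStar ψ ∈ B := by
    intro ψ hψ
    have := irrStar_mem_blockOf (M := M) hψ
    rwa [irrStar_eq_self_of_real hreal] at this
  have hd : blockDefect 2 B = (Nat.card G).factorization 2 := by
    rw [blockDefect_eq]
    have h0 : minVal 2 B = 0 := by
      have h1 := minVal_le 2 hχB
      rw [charDegree_eq_irrDeg] at hodd
      have h2 : (irrDeg χ).factorization 2 = 0 :=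
        Nat.factorization_eq_zero_of_not_dvd (Nat.two_dvd_ne_zero.mpr (Nat.odd_iff.mp hodd))
      omega
    rw [h0, Nat.sub_zero]
  rw [← eq_principalBlock_of_real hM hB hstar hd]
  exact hχB

/-- **The number of real odd-degree irreducible characters is at most `2^(2n)`.** -/
theorem card_real_odd_le [Fintype (IrrCharacter G)] (hM : IsPModular 2 M) :
    Nat.card {χ : IrrCharacter G // (∀ g : G, ((χ : G → ℂ) g).im = 0) ∧
      Odd (charDegree (χ : G → ℂ))} ≤ 2 ^ (2 * (Nat.card G).factorization 2) := by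
  classical
  haveI : Fact (Nat.Prime 2) := ⟨Nat.prime_two⟩
  have hMp := isPrime_of_isPModular hM
  have hB₀ : IsPBlock M (principalBlock M G) := isPBlock_principalBlock
  have h1 : Nat.card {χ : IrrCharacter G // (∀ g : G, ((χ : G → ℂ) g).im = 0) ∧
      Odd (charDegree (χ : G → ℂ))} ≤ Nat.card (principalBlock M G) := by
    refine Nat.card_le_card_of_injective
      (fun χ => ⟨χ.1, mem_principalBlock_of_real_odd hM χ.1 χ.2.1 χ.2.2⟩) ?_
    intro χ ψ h
    apply Subtype.ext
    have := congrArg (fun z : principalBlock M G => (z : IrrCharacter G)) h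
    exact this
  have h2 := Cfsg.Agent.Helper8.BF.four_mul_card_le hM hB₀
  rw [blockDefect_principalBlock hMp 2] at h2
  have h3 : 1 ≤ 2 ^ (2 * (Nat.card G).factorization 2) := Nat.one_le_two_pow
  omega

end Cfsg.Agent.Helper8.RealOdd
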