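import Mathlib
import Cfsg.Prelude.Def_GeometricClasses
import Cfsg.Agent.Helper28.OrthSim3

set_option autoImplicit false

/-! S5798 (sl6 table), conjunct "orthogonal similarity group maximal in `SL_n`, `q` odd" for `n ≥ 6`:
definitions of the SPREAD chapter (helper8).  Vocabulary = helper28's `OSim` (`E`, `MS`, `pv`, `B Q`). -/

namespace Cfsg.Agent.OS6P

open Matrix Module Cfsg.Agent.Helper28.Sg Cfsg.Agent.Helper28.Spin Cfsg.Agent.Helper28.SLMax
  Cfsg.Agent.Helper28.SimMax Cfsg.Agent.Helper28.OSim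

variable {F : Type*} [Field F] {n : ℕ}

/-- the vectors `c ⊥ e` whose transvection `x ↦ x + B(c,x) e` (centre `e`) lies in `M` -/
def Phi (Q : QuadraticForm F (Fin n → F)) (M : Subgroup (Matrix.GeneralLinearGroup (Fin n) F))
    (e : Fin n → F) : Set (Fin n → F) :=
  {c | B Q e c = 0 ∧ E e (pv Q c) ∈ MS M}

/-- the vectors all of whose scalar multiples lie in `Phi` -/
def Psi (Q : QuadraticForm F (Fin n → F)) (M : Subgroup (Matrix.GeneralLinearGroup (Fin n) F))
    (e : Fin n → F) : Set (Fin n → F) :=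
  {y | ∀ a : F, a • y ∈ Phi Q M e}

/-- the "full centres": every transvection with centre `w` lies in `M` -/
def Full (M : Subgroup (Matrix.GeneralLinearGroup (Fin n) F)) : Set (Fin n → F) :=
  {w | ∀ φ : Fin n → F, φ ⬝ᵥ w = 0 → E w φ ∈ MS M}

end Cfsg.Agent.OS6P
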