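import Mathlib

/-!
# Piece (GA) for S5289: structure of the Blackburn groups `G(p,n;s)`

`gpns_struct`: in a group of order `p^n` (`n ≥ 4`) generated by `x, y, z` with
`x^p = y^p = z^(p^(n-2)) = 1`, `[y,z] = 1`, `x⁻¹yx = y z^(s p^(n-3))`, `x⁻¹zx = yz`:
`A = ⟨y,z⟩` is abelian of index `p`, `x` does not centralise `z`, and `G' ≤ Z₂(G)`.
-/

namespace Cfsg.Agent.Helper8.R2GA

open Subgroup
open scoped Pointwise commutatorElement

variable {G : Type*} [Group G]

/-- Pairwise commuting generators generate a commutative subgroup. -/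
theorem comm_of_mem_closure {S : Set G} (h : ∀ a ∈ S, ∀ b ∈ S, a * b = b * a) :
    ∀ a ∈ closure S, ∀ b ∈ closure S, a * b = b * a := by
  intro a ha b hb
  have hc : IsMulCommutative (closure S) := Subgroup.isMulCommutative_closure h
  exact congrArg Subtype.val (hc.is_comm.comm (⟨a, ha⟩ : closure S) ⟨b, hb⟩)

theorem card_sup_le_mul [Finite G] (A B : Subgroup G) (hB : B ≤ normalizer (A : Set G)) :
    Nat.card (A ⊔ B : Subgroup G) ≤ Nat.card A * Nat.card B := by
  have h1 : ((A ⊔ B : Subgroup G) : Set G) = (A : Set G) * (B : Set G) :=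
    coe_mul_of_right_le_normalizer_left A B hB
  calc Nat.card (A ⊔ B : Subgroup G) = Nat.card ((A ⊔ B : Subgroup G) : Set G) := rfl
    _ = Nat.card ((A : Set G) * (B : Set G) : Set G) := by rw [h1]
    _ ≤ Nat.card (A : Set G) * Nat.card (B : Set G) := Set.natCard_mul_le
    _ = Nat.card A * Nat.card B := rfl

theorem comm_of_conj_inv_eq {x c : G} (h : x⁻¹ * c * x = c) : c * x = x * c := by
  have := congrArg (x * ·) h
  simpa [mul_assoc] using this

theorem conj_inv_pow (x z : G) (k : ℕ) : x⁻¹ * z ^ k * x = (x⁻¹ * z * x) ^ k := by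
  have := map_pow (MulAut.conj x⁻¹) z k
  simpa [MulAut.conj_apply] using this


/-- If conjugation by `g` maps generators into the closure, it maps the closure into itself. -/
theorem conj_mem_closure_of_gens {S : Set G} {g : G} (h : ∀ s ∈ S, g * s * g⁻¹ ∈ closure S) :
    ∀ a ∈ closure S, g * a * g⁻¹ ∈ closure S := by
  intro a ha
  induction ha using Subgroup.closure_induction with
  | mem s hs => exact h s hs
  | one => simp
  | mul a b _ _ iha ihb =>
    have : g * (a * b) * g⁻¹ = (g * a * g⁻¹) * (g * b * g⁻¹) := by group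
    rw [this]; exact mul_mem iha ihb
  | inv a _ iha =>
    have : g * a⁻¹ * g⁻¹ = (g * a * g⁻¹)⁻¹ := by group
    rw [this]; exact inv_mem iha

theorem mem_normalizer_closure_of_gens [Finite G] {S : Set G} {g : G}
    (h : ∀ s ∈ S, g * s * g⁻¹ ∈ closure S) : g ∈ normalizer ((closure S : Subgroup G) : Set G) :=
  mem_normalizer_fintype (fun a ha => conj_mem_closure_of_gens h a ha)

/-- If `⁅y, s⁆` is central for all generators `s`, then `⁅y, g⁆` is central for all `g`. -/
theorem commutator_mem_center_of_gens {S : Set G} (hS : closure S = ⊤) (y : G)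
    (h : ∀ s ∈ S, ⁅y, s⁆ ∈ center G) : ∀ g : G, ⁅y, g⁆ ∈ center G := by
  intro g
  have hg : g ∈ closure S := by rw [hS]; exact mem_top g
  induction hg using Subgroup.closure_induction with
  | mem s hs => exact h s hs
  | one => simp
  | mul a b _ _ iha ihb =>
    have e : ⁅y, a * b⁆ = ⁅y, a⁆ * (a * ⁅y, b⁆ * a⁻¹) := by
      simp only [commutatorElement_def]; group
    have e2 : a * ⁅y, b⁆ * a⁻¹ = ⁅y, b⁆ := by
      rw [mem_center_iff.mp ihb a, mul_inv_cancel_right]
    rw [e, e2]; exact mul_mem iha ihb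
  | inv a _ iha =>
    have e : ⁅y, a⁻¹⁆ = a⁻¹ * ⁅y, a⁆⁻¹ * a := by
      simp only [commutatorElement_def]; group
    have hw : ⁅y, a⁆⁻¹ ∈ center G := inv_mem iha
    have e2 : a⁻¹ * ⁅y, a⁆⁻¹ * a = ⁅y, a⁆⁻¹ := by
      rw [mul_assoc, ← mem_center_iff.mp hw a, inv_mul_cancel_left]
    rw [e, e2]; exact hw

/-- If generators commute pairwise modulo a normal subgroup `N` then `G' ≤ N`. -/
theorem commutator_mem_of_gens {S : Set G} (hS : closure S = ⊤) (N : Subgroup G) [N.Normal]
    (h : ∀ a ∈ S, ∀ b ∈ S, ⁅a, b⁆ ∈ N) : ∀ a b : G, ⁅a, b⁆ ∈ N := by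
  have hcl : closure ((QuotientGroup.mk' N) '' S) = ⊤ := by
    rw [← MonoidHom.map_closure, hS]
    exact Subgroup.map_top_of_surjective _ (QuotientGroup.mk'_surjective N)
  have hcomm : ∀ u ∈ (QuotientGroup.mk' N) '' S, ∀ v ∈ (QuotientGroup.mk' N) '' S,
      u * v = v * u := by
    rintro _ ⟨a, ha, rfl⟩ _ ⟨b, hb, rfl⟩
    rw [← commutatorElement_eq_one_iff_mul_comm, ← map_commutatorElement]
    exact (QuotientGroup.eq_one_iff _).mpr (h a ha b hb)
  have hall := comm_of_mem_closure hcomm
  rw [hcl] at hall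
  intro a b
  rw [← QuotientGroup.eq_one_iff, ← QuotientGroup.mk'_apply, map_commutatorElement,
    commutatorElement_eq_one_iff_mul_comm]
  exact hall _ (mem_top _) _ (mem_top _)


theorem gpns_struct {G : Type*} [Group G] [Finite G] {p : ℕ} [Fact p.Prime] (n s : ℕ) (hn : 4 ≤ n)
    (hs : ¬ p ∣ s) (hG : Nat.card G = p ^ n) (x y z : G)
    (hgen : Subgroup.closure ({x, y, z} : Set G) = ⊤) (hx : x ^ p = 1) (hy : y ^ p = 1)
    (hz : z ^ p ^ (n - 2) = 1) (hyz : y * z = z * y)
    (hxy : x⁻¹ * y * x = y * z ^ (s * p ^ (n - 3))) (hxz : x⁻¹ * z * x = y * z) :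
    (∀ a ∈ Subgroup.closure ({y, z} : Set G), ∀ b ∈ Subgroup.closure ({y, z} : Set G),
      a * b = b * a) ∧
    (Subgroup.closure ({y, z} : Set G)).index = p ∧ x * z ≠ z * x ∧
    ∀ a b : G, ⁅a, b⁆ ∈ Subgroup.upperCentralSeries G 2 := by
  have hp := (Fact.out : p.Prime)
  obtain ⟨m, rfl⟩ := Nat.exists_eq_add_of_le hn
  have e2 : 4 + m - 2 = m + 2 := by omega
  have e3 : 4 + m - 3 = m + 1 := by omega
  rw [e2] at hz
  rw [e3] at hxy
  have hyA : y ∈ closure ({y, z} : Set G) := subset_closure (by simp)
  have hzA : z ∈ closure ({y, z} : Set G) := subset_closure (by simp)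
  -- abelian
  have hAcomm : ∀ a ∈ closure ({y, z} : Set G), ∀ b ∈ closure ({y, z} : Set G),
      a * b = b * a := by
    apply comm_of_mem_closure
    intro a ha b hb
    simp only [Set.mem_insert_iff, Set.mem_singleton_iff] at ha hb
    rcases ha with rfl | rfl <;> rcases hb with rfl | rfl
    · rfl
    · exact hyz
    · exact hyz.symm
    · rfl
  have hcA : z ^ (s * p ^ (m + 1)) ∈ closure ({y, z} : Set G) := pow_mem hzA _
  -- `x` normalises `A`
  have hxinvN : x⁻¹ ∈ normalizer ((closure ({y, z} : Set G) : Subgroup G) : Set G) := by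
    apply mem_normalizer_closure_of_gens
    intro g hg
    simp only [Set.mem_insert_iff, Set.mem_singleton_iff] at hg
    rw [inv_inv]
    rcases hg with rfl | rfl
    · rw [hxy]; exact mul_mem hyA hcA
    · rw [hxz]; exact mul_mem hyA hzA
  have hxN : x ∈ normalizer ((closure ({y, z} : Set G) : Subgroup G) : Set G) := by
    simpa using inv_mem hxinvN
  -- cardinalities
  have hoy : Nat.card (zpowers y) ≤ p := by
    rw [Nat.card_zpowers]; exact Nat.le_of_dvd hp.pos (orderOf_dvd_of_pow_eq_one hy)
  have hoz : Nat.card (zpowers z) ≤ p ^ (m + 2) := by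
    rw [Nat.card_zpowers]
    exact Nat.le_of_dvd (pow_pos hp.pos _) (orderOf_dvd_of_pow_eq_one hz)
  have hox : Nat.card (zpowers x) ≤ p := by
    rw [Nat.card_zpowers]; exact Nat.le_of_dvd hp.pos (orderOf_dvd_of_pow_eq_one hx)
  have hzNy : zpowers z ≤ normalizer ((zpowers y : Subgroup G) : Set G) := by
    intro b hb
    apply mem_normalizer_fintype
    intro h hh
    have hbA : b ∈ closure ({y, z} : Set G) := (zpowers_le.mpr hzA) hb
    have hhA : h ∈ closure ({y, z} : Set G) := (zpowers_le.mpr hyA) hh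
    rw [hAcomm b hbA h hhA, mul_inv_cancel_right]
    exact hh
  have hAle : closure ({y, z} : Set G) ≤ zpowers y ⊔ zpowers z := by
    rw [closure_le]
    intro g hg
    simp only [Set.mem_insert_iff, Set.mem_singleton_iff] at hg
    rcases hg with rfl | rfl
    · exact (le_sup_left : zpowers g ≤ _) (mem_zpowers g)
    · exact (le_sup_right : zpowers g ≤ _) (mem_zpowers g)
  have hcardA_le : Nat.card (closure ({y, z} : Set G)) ≤ Nat.card (zpowers y) * p ^ (m + 2) :=
    calc Nat.card (closure ({y, z} : Set G)) ≤ Nat.card (zpowers y ⊔ zpowers z : Subgroup G) :=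
          Subgroup.card_le_of_le hAle
      _ ≤ Nat.card (zpowers y) * Nat.card (zpowers z) := card_sup_le_mul _ _ hzNy
      _ ≤ Nat.card (zpowers y) * p ^ (m + 2) := Nat.mul_le_mul_left _ hoz
  have htop : (⊤ : Subgroup G) ≤ closure ({y, z} : Set G) ⊔ zpowers x := by
    rw [← hgen, closure_le]
    intro g hg
    simp only [Set.mem_insert_iff, Set.mem_singleton_iff] at hg
    rcases hg with rfl | rfl | rfl
    · exact (le_sup_right : zpowers g ≤ _) (mem_zpowers g)
    · exact (le_sup_left : closure ({g, z} : Set G) ≤ _) hyA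
    · exact (le_sup_left : closure ({y, g} : Set G) ≤ _) hzA
  have hcardG_le : p ^ (4 + m) ≤ Nat.card (closure ({y, z} : Set G)) * p :=
    calc p ^ (4 + m) = Nat.card (⊤ : Subgroup G) := by rw [Subgroup.card_top, hG]
      _ ≤ Nat.card (closure ({y, z} : Set G) ⊔ zpowers x : Subgroup G) :=
          Subgroup.card_le_of_le htop
      _ ≤ Nat.card (closure ({y, z} : Set G)) * Nat.card (zpowers x) :=
          card_sup_le_mul _ _ (zpowers_le.mpr hxN)
      _ ≤ Nat.card (closure ({y, z} : Set G)) * p := Nat.mul_le_mul_left _ hox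
  have hcardA_ge : p ^ (m + 3) ≤ Nat.card (closure ({y, z} : Set G)) := by
    have : p ^ (m + 3) * p ≤ Nat.card (closure ({y, z} : Set G)) * p := by
      calc p ^ (m + 3) * p = p ^ (4 + m) := by ring
        _ ≤ _ := hcardG_le
    exact Nat.le_of_mul_le_mul_right this hp.pos
  have hcardA : Nat.card (closure ({y, z} : Set G)) = p ^ (m + 3) := by
    apply le_antisymm _ hcardA_ge
    calc Nat.card (closure ({y, z} : Set G)) ≤ Nat.card (zpowers y) * p ^ (m + 2) := hcardA_le
      _ ≤ p * p ^ (m + 2) := Nat.mul_le_mul_right _ hoy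
      _ = p ^ (m + 3) := by ring
  have hy1 : y ≠ 1 := by
    rintro rfl
    have h1 : Nat.card (zpowers (1 : G)) = 1 := by
      rw [Nat.card_zpowers, orderOf_one]
    rw [h1, one_mul, hcardA] at hcardA_le
    have : p ^ (m + 2) < p ^ (m + 3) := Nat.pow_lt_pow_right hp.one_lt (by omega)
    omega
  refine ⟨hAcomm, ?_, ?_, ?_⟩
  · -- index
    have h := Subgroup.card_mul_index (closure ({y, z} : Set G))
    rw [hcardA, hG] at h
    have : p ^ (m + 3) * (closure ({y, z} : Set G)).index = p ^ (m + 3) * p := by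
      rw [h]; ring
    exact Nat.eq_of_mul_eq_mul_left (pow_pos hp.pos _) this
  · -- `x` does not centralise `z`
    intro hxz'
    apply hy1
    have : x⁻¹ * z * x = z := by rw [mul_assoc, ← hxz', inv_mul_cancel_left]
    rw [this] at hxz
    exact (mul_eq_right.mp hxz.symm)
  · -- commutators in `Z₂`
    -- `c` is central
    have hyk : y ^ (s * p ^ (m + 1)) = 1 := by
      have : s * p ^ (m + 1) = p * (s * p ^ m) := by ring
      rw [this, pow_mul, hy, one_pow]
    have hcx : x⁻¹ * z ^ (s * p ^ (m + 1)) * x = z ^ (s * p ^ (m + 1)) := by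
      rw [conj_inv_pow, hxz, (show Commute y z from hyz).mul_pow, hyk, one_mul]
    obtain ⟨c, hc⟩ : ∃ c : G, c = z ^ (s * p ^ (m + 1)) := ⟨_, rfl⟩
    rw [← hc] at hxy hcA hcx
    have hcx' : c * x = x * c := comm_of_conj_inv_eq hcx
    have hc_center : c ∈ center G := by
      rw [mem_center_iff]
      intro g
      have hg : g ∈ closure ({x, y, z} : Set G) := by rw [hgen]; exact mem_top g
      have hle : closure ({x, y, z} : Set G) ≤ centralizer {c} := by
        rw [closure_le]
        intro g hg
        simp only [Set.mem_insert_iff, Set.mem_singleton_iff] at hg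
        rw [SetLike.mem_coe, mem_centralizer_iff]
        intro h hh
        rw [Set.mem_singleton_iff] at hh
        rw [hh]
        rcases hg with rfl | rfl | rfl
        · exact hcx'
        · exact hAcomm _ hcA _ hyA
        · exact hAcomm _ hcA _ hzA
      exact (mem_centralizer_iff.mp (hle hg) c rfl).symm
    have hyZ2 : y ∈ Subgroup.upperCentralSeries G 2 := by
      show y ∈ Subgroup.upperCentralSeries G (1 + 1)
      rw [Subgroup.mem_upperCentralSeries_succ_iff]
      intro g
      rw [Subgroup.upperCentralSeries_one]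
      apply commutator_mem_center_of_gens hgen
      intro t ht
      simp only [Set.mem_insert_iff, Set.mem_singleton_iff] at ht
      rcases ht with rfl | rfl | rfl
      · have h1 : y * t = t * (y * c) := by rw [← hxy]; group
        have h2 : y * c = c * y := hAcomm _ hyA _ hcA
        have : ⁅y, t⁆ = c := by
          rw [commutatorElement_def, h1, h2]
          calc t * (c * y) * y⁻¹ * t⁻¹ = t * c * t⁻¹ := by group
            _ = c := by rw [← hcx', mul_inv_cancel_right]
        rw [this]; exact hc_center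
      · rw [commutatorElement_self]; exact one_mem _
      · rw [commutatorElement_eq_one_iff_mul_comm.mpr hyz]; exact one_mem _
    have hY1 : ∀ g : G, ⁅y, g⁆ ∈ Subgroup.upperCentralSeries G 2 := by
      intro g
      have : ⁅y, g⁆ = y * (g * y⁻¹ * g⁻¹) := by rw [commutatorElement_def]; group
      rw [this]
      exact mul_mem hyZ2 (Subgroup.Normal.conj_mem inferInstance _ (inv_mem hyZ2) g)
    have hY2 : ∀ g : G, ⁅g, y⁆ ∈ Subgroup.upperCentralSeries G 2 := by
      intro g
      rw [← commutatorElement_inv]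
      exact inv_mem (hY1 g)
    have hzx : ⁅z, x⁆ ∈ Subgroup.upperCentralSeries G 2 := by
      have h1 : z * x = x * (y * z) := by rw [← hxz]; group
      have : ⁅z, x⁆ = x * y * x⁻¹ := by
        rw [commutatorElement_def, h1]; group
      rw [this]
      exact Subgroup.Normal.conj_mem inferInstance _ hyZ2 x
    have hxz2 : ⁅x, z⁆ ∈ Subgroup.upperCentralSeries G 2 := by
      rw [← commutatorElement_inv]
      exact inv_mem hzx
    apply commutator_mem_of_gens hgen
    intro a ha b hb
    simp only [Set.mem_insert_iff, Set.mem_singleton_iff] at ha hb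
    rcases ha with rfl | rfl | rfl <;> rcases hb with rfl | rfl | rfl
    · rw [commutatorElement_self]; exact one_mem _
    · exact hY2 _
    · exact hxz2
    · exact hY1 _
    · rw [commutatorElement_self]; exact one_mem _
    · exact hY1 _
    · exact hzx
    · exact hY2 _
    · rw [commutatorElement_self]; exact one_mem _

end Cfsg.Agent.Helper8.R2GA
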