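import Mathlib
import Cfsg.Agent.Helper10.S2092.DefsP
import Cfsg.Agent.Helper25.S3352INJA
import Cfsg.Agent.Helper23.S2092PBASIC
import Cfsg.Agent.Helper23.S2092HALFHOMC

set_option autoImplicit false
set_option linter.unusedSectionVars false
set_option linter.unusedVariables false

/-! S2092 (driver helper10), part P, piece INJA: `π` is injective on `UA Ys` (the subgroup generated by the
root elements of the roots `e_i - e_j`, `i < j`). For `n ≥ 3` through the hom `Θ : Stn.G F n →* M` of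
HALFHOMC and the injectivity of `Stn.phi` on the upper unitriangular subgroup (S3352 INJA, helper25); for
`n = 2` the group `UA` is a single root group. -/

namespace Cfsg.Agent.S2092P

open scoped commutatorElement
open Matrix Cfsg.Agent.S3352P Cfsg.Agent.S2096P Cfsg.Agent.S2094P Cfsg.Agent.RGD

variable {n : ℕ} {F : Type*} [Field F] {M : Type*} [Group M] {Ys : J n → J n → F → M}
  {Yl : J n → F → M} {π : M →* Matrix (J n) (J n) F}

namespace INJA

theorem isRoot_inl {i j : Fin n} (hij : i ≠ j) : IsRoot (Sum.inl i : J n) (Sum.inl j) :=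
  ⟨fun h => hij (Sum.inl_injective h), fun h => by simp [ng] at h⟩

theorem xs_inl_eq_xm (i j : Fin n) (t : F) :
    xs (Sum.inl i : J n) (Sum.inl j) t = xm (Sum.inl i) (Sum.inl j) t := by
  unfold xs xm
  simp

/-- the case `n ≥ 3` -/
theorem eq_one_of_three (hn : 3 ≤ n) (h : PHyp Ys Yl π) {a : M} (ha : a ∈ UA Ys)
    (h1 : π a = 1) : a = 1 := by
  obtain ⟨Θ, hΘ⟩ := exists_inl_hom (Ys := Ys) (Yl := Yl) h.rel
  have hcomp : ∀ u ∈ Cfsg.Agent.Helper2.Stn.U F (fun i j : Fin n => i < j),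
      π (Θ u) = Cfsg.Agent.S3352P.INJA.Dhom n F (Cfsg.Agent.Helper2.Stn.phi u) := by
    intro u hu
    have hu' : u ∈ Subgroup.closure
        {g | ∃ i j : Fin n, ∃ t : F, i < j ∧ g = Cfsg.Agent.Helper2.Stn.xg i j t} := hu
    induction hu' using Subgroup.closure_induction with
    | mem y hy =>
      obtain ⟨i, j, t, hij, rfl⟩ := hy
      have hij' : i ≠ j := hij.ne
      rw [hΘ i j t hij', h.pis _ _ (isRoot_inl hij'), Cfsg.Agent.Helper2.Stn.phi_xg hij',
        Cfsg.Agent.S3352P.INJA.Dhom_tv, xs_inl_eq_xm]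
    | one => rw [map_one, map_one, map_one, map_one]
    | mul y z hy hz ihy ihz =>
      rw [map_mul, map_mul, map_mul, map_mul, ihy hy, ihz hz]
    | inv y hy ihy =>
      have e1 : π (Θ y⁻¹) * π (Θ y) = 1 := by
        rw [← map_mul, ← map_mul, inv_mul_cancel, map_one, map_one]
      have e2 : Cfsg.Agent.S3352P.INJA.Dhom n F (Cfsg.Agent.Helper2.Stn.phi y) *
          Cfsg.Agent.S3352P.INJA.Dhom n F (Cfsg.Agent.Helper2.Stn.phi y⁻¹) = 1 := by
        rw [← map_mul, ← map_mul, mul_inv_cancel, map_one, map_one]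
      calc π (Θ y⁻¹) = π (Θ y⁻¹) * (Cfsg.Agent.S3352P.INJA.Dhom n F (Cfsg.Agent.Helper2.Stn.phi y) *
            Cfsg.Agent.S3352P.INJA.Dhom n F (Cfsg.Agent.Helper2.Stn.phi y⁻¹)) := by
            rw [e2, mul_one]
        _ = (π (Θ y⁻¹) * π (Θ y)) *
            Cfsg.Agent.S3352P.INJA.Dhom n F (Cfsg.Agent.Helper2.Stn.phi y⁻¹) := by
            rw [ihy hy, mul_assoc]
        _ = Cfsg.Agent.S3352P.INJA.Dhom n F (Cfsg.Agent.Helper2.Stn.phi y⁻¹) := by
            rw [e1, one_mul]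
  have hle : UA Ys ≤ (Cfsg.Agent.Helper2.Stn.U F (fun i j : Fin n => i < j)).map Θ := by
    unfold UA
    rw [Subgroup.closure_le]
    rintro _ ⟨i, j, t, hij, rfl⟩
    exact ⟨Cfsg.Agent.Helper2.Stn.xg i j t, Cfsg.Agent.Helper2.Stn.xg_mem_U hij t,
      by rw [hΘ i j t hij.ne]⟩
  obtain ⟨u, hu, rfl⟩ := hle ha
  have h2 : Cfsg.Agent.S3352P.INJA.Dhom n F (Cfsg.Agent.Helper2.Stn.phi u) = 1 := by
    rw [← hcomp u hu]
    exact h1
  have h3 : Cfsg.Agent.Helper2.Stn.phi u = 1 := Cfsg.Agent.S3352P.INJA.Dhom_eq_one h2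
  rw [Cfsg.Agent.S3352P.INJA.inj_upper_univ u hu h3, map_one]

/-- every element of `UA Ys` is a single root element when `n = 2` -/
theorem exists_of_mem_UA_two (hn : n = 2) (hY : CRel Ys Yl) {a : M} (ha : a ∈ UA Ys) :
    ∃ (i j : Fin n) (t : F), i < j ∧ a = Ys (Sum.inl i) (Sum.inl j) t := by
  subst hn
  have key : ∀ (i j : Fin 2), i < j → i = 0 ∧ j = 1 := by
    intro i j hij
    fin_cases i <;> fin_cases j <;> simp_all
  have h01 : (0 : Fin 2) < 1 := by decide
  have hroot : IsRoot (Sum.inl (0 : Fin 2) : J 2) (Sum.inl 1) := isRoot_inl (by decide)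
  suffices hs : ∃ t : F, a = Ys (Sum.inl (0 : Fin 2)) (Sum.inl 1) t by
    obtain ⟨t, ht⟩ := hs
    exact ⟨0, 1, t, h01, ht⟩
  unfold UA at ha
  induction ha using Subgroup.closure_induction with
  | mem y hy =>
    obtain ⟨i, j, t, hij, rfl⟩ := hy
    obtain ⟨rfl, rfl⟩ := key i j hij
    exact ⟨t, rfl⟩
  | one => exact ⟨0, (Ys_zero_c hY hroot).symm⟩
  | mul y z hy hz ihy ihz =>
    obtain ⟨s, rfl⟩ := ihy
    obtain ⟨t, rfl⟩ := ihz
    exact ⟨s + t, (hY.adds _ _ hroot s t).symm⟩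
  | inv y hy ihy =>
    obtain ⟨s, rfl⟩ := ihy
    exact ⟨-s, Ys_inv_c hY hroot s⟩

end INJA

/-- INJA -/
theorem eq_one_of_mem_UA_c [Finite F] (hn : 2 ≤ n) (h : PHyp Ys Yl π) {a : M} (ha : a ∈ UA Ys)
    (h1 : π a = 1) : a = 1 := by
  by_cases h3 : 3 ≤ n
  · exact INJA.eq_one_of_three h3 h ha h1
  · have hn2 : n = 2 := by omega
    obtain ⟨i, j, t, hij, rfl⟩ := INJA.exists_of_mem_UA_two hn2 h.rel ha
    have hroot : IsRoot (Sum.inl i : J n) (Sum.inl j) := INJA.isRoot_inl hij.ne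
    rw [h.pis _ _ hroot] at h1
    have h2 := congrFun (congrFun h1 (Sum.inl i)) (Sum.inl j)
    have hij' : i ≠ j := hij.ne
    have ht : t = 0 := by
      unfold xs at h2
      simpa [Matrix.one_apply, Matrix.single_apply, ng, hij', hij'.symm] using h2
    rw [ht]
    exact Ys_zero_c h.rel hroot

end Cfsg.Agent.S2092P
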