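import Mathlib
import Cfsg.Agent.Helper10.S2092.DefsP

set_option autoImplicit false
set_option linter.unusedSectionVars false
set_option linter.unusedVariables false

/-! S2092 (driver helper10), part P, piece C2CIRC: the relations of type `C_n` in explicit form give the relations in
circle form (converse of CIRC2REL): every field of helper2's `Circ` for the circle of `i ≠ j` is an instance of
`CRel` in the right names. -/

namespace Cfsg.Agent.S2092P

open scoped commutatorElement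
open Cfsg.Agent.S3352P Cfsg.Agent.S2096P Cfsg.Agent.S2400P

variable {n : ℕ} {F : Type*} [Field F] {M : Type*} [Group M]
  {Xs : J n → J n → F → M} {Xl : J n → F → M}

namespace C2CIRC

theorem rll {i j : Fin n} (hij : i ≠ j) : IsRoot (Sum.inl i : J n) (Sum.inl j) :=
  ⟨fun h => hij (Sum.inl_injective h), fun h => by simp [ng] at h⟩

theorem rlr {i j : Fin n} (hij : i ≠ j) : IsRoot (Sum.inl i : J n) (Sum.inr j) :=
  ⟨fun h => by simp at h, fun h => by
    simp only [ng] at h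
    exact hij (Sum.inl_injective h)⟩

theorem rrl {i j : Fin n} (hij : i ≠ j) : IsRoot (Sum.inr i : J n) (Sum.inl j) :=
  ⟨fun h => by simp at h, fun h => by
    simp only [ng] at h
    exact hij (Sum.inr_injective h)⟩

theorem rrr {i j : Fin n} (hij : i ≠ j) : IsRoot (Sum.inr i : J n) (Sum.inr j) :=
  ⟨fun h => hij (Sum.inr_injective h), fun h => by simp [ng] at h⟩

@[simp] theorem ng_inl' (i : Fin n) : ng (Sum.inl i : J n) = Sum.inr i := rfl
@[simp] theorem ng_inr' (i : Fin n) : ng (Sum.inr i : J n) = Sum.inl i := rfl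

/-! signs -/

theorem s3 (k s : ZMod 8) (z : ℤ) (h : E3 k s = z) : cE3 F k s = (z : F) := by
  unfold cE3; rw [h]
theorem s1 (k s : ZMod 8) (z : ℤ) (h : E1 k s = z) : cE1 F k s = (z : F) := by
  unfold cE1; rw [h]
theorem s2 (k s : ZMod 8) (z : ℤ) (h : E2 k s = z) : cE2 F k s = (z : F) := by
  unfold cE2; rw [h]

theorem comm_inv_swap (x y : M) : ⁅x, y⁆ = ⁅y, x⁆⁻¹ := (commutatorElement_inv y x).symm

section rel

variable (h : CRel Xs Xl)
include h

theorem Xl_zero (a : J n) : Xl a (0 : F) = 1 := by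
  have := h.addl a 0 0
  rw [add_zero] at this
  exact (mul_eq_left.mp this.symm)

theorem Xl_inv (a : J n) (t : F) : (Xl a t)⁻¹ = Xl a (-t) := by
  apply inv_eq_of_mul_eq_one_right
  rw [← h.addl, add_neg_cancel, Xl_zero h]

/-! flips -/

theorem f1 {i j : Fin n} (hij : i ≠ j) (t : F) :
    Xs (Sum.inr j) (Sum.inr i) t = Xs (Sum.inl i) (Sum.inl j) (-t) := by
  have := h.flip (Sum.inl i) (Sum.inl j) (rll hij) t
  simpa using this

theorem f2 {i j : Fin n} (hij : i ≠ j) (t : F) :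
    Xs (Sum.inl j) (Sum.inr i) t = Xs (Sum.inl i) (Sum.inr j) t := by
  have := h.flip (Sum.inl i) (Sum.inr j) (rlr hij) t
  simpa using this

theorem f3 {i j : Fin n} (hij : i ≠ j) (t : F) :
    Xs (Sum.inr j) (Sum.inl i) t = Xs (Sum.inr i) (Sum.inl j) t := by
  have := h.flip (Sum.inr i) (Sum.inl j) (rrl hij) t
  simpa using this

variable {i j : Fin n} (hij : i ≠ j)
include hij

/-! relII -/

theorem II0p (t u : F) : ⁅Xs (Sum.inl i) (Sum.inl j) t, Xs (Sum.inl i) (Sum.inr j) u⁆ =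
    Xl (Sum.inl i) (2 * t * u) := by
  rw [← f2 h hij u]
  exact h.orthC (Sum.inl i) (Sum.inl j) (rll hij) t u

theorem II0m (t u : F) : ⁅Xs (Sum.inl i) (Sum.inl j) t, Xs (Sum.inr i) (Sum.inl j) u⁆ =
    Xl (Sum.inr j) (-(2 * t * u)) := by
  have h1 : Xs (Sum.inl i) (Sum.inl j) t = Xs (Sum.inr j) (Sum.inr i) (-t) := by
    rw [f1 h hij, neg_neg]
  rw [h1]
  have := h.orthC (Sum.inr j) (Sum.inr i) (rrr (Ne.symm hij)) (-t) u
  rw [ng_inr'] at this
  rw [this]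
  congr 1
  ring

theorem II4m (t u : F) : ⁅Xs (Sum.inl j) (Sum.inl i) t, Xs (Sum.inl i) (Sum.inr j) u⁆ =
    Xl (Sum.inl j) (2 * t * u) :=
  h.orthC (Sum.inl j) (Sum.inl i) (rll (Ne.symm hij)) t u

theorem II6m (t u : F) : ⁅Xs (Sum.inr i) (Sum.inl j) t, Xs (Sum.inl j) (Sum.inl i) u⁆ =
    Xl (Sum.inr i) (2 * t * u) :=
  h.orthC (Sum.inr i) (Sum.inl j) (rrl hij) t u

theorem II2p (t u : F) : ⁅Xs (Sum.inl i) (Sum.inr j) t, Xs (Sum.inl j) (Sum.inl i) u⁆ =
    Xl (Sum.inl j) (-(2 * t * u)) := by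
  rw [comm_inv_swap, II4m h hij, Xl_inv h]
  congr 1
  ring

theorem II2m (t u : F) : ⁅Xs (Sum.inl i) (Sum.inr j) t, Xs (Sum.inl i) (Sum.inl j) u⁆ =
    Xl (Sum.inl i) (-(2 * t * u)) := by
  rw [comm_inv_swap, II0p h hij, Xl_inv h]
  congr 1
  ring

theorem II4p (t u : F) : ⁅Xs (Sum.inl j) (Sum.inl i) t, Xs (Sum.inr i) (Sum.inl j) u⁆ =
    Xl (Sum.inr i) (-(2 * t * u)) := by
  rw [comm_inv_swap, II6m h hij, Xl_inv h]
  congr 1
  ring

theorem II6p (t u : F) : ⁅Xs (Sum.inr i) (Sum.inl j) t, Xs (Sum.inl i) (Sum.inl j) u⁆ =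
    Xl (Sum.inr j) (2 * t * u) := by
  rw [comm_inv_swap, II0m h hij, Xl_inv h]
  congr 1
  ring

/-! relI -/

theorem I0p (t u : F) : ⁅Xs (Sum.inl i) (Sum.inl j) t, Xl (Sum.inl j) (-u)⁆ =
    Xs (Sum.inl i) (Sum.inr j) (-(t * u)) * Xl (Sum.inl i) (-(t ^ 2 * u)) := by
  have := h.sl (Sum.inl i) (Sum.inl j) (rll hij) t (-u)
  rw [this, ng_inl']
  simp only [sgF_inl F]
  congr 2 <;> ring

theorem I0m (t u : F) : ⁅Xs (Sum.inl i) (Sum.inl j) t, Xl (Sum.inr i) u⁆ =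
    Xs (Sum.inr i) (Sum.inl j) (-(t * u)) * Xl (Sum.inr j) (t ^ 2 * u) := by
  have h1 : Xs (Sum.inl i) (Sum.inl j) t = Xs (Sum.inr j) (Sum.inr i) (-t) := by
    rw [f1 h hij, neg_neg]
  rw [h1]
  have := h.sl (Sum.inr j) (Sum.inr i) (rrr (Ne.symm hij)) (-t) u
  rw [this, ng_inr', f3 h hij]
  simp only [sgF_inr F]
  congr 2 <;> ring

theorem I2p (t u : F) : ⁅Xs (Sum.inl i) (Sum.inr j) t, Xl (Sum.inr i) u⁆ =
    Xs (Sum.inl j) (Sum.inl i) (t * u) * Xl (Sum.inl j) (-(t ^ 2 * u)) := by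
  rw [← f2 h hij t]
  have := h.sl (Sum.inl j) (Sum.inr i) (rlr (Ne.symm hij)) t u
  rw [this, ng_inr']
  simp only [sgF_inl F, sgF_inr F]
  congr 2 <;> ring

theorem I2m (t u : F) : ⁅Xs (Sum.inl i) (Sum.inr j) t, Xl (Sum.inr j) (-u)⁆ =
    Xs (Sum.inl i) (Sum.inl j) (-(t * u)) * Xl (Sum.inl i) (t ^ 2 * u) := by
  have := h.sl (Sum.inl i) (Sum.inr j) (rlr hij) t (-u)
  rw [this, ng_inr']
  simp only [sgF_inl F, sgF_inr F]
  congr 2 <;> ring

theorem I4p (t u : F) : ⁅Xs (Sum.inl j) (Sum.inl i) t, Xl (Sum.inr j) (-u)⁆ =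
    Xs (Sum.inr i) (Sum.inl j) (t * u) * Xl (Sum.inr i) (-(t ^ 2 * u)) := by
  have h1 : Xs (Sum.inl j) (Sum.inl i) t = Xs (Sum.inr i) (Sum.inr j) (-t) := by
    rw [f1 h (Ne.symm hij), neg_neg]
  rw [h1]
  have := h.sl (Sum.inr i) (Sum.inr j) (rrr hij) (-t) (-u)
  rw [this, ng_inr']
  simp only [sgF_inr F]
  congr 2 <;> ring

theorem I4m (t u : F) : ⁅Xs (Sum.inl j) (Sum.inl i) t, Xl (Sum.inl i) u⁆ =
    Xs (Sum.inl i) (Sum.inr j) (t * u) * Xl (Sum.inl j) (t ^ 2 * u) := by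
  have := h.sl (Sum.inl j) (Sum.inl i) (rll (Ne.symm hij)) t u
  rw [this, ng_inl', f2 h hij]
  simp only [sgF_inl F]
  congr 2 <;> ring

theorem I6p (t u : F) : ⁅Xs (Sum.inr i) (Sum.inl j) t, Xl (Sum.inl i) u⁆ =
    Xs (Sum.inl i) (Sum.inl j) (-(t * u)) * Xl (Sum.inr j) (-(t ^ 2 * u)) := by
  rw [← f3 h hij t]
  have := h.sl (Sum.inr j) (Sum.inl i) (rrl (Ne.symm hij)) t u
  rw [this, ng_inl', f1 h hij]
  simp only [sgF_inl F, sgF_inr F]
  congr 2 <;> ring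

theorem I6m (t u : F) : ⁅Xs (Sum.inr i) (Sum.inl j) t, Xl (Sum.inl j) (-u)⁆ =
    Xs (Sum.inl j) (Sum.inl i) (t * u) * Xl (Sum.inr i) (t ^ 2 * u) := by
  have := h.sl (Sum.inr i) (Sum.inl j) (rrl hij) t (-u)
  rw [this, ng_inl', f1 h (Ne.symm hij)]
  simp only [sgF_inl F, sgF_inr F]
  congr 2 <;> ring

end rel

/-- the circle of `i ≠ j` -/
theorem circ_of_cRel (h : CRel Xs Xl) {i j : Fin n} (hij : i ≠ j) :
    Circ (cE1 F) (cE2 F) (cE3 F) (cX Xs Xl i j) where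
  add := by
    intro k t u
    have hk8 : k = 0 ∨ k = 1 ∨ k = 2 ∨ k = 3 ∨ k = 4 ∨ k = 5 ∨ k = 6 ∨ k = 7 := by
      revert k; decide
    rcases hk8 with rfl | rfl | rfl | rfl | rfl | rfl | rfl | rfl
    · exact (h.adds _ _ (rll hij) t u).symm
    · exact (h.addl _ t u).symm
    · exact (h.adds _ _ (rlr hij) t u).symm
    · show Xl (Sum.inl j) (-t) * Xl (Sum.inl j) (-u) = Xl (Sum.inl j) (-(t + u))
      rw [← h.addl, neg_add]
    · exact (h.adds _ _ (rll (Ne.symm hij)) t u).symm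
    · exact (h.addl _ t u).symm
    · exact (h.adds _ _ (rrl hij) t u).symm
    · show Xl (Sum.inr j) (-t) * Xl (Sum.inr j) (-u) = Xl (Sum.inr j) (-(t + u))
      rw [← h.addl, neg_add]
  comm45 := by
    intro k t u
    have hji : j ≠ i := Ne.symm hij
    have hk8 : k = 0 ∨ k = 1 ∨ k = 2 ∨ k = 3 ∨ k = 4 ∨ k = 5 ∨ k = 6 ∨ k = 7 := by
      revert k; decide
    rcases hk8 with rfl | rfl | rfl | rfl | rfl | rfl | rfl | rfl
    · exact h.slcomm (Sum.inl i) (Sum.inl j) (Sum.inl i) (rll hij)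
        (fun e => hij (Sum.inl_injective e)) (by simp) t u
    · exact (h.slcomm (Sum.inl i) (Sum.inr j) (Sum.inl i) (rlr hij) (by simp) (by simp) u t).symm
    · exact h.slcomm (Sum.inl i) (Sum.inr j) (Sum.inl j) (rlr hij) (by simp) (by simp) t (-u)
    · exact (h.slcomm (Sum.inl j) (Sum.inl i) (Sum.inl j) (rll hji)
        (fun e => hji (Sum.inl_injective e)) (by simp) u (-t)).symm
    · exact h.slcomm (Sum.inl j) (Sum.inl i) (Sum.inr i) (rll hji) (by simp)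
        (fun e => hij (Sum.inr_injective e)) t u
    · exact (h.slcomm (Sum.inr i) (Sum.inl j) (Sum.inr i) (rrl hij) (by simp) (by simp) u t).symm
    · exact h.slcomm (Sum.inr i) (Sum.inl j) (Sum.inr j) (rrl hij) (by simp) (by simp) t (-u)
    · exact (h.slcomm (Sum.inl i) (Sum.inl j) (Sum.inr j) (rll hij) (by simp)
        (fun e => hji (Sum.inr_injective e)) u (-t)).symm
  commLL := by
    intro l hl t u
    have hji : j ≠ i := Ne.symm hij
    have hl4 : l = 1 ∨ l = 3 ∨ l = 5 ∨ l = 7 := by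
      revert l; decide
    rcases hl4 with rfl | rfl | rfl | rfl
    · exact h.ll (Sum.inl i) (Sum.inl j) (by simp) t (-u)
    · exact h.ll (Sum.inl j) (Sum.inr i) (fun e => hij (Sum.inr_injective e)) (-t) u
    · exact h.ll (Sum.inr i) (Sum.inr j) (by simp) t (-u)
    · exact h.ll (Sum.inr j) (Sum.inl i) (fun e => hij (Sum.inl_injective e)) (-t) u
  relII := by
    intro k hk s hs t u
    rcases hs with rfl | rfl
    · have hk4 : k = 0 ∨ k = 2 ∨ k = 4 ∨ k = 6 := by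
        revert k; decide
      rcases hk4 with rfl | rfl | rfl | rfl
      · show ⁅Xs (Sum.inl i) (Sum.inl j) t, Xs (Sum.inl i) (Sum.inr j) u⁆ =
          Xl (Sum.inl i) (2 * cE3 F 0 1 * t * u)
        rw [II0p h hij, s3 0 1 1 (by decide)]
        congr 1; push_cast; ring
      · show ⁅Xs (Sum.inl i) (Sum.inr j) t, Xs (Sum.inl j) (Sum.inl i) u⁆ =
          Xl (Sum.inl j) (-(2 * cE3 F 2 1 * t * u))
        rw [II2p h hij, s3 2 1 1 (by decide)]
        congr 1; push_cast; ring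
      · show ⁅Xs (Sum.inl j) (Sum.inl i) t, Xs (Sum.inr i) (Sum.inl j) u⁆ =
          Xl (Sum.inr i) (2 * cE3 F 4 1 * t * u)
        rw [II4p h hij, s3 4 1 (-1) (by decide)]
        congr 1; push_cast; ring
      · show ⁅Xs (Sum.inr i) (Sum.inl j) t, Xs (Sum.inl i) (Sum.inl j) u⁆ =
          Xl (Sum.inr j) (-(2 * cE3 F 6 1 * t * u))
        rw [II6p h hij, s3 6 1 (-1) (by decide)]
        congr 1; push_cast; ring
    · have hk4 : k = 0 ∨ k = 2 ∨ k = 4 ∨ k = 6 := by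
        revert k; decide
      rcases hk4 with rfl | rfl | rfl | rfl
      · show ⁅Xs (Sum.inl i) (Sum.inl j) t, Xs (Sum.inr i) (Sum.inl j) u⁆ =
          Xl (Sum.inr j) (-(2 * cE3 F 0 (-1) * t * u))
        rw [II0m h hij, s3 0 (-1) 1 (by decide)]
        congr 1; push_cast; ring
      · show ⁅Xs (Sum.inl i) (Sum.inr j) t, Xs (Sum.inl i) (Sum.inl j) u⁆ =
          Xl (Sum.inl i) (2 * cE3 F 2 (-1) * t * u)
        rw [II2m h hij, s3 2 (-1) (-1) (by decide)]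
        congr 1; push_cast; ring
      · show ⁅Xs (Sum.inl j) (Sum.inl i) t, Xs (Sum.inl i) (Sum.inr j) u⁆ =
          Xl (Sum.inl j) (-(2 * cE3 F 4 (-1) * t * u))
        rw [II4m h hij, s3 4 (-1) (-1) (by decide)]
        congr 1; push_cast; ring
      · show ⁅Xs (Sum.inr i) (Sum.inl j) t, Xs (Sum.inl j) (Sum.inl i) u⁆ =
          Xl (Sum.inr i) (2 * cE3 F 6 (-1) * t * u)
        rw [II6m h hij, s3 6 (-1) 1 (by decide)]
        congr 1; push_cast; ring
  relI := by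
    intro k hk s hs t u
    rcases hs with rfl | rfl
    · have hk4 : k = 0 ∨ k = 2 ∨ k = 4 ∨ k = 6 := by
        revert k; decide
      rcases hk4 with rfl | rfl | rfl | rfl
      · show ⁅Xs (Sum.inl i) (Sum.inl j) t, Xl (Sum.inl j) (-u)⁆ =
          Xs (Sum.inl i) (Sum.inr j) (cE1 F 0 1 * t * u) * Xl (Sum.inl i) (cE2 F 0 1 * t ^ 2 * u)
        rw [I0p h hij, s1 0 1 (-1) (by decide), s2 0 1 (-1) (by decide)]
        congr 2 <;> (push_cast; ring)
      · show ⁅Xs (Sum.inl i) (Sum.inr j) t, Xl (Sum.inr i) u⁆ =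
          Xs (Sum.inl j) (Sum.inl i) (cE1 F 2 1 * t * u) *
            Xl (Sum.inl j) (-(cE2 F 2 1 * t ^ 2 * u))
        rw [I2p h hij, s1 2 1 1 (by decide), s2 2 1 1 (by decide)]
        congr 2 <;> (push_cast; ring)
      · show ⁅Xs (Sum.inl j) (Sum.inl i) t, Xl (Sum.inr j) (-u)⁆ =
          Xs (Sum.inr i) (Sum.inl j) (cE1 F 4 1 * t * u) * Xl (Sum.inr i) (cE2 F 4 1 * t ^ 2 * u)
        rw [I4p h hij, s1 4 1 1 (by decide), s2 4 1 (-1) (by decide)]
        congr 2 <;> (push_cast; ring)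
      · show ⁅Xs (Sum.inr i) (Sum.inl j) t, Xl (Sum.inl i) u⁆ =
          Xs (Sum.inl i) (Sum.inl j) (cE1 F 6 1 * t * u) *
            Xl (Sum.inr j) (-(cE2 F 6 1 * t ^ 2 * u))
        rw [I6p h hij, s1 6 1 (-1) (by decide), s2 6 1 1 (by decide)]
        congr 2 <;> (push_cast; ring)
    · have hk4 : k = 0 ∨ k = 2 ∨ k = 4 ∨ k = 6 := by
        revert k; decide
      rcases hk4 with rfl | rfl | rfl | rfl
      · show ⁅Xs (Sum.inl i) (Sum.inl j) t, Xl (Sum.inr i) u⁆ =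
          Xs (Sum.inr i) (Sum.inl j) (cE1 F 0 (-1) * t * u) *
            Xl (Sum.inr j) (-(cE2 F 0 (-1) * t ^ 2 * u))
        rw [I0m h hij, s1 0 (-1) (-1) (by decide), s2 0 (-1) (-1) (by decide)]
        congr 2 <;> (push_cast; ring)
      · show ⁅Xs (Sum.inl i) (Sum.inr j) t, Xl (Sum.inr j) (-u)⁆ =
          Xs (Sum.inl i) (Sum.inl j) (cE1 F 2 (-1) * t * u) *
            Xl (Sum.inl i) (cE2 F 2 (-1) * t ^ 2 * u)
        rw [I2m h hij, s1 2 (-1) (-1) (by decide), s2 2 (-1) 1 (by decide)]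
        congr 2 <;> (push_cast; ring)
      · show ⁅Xs (Sum.inl j) (Sum.inl i) t, Xl (Sum.inl i) u⁆ =
          Xs (Sum.inl i) (Sum.inr j) (cE1 F 4 (-1) * t * u) *
            Xl (Sum.inl j) (-(cE2 F 4 (-1) * t ^ 2 * u))
        rw [I4m h hij, s1 4 (-1) 1 (by decide), s2 4 (-1) (-1) (by decide)]
        congr 2 <;> (push_cast; ring)
      · show ⁅Xs (Sum.inr i) (Sum.inl j) t, Xl (Sum.inl j) (-u)⁆ =
          Xs (Sum.inl j) (Sum.inl i) (cE1 F 6 (-1) * t * u) *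
            Xl (Sum.inr i) (cE2 F 6 (-1) * t ^ 2 * u)
        rw [I6m h hij, s1 6 (-1) 1 (by decide), s2 6 (-1) 1 (by decide)]
        congr 2 <;> (push_cast; ring)

end C2CIRC

/-- C2CIRC -/
theorem cRelC_of_cRel {Xs : J n → J n → F → M} {Xl : J n → F → M} (h : CRel Xs Xl) :
    CRelC Xs Xl where
  flip := h.flip
  circ := fun i j hij => C2CIRC.circ_of_cRel h hij
  mul := h.mul
  comm := h.comm
  slcomm := by
    intro a b c hab hca hcb s t
    refine h.slcomm a b c hab ?_ ?_ s t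
    · intro e
      exact hcb (by rw [e])
    · intro e
      apply hca
      rw [e]
      cases a <;> rfl

end Cfsg.Agent.S2092P
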