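import Mathlib
import Cfsg.Prelude.Def_KGroupFacts
import Cfsg.Agent.Helper2.PSLM.Defs

set_option autoImplicit false

/-! S2086, piece DISJODD (core): from the row swap and the column swap identities, the commutators
of lifts of disjoint root elements are trivial when `2` is invertible. -/

namespace Cfsg.Agent.S2086P

open scoped commutatorElement
open Cfsg.Agent.Helper2.Stb

variable {n : ℕ} {K : Type*} [Field K] {G : Type*} [Group G] {E : Type*} [Group E]

namespace DISJODD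

section
variable (ψ : E →* G) (hψ : Function.Surjective ψ) (hc : ψ.ker ≤ Subgroup.center E)
include hc

theorem cl_central {g g' : G} (h : Commute g g') : cl ψ hψ g g' ∈ Subgroup.center E := by
  unfold cl
  apply comm_mem_center_of_map ψ hc
  rw [Function.surjInv_eq hψ, Function.surjInv_eq hψ]
  exact h

theorem cl_mul_left {g₁ g₂ g' : G} (h2 : Commute g₂ g') :
    cl ψ hψ (g₁ * g₂) g' = cl ψ hψ g₁ g' * cl ψ hψ g₂ g' := by
  obtain ⟨e₁, he₁⟩ := hψ g₁
  obtain ⟨e₂, he₂⟩ := hψ g₂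
  obtain ⟨e', he'⟩ := hψ g'
  have h12 : ψ (e₁ * e₂) = g₁ * g₂ := by rw [map_mul, he₁, he₂]
  rw [← cl_eq ψ hψ hc h12 he', ← cl_eq ψ hψ hc he₁ he', ← cl_eq ψ hψ hc he₂ he']
  apply comm_mul_left_of_central
  rw [cl_eq ψ hψ hc he₂ he']
  exact cl_central ψ hψ hc h2

theorem CL_of_cl_eq_one {g g' : G} (h : cl ψ hψ g g' = 1) : CL ψ g g' := by
  intro e e' he he'
  rw [← commutatorElement_eq_one_iff_commute, cl_eq ψ hψ hc he he']
  exact h

end

/-- the core of DISJODD: row swap and column swap identities force the commutators of lifts of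
disjoint root elements to be trivial (`2` invertible) -/
theorem core (S : StD n K G) (ψ : E →* G) (hψ : Function.Surjective ψ)
    (hc : ψ.ker ≤ Subgroup.center E) (h2 : (2 : K) ≠ 0)
    (hRS : ∀ (i j k l : Fin n) (hij : i ≠ j) (hkl : k ≠ l) (_ : i ≠ k) (hil : i ≠ l)
      (hjk : j ≠ k) (_ : j ≠ l) (s t : K),
      cl ψ hψ (S.T (rt k l hkl) t) (S.T (rt i j hij) s) =
        cl ψ hψ (S.T (rt i l hil) (-(s * t))) (S.T (rt k j hjk.symm) 1))
    (hCS : ∀ (i j k l : Fin n) (hij : i ≠ j) (hkl : k ≠ l) (hik : i ≠ k) (_ : i ≠ l)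
      (_ : j ≠ k) (hjl : j ≠ l) (s t : K),
      cl ψ hψ (S.T (rt l k hkl.symm) t) (S.T (rt i j hij) s) =
        cl ψ hψ (S.T (rt i k hik) s) (S.T (rt l j hjl.symm) t))
    (i j k l : Fin n) (hij : i ≠ j) (hkl : k ≠ l) (hik : i ≠ k) (hil : i ≠ l) (hjk : j ≠ k)
    (hjl : j ≠ l) (s t : K) :
    CL ψ (S.T (rt i j hij) s) (S.T (rt k l hkl) t) := by
  -- the two swaps
  have hrs := hRS i l k j hil hjk.symm hik hij hkl.symm hjl.symm
  have hcs := hCS i l j k hil hjk hij hik hjl.symm hkl.symm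
  have key : ∀ s t : K, cl ψ hψ (S.T (rt i j hij) s) (S.T (rt k l hkl) t) =
      cl ψ hψ (S.T (rt i j hij) (-(s * t))) (S.T (rt k l hkl) 1) := by
    intro s t
    exact (hcs s t).symm.trans (hrs s t)
  -- additivity in the first variable
  have hcomm : ∀ u : K, Commute (S.T (rt i j hij) u) (S.T (rt k l hkl) 1) :=
    fun u => S.comm _ _ u 1 hil hjk
  have hadd : ∀ u v : K, cl ψ hψ (S.T (rt i j hij) (u + v)) (S.T (rt k l hkl) 1) =
      cl ψ hψ (S.T (rt i j hij) u) (S.T (rt k l hkl) 1) *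
        cl ψ hψ (S.T (rt i j hij) v) (S.T (rt k l hkl) 1) := by
    intro u v
    rw [← S.add, cl_mul_left ψ hψ hc (hcomm v)]
  have hzero : cl ψ hψ (S.T (rt i j hij) 0) (S.T (rt k l hkl) 1) = 1 := by
    have := hadd 0 0
    rw [add_zero] at this
    exact left_eq_mul.mp this
  have hneg : ∀ u : K, cl ψ hψ (S.T (rt i j hij) (-u)) (S.T (rt k l hkl) 1) =
      (cl ψ hψ (S.T (rt i j hij) u) (S.T (rt k l hkl) 1))⁻¹ := by
    intro u
    apply eq_inv_of_mul_eq_one_left
    rw [← hadd, neg_add_cancel, hzero]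
  -- squares are trivial
  have hsq : ∀ u : K, cl ψ hψ (S.T (rt i j hij) u) (S.T (rt k l hkl) 1) *
      cl ψ hψ (S.T (rt i j hij) u) (S.T (rt k l hkl) 1) = 1 := by
    intro u
    have h1 := key u 1
    rw [mul_one, hneg] at h1
    nth_rewrite 1 [h1]
    exact inv_mul_cancel _
  have hone : ∀ u : K, cl ψ hψ (S.T (rt i j hij) u) (S.T (rt k l hkl) 1) = 1 := by
    intro u
    have hu : u = u / 2 + u / 2 := by
      field_simp
      ring
    rw [hu, hadd]
    exact hsq _
  apply CL_of_cl_eq_one ψ hψ hc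
  rw [key, hone]

end DISJODD

end Cfsg.Agent.S2086P
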