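import Mathlib
import Cfsg.Prelude.Def_KGroupFacts
import Cfsg.Agent.Helper2.PSLM.Defs
import Cfsg.Agent.Helper26.PSLMRS
import Cfsg.Agent.Helper26.PSLMCS
import Cfsg.Agent.Helper8.PSLMDISJODDCore

set_option autoImplicit false

/-! S2086, piece DISJODD: lifts of disjoint root elements commute (`2` invertible), given the row
and column cases. -/

namespace Cfsg.Agent.S2086P

open scoped commutatorElement
open Cfsg.Agent.Helper2.Stb

variable {n : ℕ} {K : Type*} [Field K] {G : Type*} [Group G] {E : Type*} [Group E]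

theorem cl_disj_of_odd (S : StD n K G) (ψ : E →* G) (hψ : Function.Surjective ψ)
    (hc : ψ.ker ≤ Subgroup.center E) (h2 : (2 : K) ≠ 0)
    (hrow : ∀ (i j k : Fin n) (hij : i ≠ j) (hik : i ≠ k) (_ : j ≠ k) (s t : K),
      CL ψ (S.T (rt i j hij) s) (S.T (rt i k hik) t))
    (hcol : ∀ (i j k : Fin n) (hik : i ≠ k) (hjk : j ≠ k) (_ : i ≠ j) (s t : K),
      CL ψ (S.T (rt i k hik) s) (S.T (rt j k hjk) t))
    (i j k l : Fin n) (hij : i ≠ j) (hkl : k ≠ l) (hik : i ≠ k) (hil : i ≠ l) (hjk : j ≠ k)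
    (hjl : j ≠ l) (s t : K) :
    CL ψ (S.T (rt i j hij) s) (S.T (rt k l hkl) t) :=
  DISJODD.core S ψ hψ hc h2
    (fun i j k l hij hkl hik hil hjk hjl s t =>
      cl_row_swap S ψ hψ hc hrow i j k l hij hkl hik hil hjk hjl s t)
    (fun i j k l hij hkl hik hil hjk hjl s t =>
      cl_col_swap S ψ hψ hc hcol i j k l hij hkl hik hil hjk hjl s t)
    i j k l hij hkl hik hil hjk hjl s t

end Cfsg.Agent.S2086P
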