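import Mathlib
import Cfsg.Agent.Helper8.MatBNDefs

set_option autoImplicit false
open scoped Matrix

/-! Block embeddings of small matrices into `n × n` matrices (helper8; used for the rank one identities
of S2546). `emb f A` is the identity outside the rows/columns `f p` and is `A` on them. -/

namespace Cfsg.Agent.MatBN.EMB

variable {K : Type*} [Field K] {k n : ℕ}

/-- the inclusion matrix of `f` -/
def inc (K : Type*) [Field K] {k n : ℕ} (f : Fin k → Fin n) : Matrix (Fin n) (Fin k) K :=
  Matrix.of fun a p => if a = f p then 1 else 0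

theorem inc_apply (f : Fin k → Fin n) (a : Fin n) (p : Fin k) :
    (inc K f) a p = if a = f p then 1 else 0 := rfl

theorem incT_mul_inc {f : Fin k → Fin n} (hf : Function.Injective f) :
    (inc K f)ᵀ * inc K f = 1 := by
  ext p q
  rw [Matrix.mul_apply]
  simp only [Matrix.transpose_apply, inc_apply]
  rw [Finset.sum_eq_single (f p)]
  · rw [if_pos rfl, one_mul]
    by_cases h : p = q
    · rw [h, if_pos rfl, Matrix.one_apply_eq]
    · rw [if_neg (fun e => h (hf e)), Matrix.one_apply_ne h]
  · intro a _ ha
    rw [if_neg ha, zero_mul]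
  · intro h
    exact absurd (Finset.mem_univ _) h

/-- the block embedding -/
def emb (f : Fin k → Fin n) (A : Matrix (Fin k) (Fin k) K) : Matrix (Fin n) (Fin n) K :=
  1 + inc K f * (A - 1) * (inc K f)ᵀ

theorem emb_one (f : Fin k → Fin n) : emb f (1 : Matrix (Fin k) (Fin k) K) = 1 := by
  unfold emb
  rw [sub_self, Matrix.mul_zero, Matrix.zero_mul, add_zero]

theorem emb_mul {f : Fin k → Fin n} (hf : Function.Injective f) (A B : Matrix (Fin k) (Fin k) K) :
    emb f A * emb f B = emb f (A * B) := by
  unfold emb
  have h := incT_mul_inc (K := K) hf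
  have e : (inc K f * (A - 1) * (inc K f)ᵀ) * (inc K f * (B - 1) * (inc K f)ᵀ)
      = inc K f * ((A - 1) * (B - 1)) * (inc K f)ᵀ := by
    calc (inc K f * (A - 1) * (inc K f)ᵀ) * (inc K f * (B - 1) * (inc K f)ᵀ)
        = inc K f * (A - 1) * ((inc K f)ᵀ * inc K f) * (B - 1) * (inc K f)ᵀ := by
          simp only [Matrix.mul_assoc]
      _ = _ := by rw [h, Matrix.mul_one]; simp only [Matrix.mul_assoc]
  rw [mul_add, add_mul, add_mul, one_mul, mul_one, one_mul, e]
  have e2 : A * B - 1 = (A - 1) + (B - 1) + (A - 1) * (B - 1) := by noncomm_ring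
  rw [e2, Matrix.mul_add, Matrix.mul_add, Matrix.add_mul, Matrix.add_mul]
  abel

theorem emb_apply (f : Fin k → Fin n) (A : Matrix (Fin k) (Fin k) K) (a c : Fin n) :
    emb f A a c = (1 : Matrix (Fin n) (Fin n) K) a c +
      ∑ p, ∑ q, (if a = f p then (1 : K) else 0) * ((A - 1) p q * (if c = f q then 1 else 0)) := by
  unfold emb
  rw [Matrix.add_apply, Matrix.mul_assoc, Matrix.mul_apply]
  congr 1
  apply Finset.sum_congr rfl
  intro p _
  rw [Matrix.mul_apply, inc_apply, Finset.mul_sum]
  rfl

theorem emb_apply_mem {f : Fin k → Fin n} (hf : Function.Injective f)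
    (A : Matrix (Fin k) (Fin k) K) (p q : Fin k) : emb f A (f p) (f q) = A p q := by
  rw [emb_apply, Finset.sum_eq_single p]
  · rw [Finset.sum_eq_single q]
    · rw [if_pos rfl, if_pos rfl, one_mul, mul_one, Matrix.sub_apply]
      by_cases h : p = q
      · rw [h, Matrix.one_apply_eq, Matrix.one_apply_eq]; ring
      · rw [Matrix.one_apply_ne h, Matrix.one_apply_ne (fun e => h (hf e))]; ring
    · intro r _ hr
      rw [if_neg (fun e => hr (hf e).symm), mul_zero, mul_zero]
    · intro h
      exact absurd (Finset.mem_univ _) h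
  · intro r _ hr
    apply Finset.sum_eq_zero
    intro s _
    rw [if_neg (fun e => hr (hf e).symm), zero_mul]
  · intro h
    exact absurd (Finset.mem_univ _) h

theorem emb_apply_left (f : Fin k → Fin n) (A : Matrix (Fin k) (Fin k) K) (a c : Fin n)
    (ha : ∀ p, a ≠ f p) : emb f A a c = (1 : Matrix (Fin n) (Fin n) K) a c := by
  rw [emb_apply]
  have : (∑ p, ∑ q, (if a = f p then (1 : K) else 0) * ((A - 1) p q * (if c = f q then 1 else 0))) = 0 := by
    apply Finset.sum_eq_zero
    intro p _
    apply Finset.sum_eq_zero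
    intro q _
    rw [if_neg (ha p), zero_mul]
  rw [this, add_zero]

theorem emb_apply_right (f : Fin k → Fin n) (A : Matrix (Fin k) (Fin k) K) (a c : Fin n)
    (hc : ∀ q, c ≠ f q) : emb f A a c = (1 : Matrix (Fin n) (Fin n) K) a c := by
  rw [emb_apply]
  have : (∑ p, ∑ q, (if a = f p then (1 : K) else 0) * ((A - 1) p q * (if c = f q then 1 else 0))) = 0 := by
    apply Finset.sum_eq_zero
    intro p _
    apply Finset.sum_eq_zero
    intro q _
    rw [if_neg (hc q), mul_zero, mul_zero]
  rw [this, add_zero]

/-- an embedded upper triangular block along a strictly increasing `f` is upper triangular -/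
theorem isTri_emb {f : Fin k → Fin n} (hf : StrictMono f) (A : Matrix (Fin k) (Fin k) K)
    (hA : ∀ p q : Fin k, q < p → A p q = 0) : IsTri (emb f A) := by
  intro a c hca
  by_cases ha : ∃ p, a = f p
  · obtain ⟨p, rfl⟩ := ha
    by_cases hc : ∃ q, c = f q
    · obtain ⟨q, rfl⟩ := hc
      rw [emb_apply_mem hf.injective]
      exact hA p q (hf.lt_iff_lt.mp hca)
    · push Not at hc
      rw [emb_apply_right f A _ _ hc, Matrix.one_apply_ne hca.ne']
  · push Not at ha
    rw [emb_apply_left f A _ _ ha, Matrix.one_apply_ne hca.ne']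

/-- `1 + ∑ entries • matrix units` as an embedding: the embedding of `1 + N` -/
theorem emb_one_add (f : Fin k → Fin n) (N : Matrix (Fin k) (Fin k) K) :
    emb f (1 + N) = 1 + inc K f * N * (inc K f)ᵀ := by
  unfold emb
  rw [add_sub_cancel_left]

theorem inc_single_incT (f : Fin k → Fin n) (p q : Fin k) (x : K) :
    inc K f * Matrix.single p q x * (inc K f)ᵀ = Matrix.single (f p) (f q) x := by
  ext a c
  rw [Matrix.mul_apply, Finset.sum_eq_single q]
  · rw [Matrix.mul_apply, Finset.sum_eq_single p]
    · rw [Matrix.transpose_apply, inc_apply, inc_apply, Matrix.single_apply_same,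
        Matrix.single_apply]
      by_cases h1 : a = f p
      · by_cases h2 : c = f q
        · rw [if_pos h1, if_pos h2, if_pos ⟨h1.symm, h2.symm⟩, one_mul, mul_one]
        · rw [if_neg h2, mul_zero, if_neg (fun h => h2 h.2.symm)]
      · rw [if_neg h1, zero_mul, zero_mul, if_neg (fun h => h1 h.1.symm)]
    · intro r _ hr
      rw [Matrix.single_apply, if_neg (fun h => hr h.1.symm), mul_zero]
    · intro h
      exact absurd (Finset.mem_univ _) h
  · intro r _ hr
    have : (inc K f * Matrix.single p q x) a r = 0 := by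
      rw [Matrix.mul_apply]
      apply Finset.sum_eq_zero
      intro s _
      rw [Matrix.single_apply, if_neg (fun h => hr h.2.symm), mul_zero]
    rw [this, zero_mul]
  · intro h
    exact absurd (Finset.mem_univ _) h

end Cfsg.Agent.MatBN.EMB
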