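import Mathlib

/-! S2799 piece E2: an abelian 2-group acting quadratically, no stabiliser of index 2: every
invariant fixed-point-free finset has trivial product. -/

set_option autoImplicit false

namespace Cfsg.Agent.S2799P

open Subgroup MulAction

/-- the product of the values of a homomorphism from a finite group of order divisible by 4 into
a commutative group of exponent 2 is trivial -/
theorem E2_aux_prod {P : Type*} [Group P] [Fintype P] {W : Type*} [CommGroup W]
    (hexp : ∀ w : W, w ^ 2 = 1) (φ : P →* W) (h4 : 4 ∣ Fintype.card P) :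
    ∏ q : P, φ q = 1 := by
  classical
  haveI : Fact (Nat.Prime 2) := ⟨Nat.prime_two⟩
  obtain ⟨z, hz⟩ := exists_prime_orderOf_dvd_card (G := P) 2 (dvd_trans (by norm_num) h4)
  set Z : Subgroup P := Subgroup.zpowers z with hZ
  have hZc : Fintype.card ↥Z = 2 := by rw [Fintype.card_zpowers, hz]
  have hcard : Fintype.card P = Fintype.card (P ⧸ Z) * Fintype.card ↥Z := by
    have := Subgroup.card_eq_card_quotient_mul_card_subgroup Z
    simpa [Nat.card_eq_fintype_card] using this
  have hinj : Function.Injective (fun x : (P ⧸ Z) × ↥Z => x.1.out * (x.2 : P)) := by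
    rintro ⟨r, s⟩ ⟨r', s'⟩ h
    simp only at h
    have h1 : ((r.out * (s : P) : P) : P ⧸ Z) = ((r'.out * (s' : P) : P) : P ⧸ Z) := by rw [h]
    have h2 : ∀ (r : P ⧸ Z) (s : ↥Z), ((r.out * (s : P) : P) : P ⧸ Z) = r := by
      intro r s
      rw [← QuotientGroup.out_eq' r]
      rw [QuotientGroup.eq]
      rw [QuotientGroup.out_eq' r]
      have : (r.out * (s : P))⁻¹ * r.out = ((s : P))⁻¹ := by group
      rw [this]
      exact Z.inv_mem s.2
    rw [h2, h2] at h1
    subst h1
    have h3 : (s : P) = (s' : P) := mul_left_cancel h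
    rw [Subtype.ext h3]
  have hbij : Function.Bijective (fun x : (P ⧸ Z) × ↥Z => x.1.out * (x.2 : P)) := by
    rw [Fintype.bijective_iff_injective_and_card]
    refine ⟨hinj, ?_⟩
    rw [Fintype.card_prod, hcard]
  rw [← Fintype.prod_bijective _ hbij (fun x => φ (x.1.out * (x.2 : P))) (fun q => φ q)
    (fun x => rfl)]
  rw [Fintype.prod_prod_type]
  have hrow : ∀ r : P ⧸ Z, ∏ s : ↥Z, φ (r.out * (s : P)) = ∏ s : ↥Z, φ (s : P) := by
    intro r
    simp only [map_mul]
    rw [Finset.prod_mul_distrib, Finset.prod_const, Finset.card_univ, hZc, hexp, one_mul]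
  rw [Finset.prod_congr rfl (fun r _ => hrow r), Finset.prod_const, Finset.card_univ]
  have heven : Even (Fintype.card (P ⧸ Z)) := by
    rw [hZc] at hcard
    obtain ⟨k, hk⟩ := h4
    rw [hk] at hcard
    exact ⟨k, by omega⟩
  obtain ⟨m, hm⟩ := heven
  rw [hm, ← two_mul, pow_mul, hexp, one_pow]

/-- the product over one orbit -/
theorem E2_aux_orbit {A : Type*} [Group A] [Fintype A]
    (hcomm : ∀ a b : A, a * b = b * a)
    {Ω : Type*} [MulAction A Ω] [DecidableEq Ω]
    {W : Type*} [CommGroup W] (hexp : ∀ w : W, w ^ 2 = 1) (ρ : A →* MulAut W) (f : Ω → W)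
    (hf : ∀ (a : A) (ω : Ω), f (a • ω) = ρ a (f ω))
    (hquad : ∀ (a b : A) (w : W), ρ b (ρ a w * w⁻¹) = ρ a w * w⁻¹)
    (ω : Ω) (h4 : 4 ∣ (MulAction.stabilizer A ω).index) :
    ∏ ω' ∈ (Finset.univ.image (fun a : A => a • ω)), f ω' = 1 := by
  classical
  set A₀ : Subgroup A := MulAction.stabilizer A ω with hA₀
  haveI hN : A₀.Normal := ⟨fun n hn g => by
    rw [hcomm g n, mul_assoc, mul_inv_cancel, mul_one]; exact hn⟩
  set w : W := f ω with hw
  -- the homomorphism c
  let c : A →* W := MonoidHom.mk' (fun a => ρ a w * w⁻¹) (by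
    intro a b
    have h1 : ρ (a * b) w = ρ a (ρ b w) := by rw [map_mul]; rfl
    have h2 : ρ b w = (ρ b w * w⁻¹) * w := by rw [inv_mul_cancel_right]
    have h3 : ρ a (ρ b w) = (ρ b w * w⁻¹) * ρ a w := by
      conv_lhs => rw [h2]
      rw [map_mul, hquad b a w]
    show ρ (a * b) w * w⁻¹ = (ρ a w * w⁻¹) * (ρ b w * w⁻¹)
    rw [h1, h3]
    rw [mul_assoc, mul_comm])
  have hc : ∀ a, c a = ρ a w * w⁻¹ := fun a => rfl
  have hker : A₀ ≤ c.ker := by
    intro a ha
    rw [MonoidHom.mem_ker, hc]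
    have h1 : a • ω = ω := ha
    have h2 : ρ a w = w := by rw [hw, ← hf, h1]
    rw [h2, mul_inv_cancel]
  let cbar : A ⧸ A₀ →* W := QuotientGroup.lift A₀ c hker
  have hcbar : ∀ q : A ⧸ A₀, f (q.out • ω) = cbar q * w := by
    intro q
    have h1 : cbar q = c q.out := by
      conv_lhs => rw [← QuotientGroup.out_eq' q]
      rfl
    rw [h1, hc, hf, inv_mul_cancel_right]
  -- the orbit as the image of the quotient
  have himg : (Finset.univ.image (fun a : A => a • ω)) =
      (Finset.univ.image (fun q : A ⧸ A₀ => q.out • ω)) := by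
    ext x
    simp only [Finset.mem_image, Finset.mem_univ, true_and]
    constructor
    · rintro ⟨a, rfl⟩
      refine ⟨(a : A ⧸ A₀), ?_⟩
      obtain ⟨h, hh⟩ := QuotientGroup.mk_out_eq_mul A₀ a
      rw [hh, mul_smul]
      have : (h : A) • ω = ω := h.2
      rw [this]
    · rintro ⟨q, rfl⟩
      exact ⟨q.out, rfl⟩
  have hinj : Function.Injective (fun q : A ⧸ A₀ => q.out • ω) := by
    intro q q' h
    simp only at h
    rw [← QuotientGroup.out_eq' q, ← QuotientGroup.out_eq' q', QuotientGroup.eq]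
    show (q.out⁻¹ * q'.out) • ω = ω
    rw [mul_smul, ← h, ← mul_smul, inv_mul_cancel, one_smul]
  rw [himg, Finset.prod_image (fun q _ q' _ h => hinj h)]
  rw [Finset.prod_congr rfl (fun q _ => hcbar q), Finset.prod_mul_distrib, Finset.prod_const,
    Finset.card_univ]
  have hcardP : Fintype.card (A ⧸ A₀) = A₀.index := by
    rw [Subgroup.index_eq_card, Nat.card_eq_fintype_card]
  rw [E2_aux_prod hexp cbar (by rw [hcardP]; exact h4), one_mul, hcardP]
  obtain ⟨k, hk⟩ := h4
  rw [hk, show 4 * k = 2 * (2 * k) by ring, pow_mul, hexp, one_pow]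

theorem E2 {A : Type*} [Group A] [Finite A] (hA2 : IsPGroup 2 A) (hcomm : ∀ a b : A, a * b = b * a)
    {Ω : Type*} [MulAction A Ω] [DecidableEq Ω]
    {W : Type*} [CommGroup W] (hexp : ∀ w : W, w ^ 2 = 1) (ρ : A →* MulAut W) (f : Ω → W)
    (hf : ∀ (a : A) (ω : Ω), f (a • ω) = ρ a (f ω))
    (hquad : ∀ (a b : A) (w : W), ρ b (ρ a w * w⁻¹) = ρ a w * w⁻¹)
    (hno2 : ∀ ω : Ω, (MulAction.stabilizer A ω).index ≠ 2)
    (T : Finset Ω) (hT : ∀ (a : A), ∀ ω ∈ T, a • ω ∈ T) (hnf : ∀ ω ∈ T, ∃ a : A, a • ω ≠ ω) :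
    ∏ ω ∈ T, f ω = 1 := by
  classical
  have := Fintype.ofFinite A
  induction' hn : T.card using Nat.strong_induction_on with n ih generalizing T
  rcases T.eq_empty_or_nonempty with rfl | ⟨ω, hω⟩
  · simp
  · set O : Finset Ω := Finset.univ.image (fun a : A => a • ω) with hO
    have hOT : O ⊆ T := by
      intro x hx
      rw [hO, Finset.mem_image] at hx
      obtain ⟨a, -, rfl⟩ := hx
      exact hT a ω hω
    have hωO : ω ∈ O := by
      rw [hO, Finset.mem_image]
      exact ⟨1, Finset.mem_univ _, one_smul _ _⟩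
    -- index divisible by 4
    have h4 : 4 ∣ (MulAction.stabilizer A ω).index := by
      obtain ⟨n, hn⟩ := (IsPGroup.iff_card (p := 2) (G := A)).mp hA2
      have hdvd : (MulAction.stabilizer A ω).index ∣ 2 ^ n := by
        rw [← hn]; exact Subgroup.index_dvd_card _
      obtain ⟨k, -, hk⟩ := (Nat.dvd_prime_pow Nat.prime_two).mp hdvd
      rcases k with _ | _ | k
      · exfalso
        rw [pow_zero, Subgroup.index_eq_one] at hk
        obtain ⟨a, ha⟩ := hnf ω hω
        apply ha
        have : a ∈ MulAction.stabilizer A ω := by rw [hk]; trivial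
        exact this
      · exfalso
        exact hno2 ω (by rw [hk]; norm_num)
      · rw [hk, pow_succ, pow_succ, mul_assoc]
        exact Dvd.intro_left _ rfl
    have hprodO := E2_aux_orbit hcomm hexp ρ f hf hquad ω h4
    rw [← Finset.prod_sdiff hOT, hprodO, mul_one]
    apply ih (T \ O).card ?_ (T \ O) ?_ ?_ rfl
    · rw [← hn]
      apply Finset.card_lt_card
      rw [Finset.ssubset_iff_of_subset Finset.sdiff_subset]
      exact ⟨ω, hω, fun h => (Finset.mem_sdiff.mp h).2 hωO⟩
    · intro a x hx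
      rw [Finset.mem_sdiff] at hx ⊢
      refine ⟨hT a x hx.1, ?_⟩
      intro hax
      apply hx.2
      rw [hO, Finset.mem_image] at hax ⊢
      obtain ⟨b, -, hb⟩ := hax
      refine ⟨a⁻¹ * b, Finset.mem_univ _, ?_⟩
      rw [mul_smul, hb, ← mul_smul, inv_mul_cancel, one_smul]
    · intro x hx
      exact hnf x (Finset.mem_sdiff.mp hx).1

end Cfsg.Agent.S2799P
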