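import Mathlib

/-! S2799 piece F5: no stabiliser of index 2 for the action of `A` on the cosets of `C_X(x)`. -/

set_option autoImplicit false

namespace Cfsg.Agent.S2799P

open Subgroup MulAction

theorem F5 {X : Type*} [Group X] [Finite X] (K : Subgroup X) [K.Normal]
    (hKab : ∀ x ∈ K, ∀ y ∈ K, x * y = y * x) (x : X) (hxK : x ∈ K)
    (A : Subgroup X)
    (hb : ∀ B : Subgroup X, B ≤ A → B.relIndex A = 2 → A ⊓ K ≤ B →
      ¬ B ≤ centralizer (K : Set X) → K ⊓ centralizer (B : Set X) ≤ centralizer (A : Set X))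
    (hidx : (A ⊓ centralizer (K : Set X)).relIndex A ≠ 2) :
    ∀ ω : X ⧸ centralizer ({x} : Set X), (MulAction.stabilizer ↥A ω).index ≠ 2 := by
  intro ω
  induction ω using QuotientGroup.induction_on with
  | H g =>
    intro h2
    have hyK : g * x * g⁻¹ ∈ K := (inferInstance : K.Normal).conj_mem x hxK g
    have hmem : ∀ a : ↥A,
        a ∈ MulAction.stabilizer ↥A ((g : X) : X ⧸ centralizer ({x} : Set X)) ↔
          (a : X) * (g * x * g⁻¹) = (g * x * g⁻¹) * (a : X) := by
      intro a
      rw [MulAction.mem_stabilizer_iff]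
      have h1 : a • ((g : X) : X ⧸ centralizer ({x} : Set X)) =
          (((a : X) * g : X) : X ⧸ centralizer ({x} : Set X)) := rfl
      rw [h1, QuotientGroup.eq, Subgroup.mem_centralizer_iff]
      constructor
      · intro h
        have h' := h x rfl
        have h3 : (g * x * g⁻¹) * (a : X)⁻¹ = (a : X)⁻¹ * (g * x * g⁻¹) := by
          calc (g * x * g⁻¹) * (a : X)⁻¹ = g * (x * (((a : X) * g)⁻¹ * g)) * g⁻¹ := by group
            _ = g * ((((a : X) * g)⁻¹ * g) * x) * g⁻¹ := by rw [h']
            _ = (a : X)⁻¹ * (g * x * g⁻¹) := by group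
        calc (a : X) * (g * x * g⁻¹) = (a : X) * ((g * x * g⁻¹) * (a : X)⁻¹) * (a : X) := by group
          _ = (a : X) * ((a : X)⁻¹ * (g * x * g⁻¹)) * (a : X) := by rw [h3]
          _ = (g * x * g⁻¹) * (a : X) := by group
      · intro h z hz
        have hzx : z = x := hz
        rw [hzx]
        have h3 : (g * x * g⁻¹) * (a : X)⁻¹ = (a : X)⁻¹ * (g * x * g⁻¹) := by
          calc (g * x * g⁻¹) * (a : X)⁻¹
              = (a : X)⁻¹ * ((a : X) * (g * x * g⁻¹)) * (a : X)⁻¹ := by group
            _ = (a : X)⁻¹ * ((g * x * g⁻¹) * (a : X)) * (a : X)⁻¹ := by rw [h]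
            _ = (a : X)⁻¹ * (g * x * g⁻¹) := by group
        calc x * (((a : X) * g)⁻¹ * g) = g⁻¹ * ((g * x * g⁻¹) * (a : X)⁻¹) * g := by group
          _ = g⁻¹ * ((a : X)⁻¹ * (g * x * g⁻¹)) * g := by rw [h3]
          _ = (((a : X) * g)⁻¹ * g) * x := by group
    have hBA : (MulAction.stabilizer ↥A ((g : X) : X ⧸ centralizer ({x} : Set X))).map A.subtype ≤ A :=
      Subgroup.map_subtype_le _
    have hBmem : ∀ b, b ∈ (MulAction.stabilizer ↥A
        ((g : X) : X ⧸ centralizer ({x} : Set X))).map A.subtype ↔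
          b ∈ A ∧ b * (g * x * g⁻¹) = (g * x * g⁻¹) * b := by
      intro b
      rw [Subgroup.mem_map]
      constructor
      · rintro ⟨a, ha, rfl⟩
        exact ⟨a.2, (hmem a).mp ha⟩
      · rintro ⟨hbA, hby⟩
        exact ⟨⟨b, hbA⟩, (hmem ⟨b, hbA⟩).mpr hby, rfl⟩
    have hrel : ((MulAction.stabilizer ↥A
        ((g : X) : X ⧸ centralizer ({x} : Set X))).map A.subtype).relIndex A = 2 := by
      show (((MulAction.stabilizer ↥A
        ((g : X) : X ⧸ centralizer ({x} : Set X))).map A.subtype).comap A.subtype).index = 2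
      rw [Subgroup.comap_map_eq_self_of_injective (Subgroup.subtype_injective A)]
      exact h2
    have hAK : A ⊓ K ≤ (MulAction.stabilizer ↥A
        ((g : X) : X ⧸ centralizer ({x} : Set X))).map A.subtype := by
      intro b hb'
      rw [hBmem]
      exact ⟨hb'.1, hKab b hb'.2 _ hyK⟩
    by_cases hBK : (MulAction.stabilizer ↥A
        ((g : X) : X ⧸ centralizer ({x} : Set X))).map A.subtype ≤ centralizer (K : Set X)
    · apply hidx
      have heq : A ⊓ centralizer (K : Set X) = (MulAction.stabilizer ↥A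
          ((g : X) : X ⧸ centralizer ({x} : Set X))).map A.subtype := by
        apply le_antisymm
        · intro b hb'
          rw [hBmem]
          refine ⟨hb'.1, ?_⟩
          have := (Subgroup.mem_centralizer_iff.mp hb'.2) _ hyK
          exact this.symm
        · exact le_inf hBA hBK
      rw [heq]
      exact hrel
    · have h3 := hb _ hBA hrel hAK hBK
      have hyc : g * x * g⁻¹ ∈ K ⊓ centralizer (((MulAction.stabilizer ↥A
          ((g : X) : X ⧸ centralizer ({x} : Set X))).map A.subtype : Subgroup X) : Set X) := by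
        refine Subgroup.mem_inf.mpr ⟨hyK, ?_⟩
        rw [Subgroup.mem_centralizer_iff]
        intro b hb'
        exact ((hBmem b).mp hb').2
      have hyA := h3 hyc
      rw [Subgroup.mem_centralizer_iff] at hyA
      have hStop : MulAction.stabilizer ↥A ((g : X) : X ⧸ centralizer ({x} : Set X)) = ⊤ := by
        rw [eq_top_iff]
        intro a _
        rw [hmem]
        exact hyA a a.2
      rw [hStop, Subgroup.index_top] at h2
      norm_num at h2

end Cfsg.Agent.S2799P
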