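import Mathlib
import Cfsg.Agent.Helper29.TV2Basic
import Cfsg.Agent.Helper24.TV2_DE
import Cfsg.Agent.Helper24.TV2_ZB
import Cfsg.Agent.Helper11.TV2_CB

/-! Board `tv2pieces`, row SYMM (core): the form `B` is symmetric on `D`, the conclusion of DUAL being a hypothesis. -/

set_option autoImplicit false

namespace Cfsg.Agent.TV2

variable {P : Type*} [Group P] [Finite P] {W : Type*} [AddCommGroup W] [Module (ZMod 2) W] [Finite W]
  [DistribMulAction P W]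

/-- two elements of `ZMod 2` vanishing simultaneously are equal. -/
theorem SYMM_aux_eq {x y : ZMod 2} (h : x = 0 ↔ y = 0) : x = y := by
  rcases zmod2_cases x with hx | hx <;> rcases zmod2_cases y with hy | hy
  · rw [hx, hy]
  · exact absurd (h.mp hx) (by rw [hy]; decide)
  · exact absurd (h.mpr hy) (by rw [hx]; decide)
  · rw [hx, hy]

/-- the case `e ∈ D1`. -/
theorem SYMM_aux_D1 (C : Ctx P W) {z : W} (hz : C.IsBase z) {ζ : W →+ ZMod 2}
    (hζ : ∀ d ∈ C.D, (d ∈ C.M ↔ ζ (cen W d) = 0)) {d e : P} (hd : d ∈ C.D) (he : e ∈ C.D1) :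
    B W d e = B W e d := by
  have key : ∀ d' ∈ C.D, fn W d' z = ζ (cen W d') := fun d' hd' =>
    SYMM_aux_eq ((CB_iff C hz hd').symm.trans (hζ d' hd'))
  have hdt : Tv W d := DE_tv C hd
  have het : Tv W e := DE_tv C he.1
  have h1 : fn W e z = 1 := ZB_fn C hz he
  have h2 : ζ (cen W e) = 1 := by rw [← key e he.1]; exact h1
  have h3 := key (e * d * e⁻¹) (DE_conj C hd e)
  rw [hdt.fn_conj_tv het, hdt.cen_conj_tv het, map_add, ZMod.map_smul, h1, h2, key d hd, one_mul,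
    smul_eq_mul, mul_one] at h3
  exact add_left_cancel h3

theorem SYMM_aux_core (C : Ctx P W)
    (hDUAL : ∃ ζ : W →+ ZMod 2, ∀ d ∈ C.D, (d ∈ C.M ↔ ζ (cen W d) = 0))
    {d e : P} (hd : d ∈ C.D) (he : e ∈ C.D) : B W d e = B W e d := by
  obtain ⟨z, hz⟩ := ZB_exists C
  obtain ⟨ζ, hζ⟩ := hDUAL
  obtain ⟨x, hx⟩ := DE_exists_D1 C
  obtain ⟨g, rfl⟩ := DE_exists_conj C hx.1 he
  have hd' : g⁻¹ * d * (g⁻¹)⁻¹ ∈ C.D := DE_conj C hd g⁻¹
  have hdt' : Tv W (g⁻¹ * d * (g⁻¹)⁻¹) := DE_tv C hd'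
  have hxt : Tv W x := DE_tv C hx.1
  have hdg : d = g * (g⁻¹ * d * (g⁻¹)⁻¹) * g⁻¹ := by group
  have h1 : B W d (g * x * g⁻¹) = B W (g⁻¹ * d * (g⁻¹)⁻¹) x := by
    conv_lhs => rw [hdg]
    exact Tv.B_conj hdt' hxt g
  have h2 : B W (g * x * g⁻¹) d = B W x (g⁻¹ * d * (g⁻¹)⁻¹) := by
    conv_lhs => rw [hdg]
    exact Tv.B_conj hxt hdt' g
  rw [h1, h2]
  exact SYMM_aux_D1 C hz hζ hd' hx

end Cfsg.Agent.TV2
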