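import Mathlib
import Cfsg.Agent.Helper29.TV2Basic
import Cfsg.Agent.Helper8.TV2_SYMMcore
import Cfsg.Agent.Helper19.TV2_DUAL

/-! Board `tv2pieces`, row SYMM: the form `B` is symmetric on `D`. -/

set_option autoImplicit false

namespace Cfsg.Agent.TV2

variable {P : Type*} [Group P] [Finite P] {W : Type*} [AddCommGroup W] [Module (ZMod 2) W] [Finite W]
  [DistribMulAction P W]

theorem SYMM (C : Ctx P W) {d e : P} (hd : d ∈ C.D) (he : e ∈ C.D) : B W d e = B W e d :=
  SYMM_aux_core C (DUAL C) hd he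

end Cfsg.Agent.TV2
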