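import Mathlib
import Cfsg.Agent.Helper27.S3001QDefs
import Cfsg.Agent.Helper27.S3001G1
import Cfsg.Agent.Helper13.S3001G2

/-! Board `s3001qpieces`, row G2: `hat` and the lattice operations.

helper13's module `Cfsg.Agent.Helper13.S3001G2` and this one landed within seconds of each other with the same theorem names
(`hat_sup`, `hat_iSup`, `hat_commutator`, `hat_map_conj`, `G2_aux_subgroupOf_iSup`, `G2_aux_subgroupOf_commutator`).  To keep every
import combination consistent, this module now RE-EXPORTS helper13's (identical statements) and keeps only its two extra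
auxiliary lemmas. -/

set_option autoImplicit false

namespace Cfsg.Agent.S3001P

open Cfsg.Agent.S2789P Cfsg.Agent.S2999P Cfsg.Agent.S3000P

universe u

variable {G : Type u} [Group G]

theorem G2_aux_subgroupOf_sup {N X Y : Subgroup G} (hX : X ≤ N) (hY : Y ≤ N) :
    (X ⊔ Y).subgroupOf N = X.subgroupOf N ⊔ Y.subgroupOf N := by
  apply Subgroup.map_injective N.subtype_injective
  rw [Subgroup.map_subgroupOf_eq_of_le (sup_le hX hY), Subgroup.map_sup,
    Subgroup.map_subgroupOf_eq_of_le hX, Subgroup.map_subgroupOf_eq_of_le hY]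

theorem G2_aux_commutator_le {N X Y : Subgroup G} (hX : X ≤ N) (hY : Y ≤ N) : ⁅X, Y⁆ ≤ N := by
  rw [Subgroup.commutator_le]
  intro a ha b hb
  exact N.mul_mem (N.mul_mem (N.mul_mem (hX ha) (hY hb)) (N.inv_mem (hX ha))) (N.inv_mem (hY hb))

end Cfsg.Agent.S3001P
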