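import Mathlib
import Cfsg.Agent.Helper27.S3001QDefs
import Cfsg.Agent.Helper27.S3001G1

/-! Board `s3001qpieces`, row G9b: pull-back of `ActsAsOddPermModuleOnSection` from `N_G(R)/R` to `G`. -/

set_option autoImplicit false

namespace Cfsg.Agent.S3001P

open Cfsg.Agent.S2789P Cfsg.Agent.S2999P Cfsg.Agent.S3000P

universe u

variable {G : Type u} [Group G]

/-- the projection `pre R U → U`, `u ↦ qpi u`. -/
def G9b_aux_preHom {R : Subgroup G} (U : Subgroup (QG R)) : ↥(pre R U) →* ↥U where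
  toFun u := ⟨qpi R ⟨(u : G), pre_le_NR U u.2⟩, by
    obtain ⟨h, hu⟩ := mem_pre.mp u.2
    exact hu⟩
  map_one' := by
    apply Subtype.ext
    change qpi R ⟨((1 : ↥(pre R U)) : G), _⟩ = 1
    have : (⟨((1 : ↥(pre R U)) : G), pre_le_NR U (1 : ↥(pre R U)).2⟩ : ↥(NR R)) = 1 := Subtype.ext (by simp)
    rw [this, map_one]
  map_mul' a b := by
    apply Subtype.ext
    change qpi R ⟨((a * b : ↥(pre R U)) : G), _⟩ = qpi R ⟨(a : G), _⟩ * qpi R ⟨(b : G), _⟩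
    rw [← map_mul]
    rfl

theorem G9b_aux_coe_preHom {R : Subgroup G} (U : Subgroup (QG R)) (u : ↥(pre R U)) :
    ((G9b_aux_preHom U u : ↥U) : QG R) = qpi R ⟨(u : G), pre_le_NR U u.2⟩ := rfl

theorem G9b_aux_preHom_surj {R : Subgroup G} (U : Subgroup (QG R)) : Function.Surjective (G9b_aux_preHom U) := by
  intro y
  obtain ⟨a, ha⟩ := qpi_surj R (y : QG R)
  have hmem : (a : G) ∈ pre R U := by
    rw [mem_pre]
    exact ⟨a.2, by rw [show (⟨(a : G), a.2⟩ : ↥(NR R)) = a from rfl, ha]; exact y.2⟩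
  refine ⟨⟨(a : G), hmem⟩, ?_⟩
  apply Subtype.ext
  rw [G9b_aux_coe_preHom]
  exact ha

/-- `hatHom` is surjective (also row G5; proved here to avoid waiting for it). -/
theorem G9b_aux_hatHom_surj {R X : Subgroup G} (hX : X ≤ NR R) : Function.Surjective (hatHom hX) := by
  intro y
  obtain ⟨x, hx, hxy⟩ := mem_hat.mp y.2
  refine ⟨⟨(x : G), hx⟩, ?_⟩
  apply Subtype.ext
  rw [coe_hatHom]
  exact hxy

/-- conjugation by `e ∈ E` maps `pre R U` into itself when `hat R E` normalises `U`. -/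
theorem G9b_aux_conj_mem {R E : Subgroup G} (hE : E ≤ NR R) {U : Subgroup (QG R)}
    (hN : hat R E ≤ Subgroup.normalizer (U : Set (QG R))) {e x : G} (he : e ∈ E) (hx : x ∈ pre R U) :
    e * x * e⁻¹ ∈ pre R U := by
  obtain ⟨hxN, hxU⟩ := mem_pre.mp hx
  have heN : e ∈ NR R := hE he
  have hmem : e * x * e⁻¹ ∈ NR R := (NR R).mul_mem ((NR R).mul_mem heN hxN) ((NR R).inv_mem heN)
  rw [mem_pre]
  refine ⟨hmem, ?_⟩
  have h1 : (⟨e * x * e⁻¹, hmem⟩ : ↥(NR R)) = ⟨e, heN⟩ * ⟨x, hxN⟩ * ⟨e, heN⟩⁻¹ := rfl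
  rw [h1, map_mul, map_mul, map_inv]
  have h2 : qpi R ⟨e, heN⟩ ∈ Subgroup.normalizer (U : Set (QG R)) := hN (qpi_mem_hat ⟨e, heN⟩ he)
  exact (Subgroup.mem_normalizer_iff.mp h2 _).mp hxU

theorem G9b_aux_le_normalizer {R E : Subgroup G} (hE : E ≤ NR R) {U : Subgroup (QG R)}
    (hN : hat R E ≤ Subgroup.normalizer (U : Set (QG R))) :
    E ≤ Subgroup.normalizer ((pre R U : Subgroup G) : Set G) := by
  intro e he
  rw [Subgroup.mem_normalizer_iff]
  intro x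
  constructor
  · exact G9b_aux_conj_mem hE hN he
  · intro hx
    have := G9b_aux_conj_mem hE hN (E.inv_mem he) hx
    have e1 : e⁻¹ * (e * x * e⁻¹) * e⁻¹⁻¹ = x := by group
    rwa [e1] at this

theorem perm_pull {R : Subgroup G} {n : ℕ} {Rs : Subgroup (Equiv.Perm (Fin n))}
    {E : Subgroup G} (hE : E ≤ NR R) {U U0 : Subgroup (QG R)}
    (h : Cfsg.ActsAsOddPermModuleOnSection n Rs (hat R E) U U0) :
    Cfsg.ActsAsOddPermModuleOnSection n Rs E (pre R U) (pre R U0) := by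
  obtain ⟨hN, hU0, ρ, ψ, hρ, hsum, hsurj, hker, heq⟩ := h
  refine ⟨G9b_aux_le_normalizer hE hN, pre_mono hU0, ρ.comp (hatHom hE), ψ.comp (G9b_aux_preHom U), ?_, ?_, ?_, ?_, ?_⟩
  · rw [MonoidHom.range_comp, MonoidHom.range_eq_top.mpr (G9b_aux_hatHom_surj hE), ← MonoidHom.range_eq_map]
    exact hρ
  · intro u
    exact hsum (G9b_aux_preHom U u)
  · intro v hv
    obtain ⟨y, hy⟩ := hsurj v hv
    obtain ⟨u, rfl⟩ := G9b_aux_preHom_surj U y
    exact ⟨u, hy⟩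
  · intro u
    rw [MonoidHom.comp_apply, hker, G9b_aux_coe_preHom, mem_pre]
    constructor
    · intro hu
      exact ⟨pre_le_NR U u.2, hu⟩
    · rintro ⟨_, hu⟩
      exact hu
  · intro e u
    obtain ⟨w', hw', hw'eq⟩ := heq (hatHom hE e) (G9b_aux_preHom U u)
    have hmem : (e : G) * (u : G) * (e : G)⁻¹ ∈ pre R U := G9b_aux_conj_mem hE hN e.2 u.2
    refine ⟨⟨(e : G) * (u : G) * (e : G)⁻¹, hmem⟩, rfl, ?_⟩
    have hw : G9b_aux_preHom U ⟨(e : G) * (u : G) * (e : G)⁻¹, hmem⟩ = w' := by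
      apply Subtype.ext
      rw [hw', G9b_aux_coe_preHom, coe_hatHom, G9b_aux_coe_preHom]
      have heN : (e : G) ∈ NR R := hE e.2
      have huN : (u : G) ∈ NR R := pre_le_NR U u.2
      have h1 : (⟨(e : G) * (u : G) * (e : G)⁻¹, pre_le_NR U hmem⟩ : ↥(NR R))
          = ⟨(e : G), heN⟩ * ⟨(u : G), huN⟩ * ⟨(e : G), heN⟩⁻¹ := rfl
      rw [h1, map_mul, map_mul, map_inv]
    intro i
    rw [MonoidHom.comp_apply, MonoidHom.comp_apply, MonoidHom.comp_apply, hw]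
    exact hw'eq i

end Cfsg.Agent.S3001P
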