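import Mathlib
import Cfsg.Agent.Helper27.S3001QDefs

/-! Board `s3001qpieces`, row S4: the hypothesis `hCT` of S3000 is automatic when `C_V(P) = 1 ≠ V`. -/

set_option autoImplicit false

namespace Cfsg.Agent.S3001P

open Cfsg.Agent.S2789P Cfsg.Agent.S2999P Cfsg.Agent.S3000P

/-- a `p`-group `Q` normalising a nontrivial `p`-group `W` has nontrivial fixed points on `W`. -/
theorem S4_aux_exists_fix {H : Type*} [Group H] [Finite H] {p : ℕ} [Fact p.Prime] {Q W : Subgroup H}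
    (hQ : IsPGroup p ↥Q) (hW : IsPGroup p ↥W) (hQW : Q ≤ Subgroup.normalizer (W : Set H)) (hW1 : W ≠ ⊥) :
    ∃ y ∈ W ⊓ Subgroup.centralizer (Q : Set H), y ≠ 1 := by
  let _ : MulAction ↥Q ↥W := MulAction.compHom ↥W (Subgroup.inclusion hQW)
  have h1 : (1 : ↥W) ∈ MulAction.fixedPoints ↥Q ↥W := by
    intro g
    show (Subgroup.inclusion hQW g) • (1 : ↥W) = 1
    exact smul_one _
  have dvd : p ∣ Nat.card ↥W := by
    have : Nontrivial ↥W := (Subgroup.nontrivial_iff_ne_bot W).2 hW1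
    obtain ⟨n, hn0, hn⟩ := hW.nontrivial_iff_card.mp inferInstance
    exact hn.symm ▸ dvd_pow_self _ (ne_of_gt hn0)
  obtain ⟨b, hb, hb1⟩ := hQ.exists_fixed_point_of_prime_dvd_card_of_fixed_point ↥W dvd h1
  refine ⟨b, ⟨b.2, ?_⟩, ?_⟩
  · show (b : H) ∈ Subgroup.centralizer (Q : Set H)
    rw [Subgroup.mem_centralizer_iff]
    intro q hq
    have h2 := hb ⟨q, hq⟩
    have h3 : q * (b : H) * q⁻¹ = b := congrArg Subtype.val h2
    calc q * (b : H) = q * b * q⁻¹ * q := by group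
      _ = b * q := by rw [h3]
  · intro h
    exact hb1 (Subtype.ext h.symm)

theorem HCT_of_fix {G : Type*} [Group G] [Finite G] {p : ℕ} [Fact p.Prime] {V P : Subgroup G}
    (hV : Cfsg.IsElementaryAbelian p V) (hPV : P ≤ Subgroup.normalizer (V : Set G)) (hmin : Cfsg.IsPMinimal p ↥P)
    (T : Sylow p ↥P) (M : Subgroup ↥P) (hM : IsCoatom M) (hTM : (T : Subgroup ↥P) ≤ M)
    (hfix : fixV V P = ⊥) (hne : V ≠ ⊥) :
    P ⊓ Subgroup.centralizer ((fixV V (TT T) : Subgroup G) : Set G) ≤ MM M := by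
  -- `V` and `TT T` are `p`-groups
  have hVp : IsPGroup p ↥V := by
    intro g
    refine ⟨1, ?_⟩
    apply Subtype.ext
    have := hV.2 (g : G) g.2
    simpa using this
  have hTp : IsPGroup p ↥(TT T) := T.isPGroup'.map P.subtype
  have hTP : TT T ≤ P := by
    rintro _ ⟨x, _, rfl⟩
    exact x.2
  have hTV : TT T ≤ Subgroup.normalizer (V : Set G) := hTP.trans hPV
  set C : Subgroup G := P ⊓ Subgroup.centralizer ((fixV V (TT T) : Subgroup G) : Set G) with hC
  set X : Subgroup ↥P := C.subgroupOf P with hX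
  -- `T ≤ X`
  have hTX : (T : Subgroup ↥P) ≤ X := by
    intro t ht
    rw [hX, Subgroup.mem_subgroupOf, hC, Subgroup.mem_inf]
    refine ⟨t.2, ?_⟩
    rw [Subgroup.mem_centralizer_iff]
    intro v hv
    have hv2 : v ∈ Subgroup.centralizer ((TT T : Subgroup G) : Set G) := (Subgroup.mem_inf.mp hv).2
    have htT : (t : G) ∈ TT T := ⟨t, ht, rfl⟩
    exact ((Subgroup.mem_centralizer_iff.mp hv2) (t : G) htT).symm
  -- `X ≠ ⊤`
  have hXtop : X ≠ ⊤ := by
    intro htop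
    obtain ⟨y, hy, hy1⟩ := S4_aux_exists_fix hTp hVp hTV hne
    have hyfix : y ∈ fixV V P := by
      refine Subgroup.mem_inf.mpr ⟨(Subgroup.mem_inf.mp hy).1, ?_⟩
      rw [Subgroup.mem_centralizer_iff]
      intro x hx
      have hxX : (⟨x, hx⟩ : ↥P) ∈ X := by rw [htop]; exact Subgroup.mem_top _
      rw [hX, Subgroup.mem_subgroupOf, hC, Subgroup.mem_inf] at hxX
      have := (Subgroup.mem_centralizer_iff.mp hxX.2) y hy
      exact this.symm
    rw [hfix, Subgroup.mem_bot] at hyfix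
    exact hy1 hyfix
  -- `X` lies in a coatom, which is `M`
  obtain ⟨M', hM', hXM'⟩ := (eq_top_or_exists_le_coatom X).resolve_left hXtop
  obtain ⟨_, M0, _, huniq⟩ := hmin T
  have e1 : M' = M0 := huniq M' ⟨hM', hTX.trans hXM'⟩
  have e2 : M = M0 := huniq M ⟨hM, hTM⟩
  have hXM : X ≤ M := by rw [e2, ← e1]; exact hXM'
  intro c hc
  have hcP : c ∈ P := (Subgroup.mem_inf.mp hc).1
  have : (⟨c, hcP⟩ : ↥P) ∈ X := by
    rw [hX, Subgroup.mem_subgroupOf]
    exact hc
  exact ⟨⟨c, hcP⟩, hXM this, rfl⟩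

end Cfsg.Agent.S3001P
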