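import Mathlib
import Cfsg.Agent.Helper16.S3174Defs
import Cfsg.Agent.Helper23.S3174MSUB
import Cfsg.Agent.Helper10.S3174LEMAPh

set_option autoImplicit false

/-!
# S3174 piece CCARD: `|fixMod W Z_3 M| ≤ 32` and `|fixMod W Z_3 ⟨t⟩| ≤ 128`
-/

namespace Cfsg.Agent.S3174P

open scoped commutatorElement

variable {T : Type*} [Group T] [Finite T]

/-- a subgroup between `Z` and `Y` of a finite group: `|Y| = |Z : Y| * |Z|`. -/
theorem CCARD_aux_card {Z Y : Subgroup T} (h : Z ≤ Y) :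
    Nat.card ↥Y = Z.relIndex Y * Nat.card ↥Z := by
  have h1 := Subgroup.relIndex_mul_index h
  have h2 := Subgroup.card_mul_index Z
  have h3 := Subgroup.card_mul_index Y
  have hY : Y.index ≠ 0 := Subgroup.index_ne_zero_of_finite
  have : Nat.card ↥Y * Y.index = Z.relIndex Y * Nat.card ↥Z * Y.index := by
    calc Nat.card ↥Y * Y.index = Nat.card T := h3
      _ = Nat.card ↥Z * Z.index := h2.symm
      _ = Nat.card ↥Z * (Z.relIndex Y * Y.index) := by rw [h1]
      _ = Z.relIndex Y * Nat.card ↥Z * Y.index := by ring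
  exact Nat.eq_of_mul_eq_mul_right (Nat.pos_of_ne_zero hY) this

theorem CCARD_aux_relIndex_ne_zero (H K : Subgroup T) : H.relIndex K ≠ 0 := by
  unfold Subgroup.relIndex
  exact Subgroup.index_ne_zero_of_finite

/-- `Z_3 ≤ fixMod W Z_3 G` for every `G`. -/
theorem CCARD_aux_Z_le {W : Subgroup T} (c : Cfg T W) (G : Subgroup T) :
    Zi T 3 ≤ fixMod W (Zi T 3) G := by
  intro z hz
  refine ⟨c.ZW hz, fun g _ => ?_⟩
  have hn : (Zi T 3).Normal := inferInstance
  rw [commutatorElement_def]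
  exact (Zi T 3).mul_mem (hn.conj_mem z hz g) ((Zi T 3).inv_mem hz)

omit [Finite T] in
/-- the fixed points of the whole group on `W / Z_3` lie in `Z_4`. -/
theorem CCARD_aux_top_le {W : Subgroup T} :
    fixMod W (Zi T 3) ⊤ ≤ Zi T 4 := by
  intro y hy
  show y ∈ Subgroup.upperCentralSeries T (3 + 1)
  rw [Subgroup.mem_upperCentralSeries_succ_iff]
  intro g
  have h := hy.2 g (Subgroup.mem_top g)
  have : ⁅y, g⁆ = (⁅g, y⁆)⁻¹ := by rw [commutatorElement_inv]
  rw [this]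
  exact (Subgroup.upperCentralSeries T 3).inv_mem h

theorem CCARD_aux_relIndex_top {W : Subgroup T} (c : Cfg T W) :
    (Zi T 3).relIndex (fixMod W (Zi T 3) ⊤) ≤ 2 := by
  have hle : fixMod W (Zi T 3) ⊤ ≤ Zi T 4 := CCARD_aux_top_le
  have h1 : (Zi T 3).relIndex (fixMod W (Zi T 3) ⊤) ≤ (Zi T 3).relIndex (Zi T 4) :=
    Subgroup.relIndex_le_of_le_right hle (CCARD_aux_relIndex_ne_zero _ _)
  have h34 : Zi T 3 ≤ Zi T 4 := Subgroup.upperCentralSeries_mono T (by norm_num)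
  have h2 := CCARD_aux_card h34
  rw [c.c4, c.c3] at h2
  have : (Zi T 3).relIndex (Zi T 4) = 2 := by omega
  omega

/-- CMCARD -/
theorem cM_card {W : Subgroup T} (c : Cfg T W) : Nat.card ↥(fixMod W (Zi T 3) (Mc T)) ≤ 32 := by
  have hnW : W.Normal := c.nW
  have hnZ : (Zi T 3).Normal := inferInstance
  have hnM : (Mc T).Normal := inferInstance
  obtain ⟨-, hMidx, -, -, -, -⟩ := msub c
  have hZY := CCARD_aux_Z_le c (Mc T)
  have key := lemAp c.hT (Zi T 3) (fixMod W (Zi T 3) (Mc T)) (fixMod W (Zi T 3) ⊤) ⊤ (Mc T) hZY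
    (fun g _ z hz => hnZ.conj_mem z hz g)
    (fun g _ y hy => by
      refine ⟨hnW.conj_mem y hy.1 g, fun m hm => ?_⟩
      have hm' : g⁻¹ * m * g ∈ Mc T := by
        have := hnM.conj_mem m hm g⁻¹
        simpa using this
      have h1 := hy.2 _ hm'
      have h2 : ⁅m, g * y * g⁻¹⁆ = g * ⁅g⁻¹ * m * g, y⁆ * g⁻¹ := by
        simp only [commutatorElement_def]; group
      rw [h2]
      exact hnZ.conj_mem _ h1 g)
    (fun y hy => c.sq y hy.1)
    (fun y hy y' hy' => c.cm y hy.1 y' hy'.1)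
    le_top
    (fun g _ n hn => hnM.conj_mem n hn g)
    (fun n hn y hy => hy.2 n hn)
    (fun y => by
      constructor
      · intro hy
        exact ⟨⟨hy.1, fun g _ => hy.2 g (Subgroup.mem_top g)⟩, hy.2⟩
      · intro hy
        exact ⟨hy.1.1, hy.2⟩)
  rw [Subgroup.relIndex_top_right, hMidx] at key
  have h2 := CCARD_aux_relIndex_top c
  have h3 : (Zi T 3).relIndex (fixMod W (Zi T 3) (Mc T)) ≤ 4 := by
    calc (Zi T 3).relIndex (fixMod W (Zi T 3) (Mc T))
        ≤ (Zi T 3).relIndex (fixMod W (Zi T 3) ⊤) ^ 2 := key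
      _ ≤ 2 ^ 2 := Nat.pow_le_pow_left h2 2
      _ = 4 := by norm_num
  rw [CCARD_aux_card hZY, c.c3]
  omega

/-- CTCARD -/
theorem ct_card {W : Subgroup T} (c : Cfg T W) (t : T) (ht : t ∈ Mc T) (htW : t ∉ W) :
    Nat.card ↥(fixMod W (Zi T 3) (Subgroup.zpowers t)) ≤ 128 := by
  have hnW : W.Normal := c.nW
  have hnZ : (Zi T 3).Normal := inferInstance
  obtain ⟨hWM, hMidx, -, hcomm, -, -⟩ := msub c
  set N : Subgroup T := Subgroup.zpowers t ⊔ W with hN
  have hWN : W ≤ N := le_sup_right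
  have htN : t ∈ N := (le_sup_left : Subgroup.zpowers t ≤ N) (Subgroup.mem_zpowers t)
  have hNM : N ≤ Mc T := sup_le (by rw [Subgroup.zpowers_le]; exact ht) hWM
  have hZY := CCARD_aux_Z_le c (Subgroup.zpowers t)
  have key := lemAp c.hT (Zi T 3) (fixMod W (Zi T 3) (Subgroup.zpowers t))
    (fixMod W (Zi T 3) (Mc T)) (Mc T) N hZY
    (fun g _ z hz => hnZ.conj_mem z hz g)
    (fun g hg y hy => by
      rw [mem_fixMod_zpowers] at hy ⊢
      refine ⟨hnW.conj_mem y hy.1 g, ?_⟩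
      -- g⁻¹ t g = t * w with w ∈ W
      have hw : ⁅t⁻¹, g⁻¹⁆ ∈ W :=
        hcomm _ ((Mc T).inv_mem ht) _ ((Mc T).inv_mem hg)
      have h1 : ⁅t, g * y * g⁻¹⁆ = g * (t * ⁅⁅t⁻¹, g⁻¹⁆, y⁆ * t⁻¹ * ⁅t, y⁆) * g⁻¹ := by
        simp only [commutatorElement_def]; group
      rw [h1]
      refine hnZ.conj_mem _ ?_ g
      exact (Zi T 3).mul_mem (hnZ.conj_mem _ (c.cm _ hw y hy.1) t) hy.2)
    (fun y hy => c.sq y hy.1)
    (fun y hy y' hy' => c.cm y hy.1 y' hy'.1)
    hNM
    (fun g hg n hn => by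
      have h1 : g * n * g⁻¹ = ⁅g, n⁆ * n := by
        simp only [commutatorElement_def]; group
      rw [h1]
      exact N.mul_mem (hWN (hcomm g hg n (hNM hn))) hn)
    (fun n hn y hy => by
      have hle : N ≤ commIn (Zi T 3) y := by
        refine sup_le ?_ ?_
        · rw [Subgroup.zpowers_le]
          exact ((mem_fixMod_zpowers W (Zi T 3) t y).mp hy).2
        · intro w hw
          exact c.cm w hw y hy.1
      exact hle hn)
    (fun y => by
      constructor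
      · intro hy
        exact ⟨⟨hy.1, fun g hg => hy.2 g ((Subgroup.zpowers_le.mpr ht) hg)⟩, hy.2⟩
      · intro hy
        exact ⟨hy.1.1, hy.2⟩)
  -- the index of N in M is at most 2
  have hWMrel : W.relIndex (Mc T) = 4 := by
    have h := Subgroup.relIndex_mul_index hWM
    rw [hMidx, c.idx] at h
    omega
  have hmul := Subgroup.relIndex_mul_relIndex W N (Mc T) hWN hNM
  rw [hWMrel] at hmul
  have hWNne : W.relIndex N ≠ 1 := by
    intro h
    rw [Subgroup.relIndex_eq_one] at h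
    exact htW (h htN)
  have hWN0 : W.relIndex N ≠ 0 := CCARD_aux_relIndex_ne_zero _ _
  have hNrel : N.relIndex (Mc T) ≤ 2 := by
    have h2 : 2 ≤ W.relIndex N := by omega
    by_contra hcon0
    have hcon : 3 ≤ N.relIndex (Mc T) := by omega
    have : 2 * 3 ≤ W.relIndex N * N.relIndex (Mc T) := Nat.mul_le_mul h2 hcon
    omega
  have hN0 : N.relIndex (Mc T) ≠ 0 := CCARD_aux_relIndex_ne_zero _ _
  -- |C : Z| ≤ 4
  have hZC := CCARD_aux_Z_le c (Mc T)
  have hC := cM_card c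
  rw [CCARD_aux_card hZC, c.c3] at hC
  have hC4 : (Zi T 3).relIndex (fixMod W (Zi T 3) (Mc T)) ≤ 4 := by omega
  have hC0 : (Zi T 3).relIndex (fixMod W (Zi T 3) (Mc T)) ≠ 0 := CCARD_aux_relIndex_ne_zero _ _
  have h3 : (Zi T 3).relIndex (fixMod W (Zi T 3) (Subgroup.zpowers t)) ≤ 16 := by
    calc (Zi T 3).relIndex (fixMod W (Zi T 3) (Subgroup.zpowers t))
        ≤ (Zi T 3).relIndex (fixMod W (Zi T 3) (Mc T)) ^ N.relIndex (Mc T) := key
      _ ≤ (Zi T 3).relIndex (fixMod W (Zi T 3) (Mc T)) ^ 2 :=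
          Nat.pow_le_pow_right (Nat.pos_of_ne_zero hC0) hNrel
      _ ≤ 4 ^ 2 := Nat.pow_le_pow_left hC4 2
      _ = 16 := by norm_num
  rw [CCARD_aux_card hZY, c.c3]
  omega

end Cfsg.Agent.S3174P
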