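import Mathlib

set_option autoImplicit false

/-!
# S3816 piece TR: `Z(H) ∩ H' ∩ P ≤ P'` for a Sylow subgroup `P` (transfer)
-/

namespace Cfsg.Agent.S3816P

/-- TR (general transfer lemma) -/
theorem center_inf_commutator_inf_sylow_le {H : Type*} [Group H] [Finite H] (r : ℕ) [Fact r.Prime]
    (P : Sylow r H) :
    Subgroup.center H ⊓ commutator H ⊓ (P : Subgroup H) ≤
      (commutator ↥(P : Subgroup H)).map (P : Subgroup H).subtype := by
  rintro z ⟨⟨hzZ, hzC⟩, hzP⟩
  have hr : r.Prime := Fact.out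
  let ϕ : ↥(P : Subgroup H) →* Abelianization ↥(P : Subgroup H) := Abelianization.of
  have key : ∀ (k : ℕ) (g₀ : H), g₀⁻¹ * z ^ k * g₀ ∈ (P : Subgroup H) →
      g₀⁻¹ * z ^ k * g₀ = z ^ k := by
    intro k g₀ _
    have hzk : z ^ k ∈ Subgroup.center H := pow_mem hzZ k
    have hc : g₀ * z ^ k = z ^ k * g₀ := Subgroup.mem_center_iff.mp hzk g₀
    rw [mul_assoc, ← hc, inv_mul_cancel_left]
  have h1 := MonoidHom.transfer_eq_pow ϕ z key
  have h2 : MonoidHom.transfer ϕ z = 1 := by
    have hle : commutator H ≤ (MonoidHom.transfer ϕ).ker := Abelianization.commutator_subset_ker _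
    exact hle hzC
  have hmem : z ^ (P : Subgroup H).index ∈ (P : Subgroup H) := MonoidHom.transfer_eq_pow_aux z key
  have h3 : (⟨z ^ (P : Subgroup H).index, hmem⟩ : ↥(P : Subgroup H)) ∈
      commutator ↥(P : Subgroup H) := by
    rw [← Abelianization.ker_of, MonoidHom.mem_ker]
    rw [h2] at h1
    exact h1.symm
  -- the order of `z` is a power of `r`, prime to the index
  have hcop : ((P : Subgroup H).index).Coprime (orderOf z) := by
    obtain ⟨k, hk⟩ := (P.2 : IsPGroup r ↥(P : Subgroup H)) ⟨z, hzP⟩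
    have hk' : z ^ r ^ k = 1 := by
      have := congrArg Subtype.val hk
      simpa using this
    have hdvd : orderOf z ∣ r ^ k := orderOf_dvd_of_pow_eq_one hk'
    have hnd : ¬ r ∣ (P : Subgroup H).index := P.not_dvd_index
    have hc1 : Nat.Coprime (P : Subgroup H).index r :=
      (Nat.Coprime.symm ((Nat.Prime.coprime_iff_not_dvd hr).2 hnd))
    exact Nat.Coprime.coprime_dvd_right hdvd (Nat.Coprime.pow_right k hc1)
  obtain ⟨m, hm⟩ := exists_pow_eq_self_of_coprime hcop
  have h4 : (⟨z ^ (P : Subgroup H).index, hmem⟩ : ↥(P : Subgroup H)) ^ m ∈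
      commutator ↥(P : Subgroup H) := pow_mem h3 m
  refine ⟨_, h4, ?_⟩
  simpa using hm

end Cfsg.Agent.S3816P
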