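import Mathlib
import Cfsg.Agent.Helper24.RealChar
import Cfsg.Agent.Helper24.ColumnOrth
import Cfsg.Agent.Helper24.Abelian
import Cfsg.Agent.Helper5.LinChar

/-!
Brauer–Suzuki–Wall, piece DUAL: characters of an abelian group with a unique involution.
-/

set_option autoImplicit false

namespace Cfsg.Agent.Helper21.Bsw.Dual

open Cfsg Cfsg.Agent.Helper24

universe u

variable {A : Type u} [Group A] [Finite A]

/-- DUAL-1 : irreducible characters of an abelian group are multiplicative -/
theorem irr_mul (hA : ∀ a b : A, a * b = b * a) (lam : IrrCharacter A) :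
    (lam : A → ℂ) 1 = 1 ∧ ∀ a b : A, (lam : A → ℂ) (a * b) = (lam : A → ℂ) a * (lam : A → ℂ) b := by
  have h1 : (lam : A → ℂ) 1 = 1 := comm_iff_forall_irr_one.mp hA lam
  exact ⟨h1, Cfsg.Agent.Helper5.linChar_mul (IsIrrCharacter.isCharacter lam.2) h1⟩

theorem irrStar_trivIrr_helper8 : irrStar (trivIrr A) = trivIrr A := by
  apply Subtype.ext
  funext g
  simp [irrStar_apply, trivIrr_apply]

/-- DUAL-2 : an abelian group with a unique involution has a unique non-principal real
irreducible character -/
theorem exists_unique_real (hA : ∀ a b : A, a * b = b * a) (z : A) (hz : orderOf z = 2)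
    (huniq : ∀ a : A, a * a = 1 → a = 1 ∨ a = z) :
    ∃ l0 : IrrCharacter A, l0 ≠ trivIrr A ∧ irrStar l0 = l0 ∧
      ∀ l : IrrCharacter A, irrStar l = l → l = trivIrr A ∨ l = l0 := by
  classical
  let _ : Fintype A := Fintype.ofFinite A
  let _ : Fintype (IrrCharacter A) := Fintype.ofFinite _
  have hAC : (Nat.card A : ℂ) ≠ 0 := by exact_mod_cast (Nat.card_pos (α := A)).ne'
  have hz1 : z ≠ 1 := by
    rintro rfl
    rw [orderOf_one] at hz
    omega
  have hzz : z * z = 1 := by
    rw [← pow_two, ← hz]; exact pow_orderOf_eq_one z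
  -- the number of square roots of 1
  have hsq : (Finset.univ.filter (fun a : A => a * a = 1)).card = 2 := by
    have : Finset.univ.filter (fun a : A => a * a = 1) = {1, z} := by
      ext a
      simp only [Finset.mem_filter, Finset.mem_univ, true_and, Finset.mem_insert,
        Finset.mem_singleton]
      constructor
      · exact huniq a
      · rintro (rfl | rfl)
        · simp
        · exact hzz
    rw [this, Finset.card_pair (Ne.symm hz1)]
  -- count the real characters
  set F := Finset.univ.filter (fun l : IrrCharacter A => irrStar l = l) with hF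
  have hcount : (F.card : ℂ) = 2 := by
    have h1 : (F.card : ℂ) = ∑ l : IrrCharacter A,
        classInner (l : A → ℂ) ((irrStar l : IrrCharacter A) : A → ℂ) := by
      rw [hF, Finset.card_filter]
      push_cast
      apply Finset.sum_congr rfl
      intro l _
      rw [classInner_irr]
      by_cases hl : irrStar l = l
      · rw [if_pos hl, if_pos hl.symm]
      · rw [if_neg hl, if_neg (fun hh => hl hh.symm)]
    have h2 : ∀ l : IrrCharacter A,
        classInner (l : A → ℂ) ((irrStar l : IrrCharacter A) : A → ℂ) =
          (Nat.card A : ℂ)⁻¹ * ∑ a : A, (l : A → ℂ) (a * a) * (starRingEnd ℂ) ((l : A → ℂ) 1) := by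
      intro l
      unfold classInner
      congr 1
      apply Finset.sum_congr rfl
      intro a _
      rw [irrStar_apply, Complex.conj_conj, (irr_mul hA l).2, (irr_mul hA l).1, map_one, mul_one]
    rw [h1, Finset.sum_congr rfl (fun l _ => h2 l), ← Finset.mul_sum, Finset.sum_comm]
    have h3 : ∀ a : A, ∑ l : IrrCharacter A,
        (l : A → ℂ) (a * a) * (starRingEnd ℂ) ((l : A → ℂ) 1) =
          if a * a = 1 then (Nat.card A : ℂ) else 0 := by
      intro a
      rw [sum_irr_mul_conj (a * a) 1]
      by_cases ha : a * a = 1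
      · rw [if_pos ha, ha, if_pos (IsConj.refl 1)]
        congr 1
        have : Subgroup.centralizer ({1} : Set A) = ⊤ := by
          ext x; simp [Subgroup.mem_centralizer_iff]
        rw [this, Subgroup.card_top]
      · rw [if_neg ha, if_neg]
        intro hc
        exact ha (isConj_one_left.mp hc)
    rw [Finset.sum_congr rfl (fun a _ => h3 a), ← Finset.sum_filter, Finset.sum_const, hsq]
    rw [nsmul_eq_mul]
    field_simp
    norm_num
  have hcard : F.card = 2 := by exact_mod_cast hcount
  have htriv : trivIrr A ∈ F := by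
    rw [hF, Finset.mem_filter]
    exact ⟨Finset.mem_univ _, irrStar_trivIrr_helper8⟩
  have h1 : (F.erase (trivIrr A)).card = 1 := by
    rw [Finset.card_erase_of_mem htriv, hcard]
  obtain ⟨l0, hl0⟩ := Finset.card_eq_one.mp h1
  have hl0mem : l0 ∈ F.erase (trivIrr A) := by rw [hl0]; exact Finset.mem_singleton_self _
  rw [Finset.mem_erase, hF, Finset.mem_filter] at hl0mem
  refine ⟨l0, hl0mem.1, hl0mem.2.2, ?_⟩
  intro l hl
  by_cases hlt : l = trivIrr A
  · exact Or.inl hlt
  · right
    have : l ∈ F.erase (trivIrr A) := by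
      rw [Finset.mem_erase, hF, Finset.mem_filter]
      exact ⟨hlt, Finset.mem_univ _, hl⟩
    rw [hl0] at this
    exact Finset.mem_singleton.mp this

end Cfsg.Agent.Helper21.Bsw.Dual
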