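import Mathlib
import Cfsg.Agent.Helper21.BswDefs2

/-!
Brauer–Suzuki–Wall, piece KCOUNT: the number of elements of `K`-type.
-/

set_option autoImplicit false

namespace Cfsg.Agent.Helper21.Bsw

universe u

variable {G : Type u} [Group G] [Finite G] {t s : G} {K : Subgroup G}

omit [Finite G] in
theorem card_nonidentity_helper8 (K : Subgroup G) :
    Nat.card {x : G // x ∈ K ∧ x ≠ 1} = Nat.card K - 1 := by
  have h1 : Nat.card {x : G // x ∈ K ∧ x ≠ 1} = ((K : Set G) \ {1}).ncard := by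
    rw [← Nat.card_coe_set_eq]
    rfl
  rw [h1, Set.ncard_sdiff_singleton_of_mem (K.one_mem), ← Nat.card_coe_set_eq]
  rfl

theorem Hyp.card_fiber_helper8 (h : Hyp t s K) {u : G} (hu : KType K u) :
    Nat.card {g : G // g⁻¹ * u * g ∈ K} = 2 * Nat.card K := by
  obtain ⟨hu1, a, ha⟩ := hu
  have hx1 : a⁻¹ * u * a ≠ 1 := by
    intro hx
    apply hu1
    have : u = a * (a⁻¹ * u * a) * a⁻¹ := by group
    rw [this, hx]; group
  rw [← h.card_H]
  refine Nat.card_congr (Equiv.subtypeEquiv (Equiv.mulLeft a⁻¹) ?_)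
  intro g
  have e : (a⁻¹ * g)⁻¹ * (a⁻¹ * u * a) * (a⁻¹ * g) = g⁻¹ * u * g := by group
  constructor
  · intro hg
    exact h.mem_H_of_conj_mem'' ha hx1 (g := a⁻¹ * g) (by rw [e]; exact hg)
  · intro hg
    have := h.conj_mem_of_mem_H' hg ha
    rw [Equiv.coe_mulLeft, e] at this
    exact this

/-- KCOUNT -/
theorem Hyp.card_kType (h : Hyp t s K) :
    Nat.card {x : G // KType K x} * (2 * Nat.card K) = (Nat.card K - 1) * Nat.card G := by
  classical
  have := Fintype.ofFinite G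
  -- the set of pairs
  let P := {q : G × G // q.1⁻¹ * q.2 * q.1 ∈ K ∧ q.2 ≠ 1}
  have eA : P ≃ G × {x : G // x ∈ K ∧ x ≠ 1} :=
    { toFun := fun q => (q.1.1, ⟨q.1.1⁻¹ * q.1.2 * q.1.1, q.2.1, by
        intro hx
        apply q.2.2
        have : q.1.2 = q.1.1 * (q.1.1⁻¹ * q.1.2 * q.1.1) * q.1.1⁻¹ := by group
        rw [this, hx]; group⟩)
      invFun := fun r => ⟨(r.1, r.1 * r.2.1 * r.1⁻¹), by
        have : r.1⁻¹ * (r.1 * r.2.1 * r.1⁻¹) * r.1 = r.2.1 := by group
        refine ⟨?_, ?_⟩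
        · show r.1⁻¹ * (r.1 * r.2.1 * r.1⁻¹) * r.1 ∈ K
          rw [this]; exact r.2.2.1
        · show r.1 * r.2.1 * r.1⁻¹ ≠ 1
          intro hx
          apply r.2.2.2
          rw [← this, hx]; group⟩
      left_inv := by
        rintro ⟨⟨g, u⟩, hq⟩
        apply Subtype.ext
        simp only [Prod.mk.injEq, true_and]
        group
      right_inv := by
        rintro ⟨g, ⟨x, hx⟩⟩
        simp only [Prod.mk.injEq, true_and]
        apply Subtype.ext
        simp only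
        group }
  have eB : P ≃ Σ u : {x : G // KType K x}, {g : G // g⁻¹ * u.1 * g ∈ K} :=
    { toFun := fun q => ⟨⟨q.1.2, q.2.2, q.1.1, q.2.1⟩, ⟨q.1.1, q.2.1⟩⟩
      invFun := fun r => ⟨(r.2.1, r.1.1), r.2.2, r.1.2.1⟩
      left_inv := by rintro ⟨⟨g, u⟩, hq⟩; rfl
      right_inv := by rintro ⟨⟨u, hu⟩, ⟨g, hg⟩⟩; rfl }
  have h1 : Nat.card P = Nat.card G * (Nat.card K - 1) := by
    rw [Nat.card_congr eA, Nat.card_prod, card_nonidentity_helper8]
  have h2 : Nat.card P = Nat.card {x : G // KType K x} * (2 * Nat.card K) := by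
    rw [Nat.card_congr eB, Nat.card_sigma]
    rw [Finset.sum_congr rfl (fun u _ => h.card_fiber_helper8 u.2)]
    rw [Finset.sum_const, Finset.card_univ, smul_eq_mul, ← Nat.card_eq_fintype_card]
  rw [← h2, h1, mul_comm]

end Cfsg.Agent.Helper21.Bsw
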