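import Mathlib
import Cfsg.Agent.Helper21.BswDefs2
import Cfsg.Agent.Helper8.BswKCount
import Cfsg.Agent.Helper24.Generalized
import Cfsg.Agent.Helper24.RealChar
import Cfsg.Agent.Helper24.Integrality

/-!
Brauer–Suzuki–Wall, piece D1: from the character data to the counting data.
-/

set_option autoImplicit false

namespace Cfsg.Agent.Helper21.Bsw

open Finset Cfsg Cfsg.Agent.Helper24

theorem count_core_helper8 {G : Type*} [Fintype G] [DecidableEq G] (one : G) (KT RT : G → Prop)
    [DecidablePred KT] [DecidablePred RT]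
    (hpart : ∀ g, (g = one ∧ ¬KT g ∧ ¬RT g) ∨ (g ≠ one ∧ KT g ∧ ¬RT g) ∨ (g ≠ one ∧ ¬KT g ∧ RT g))
    (v : G → ℤ) (ε q k : ℤ) (hε : ε = 1 ∨ ε = -1) (hq : q = 2 * k + ε) (hk : 0 < k)
    (hv1 : v one = q) (hvK : ∀ g, KT g → v g = ε)
    (hsum : ∑ g, v g = 0) (hsq : ∑ g, v g ^ 2 = (Fintype.card G : ℤ))
    (hG : 2 * (Fintype.card G : ℤ) = q * (q + 1) * (q - 1))
    (hK : ((univ.filter KT).card : ℤ) * (2 * k) = (k - 1) * (Fintype.card G : ℤ)) :
    (∀ g, RT g → v g = 0 ∨ v g = -ε) ∧
    ((univ.filter (fun g => RT g ∧ v g = 0)).card : ℤ) = q ^ 2 - 1 ∧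
    ((univ.filter (fun g => RT g ∧ v g = -ε)).card : ℤ) = ε * q + (univ.filter KT).card := by
  have split : ∀ f : G → ℤ,
      ∑ g, f g = f one + ∑ g ∈ univ.filter KT, f g + ∑ g ∈ univ.filter RT, f g := by
    intro f
    rw [Finset.sum_filter, Finset.sum_filter]
    have h1 : f one = ∑ g, if g = one then f g else 0 := by simp
    rw [h1, ← Finset.sum_add_distrib, ← Finset.sum_add_distrib]
    apply Finset.sum_congr rfl
    intro g _
    rcases hpart g with ⟨rfl, h2, h3⟩ | ⟨h1, h2, h3⟩ | ⟨h1, h2, h3⟩ <;> simp_all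
  set cK : ℤ := ((univ.filter KT).card : ℤ) with hcK
  set N : ℤ := (Fintype.card G : ℤ) with hN
  have hε2 : ε * ε = 1 := by rcases hε with rfl | rfl <;> norm_num
  have e1 := split v
  have e2 := split (fun g => v g ^ 2)
  have e3 := split (fun _ => 1)
  have hK1 : ∑ g ∈ univ.filter KT, v g = cK * ε := by
    rw [Finset.sum_congr rfl (fun g hg => hvK g (Finset.mem_filter.mp hg).2), Finset.sum_const,
      nsmul_eq_mul]
  have hK2 : ∑ g ∈ univ.filter KT, v g ^ 2 = cK := by
    rw [Finset.sum_congr rfl (fun g hg => by rw [hvK g (Finset.mem_filter.mp hg).2, pow_two, hε2]),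
      Finset.sum_const, nsmul_eq_mul, mul_one]
  simp only [Finset.sum_const, Finset.card_univ, nsmul_eq_mul, mul_one] at e3
  rw [← hN, ← hcK] at e3
  rw [hsum, hv1, hK1] at e1
  rw [hsq, hv1, hK2] at e2
  set S1 := ∑ g ∈ univ.filter RT, v g with hS1
  set S2 := ∑ g ∈ univ.filter RT, v g ^ 2 with hS2
  set cR : ℤ := ((univ.filter RT).card : ℤ) with hcR
  -- key identity
  have key : S2 + ε * S1 = 0 := by
    have : 2 * k * (S2 + ε * S1) = 0 := by
      rcases hε with rfl | rfl
      · subst hq; linear_combination (-(2 * k)) * e1 - (2 * k) * e2 - 2 * hK + hG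
      · subst hq; linear_combination ((2 * k)) * e1 - (2 * k) * e2 - 2 * hK + hG
    rcases mul_eq_zero.mp this with h | h
    · omega
    · exact h
  have hnn : ∀ g ∈ univ.filter RT, 0 ≤ v g ^ 2 + ε * v g := by
    intro g _
    rcases hε with rfl | rfl
    · rcases le_or_gt 0 (v g) with h | h
      · nlinarith
      · nlinarith
    · rcases le_or_gt (v g) 0 with h | h
      · nlinarith
      · nlinarith
  have hzero : ∀ g ∈ univ.filter RT, v g ^ 2 + ε * v g = 0 := by
    have : ∑ g ∈ univ.filter RT, (v g ^ 2 + ε * v g) = 0 := by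
      rw [Finset.sum_add_distrib, ← Finset.mul_sum]; exact key
    exact (Finset.sum_eq_zero_iff_of_nonneg hnn).mp this
  have hdich : ∀ g, RT g → v g = 0 ∨ v g = -ε := by
    intro g hg
    have := hzero g (Finset.mem_filter.mpr ⟨Finset.mem_univ _, hg⟩)
    have h2 : v g * (v g + ε) = 0 := by rw [← this]; ring
    rcases mul_eq_zero.mp h2 with h | h
    · exact Or.inl h
    · exact Or.inr (by omega)
  refine ⟨hdich, ?_⟩
  -- counting
  have hne : (0 : ℤ) ≠ -ε := by rcases hε with rfl | rfl <;> norm_num
  have hS1' : S1 = -ε * ((univ.filter (fun g => RT g ∧ v g = -ε)).card : ℤ) := by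
    rw [hS1]
    have : ∀ g ∈ univ.filter RT, v g = if v g = -ε then -ε else 0 := by
      intro g hg
      rcases hdich g (Finset.mem_filter.mp hg).2 with h | h
      · rw [if_neg (by rw [h]; exact hne)]; exact h
      · rw [if_pos h]; exact h
    rw [Finset.sum_congr rfl this, ← Finset.sum_filter, Finset.sum_const, nsmul_eq_mul,
      Finset.filter_filter, mul_comm]
  have hcard : ((univ.filter (fun g => RT g ∧ v g = 0)).card : ℤ) +
      ((univ.filter (fun g => RT g ∧ v g = -ε)).card : ℤ) = cR := by
    rw [hcR, ← Nat.cast_add, ← Finset.card_union_of_disjoint]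
    · congr 2
      ext g
      simp only [Finset.mem_union, Finset.mem_filter, Finset.mem_univ, true_and]
      constructor
      · rintro (h | h) <;> exact h.1
      · intro h
        rcases hdich g h with h' | h'
        · exact Or.inl ⟨h, h'⟩
        · exact Or.inr ⟨h, h'⟩
    · rw [Finset.disjoint_filter]
      rintro g _ ⟨_, h1⟩ ⟨_, h2⟩
      exact hne (h1.symm.trans h2)
  set a0 : ℤ := ((univ.filter (fun g => RT g ∧ v g = 0)).card : ℤ)
  set a1 : ℤ := ((univ.filter (fun g => RT g ∧ v g = -ε)).card : ℤ)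
  have ha1 : a1 = ε * q + cK := by
    have : ε * (ε * a1) = ε * (q + cK * ε) := by rw [hS1'] at e1; linear_combination ε * e1
    calc a1 = (ε * ε) * a1 := by rw [hε2, one_mul]
      _ = ε * (ε * a1) := by ring
      _ = ε * (q + cK * ε) := this
      _ = ε * q + cK * (ε * ε) := by ring
      _ = ε * q + cK := by rw [hε2, mul_one]
  refine ⟨?_, ha1⟩
  have hS2' : S2 = ε * q + cK := by
    have : S2 = -(ε * S1) := by linarith
    rw [this, hS1', ha1]
    have : -(ε * (-ε * (ε * q + cK))) = (ε * ε) * (ε * q + cK) := by ring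
    rw [this, hε2, one_mul]
  have : a0 = cR - a1 := by linarith
  rw [this, ha1]
  rw [hS2'] at e2
  linarith

universe u

variable {G : Type u} [Group G] [Finite G] {t s : G} {K : Subgroup G}

omit [Group G] [Finite G] in
theorem card_subtype_helper8 [Fintype G] (P : G → Prop) [DecidablePred P] :
    Nat.card {x : G // P x} = (univ.filter P).card := by
  rw [Nat.card_eq_fintype_card, Fintype.card_subtype]

/-- D1 -/
theorem count_of_charData (h : Hyp t s K) (d : CharData K) : CountPlus K ∨ CountMinus K := by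
  classical
  obtain ⟨ε, Y, hε, hG, hY1, hYK, hYR⟩ := d
  let _ : Fintype G := Fintype.ofFinite G
  obtain ⟨k, hk⟩ : ∃ k : ℕ, k = Nat.card K := ⟨_, rfl⟩
  rw [← hk] at hG hY1 hYR
  have hkpos : 0 < k := hk ▸ Nat.card_pos
  have hk2 : 2 ≤ k := by
    obtain ⟨m, hm⟩ := h.two_dvd_card_K
    rw [← hk] at hm
    omega
  have hkC : (k : ℂ) ≠ 0 := by exact_mod_cast hkpos.ne'
  have hk1C : (k : ℂ) - 1 ≠ 0 := by
    have : ((k : ℂ) - 1) = ((k - 1 : ℕ) : ℂ) := by
      rw [Nat.cast_sub (by omega)]; simp
    rw [this]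
    exact_mod_cast (by omega : k - 1 ≠ 0)
  -- the values of `Y` are rational integers
  have hint : ∀ g : G, ∃ m : ℤ, (Y : G → ℂ) g = m := by
    intro g
    by_cases hg1 : g = 1
    · subst hg1; exact ⟨2 * k + ε, by rw [hY1]⟩
    by_cases hgK : KType K g
    · exact ⟨ε, hYK g hgK⟩
    · have hR : RType K g := ⟨hg1, hgK⟩
      have hr := hYR g hR
      have hrat : ∃ r : ℚ, (Y : G → ℂ) g = r := by
        rcases hε with rfl | rfl
        · rw [if_pos rfl] at hr
          refine ⟨((invCount g : ℚ) - (2 * k + 1)) / k, ?_⟩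
          push_cast at hr ⊢
          field_simp
          linear_combination (-1 : ℂ) * hr
        · rw [if_neg (by norm_num)] at hr
          refine ⟨(invCount g : ℚ) / (k - 1), ?_⟩
          push_cast
          field_simp
          linear_combination (-1 : ℂ) * hr
      obtain ⟨r, hr'⟩ := hrat
      have hi := irr_isIntegral Y g
      rw [hr'] at hi
      obtain ⟨m, hm⟩ := exists_int_of_isIntegral_ratCast hi
      exact ⟨m, by rw [hr', hm]; simp⟩
  choose v hv using hint
  have hv1 : v 1 = 2 * k + ε := by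
    have := hv 1
    rw [hY1] at this
    exact_mod_cast this.symm
  have hvK : ∀ g, KType K g → v g = ε := by
    intro g hg
    have := hv g
    rw [hYK g hg] at this
    exact_mod_cast this.symm
  -- orthogonality
  have hcardC : (Nat.card G : ℂ) ≠ 0 := by
    exact_mod_cast (Nat.card_pos (α := G)).ne'
  have hYne : Y ≠ trivIrr G := by
    intro heq
    have h1 : (Y : G → ℂ) 1 = 1 := by rw [heq]; rfl
    rw [hv 1, hv1] at h1
    have h2 : (2 * (k : ℤ) + ε) = 1 := by exact_mod_cast h1
    rcases hε with rfl | rfl <;> omega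
  have hsum : ∑ g, v g = 0 := by
    have h1 := classInner_irr_ne hYne
    unfold classInner at h1
    rcases mul_eq_zero.mp h1 with h2 | h2
    · exact absurd (inv_eq_zero.mp h2) hcardC
    · have h3 : ∑ g : G, ((v g : ℤ) : ℂ) = 0 := by
        rw [← h2]
        apply Finset.sum_congr rfl
        intro g _
        rw [hv g]
        simp [trivIrr]
      exact_mod_cast h3
  have hsq : ∑ g, v g ^ 2 = (Fintype.card G : ℤ) := by
    have h1 := classInner_irr_self Y
    unfold classInner at h1
    have h2 : ∑ g : G, (Y : G → ℂ) g * (starRingEnd ℂ) ((Y : G → ℂ) g) = (Nat.card G : ℂ) := by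
      field_simp at h1
      linear_combination h1
    have h3 : ∑ g : G, (((v g) ^ 2 : ℤ) : ℂ) = (Nat.card G : ℂ) := by
      rw [← h2]
      apply Finset.sum_congr rfl
      intro g _
      rw [hv g, map_intCast]
      push_cast; ring
    rw [Nat.card_eq_fintype_card] at h3
    exact_mod_cast h3
  have hGZ : 2 * (Fintype.card G : ℤ) = (2 * k + ε) * ((2 * k + ε) + 1) * ((2 * k + ε) - 1) := by
    rw [← Nat.card_eq_fintype_card]; exact hG
  have hKc : ((univ.filter (KType K)).card : ℤ) * (2 * k) = ((k : ℤ) - 1) * (Fintype.card G : ℤ) := by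
    have h1 := h.card_kType
    rw [← hk, card_subtype_helper8, Nat.card_eq_fintype_card] at h1
    have h2 : ((k - 1 : ℕ) : ℤ) = (k : ℤ) - 1 := by omega
    rw [← h2]
    exact_mod_cast h1
  have hpart : ∀ g : G, (g = 1 ∧ ¬KType K g ∧ ¬RType K g) ∨ (g ≠ 1 ∧ KType K g ∧ ¬RType K g) ∨
      (g ≠ 1 ∧ ¬KType K g ∧ RType K g) := by
    intro g
    by_cases hg1 : g = 1
    · exact Or.inl ⟨hg1, fun hh => hh.1 hg1, fun hh => hh.1 hg1⟩
    · by_cases hgK : KType K g
      · exact Or.inr (Or.inl ⟨hg1, hgK, fun hh => hh.2 hgK⟩)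
      · exact Or.inr (Or.inr ⟨hg1, hgK, hg1, hgK⟩)
  obtain ⟨hdich, hA0, hA1⟩ := count_core_helper8 (1 : G) (KType K) (RType K) hpart v ε (2 * k + ε) k
    hε rfl (by exact_mod_cast hkpos) hv1 hvK hsum hsq hGZ hKc
  rcases hε with rfl | rfl
  · -- ε = 1
    left
    have hinvZ : ∀ x, RType K x → (invCount x : ℤ) = 2 * k + 1 + k * v x := by
      intro x hx
      have := hYR x hx
      rw [if_pos rfl, hv x] at this
      exact_mod_cast this
    refine ⟨?_, ?_, ?_⟩
    · rw [← hk]
      zify
      rw [Nat.card_eq_fintype_card]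
      linear_combination hGZ
    · intro x hx
      rw [← hk]
      have h1 := hinvZ x hx
      rcases hdich x hx with h2 | h2
      · left; rw [h2] at h1; omega
      · right; rw [h2] at h1
        have : (invCount x : ℤ) = k + 1 := by linarith
        exact_mod_cast this
    · rw [← hk, card_subtype_helper8]
      have hset : (univ.filter (fun x => RType K x ∧ invCount x = 2 * k + 1)) =
          (univ.filter (fun g => RType K g ∧ v g = 0)) := by
        ext x
        simp only [Finset.mem_filter, Finset.mem_univ, true_and]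
        constructor
        · rintro ⟨hx, hc⟩
          refine ⟨hx, ?_⟩
          have h1 := hinvZ x hx
          rw [hc] at h1
          push_cast at h1
          have : (k : ℤ) * v x = 0 := by linarith
          rcases mul_eq_zero.mp this with h3 | h3
          · omega
          · exact h3
        · rintro ⟨hx, hc⟩
          refine ⟨hx, ?_⟩
          have h1 := hinvZ x hx
          rw [hc] at h1
          omega
      rw [hset]
      have : ((2 * k + 1) ^ 2 - 1 : ℕ) = ((2 * k + 1) ^ 2 : ℤ) - 1 := by
        rw [Nat.cast_sub (Nat.one_le_pow _ _ (by omega))]; push_cast; ring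
      zify
      rw [this, hA0]
  · -- ε = -1
    right
    have hinvZ : ∀ x, RType K x → (invCount x : ℤ) = ((k : ℤ) - 1) * v x := by
      intro x hx
      have := hYR x hx
      rw [if_neg (by norm_num), hv x] at this
      exact_mod_cast this
    have hk1 : ((k - 1 : ℕ) : ℤ) = (k : ℤ) - 1 := by omega
    have h2k1 : ((2 * k - 1 : ℕ) : ℤ) = 2 * (k : ℤ) - 1 := by omega
    have h2k2 : ((2 * k - 2 : ℕ) : ℤ) = 2 * (k : ℤ) - 2 := by omega
    refine ⟨?_, ?_, ?_, ?_, ?_⟩
    · rw [← hk]
      zify
      rw [h2k1, h2k2, Nat.card_eq_fintype_card]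
      linear_combination hGZ
    · intro x hx
      rw [← hk]
      have h1 := hinvZ x hx
      rcases hdich x hx with h2 | h2
      · left; rw [h2] at h1; simpa using h1
      · right; rw [h2] at h1
        zify; rw [hk1, h1]; ring
    · rw [← hk, card_subtype_helper8]
      have hset : (univ.filter (fun x => RType K x ∧ invCount x = 0)) =
          (univ.filter (fun g => RType K g ∧ v g = 0)) := by
        ext x
        simp only [Finset.mem_filter, Finset.mem_univ, true_and]
        constructor
        · rintro ⟨hx, hc⟩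
          refine ⟨hx, ?_⟩
          have h1 := hinvZ x hx
          rw [hc] at h1
          push_cast at h1
          rcases mul_eq_zero.mp h1.symm with h3 | h3
          · omega
          · exact h3
        · rintro ⟨hx, hc⟩
          refine ⟨hx, ?_⟩
          have h1 := hinvZ x hx
          rw [hc, mul_zero] at h1
          exact_mod_cast h1
      rw [hset]
      have : ((2 * k - 1) ^ 2 - 1 : ℕ) = ((2 * (k : ℤ) - 1) ^ 2 : ℤ) - 1 := by
        rw [Nat.cast_sub (Nat.one_le_pow _ _ (by omega)), Nat.cast_pow, h2k1]; push_cast; ring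
      zify
      rw [this, hA0]
      ring
    · -- dvd
      intro C hC
      rw [← hk]
      have hY0 : ∀ c : C, c ≠ 1 → (Y : G → ℂ) c = 0 := by
        intro c hc
        have hc' : (c : G) ≠ 1 := fun hh => hc (Subtype.ext hh)
        obtain ⟨hR, h0⟩ := hC c c.2 hc'
        have := hYR c hR
        rw [if_neg (by norm_num), h0, Nat.cast_zero] at this
        rcases mul_eq_zero.mp this.symm with h3 | h3
        · exact absurd h3 hk1C
        · exact h3
      have hgen : IsGeneralizedCharacter C (fun x : C => (Y : G → ℂ) x) :=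
        IsGeneralizedCharacter.restrict (IsIrrCharacter.isGeneralizedCharacter Y.2) C
      let _ : Fintype C := Fintype.ofFinite C
      let _ : Fintype (IrrCharacter C) := Fintype.ofFinite _
      obtain ⟨m, hm⟩ := IsGeneralizedCharacter.classInner_irr_int hgen (trivIrr C)
      unfold classInner at hm
      have hsumC : ∑ x : C, (Y : G → ℂ) x * (starRingEnd ℂ) ((trivIrr C : C → ℂ) x) =
          (Y : G → ℂ) 1 := by
        rw [Finset.sum_eq_single (1 : C)]
        · simp [trivIrr]
        · intro c _ hc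
          rw [hY0 c hc, zero_mul]
        · intro hh; exact absurd (Finset.mem_univ _) hh
      rw [hsumC, hY1] at hm
      have hCC : (Nat.card C : ℂ) ≠ 0 := by exact_mod_cast (Nat.card_pos (α := C)).ne'
      have h3 : ((2 * (k : ℤ) + -1 : ℤ) : ℂ) = ((m * (Nat.card C : ℤ) : ℤ) : ℂ) := by
        push_cast
        field_simp at hm
        push_cast at hm
        linear_combination hm
      have h4 : (2 * (k : ℤ) + -1 : ℤ) = m * (Nat.card C : ℤ) := by exact_mod_cast h3
      have h5 : ((Nat.card C : ℕ) : ℤ) ∣ ((2 * k - 1 : ℕ) : ℤ) := by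
        rw [h2k1]
        exact ⟨m, by linarith⟩
      exact_mod_cast h5
    · -- exists_R1
      intro hk4
      rw [← hk] at hk4 ⊢
      set cK : ℤ := ((univ.filter (KType K)).card : ℤ) with hcK
      have hcKval : cK = ((k : ℤ) - 1) ^ 2 * (2 * k - 1) := by
        have h1 : 4 * (k : ℤ) * cK = 4 * k * (((k : ℤ) - 1) ^ 2 * (2 * k - 1)) := by
          linear_combination 2 * hKc + ((k : ℤ) - 1) * hGZ
        have h2 : (4 * (k : ℤ)) ≠ 0 := by omega
        exact mul_left_cancel₀ h2 h1
      have hpos : 0 < ((univ.filter (fun g => RType K g ∧ v g = -(-1 : ℤ))).card : ℤ) := by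
        rw [hA1, hcKval]
        have h4 : (4 : ℤ) ≤ k := by exact_mod_cast hk4
        nlinarith
      have hpos' : 0 < (univ.filter (fun g => RType K g ∧ v g = -(-1 : ℤ))).card := by
        exact_mod_cast hpos
      obtain ⟨x, hx⟩ := Finset.card_pos.mp hpos'
      simp only [Finset.mem_filter, Finset.mem_univ, true_and] at hx
      refine ⟨x, hx.1, ?_⟩
      have h1 := hinvZ x hx.1
      rw [hx.2] at h1
      zify; rw [hk1, h1]; ring

end Cfsg.Agent.Helper21.Bsw
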