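import Mathlib
import Cfsg.Agent.Helper10.S4017Defs

/-! S4017 piece A3CNT1: counting involutions and non-commuting pairs of involutions when every
involution centralizer is elementary abelian of order `2^a`. -/

set_option autoImplicit false

namespace Cfsg.Agent.S4017P

open Finset

/-- an element of square one that is not the identity has order two -/
theorem A3CNT1.aux_order {G : Type*} [Group G] {g : G} (h1 : g ≠ 1) (h2 : g * g = 1) :
    orderOf g = 2 := by
  have : Fact (Nat.Prime 2) := ⟨Nat.prime_two⟩
  exact orderOf_eq_prime (by rw [pow_two]; exact h2) h1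

/-- the conjugation fibres over the class of an involution -/
theorem A3CNT1.aux_class {G : Type*} [Group G] [Fintype G] [DecidableEq G] (t₀ : G) (n : ℕ)
    (hn : Nat.card (Subgroup.centralizer ({t₀} : Set G)) = n) (S : Finset G)
    (hS : ∀ u, u ∈ S ↔ ∃ g : G, g * t₀ * g⁻¹ = u) :
    S.card * n = Fintype.card G := by
  classical
  have hfib : ∀ u ∈ S, (univ.filter (fun g : G => g * t₀ * g⁻¹ = u)).card = n := by
    intro u hu
    obtain ⟨g₀, hg₀⟩ := (hS u).mp hu
    rw [← hn, Nat.card_eq_fintype_card, ← Finset.card_univ (α := ↥(Subgroup.centralizer ({t₀} : Set G)))]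
    symm
    refine Finset.card_bij (fun c _ => g₀ * (c : G)) ?_ ?_ ?_
    · intro c _
      rw [Finset.mem_filter]
      refine ⟨Finset.mem_univ _, ?_⟩
      have hc : (c : G) * t₀ = t₀ * c := by
        have := c.2
        rw [Subgroup.mem_centralizer_iff] at this
        exact (this t₀ rfl).symm
      rw [← hg₀]
      have : g₀ * (c : G) * t₀ * (g₀ * (c : G))⁻¹ = g₀ * ((c : G) * t₀ * (c : G)⁻¹) * g₀⁻¹ := by group
      rw [this, hc]
      group
    · intro c _ c' _ h
      exact Subtype.ext (mul_left_cancel h)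
    · intro g hg
      rw [Finset.mem_filter] at hg
      refine ⟨⟨g₀⁻¹ * g, ?_⟩, Finset.mem_univ _, by simp⟩
      rw [Subgroup.mem_centralizer_iff]
      intro y hy
      have hy' : y = t₀ := hy
      rw [hy']
      have h1 : g * t₀ * g⁻¹ = g₀ * t₀ * g₀⁻¹ := by rw [hg.2, hg₀]
      have h2 : g₀⁻¹ * g * t₀ = t₀ * (g₀⁻¹ * g) := by
        have : g₀⁻¹ * g * t₀ = g₀⁻¹ * (g * t₀ * g⁻¹) * g := by group
        rw [this, h1]
        group
      exact h2.symm
  have hmaps : ∀ g ∈ (univ : Finset G), g * t₀ * g⁻¹ ∈ S := fun g _ => (hS _).mpr ⟨g, rfl⟩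
  rw [← Finset.card_univ, Finset.card_eq_sum_card_fiberwise hmaps, Finset.sum_congr rfl hfib,
    Finset.sum_const, smul_eq_mul]

theorem A3CNT1 {G : Type*} [Group G] [Finite G] {p a : ℕ} {Q : Subgroup G} {z : G}
    (h : Cfg G p a Q z) (f : Facts G p a Q z)
    (hC : ∀ t : G, orderOf t = 2 → ∀ g : G, g * t = t * g → g * g = 1)
    (hCc : ∀ t : G, orderOf t = 2 → Nat.card (Subgroup.centralizer ({t} : Set G)) = 2 ^ a) :
    Nat.card {t : G // orderOf t = 2} * 2 ^ a = Nat.card G ∧
    Nat.card {x : G × G // orderOf x.1 = 2 ∧ orderOf x.2 = 2 ∧ x.1 * x.2 ≠ x.2 * x.1}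
      = Nat.card {t : G // orderOf t = 2} * (Nat.card {t : G // orderOf t = 2} - p) := by
  classical
  have := Fintype.ofFinite G
  set Inv : Finset G := univ.filter (fun t : G => orderOf t = 2) with hInv
  have hIcard : Nat.card {t : G // orderOf t = 2} = Inv.card := by
    rw [Nat.card_eq_fintype_card, Fintype.card_subtype]
  -- an involution exists
  obtain ⟨t₀, ht₀⟩ : ∃ t₀ : G, orderOf t₀ = 2 := by
    have hQ1 : 1 < Nat.card Q := by
      rw [h.hQ, h.ha]
      have := h.hp.two_le
      omega
    haveI : Nontrivial ↥Q := Finite.one_lt_card_iff_nontrivial.mp hQ1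
    obtain ⟨x, hx⟩ := exists_ne (1 : ↥Q)
    refine ⟨(x : G), A3CNT1.aux_order ?_ (f.elem x x.2)⟩
    intro h1
    exact hx (Subtype.ext h1)
  refine ⟨?_, ?_⟩
  · rw [hIcard, Nat.card_eq_fintype_card]
    apply A3CNT1.aux_class t₀ (2 ^ a) (hCc t₀ ht₀) Inv
    intro u
    rw [hInv, Finset.mem_filter]
    constructor
    · rintro ⟨-, hu⟩
      exact f.conj t₀ u ht₀ hu
    · rintro ⟨g, rfl⟩
      refine ⟨Finset.mem_univ _, ?_⟩
      have : g * t₀ * g⁻¹ = MulAut.conj g t₀ := rfl
      rw [this, MulEquiv.orderOf_eq, ht₀]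
  · -- the pairs
    have hpair : Nat.card {x : G × G // orderOf x.1 = 2 ∧ orderOf x.2 = 2 ∧ x.1 * x.2 ≠ x.2 * x.1}
        = (univ.filter (fun x : G × G => orderOf x.1 = 2 ∧ orderOf x.2 = 2 ∧
            x.1 * x.2 ≠ x.2 * x.1)).card := by
      rw [Nat.card_eq_fintype_card, Fintype.card_subtype]
    rw [hpair, hIcard]
    -- fibre over the first coordinate
    have hcomm : ∀ t ∈ Inv, (Inv.filter (fun u => t * u = u * t)).card = p := by
      intro t ht
      have ht2 : orderOf t = 2 := (Finset.mem_filter.mp ht).2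
      have hcard : Fintype.card ↥(Subgroup.centralizer ({t} : Set G)) = p + 1 := by
        rw [← Nat.card_eq_fintype_card, hCc t ht2, h.ha]
      have hbij : (Inv.filter (fun u => t * u = u * t)).card =
          ((univ : Finset ↥(Subgroup.centralizer ({t} : Set G))).erase 1).card := by
        symm
        refine Finset.card_bij (fun c _ => (c : G)) ?_ ?_ ?_
        · intro c hc
          rw [Finset.mem_erase] at hc
          have hct : (c : G) * t = t * c := by
            have := c.2
            rw [Subgroup.mem_centralizer_iff] at this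
            exact (this t rfl).symm
          rw [Finset.mem_filter, hInv, Finset.mem_filter]
          refine ⟨⟨Finset.mem_univ _, A3CNT1.aux_order ?_ (hC t ht2 c hct)⟩, hct.symm⟩
          intro h1
          exact hc.1 (Subtype.ext h1)
        · intro c _ c' _ hcc
          exact Subtype.ext hcc
        · intro u hu
          rw [Finset.mem_filter, hInv, Finset.mem_filter] at hu
          refine ⟨⟨u, ?_⟩, ?_, rfl⟩
          · rw [Subgroup.mem_centralizer_iff]
            intro y hy
            have hy' : y = t := hy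
            rw [hy']
            exact hu.2
          · rw [Finset.mem_erase]
            refine ⟨?_, Finset.mem_univ _⟩
            intro h1
            have : u = 1 := congrArg Subtype.val h1
            rw [this, orderOf_one] at hu
            exact absurd hu.1.2 (by norm_num)
      rw [hbij, Finset.card_erase_of_mem (Finset.mem_univ _), Finset.card_univ, hcard]
      rfl
    have hnc : ∀ t ∈ Inv, (Inv.filter (fun u => ¬ t * u = u * t)).card = Inv.card - p := by
      intro t ht
      have := Finset.card_filter_add_card_filter_not (s := Inv) (fun u => t * u = u * t)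
      rw [hcomm t ht] at this
      omega
    have hmaps : ∀ x ∈ (univ.filter (fun x : G × G => orderOf x.1 = 2 ∧ orderOf x.2 = 2 ∧
        x.1 * x.2 ≠ x.2 * x.1)), x.1 ∈ Inv := by
      intro x hx
      rw [Finset.mem_filter] at hx
      rw [hInv, Finset.mem_filter]
      exact ⟨Finset.mem_univ _, hx.2.1⟩
    have hfib : ∀ t ∈ Inv, ((univ.filter (fun x : G × G => orderOf x.1 = 2 ∧ orderOf x.2 = 2 ∧
        x.1 * x.2 ≠ x.2 * x.1)).filter (fun x => x.1 = t)).card = Inv.card - p := by
      intro t ht
      have ht2 : orderOf t = 2 := (Finset.mem_filter.mp ht).2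
      rw [← hnc t ht]
      symm
      refine Finset.card_bij (fun u _ => ((t, u) : G × G)) ?_ ?_ ?_
      · intro u hu
        rw [Finset.mem_filter, hInv, Finset.mem_filter] at hu
        rw [Finset.mem_filter, Finset.mem_filter]
        exact ⟨⟨Finset.mem_univ _, ht2, hu.1.2, hu.2⟩, rfl⟩
      · intro u _ u' _ huu
        exact (Prod.mk.injEq _ _ _ _ ▸ huu : t = t ∧ u = u').2
      · intro x hx
        rw [Finset.mem_filter, Finset.mem_filter] at hx
        obtain ⟨⟨-, h1, h2, h3⟩, h4⟩ := hx
        refine ⟨x.2, ?_, ?_⟩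
        · rw [Finset.mem_filter, hInv, Finset.mem_filter]
          refine ⟨⟨Finset.mem_univ _, h2⟩, ?_⟩
          rw [← h4]
          exact h3
        · rw [← h4]
    rw [Finset.card_eq_sum_card_fiberwise hmaps, Finset.sum_congr rfl hfib, Finset.sum_const,
      smul_eq_mul]

end Cfsg.Agent.S4017P
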