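import Mathlib
import Cfsg.Prelude.Def_Characters
import Cfsg.Agent.Helper12.LSUDefs
import Cfsg.Agent.Helper12.LSpWDefs
import Cfsg.Agent.Helper12.LSpWPDefs
import Cfsg.Agent.Helper24.GlaubCyc

set_option autoImplicit false

/-! S2347, piece WCENT: the central elements `(0, s)` of the Heisenberg group act on an extension
`χ` of `theta ψ` to `Gam` by the scalar `ψ s`. -/

namespace Cfsg.Agent.Helper12.LSp

open Matrix Cfsg Cfsg.Agent.Helper2.Sp Cfsg.Agent.Helper12.LSU Cfsg.Agent.Helper25

variable {n : ℕ} {F : Type*} [Field F]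

theorem wcent_zel_comm (s : F) (h : Heis n F) : h * zel n s = zel n s * h := by
  apply Heis.ext
  · rw [Heis.mul_v, Heis.mul_v]
    show h.v + (0 : Fin n ⊕ Fin n → F) = (0 : Fin n ⊕ Fin n → F) + h.v
    rw [add_zero, zero_add]
  · rw [Heis.mul_s, Heis.mul_s]
    show h.s + s + om h.v (0 : Fin n ⊕ Fin n → F) = s + h.s + om (0 : Fin n ⊕ Fin n → F) h.v
    rw [om_zero_left', om_zero_right']
    ring

theorem wcent_heisAct_zel (g : symplecticGroup (Fin n) F) (s : F) :
    heisAct g (zel n s) = zel n s := by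
  apply Heis.ext
  · rw [heisAct_v]
    show (g : Matrix (Fin n ⊕ Fin n) (Fin n ⊕ Fin n) F) *ᵥ (0 : Fin n ⊕ Fin n → F) = 0
    rw [mulVec_zero]
  · rfl

theorem wcent_central (s : F) (d : Gam n F) :
    d * (SemidirectProduct.inl (zel n s) : Gam n F) = SemidirectProduct.inl (zel n s) * d := by
  apply SemidirectProduct.ext
  · rw [SemidirectProduct.mul_left, SemidirectProduct.mul_left, SemidirectProduct.left_inl,
      SemidirectProduct.right_inl, map_one, MulAut.one_apply, heisPhi_apply, wcent_heisAct_zel,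
      wcent_zel_comm]
  · rw [SemidirectProduct.mul_right, SemidirectProduct.mul_right, SemidirectProduct.right_inl,
      mul_one, one_mul]

theorem chi_zel_mul [Fintype F] (χ : Gam n F → ℂ) (hχ : IsIrrCharacter (Gam n F) χ)
    (ψ : AddChar F ℂ) (hres : ∀ a : Heis n F, χ (SemidirectProduct.inl a) = theta ψ a)
    (s : F) (y : Gam n F) :
    χ (SemidirectProduct.inl (zel n s) * y) = ψ s * χ y := by
  obtain ⟨ω, -, hω⟩ := Cfsg.Agent.Helper24.exists_central_scalar (⟨χ, hχ⟩ : IrrCharacter (Gam n F))
    (SemidirectProduct.inl (zel n s)) (wcent_central s)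
  have h1 : ∀ d : Gam n F, χ (d * SemidirectProduct.inl (zel n s)) = ω * χ d := by
    intro d
    have := hω d 1
    rw [pow_one, pow_one] at this
    exact this
  have hq : ((Fintype.card F : ℂ)) ^ n ≠ 0 := by
    apply pow_ne_zero
    exact_mod_cast Fintype.card_ne_zero
  have hωeq : ω = ψ s := by
    have h2 := h1 1
    rw [one_mul, hres, ← SemidirectProduct.inl.map_one, hres, theta_one] at h2
    have h3 : theta ψ (zel n s) = ψ s * (Fintype.card F : ℂ) ^ n := by
      have := theta_zel_mul (n := n) ψ s 1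
      rw [mul_one, theta_one] at this
      exact this
    rw [h3] at h2
    exact (mul_right_cancel₀ hq h2).symm
  rw [← wcent_central, h1, hωeq]

end Cfsg.Agent.Helper12.LSp
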