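import Mathlib
import Cfsg.Prelude.Def_Characters
import Cfsg.Agent.Helper12.LSUDefs
import Cfsg.Agent.Helper12.LSpWDefs
import Cfsg.Agent.Helper12.LSpWPDefs
import Cfsg.Agent.Helper24.CosetAverage
import Cfsg.Agent.Helper8.CharComp

set_option autoImplicit false

/-! S2347, piece WCOSET: the coset average of `|χ|²` over a coset of the Heisenberg group, for an
extension `χ` of the irreducible character `theta ψ` to `Gam`. -/

namespace Cfsg.Agent.Helper12.LSp

open Matrix Cfsg Cfsg.Agent.Helper2.Sp Cfsg.Agent.Helper12.LSU Cfsg.Agent.Helper25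

variable {n : ℕ} {F : Type*} [Field F]

/-- the projection `NH → Heis` (inverse of `inl`) -/
def wcoset_leftHom (n : ℕ) (F : Type*) [Field F] : NH n F →* Heis n F where
  toFun x := (x : Gam n F).left
  map_one' := rfl
  map_mul' x y := by
    show ((x : Gam n F) * (y : Gam n F)).left = _
    rw [SemidirectProduct.mul_left, (mem_NH_iff _).mp x.2, map_one, MulAut.one_apply]

theorem wcoset_inl_mem (a : Heis n F) : (SemidirectProduct.inl a : Gam n F) ∈ NH n F :=
  ⟨a, rfl⟩

theorem wcoset_leftHom_surjective : Function.Surjective (wcoset_leftHom n F) := fun a =>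
  ⟨⟨SemidirectProduct.inl a, wcoset_inl_mem a⟩, rfl⟩

theorem wcoset_eq_inl (x : NH n F) : (x : Gam n F) = SemidirectProduct.inl (x : Gam n F).left := by
  apply SemidirectProduct.ext
  · rw [SemidirectProduct.left_inl]
  · rw [SemidirectProduct.right_inl]
    exact (mem_NH_iff _).mp x.2

theorem wcoset_inl_bijective :
    Function.Bijective (fun a : Heis n F => (⟨SemidirectProduct.inl a, wcoset_inl_mem a⟩ : NH n F)) := by
  constructor
  · intro a b hab
    have := congrArg (fun x : NH n F => (x : Gam n F).left) hab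
    simpa using this
  · intro x
    refine ⟨(x : Gam n F).left, ?_⟩
    apply Subtype.ext
    exact (wcoset_eq_inl x).symm

theorem sum_coset_normSq [Fintype F] (χ : Gam n F → ℂ) (hχ : IsIrrCharacter (Gam n F) χ)
    (ψ : AddChar F ℂ) (hirr : IsIrrCharacter (Heis n F) (theta (n := n) ψ))
    (hres : ∀ a : Heis n F, χ (SemidirectProduct.inl a) = theta ψ a) (y : Gam n F) :
    ∑ a : Heis n F, Complex.normSq (χ (SemidirectProduct.inl a * y)) =
      (Fintype.card F : ℝ) ^ (2 * n + 1) := by
  classical
  let _ : Fintype (NH n F) := Fintype.ofFinite _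
  have hχN : IsIrrCharacter (NH n F) (fun x : NH n F => χ x) := by
    have h1 := Cfsg.Agent.Helper8.isIrrCharacter_comp_surjective (wcoset_leftHom n F)
      wcoset_leftHom_surjective hirr
    have h2 : (fun x : NH n F => χ x) = fun x => theta ψ (wcoset_leftHom n F x) := by
      funext x
      rw [wcoset_eq_inl x, hres]
      rfl
    rw [h2]
    exact h1
  have key := (Cfsg.Agent.Helper24.coset_average_theorem (NH n F) χ hχ hχN χ hχ _ rfl).2.2 rfl
  have hy := congrFun key y
  have hcard : (Nat.card (NH n F) : ℂ) = ((Fintype.card F : ℝ) ^ (2 * n + 1) : ℝ) := by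
    have : Nat.card (NH n F) = Nat.card (Heis n F) :=
      (Nat.card_congr (Equiv.ofBijective _ (wcoset_inl_bijective (n := n) (F := F)))).symm
    rw [this, card_heis]
    push_cast
    rfl
  have hne : (Nat.card (NH n F) : ℂ) ≠ 0 := by
    rw [hcard]
    have : ((Fintype.card F : ℝ)) ^ (2 * n + 1) ≠ 0 := by
      apply pow_ne_zero
      exact_mod_cast Fintype.card_ne_zero
    exact_mod_cast this
  have hsum : ∑ x : NH n F, χ ((x : Gam n F) * y) * (starRingEnd ℂ) (χ ((x : Gam n F) * y)) =
      (Nat.card (NH n F) : ℂ) := by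
    rw [inv_mul_eq_iff_eq_mul₀ hne, mul_one] at hy
    exact hy
  have hre : ∑ a : Heis n F, χ (SemidirectProduct.inl a * y) *
      (starRingEnd ℂ) (χ (SemidirectProduct.inl a * y)) = (Nat.card (NH n F) : ℂ) := by
    rw [← hsum]
    exact Fintype.sum_bijective _ (wcoset_inl_bijective (n := n) (F := F)) _ _ (fun a => rfl)
  rw [hcard] at hre
  have hcast : ((∑ a : Heis n F, Complex.normSq (χ (SemidirectProduct.inl a * y)) : ℝ) : ℂ) =
      ((Fintype.card F : ℝ) ^ (2 * n + 1) : ℝ) := by
    rw [← hre]
    push_cast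
    refine Finset.sum_congr rfl fun a _ => ?_
    rw [Complex.mul_conj]
  exact Complex.ofReal_injective hcast

end Cfsg.Agent.Helper12.LSp
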