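import Mathlib
import Cfsg.Prelude.Def_KGroupFacts
import Cfsg.Agent.Helper11.CoverC
import Cfsg.Agent.Helper24.ProjLiftGL

/-!
The Schur multiplier of a finite group `Q` through the central extension `E = F / [F, R]` of `Q`
(`F` free on the elements of `Q`): the multiplier is `ker(E → Q) ∩ E'`; every central extension of
`Q` receives a map from `E`; complements of the multiplier in `ker(E → Q)` give Schur covers.
-/

set_option autoImplicit false

namespace Cfsg.Agent.Helper8.Hopf

open Cfsg Cfsg.Agent.Helper11.Cover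

open scoped commutatorElement

universe u v w

section General

theorem map_commutator_le {A B : Type*} [Group A] [Group B] (f : A →* B) :
    (commutator A).map f ≤ commutator B := by
  rw [commutator_def A, Subgroup.map_commutator, commutator_def B]
  exact Subgroup.commutator_mono le_top le_top

variable {Q : Type u} [Group Q]

/-- the multiplier, as a subgroup of `E = F / [F, R]` -/
noncomputable def mult (Q : Type u) [Group Q] : Subgroup (extE Q) :=
  (pE (Q := Q)).ker ⊓ commutator (extE Q)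

theorem mem_mult (x : extE Q) : x ∈ mult Q ↔ pE x = 1 ∧ x ∈ commutator (extE Q) := by
  unfold mult
  rw [Subgroup.mem_inf, MonoidHom.mem_ker]

/-- every central extension of `Q` receives a homomorphism from `E` over `Q` -/
theorem exists_hom_of_central {X : Type w} [Group X] (ξ : X →* Q) (hξ : Function.Surjective ξ)
    (hk : ξ.ker ≤ Subgroup.center X) : ∃ φ : extE Q →* X, ξ.comp φ = pE := by
  classical
  let s : Q → X := Function.surjInv hξ
  have hs : ∀ q, ξ (s q) = q := Function.surjInv_eq hξ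
  let ψ : FreeGroup Q →* X := FreeGroup.lift s
  have hψ : ξ.comp ψ = phiF := by
    ext q
    simp [ψ, phiF, hs]
  have hψv : ∀ f, ξ (ψ f) = phiF f := fun f => DFunLike.congr_fun hψ f
  have hN : relN (Q := Q) ≤ ψ.ker := by
    unfold relN
    rw [Subgroup.commutator_le]
    intro f _ r hr
    rw [MonoidHom.mem_ker, map_commutatorElement, commutatorElement_eq_one_iff_commute]
    have hc : ψ r ∈ Subgroup.center X := by
      apply hk
      rw [MonoidHom.mem_ker, hψv]
      exact MonoidHom.mem_ker.mp hr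
    exact Subgroup.mem_center_iff.mp hc (ψ f)
  refine ⟨QuotientGroup.lift relN ψ hN, ?_⟩
  apply MonoidHom.ext
  intro x
  obtain ⟨f, rfl⟩ := QuotientGroup.mk_surjective x
  exact hψv f

/-- the commutator subgroup of a central extension is the image of that of `E` -/
theorem commutator_le_map {X : Type w} [Group X] (ξ : X →* Q)
    (hk : ξ.ker ≤ Subgroup.center X) (φ : extE Q →* X) (hφ : ξ.comp φ = pE) :
    commutator X ≤ (commutator (extE Q)).map φ := by
  have hφv : ∀ e, ξ (φ e) = pE e := fun e => DFunLike.congr_fun hφ e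
  rw [commutator_eq_closure, Subgroup.closure_le]
  rintro _ ⟨a, b, rfl⟩
  obtain ⟨ea, hea⟩ := pE_surjective (ξ a)
  obtain ⟨eb, heb⟩ := pE_surjective (ξ b)
  have hka : (φ ea)⁻¹ * a ∈ Subgroup.center X := by
    apply hk
    rw [MonoidHom.mem_ker, map_mul, map_inv, hφv, hea, inv_mul_cancel]
  have hkb : (φ eb)⁻¹ * b ∈ Subgroup.center X := by
    apply hk
    rw [MonoidHom.mem_ker, map_mul, map_inv, hφv, heb, inv_mul_cancel]
  have ha : a = φ ea * ((φ ea)⁻¹ * a) := by rw [mul_inv_cancel_left]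
  have hb : b = φ eb * ((φ eb)⁻¹ * b) := by rw [mul_inv_cancel_left]
  refine ⟨⁅ea, eb⁆, Subgroup.commutator_mem_commutator (Subgroup.mem_top _) (Subgroup.mem_top _), ?_⟩
  rw [map_commutatorElement]
  conv_rhs => rw [ha, hb]
  rw [Cfsg.Agent.Helper24.commutatorElement_mul_central_left _ _ _
      (fun z => Subgroup.mem_center_iff.mp hka z),
    Cfsg.Agent.Helper24.commutatorElement_mul_central_right _ _ _
      (fun z => Subgroup.mem_center_iff.mp hkb z)]

/-- the multiplier maps onto `ker ∩ X'` of any central extension `X` -/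
theorem exists_mult_preimage {X : Type w} [Group X] (ξ : X →* Q)
    (hk : ξ.ker ≤ Subgroup.center X) (φ : extE Q →* X) (hφ : ξ.comp φ = pE) (z : X)
    (hz : z ∈ ξ.ker) (hzc : z ∈ commutator X) : ∃ m ∈ mult Q, φ m = z := by
  have hφv : ∀ e, ξ (φ e) = pE e := fun e => DFunLike.congr_fun hφ e
  obtain ⟨e, he, rfl⟩ := commutator_le_map ξ hk φ hφ hzc
  refine ⟨e, (mem_mult e).mpr ⟨?_, he⟩, rfl⟩
  rw [← hφv]
  exact MonoidHom.mem_ker.mp hz

theorem map_mult_mem {X : Type w} [Group X] (ξ : X →* Q) (φ : extE Q →* X)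
    (hφ : ξ.comp φ = pE) (m : extE Q) (hm : m ∈ mult Q) :
    φ m ∈ ξ.ker ⊓ commutator X := by
  have hφv : ∀ e, ξ (φ e) = pE e := fun e => DFunLike.congr_fun hφ e
  rw [mem_mult] at hm
  refine Subgroup.mem_inf.mpr ⟨?_, ?_⟩
  · rw [MonoidHom.mem_ker, hφv, hm.1]
  · exact map_commutator_le φ ⟨m, hm.2, rfl⟩

/-- the map from `E` to the abelianisation of the free group -/
noncomputable def theta : extE Q →* Abelianization (FreeGroup Q) :=
  QuotientGroup.lift relN Abelianization.of (by
    intro f hf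
    rw [Abelianization.ker_of, commutator_def]
    unfold relN at hf
    exact Subgroup.commutator_mono le_rfl le_top hf)

theorem theta_mk (f : FreeGroup Q) :
    theta (QuotientGroup.mk f : extE Q) = Abelianization.of f := rfl

theorem theta_ker : (theta (Q := Q)).ker = commutator (extE Q) := by
  apply le_antisymm
  · intro x hx
    obtain ⟨f, rfl⟩ := QuotientGroup.mk_surjective x
    rw [MonoidHom.mem_ker, theta_mk] at hx
    have hf : f ∈ commutator (FreeGroup Q) := by
      rw [← Abelianization.ker_of]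
      exact hx
    exact map_commutator_le (QuotientGroup.mk' (relN (Q := Q))) ⟨f, hf, rfl⟩
  · exact Abelianization.commutator_subset_ker _

end General

section Split

/-- splitting of a homomorphism to a free abelian group of finite rank -/
theorem exists_section_aux {A : Type*} [AddCommGroup A] {ι : Type*} [Finite ι]
    (f : A →+ (ι →₀ ℤ)) :
    ∃ T : AddSubgroup A, (∀ t ∈ T, f t = 0 → t = 0) ∧ ∀ a : A, ∃ t ∈ T, f (a - t) = 0 := by
  classical
  let fl : A →ₗ[ℤ] (ι →₀ ℤ) := f.toIntLinearMap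
  obtain ⟨n, ⟨b⟩⟩ := Submodule.nonempty_basis_of_pid
    (Finsupp.basisSingleOne (R := ℤ) (ι := ι)) (LinearMap.range fl)
  have hex : ∀ i : Fin n, ∃ a : A, fl a = (b i : ι →₀ ℤ) := fun i => (b i).2
  choose a ha using hex
  let s : LinearMap.range fl →ₗ[ℤ] A := b.constr ℤ a
  have hs : ∀ x : LinearMap.range fl, fl (s x) = (x : ι →₀ ℤ) := by
    have h1 : fl ∘ₗ s = (LinearMap.range fl).subtype := by
      apply b.ext
      intro i
      rw [LinearMap.comp_apply, Module.Basis.constr_basis, ha]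
      rfl
    intro x
    exact LinearMap.congr_fun h1 x
  refine ⟨(LinearMap.range s).toAddSubgroup, ?_, ?_⟩
  · rintro t ⟨x, rfl⟩ ht
    have h1 : (x : ι →₀ ℤ) = 0 := by
      rw [← hs x]
      exact ht
    have h2 : x = 0 := Subtype.ext h1
    rw [h2, map_zero]
  · intro a₀
    refine ⟨s ⟨fl a₀, LinearMap.mem_range_self fl a₀⟩, ⟨_, rfl⟩, ?_⟩
    rw [map_sub]
    have := hs ⟨fl a₀, LinearMap.mem_range_self fl a₀⟩
    show fl a₀ - fl (s ⟨fl a₀, LinearMap.mem_range_self fl a₀⟩) = 0
    rw [this, sub_self]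

/-- multiplicative form -/
theorem exists_compl_aux {N : Type*} [CommGroup N] {ι : Type*} [Finite ι]
    (f : Additive N →+ (ι →₀ ℤ)) :
    ∃ T : Subgroup N, (∀ t ∈ T, f (Additive.ofMul t) = 0 → t = 1) ∧
      ∀ a : N, ∃ t ∈ T, f (Additive.ofMul (a / t)) = 0 := by
  obtain ⟨T₀, h1, h2⟩ := exists_section_aux f
  refine ⟨{ carrier := {x | Additive.ofMul x ∈ T₀}
            mul_mem' := fun {a b} ha hb => T₀.add_mem ha hb
            one_mem' := T₀.zero_mem
            inv_mem' := fun {a} ha => T₀.neg_mem ha }, ?_, ?_⟩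
  · intro t ht hft
    have := h1 (Additive.ofMul t) ht hft
    exact this
  · intro a
    obtain ⟨t, ht, hft⟩ := h2 (Additive.ofMul a)
    refine ⟨Additive.toMul t, ht, ?_⟩
    exact hft

end Split

section Compl

variable {Q : Type u} [Group Q] [Finite Q]

/-- inside any subgroup of `ker(E → Q)` the intersection with `E'` has a complement -/
theorem exists_compl (N₀ : Subgroup (extE Q)) (hN : N₀ ≤ (pE (Q := Q)).ker) :
    ∃ T : Subgroup (extE Q), T ≤ N₀ ∧ (∀ t ∈ T, t ∈ commutator (extE Q) → t = 1) ∧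
      ∀ x ∈ N₀, ∃ t ∈ T, x * t⁻¹ ∈ commutator (extE Q) := by
  classical
  letI : CommGroup N₀ :=
    { (inferInstance : Group N₀) with
      mul_comm := fun a b => by
        apply Subtype.ext
        have h1 := pE_ker_le_center (hN a.2)
        exact (Subgroup.mem_center_iff.mp h1 b.1).symm }
  let g : N₀ →* Abelianization (FreeGroup Q) := theta.comp N₀.subtype
  let f₀ : Additive N₀ →+ FreeAbelianGroup Q := MonoidHom.toAdditive g
  let f : Additive N₀ →+ (Q →₀ ℤ) := (FreeAbelianGroup.equivFinsupp Q).toAddMonoidHom.comp f₀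
  have hf : ∀ x : N₀, f (Additive.ofMul x) = 0 ↔ (x : extE Q) ∈ commutator (extE Q) := by
    intro x
    rw [← theta_ker, MonoidHom.mem_ker]
    show (FreeAbelianGroup.equivFinsupp Q) (f₀ (Additive.ofMul x)) = 0 ↔ _
    rw [AddEquiv.map_eq_zero_iff]
    rfl
  obtain ⟨T, h1, h2⟩ := exists_compl_aux f
  refine ⟨T.map N₀.subtype, ?_, ?_, ?_⟩
  · rintro _ ⟨t, -, rfl⟩
    exact t.2
  · rintro _ ⟨t, ht, rfl⟩ htc
    have := h1 t ht ((hf t).mpr htc)
    rw [this]
    rfl
  · intro x hx
    obtain ⟨t, ht, hft⟩ := h2 ⟨x, hx⟩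
    refine ⟨t, ⟨t, ht, rfl⟩, ?_⟩
    have h3 := (hf _).mp hft
    rw [div_eq_mul_inv] at h3
    exact h3

instance finite_mult : Finite (mult Q) := by
  haveI : Finite ↥(commutator (extE Q)) :=
    finite_commutator (pE (Q := Q)) pE_surjective pE_ker_le_center
  exact Finite.of_injective (Subgroup.inclusion (inf_le_right : mult Q ≤ commutator (extE Q)))
    (Subgroup.inclusion_injective _)

/-- a complement of the multiplier in `ker(E → Q)` gives a Schur cover of `Q` -/
theorem exists_cover_of_compl (T : Subgroup (extE Q)) (hT : T ≤ (pE (Q := Q)).ker)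
    (hT1 : ∀ t ∈ T, t ∈ commutator (extE Q) → t = 1)
    (hT2 : ∀ x ∈ (pE (Q := Q)).ker, ∃ t ∈ T, x * t⁻¹ ∈ commutator (extE Q))
    {X : Type w} [Group X] (φ : extE Q →* X) (hφT : T ≤ φ.ker) :
    ∃ (Γ : Type u) (_ : Group Γ) (_ : Finite Γ) (σ : Γ →* Q), IsStemExtension σ ∧
      Nonempty (σ.ker ≃* mult Q) ∧
      ∃ (mkT : extE Q →* Γ) (β : Γ →* X), Function.Surjective mkT ∧ σ.comp mkT = pE ∧
        β.comp mkT = φ := by
  classical
  haveI hTn : T.Normal := by
    constructor
    intro x hx g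
    have hc := Subgroup.mem_center_iff.mp (pE_ker_le_center (hT hx)) g
    have e : g * x * g⁻¹ = x := by rw [hc]; group
    rw [e]
    exact hx
  let σ : extE Q ⧸ T →* Q := QuotientGroup.lift T pE hT
  have hσmk : ∀ e : extE Q, σ (QuotientGroup.mk e) = pE e := fun e => rfl
  have hcomm : (commutator (extE Q)).map (QuotientGroup.mk' T) ≤ commutator (extE Q ⧸ T) :=
    map_commutator_le _
  have hstem : IsStemExtension σ := by
    refine ⟨?_, ?_, ?_⟩
    · intro q
      obtain ⟨e, he⟩ := pE_surjective q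
      exact ⟨QuotientGroup.mk e, he⟩
    · intro y hy
      obtain ⟨e, rfl⟩ := QuotientGroup.mk_surjective y
      rw [MonoidHom.mem_ker, hσmk] at hy
      have hc := pE_ker_le_center (MonoidHom.mem_ker.mpr hy)
      rw [Subgroup.mem_center_iff]
      intro y'
      obtain ⟨e', rfl⟩ := QuotientGroup.mk_surjective y'
      rw [← QuotientGroup.mk_mul, ← QuotientGroup.mk_mul, Subgroup.mem_center_iff.mp hc e']
    · intro y hy
      obtain ⟨e, rfl⟩ := QuotientGroup.mk_surjective y
      rw [MonoidHom.mem_ker, hσmk] at hy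
      obtain ⟨t, ht, htc⟩ := hT2 e (MonoidHom.mem_ker.mpr hy)
      have h1 : (QuotientGroup.mk e : extE Q ⧸ T) = QuotientGroup.mk (e * t⁻¹) := by
        rw [QuotientGroup.eq]
        have : e⁻¹ * (e * t⁻¹) = t⁻¹ := by group
        rw [this]
        exact T.inv_mem ht
      rw [h1]
      exact hcomm ⟨e * t⁻¹, htc, rfl⟩
  -- the kernel
  let j : mult Q →* σ.ker :=
    { toFun := fun m => ⟨QuotientGroup.mk (m : extE Q), by
        rw [MonoidHom.mem_ker, hσmk]
        exact ((mem_mult _).mp m.2).1⟩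
      map_one' := rfl
      map_mul' := fun a b => rfl }
  have hjinj : Function.Injective j := by
    rw [injective_iff_map_eq_one]
    intro m hm
    have h1 : (QuotientGroup.mk (m : extE Q) : extE Q ⧸ T) = 1 := congrArg Subtype.val hm
    rw [QuotientGroup.eq_one_iff] at h1
    apply Subtype.ext
    exact hT1 _ h1 ((mem_mult _).mp m.2).2
  have hjsurj : Function.Surjective j := by
    intro y
    obtain ⟨e, he⟩ := QuotientGroup.mk_surjective (y : extE Q ⧸ T)
    have hy : pE e = 1 := by
      have := MonoidHom.mem_ker.mp y.2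
      rw [← he, hσmk] at this
      exact this
    obtain ⟨t, ht, htc⟩ := hT2 e (MonoidHom.mem_ker.mpr hy)
    have hm : e * t⁻¹ ∈ mult Q := by
      rw [mem_mult]
      refine ⟨?_, htc⟩
      rw [map_mul, map_inv, hy, MonoidHom.mem_ker.mp (hT ht), inv_one, mul_one]
    refine ⟨⟨e * t⁻¹, hm⟩, ?_⟩
    apply Subtype.ext
    show (QuotientGroup.mk (e * t⁻¹) : extE Q ⧸ T) = y
    rw [← he, eq_comm, QuotientGroup.eq]
    have : e⁻¹ * (e * t⁻¹) = t⁻¹ := by group
    rw [this]
    exact T.inv_mem ht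
  let ej : mult Q ≃* σ.ker := MulEquiv.ofBijective j ⟨hjinj, hjsurj⟩
  haveI : Finite σ.ker := Finite.of_equiv _ ej.toEquiv
  haveI : Finite (extE Q ⧸ T) := Cfsg.Agent.Helper24.finite_of_finite_ker σ inferInstance
  refine ⟨extE Q ⧸ T, inferInstance, inferInstance, σ, hstem, ⟨ej.symm⟩,
    QuotientGroup.mk' T, QuotientGroup.lift T φ hφT, QuotientGroup.mk'_surjective T, ?_, ?_⟩
  · apply MonoidHom.ext
    intro e
    rfl
  · apply MonoidHom.ext
    intro e
    rfl

/-- a Schur cover of `Q` with kernel the multiplier -/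
theorem exists_cover :
    ∃ (Γ : Type u) (_ : Group Γ) (_ : Finite Γ) (σ : Γ →* Q), IsStemExtension σ ∧
      Nonempty (σ.ker ≃* mult Q) := by
  obtain ⟨T, hT, hT1, hT2⟩ := exists_compl (pE (Q := Q)).ker le_rfl
  obtain ⟨Γ, i1, i2, σ, hσ, he, -⟩ := exists_cover_of_compl T hT hT1 hT2 (pE (Q := Q)) hT
  exact ⟨Γ, i1, i2, σ, hσ, he⟩

/-- the homomorphism from the multiplier onto `ker ∩ X'` of a central extension -/
theorem exists_mult_surjection {X : Type w} [Group X] (ξ : X →* Q) (hξ : Function.Surjective ξ)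
    (hk : ξ.ker ≤ Subgroup.center X) :
    ∃ π : mult Q →* ↥(ξ.ker ⊓ commutator X), Function.Surjective π := by
  obtain ⟨φ, hφ⟩ := exists_hom_of_central ξ hξ hk
  refine ⟨{ toFun := fun m => ⟨φ (m : extE Q), map_mult_mem ξ φ hφ m m.2⟩
            map_one' := Subtype.ext (map_one φ)
            map_mul' := fun a b => Subtype.ext (map_mul φ (a : extE Q) (b : extE Q)) }, ?_⟩
  intro z
  obtain ⟨m, hm, hmz⟩ := exists_mult_preimage ξ hk φ hφ z z.2.1 z.2.2
  exact ⟨⟨m, hm⟩, Subtype.ext hmz⟩

/-- the abstract Schur multiplier is the multiplier of `E` -/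
theorem equiv_mult_of_hasSchurMultiplier {A : Type v} [CommGroup A]
    (hA : HasSchurMultiplier Q A) : Nonempty (A ≃* mult Q) := by
  obtain ⟨⟨ΓA, i1, i2, σA, hσA, ⟨eA⟩⟩, huniv⟩ := hA
  obtain ⟨Γ₀, j1, j2, σ₀, hσ₀, ⟨e₀⟩⟩ := exists_cover (Q := Q)
  obtain ⟨π, hπ⟩ := huniv Γ₀ σ₀ hσ₀
  haveI : Finite σA.ker := inferInstance
  haveI : Finite A := Finite.of_equiv _ eA.toEquiv
  -- a surjection the other way
  obtain ⟨π', hπ'⟩ := exists_mult_surjection σA hσA.1 hσA.2.1
  have hle : σA.ker ⊓ commutator ΓA = σA.ker := inf_eq_left.mpr hσA.2.2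
  have hcard1 : Nat.card ↥(σA.ker ⊓ commutator ΓA) = Nat.card A := by
    rw [hle]
    exact Nat.card_congr eA.toEquiv
  have hcard2 : Nat.card A ≤ Nat.card (mult Q) := by
    rw [← hcard1]
    exact Nat.card_le_card_of_surjective π' hπ'
  let g : A →* mult Q := e₀.toMonoidHom.comp π
  have hg : Function.Surjective g := e₀.surjective.comp hπ
  exact ⟨MulEquiv.ofBijective g (hg.bijective_of_nat_card_le hcard2)⟩

/-- the abstract multiplier maps onto `ker ∩ X'` of any central extension -/
theorem exists_surjection_of_hasSchurMultiplier {A : Type v} [CommGroup A]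
    (hA : HasSchurMultiplier Q A) {X : Type w} [Group X] (ξ : X →* Q)
    (hξ : Function.Surjective ξ) (hk : ξ.ker ≤ Subgroup.center X) :
    ∃ π : A →* ↥(ξ.ker ⊓ commutator X), Function.Surjective π := by
  obtain ⟨e⟩ := equiv_mult_of_hasSchurMultiplier hA
  obtain ⟨π, hπ⟩ := exists_mult_surjection ξ hξ hk
  exact ⟨π.comp e.toMonoidHom, hπ.comp e.surjective⟩

end Compl

end Cfsg.Agent.Helper8.Hopf
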