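import Mathlib
import Cfsg.Prelude.Def_Characters
import Cfsg.Agent.Helper24.Frobenius
import Cfsg.Agent.Helper24.Span
import Cfsg.Agent.Helper24.ColumnOrth
import Cfsg.Agent.Helper24.Expansion

/-!
Characters of a group `N` with a normal subgroup `K` such that no element outside `K`
commutes with a nonidentity element of `K` (a Frobenius kernel).
-/

set_option autoImplicit false

namespace Cfsg.Agent.Helper8.FrobKer

open Cfsg Cfsg.Agent.Helper24

variable {N : Type*} [Group N] [Fintype N] (K : Subgroup N)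

open Classical in
/-- indicator of `K` -/
noncomputable def indK (g : N) : ℂ := if g ∈ K then 1 else 0

omit [Fintype N] in
theorem indK_mem {g : N} (h : g ∈ K) : indK K g = 1 := by
  classical
  rw [indK, if_pos h]

omit [Fintype N] in
theorem indK_not_mem {g : N} (h : g ∉ K) : indK K g = 0 := by
  classical
  rw [indK, if_neg h]

omit [Fintype N] in
theorem indK_isClassFunction [hK : K.Normal] : IsClassFunction N (indK K) := by
  classical
  intro g h
  by_cases hg : g ∈ K
  · rw [indK_mem K hg, indK_mem K (hK.conj_mem g hg h)]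
  · have : h * g * h⁻¹ ∉ K := by
      intro hh
      apply hg
      have := hK.conj_mem _ hh h⁻¹
      simpa [mul_assoc] using this
    rw [indK_not_mem K hg, indK_not_mem K this]

omit [Fintype N] in
theorem indK_mul_right {k : N} (hk : k ∈ K) (g : N) : indK K (g * k) = indK K g := by
  by_cases hg : g ∈ K
  · rw [indK_mem K hg, indK_mem K (K.mul_mem hg hk)]
  · have : g * k ∉ K := fun h => hg ((Subgroup.mul_mem_cancel_right K hk).mp h)
    rw [indK_not_mem K hg, indK_not_mem K this]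

theorem sum_indK : ∑ g : N, indK K g = (Nat.card K : ℂ) := by
  classical
  simp only [indK]
  rw [Finset.sum_boole, Nat.card_eq_fintype_card, Fintype.card_subtype]

/-- the `K`-trace of a function -/
noncomputable def tr (f : N → ℂ) (n : N) : ℂ := ∑ g : N, indK K g * f (g * n)

theorem tr_mul_left (f : N → ℂ) {k : N} (hk : k ∈ K) (n : N) : tr K f (k * n) = tr K f n := by
  unfold tr
  rw [← Equiv.sum_comp (Equiv.mulRight k⁻¹)]
  refine Finset.sum_congr rfl fun g _ => ?_
  rw [Equiv.coe_mulRight, indK_mul_right K (K.inv_mem hk)]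
  congr 2
  group

theorem tr_tr (f : N → ℂ) (n : N) : tr K (tr K f) n = (Nat.card K : ℂ) * tr K f n := by
  have : ∀ g : N, indK K g * tr K f (g * n) = indK K g * tr K f n := by
    intro g
    by_cases hg : g ∈ K
    · rw [tr_mul_left K f hg]
    · rw [indK_not_mem K hg, zero_mul, zero_mul]
  conv_lhs => rw [tr]
  simp_rw [this]
  rw [← Finset.sum_mul, sum_indK]

theorem tr_smul (c : ℂ) (f : N → ℂ) (n : N) : tr K (c • f) n = c * tr K f n := by
  unfold tr
  rw [Finset.mul_sum]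
  refine Finset.sum_congr rfl fun g _ => ?_
  rw [Pi.smul_apply, smul_eq_mul]
  ring

theorem irr_tr [hK : K.Normal] (χ : IrrCharacter N) (n : N) :
    (χ : N → ℂ) 1 * tr K (χ : N → ℂ) n = (χ : N → ℂ) n * tr K (χ : N → ℂ) 1 := by
  have := irr_sum_mul_char_mul χ (indK K) (indK_isClassFunction K) n
  unfold tr
  simp only [mul_one]
  exact this

/-- `χ` is not constant on `K` -/
def NonConst (χ : N → ℂ) : Prop := ∃ k ∈ K, χ k ≠ χ 1

theorem irr_dichotomy [hK : K.Normal] (χ : IrrCharacter N) :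
    tr K (χ : N → ℂ) 1 = 0 ∨ ∀ k ∈ K, (χ : N → ℂ) k = (χ : N → ℂ) 1 := by
  have hd : (χ : N → ℂ) 1 ≠ 0 := irr_one_ne_zero χ
  have hK0 : (Nat.card K : ℂ) ≠ 0 := by exact_mod_cast (Nat.card_pos (α := K)).ne'
  have h1 : ∀ n, tr K (χ : N → ℂ) n
      = (tr K (χ : N → ℂ) 1 / (χ : N → ℂ) 1) * (χ : N → ℂ) n := by
    intro n
    have := irr_tr K χ n
    rw [div_mul_eq_mul_div, eq_div_iff hd, mul_comm, this, mul_comm]
  have h2 : tr K (χ : N → ℂ) = (tr K (χ : N → ℂ) 1 / (χ : N → ℂ) 1) • (χ : N → ℂ) := by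
    funext n
    rw [h1 n, Pi.smul_apply, smul_eq_mul]
  have h3 := tr_tr K (χ : N → ℂ) 1
  have h3' : tr K (tr K (χ : N → ℂ)) 1
      = (tr K (χ : N → ℂ) 1 / (χ : N → ℂ) 1) * tr K (χ : N → ℂ) 1 := by
    conv_lhs => rw [h2]
    rw [tr_smul]
  rw [h3'] at h3
  have h4 : tr K (χ : N → ℂ) 1 *
      (tr K (χ : N → ℂ) 1 - (Nat.card K : ℂ) * (χ : N → ℂ) 1) = 0 := by
    have h5 : tr K (χ : N → ℂ) 1 * tr K (χ : N → ℂ) 1
        = (Nat.card K : ℂ) * tr K (χ : N → ℂ) 1 * (χ : N → ℂ) 1 := by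
      rw [← h3]
      field_simp
    linear_combination h5
  rcases mul_eq_zero.mp h4 with h | h
  · left; exact h
  · right
    intro k hk
    have hs' : tr K (χ : N → ℂ) 1 = (Nat.card K : ℂ) * (χ : N → ℂ) 1 := sub_eq_zero.mp h
    have h5 : ∀ n, tr K (χ : N → ℂ) n = (Nat.card K : ℂ) * (χ : N → ℂ) n := by
      intro n
      rw [h1 n, hs']
      field_simp
    have h6 := tr_mul_left K (χ : N → ℂ) hk 1
    rw [mul_one, h5, h5] at h6
    exact mul_left_cancel₀ hK0 h6

theorem tr_one_eq_zero [hK : K.Normal] (χ : IrrCharacter N) (h : NonConst K (χ : N → ℂ)) :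
    tr K (χ : N → ℂ) 1 = 0 := by
  rcases irr_dichotomy K χ with h1 | h1
  · exact h1
  · obtain ⟨k, hk, hne⟩ := h
    exact absurd (h1 k hk) hne

theorem tr_eq_zero [hK : K.Normal] (χ : IrrCharacter N) (h : NonConst K (χ : N → ℂ)) (n : N) :
    tr K (χ : N → ℂ) n = 0 := by
  have h1 := irr_tr K χ n
  rw [tr_one_eq_zero K χ h, mul_zero] at h1
  rcases mul_eq_zero.mp h1 with h2 | h2
  · exact absurd h2 (irr_one_ne_zero χ)
  · exact h2

/-- sum of `χ` over `K` vanishes -/
theorem sum_indK_mul [hK : K.Normal] (χ : IrrCharacter N) (h : NonConst K (χ : N → ℂ)) :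
    ∑ g : N, indK K g * (χ : N → ℂ) g = 0 := by
  have := tr_one_eq_zero K χ h
  unfold tr at this
  simpa only [mul_one] using this

theorem sum_indK_mul_of_const (χ : N → ℂ) (h : ¬ NonConst K χ) :
    ∑ g : N, indK K g * χ g = (Nat.card K : ℂ) * χ 1 := by
  unfold NonConst at h
  push Not at h
  have : ∀ g : N, indK K g * χ g = indK K g * χ 1 := by
    intro g
    by_cases hg : g ∈ K
    · rw [h g hg]
    · rw [indK_not_mem K hg, zero_mul, zero_mul]
  simp_rw [this]
  rw [← Finset.sum_mul, sum_indK]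

/-- Frobenius kernels: characters are constant on cosets outside the kernel. -/
theorem coset_const [hK : K.Normal] (hF : ∀ n : N, n ∉ K → ∀ k ∈ K, k * n = n * k → k = 1)
    (f : N → ℂ) (hf : IsClassFunction N f) {n : N} (hn : n ∉ K) {k : N} (hk : k ∈ K) :
    f (k * n) = f n := by
  obtain ⟨c, _, hc⟩ := exists_mem_conj_of_fixedPointFree K n (hF n hn) k hk
  rw [hc]
  exact hf n c

/-- Frobenius kernels: nonconstant irreducible characters vanish outside the kernel. -/
theorem vanish_off [hK : K.Normal] (hF : ∀ n : N, n ∉ K → ∀ k ∈ K, k * n = n * k → k = 1)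
    (χ : IrrCharacter N) (h : NonConst K (χ : N → ℂ)) {n : N} (hn : n ∉ K) :
    (χ : N → ℂ) n = 0 := by
  have h1 := tr_eq_zero K χ h n
  have h2 : tr K (χ : N → ℂ) n = (Nat.card K : ℂ) * (χ : N → ℂ) n := by
    unfold tr
    have : ∀ g : N, indK K g * (χ : N → ℂ) (g * n) = indK K g * (χ : N → ℂ) n := by
      intro g
      by_cases hg : g ∈ K
      · rw [coset_const K hF _ (isClassFunction_irr χ) hn hg]
      · rw [indK_not_mem K hg, zero_mul, zero_mul]
    simp_rw [this]
    rw [← Finset.sum_mul, sum_indK]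
  rw [h2] at h1
  have hK0 : (Nat.card K : ℂ) ≠ 0 := by exact_mod_cast (Nat.card_pos (α := K)).ne'
  rcases mul_eq_zero.mp h1 with h3 | h3
  · exact absurd h3 hK0
  · exact h3

section Sums

variable [Fintype (IrrCharacter N)]

omit [Fintype (IrrCharacter N)] [Fintype N] in
theorem conj_irr_one (ψ : IrrCharacter N) :
    (starRingEnd ℂ) ((ψ : N → ℂ) 1) = (ψ : N → ℂ) 1 := by
  rw [irrDeg_spec, map_natCast]

omit [Fintype N] [Fintype (IrrCharacter N)] in
theorem conj_indK (g : N) : (starRingEnd ℂ) (indK K g) = indK K g := by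
  by_cases hg : g ∈ K
  · rw [indK_mem K hg, map_one]
  · rw [indK_not_mem K hg, map_zero]

omit [Fintype (IrrCharacter N)] [Fintype N] in
theorem card_mul_index_complex : (Nat.card K : ℂ) * (K.index : ℂ) = (Nat.card N : ℂ) := by
  exact_mod_cast K.card_mul_index

omit [Fintype (IrrCharacter N)] in
open Classical in
theorem classInner_indK [hK : K.Normal] (ψ : IrrCharacter N) :
    classInner ((K.index : ℂ) • indK K) (ψ : N → ℂ)
      = if NonConst K (ψ : N → ℂ) then 0 else (ψ : N → ℂ) 1 := by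
  have hK0 : (Nat.card K : ℂ) ≠ 0 := by exact_mod_cast (Nat.card_pos (α := K)).ne'
  have hI0 : (K.index : ℂ) ≠ 0 := by
    have : K.index ≠ 0 := Subgroup.index_ne_zero_of_finite
    exact_mod_cast this
  have h1 : ∑ g : N, ((K.index : ℂ) • indK K) g * (starRingEnd ℂ) ((ψ : N → ℂ) g)
      = (K.index : ℂ) * (starRingEnd ℂ) (∑ g : N, indK K g * (ψ : N → ℂ) g) := by
    rw [map_sum, Finset.mul_sum]
    refine Finset.sum_congr rfl fun g _ => ?_
    rw [map_mul, conj_indK, Pi.smul_apply, smul_eq_mul]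
    ring
  unfold classInner
  rw [h1]
  by_cases h : NonConst K (ψ : N → ℂ)
  · rw [if_pos h, sum_indK_mul K ψ h, map_zero, mul_zero, mul_zero]
  · rw [if_neg h, sum_indK_mul_of_const K _ h, map_mul, map_natCast, conj_irr_one,
      ← card_mul_index_complex K]
    field_simp

open Classical in
/-- `∑_{ψ constant on K} ψ(1) ψ(n) = |N : K| [n ∈ K]` -/
theorem sum_const [hK : K.Normal] (n : N) :
    ∑ ψ : IrrCharacter N,
      (if NonConst K (ψ : N → ℂ) then 0 else (ψ : N → ℂ) 1 * (ψ : N → ℂ) n)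
      = (K.index : ℂ) * indK K n := by
  have hcf : IsClassFunction N ((K.index : ℂ) • indK K) :=
    isClassFunction_smul _ (indK_isClassFunction K)
  have h1 := congrFun (IsClassFunction.eq_sum_classInner hcf) n
  rw [Pi.smul_apply, smul_eq_mul, Finset.sum_apply] at h1
  rw [h1]
  refine Finset.sum_congr rfl fun ψ _ => ?_
  rw [Pi.smul_apply, smul_eq_mul, classInner_indK]
  by_cases h : NonConst K (ψ : N → ℂ)
  · rw [if_pos h, if_pos h, zero_mul]
  · rw [if_neg h, if_neg h]

open Classical in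
/-- `∑_{ψ nonconstant on K} ψ(1) ψ(k) = -|N : K|` for `1 ≠ k ∈ K` -/
theorem sum_nonconst [hK : K.Normal] {k : N} (hk : k ∈ K) (hk1 : k ≠ 1) :
    ∑ ψ : IrrCharacter N,
      (if NonConst K (ψ : N → ℂ) then (ψ : N → ℂ) 1 * (ψ : N → ℂ) k else 0)
      = -(K.index : ℂ) := by
  have h1 := sum_irr_mul_conj (G := N) k 1
  have hnc : ¬ IsConj k 1 := by
    rw [isConj_one_left]; exact hk1
  rw [if_neg hnc] at h1
  have h2 := sum_const K k
  rw [indK_mem K hk, mul_one] at h2
  have h3 : ∑ ψ : IrrCharacter N, (ψ : N → ℂ) k * (starRingEnd ℂ) ((ψ : N → ℂ) 1)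
      = ∑ ψ : IrrCharacter N,
          (if NonConst K (ψ : N → ℂ) then (ψ : N → ℂ) 1 * (ψ : N → ℂ) k else 0)
        + ∑ ψ : IrrCharacter N,
          (if NonConst K (ψ : N → ℂ) then 0 else (ψ : N → ℂ) 1 * (ψ : N → ℂ) k) := by
    rw [← Finset.sum_add_distrib]
    refine Finset.sum_congr rfl fun ψ _ => ?_
    rw [conj_irr_one]
    by_cases h : NonConst K (ψ : N → ℂ)
    · rw [if_pos h, if_pos h, add_zero, mul_comm]
    · rw [if_neg h, if_neg h, zero_add, mul_comm]
  rw [h3, h2] at h1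
  linear_combination h1

open Classical in
/-- A class function whose coefficients on the nonconstant characters are proportional to
the degrees is constant on `K ∖ 1`. -/
theorem const_on_kernel [hK : K.Normal] (Δ : N → ℂ) (hΔ : IsClassFunction N Δ)
    (hprop : ∀ ξ ζ : IrrCharacter N, NonConst K (ξ : N → ℂ) → NonConst K (ζ : N → ℂ) →
      (ζ : N → ℂ) 1 * classInner Δ (ξ : N → ℂ) = (ξ : N → ℂ) 1 * classInner Δ (ζ : N → ℂ))
    {k₁ k₂ : N} (h₁ : k₁ ∈ K) (h₁' : k₁ ≠ 1) (h₂ : k₂ ∈ K) (h₂' : k₂ ≠ 1) : Δ k₁ = Δ k₂ := by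
  have hexp := IsClassFunction.eq_sum_classInner hΔ
  have hval : ∀ k ∈ K, Δ k = ∑ ψ : IrrCharacter N,
        (if NonConst K (ψ : N → ℂ) then classInner Δ (ψ : N → ℂ) * (ψ : N → ℂ) k else 0)
      + ∑ ψ : IrrCharacter N,
        (if NonConst K (ψ : N → ℂ) then 0 else classInner Δ (ψ : N → ℂ) * (ψ : N → ℂ) 1) := by
    intro k hk
    have h1 := congrFun hexp k
    rw [Finset.sum_apply] at h1
    rw [h1, ← Finset.sum_add_distrib]
    refine Finset.sum_congr rfl fun ψ _ => ?_
    rw [Pi.smul_apply, smul_eq_mul]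
    by_cases h : NonConst K (ψ : N → ℂ)
    · rw [if_pos h, if_pos h, add_zero]
    · rw [if_neg h, if_neg h, zero_add]
      unfold NonConst at h
      push Not at h
      rw [h k hk]
  have hpart : ∀ k ∈ K, k ≠ 1 → ∀ ξ₀ : IrrCharacter N, NonConst K (ξ₀ : N → ℂ) →
      ∑ ψ : IrrCharacter N,
        (if NonConst K (ψ : N → ℂ) then classInner Δ (ψ : N → ℂ) * (ψ : N → ℂ) k else 0)
      = classInner Δ (ξ₀ : N → ℂ) / (ξ₀ : N → ℂ) 1 * (-(K.index : ℂ)) := by
    intro k hk hk1 ξ₀ hξ₀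
    rw [← sum_nonconst K hk hk1, Finset.mul_sum]
    refine Finset.sum_congr rfl fun ψ _ => ?_
    by_cases h : NonConst K (ψ : N → ℂ)
    · rw [if_pos h, if_pos h]
      have h0 := irr_one_ne_zero ξ₀
      have := hprop ψ ξ₀ h hξ₀
      field_simp
      linear_combination ((ψ : N → ℂ) k) * this
    · rw [if_neg h, if_neg h, mul_zero]
  rw [hval k₁ h₁, hval k₂ h₂]
  congr 1
  by_cases hex : ∃ ξ₀ : IrrCharacter N, NonConst K (ξ₀ : N → ℂ)
  · obtain ⟨ξ₀, hξ₀⟩ := hex
    rw [hpart k₁ h₁ h₁' ξ₀ hξ₀, hpart k₂ h₂ h₂' ξ₀ hξ₀]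
  · push Not at hex
    refine Finset.sum_congr rfl fun ψ _ => ?_
    rw [if_neg (hex ψ), if_neg (hex ψ)]

end Sums

end Cfsg.Agent.Helper8.FrobKer
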