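import Mathlib
import Cfsg.Prelude.Def_Characters
import Cfsg.Agent.Helper8.FrobKernel
import Cfsg.Agent.Helper8.Ind
import Cfsg.Agent.Helper24.Generalized
import Cfsg.Agent.Helper24.SmallDegree
import Cfsg.Agent.Helper24.Linear

/-!
Frobenius kernels, second part: induced characters and integrality.
-/

set_option autoImplicit false

namespace Cfsg.Agent.Helper8.FrobKer

open Cfsg Cfsg.Agent.Helper24

section Induced

variable {N : Type*} [Group N] [Fintype N] (K : Subgroup N)

/-- Frobenius kernels: a nonprincipal irreducible character of the kernel induces irreducibly. -/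
theorem isIrr_ind [hK : K.Normal] (hF : ∀ n : N, n ∉ K → ∀ k ∈ K, k * n = n * k → k = 1)
    (τ : K → ℂ) (hτ : IsIrrCharacter K τ) (hτ1 : τ ≠ fun _ => 1) :
    IsIrrCharacter N (indFun K τ) := by
  classical
  haveI : Fintype (IrrCharacter N) := Fintype.ofFinite _
  refine IsCharacter.isIrrCharacter_of_classInner_self
    (isCharacter_indFun K (IsIrrCharacter.isCharacter hτ)) ?_
  have hmain := card_mul_classInner_indFun_self K τ hτ
  have hstab : Nat.card {g : N // ∀ k : K, τ ⟨g * k * g⁻¹, hK.conj_mem k k.2 g⟩ = τ k} =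
      Nat.card K := by
    refine Nat.card_congr (Equiv.subtypeEquivRight ?_)
    intro g
    have hcf : IsClassFunction K τ := IsCharacter.isClassFunction (IsIrrCharacter.isCharacter hτ)
    constructor
    · intro hg
      by_contra hgK
      have hg' : conjFun K τ g = τ := by
        funext k; exact hg k
      have := irr_fixed_eq_trivIrr_of_fixedPointFree K g (hF g hgK) ⟨τ, hτ⟩ hg'
      apply hτ1
      exact congrArg Subtype.val this
    · intro hg k
      have := hcf k ⟨g, hg⟩
      convert this using 2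
      apply Subtype.ext
      simp
  rw [hstab] at hmain
  have hK0 : (Nat.card K : ℂ) ≠ 0 := by exact_mod_cast (Nat.card_pos (α := K)).ne'
  exact mul_left_cancel₀ hK0 (by rw [hmain, mul_one])

theorem ind_one [hK : K.Normal] (τ : K → ℂ) :
    indFun K τ 1 = (K.index : ℂ) * τ 1 := by
  change indFun K τ ((1 : K) : N) = _
  rw [indFun_normal_apply K τ (1 : K)]
  have : ∀ x : N, τ ⟨x * ((1 : K) : N) * x⁻¹, hK.conj_mem _ (1 : K).2 x⟩ = τ 1 := by
    intro x
    congr 1
    apply Subtype.ext
    simp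
  simp_rw [this]
  rw [Finset.sum_const, Finset.card_univ, nsmul_eq_mul, ← Nat.card_eq_fintype_card,
    ← card_mul_index_complex K]
  have hK0 : (Nat.card K : ℂ) ≠ 0 := by exact_mod_cast (Nat.card_pos (α := K)).ne'
  field_simp

/-- an induced nonprincipal irreducible character is not constant on the kernel -/
theorem ind_nonConst [hK : K.Normal] (hF : ∀ n : N, n ∉ K → ∀ k ∈ K, k * n = n * k → k = 1)
    (τ : K → ℂ) (hτ : IsIrrCharacter K τ) (hτ1 : τ ≠ fun _ => 1) :
    NonConst K (indFun K τ) := by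
  classical
  by_contra hcon
  unfold NonConst at hcon
  push Not at hcon
  haveI : Fintype K := Fintype.ofFinite _
  have hirr := isIrr_ind K hF τ hτ hτ1
  have h1 : classInner (indFun K τ) (indFun K τ) = 1 := classInner_irr_self ⟨_, hirr⟩
  rw [frobenius_reciprocity K τ _ (indFun_isClassFunction K τ)] at h1
  have h2 : (fun k : K => indFun K τ (k : N)) = (indFun K τ 1) • (fun _ : K => (1 : ℂ)) := by
    funext k
    rw [hcon k k.2, Pi.smul_apply, smul_eq_mul, mul_one]
  rw [h2, classInner_smul_right] at h1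
  have h3 : classInner τ (fun _ : K => (1 : ℂ)) = 0 := by
    have := classInner_of_isIrrCharacter hτ (trivIrr K).2
    change classInner τ ((trivIrr K : IrrCharacter K) : K → ℂ) = 0
    rw [this, if_neg]
    exact hτ1
  rw [h3, mul_zero] at h1
  exact zero_ne_one h1

end Induced

section Gcd

variable {K : Type*} [Group K] [Fintype K]

/-- the degrees of the nonprincipal irreducible characters generate the unit ideal -/
theorem one_mem_span_deg [Nontrivial K] [Fintype (IrrCharacter K)] :
    (1 : ℤ) ∈ Ideal.span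
      (Set.range fun θ : {θ : IrrCharacter K // θ ≠ trivIrr K} => (irrDeg θ.1 : ℤ)) := by
  classical
  set I := Ideal.span
      (Set.range fun θ : {θ : IrrCharacter K // θ ≠ trivIrr K} => (irrDeg θ.1 : ℤ)) with hI
  rw [Submodule.IsPrincipal.mem_iff_generator_dvd I]
  set d := Submodule.IsPrincipal.generator I with hd
  have hdvd : ∀ θ : IrrCharacter K, θ ≠ trivIrr K → d ∣ (irrDeg θ : ℤ) := by
    intro θ hθ
    rw [← Submodule.IsPrincipal.mem_iff_generator_dvd I]
    exact Ideal.subset_span ⟨⟨θ, hθ⟩, rfl⟩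
  have hsum := sum_irrDeg_sq (G := K)
  rw [← Finset.add_sum_erase Finset.univ _ (Finset.mem_univ (trivIrr K))] at hsum
  have htriv : irrDeg (trivIrr K) = 1 := by
    have := irrDeg_spec (trivIrr K)
    rw [trivIrr_apply] at this
    exact_mod_cast this.symm
  rw [htriv] at hsum
  have hsumZ : (1 : ℤ) + ∑ θ ∈ Finset.univ.erase (trivIrr K), (irrDeg θ : ℤ) ^ 2
      = (Nat.card K : ℤ) := by
    exact_mod_cast hsum
  have h1 : d ∣ ∑ θ ∈ Finset.univ.erase (trivIrr K), (irrDeg θ : ℤ) ^ 2 := by
    refine Finset.dvd_sum fun θ hθ => ?_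
    exact Dvd.dvd.pow (hdvd θ (Finset.ne_of_mem_erase hθ)) two_ne_zero
  have hex : ∃ θ : IrrCharacter K, θ ≠ trivIrr K := by
    by_contra hne
    push Not at hne
    have : Finset.univ.erase (trivIrr K) = ∅ := by
      rw [Finset.eq_empty_iff_forall_notMem]
      intro θ hθ
      exact Finset.ne_of_mem_erase hθ (hne θ)
    rw [this, Finset.sum_empty] at hsum
    have h2 : 1 < Nat.card K := Finite.one_lt_card
    omega
  obtain ⟨θ₀, hθ₀⟩ := hex
  have h2 : d ∣ (Nat.card K : ℤ) :=
    (hdvd θ₀ hθ₀).trans (by exact_mod_cast irrDeg_dvd_card θ₀)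
  rw [← hsumZ] at h2
  exact (Int.dvd_add_left h1).mp h2

/-- a complex number whose products with all nonprincipal degrees are integers is an integer -/
theorem int_of_mul_deg [Nontrivial K] (x : ℂ)
    (h : ∀ θ : IrrCharacter K, θ ≠ trivIrr K → ∃ w : ℤ, x * (θ : K → ℂ) 1 = w) :
    ∃ w : ℤ, x = w := by
  haveI : Fintype (IrrCharacter K) := Fintype.ofFinite _
  have key : ∀ z ∈ Ideal.span
      (Set.range fun θ : {θ : IrrCharacter K // θ ≠ trivIrr K} => (irrDeg θ.1 : ℤ)),
      ∃ w : ℤ, x * (z : ℂ) = w := by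
    intro z hz
    induction hz using Submodule.span_induction with
    | mem y hy =>
      obtain ⟨θ, rfl⟩ := hy
      obtain ⟨w, hw⟩ := h θ.1 θ.2
      refine ⟨w, ?_⟩
      rw [← hw, irrDeg_spec]
      push_cast
      rfl
    | zero => exact ⟨0, by simp⟩
    | add a b _ _ ha hb =>
      obtain ⟨wa, hwa⟩ := ha
      obtain ⟨wb, hwb⟩ := hb
      refine ⟨wa + wb, ?_⟩
      push_cast
      rw [mul_add, hwa, hwb]
    | smul c a _ ha =>
      obtain ⟨wa, hwa⟩ := ha
      refine ⟨c * wa, ?_⟩
      rw [smul_eq_mul]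
      push_cast
      rw [← hwa]
      ring
  obtain ⟨w, hw⟩ := key 1 one_mem_span_deg
  exact ⟨w, by simpa using hw⟩

end Gcd

section IntConst

variable {N : Type*} [Group N] [Fintype N] (K : Subgroup N)

omit [Fintype N] in
/-- a generalized character that is constant on `K ∖ 1` takes an integer value there -/
theorem int_of_const [Finite N] (hK1 : ∃ k ∈ K, k ≠ 1) (Δ : N → ℂ)
    (hΔ : IsGeneralizedCharacter N Δ) (d : ℂ) (hd : ∀ k ∈ K, k ≠ 1 → Δ k = d) :
    ∃ w : ℤ, d = w := by
  classical
  obtain ⟨k₀, hk₀, hk₀1⟩ := hK1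
  haveI : Nontrivial K := ⟨⟨⟨k₀, hk₀⟩, 1, fun h => hk₀1 (congrArg Subtype.val h)⟩⟩
  haveI : Fintype K := Fintype.ofFinite _
  haveI : Fintype (IrrCharacter K) := Fintype.ofFinite _
  have hR : IsGeneralizedCharacter K (fun k : K => Δ k) := IsGeneralizedCharacter.restrict hΔ K
  have hK0 : (Nat.card K : ℂ) ≠ 0 := by exact_mod_cast (Nat.card_pos (α := K)).ne'
  have key : ∀ θ : IrrCharacter K, classInner (fun k : K => Δ k) (θ : K → ℂ)
      = ((Δ 1 - d) / (Nat.card K : ℂ)) * (θ : K → ℂ) 1
        + d * classInner ((trivIrr K : IrrCharacter K) : K → ℂ) (θ : K → ℂ) := by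
    intro θ
    unfold classInner
    have h1 : ∀ k : K, Δ (k : N) * (starRingEnd ℂ) ((θ : K → ℂ) k)
        = d * ((trivIrr K : K → ℂ) k * (starRingEnd ℂ) ((θ : K → ℂ) k))
          + (if k = 1 then (Δ 1 - d) * (starRingEnd ℂ) ((θ : K → ℂ) 1) else 0) := by
      intro k
      rw [trivIrr_apply, one_mul]
      by_cases hk : k = 1
      · rw [if_pos hk, hk, Subgroup.coe_one]
        ring
      · rw [if_neg hk, add_zero, hd k k.2 (fun h => hk (Subtype.ext h))]
    simp_rw [h1]
    rw [Finset.sum_add_distrib, ← Finset.mul_sum, Finset.sum_ite_eq' Finset.univ (1 : K),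
      if_pos (Finset.mem_univ _), conj_irr_one]
    field_simp
    ring
  have hb : ∃ w : ℤ, (Δ 1 - d) / (Nat.card K : ℂ) = w := by
    apply int_of_mul_deg (K := K)
    intro θ hθ
    obtain ⟨w, hw⟩ := IsGeneralizedCharacter.classInner_irr_int hR θ
    refine ⟨w, ?_⟩
    rw [← hw, key θ, classInner_irr_ne (Ne.symm hθ), mul_zero, add_zero]
  obtain ⟨b, hb⟩ := hb
  obtain ⟨w, hw⟩ := IsGeneralizedCharacter.classInner_irr_int hR (trivIrr K)
  rw [key (trivIrr K), classInner_irr_self, trivIrr_apply, mul_one, mul_one, hb] at hw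
  refine ⟨w - b, ?_⟩
  push_cast
  rw [← hw]
  ring

end IntConst

end Cfsg.Agent.Helper8.FrobKer
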