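import Mathlib
import Cfsg.Prelude.Def_Characters
import Cfsg.Prelude.Def_OddOrderChar
import Cfsg.Agent.Helper8.ZSpan

/-!
More on linear isometries on integer spans: gluing along a union.
-/

set_option autoImplicit false
set_option linter.unusedSectionVars false

namespace Cfsg.Agent.Helper8

variable {N : Type*} [Group N] [Fintype N] {G : Type*} [Group G] [Fintype G]
  [Fintype (Cfsg.IrrCharacter N)]

/-- On the span of a subset `X` whose images are given by `σ`, the extension over a bigger set
agrees with the extension over `X`. -/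
theorem coordExt_eq_of_subset {X T : Set (N → ℂ)} (hXT : X ⊆ T)
    (hirrX : ∀ ξ ∈ X, Cfsg.IsIrrCharacter N ξ) (e σ : (N → ℂ) → (G → ℂ))
    (he : ∀ ξ ∈ X, e ξ = σ ξ) {f : N → ℂ} (hf : f ∈ Cfsg.zspan X) :
    coordExt T e f = coordExt X σ f := by
  unfold coordExt
  apply Finset.sum_congr rfl
  intro ξ _
  by_cases hξ : (ξ : N → ℂ) ∈ X
  · rw [coef_of_mem _ hξ, coef_of_mem _ (hXT hξ), he _ hξ]
  · rw [coef_of_not_mem _ hξ, zero_smul]
    by_cases hξT : (ξ : N → ℂ) ∈ T
    · rw [coef_of_mem _ hξT, classInner_eq_zero_of_mem_zspan hirrX hf ξ.2 hξ, zero_smul]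
    · rw [coef_of_not_mem _ hξT, zero_smul]

theorem zsmul_left_cancel_fun {X : Type*} {n : ℤ} (hn : n ≠ 0) {u v : X → ℂ}
    (h : n • u = n • v) : u = v := by
  funext g
  have := congrFun h g
  simp only [Pi.smul_apply, zsmul_eq_mul] at this
  exact mul_left_cancel₀ (Int.cast_ne_zero.mpr hn) this

/-- inner product of two two-term combinations -/
theorem classInner_comb {X : Type*} [Group X] [Fintype X] (p q r s : ℂ) (f g h k : X → ℂ) :
    Cfsg.classInner (p • f + q • g) (r • h + s • k)
      = p * (starRingEnd ℂ) r * Cfsg.classInner f h + p * (starRingEnd ℂ) s * Cfsg.classInner f k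
        + q * (starRingEnd ℂ) r * Cfsg.classInner g h
        + q * (starRingEnd ℂ) s * Cfsg.classInner g k := by
  rw [Cfsg.Agent.Helper24.classInner_add_left, classInner_add_right, classInner_add_right,
    Cfsg.Agent.Helper24.classInner_smul_left, Cfsg.Agent.Helper24.classInner_smul_left,
    Cfsg.Agent.Helper24.classInner_smul_left, Cfsg.Agent.Helper24.classInner_smul_left,
    classInner_smul_right, classInner_smul_right, classInner_smul_right, classInner_smul_right]
  ring

end Cfsg.Agent.Helper8
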