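import Mathlib
import Cfsg.Prelude.Def_Characters
import Cfsg.Prelude.Def_OddOrderChar
import Cfsg.Agent.Helper8.FrobKernel
import Cfsg.Agent.Helper8.ZSpan
import Cfsg.Agent.Helper8.ZSpan2
import Cfsg.Agent.Helper8.Ind
import Cfsg.Agent.Helper24.Generalized
import Cfsg.Agent.S0850

/-!
T.I. subgroups with Frobenius normalizer: the characters of the normalizer that are not constant
on the kernel.
-/

set_option autoImplicit false

namespace Cfsg.Agent.Helper8.TIFN

open Cfsg Cfsg.Agent.Helper24 Cfsg.Agent.Helper8.FrobKer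

variable {G : Type*} [Group G] [Fintype G] (K N : Subgroup G)

/-- the irreducible characters of `N` that are not constant on `K` -/
def SS : Set (N → ℂ) := {χ : N → ℂ | IsIrrCharacter N χ ∧ ∃ k : N, (k : G) ∈ K ∧ χ k ≠ χ 1}

/-- the T.I.F.N. hypotheses, for a general overgroup `N` of `K` -/
structure Hyp : Prop where
  le : K ≤ N
  normal : (K.subgroupOf N).Normal
  ti : ∀ g : G, g ∉ N → ∀ k ∈ K, g * k * g⁻¹ ∈ K → k = 1
  cent : ∀ k ∈ K, k ≠ 1 → Subgroup.centralizer ({k} : Set G) ≤ K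
  fus : ∀ x ∈ N, x ∉ K → ∀ g : G, g * x * g⁻¹ ∉ K

omit [Fintype G] in
theorem hyp_normalizer [Finite G]
    (hTI : ∀ g : G, g ∉ Subgroup.normalizer (K : Set G) → ∀ k ∈ K, g * k * g⁻¹ ∈ K → k = 1)
    (hC : ∀ k ∈ K, k ≠ 1 → Subgroup.centralizer ({k} : Set G) ≤ K) :
    Hyp K (Subgroup.normalizer (K : Set G)) where
  le := Subgroup.le_normalizer
  normal := Subgroup.normal_in_normalizer
  ti := hTI
  cent := hC
  fus := Cfsg.Agent.S0850.part1 K hTI hC

variable {K N}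

omit [Fintype G] in
theorem frob (h : Hyp K N) :
    ∀ n : N, n ∉ K.subgroupOf N → ∀ k ∈ K.subgroupOf N, k * n = n * k → k = 1 := by
  intro n hn k hk hcomm
  by_contra hk1
  apply hn
  rw [Subgroup.mem_subgroupOf]
  apply h.cent (k : G) hk (fun h1 => hk1 (Subtype.ext h1))
  rw [Subgroup.mem_centralizer_iff]
  intro z hz
  rw [Set.mem_singleton_iff.mp hz]
  exact congrArg Subtype.val hcomm

omit [Fintype G] in
theorem mem_SS_iff {χ : N → ℂ} :
    χ ∈ SS K N ↔ IsIrrCharacter N χ ∧ NonConst (K.subgroupOf N) χ := Iff.rfl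

omit [Fintype G] in
theorem isIrr_of_mem {χ : N → ℂ} (h : χ ∈ SS K N) : IsIrrCharacter N χ := h.1

variable [Fintype N]

omit [Fintype G] in
/-- members of `ℤ[S]` vanish off `K` -/
theorem vanish_off_of_mem_zspan (h : Hyp K N) {α : N → ℂ} (hα : α ∈ zspan (SS K N)) {n : N}
    (hn : (n : G) ∉ K) : α n = 0 := by
  haveI := h.normal
  induction hα using Submodule.span_induction with
  | mem x hx => exact vanish_off (K.subgroupOf N) (frob h) ⟨x, hx.1⟩ hx.2 hn
  | zero => rfl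
  | add x y _ _ hx hy => rw [Pi.add_apply, hx, hy, add_zero]
  | smul a x _ hx => rw [Pi.smul_apply, hx, smul_zero]

omit [Fintype G] in
/-- members of `ℤ[S]` have zero sum over `K` -/
theorem sum_indK_of_mem_zspan (h : Hyp K N) {α : N → ℂ} (hα : α ∈ zspan (SS K N)) :
    ∑ n : N, indK (K.subgroupOf N) n * α n = 0 := by
  haveI := h.normal
  induction hα using Submodule.span_induction with
  | mem x hx => exact sum_indK_mul (K.subgroupOf N) ⟨x, hx.1⟩ hx.2
  | zero => simp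
  | add x y _ _ hx hy =>
    simp only [Pi.add_apply, mul_add, Finset.sum_add_distrib, hx, hy, add_zero]
  | smul a x _ hx =>
    have : ∀ n : N, indK (K.subgroupOf N) n * (a • x) n
        = (a : ℂ) * (indK (K.subgroupOf N) n * x n) := by
      intro n
      rw [Pi.smul_apply, zsmul_eq_mul]
      ring
    simp_rw [this]
    rw [← Finset.mul_sum, hx, mul_zero]

omit [Fintype G] [Fintype N] in
theorem isGenChar_of_mem_zspan {α : N → ℂ} (hα : α ∈ zspan (SS K N)) :
    IsGeneralizedCharacter N α :=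
  isGeneralizedCharacter_of_mem_zspan
    (fun ξ hξ => IsIrrCharacter.isGeneralizedCharacter hξ.1) hα

omit [Fintype N] in
/-- induction from `N` restricts to the identity on `ℤ[S, N ∖ 1]` -/
theorem indFun_apply_of_mem (h : Hyp K N) {α : N → ℂ} (hα : α ∈ zspanOn (SS K N) {1}ᶜ)
    (x : N) : indFun N α x = α x := by
  rw [mem_zspanOn_compl_one] at hα
  haveI : Fintype N := Fintype.ofFinite _
  exact Cfsg.Agent.S0850.part2 K N h.ti h.fus α
    (IsGeneralizedCharacter.isClassFunction (isGenChar_of_mem_zspan hα.1))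
    (fun x hx => vanish_off_of_mem_zspan h hα.1 hx) hα.2 x

omit [Fintype G] [Fintype N] in
/-- the basic members of `ℤ[S, N ∖ 1]` -/
theorem comb_mem (ξ ζ : IrrCharacter N) (hξ : (ξ : N → ℂ) ∈ SS K N) (hζ : (ζ : N → ℂ) ∈ SS K N) :
    ((irrDeg ζ : ℤ) • (ξ : N → ℂ) - (irrDeg ξ : ℤ) • (ζ : N → ℂ)) ∈ zspanOn (SS K N) {1}ᶜ := by
  rw [mem_zspanOn_compl_one]
  refine ⟨zspan_sub_mem (zspan_zsmul_mem _ (mem_zspan_of_mem hξ))
    (zspan_zsmul_mem _ (mem_zspan_of_mem hζ)), ?_⟩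
  rw [Pi.sub_apply, Pi.smul_apply, Pi.smul_apply, irrDeg_spec, irrDeg_spec, zsmul_eq_mul,
    zsmul_eq_mul]
  push_cast
  ring

/-- A class function of `N` orthogonal to `ℤ[S, N ∖ 1]` is constant on `K ∖ 1`. -/
theorem const_of_orth (h : Hyp K N) (Δ : N → ℂ) (hΔ : IsClassFunction N Δ)
    (horth : ∀ β ∈ zspanOn (SS K N) {1}ᶜ, classInner Δ β = 0)
    {k₁ k₂ : N} (h₁ : (k₁ : G) ∈ K) (h₁' : k₁ ≠ 1) (h₂ : (k₂ : G) ∈ K) (h₂' : k₂ ≠ 1) :
    Δ k₁ = Δ k₂ := by
  haveI := h.normal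
  haveI : Fintype (IrrCharacter N) := Fintype.ofFinite _
  refine const_on_kernel (K.subgroupOf N) Δ hΔ ?_ h₁ h₁' h₂ h₂'
  intro ξ ζ hξ hζ
  have hξS : (ξ : N → ℂ) ∈ SS K N := ⟨ξ.2, hξ⟩
  have hζS : (ζ : N → ℂ) ∈ SS K N := ⟨ζ.2, hζ⟩
  have h1 := horth _ (comb_mem ξ ζ hξS hζS)
  rw [classInner_sub_right, ← Int.cast_smul_eq_zsmul ℂ, ← Int.cast_smul_eq_zsmul ℂ,
    classInner_smul_right, classInner_smul_right] at h1
  simp only [Int.cast_natCast, map_natCast] at h1
  rw [irrDeg_spec, irrDeg_spec]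
  exact sub_eq_zero.mp h1

/-- restriction versus induction -/
theorem classInner_restrict (Ψ : G → ℂ) (hΨ : IsClassFunction G Ψ) (β : N → ℂ) :
    classInner (fun n : N => Ψ n) β = classInner Ψ (indFun N β) := by
  rw [← Cfsg.Agent.Helper24.classInner_conj_symm β, ← frobenius_reciprocity N β Ψ hΨ,
    Cfsg.Agent.Helper24.classInner_conj_symm]

end Cfsg.Agent.Helper8.TIFN
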