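import Mathlib
import Cfsg.Prelude.Def_Characters
import Cfsg.Prelude.Def_OddOrderChar
import Cfsg.Agent.Helper8.TIFN
import Cfsg.Agent.Helper8.FrobKernel2

/-!
T.I. subgroups with Frobenius normalizer: the difference between a coherent extension and the
identity is constant on the kernel.
-/

set_option autoImplicit false

namespace Cfsg.Agent.Helper8.TIFN

open Cfsg Cfsg.Agent.Helper24 Cfsg.Agent.Helper8.FrobKer

variable {G : Type*} [Group G] [Fintype G] {K N : Subgroup G} [Fintype N]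
  {star : (N → ℂ) → (G → ℂ)}

theorem star_sub {S : Set (N → ℂ)} (hstar : IsLinearIsometryOn (zspan S) star) {a b : N → ℂ}
    (ha : a ∈ zspan S) (hb : b ∈ zspan S) : star (a - b) = star a - star b := by
  have h1 : a - b = a + (-1 : ℤ) • b := by
    rw [neg_smul, one_smul, sub_eq_add_neg]
  rw [h1, hstar.1 a ha _ (zspan_zsmul_mem _ hb), hstar.2.1 b hb, neg_smul, one_smul,
    sub_eq_add_neg]

/-- the difference between `star χ` restricted to `N` and `χ` -/
def delta (star : (N → ℂ) → (G → ℂ)) (χ : N → ℂ) : N → ℂ := fun n => star χ n - χ n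

omit [Fintype N] in
theorem delta_apply (χ : N → ℂ) (n : N) : delta star χ n = star χ n - χ n := rfl

theorem delta_isGenChar (hstar : IsLinearIsometryOn (zspan (SS K N)) star) {χ : N → ℂ}
    (hχ : χ ∈ zspan (SS K N)) : IsGeneralizedCharacter N (delta star χ) :=
  IsGeneralizedCharacter.sub (IsGeneralizedCharacter.restrict (hstar.2.2.2 χ hχ) N)
    (isGenChar_of_mem_zspan hχ)

theorem delta_orth (hstar : IsLinearIsometryOn (zspan (SS K N)) star)
    (hext : ∀ α ∈ zspanOn (SS K N) ({1}ᶜ : Set N), star α = indFun N α) {χ : N → ℂ}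
    (hχ : χ ∈ zspan (SS K N)) (β : N → ℂ) (hβ : β ∈ zspanOn (SS K N) {1}ᶜ) :
    classInner (delta star χ) β = 0 := by
  have h1 : delta star χ = (fun n : N => star χ n) - χ := rfl
  rw [h1, classInner_sub_left, classInner_restrict _
    (IsGeneralizedCharacter.isClassFunction (hstar.2.2.2 χ hχ)), ← hext β hβ,
    hstar.2.2.1 χ hχ β hβ.1, sub_self]

theorem delta_const (h : Hyp K N) (hstar : IsLinearIsometryOn (zspan (SS K N)) star)
    (hext : ∀ α ∈ zspanOn (SS K N) ({1}ᶜ : Set N), star α = indFun N α) {χ : N → ℂ}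
    (hχ : χ ∈ zspan (SS K N))
    {k₁ k₂ : N} (h₁ : (k₁ : G) ∈ K) (h₁' : k₁ ≠ 1) (h₂ : (k₂ : G) ∈ K) (h₂' : k₂ ≠ 1) :
    delta star χ k₁ = delta star χ k₂ :=
  const_of_orth h _ (IsGeneralizedCharacter.isClassFunction (delta_isGenChar hstar hχ))
    (delta_orth hstar hext hχ) h₁ h₁' h₂ h₂'

theorem delta_prop (h : Hyp K N) (hstar : IsLinearIsometryOn (zspan (SS K N)) star)
    (hext : ∀ α ∈ zspanOn (SS K N) ({1}ᶜ : Set N), star α = indFun N α)
    (χ ξ : IrrCharacter N) (hχ : (χ : N → ℂ) ∈ SS K N) (hξ : (ξ : N → ℂ) ∈ SS K N) (k : N) :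
    (ξ : N → ℂ) 1 * delta star (χ : N → ℂ) k = (χ : N → ℂ) 1 * delta star (ξ : N → ℂ) k := by
  have hmem := comb_mem χ ξ hχ hξ
  have h1 := hext _ hmem
  have h2 := congrFun h1 k
  rw [indFun_apply_of_mem h hmem, star_sub hstar (zspan_zsmul_mem _ (mem_zspan_of_mem hχ))
    (zspan_zsmul_mem _ (mem_zspan_of_mem hξ)), hstar.2.1 _ (mem_zspan_of_mem hχ),
    hstar.2.1 _ (mem_zspan_of_mem hξ)] at h2
  simp only [Pi.sub_apply, Pi.smul_apply] at h2
  simp only [zsmul_eq_mul, Int.cast_natCast] at h2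
  rw [delta_apply, delta_apply, irrDeg_spec, irrDeg_spec]
  linear_combination h2

/-- **The constant difference is an integer multiple of `χ 1 / e`.** -/
theorem main853 (h : Hyp K N) (hstar : IsLinearIsometryOn (zspan (SS K N)) star)
    (hext : ∀ α ∈ zspanOn (SS K N) ({1}ᶜ : Set N), star α = indFun N α)
    (hne : (SS K N).Nonempty) :
    ∃ m : ℤ, ∀ χ ∈ SS K N, ∀ k : N, (k : G) ∈ K → k ≠ 1 →
      star χ k - χ k = (m : ℂ) * χ 1 / ((K.subgroupOf N).index : ℂ) := by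
  classical
  haveI := h.normal
  obtain ⟨χ₀, hχ₀⟩ := hne
  obtain ⟨k₀, hk₀, hk₀'⟩ := hχ₀.2
  have hk₀1 : k₀ ≠ 1 := fun h1 => hk₀' (by rw [h1])
  have hd : ∀ χ ∈ SS K N, ∀ k : N, (k : G) ∈ K → k ≠ 1 →
      delta star χ k = delta star χ k₀ := fun χ hχ k hk hk1 =>
    delta_const h hstar hext (mem_zspan_of_mem hχ) hk hk1 hk₀ hk₀1
  have hint : ∀ χ ∈ SS K N, ∃ w : ℤ, delta star χ k₀ = w := by
    intro χ hχ
    exact int_of_const (K.subgroupOf N) ⟨k₀, hk₀, hk₀1⟩ (delta star χ)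
      (delta_isGenChar hstar (mem_zspan_of_mem hχ)) _ (fun k hk hk1 => hd χ hχ k hk hk1)
  have he0 : ((K.subgroupOf N).index : ℂ) ≠ 0 := by
    have : (K.subgroupOf N).index ≠ 0 := Subgroup.index_ne_zero_of_finite
    exact_mod_cast this
  have hχ₀1 : χ₀ 1 ≠ 0 := irr_one_ne_zero ⟨χ₀, hχ₀.1⟩
  have hform : ∀ χ ∈ SS K N, delta star χ k₀
      = (((K.subgroupOf N).index : ℂ) * delta star χ₀ k₀ / χ₀ 1) * χ 1
        / ((K.subgroupOf N).index : ℂ) := by
    intro χ hχ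
    have := delta_prop h hstar hext ⟨χ₀, hχ₀.1⟩ ⟨χ, hχ.1⟩ hχ₀ hχ k₀
    simp only at this
    field_simp
    linear_combination -this
  have hm : ∃ m : ℤ, ((K.subgroupOf N).index : ℂ) * delta star χ₀ k₀ / χ₀ 1 = m := by
    haveI : Nontrivial (K.subgroupOf N) :=
      ⟨⟨⟨k₀, hk₀⟩, 1, fun h1 => hk₀1 (congrArg Subtype.val h1)⟩⟩
    apply int_of_mul_deg (K := ↥(K.subgroupOf N))
    intro θ hθ
    have hθ1 : (θ : (K.subgroupOf N) → ℂ) ≠ fun _ => 1 := by
      intro h1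
      apply hθ
      apply Subtype.ext
      rw [h1]
      rfl
    have hirr := isIrr_ind (K.subgroupOf N) (frob h) _ θ.2 hθ1
    have hnc := ind_nonConst (K.subgroupOf N) (frob h) _ θ.2 hθ1
    have hmem : indFun (K.subgroupOf N) (θ : (K.subgroupOf N) → ℂ) ∈ SS K N := ⟨hirr, hnc⟩
    obtain ⟨w, hw⟩ := hint _ hmem
    refine ⟨w, ?_⟩
    rw [← hw, hform _ hmem, ind_one]
    field_simp
  obtain ⟨m, hm⟩ := hm
  refine ⟨m, ?_⟩
  intro χ hχ k hk hk1
  rw [← hm, ← delta_apply (star := star), hd χ hχ k hk hk1, hform χ hχ]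

end Cfsg.Agent.Helper8.TIFN
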