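import Mathlib
import Cfsg.Prelude.Def_Characters
import Cfsg.Prelude.Def_OddOrderChar
import Cfsg.Agent.Helper8.TIFN2

/-!
T.I. subgroups with Frobenius normalizer: the exceptional characters are exactly the irreducible
characters that are not constant on the nonidentity elements of the kernel.
-/

set_option autoImplicit false

namespace Cfsg.Agent.Helper8.TIFN

open Cfsg Cfsg.Agent.Helper24 Cfsg.Agent.Helper8.FrobKer

variable {G : Type*} [Group G] [Fintype G] {K N : Subgroup G} [Fintype N]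
  {star : (N → ℂ) → (G → ℂ)}

/-- a class function of `G` constant on `K ∖ 1` is orthogonal to the induced `ℤ[S, N ∖ 1]` -/
theorem classInner_eq_zero_of_const (h : Hyp K N) (Ψ : G → ℂ) (hΨ : IsClassFunction G Ψ)
    (hconst : ∀ a ∈ K, ∀ b ∈ K, a ≠ 1 → b ≠ 1 → Ψ a = Ψ b)
    (β : N → ℂ) (hβ : β ∈ zspanOn (SS K N) {1}ᶜ) :
    classInner Ψ (indFun N β) = 0 := by
  classical
  rw [← classInner_restrict Ψ hΨ β]
  have hβ' := (mem_zspanOn_compl_one.mp hβ)
  by_cases hex : ∃ k₀ : N, (k₀ : G) ∈ K ∧ k₀ ≠ 1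
  · obtain ⟨k₀, hk₀, hk₀1⟩ := hex
    have hk₀1' : (k₀ : G) ≠ 1 := fun h1 => hk₀1 (Subtype.ext h1)
    unfold classInner
    have h1 : ∀ n : N, Ψ n * (starRingEnd ℂ) (β n)
        = Ψ k₀ * (starRingEnd ℂ) (indK (K.subgroupOf N) n * β n) := by
      intro n
      by_cases hn1 : n = 1
      · rw [hn1, hβ'.2, map_zero, mul_zero, mul_zero, map_zero, mul_zero]
      by_cases hnK : (n : G) ∈ K
      · rw [indK_mem _ (Subgroup.mem_subgroupOf.mpr hnK), one_mul,
          hconst n hnK k₀ hk₀ (fun h1 => hn1 (Subtype.ext h1)) hk₀1']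
      · rw [vanish_off_of_mem_zspan h hβ'.1 hnK, mul_zero, map_zero, mul_zero, mul_zero]
    simp_rw [h1]
    rw [← Finset.mul_sum, ← map_sum, sum_indK_of_mem_zspan h hβ'.1, map_zero, mul_zero, mul_zero]
  · push Not at hex
    unfold classInner
    have h1 : ∀ n : N, Ψ n * (starRingEnd ℂ) (β n) = 0 := by
      intro n
      by_cases hn1 : n = 1
      · rw [hn1, hβ'.2, map_zero, mul_zero]
      by_cases hnK : (n : G) ∈ K
      · exact absurd (hex n hnK) hn1
      · rw [vanish_off_of_mem_zspan h hβ'.1 hnK, map_zero, mul_zero]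
    simp_rw [h1]
    rw [Finset.sum_const_zero, mul_zero]

/-- orthogonality to all `star χ` extends to the whole span -/
theorem classInner_star_eq_zero {S : Set (N → ℂ)} (hstar : IsLinearIsometryOn (zspan S) star)
    (ψ : G → ℂ) (hψ : ∀ χ ∈ S, classInner ψ (star χ) = 0) {β : N → ℂ} (hβ : β ∈ zspan S) :
    classInner ψ (star β) = 0 := by
  induction hβ using Submodule.span_induction with
  | mem x hx => exact hψ x hx
  | zero => rw [map_zero_of_isLinearIsometryOn hstar, classInner_zero_right]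
  | add x y hx hy ihx ihy => rw [hstar.1 x hx y hy, classInner_add_right, ihx, ihy, add_zero]
  | smul a x hx ih =>
    rw [hstar.2.1 x hx a, ← Int.cast_smul_eq_zsmul ℂ, classInner_smul_right, ih, mul_zero]

/-- **Exceptional characters are those not constant on `K ∖ 1`.** -/
theorem main852 (h : Hyp K N) (hstar : IsLinearIsometryOn (zspan (SS K N)) star)
    (hext : ∀ α ∈ zspanOn (SS K N) ({1}ᶜ : Set N), star α = indFun N α)
    (htwo : ∃ χ ∈ SS K N, ∃ ξ ∈ SS K N, χ ≠ ξ) (ψ : G → ℂ) (hψ : IsIrrCharacter G ψ) :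
    (∃ χ ∈ SS K N, ψ = star χ ∨ ψ = -star χ) ↔
      ∃ a ∈ K, ∃ b ∈ K, a ≠ 1 ∧ b ≠ 1 ∧ ψ a ≠ ψ b := by
  classical
  haveI : Fintype (IrrCharacter G) := Fintype.ofFinite _
  constructor
  · rintro ⟨χ, hχ, hψχ⟩
    by_contra hcon
    push Not at hcon
    -- another member of `S`
    obtain ⟨ξ, hξ, hξχ⟩ : ∃ ξ ∈ SS K N, ξ ≠ χ := by
      obtain ⟨χ₁, h₁, χ₂, h₂, hne⟩ := htwo
      by_cases hc : χ₁ = χ
      · exact ⟨χ₂, h₂, fun h2 => hne (hc.trans h2.symm)⟩
      · exact ⟨χ₁, h₁, hc⟩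
    have hmem := comb_mem ⟨χ, hχ.1⟩ ⟨ξ, hξ.1⟩ hχ hξ
    have hconst : ∀ a ∈ K, ∀ b ∈ K, a ≠ 1 → b ≠ 1 → star χ a = star χ b := by
      intro a ha b hb ha1 hb1
      have := hcon a ha b hb ha1 hb1
      rcases hψχ with h1 | h1
      · rw [h1] at this; exact this
      · rw [h1] at this
        simpa using this
    have h0 := classInner_eq_zero_of_const h (star χ)
      (IsGeneralizedCharacter.isClassFunction (hstar.2.2.2 χ (mem_zspan_of_mem hχ))) hconst _ hmem
    rw [← hext _ hmem, hstar.2.2.1 χ (mem_zspan_of_mem hχ) _ hmem.1] at h0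
    simp only at h0
    rw [classInner_sub_right, ← Int.cast_smul_eq_zsmul ℂ, ← Int.cast_smul_eq_zsmul ℂ,
      classInner_smul_right, classInner_smul_right,
      Cfsg.Agent.Helper23.classInner_irrCharacter χ χ hχ.1 hχ.1,
      Cfsg.Agent.Helper23.classInner_irrCharacter χ ξ hχ.1 hξ.1, if_pos rfl,
      if_neg (Ne.symm hξχ), mul_zero, sub_zero, mul_one] at h0
    simp only [Int.cast_natCast, map_natCast] at h0
    have hpos := irrDeg_pos (⟨ξ, hξ.1⟩ : IrrCharacter N)
    have : (irrDeg (⟨ξ, hξ.1⟩ : IrrCharacter N) : ℂ) ≠ 0 := by exact_mod_cast hpos.ne'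
    exact this h0
  · rintro ⟨a, ha, b, hb, ha1, hb1, hab⟩
    by_contra hcon
    push Not at hcon
    have horth : ∀ χ ∈ SS K N, classInner ψ (star χ) = 0 := by
      intro χ hχ
      have hgen := hstar.2.2.2 χ (mem_zspan_of_mem hχ)
      have hnorm : classInner (star χ) (star χ) = 1 := by
        rw [hstar.2.2.1 χ (mem_zspan_of_mem hχ) χ (mem_zspan_of_mem hχ)]
        exact classInner_irr_self ⟨χ, hχ.1⟩
      obtain ⟨ψ', hψ'⟩ := IsGeneralizedCharacter.eq_or_eq_neg_of_classInner_self hgen hnorm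
      have hne : (⟨ψ, hψ⟩ : IrrCharacter G) ≠ ψ' := by
        intro h1
        have h2 : ψ = (ψ' : G → ℂ) := congrArg Subtype.val h1
        rcases hψ' with h3 | h3
        · exact (hcon χ hχ).1 (by rw [h3, h2])
        · exact (hcon χ hχ).2 (by rw [h3, h2, neg_neg])
      have h4 : classInner ψ (ψ' : G → ℂ) = 0 := classInner_irr_ne hne
      rcases hψ' with h3 | h3
      · rw [h3, h4]
      · rw [h3, classInner_neg_right, h4, neg_zero]
    have haN : a ∈ N := h.le ha
    have hbN : b ∈ N := h.le hb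
    have := const_of_orth h (fun n : N => ψ n)
      (IsGeneralizedCharacter.isClassFunction
        (IsGeneralizedCharacter.restrict (IsIrrCharacter.isGeneralizedCharacter hψ) N))
      (fun β hβ => by
        rw [classInner_restrict ψ (IsCharacter.isClassFunction (IsIrrCharacter.isCharacter hψ)),
          ← hext β hβ]
        exact classInner_star_eq_zero hstar ψ horth hβ.1)
      (k₁ := ⟨a, haN⟩) (k₂ := ⟨b, hbN⟩) ha (fun h1 => ha1 (congrArg Subtype.val h1)) hb
      (fun h1 => hb1 (congrArg Subtype.val h1))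
    exact hab this

end Cfsg.Agent.Helper8.TIFN
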