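import Mathlib
import Cfsg.Agent.Helper8.TIFN3
import Cfsg.Agent.Helper24.ColumnOrth

/-!
Induction from a T.I. subgroup with Frobenius normalizer (`Hyp K N`): functions vanishing off `K`
induce to themselves on `N ∖ 1`, and the resulting inner products of induced characters.
(Pieces P3a, P3b, P3c of Feit's theorem on Zassenhaus groups, S0885.)
-/

set_option autoImplicit false

namespace Cfsg.Agent.Helper8.FeitP3

open Cfsg Cfsg.Agent.Helper24 Cfsg.Agent.Helper8.FrobKer Cfsg.Agent.Helper8.TIFN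
open Cfsg.Agent.Helper8

variable {G : Type*} [Group G] [Fintype G] {K N : Subgroup G}

/-- the indicator function of the identity of `N` -/
noncomputable def dlt (N : Subgroup G) : N → ℂ := fun n => by
  classical exact if n = 1 then 1 else 0

omit [Fintype G] in
theorem dlt_one : dlt N 1 = 1 := by
  classical
  rw [dlt, if_pos rfl]

omit [Fintype G] in
theorem dlt_ne {n : N} (h : n ≠ 1) : dlt N n = 0 := by
  classical
  rw [dlt, if_neg h]

omit [Fintype G] in
theorem dlt_isClassFunction : IsClassFunction N (dlt N) := by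
  classical
  intro g h
  by_cases hg : g = 1
  · subst hg
    simp
  · have : h * g * h⁻¹ ≠ 1 := by
      intro hh
      apply hg
      have : g = h⁻¹ * (h * g * h⁻¹) * h := by group
      rw [this, hh]; group
    rw [dlt_ne hg, dlt_ne this]

theorem indFun_dlt_one : indFun N (dlt N) 1 = (N.index : ℂ) := by
  classical
  rw [indFun_def]
  have h1 : ∀ x : G, extendByZero N (dlt N) (x⁻¹ * 1 * x) = 1 := by
    intro x
    have : x⁻¹ * 1 * x = ((1 : N) : G) := by simp
    rw [this, Cfsg.Agent.Helper5.extendByZero_apply_mem N (dlt N) (1 : N).2]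
    exact dlt_one
  rw [Finset.sum_congr rfl (fun x _ => h1 x), Finset.sum_const, Finset.card_univ, nsmul_eq_mul,
    mul_one, ← Nat.card_eq_fintype_card, ← Subgroup.card_mul_index N]
  have hN : (Nat.card N : ℂ) ≠ 0 := Nat.cast_ne_zero.mpr Nat.card_pos.ne'
  push_cast
  field_simp

theorem indFun_dlt_ne {g : G} (hg : g ≠ 1) : indFun N (dlt N) g = 0 := by
  classical
  rw [indFun_def]
  have h1 : ∀ x : G, extendByZero N (dlt N) (x⁻¹ * g * x) = 0 := by
    intro x
    by_cases hmem : x⁻¹ * g * x ∈ N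
    · rw [Cfsg.Agent.Helper5.extendByZero_apply_mem N (dlt N) hmem]
      apply dlt_ne
      intro h
      apply hg
      have h2 : x⁻¹ * g * x = 1 := congrArg Subtype.val h
      have : g = x * (x⁻¹ * g * x) * x⁻¹ := by group
      rw [this, h2]; group
    · exact Cfsg.Agent.Helper5.extendByZero_apply_not_mem N (dlt N) hmem
  rw [Finset.sum_congr rfl (fun x _ => h1 x), Finset.sum_const_zero, mul_zero]

/-- **(P3a)** a class function of `N` vanishing off `K` induces to itself on `N ∖ 1`. -/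
theorem indFun_of_vanish (hyp : Hyp K N) (β : N → ℂ) (hβ : IsClassFunction N β)
    (hvan : ∀ n : N, (n : G) ∉ K → β n = 0) :
    indFun N β 1 = (N.index : ℂ) * β 1 ∧ ∀ n : N, n ≠ 1 → indFun N β n = β n := by
  classical
  haveI : Fintype N := Fintype.ofFinite _
  -- `β' = β - β 1 • δ`
  have hβ'cf : IsClassFunction N (β - β 1 • dlt N) := by
    intro g h
    rw [Pi.sub_apply, Pi.sub_apply, Pi.smul_apply, Pi.smul_apply, hβ g h,
      dlt_isClassFunction g h]
  have hβ'van : ∀ x : N, (x : G) ∉ K → (β - β 1 • dlt N) x = 0 := by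
    intro x hx
    have hx1 : x ≠ 1 := by
      intro h
      apply hx
      rw [h]
      exact K.one_mem
    rw [Pi.sub_apply, Pi.smul_apply, hvan x hx, dlt_ne hx1, smul_zero, sub_zero]
  have hβ'1 : (β - β 1 • dlt N) 1 = 0 := by
    rw [Pi.sub_apply, Pi.smul_apply, dlt_one, smul_eq_mul, mul_one, sub_self]
  have key : ∀ x : N, indFun N (β - β 1 • dlt N) x = (β - β 1 • dlt N) x :=
    Cfsg.Agent.S0850.part2 K N hyp.ti hyp.fus _ hβ'cf hβ'van hβ'1
  have hdec : indFun N β = indFun N (β - β 1 • dlt N) + β 1 • indFun N (dlt N) := by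
    rw [← indFun_smul, ← indFun_add, sub_add_cancel]
  constructor
  · rw [hdec, Pi.add_apply, Pi.smul_apply]
    have := key 1
    rw [hβ'1] at this
    rw [show ((1 : N) : G) = 1 from rfl] at this
    rw [this, zero_add, indFun_dlt_one, smul_eq_mul, mul_comm]
  · intro n hn
    rw [hdec, Pi.add_apply, Pi.smul_apply, key n, Pi.sub_apply, Pi.smul_apply, dlt_ne hn,
      indFun_dlt_ne (fun h => hn (Subtype.ext h)), smul_zero, sub_zero, add_zero]

/-- restriction to `N` of the function induced from a class function vanishing off `K` -/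
theorem restrict_indFun (hyp : Hyp K N) (β : N → ℂ) (hβ : IsClassFunction N β)
    (hvan : ∀ n : N, (n : G) ∉ K → β n = 0) :
    (fun n : N => indFun N β n) = β + (((N.index : ℂ) - 1) * β 1) • dlt N := by
  classical
  obtain ⟨h1, h2⟩ := indFun_of_vanish hyp β hβ hvan
  funext n
  by_cases hn : n = 1
  · subst hn
    rw [Pi.add_apply, Pi.smul_apply, dlt_one, smul_eq_mul, mul_one]
    rw [show ((1 : N) : G) = 1 from rfl, h1]
    ring
  · rw [h2 n hn, Pi.add_apply, Pi.smul_apply, dlt_ne hn, smul_zero, add_zero]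

/-- inner product with the indicator of the identity -/
theorem classInner_dlt [Fintype N] (φ : N → ℂ) :
    classInner (dlt N) φ = (Nat.card N : ℂ)⁻¹ * (starRingEnd ℂ) (φ 1) := by
  classical
  unfold classInner
  congr 1
  rw [Finset.sum_eq_single (1 : N)]
  · rw [dlt_one, one_mul]
  · intro n _ hn
    rw [dlt_ne hn, zero_mul]
  · intro h
    exact absurd (Finset.mem_univ _) h

theorem mem_SS_vanish (hyp : Hyp K N) {ξ : N → ℂ} (hξ : ξ ∈ SS K N) :
    ∀ n : N, (n : G) ∉ K → ξ n = 0 := by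
  classical
  intro n hn
  haveI : Fintype N := Fintype.ofFinite _
  haveI := hyp.normal
  exact vanish_off (K.subgroupOf N) (frob hyp) ⟨ξ, hξ.1⟩ hξ.2 hn

open Classical in
/-- **(P3b)** -/
theorem classInner_ind_ind (hyp : Hyp K N) (ξ ζ : IrrCharacter N)
    (hξ : (ξ : N → ℂ) ∈ SS K N) (hζ : (ζ : N → ℂ) ∈ SS K N) :
    classInner (indFun N (ξ : N → ℂ)) (indFun N (ζ : N → ℂ))
      = (if ξ = ζ then 1 else 0)
        + ((N.index : ℂ) - 1) * (ξ : N → ℂ) 1 * (ζ : N → ℂ) 1 / (Nat.card N : ℂ) := by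
  haveI : Fintype N := Fintype.ofFinite _
  rw [← TIFN.classInner_restrict (indFun N (ξ : N → ℂ)) (indFun_isClassFunction N _) (ζ : N → ℂ),
    restrict_indFun hyp (ξ : N → ℂ) (isClassFunction_irr ξ) (mem_SS_vanish hyp hξ),
    classInner_add_left, classInner_smul_left, classInner_irr, classInner_dlt]
  have hζ1 : (starRingEnd ℂ) ((ζ : N → ℂ) 1) = (ζ : N → ℂ) 1 := by
    rw [irrDeg_spec ζ, Complex.conj_natCast]
  rw [hζ1]
  ring

/-- **(P3c)** -/
theorem classInner_ind_lin (hyp : Hyp K N) (μ : N → ℂ) (hμ : IsClassFunction N μ)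
    (hμK : ∀ k : N, (k : G) ∈ K → μ k = 1) (ξ : IrrCharacter N)
    (hξ : (ξ : N → ℂ) ∈ SS K N) :
    classInner (indFun N μ) (indFun N (ξ : N → ℂ))
      = ((N.index : ℂ) - 1) * (ξ : N → ℂ) 1 / (Nat.card N : ℂ) := by
  classical
  haveI : Fintype N := Fintype.ofFinite _
  haveI := hyp.normal
  have hξ1 : (starRingEnd ℂ) ((ξ : N → ℂ) 1) = (ξ : N → ℂ) 1 := by
    rw [irrDeg_spec ξ, Complex.conj_natCast]
  -- `(ξ, μ)_N = 0`
  have h0 : classInner (ξ : N → ℂ) μ = 0 := by
    unfold classInner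
    have h1 : ∀ n : N, (ξ : N → ℂ) n * (starRingEnd ℂ) (μ n)
        = indK (K.subgroupOf N) n * (ξ : N → ℂ) n := by
      intro n
      by_cases hn : (n : G) ∈ K
      · rw [hμK n hn, map_one, mul_one, indK_mem _ (Subgroup.mem_subgroupOf.mpr hn), one_mul]
      · rw [mem_SS_vanish hyp hξ n hn, zero_mul, mul_zero]
    rw [Finset.sum_congr rfl (fun n _ => h1 n), sum_indK_mul (K.subgroupOf N) ξ hξ.2, mul_zero]
  have h2 : classInner (indFun N (ξ : N → ℂ)) (indFun N μ)
      = ((N.index : ℂ) - 1) * (ξ : N → ℂ) 1 / (Nat.card N : ℂ) := by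
    rw [← TIFN.classInner_restrict (indFun N (ξ : N → ℂ)) (indFun_isClassFunction N _) μ,
      restrict_indFun hyp (ξ : N → ℂ) (isClassFunction_irr ξ) (mem_SS_vanish hyp hξ),
      classInner_add_left, classInner_smul_left, h0, classInner_dlt,
      hμK 1 (by rw [show ((1 : N) : G) = 1 from rfl]; exact K.one_mem), map_one]
    ring
  rw [← Cfsg.Agent.Helper24.classInner_conj_symm (indFun N (ξ : N → ℂ)) (indFun N μ), h2, map_div₀, map_mul,
    map_sub, map_one, Complex.conj_natCast, Complex.conj_natCast, hξ1]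

end Cfsg.Agent.Helper8.FeitP3
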