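import Mathlib
import Cfsg.Prelude.Def_Characters
import Cfsg.Agent.Helper8.Virtual
import Cfsg.Agent.Helper24.Generalized

/-!
Coherence for a family of differences `χ - χ₀` of norm two with pairwise inner products one.
-/

set_option autoImplicit false

namespace Cfsg.Agent.Helper8.UniCoh

open Cfsg Cfsg.Agent.Helper24

variable {G : Type*} [Group G] [Fintype G]

open Classical in
theorem classInner_irr_sub_sub (a b c d : IrrCharacter G) :
    classInner ((a : G → ℂ) - (b : G → ℂ)) ((c : G → ℂ) - (d : G → ℂ))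
      = (if a = c then 1 else 0) - (if a = d then 1 else 0) - (if b = c then 1 else 0)
        + (if b = d then 1 else 0) := by
  rw [classInner_sub_left, classInner_sub_right, classInner_sub_right, classInner_irr,
    classInner_irr, classInner_irr, classInner_irr]
  ring

open Classical in
/-- **Coherence for equal degrees**, abstract form. -/
theorem uniform_coherent {T : Type*} (χ₀ : T) (v : T → (G → ℂ)) (hv0 : v χ₀ = 0)
    (hgen : ∀ χ, IsGeneralizedCharacter G (v χ)) (h1 : ∀ χ, v χ 1 = 0)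
    (hin : ∀ χ ξ, χ ≠ χ₀ → ξ ≠ χ₀ → classInner (v χ) (v ξ) = if χ = ξ then 2 else 1) :
    ∃ (ε : ℂ) (f : T → IrrCharacter G), (ε = 1 ∨ ε = -1) ∧ Function.Injective f ∧
      ∀ χ, v χ = ε • ((f χ : G → ℂ) - (f χ₀ : G → ℂ)) := by
  classical
  by_cases hsub : ∀ χ : T, χ = χ₀
  · refine ⟨1, fun _ => trivIrr G, Or.inl rfl, ?_, ?_⟩
    · intro a b _
      rw [hsub a, hsub b]
    · intro χ
      rw [hsub χ, hv0, sub_self, smul_zero]
  push Not at hsub
  obtain ⟨χ₁, hχ₁⟩ := hsub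
  have hex : ∀ χ : T, ∃ a b : IrrCharacter G, χ ≠ χ₀ →
      (a ≠ b ∧ v χ = (a : G → ℂ) - (b : G → ℂ)) := by
    intro χ
    by_cases hχ : χ = χ₀
    · exact ⟨trivIrr G, trivIrr G, fun h => absurd hχ h⟩
    · have h2 : classInner (v χ) (v χ) = 2 := by rw [hin χ χ hχ hχ, if_pos rfl]
      obtain ⟨a, b, hab, hv⟩ := exists_irr_sub_irr_of_norm_two (hgen χ) h2 (h1 χ)
      exact ⟨a, b, fun _ => ⟨hab, hv⟩⟩
  choose a b hab using hex
  -- the inner product relations
  have hrel : ∀ χ ξ, χ ≠ χ₀ → ξ ≠ χ₀ → χ ≠ ξ →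
      ((if a χ = a ξ then 1 else 0) - (if a χ = b ξ then 1 else 0)
        - (if b χ = a ξ then 1 else 0) + (if b χ = b ξ then 1 else 0) : ℂ) = 1 := by
    intro χ ξ hχ hξ hne
    have := hin χ ξ hχ hξ
    rw [if_neg hne, (hab χ hχ).2, (hab ξ hξ).2, classInner_irr_sub_sub] at this
    exact this
  have hne1 := (hab χ₁ hχ₁).1
  -- every member is of one of two types
  have htype : ∀ χ, χ ≠ χ₀ → b χ = b χ₁ ∨ a χ = a χ₁ := by
    intro χ hχ
    by_cases hχ1 : χ = χ₁
    · left; rw [hχ1]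
    · have h2 := hrel χ χ₁ hχ hχ₁ hχ1
      by_contra hcon
      push Not at hcon
      rw [if_neg hcon.2, if_neg hcon.1] at h2
      by_cases h3 : a χ = b χ₁ <;> by_cases h4 : b χ = a χ₁ <;>
        simp only [h3, h4, if_true, if_false] at h2 <;> norm_num at h2
  have hall : (∀ χ, χ ≠ χ₀ → b χ = b χ₁) ∨ (∀ χ, χ ≠ χ₀ → a χ = a χ₁) := by
    by_contra hcon
    push Not at hcon
    obtain ⟨⟨χ, hχ, hPχ⟩, ⟨ξ, hξ, hQξ⟩⟩ := hcon
    have hQχ : a χ = a χ₁ := (htype χ hχ).resolve_left hPχ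
    have hPξ : b ξ = b χ₁ := (htype ξ hξ).resolve_right hQξ
    have hne : χ ≠ ξ := by
      intro h
      rw [h] at hPχ
      exact hPχ hPξ
    have h2 := hrel χ ξ hχ hξ hne
    have e1 : a χ ≠ a ξ := by rw [hQχ]; exact Ne.symm hQξ
    have e2 : a χ ≠ b ξ := by rw [hQχ, hPξ]; exact hne1
    have e3 : b χ ≠ b ξ := by rw [hPξ]; exact hPχ
    rw [if_neg e1, if_neg e2, if_neg e3] at h2
    by_cases h4 : b χ = a ξ <;> simp only [h4, if_true, if_false] at h2 <;> norm_num at h2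
  -- injectivity helper: distinct members have distinct images
  have hvne : ∀ χ ξ, χ ≠ χ₀ → ξ ≠ χ₀ → χ ≠ ξ → v χ ≠ v ξ := by
    intro χ ξ hχ hξ hne h
    have h2 := hin χ ξ hχ hξ
    rw [if_neg hne, h, hin ξ ξ hξ hξ, if_pos rfl] at h2
    norm_num at h2
  rcases hall with hP | hQ
  · -- all of type `P`
    refine ⟨1, fun χ => if χ = χ₀ then b χ₁ else a χ, Or.inl rfl, ?_, ?_⟩
    · intro χ ξ hf
      simp only at hf
      by_cases hχ : χ = χ₀
      · by_cases hξ : ξ = χ₀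
        · rw [hχ, hξ]
        · rw [if_pos hχ, if_neg hξ] at hf
          exact absurd (by rw [← hf, hP ξ hξ]) (hab ξ hξ).1
      · by_cases hξ : ξ = χ₀
        · rw [if_neg hχ, if_pos hξ] at hf
          exact absurd (by rw [hf, hP χ hχ]) (hab χ hχ).1
        · rw [if_neg hχ, if_neg hξ] at hf
          by_contra hne
          apply hvne χ ξ hχ hξ hne
          rw [(hab χ hχ).2, (hab ξ hξ).2, hf, hP χ hχ, hP ξ hξ]
    · intro χ
      rw [one_smul]
      beta_reduce
      rw [if_pos (rfl : χ₀ = χ₀)]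
      by_cases hχ : χ = χ₀
      · rw [if_pos hχ, hχ, hv0, sub_self]
      · rw [if_neg hχ, (hab χ hχ).2, hP χ hχ]
  · -- all of type `Q`
    refine ⟨-1, fun χ => if χ = χ₀ then a χ₁ else b χ, Or.inr rfl, ?_, ?_⟩
    · intro χ ξ hf
      simp only at hf
      by_cases hχ : χ = χ₀
      · by_cases hξ : ξ = χ₀
        · rw [hχ, hξ]
        · rw [if_pos hχ, if_neg hξ] at hf
          exact absurd (by rw [← hf, hQ ξ hξ]) (hab ξ hξ).1
      · by_cases hξ : ξ = χ₀
        · rw [if_neg hχ, if_pos hξ] at hf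
          exact absurd (by rw [hf, hQ χ hχ]) (hab χ hχ).1
        · rw [if_neg hχ, if_neg hξ] at hf
          by_contra hne
          apply hvne χ ξ hχ hξ hne
          rw [(hab χ hχ).2, (hab ξ hξ).2, hf, hQ χ hχ, hQ ξ hξ]
    · intro χ
      rw [neg_smul, one_smul, neg_sub]
      beta_reduce
      rw [if_pos (rfl : χ₀ = χ₀)]
      by_cases hχ : χ = χ₀
      · rw [if_pos hχ, hχ, hv0, sub_self]
      · rw [if_neg hχ, (hab χ hχ).2, hQ χ hχ]

end Cfsg.Agent.Helper8.UniCoh
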