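import Mathlib
import Cfsg.Prelude.Def_Characters
import Cfsg.Prelude.Def_OddOrderChar
import Cfsg.Agent.Helper8.ZSpan
import Cfsg.Agent.Helper8.UniformCoherent
import Cfsg.Agent.Helper8.UniformDegree
import Cfsg.Agent.Helper8.ExtendCoherent

/-!
Coherence of a set of irreducible characters all of the same degree (Feit's framework: no
hypothesis on complex conjugation).
-/

set_option autoImplicit false
set_option linter.unusedSectionVars false

namespace Cfsg.Agent.Helper8.FS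

open Cfsg Cfsg.Agent.Helper8

variable {L G : Type*} [Group L] [Fintype L] [Group G] [Fintype G]

/-- **Equal degrees imply coherence** for sets of irreducible characters with at least two
members. -/
theorem irr_uniform_coherent (S : Set (L → ℂ)) (hirr : ∀ χ ∈ S, IsIrrCharacter L χ)
    (hdeg : ∀ φ ∈ S, ∀ ψ ∈ S, φ 1 = ψ 1) (htwo : ∃ a ∈ S, ∃ b ∈ S, a ≠ b)
    (τ : (L → ℂ) → (G → ℂ)) (hτ : IsLinearIsometryOn (zspanOn S {1}ᶜ) τ)
    (hτ1 : ∀ α ∈ zspanOn S {1}ᶜ, τ α 1 = 0) : IsCoherent S {1}ᶜ τ := by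
  classical
  haveI hfI : Fintype (IrrCharacter L) :=
    @Fintype.ofFinite _ (Cfsg.Agent.Helper23.finite_irrCharacter L)
  obtain ⟨a, ha, b, hb, hab⟩ := htwo
  have hmem : ∀ χ ∈ S, ∀ ξ ∈ S, χ - ξ ∈ zspanOn S {1}ᶜ := by
    intro χ hχ ξ hξ
    rw [mem_zspanOn_compl_one]
    refine ⟨zspan_sub_mem (mem_zspan_of_mem hχ) (mem_zspan_of_mem hξ), ?_⟩
    rw [Pi.sub_apply, hdeg χ hχ ξ hξ, sub_self]
  refine ⟨⟨b - a, hmem b hb a ha, fun h => hab (sub_eq_zero.mp h).symm⟩, ?_⟩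
  have hτ0 : τ 0 = 0 := by
    have h0 : (0 : L → ℂ) ∈ zspanOn S {1}ᶜ := by
      have := hmem a ha a ha
      rwa [sub_self] at this
    have := hτ.2.1 0 h0 0
    simpa using this
  -- the family of differences
  let T := {χ : L → ℂ // χ ∈ S}
  let a₀ : T := ⟨a, ha⟩
  obtain ⟨ε, f, hε, hf, hv⟩ := UniCoh.uniform_coherent (G := G) a₀
    (fun χ : T => τ (χ.1 - a))
    (by show τ (a - a) = 0; rw [sub_self, hτ0])
    (fun χ => hτ.2.2.2 _ (hmem χ.1 χ.2 a ha))
    (fun χ => hτ1 _ (hmem χ.1 χ.2 a ha))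
    (by
      intro χ ξ hχ hξ
      show classInner (τ (χ.1 - a)) (τ (ξ.1 - a)) = _
      rw [hτ.2.2.1 _ (hmem χ.1 χ.2 a ha) _ (hmem ξ.1 ξ.2 a ha)]
      have e := UniCoh.classInner_irr_sub_sub (G := L) ⟨χ.1, hirr _ χ.2⟩ ⟨a, hirr _ ha⟩
        ⟨ξ.1, hirr _ ξ.2⟩ ⟨a, hirr _ ha⟩
      simp only at e
      rw [e]
      have e1 : (⟨χ.1, hirr _ χ.2⟩ : IrrCharacter L) ≠ ⟨a, hirr _ ha⟩ := by
        intro h
        apply hχ
        have h' : χ.1 = a := Subtype.mk.inj h
        exact Subtype.ext h'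
      have e2 : (⟨a, hirr _ ha⟩ : IrrCharacter L) ≠ ⟨ξ.1, hirr _ ξ.2⟩ := by
        intro h
        apply hξ
        have h' : a = ξ.1 := Subtype.mk.inj h
        exact Subtype.ext h'.symm
      rw [if_neg e1, if_neg e2]
      by_cases hχξ : χ = ξ
      · have e3 : (⟨χ.1, hirr _ χ.2⟩ : IrrCharacter L) = ⟨ξ.1, hirr _ ξ.2⟩ := by
          subst hχξ; rfl
        rw [if_pos hχξ, if_pos e3]
        norm_num
      · have e3 : (⟨χ.1, hirr _ χ.2⟩ : IrrCharacter L) ≠ ⟨ξ.1, hirr _ ξ.2⟩ := by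
          intro h
          apply hχξ
          have h' : χ.1 = ξ.1 := Subtype.mk.inj h
          exact Subtype.ext h'
        rw [if_neg hχξ, if_neg e3]
        norm_num)
  -- the extension
  let e : (L → ℂ) → (G → ℂ) := fun χ => if h : χ ∈ S then ε • ((f ⟨χ, h⟩ : IrrCharacter G) : G → ℂ) else 0
  have he : ∀ χ (h : χ ∈ S), e χ = ε • ((f ⟨χ, h⟩ : IrrCharacter G) : G → ℂ) := by
    intro χ h
    show (if h : χ ∈ S then ε • ((f ⟨χ, h⟩ : IrrCharacter G) : G → ℂ) else 0) = _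
    rw [dif_pos h]
  have hεε : ε * (starRingEnd ℂ) ε = 1 := by
    rcases hε with h | h <;> rw [h] <;> simp
  have horth : ∀ ξ ∈ S, ∀ η ∈ S, classInner (e ξ) (e η) = if ξ = η then 1 else 0 := by
    intro ξ hξ η hη
    rw [he ξ hξ, he η hη, Cfsg.Agent.Helper23.classInner_smul_left,
      Cfsg.Agent.Helper8.classInner_smul_right,
      Cfsg.Agent.Helper23.classInner_irrCharacter _ _ (f ⟨ξ, hξ⟩).2 (f ⟨η, hη⟩).2]
    by_cases h : ξ = η
    · subst h
      rw [if_pos rfl, if_pos rfl, mul_one, hεε]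
    · rw [if_neg h, if_neg, mul_zero, mul_zero]
      intro h'
      apply h
      have := hf (Subtype.ext h')
      exact congrArg Subtype.val this
  have hgen : ∀ ξ ∈ S, IsGeneralizedCharacter G (e ξ) := by
    intro ξ hξ
    rw [he ξ hξ]
    have hg := Cfsg.Agent.Helper24.IsIrrCharacter.isGeneralizedCharacter (f ⟨ξ, hξ⟩).2
    rcases hε with h | h
    · rw [h, one_smul]; exact hg
    · rw [h, neg_one_smul]
      exact Cfsg.Agent.Helper24.IsGeneralizedCharacter.neg hg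
  refine ⟨coordExt S e, isLinearIsometryOn_coordExt hirr e horth hgen, ?_⟩
  intro α hα
  have hd : a 1 ≠ 0 := by
    intro h
    have := Cfsg.Agent.Helper8.isCharacter_eq_zero_of_apply_one
      (Cfsg.Agent.Helper24.IsIrrCharacter.isCharacter (hirr a ha)) h
    have h2 := Cfsg.Agent.Helper23.classInner_irrCharacter a a (hirr a ha) (hirr a ha)
    rw [if_pos rfl, this, Cfsg.Agent.Helper23.classInner_zero_left] at h2
    exact zero_ne_one h2
  have hspan := mem_span_sub_of_mem_zspanOn hdeg ha hd hα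
  have key : ∀ g ∈ Submodule.span ℤ {g : L → ℂ | ∃ χ ∈ S, g = χ - a},
      g ∈ zspanOn S {1}ᶜ ∧ coordExt S e g = τ g := by
    intro g hg
    induction hg using Submodule.span_induction with
    | mem x hx =>
      obtain ⟨χ, hχ, rfl⟩ := hx
      refine ⟨hmem χ hχ a ha, ?_⟩
      rw [coordExt_sub, coordExt_of_mem hirr e hχ, coordExt_of_mem hirr e ha, he χ hχ, he a ha,
        ← smul_sub]
      exact (hv ⟨χ, hχ⟩).symm
    | zero =>
      refine ⟨?_, ?_⟩
      · have := hmem a ha a ha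
        rwa [sub_self] at this
      · rw [hτ0]
        have := coordExt_zsmul S e 0 (0 : L → ℂ)
        simpa using this
    | add x y _ _ hx hy =>
      refine ⟨zspanOn_add_mem hx.1 hy.1, ?_⟩
      rw [coordExt_add, hx.2, hy.2, hτ.1 x hx.1 y hy.1]
    | smul n x _ hx =>
      refine ⟨zspanOn_zsmul_mem n hx.1, ?_⟩
      rw [coordExt_zsmul, hx.2, hτ.2.1 x hx.1 n]
  exact (key α hspan).2

end Cfsg.Agent.Helper8.FS
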