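import Mathlib
import Cfsg.Prelude.Def_Characters
import Cfsg.Prelude.Def_OddOrderChar
import Cfsg.Agent.Helper8.ZSpan2
import Cfsg.Agent.Helper8.PosDef
import Cfsg.Agent.Helper24.Regular

set_option autoImplicit false
open Cfsg

namespace Cfsg.Agent.Helper8.FS

open Cfsg.Agent.Helper8

theorem coh_arith' (a D s : ℤ) (x m : ℤ) (ha : 1 ≤ a) (hD : 1 ≤ D) (hs : 2 * a * D < s) (hm : 0 ≤ m)
    (hE : D = x ^ 2 * s - 2 * a * x * D + D * m) :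
    (x = 0 ∧ m = 1) ∨ (x = 1 ∧ m = 0 ∧ s = (2 * a + 1) * D) := by
  by_cases hx0 : x = 0
  · left
    refine ⟨hx0, ?_⟩
    subst hx0
    have : D * m = D * 1 := by linarith
    exact mul_left_cancel₀ (by omega) this
  · right
    have hx2 : 1 ≤ x ^ 2 := by
      have : 0 < x ^ 2 := by positivity
      omega
    have hxx : 0 ≤ x * (x - 1) := by
      rcases le_or_gt x 0 with h | h
      · nlinarith
      · nlinarith
    have hs' : 2 * a * D + 1 ≤ s := by omega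
    have h1 : x ^ 2 * (2 * a * D + 1) ≤ x ^ 2 * s := by
      apply mul_le_mul_of_nonneg_left hs' (by positivity)
    have h2 : 2 * a * D * (x * (x - 1)) + x ^ 2 + D * m ≤ D := by nlinarith
    have haD : 1 ≤ a * D := by nlinarith
    have hx1 : x * (x - 1) = 0 := by
      by_contra hne
      have : 1 ≤ x * (x - 1) := by omega
      nlinarith
    have hx : x = 1 := by
      rcases mul_eq_zero.mp hx1 with h | h
      · exact absurd h hx0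
      · omega
    subst hx
    have hm0 : m = 0 := by
      by_contra hne
      have : 1 ≤ m := by omega
      nlinarith
    subst hm0
    refine ⟨rfl, rfl, ?_⟩
    linarith

/-- Let N be a subgroup of the finite group G and S₀ a finite set of irreducible characters of N, χ an irreducible character of N not in S₀, with degrees ξ 1 = d ξ. Let τ be a linear isometry on the integer combinations of S₀ ∪ {χ} vanishing at 1, with values virtual characters of G vanishing at 1, such that (S₀, N minus 1, τ) is coherent. If some ψ ∈ S₀ has d ψ dividing d χ and 2 · d ψ · d χ < Σ_{ξ ∈ S₀} (d ξ)², then (S₀ ∪ {χ}, N minus 1, τ) is coherent. -/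
theorem coh_extend {N : Type*} [Group N] [Fintype N] {G : Type*} [Group G] [Fintype G] (S₀ : Finset (N → ℂ)) (χ : N → ℂ) (hirr : ∀ ξ ∈ S₀, Cfsg.IsIrrCharacter N ξ) (hχ : Cfsg.IsIrrCharacter N χ) (hχS : χ ∉ S₀) (d : (N → ℂ) → ℕ) (hd : ∀ ξ ∈ insert χ S₀, ξ 1 = (d ξ : ℂ)) (τ : (N → ℂ) → (G → ℂ)) (hτ : Cfsg.IsLinearIsometryOn (Cfsg.zspanOn (↑(insert χ S₀) : Set (N → ℂ)) {1}ᶜ) τ) (hτ1 : ∀ α ∈ Cfsg.zspanOn (↑(insert χ S₀) : Set (N → ℂ)) {1}ᶜ, τ α 1 = 0) (hcoh : Cfsg.IsCoherent (↑S₀ : Set (N → ℂ)) {1}ᶜ τ) (ψ : N → ℂ) (hψ : ψ ∈ S₀) (hdvd : d ψ ∣ d χ) (hlt : 2 * d ψ * d χ < ∑ ξ ∈ S₀, d ξ ^ 2) : Cfsg.IsCoherent (↑(insert χ S₀) : Set (N → ℂ)) {1}ᶜ τ := by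
  classical
  have fI : Fintype (Cfsg.IrrCharacter N) := Fintype.ofFinite _
  have fIG : Fintype (Cfsg.IrrCharacter G) := Fintype.ofFinite _
  obtain ⟨⟨α₀, hα₀, hα₀ne⟩, τ₁, hτ₁, hagree⟩ := hcoh
  -- the sets
  have hcoe : (↑(insert χ S₀) : Set (N → ℂ)) = insert χ (↑S₀ : Set (N → ℂ)) :=
    Finset.coe_insert χ S₀
  have hST : (↑S₀ : Set (N → ℂ)) ⊆ ↑(insert χ S₀) := by
    rw [hcoe]; exact Set.subset_insert _ _
  have hχT : χ ∈ (↑(insert χ S₀) : Set (N → ℂ)) := by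
    rw [hcoe]; exact Set.mem_insert _ _
  have hirrS : ∀ ξ ∈ (↑S₀ : Set (N → ℂ)), Cfsg.IsIrrCharacter N ξ :=
    fun ξ hξ => hirr ξ (Finset.mem_coe.mp hξ)
  have hirrT : ∀ ξ ∈ (↑(insert χ S₀) : Set (N → ℂ)), Cfsg.IsIrrCharacter N ξ := by
    intro ξ hξ
    rw [hcoe] at hξ
    rcases hξ with rfl | hξ
    · exact hχ
    · exact hirrS ξ hξ
  have hψS : ψ ∈ (↑S₀ : Set (N → ℂ)) := Finset.mem_coe.mpr hψ
  have hχψ : χ ≠ ψ := fun h => hχS (h ▸ hψ)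
  -- degrees
  have hdχ : χ 1 = (d χ : ℂ) := hd χ (Finset.mem_insert_self _ _)
  have hdS : ∀ ξ ∈ S₀, ξ 1 = (d ξ : ℂ) := fun ξ hξ => hd ξ (Finset.mem_insert_of_mem hξ)
  have hdpos : ∀ ξ ∈ S₀, 0 < d ξ := by
    intro ξ hξ
    obtain ⟨n, hn, hn1⟩ := irr_degree_pos (hirr ξ hξ)
    have : (d ξ : ℂ) = n := by rw [← hdS ξ hξ, hn1]
    have : d ξ = n := by exact_mod_cast this
    omega
  have hdχpos : 0 < d χ := by
    obtain ⟨n, hn, hn1⟩ := irr_degree_pos hχ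
    have : (d χ : ℂ) = n := by rw [← hdχ, hn1]
    have : d χ = n := by exact_mod_cast this
    omega
  have hdψpos : 0 < d ψ := hdpos ψ hψ
  obtain ⟨a, ha⟩ := hdvd
  have ha1 : 1 ≤ a := by
    rcases Nat.eq_zero_or_pos a with h | h
    · rw [h, mul_zero] at ha; omega
    · exact h
  -- orthogonality facts in N
  have hoχχ : Cfsg.classInner χ χ = 1 := by
    rw [Cfsg.Agent.Helper23.classInner_irrCharacter χ χ hχ hχ, if_pos rfl]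
  have hoSS : ∀ ξ ∈ S₀, ∀ η ∈ S₀, Cfsg.classInner ξ η = if ξ = η then 1 else 0 :=
    fun ξ hξ η hη => Cfsg.Agent.Helper23.classInner_irrCharacter ξ η (hirr ξ hξ) (hirr η hη)
  have hoχS : ∀ ξ ∈ S₀, Cfsg.classInner χ ξ = 0 := by
    intro ξ hξ
    rw [Cfsg.Agent.Helper23.classInner_irrCharacter χ ξ hχ (hirr ξ hξ), if_neg]
    rintro rfl
    exact hχS hξ
  have hoSχ : ∀ ξ ∈ S₀, Cfsg.classInner ξ χ = 0 := by
    intro ξ hξ
    rw [Cfsg.Agent.Helper23.classInner_irrCharacter ξ χ (hirr ξ hξ) hχ, if_neg]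
    rintro rfl
    exact hχS hξ
  -- the element β
  have hχz : χ ∈ Cfsg.zspan (↑(insert χ S₀) : Set (N → ℂ)) := mem_zspan_of_mem hχT
  have hψz : ψ ∈ Cfsg.zspan (↑S₀ : Set (N → ℂ)) := mem_zspan_of_mem hψS
  have hψzT : ψ ∈ Cfsg.zspan (↑(insert χ S₀) : Set (N → ℂ)) := zspan_mono hST hψz
  have hβz : (χ + (-(a : ℤ)) • ψ) ∈ Cfsg.zspan (↑(insert χ S₀) : Set (N → ℂ)) :=
    zspan_add_mem hχz (zspan_zsmul_mem _ hψzT)
  have hβ1 : (χ + (-(a : ℤ)) • ψ) 1 = 0 := by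
    show χ 1 + (-(a : ℤ)) • ψ 1 = 0
    rw [hdχ, hdS ψ hψ, zsmul_eq_mul, ha]
    push_cast
    ring
  have hβT := mem_zspanOn_compl_one.mpr ⟨hβz, hβ1⟩
  have hBgen := hτ.2.2.2 _ hβT
  have hB1 := hτ1 _ hβT
  have hBB : Cfsg.classInner (τ (χ + (-(a : ℤ)) • ψ)) (τ (χ + (-(a : ℤ)) • ψ))
      = 1 + (a : ℂ) * a := by
    rw [hτ.2.2.1 _ hβT _ hβT]
    simp only [← Int.cast_smul_eq_zsmul ℂ]
    have h1 : χ + ((-(a : ℤ) : ℤ) : ℂ) • ψ = (1 : ℂ) • χ + ((-(a : ℤ) : ℤ) : ℂ) • ψ := by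
      rw [one_smul]
    rw [h1, classInner_comb, hoχχ, hoχS ψ hψ, hoSχ ψ hψ, hoSS ψ hψ ψ hψ, if_pos rfl]
    simp only [map_neg, Int.cast_neg, Int.cast_natCast, Complex.conj_natCast, map_one]
    ring
  -- abbreviations
  set B : G → ℂ := τ (χ + (-(a : ℤ)) • ψ) with hBdef
  -- the images of S₀
  have horthS := orthonormal_of_isLinearIsometryOn hirrS hτ₁
  have hgenS : ∀ ξ ∈ S₀, Cfsg.IsGeneralizedCharacter G (τ₁ ξ) :=
    fun ξ hξ => hτ₁.2.2.2 ξ (mem_zspan_of_mem (Finset.mem_coe.mpr hξ))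
  -- the elements γ ξ
  have hγz : ∀ ξ ∈ S₀, ((d ψ : ℤ) • ξ + (-(d ξ : ℤ)) • ψ) ∈ Cfsg.zspan (↑S₀ : Set (N → ℂ)) :=
    fun ξ hξ => zspan_add_mem (zspan_zsmul_mem _ (mem_zspan_of_mem (Finset.mem_coe.mpr hξ)))
      (zspan_zsmul_mem _ hψz)
  have hγ1 : ∀ ξ ∈ S₀, ((d ψ : ℤ) • ξ + (-(d ξ : ℤ)) • ψ) 1 = 0 := by
    intro ξ hξ
    show (d ψ : ℤ) • ξ 1 + (-(d ξ : ℤ)) • ψ 1 = 0
    rw [hdS ξ hξ, hdS ψ hψ, zsmul_eq_mul, zsmul_eq_mul]
    push_cast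
    ring
  have hγS : ∀ ξ ∈ S₀, ((d ψ : ℤ) • ξ + (-(d ξ : ℤ)) • ψ) ∈ Cfsg.zspanOn (↑S₀ : Set (N → ℂ)) {1}ᶜ :=
    fun ξ hξ => mem_zspanOn_compl_one.mpr ⟨hγz ξ hξ, hγ1 ξ hξ⟩
  have hγT : ∀ ξ ∈ S₀, ((d ψ : ℤ) • ξ + (-(d ξ : ℤ)) • ψ)
      ∈ Cfsg.zspanOn (↑(insert χ S₀) : Set (N → ℂ)) {1}ᶜ :=
    fun ξ hξ => mem_zspanOn_compl_one.mpr ⟨zspan_mono hST (hγz ξ hξ), hγ1 ξ hξ⟩
  have hτγ : ∀ ξ ∈ S₀, τ ((d ψ : ℤ) • ξ + (-(d ξ : ℤ)) • ψ)
      = (d ψ : ℤ) • τ₁ ξ + (-(d ξ : ℤ)) • τ₁ ψ := by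
    intro ξ hξ
    have hξz := mem_zspan_of_mem (Finset.mem_coe.mpr hξ)
    rw [← hagree _ (hγS ξ hξ), hτ₁.1 _ (zspan_zsmul_mem _ hξz) _ (zspan_zsmul_mem _ hψz),
      hτ₁.2.1 _ hξz, hτ₁.2.1 _ hψz]
  -- the integer coordinates of B
  have hcx : ∀ ξ ∈ S₀, ∃ n : ℤ, Cfsg.classInner B (τ₁ ξ) = n :=
    fun ξ hξ => Cfsg.Agent.Helper24.IsGeneralizedCharacter.classInner_int hBgen (hgenS ξ hξ)
  choose! c hc using hcx
  -- the basic relation (I1)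
  have hI1 : ∀ ξ ∈ S₀, (d ψ : ℤ) * c ξ
      = (d ξ : ℤ) * (c ψ + a) - (a : ℤ) * (d ψ : ℤ) * (if ξ = ψ then 1 else 0) := by
    intro ξ hξ
    have h1 : Cfsg.classInner B (τ ((d ψ : ℤ) • ξ + (-(d ξ : ℤ)) • ψ))
        = Cfsg.classInner (χ + (-(a : ℤ)) • ψ) ((d ψ : ℤ) • ξ + (-(d ξ : ℤ)) • ψ) :=
      hτ.2.2.1 _ hβT _ (hγT ξ hξ)
    rw [hτγ ξ hξ] at h1
    have hL : Cfsg.classInner B ((d ψ : ℤ) • τ₁ ξ + (-(d ξ : ℤ)) • τ₁ ψ)
        = (d ψ : ℂ) * c ξ - (d ξ : ℂ) * c ψ := by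
      rw [← Int.cast_smul_eq_zsmul ℂ (d ψ : ℤ) (τ₁ ξ),
        ← Int.cast_smul_eq_zsmul ℂ (-(d ξ : ℤ)) (τ₁ ψ), classInner_add_right,
        classInner_smul_right, classInner_smul_right, hc ξ hξ, hc ψ hψ]
      simp only [map_neg, Int.cast_neg, Int.cast_natCast, Complex.conj_natCast]
      ring
    have hR : Cfsg.classInner (χ + (-(a : ℤ)) • ψ) ((d ψ : ℤ) • ξ + (-(d ξ : ℤ)) • ψ)
        = (a : ℂ) * (d ξ : ℂ) - (a : ℂ) * (d ψ : ℂ) * (if ξ = ψ then 1 else 0) := by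
      simp only [← Int.cast_smul_eq_zsmul ℂ]
      have h2 : χ + ((-(a : ℤ) : ℤ) : ℂ) • ψ = (1 : ℂ) • χ + ((-(a : ℤ) : ℤ) : ℂ) • ψ := by
        rw [one_smul]
      rw [h2, classInner_comb, hoχS ξ hξ, hoχS ψ hψ, hoSS ψ hψ ξ hξ, hoSS ψ hψ ψ hψ, if_pos rfl]
      simp only [map_neg, Int.cast_neg, Int.cast_natCast, Complex.conj_natCast]
      by_cases hξψ : ξ = ψ
      · rw [if_pos hξψ, if_pos hξψ.symm]; ring
      · rw [if_neg hξψ, if_neg (fun h => hξψ h.symm)]; ring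
    rw [hL, hR] at h1
    have h3 : (((d ψ : ℤ) * c ξ : ℤ) : ℂ)
        = (((d ξ : ℤ) * (c ψ + a) - (a : ℤ) * (d ψ : ℤ) * (if ξ = ψ then 1 else 0) : ℤ) : ℂ) := by
      push_cast
      by_cases hξψ : ξ = ψ
      · rw [if_pos hξψ] at h1 ⊢
        linear_combination h1
      · rw [if_neg hξψ] at h1 ⊢
        linear_combination h1
    exact_mod_cast h3
  -- the projection P and the remainder Δ
  set P : G → ℂ := ∑ ξ ∈ S₀, (c ξ : ℂ) • τ₁ ξ with hPdef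
  have hPη : ∀ η ∈ S₀, Cfsg.classInner P (τ₁ η) = (c η : ℂ) := by
    intro η hη
    rw [hPdef, Cfsg.Agent.Helper24.classInner_sum_left, Finset.sum_eq_single η]
    · rw [Cfsg.Agent.Helper24.classInner_smul_left,
        horthS η (Finset.mem_coe.mpr hη) η (Finset.mem_coe.mpr hη), if_pos rfl, mul_one]
    · intro ξ hξ hne
      rw [Cfsg.Agent.Helper24.classInner_smul_left,
        horthS ξ (Finset.mem_coe.mpr hξ) η (Finset.mem_coe.mpr hη), if_neg hne, mul_zero]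
    · intro h; exact absurd hη h
  have hΔη : ∀ η ∈ S₀, Cfsg.classInner (B - P) (τ₁ η) = 0 := by
    intro η hη
    rw [classInner_sub_left, hc η hη, hPη η hη, sub_self]
  have hPgen : Cfsg.IsGeneralizedCharacter G P := by
    rw [hPdef]
    apply Cfsg.Agent.Helper24.isGeneralizedCharacter_sum
    intro ξ hξ
    exact Cfsg.Agent.Helper24.IsGeneralizedCharacter.zsmul (hgenS ξ hξ) (c ξ)
  have hΔgen : Cfsg.IsGeneralizedCharacter G (B - P) :=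
    Cfsg.Agent.Helper24.IsGeneralizedCharacter.sub hBgen hPgen
  obtain ⟨m, hm⟩ := Cfsg.Agent.Helper24.IsGeneralizedCharacter.classInner_int hΔgen hΔgen
  have hm0 : 0 ≤ m := int_nonneg_of_classInner_self hm
  have hΔP : Cfsg.classInner (B - P) P = 0 := by
    rw [hPdef, classInner_sum_right]
    apply Finset.sum_eq_zero
    intro ξ hξ
    rw [classInner_smul_right, hΔη ξ hξ, mul_zero]
  have hPΔ : Cfsg.classInner P (B - P) = 0 := by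
    rw [classInner_conj_symm (B - P) P, hΔP, map_zero]
  have hPP : Cfsg.classInner P P = ((∑ ξ ∈ S₀, c ξ * c ξ : ℤ) : ℂ) := by
    conv_lhs => rw [hPdef]
    rw [classInner_sum_right]
    push_cast
    apply Finset.sum_congr rfl
    intro ξ hξ
    rw [classInner_smul_right, hPη ξ hξ, map_intCast]
  have hsplit : Cfsg.classInner B B = ((∑ ξ ∈ S₀, c ξ * c ξ : ℤ) : ℂ) + (m : ℂ) := by
    have hB : B = P + (B - P) := by abel
    conv_lhs => rw [hB]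
    rw [Cfsg.Agent.Helper24.classInner_add_left, classInner_add_right, classInner_add_right,
      hPP, hPΔ, hΔP, hm]
    ring
  -- the integer equation
  have hnorm : (1 + (a : ℤ) * a : ℤ) = (∑ ξ ∈ S₀, c ξ * c ξ) + m := by
    have h1 : ((1 + (a : ℤ) * a : ℤ) : ℂ) = (((∑ ξ ∈ S₀, c ξ * c ξ) + m : ℤ) : ℂ) := by
      push_cast
      rw [← hBB]
      push_cast at hsplit
      exact hsplit
    exact_mod_cast h1
  have hsumsq : ∑ ξ ∈ S₀, ((d ψ : ℤ) * c ξ) ^ 2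
      = (c ψ + a) ^ 2 * (∑ ξ ∈ S₀, (d ξ : ℤ) ^ 2) - 2 * a * (c ψ + a) * (d ψ : ℤ) ^ 2
        + (a : ℤ) ^ 2 * (d ψ : ℤ) ^ 2 := by
    have h1 : ∀ ξ ∈ S₀, ((d ψ : ℤ) * c ξ) ^ 2
        = (c ψ + a) ^ 2 * (d ξ : ℤ) ^ 2
          - (if ξ = ψ then 2 * (a : ℤ) * (c ψ + a) * (d ψ : ℤ) * (d ξ : ℤ) else 0)
          + (if ξ = ψ then (a : ℤ) ^ 2 * (d ψ : ℤ) ^ 2 else 0) := by
      intro ξ hξ
      rw [hI1 ξ hξ]
      by_cases hξψ : ξ = ψ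
      · rw [if_pos hξψ, if_pos hξψ, if_pos hξψ]; ring
      · rw [if_neg hξψ, if_neg hξψ, if_neg hξψ]; ring
    rw [Finset.sum_congr rfl h1, Finset.sum_add_distrib, Finset.sum_sub_distrib,
      Finset.sum_ite_eq' S₀ ψ, Finset.sum_ite_eq' S₀ ψ, if_pos hψ, if_pos hψ, ← Finset.mul_sum]
    ring
  have hE : (d ψ : ℤ) ^ 2 = (c ψ + a) ^ 2 * (∑ ξ ∈ S₀, (d ξ : ℤ) ^ 2)
      - 2 * (a : ℤ) * (c ψ + a) * (d ψ : ℤ) ^ 2 + (d ψ : ℤ) ^ 2 * m := by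
    have h1 : (d ψ : ℤ) ^ 2 * (1 + (a : ℤ) * a)
        = (∑ ξ ∈ S₀, ((d ψ : ℤ) * c ξ) ^ 2) + (d ψ : ℤ) ^ 2 * m := by
      rw [hnorm, mul_add, Finset.mul_sum]
      congr 1
      apply Finset.sum_congr rfl
      intro ξ _
      ring
    rw [hsumsq] at h1
    linarith
  have hsgt : 2 * (a : ℤ) * (d ψ : ℤ) ^ 2 < ∑ ξ ∈ S₀, (d ξ : ℤ) ^ 2 := by
    have h1 : ((2 * d ψ * d χ : ℕ) : ℤ) < ((∑ ξ ∈ S₀, d ξ ^ 2 : ℕ) : ℤ) := by exact_mod_cast hlt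
    rw [ha] at h1
    push_cast at h1
    linarith
  have hcases := coh_arith' (a : ℤ) ((d ψ : ℤ) ^ 2) (∑ ξ ∈ S₀, (d ξ : ℤ) ^ 2) (c ψ + a) m
    (by exact_mod_cast ha1)
    (by
      have : (1 : ℤ) ≤ (d ψ : ℤ) := by exact_mod_cast hdψpos
      nlinarith)
    hsgt hm0 hE
  -- degree relations
  have hdeg : ∀ ξ ∈ S₀, (d ψ : ℂ) * τ₁ ξ 1 = (d ξ : ℂ) * τ₁ ψ 1 := by
    intro ξ hξ
    have h1 := hτ1 _ (hγT ξ hξ)
    rw [hτγ ξ hξ] at h1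
    have h2 : (d ψ : ℤ) • τ₁ ξ 1 + (-(d ξ : ℤ)) • τ₁ ψ 1 = 0 := h1
    rw [zsmul_eq_mul, zsmul_eq_mul] at h2
    push_cast at h2
    linear_combination h2
  have hψ1ne : τ₁ ψ 1 ≠ 0 := by
    have hn1 : Cfsg.classInner (τ₁ ψ) (τ₁ ψ) = 1 := by
      rw [horthS ψ hψS ψ hψS, if_pos rfl]
    obtain ⟨φ, hφ | hφ⟩ :=
      Cfsg.Agent.Helper24.IsGeneralizedCharacter.eq_or_eq_neg_of_classInner_self (hgenS ψ hψ) hn1
    · obtain ⟨n, hn, hn1⟩ := irr_degree_pos φ.2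
      rw [hφ, hn1]
      exact Nat.cast_ne_zero.mpr hn.ne'
    · obtain ⟨n, hn, hn1⟩ := irr_degree_pos φ.2
      rw [hφ, Pi.neg_apply, hn1]
      exact neg_ne_zero.mpr (Nat.cast_ne_zero.mpr hn.ne')
  have hdψ0 : (d ψ : ℂ) ≠ 0 := Nat.cast_ne_zero.mpr hdψpos.ne'
  rcases hcases with ⟨hx0, hm1⟩ | ⟨hx1, hm0', hs⟩
  · -- the good case
    have hcψ : c ψ = -(a : ℤ) := by omega
    have hcξ : ∀ ξ ∈ S₀, ξ ≠ ψ → c ξ = 0 := by
      intro ξ hξ hne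
      have h1 := hI1 ξ hξ
      rw [hx0, if_neg hne] at h1
      have h2 : (d ψ : ℤ) * c ξ = 0 := by rw [h1]; ring
      rcases mul_eq_zero.mp h2 with h | h
      · have : (d ψ : ℤ) ≠ 0 := by exact_mod_cast hdψpos.ne'
        exact absurd h this
      · exact h
    have hPeq : P = ((-(a : ℤ) : ℤ) : ℂ) • τ₁ ψ := by
      rw [hPdef, Finset.sum_eq_single ψ]
      · rw [hcψ]
      · intro ξ hξ hne
        rw [hcξ ξ hξ hne, Int.cast_zero, zero_smul]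
      · intro h; exact absurd hψ h
    have hΔΔ : Cfsg.classInner (B - P) (B - P) = 1 := by
      rw [hm, hm1, Int.cast_one]
    -- the glued map
    let e' : (N → ℂ) → (G → ℂ) := fun ξ => if ξ = χ then B - P else τ₁ ξ
    have he'χ : e' χ = B - P := if_pos rfl
    have he'S : ∀ ξ ∈ (↑S₀ : Set (N → ℂ)), e' ξ = τ₁ ξ := by
      intro ξ hξ
      have hne : ξ ≠ χ := by
        rintro rfl
        exact hχS (Finset.mem_coe.mp hξ)
      exact if_neg hne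
    have horthT : ∀ ξ ∈ (↑(insert χ S₀) : Set (N → ℂ)), ∀ η ∈ (↑(insert χ S₀) : Set (N → ℂ)),
        Cfsg.classInner (e' ξ) (e' η) = if ξ = η then 1 else 0 := by
      intro ξ hξ η hη
      rw [hcoe] at hξ hη
      rcases hξ with rfl | hξ <;> rcases hη with rfl | hη
      · rw [he'χ, hΔΔ, if_pos rfl]
      · rw [he'χ, he'S η hη, hΔη η (Finset.mem_coe.mp hη), if_neg]
        rintro rfl
        exact hχS (Finset.mem_coe.mp hη)
      · rw [he'χ, he'S ξ hξ, classInner_conj_symm (B - P) (τ₁ ξ), hΔη ξ (Finset.mem_coe.mp hξ),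
          map_zero, if_neg]
        rintro rfl
        exact hχS (Finset.mem_coe.mp hξ)
      · rw [he'S ξ hξ, he'S η hη]
        exact horthS ξ hξ η hη
    have hgenT : ∀ ξ ∈ (↑(insert χ S₀) : Set (N → ℂ)), Cfsg.IsGeneralizedCharacter G (e' ξ) := by
      intro ξ hξ
      rw [hcoe] at hξ
      rcases hξ with rfl | hξ
      · rw [he'χ]; exact hΔgen
      · rw [he'S ξ hξ]; exact hgenS ξ (Finset.mem_coe.mp hξ)
    have hτ₂ := isLinearIsometryOn_coordExt hirrT e' horthT hgenT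
    have hτ₂S : ∀ f ∈ Cfsg.zspan (↑S₀ : Set (N → ℂ)),
        coordExt (↑(insert χ S₀) : Set (N → ℂ)) e' f = τ₁ f := by
      intro f hf
      rw [coordExt_eq_of_subset hST hirrS e' τ₁ he'S hf,
        ← eq_coordExt_of_isLinearIsometryOn hirrS hτ₁ hf]
    have hτ₂β : coordExt (↑(insert χ S₀) : Set (N → ℂ)) e' (χ + (-(a : ℤ)) • ψ) = B := by
      rw [coordExt_add, coordExt_zsmul, coordExt_of_mem hirrT e' hχT, hτ₂S ψ hψz, he'χ, hPeq,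
        Int.cast_smul_eq_zsmul]
      abel
    refine ⟨⟨α₀, ?_, hα₀ne⟩, coordExt (↑(insert χ S₀) : Set (N → ℂ)) e', hτ₂, ?_⟩
    · rw [mem_zspanOn_compl_one] at hα₀ ⊢
      exact ⟨zspan_mono hST hα₀.1, hα₀.2⟩
    · intro θ hθ
      rw [mem_zspanOn_compl_one] at hθ
      obtain ⟨hθz, hθ1⟩ := hθ
      have hθz' : θ ∈ Submodule.span ℤ (insert χ (↑S₀ : Set (N → ℂ))) := by
        rw [← hcoe]; exact hθz
      obtain ⟨n, z, hz, hθeq⟩ := Submodule.mem_span_insert.mp hθz'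
      have hz' : z ∈ Cfsg.zspan (↑S₀ : Set (N → ℂ)) := hz
      have hz2 : (z + (n * (a : ℤ)) • ψ) ∈ Cfsg.zspan (↑S₀ : Set (N → ℂ)) :=
        zspan_add_mem hz' (zspan_zsmul_mem _ hψz)
      have hθeq2 : θ = n • (χ + (-(a : ℤ)) • ψ) + (z + (n * (a : ℤ)) • ψ) := by
        rw [hθeq]
        module
      have hz21 : (z + (n * (a : ℤ)) • ψ) 1 = 0 := by
        have h1 := congrFun hθeq2 1
        rw [hθ1] at h1
        have h2 : (n • (χ + (-(a : ℤ)) • ψ) + (z + (n * (a : ℤ)) • ψ)) 1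
            = n • (χ + (-(a : ℤ)) • ψ) 1 + (z + (n * (a : ℤ)) • ψ) 1 := rfl
        rw [h2, hβ1, smul_zero, zero_add] at h1
        exact h1.symm
      have hz2S := mem_zspanOn_compl_one.mpr ⟨hz2, hz21⟩
      have hz2T := mem_zspanOn_compl_one.mpr ⟨zspan_mono hST hz2, hz21⟩
      have hnβT : n • (χ + (-(a : ℤ)) • ψ) ∈ Cfsg.zspanOn (↑(insert χ S₀) : Set (N → ℂ)) {1}ᶜ := by
        rw [mem_zspanOn_compl_one]
        refine ⟨zspan_zsmul_mem n hβz, ?_⟩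
        show n • (χ + (-(a : ℤ)) • ψ) 1 = 0
        rw [hβ1, smul_zero]
      rw [hθeq2, coordExt_add, coordExt_zsmul, hτ₂β, hτ₂S _ hz2, hτ.1 _ hnβT _ hz2T,
        hτ.2.1 _ hβT, hagree _ hz2S]
  · -- the bad case
    exfalso
    have hΔ0 : B - P = 0 := by
      apply eq_zero_of_classInner_self_eq_zero
      rw [hm, hm0', Int.cast_zero]
    have hBP : B = P := sub_eq_zero.mp hΔ0
    have hP1 : P 1 = 0 := by rw [← hBP]; exact hB1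
    have hP1' : ∑ ξ ∈ S₀, (c ξ : ℂ) * τ₁ ξ 1 = 0 := by
      rw [← hP1, hPdef, Finset.sum_apply]
      apply Finset.sum_congr rfl
      intro ξ _
      rfl
    have h1 : (d ψ : ℂ) ^ 2 * ∑ ξ ∈ S₀, (c ξ : ℂ) * τ₁ ξ 1
        = τ₁ ψ 1 * ∑ ξ ∈ S₀, (((d ψ : ℤ) * c ξ : ℤ) : ℂ) * (d ξ : ℂ) := by
      rw [Finset.mul_sum, Finset.mul_sum]
      apply Finset.sum_congr rfl
      intro ξ hξ
      have := hdeg ξ hξ
      push_cast
      linear_combination ((d ψ : ℂ) * (c ξ : ℂ)) * this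
    have h2 : ∑ ξ ∈ S₀, ((d ψ : ℤ) * c ξ) * (d ξ : ℤ)
        = ((a : ℤ) + 1) * (d ψ : ℤ) ^ 2 := by
      have h3 : ∀ ξ ∈ S₀, ((d ψ : ℤ) * c ξ) * (d ξ : ℤ)
          = (d ξ : ℤ) ^ 2 - (if ξ = ψ then (a : ℤ) * (d ψ : ℤ) * (d ξ : ℤ) else 0) := by
        intro ξ hξ
        rw [hI1 ξ hξ, hx1]
        by_cases hξψ : ξ = ψ
        · rw [if_pos hξψ, if_pos hξψ]; ring
        · rw [if_neg hξψ, if_neg hξψ]; ring
      rw [Finset.sum_congr rfl h3, Finset.sum_sub_distrib, Finset.sum_ite_eq' S₀ ψ, if_pos hψ, hs]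
      ring
    rw [hP1', mul_zero] at h1
    have h4 : (∑ ξ ∈ S₀, (((d ψ : ℤ) * c ξ : ℤ) : ℂ) * (d ξ : ℂ))
        = ((((a : ℤ) + 1) * (d ψ : ℤ) ^ 2 : ℤ) : ℂ) := by
      rw [← h2]
      push_cast
      rfl
    rw [h4] at h1
    have h5 : ((((a : ℤ) + 1) * (d ψ : ℤ) ^ 2 : ℤ) : ℂ) ≠ 0 := by
      rw [Int.cast_ne_zero]
      have : (1 : ℤ) ≤ (d ψ : ℤ) := by exact_mod_cast hdψpos
      have : (0 : ℤ) < ((a : ℤ) + 1) * (d ψ : ℤ) ^ 2 := by positivity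
      omega
    rcases mul_eq_zero.mp h1.symm with h | h
    · exact hψ1ne h
    · exact h5 h

end Cfsg.Agent.Helper8.FS
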