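import Mathlib
import Cfsg.Prelude.Def_Characters
import Cfsg.Agent.Helper8.FrobKernel2
import Cfsg.Agent.Helper8.CharComp
import Cfsg.Agent.Helper8.Virtual
import Cfsg.Agent.Helper24.Abelian

/-!
Frobenius kernels, third part: abelian kernels; coherence for equal degrees.
-/

set_option autoImplicit false

namespace Cfsg.Agent.Helper8.FrobKer

open Cfsg Cfsg.Agent.Helper24

section Abelian

variable {N : Type*} [Group N] [Fintype N] (K : Subgroup N)

theorem sum_indK_eq_sum_subtype [Fintype K] (f : N → ℂ) :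
    ∑ n : N, indK K n * f n = ∑ k : K, f k := by
  classical
  have h1 : ∀ n : N, indK K n * f n = if n ∈ K then f n else 0 := by
    intro n
    by_cases hn : n ∈ K
    · rw [indK_mem K hn, one_mul, if_pos hn]
    · rw [indK_not_mem K hn, zero_mul, if_neg hn]
  simp_rw [h1]
  rw [← Finset.sum_filter]
  exact Finset.sum_subtype (Finset.univ.filter (· ∈ K)) (by simp) f

/-- Frobenius kernels: every nonconstant irreducible character is induced from the kernel. -/
theorem exists_ind_eq [hK : K.Normal] (hF : ∀ n : N, n ∉ K → ∀ k ∈ K, k * n = n * k → k = 1)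
    (χ : IrrCharacter N) (hχ : NonConst K (χ : N → ℂ)) :
    ∃ θ : IrrCharacter K, θ ≠ trivIrr K ∧ indFun K (θ : K → ℂ) = (χ : N → ℂ) := by
  classical
  haveI : Fintype K := Fintype.ofFinite _
  haveI : Fintype (IrrCharacter K) := Fintype.ofFinite _
  have hR : IsCharacter K (fun k : K => (χ : N → ℂ) k) :=
    isCharacter_restrict K (IsIrrCharacter.isCharacter χ.2)
  have hexp := IsCharacter.eq_sum_classInner hR
  obtain ⟨θ, hθ⟩ : ∃ θ : IrrCharacter K,
      classInner (fun k : K => (χ : N → ℂ) k) (θ : K → ℂ) ≠ 0 := by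
    by_contra hcon
    push Not at hcon
    have h0 : (fun k : K => (χ : N → ℂ) k) = 0 := by
      rw [hexp]
      refine Finset.sum_eq_zero fun θ _ => ?_
      rw [hcon θ, zero_smul]
    have := congrFun h0 1
    exact irr_one_ne_zero χ this
  have hθ1 : θ ≠ trivIrr K := by
    intro h1
    apply hθ
    rw [h1]
    unfold classInner
    have : ∀ k : K, (χ : N → ℂ) k * (starRingEnd ℂ) ((trivIrr K : K → ℂ) k) = (χ : N → ℂ) k := by
      intro k
      rw [trivIrr_apply, map_one, mul_one]
    simp_rw [this]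
    rw [← sum_indK_eq_sum_subtype K (χ : N → ℂ), sum_indK_mul K χ hχ, mul_zero]
  have hθ1' : (θ : K → ℂ) ≠ fun _ => 1 := by
    intro h1
    apply hθ1
    apply Subtype.ext
    rw [h1]
    rfl
  refine ⟨θ, hθ1, ?_⟩
  have hirr := isIrr_ind K hF _ θ.2 hθ1'
  have h2 := classInner_of_isIrrCharacter hirr χ.2
  rw [frobenius_reciprocity K _ _ (isClassFunction_irr χ)] at h2
  by_contra hne
  rw [if_neg hne] at h2
  apply hθ
  rw [← Cfsg.Agent.Helper24.classInner_conj_symm, h2, map_zero]

/-- Frobenius kernels: if the kernel is abelian, the nonconstant irreducible characters have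
degree the index of the kernel. -/
theorem deg_of_abelian [hK : K.Normal] (hF : ∀ n : N, n ∉ K → ∀ k ∈ K, k * n = n * k → k = 1)
    (hab : ∀ a b : K, a * b = b * a)
    (χ : IrrCharacter N) (hχ : NonConst K (χ : N → ℂ)) : (χ : N → ℂ) 1 = (K.index : ℂ) := by
  obtain ⟨θ, _, hθ⟩ := exists_ind_eq K hF χ hχ
  rw [← hθ, ind_one, (comm_iff_forall_irr_one.mp hab) θ, mul_one]

end Abelian

end Cfsg.Agent.Helper8.FrobKer
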