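import Mathlib
import Cfsg.Prelude.Def_Characters
import Cfsg.Prelude.Def_OddOrderChar
import Cfsg.Prelude.Def_Blocks
import Cfsg.Agent.Helper8.InducedSet
import Cfsg.Agent.Helper8.FrobKernel3
import Cfsg.Agent.Helper8.CoherenceKernel
import Cfsg.Agent.Helper24.Regular
import Cfsg.Agent.S1492
import Cfsg.Agent.S1487

/-!
Feit's coherence theorem for Frobenius groups: the sets `SA H A` of irreducible characters of `N`
nonconstant on the Frobenius kernel `H` with `A` in their kernel; sums of squares of degrees,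
divisibility and bounds of degrees.
-/

set_option autoImplicit false
open Cfsg

namespace Cfsg.Agent.Helper8.FS

open Cfsg.Agent.Helper8

variable {N : Type*} [Group N] [Fintype N] (H : Subgroup N)

open Classical in
/-- the irreducible characters of `N` nonconstant on `H`, constant on `A` -/
noncomputable def SA (A : Subgroup N) : Finset (N → ℂ) :=
  letI : Fintype (IrrCharacter N) := Fintype.ofFinite _
  (Finset.univ.filter (fun θ : IrrCharacter N => FrobKer.NonConst H (θ : N → ℂ) ∧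
    ∀ a ∈ A, (θ : N → ℂ) a = (θ : N → ℂ) 1)).map ⟨Subtype.val, Subtype.val_injective⟩

theorem mem_SA (A : Subgroup N) (χ : N → ℂ) :
    χ ∈ SA H A ↔ IsIrrCharacter N χ ∧ (∃ h ∈ H, χ h ≠ χ 1) ∧ ∀ a ∈ A, χ a = χ 1 := by
  classical
  unfold SA
  simp only [Finset.mem_map, Finset.mem_filter, Finset.mem_univ, true_and,
    Function.Embedding.coeFn_mk]
  constructor
  · rintro ⟨θ, ⟨h1, h2⟩, rfl⟩
    exact ⟨θ.2, h1, h2⟩
  · rintro ⟨h0, h1, h2⟩
    exact ⟨⟨χ, h0⟩, ⟨h1, h2⟩, rfl⟩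

theorem SA_mono {A B : Subgroup N} (h : B ≤ A) : SA H A ⊆ SA H B := by
  intro χ hχ
  rw [mem_SA] at hχ ⊢
  exact ⟨hχ.1, hχ.2.1, fun a ha => hχ.2.2 a (h ha)⟩

theorem coe_SA_bot : (↑(SA H ⊥) : Set (N → ℂ)) =
    {χ : N → ℂ | IsIrrCharacter N χ ∧ ∃ h ∈ H, χ h ≠ χ 1} := by
  ext χ
  rw [Finset.mem_coe, mem_SA]
  constructor
  · rintro ⟨h0, h1, _⟩
    exact ⟨h0, h1⟩
  · rintro ⟨h0, h1⟩
    refine ⟨h0, h1, ?_⟩
    intro a ha
    rw [Subgroup.mem_bot] at ha
    rw [ha]

theorem irr_of_mem_SA {A : Subgroup N} {χ : N → ℂ} (h : χ ∈ SA H A) : IsIrrCharacter N χ :=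
  ((mem_SA H A χ).mp h).1

/-- the degree of an irreducible character as a natural number -/
theorem apply_one_eq_charDegree {χ : N → ℂ} (h : IsIrrCharacter N χ) :
    χ 1 = (Cfsg.charDegree χ : ℂ) := by
  have h1 := Cfsg.Agent.Helper24.charDegree_irr (⟨χ, h⟩ : IrrCharacter N)
  have h2 := Cfsg.Agent.Helper24.irrDeg_spec (⟨χ, h⟩ : IrrCharacter N)
  change χ 1 = _ at h2
  change Cfsg.charDegree χ = _ at h1
  rw [h1, h2]

theorem charDegree_pos {χ : N → ℂ} (h : IsIrrCharacter N χ) : 0 < Cfsg.charDegree χ := by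
  have h1 := Cfsg.Agent.Helper24.charDegree_irr (⟨χ, h⟩ : IrrCharacter N)
  change Cfsg.charDegree χ = _ at h1
  rw [h1]
  exact Cfsg.Agent.Helper24.irrDeg_pos _

/-- the sum of the squares of the degrees over `SA H A` -/
theorem sum_sq_SA [hH : H.Normal] (A : Subgroup N) [hA : A.Normal] (hAH : A ≤ H) :
    ∑ ξ ∈ SA H A, Cfsg.charDegree ξ ^ 2 + H.index = A.index := by
  classical
  haveI : Fintype (IrrCharacter N) := Fintype.ofFinite _
  have hA := sum_sq_degree_of_kernel (K := N) A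
  have hHs := sum_sq_degree_of_kernel (K := N) H
  have hsplit : Finset.univ.filter (fun θ : IrrCharacter N =>
        ∀ a : A, (θ : N → ℂ) a = (θ : N → ℂ) 1)
      = Finset.univ.filter (fun θ : IrrCharacter N => FrobKer.NonConst H (θ : N → ℂ) ∧
          ∀ a ∈ A, (θ : N → ℂ) a = (θ : N → ℂ) 1) ∪
        Finset.univ.filter (fun θ : IrrCharacter N =>
          ∀ a : H, (θ : N → ℂ) a = (θ : N → ℂ) 1) := by
    ext θ
    simp only [Finset.mem_filter, Finset.mem_univ, true_and, Finset.mem_union]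
    constructor
    · intro h
      by_cases hc : FrobKer.NonConst H (θ : N → ℂ)
      · left
        exact ⟨hc, fun a ha => h ⟨a, ha⟩⟩
      · right
        intro a
        by_contra hne
        exact hc ⟨a, a.2, hne⟩
    · rintro (⟨_, h⟩ | h)
      · intro a
        exact h a a.2
      · intro a
        exact h ⟨a, hAH a.2⟩
  have hdisj : Disjoint (Finset.univ.filter (fun θ : IrrCharacter N =>
        FrobKer.NonConst H (θ : N → ℂ) ∧ ∀ a ∈ A, (θ : N → ℂ) a = (θ : N → ℂ) 1))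
      (Finset.univ.filter (fun θ : IrrCharacter N =>
          ∀ a : H, (θ : N → ℂ) a = (θ : N → ℂ) 1)) := by
    rw [Finset.disjoint_left]
    intro θ h1 h2
    simp only [Finset.mem_filter, Finset.mem_univ, true_and] at h1 h2
    obtain ⟨⟨k, hk, hne⟩, _⟩ := h1
    exact hne (h2 ⟨k, hk⟩)
  rw [hsplit, Finset.sum_union hdisj, hHs] at hA
  have hcast : ((∑ ξ ∈ SA H A, Cfsg.charDegree ξ ^ 2 + H.index : ℕ) : ℂ) = (A.index : ℂ) := by
    rw [← hA]
    push_cast
    congr 1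
    unfold SA
    rw [Finset.sum_map]
    apply Finset.sum_congr
    · ext θ
      simp only [Finset.mem_filter, Finset.mem_univ, true_and]
    · intro θ _
      simp only [Function.Embedding.coeFn_mk]
      rw [apply_one_eq_charDegree θ.2]
  exact_mod_cast hcast

theorem frobF_of_centralizer (hC : ∀ h ∈ H, h ≠ 1 → Subgroup.centralizer ({h} : Set N) ≤ H) :
    ∀ n : N, n ∉ H → ∀ k ∈ H, k * n = n * k → k = 1 := by
  intro n hn k hk hkn
  by_contra hk1
  apply hn
  apply hC k hk hk1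
  rw [Subgroup.mem_centralizer_iff]
  intro h hh
  rw [Set.mem_singleton_iff] at hh
  rw [hh, hkn]

/-- members of `SA H ⊥` are induced from `H`; degrees -/
theorem exists_ind [hH : H.Normal]
    (hF : ∀ n : N, n ∉ H → ∀ k ∈ H, k * n = n * k → k = 1)
    {χ : N → ℂ} (hχ : χ ∈ SA H ⊥) :
    ∃ θ : IrrCharacter H, indFun H (θ : H → ℂ) = χ ∧
      Cfsg.charDegree χ = H.index * Cfsg.Agent.Helper24.irrDeg θ := by
  rw [mem_SA] at hχ
  obtain ⟨hirr, hnc, _⟩ := hχ
  obtain ⟨θ, _, hθ⟩ := FrobKer.exists_ind_eq H hF ⟨χ, hirr⟩ hnc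
  refine ⟨θ, hθ, ?_⟩
  have h1 : χ 1 = (H.index : ℂ) * (θ : H → ℂ) 1 := by
    change indFun H (θ : H → ℂ) = χ at hθ
    rw [← hθ, FrobKer.ind_one]
  rw [apply_one_eq_charDegree hirr, Cfsg.Agent.Helper24.irrDeg_spec θ] at h1
  exact_mod_cast h1

theorem index_dvd_charDegree [hH : H.Normal]
    (hF : ∀ n : N, n ∉ H → ∀ k ∈ H, k * n = n * k → k = 1)
    {χ : N → ℂ} (hχ : χ ∈ SA H ⊥) : H.index ∣ Cfsg.charDegree χ := by
  obtain ⟨θ, _, h⟩ := exists_ind H hF hχ
  exact ⟨_, h⟩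

/-- the members of `SA H ⁅H, H⁆` have degree `e` -/
theorem charDegree_eq_index [hH : H.Normal]
    (hF : ∀ n : N, n ∉ H → ∀ k ∈ H, k * n = n * k → k = 1)
    {χ : N → ℂ} (hχ : χ ∈ SA H ⁅H, H⁆) : Cfsg.charDegree χ = H.index := by
  have hχ0 : χ ∈ SA H ⊥ := SA_mono H bot_le hχ
  obtain ⟨θ, hθ, hdeg⟩ := exists_ind H hF hχ0
  rw [mem_SA] at hχ
  obtain ⟨hirr, hnc, hker⟩ := hχ
  have h1 := (Cfsg.Agent.S1487.result ⁅H, H⁆ H (Subgroup.commutator_le_self H) (θ : H → ℂ) θ.2).mpr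
    (by
      intro a ha
      rw [hθ]
      exact hker a ha)
  have h2 : (θ : H → ℂ) 1 = 1 := by
    apply irr_degree_one_of_commutator_le_ker θ
    intro a ha
    apply h1 a
    rw [← Subgroup.map_subtype_commutator]
    exact ⟨a, ha, rfl⟩
  have h3 := (Cfsg.Agent.Helper24.irrDeg_eq_one_iff θ).mpr h2
  rw [hdeg, h3, mul_one]

/-- bound for the degree from a central section -/
theorem charDegree_sq_le [hH : H.Normal] (B D : Subgroup N) [hB : B.Normal]
    (hBD : B ≤ D) (hDH : D ≤ H) (hcomm : ⁅D, H⁆ ≤ B)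
    {χ : N → ℂ} (hχ : χ ∈ SA H B) :
    Cfsg.charDegree χ ^ 2 ≤ H.index ^ 2 * D.relIndex H := by
  rw [mem_SA] at hχ
  obtain ⟨hirr, hnc, hker⟩ := hχ
  have h := Cfsg.Agent.S1492.result χ hirr B H D hBD hDH
    (fun c _ b hb => hB.conj_mem b hb c)
    (fun d hd c hc => by
      have := Subgroup.commutator_mem_commutator hd hc
      rw [commutatorElement_def] at this
      exact hcomm this)
    hker
  rw [apply_one_eq_charDegree hirr] at h
  have hnorm : ‖((Cfsg.charDegree χ : ℕ) : ℂ)‖ = (Cfsg.charDegree χ : ℝ) := by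
    simp
  rw [hnorm] at h
  have h' : Cfsg.charDegree χ ^ 2 * Nat.card H * Nat.card D ≤ Nat.card N ^ 2 := by
    exact_mod_cast h
  have hN : Nat.card N = Nat.card H * H.index := (Subgroup.card_mul_index H).symm
  have hHD : Nat.card H = Nat.card D * D.relIndex H := by
    rw [← Subgroup.relIndex_bot_left, ← Subgroup.relIndex_bot_left]
    exact (Subgroup.relIndex_mul_relIndex ⊥ D H bot_le hDH).symm
  have hD0 : 0 < Nat.card D := Nat.card_pos
  have hH0 : 0 < Nat.card H := Nat.card_pos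
  rw [hN] at h'
  have h2 : Cfsg.charDegree χ ^ 2 * Nat.card D * Nat.card H
      ≤ H.index ^ 2 * Nat.card H * Nat.card H := by
    calc Cfsg.charDegree χ ^ 2 * Nat.card D * Nat.card H
        = Cfsg.charDegree χ ^ 2 * Nat.card H * Nat.card D := by ring
      _ ≤ (Nat.card H * H.index) ^ 2 := h'
      _ = H.index ^ 2 * Nat.card H * Nat.card H := by ring
  have h3 := Nat.le_of_mul_le_mul_right h2 hH0
  have h4 : Cfsg.charDegree χ ^ 2 * Nat.card D ≤ H.index ^ 2 * D.relIndex H * Nat.card D := by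
    calc Cfsg.charDegree χ ^ 2 * Nat.card D ≤ H.index ^ 2 * Nat.card H := h3
      _ = H.index ^ 2 * D.relIndex H * Nat.card D := by rw [hHD]; ring
  exact Nat.le_of_mul_le_mul_right h4 hD0

/-- the sum of the squares of the degrees over `SA H A`, relative version -/
theorem sum_sq_SA' [hH : H.Normal] (A : Subgroup N) [hA : A.Normal] (hAH : A ≤ H) :
    ∑ ξ ∈ SA H A, Cfsg.charDegree ξ ^ 2 + H.index = A.relIndex H * H.index := by
  rw [sum_sq_SA H A hAH, Subgroup.relIndex_mul_index hAH]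

/-- Frobenius: `e ∣ [H : A] - 1` -/
theorem index_dvd_relIndex_sub_one [hH : H.Normal]
    (hF : ∀ n : N, n ∉ H → ∀ k ∈ H, k * n = n * k → k = 1)
    (A : Subgroup N) [hA : A.Normal] (hAH : A ≤ H) :
    ∃ t : ℕ, A.relIndex H = H.index * t + 1 ∧
      ∑ ξ ∈ SA H A, Cfsg.charDegree ξ ^ 2 = H.index ^ 2 * t := by
  have h := sum_sq_SA' H A hAH
  have he0 : 0 < H.index := Nat.pos_of_ne_zero Subgroup.index_ne_zero_of_finite
  have hdvd : H.index ^ 2 ∣ ∑ ξ ∈ SA H A, Cfsg.charDegree ξ ^ 2 := by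
    apply Finset.dvd_sum
    intro ξ hξ
    exact pow_dvd_pow_of_dvd (index_dvd_charDegree H hF (SA_mono H bot_le hξ)) 2
  obtain ⟨t, ht⟩ := hdvd
  refine ⟨t, ?_, ht⟩
  rw [ht] at h
  have : (H.index * t + 1) * H.index = A.relIndex H * H.index := by
    rw [← h]; ring
  exact (Nat.eq_of_mul_eq_mul_right he0 this).symm

theorem modEq_one_relIndex [hH : H.Normal]
    (hF : ∀ n : N, n ∉ H → ∀ k ∈ H, k * n = n * k → k = 1)
    (A D : Subgroup N) [hA : A.Normal] [hD : D.Normal] (hAD : A ≤ D) (hDH : D ≤ H) :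
    A.relIndex D ≡ 1 [MOD H.index] := by
  obtain ⟨t, ht, _⟩ := index_dvd_relIndex_sub_one H hF A (hAD.trans hDH)
  obtain ⟨s, hs, _⟩ := index_dvd_relIndex_sub_one H hF D hDH
  have hmul := Subgroup.relIndex_mul_relIndex A D H hAD hDH
  have h1 : A.relIndex H ≡ 1 [MOD H.index] := by
    rw [ht]
    exact (Nat.modEq_iff_dvd' (by omega)).mpr ⟨t, by omega⟩ |>.symm
  have h2 : D.relIndex H ≡ 1 [MOD H.index] := by
    rw [hs]
    exact (Nat.modEq_iff_dvd' (by omega)).mpr ⟨s, by omega⟩ |>.symm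
  calc A.relIndex D = A.relIndex D * 1 := (mul_one _).symm
    _ ≡ A.relIndex D * D.relIndex H [MOD H.index] := Nat.ModEq.mul_left _ h2.symm
    _ = A.relIndex H := hmul
    _ ≡ 1 [MOD H.index] := h1

/-- strict inclusions of `N`-normal subgroups of `H` have index at least `e + 1` -/
theorem succ_index_le_relIndex [hH : H.Normal]
    (hF : ∀ n : N, n ∉ H → ∀ k ∈ H, k * n = n * k → k = 1)
    (A D : Subgroup N) [hA : A.Normal] [hD : D.Normal] (hAD : A < D) (hDH : D ≤ H) :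
    H.index + 1 ≤ A.relIndex D := by
  have h1 := modEq_one_relIndex H hF A D hAD.le hDH
  have h2 := one_lt_relIndex_of_lt hAD
  have h3 : H.index ∣ A.relIndex D - 1 := (Nat.modEq_iff_dvd' h2.le).mp h1.symm
  have h4 := Nat.le_of_dvd (by omega) h3
  omega

end Cfsg.Agent.Helper8.FS
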