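import Mathlib
import Cfsg.Prelude.Def_Characters
import Cfsg.Prelude.Def_OddOrderChar
import Cfsg.Agent.Helper8.FS5
import Cfsg.Agent.Helper8.FS6
import Cfsg.Agent.Helper8.FS1

/-!
Feit's coherence theorem for Frobenius groups: the coherence step.
-/

set_option autoImplicit false
open Cfsg

namespace Cfsg.Agent.Helper8.FS

open Cfsg.Agent.Helper8

variable {N : Type*} [Group N] [Fintype N] {G : Type*} [Group G] [Fintype G] (H : Subgroup N)

theorem zspanOn_mono' {X : Type*} {S T : Set (X → ℂ)} (A : Set X) (h : S ⊆ T) :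
    Cfsg.zspanOn S A ⊆ Cfsg.zspanOn T A :=
  fun _ hα => ⟨zspan_mono h hα.1, hα.2⟩

theorem isLinearIsometryOn_mono {E E' : Set (N → ℂ)} {τ : (N → ℂ) → (G → ℂ)} (h : E' ⊆ E)
    (hτ : Cfsg.IsLinearIsometryOn E τ) : Cfsg.IsLinearIsometryOn E' τ :=
  ⟨fun α hα β hβ => hτ.1 α (h hα) β (h hβ), fun α hα n => hτ.2.1 α (h hα) n,
    fun α hα β hβ => hτ.2.2.1 α (h hα) β (h hβ), fun α hα => hτ.2.2.2 α (h hα)⟩

/-- the coherence step: from `SA H A` to `SA H B` -/
theorem coh_step [hH : H.Normal]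
    (hF : ∀ n : N, n ∉ H → ∀ k ∈ H, k * n = n * k → k = 1)
    (τ : (N → ℂ) → (G → ℂ))
    (hτ : Cfsg.IsLinearIsometryOn (Cfsg.zspanOn (↑(SA H ⊥) : Set (N → ℂ)) {1}ᶜ) τ)
    (hτ1 : ∀ α ∈ Cfsg.zspanOn (↑(SA H ⊥) : Set (N → ℂ)) {1}ᶜ, τ α 1 = 0)
    (A B D : Subgroup N) [hA : A.Normal] [hB : B.Normal]
    (hBA : B ≤ A) (hAD : A ≤ D) (hDH : D ≤ H) (hcomm : ⁅D, H⁆ ≤ B)
    (ψ : N → ℂ) (hψ : ψ ∈ SA H A) (hψd : Cfsg.charDegree ψ = H.index)
    (hnum : 4 * H.index ^ 2 * D.relIndex H < (A.relIndex H - 1) ^ 2)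
    (hcoh : Cfsg.IsCoherent (↑(SA H A) : Set (N → ℂ)) {1}ᶜ τ) :
    Cfsg.IsCoherent (↑(SA H B) : Set (N → ℂ)) {1}ᶜ τ := by
  classical
  have he0 : 0 < H.index := Nat.pos_of_ne_zero Subgroup.index_ne_zero_of_finite
  obtain ⟨t, ht, hsum⟩ := index_dvd_relIndex_sub_one H hF A (hAD.trans hDH)
  have hAB : SA H A ⊆ SA H B := SA_mono H hBA
  have key : ∀ X : Finset (N → ℂ), X ⊆ SA H B →
      Cfsg.IsCoherent (↑(SA H A ∪ X) : Set (N → ℂ)) {1}ᶜ τ := by
    intro X
    induction X using Finset.induction_on with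
    | empty =>
      intro _
      rw [Finset.union_empty]
      exact hcoh
    | insert χ X hχX ih =>
      intro hsub
      have hXB : X ⊆ SA H B := (Finset.subset_insert χ X).trans hsub
      have hχB : χ ∈ SA H B := hsub (Finset.mem_insert_self χ X)
      have ih' := ih hXB
      rw [Finset.union_insert]
      by_cases hχS : χ ∈ SA H A ∪ X
      · rw [Finset.insert_eq_of_mem hχS]
        exact ih'
      · have hS₀B : SA H A ∪ X ⊆ SA H B := Finset.union_subset hAB hXB
        have hins : insert χ (SA H A ∪ X) ⊆ SA H ⊥ := by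
          intro ξ hξ
          rw [Finset.mem_insert] at hξ
          rcases hξ with rfl | hξ
          · exact SA_mono H bot_le hχB
          · exact SA_mono H bot_le (hS₀B hξ)
        have hsubset : Cfsg.zspanOn (↑(insert χ (SA H A ∪ X)) : Set (N → ℂ)) {1}ᶜ ⊆
            Cfsg.zspanOn (↑(SA H ⊥) : Set (N → ℂ)) {1}ᶜ :=
          zspanOn_mono' _ (Finset.coe_subset.mpr hins)
        refine coh_extend (SA H A ∪ X) χ (fun ξ hξ => irr_of_mem_SA H (hS₀B hξ))
          (irr_of_mem_SA H hχB) hχS Cfsg.charDegree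
          (fun ξ hξ => apply_one_eq_charDegree (irr_of_mem_SA H (hins hξ))) τ
          (isLinearIsometryOn_mono hsubset hτ) (fun α hα => hτ1 α (hsubset hα)) ih' ψ
          (Finset.mem_union_left _ hψ) ?_ ?_
        · rw [hψd]
          exact index_dvd_charDegree H hF (SA_mono H bot_le hχB)
        · rw [hψd]
          have hle : ∑ ξ ∈ SA H A, Cfsg.charDegree ξ ^ 2 ≤
              ∑ ξ ∈ SA H A ∪ X, Cfsg.charDegree ξ ^ 2 :=
            Finset.sum_le_sum_of_subset Finset.subset_union_left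
          refine lt_of_lt_of_le ?_ hle
          rw [hsum]
          have hdeg := charDegree_sq_le H B D (hBA.trans hAD) hDH hcomm hχB
          rw [ht] at hnum
          have h1 : (2 * Cfsg.charDegree χ) ^ 2 < (H.index * t) ^ 2 := by
            have : (2 * Cfsg.charDegree χ) ^ 2 ≤ 4 * H.index ^ 2 * D.relIndex H := by
              calc (2 * Cfsg.charDegree χ) ^ 2 = 4 * Cfsg.charDegree χ ^ 2 := by ring
                _ ≤ 4 * (H.index ^ 2 * D.relIndex H) := Nat.mul_le_mul_left 4 hdeg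
                _ = 4 * H.index ^ 2 * D.relIndex H := by ring
            have h2 : H.index * t + 1 - 1 = H.index * t := by omega
            rw [h2] at hnum
            exact lt_of_le_of_lt this hnum
          have h3 : 2 * Cfsg.charDegree χ < H.index * t := lt_of_pow_lt_pow_left₀ 2 (Nat.zero_le _) h1
          calc 2 * H.index * Cfsg.charDegree χ = H.index * (2 * Cfsg.charDegree χ) := by ring
            _ < H.index * (H.index * t) := Nat.mul_lt_mul_of_pos_left h3 he0
            _ = H.index ^ 2 * t := by ring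
  have := key (SA H B) (Finset.Subset.refl _)
  rwa [Finset.union_eq_right.mpr hAB] at this

end Cfsg.Agent.Helper8.FS
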