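import Mathlib
import Cfsg.Agent.Lead.Carter0

/-!
Group theory for Feit's coherence theorem: iterated commutators with a normal nilpotent subgroup,
and the splitting of a nilpotent group which is not of prime power order.
-/

set_option autoImplicit false

namespace Cfsg.Agent.Helper8.FS

open scoped commutatorElement

variable {N : Type*} [Group N]

/-- the series `X, ⁅X, H⁆, ⁅⁅X, H⁆, H⁆, …` -/
def Gam (H X : Subgroup N) : ℕ → Subgroup N
  | 0 => X
  | (j + 1) => ⁅Gam H X j, H⁆

@[simp] theorem Gam_zero (H X : Subgroup N) : Gam H X 0 = X := rfl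

theorem Gam_succ (H X : Subgroup N) (j : ℕ) : Gam H X (j + 1) = ⁅Gam H X j, H⁆ := rfl

theorem Gam_normal (H X : Subgroup N) [hH : H.Normal] [hX : X.Normal] (j : ℕ) :
    (Gam H X j).Normal := by
  induction j with
  | zero => exact hX
  | succ j ih =>
    rw [Gam_succ]
    haveI := ih
    infer_instance

theorem Gam_succ_le (H X : Subgroup N) [hH : H.Normal] [hX : X.Normal] (j : ℕ) :
    Gam H X (j + 1) ≤ Gam H X j := by
  rw [Gam_succ]
  haveI := Gam_normal H X j
  exact Subgroup.commutator_le_left _ _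

theorem Gam_antitone (H X : Subgroup N) [hH : H.Normal] [hX : X.Normal] {i j : ℕ} (hij : i ≤ j) :
    Gam H X j ≤ Gam H X i := by
  induction j, hij using Nat.le_induction with
  | base => exact le_rfl
  | succ j _ ih => exact (Gam_succ_le H X j).trans ih

theorem Gam_le (H X : Subgroup N) [hH : H.Normal] [hX : X.Normal] (j : ℕ) : Gam H X j ≤ X :=
  Gam_antitone H X (Nat.zero_le j)

theorem Gam_mono (H : Subgroup N) {X Y : Subgroup N} (hXY : X ≤ Y) (j : ℕ) :
    Gam H X j ≤ Gam H Y j := by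
  induction j with
  | zero => exact hXY
  | succ j ih =>
    rw [Gam_succ, Gam_succ]
    exact Subgroup.commutator_mono ih le_rfl

theorem Gam_self_eq (H : Subgroup N) (j : ℕ) :
    Gam H H j = H.lowerCentralSeries j := by
  induction j with
  | zero => rfl
  | succ j ih =>
    rw [Gam_succ, Subgroup.lowerCentralSeries_succ, ih]

theorem exists_Gam_eq_bot (H : Subgroup N) [hnil : Group.IsNilpotent H] {X : Subgroup N}
    (hXH : X ≤ H) : ∃ n, Gam H X n = ⊥ := by
  obtain ⟨n, hn⟩ := (Subgroup.isNilpotent_iff_lowerCentralSeries H).mp hnil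
  refine ⟨n, ?_⟩
  have h := Gam_mono H hXH n
  rw [Gam_self_eq, hn] at h
  exact le_bot_iff.mp h

theorem commutator_lt (H : Subgroup N) [hH : H.Normal] [hnil : Group.IsNilpotent H]
    (X : Subgroup N) [hX : X.Normal] (hXH : X ≤ H) (hX1 : X ≠ ⊥) : ⁅X, H⁆ < X := by
  refine lt_of_le_of_ne (Subgroup.commutator_le_left _ _) ?_
  intro heq
  obtain ⟨n, hn⟩ := exists_Gam_eq_bot H hXH
  have hall : ∀ j, Gam H X j = X := by
    intro j
    induction j with
    | zero => rfl
    | succ j ih => rw [Gam_succ, ih, heq]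
  exact hX1 ((hall n).symm.trans hn)

theorem sup_commutator_le (U V H : Subgroup N) [hU : U.Normal] [hV : V.Normal] [hH : H.Normal] :
    ⁅U ⊔ V, H⁆ ≤ ⁅U, H⁆ ⊔ ⁅V, H⁆ := by
  rw [Subgroup.commutator_le]
  intro g hg h hh
  have hg' : g ∈ (↑(U ⊔ V) : Set N) := hg
  rw [Subgroup.mul_normal] at hg'
  obtain ⟨u, hu, v, hv, rfl⟩ := Set.mem_mul.mp hg'
  have e : ⁅u * v, h⁆ = (u * ⁅v, h⁆ * u⁻¹) * ⁅u, h⁆ := by
    simp only [commutatorElement_def]
    group
  rw [e]
  apply Subgroup.mul_mem
  · apply Subgroup.mem_sup_right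
    haveI : (⁅V, H⁆ : Subgroup N).Normal := inferInstance
    exact this.conj_mem _ (Subgroup.commutator_mem_commutator hv hh) u
  · apply Subgroup.mem_sup_left
    exact Subgroup.commutator_mem_commutator hu hh

theorem mem_of_mem_sup_of_disjoint (T₁ T V C : Subgroup N) [hV : V.Normal] (h1 : T₁ ≤ T)
    (hVC : V ≤ C) (hTC : T ⊓ C = ⊥) {x : N} (hx : x ∈ T₁ ⊔ V) (hxT : x ∈ T) : x ∈ T₁ := by
  have hx' : x ∈ (↑(T₁ ⊔ V) : Set N) := hx
  rw [Subgroup.mul_normal] at hx'
  obtain ⟨a, ha, b, hb, rfl⟩ := Set.mem_mul.mp hx'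
  have hbT : b ∈ T := by
    have : b = a⁻¹ * (a * b) := by group
    rw [this]
    exact T.mul_mem (T.inv_mem (h1 ha)) hxT
  have hb1 : b ∈ T ⊓ C := ⟨hbT, hVC hb⟩
  rw [hTC, Subgroup.mem_bot] at hb1
  rw [hb1, mul_one]
  exact ha

/-- a finite nilpotent normal subgroup whose order is not a prime power splits as the product of
two nontrivial subgroups normal in the whole group -/
theorem exists_TC [Finite N] (H : Subgroup N) [hH : H.Normal] (hnil : Group.IsNilpotent H)
    (hH1 : H ≠ ⊥) (hnp : ¬ ∃ p : ℕ, p.Prime ∧ ∃ m : ℕ, Nat.card H = p ^ m) :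
    ∃ T C : Subgroup N, T.Normal ∧ C.Normal ∧ T ⊔ C = H ∧ T ⊓ C = ⊥ ∧ T ≠ ⊥ ∧ C ≠ ⊥ := by
  classical
  have hcard : Nat.card H ≠ 1 := by
    intro h
    exact hH1 (Subgroup.card_eq_one.mp h)
  obtain ⟨p, hp, hpd⟩ := Nat.exists_prime_and_dvd hcard
  haveI := Fact.mk hp
  obtain ⟨P⟩ : Nonempty (Sylow p H) := inferInstance
  haveI := hnil
  have hPn : (P : Subgroup H).Normal := inferInstance
  have hcop := P.card_coprime_index
  obtain ⟨Q, hQ⟩ := Subgroup.exists_right_complement'_of_coprime hcop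
  have hQidx : Q.index = Nat.card (P : Subgroup H) := hQ.index_eq_card
  have hPidx : (P : Subgroup H).index = Nat.card Q := hQ.symm.index_eq_card
  have hQcop : (Nat.card Q).Coprime Q.index := by
    rw [hQidx, ← hPidx]
    exact hcop.symm
  haveI hQn : Q.Normal := Cfsg.Agent.Lead.normal_of_coprime_of_isNilpotent Q hQcop
  haveI hPc : (P : Subgroup H).Characteristic := P.characteristic_of_normal hPn
  haveI hQc : Q.Characteristic := by
    rw [Subgroup.characteristic_iff_le_comap]
    intro φ x hx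
    rw [Subgroup.mem_comap]
    apply Cfsg.Agent.Lead.mem_of_pow_card_eq_one_of_normal_hall Q hQcop
    change (φ x) ^ Nat.card Q = 1
    rw [← map_pow]
    have : x ^ Nat.card Q = 1 := by
      have := pow_card_eq_one' (G := Q) (x := ⟨x, hx⟩)
      exact congrArg Subtype.val this
    rw [this, map_one]
  refine ⟨(P : Subgroup H).map H.subtype, Q.map H.subtype, inferInstance, inferInstance, ?_, ?_,
    ?_, ?_⟩
  · rw [← Subgroup.map_sup, hQ.sup_eq_top, ← MonoidHom.range_eq_map, H.range_subtype]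
  · rw [← Subgroup.map_inf _ _ _ H.subtype_injective, hQ.disjoint.eq_bot, Subgroup.map_bot]
  · intro h
    rw [Subgroup.map_eq_bot_iff_of_injective _ H.subtype_injective] at h
    exact P.ne_bot_of_dvd_card hpd h
  · intro h
    rw [Subgroup.map_eq_bot_iff_of_injective _ H.subtype_injective] at h
    apply hnp
    obtain ⟨m, hm⟩ := IsPGroup.iff_card.mp P.2
    refine ⟨p, hp, m, ?_⟩
    have h1 := hQ.card_mul_card
    rw [h, Subgroup.card_bot, mul_one] at h1
    rw [← h1, hm]

end Cfsg.Agent.Helper8.FS
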