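import Mathlib
import Cfsg.Prelude.Def_Characters
import Cfsg.Prelude.Def_OddOrderChar
import Cfsg.Agent.Helper8.FS7
import Cfsg.Agent.Helper8.FS8

/-!
Feit's coherence theorem for Frobenius groups: the base case, the two-factor step and the chains.
-/

set_option autoImplicit false
open Cfsg

namespace Cfsg.Agent.Helper8.FS

open Cfsg.Agent.Helper8

variable {N : Type*} [Group N] [Fintype N] {G : Type*} [Group G] [Fintype G] (H : Subgroup N)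

/-- base case: all degrees equal to `e`, at least two members -/
theorem coh_base [hH : H.Normal]
    (hF : ∀ n : N, n ∉ H → ∀ k ∈ H, k * n = n * k → k = 1)
    (τ : (N → ℂ) → (G → ℂ))
    (hτ : Cfsg.IsLinearIsometryOn (Cfsg.zspanOn (↑(SA H ⊥) : Set (N → ℂ)) {1}ᶜ) τ)
    (hτ1 : ∀ α ∈ Cfsg.zspanOn (↑(SA H ⊥) : Set (N → ℂ)) {1}ᶜ, τ α 1 = 0)
    (A : Subgroup N) [hA : A.Normal] (hAH : A ≤ H)
    (hdeg : ∀ ξ ∈ SA H A, Cfsg.charDegree ξ = H.index)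
    (h1 : A.relIndex H ≠ 1) (h2 : A.relIndex H ≠ H.index + 1) :
    Cfsg.IsCoherent (↑(SA H A) : Set (N → ℂ)) {1}ᶜ τ ∧ ∃ ψ, ψ ∈ SA H A := by
  classical
  have he0 : 0 < H.index := Nat.pos_of_ne_zero Subgroup.index_ne_zero_of_finite
  obtain ⟨t, ht, hsum⟩ := index_dvd_relIndex_sub_one H hF A hAH
  have hcard : (SA H A).card * H.index ^ 2 = H.index ^ 2 * t := by
    rw [← hsum]
    exact (Finset.sum_const_nat (fun ξ hξ => by rw [hdeg ξ hξ])).symm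
  have hcard' : (SA H A).card = t := by
    have : (SA H A).card * H.index ^ 2 = t * H.index ^ 2 := by rw [hcard]; ring
    exact Nat.eq_of_mul_eq_mul_right (by positivity) this
  have ht2 : 2 ≤ t := by
    rcases Nat.lt_or_ge t 2 with h | h
    · exfalso
      interval_cases t
      · exact h1 (by rw [ht]; ring)
      · exact h2 (by rw [ht]; ring)
    · exact h
  have hone : 1 < (SA H A).card := by omega
  obtain ⟨a, ha, b, hb, hab⟩ := Finset.one_lt_card.mp hone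
  have hsubset : Cfsg.zspanOn (↑(SA H A) : Set (N → ℂ)) {1}ᶜ ⊆
      Cfsg.zspanOn (↑(SA H ⊥) : Set (N → ℂ)) {1}ᶜ :=
    zspanOn_mono' _ (Finset.coe_subset.mpr (SA_mono H bot_le))
  refine ⟨?_, a, ha⟩
  refine irr_uniform_coherent (↑(SA H A) : Set (N → ℂ))
    (fun χ hχ => irr_of_mem_SA H (Finset.mem_coe.mp hχ)) ?_
    ⟨a, Finset.mem_coe.mpr ha, b, Finset.mem_coe.mpr hb, hab⟩ τ
    (isLinearIsometryOn_mono hsubset hτ) (fun α hα => hτ1 α (hsubset hα))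
  intro φ hφ ψ hψ
  rw [apply_one_eq_charDegree (irr_of_mem_SA H (Finset.mem_coe.mp hφ)),
    apply_one_eq_charDegree (irr_of_mem_SA H (Finset.mem_coe.mp hψ)),
    hdeg φ (Finset.mem_coe.mp hφ), hdeg ψ (Finset.mem_coe.mp hψ)]

theorem two_factor_arith {e k m : ℕ} (he : 0 < e) (hk : e + 1 ≤ k) (hm : e + 1 ≤ m) :
    4 * e ^ 2 * m < (k * m - 1) ^ 2 := by
  have h1 : e * (m + 1) ≤ k * m - 1 := by
    have : (e + 1) * m ≤ k * m := Nat.mul_le_mul_right m hk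
    have h2 : (e + 1) * m = e * m + m := by ring
    have h3 : e * (m + 1) = e * m + e := by ring
    omega
  have h2 : (e * (m + 1)) ^ 2 ≤ (k * m - 1) ^ 2 := Nat.pow_le_pow_left h1 2
  refine lt_of_lt_of_le ?_ h2
  have hm2 : 2 ≤ m := by omega
  obtain ⟨m', rfl⟩ : ∃ m', m = m' + 2 := ⟨m - 2, by omega⟩
  have he2 : 0 < e ^ 2 := by positivity
  nlinarith

/-- the two-factor step -/
theorem coh_two_factor [hH : H.Normal]
    (hF : ∀ n : N, n ∉ H → ∀ k ∈ H, k * n = n * k → k = 1)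
    (τ : (N → ℂ) → (G → ℂ))
    (hτ : Cfsg.IsLinearIsometryOn (Cfsg.zspanOn (↑(SA H ⊥) : Set (N → ℂ)) {1}ᶜ) τ)
    (hτ1 : ∀ α ∈ Cfsg.zspanOn (↑(SA H ⊥) : Set (N → ℂ)) {1}ᶜ, τ α 1 = 0)
    (U V : Subgroup N) [hU : U.Normal] [hV : V.Normal] (hUH : U ≤ H) (hVH : V ≤ H)
    (hAD : ⁅U, H⁆ ⊔ V < U ⊔ V) (hDH : U ⊔ V < H) (hAH' : ⁅U, H⁆ ⊔ V ≤ ⁅H, H⁆)
    (ψ : N → ℂ) (hψ : ψ ∈ SA H ⁅H, H⁆)
    (hcoh : Cfsg.IsCoherent (↑(SA H (⁅U, H⁆ ⊔ V)) : Set (N → ℂ)) {1}ᶜ τ) :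
    Cfsg.IsCoherent (↑(SA H (⁅U, H⁆ ⊔ ⁅V, H⁆)) : Set (N → ℂ)) {1}ᶜ τ := by
  have he0 : 0 < H.index := Nat.pos_of_ne_zero Subgroup.index_ne_zero_of_finite
  refine coh_step H hF τ hτ hτ1 (⁅U, H⁆ ⊔ V) (⁅U, H⁆ ⊔ ⁅V, H⁆) (U ⊔ V)
    (sup_le_sup_left (Subgroup.commutator_le_left V H) _) hAD.le hDH.le
    (sup_commutator_le U V H) ψ (SA_mono H hAH' hψ) (charDegree_eq_index H hF hψ) ?_ hcoh
  have hk := succ_index_le_relIndex H hF (⁅U, H⁆ ⊔ V) (U ⊔ V) hAD hDH.le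
  have hm := succ_index_le_relIndex H hF (U ⊔ V) H hDH le_rfl
  rw [← Subgroup.relIndex_mul_relIndex (⁅U, H⁆ ⊔ V) (U ⊔ V) H hAD.le hDH.le]
  exact two_factor_arith he0 hk hm

theorem chain_I_arith {e x : ℕ} (hx : 4 * e ^ 2 + 2 ≤ x) : 4 * e ^ 2 * x < (x - 1) ^ 2 := by
  obtain ⟨y, rfl⟩ : ∃ y, x = y + 1 := ⟨x - 1, by omega⟩
  have hy : 4 * e ^ 2 + 1 ≤ y := by omega
  rw [Nat.add_sub_cancel]
  nlinarith

/-- chain I: large abelianization -/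
theorem coh_chain_I [hH : H.Normal] [hnil : Group.IsNilpotent H]
    (hF : ∀ n : N, n ∉ H → ∀ k ∈ H, k * n = n * k → k = 1)
    (τ : (N → ℂ) → (G → ℂ))
    (hτ : Cfsg.IsLinearIsometryOn (Cfsg.zspanOn (↑(SA H ⊥) : Set (N → ℂ)) {1}ᶜ) τ)
    (hτ1 : ∀ α ∈ Cfsg.zspanOn (↑(SA H ⊥) : Set (N → ℂ)) {1}ᶜ, τ α 1 = 0)
    (hbig : 4 * H.index ^ 2 + 2 ≤ (⁅H, H⁆ : Subgroup N).relIndex H)
    (ψ : N → ℂ) (hψ : ψ ∈ SA H ⁅H, H⁆)
    (hcoh : Cfsg.IsCoherent (↑(SA H ⁅H, H⁆) : Set (N → ℂ)) {1}ᶜ τ) :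
    Cfsg.IsCoherent (↑(SA H ⊥) : Set (N → ℂ)) {1}ᶜ τ := by
  have hall : ∀ j, Cfsg.IsCoherent (↑(SA H (Gam H H (j + 1))) : Set (N → ℂ)) {1}ᶜ τ := by
    intro j
    induction j with
    | zero => exact hcoh
    | succ j ih =>
      haveI := Gam_normal H H (j + 1)
      haveI := Gam_normal H H (j + 1 + 1)
      have hle : Gam H H (j + 1) ≤ ⁅H, H⁆ := Gam_antitone H H (Nat.succ_le_succ (Nat.zero_le j))
      refine coh_step H hF τ hτ hτ1 (Gam H H (j + 1)) (Gam H H (j + 1 + 1)) (Gam H H (j + 1))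
        (Gam_succ_le H H (j + 1)) le_rfl (Gam_le H H (j + 1)) le_rfl ψ (SA_mono H hle hψ)
        (charDegree_eq_index H hF hψ) ?_ ih
      apply chain_I_arith
      refine hbig.trans ?_
      apply Nat.le_of_dvd
      · exact Nat.pos_of_ne_zero
          (fun h0 => Subgroup.index_ne_zero_of_finite (H := (Gam H H (j + 1)).subgroupOf H) h0)
      · exact Subgroup.relIndex_dvd_of_le_left H hle
  obtain ⟨n, hn⟩ := exists_Gam_eq_bot H (le_refl H)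
  have hn1 : Gam H H (n + 1) = ⊥ := by
    have := Gam_succ_le H H n
    rw [hn] at this
    exact le_bot_iff.mp this
  have := hall n
  rwa [hn1] at this

end Cfsg.Agent.Helper8.FS
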