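import Mathlib
import Cfsg.Prelude.Def_Characters
import Cfsg.Prelude.Def_OddOrderChar
import Cfsg.Agent.Helper8.FS9

/-!
Feit's coherence theorem for Frobenius groups: chain II (the kernel is not of prime power order).
-/

set_option autoImplicit false
open Cfsg

namespace Cfsg.Agent.Helper8.FS

open Cfsg.Agent.Helper8

variable {N : Type*} [Group N] [Fintype N] {G : Type*} [Group G] [Fintype G] (H : Subgroup N)

/-- chain II: `H = T × C` with both factors nontrivial -/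
theorem coh_chain_II [hH : H.Normal] [hnil : Group.IsNilpotent H]
    (hF : ∀ n : N, n ∉ H → ∀ k ∈ H, k * n = n * k → k = 1)
    (τ : (N → ℂ) → (G → ℂ))
    (hτ : Cfsg.IsLinearIsometryOn (Cfsg.zspanOn (↑(SA H ⊥) : Set (N → ℂ)) {1}ᶜ) τ)
    (hτ1 : ∀ α ∈ Cfsg.zspanOn (↑(SA H ⊥) : Set (N → ℂ)) {1}ᶜ, τ α 1 = 0)
    (T C : Subgroup N) [hTn : T.Normal] [hCn : C.Normal] (hsup : T ⊔ C = H) (hinf : T ⊓ C = ⊥)
    (hT : T ≠ ⊥) (hC : C ≠ ⊥) :
    Cfsg.IsCoherent (↑(SA H ⊥) : Set (N → ℂ)) {1}ᶜ τ := by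
  have he0 : 0 < H.index := Nat.pos_of_ne_zero Subgroup.index_ne_zero_of_finite
  have hTH : T ≤ H := hsup ▸ le_sup_left
  have hCH : C ≤ H := hsup ▸ le_sup_right
  have hinf' : C ⊓ T = ⊥ := by rw [inf_comm]; exact hinf
  have hT₁ : ⁅T, H⁆ < T := commutator_lt H T hTH hT
  have hC₁ : ⁅C, H⁆ < C := commutator_lt H C hCH hC
  have hH' : ⁅H, H⁆ = ⁅T, H⁆ ⊔ ⁅C, H⁆ := by
    apply le_antisymm
    · calc ⁅H, H⁆ = ⁅T ⊔ C, H⁆ := by rw [hsup]
        _ ≤ ⁅T, H⁆ ⊔ ⁅C, H⁆ := sup_commutator_le T C H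
    · exact sup_le (Subgroup.commutator_mono hTH le_rfl) (Subgroup.commutator_mono hCH le_rfl)
  -- strictness
  have s1 : ∀ V : Subgroup N, V.Normal → V ≤ C → ⁅T, H⁆ ⊔ V < T ⊔ V := by
    intro V hVn hVC
    refine lt_of_le_of_ne (sup_le_sup_right hT₁.le V) ?_
    intro heq
    apply hT₁.not_ge
    intro x hx
    have hx' : x ∈ ⁅T, H⁆ ⊔ V := by
      rw [heq]
      exact Subgroup.mem_sup_left hx
    exact mem_of_mem_sup_of_disjoint ⁅T, H⁆ T V C hT₁.le hVC hinf hx' hx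
  have s2 : ∀ V : Subgroup N, V ≤ ⁅C, H⁆ → T ⊔ V < H := by
    intro V hV
    refine lt_of_le_of_ne (sup_le hTH (hV.trans (hC₁.le.trans hCH))) ?_
    intro heq
    apply hC₁.not_ge
    intro x hx
    have hx' : x ∈ ⁅C, H⁆ ⊔ T := by
      have : x ∈ T ⊔ V := by
        rw [heq]
        exact hCH hx
      rw [sup_comm]
      exact (sup_le_sup_left hV T) this
    exact mem_of_mem_sup_of_disjoint ⁅C, H⁆ C T T hC₁.le le_rfl hinf' hx' hx
  have s3 : ∀ Z V : Subgroup N, Z ≤ C → Z ≠ ⊥ → ⁅Z, H⁆ = ⊥ → V ≤ T → ⁅Z, H⁆ ⊔ V < Z ⊔ V := by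
    intro Z V hZC hZ1 hZH hVT
    rw [hZH, bot_sup_eq]
    refine lt_of_le_of_ne le_sup_right ?_
    intro heq
    apply hZ1
    rw [eq_bot_iff, ← hinf]
    have hZV : Z ≤ V := by
      rw [heq]
      exact le_sup_left
    exact le_inf (hZV.trans hVT) hZC
  have s4 : ∀ Z V : Subgroup N, Z ≤ C → V ≤ ⁅T, H⁆ → Z ⊔ V < H := by
    intro Z V hZC hV
    refine lt_of_le_of_ne (sup_le (hZC.trans hCH) (hV.trans (hT₁.le.trans hTH))) ?_
    intro heq
    apply hT₁.not_ge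
    intro x hx
    have hx' : x ∈ ⁅T, H⁆ ⊔ C := by
      have : x ∈ Z ⊔ V := by
        rw [heq]
        exact hTH hx
      rw [sup_comm]
      exact (sup_le_sup hZC hV) this
    exact mem_of_mem_sup_of_disjoint ⁅T, H⁆ T C C hT₁.le le_rfl hinf hx' hx
  -- the base
  have hbase : Cfsg.IsCoherent (↑(SA H ⁅H, H⁆) : Set (N → ℂ)) {1}ᶜ τ ∧ ∃ ψ, ψ ∈ SA H ⁅H, H⁆ := by
    have hAD := s1 ⁅C, H⁆ inferInstance hC₁.le
    have hDH := s2 ⁅C, H⁆ le_rfl
    have hk := succ_index_le_relIndex H hF (⁅T, H⁆ ⊔ ⁅C, H⁆) (T ⊔ ⁅C, H⁆) hAD hDH.le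
    have hm := succ_index_le_relIndex H hF (T ⊔ ⁅C, H⁆) H hDH le_rfl
    have hmul := Subgroup.relIndex_mul_relIndex (⁅T, H⁆ ⊔ ⁅C, H⁆) (T ⊔ ⁅C, H⁆) H hAD.le hDH.le
    rw [← hH'] at hmul
    have hge : (H.index + 1) * (H.index + 1) ≤ (⁅H, H⁆ : Subgroup N).relIndex H := by
      rw [← hmul]
      exact Nat.mul_le_mul (hH' ▸ hk) hm
    apply coh_base H hF τ hτ hτ1 ⁅H, H⁆ (Subgroup.commutator_le_self H)
      (fun ξ hξ => charDegree_eq_index H hF hξ)
    · intro h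
      rw [h] at hge
      nlinarith
    · intro h
      rw [h] at hge
      nlinarith
  obtain ⟨hcoh0, ψ, hψ⟩ := hbase
  -- stage 1
  have hGC1 : Gam H C 1 = ⁅C, H⁆ := rfl
  have hGT1 : Gam H T 1 = ⁅T, H⁆ := rfl
  have stage1 : ∀ j, Cfsg.IsCoherent (↑(SA H (⁅T, H⁆ ⊔ Gam H C (j + 1))) : Set (N → ℂ)) {1}ᶜ τ := by
    intro j
    induction j with
    | zero =>
      rw [hGC1, ← hH']
      exact hcoh0
    | succ j ih =>
      haveI := Gam_normal H C (j + 1)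
      have hle1 : Gam H C (j + 1) ≤ ⁅C, H⁆ :=
        Gam_antitone H C (Nat.succ_le_succ (Nat.zero_le j))
      exact coh_two_factor H hF τ hτ hτ1 T (Gam H C (j + 1)) hTH
        ((Gam_le H C (j + 1)).trans hCH) (s1 _ inferInstance (Gam_le H C (j + 1)))
        (s2 _ hle1) (by rw [hH']; exact sup_le_sup_left hle1 _) ψ hψ ih
  have hcohT₁ : Cfsg.IsCoherent (↑(SA H ⁅T, H⁆) : Set (N → ℂ)) {1}ᶜ τ := by
    obtain ⟨n, hn⟩ := exists_Gam_eq_bot H hCH
    have hn1 : Gam H C (n + 1) = ⊥ := by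
      have := Gam_succ_le H C n
      rw [hn] at this
      exact le_bot_iff.mp this
    have := stage1 n
    rwa [hn1, sup_bot_eq] at this
  -- the last nontrivial term of the series of `C`
  obtain ⟨m, hm1, hm2⟩ : ∃ m, Gam H C m ≠ ⊥ ∧ Gam H C (m + 1) = ⊥ := by
    classical
    have hex := exists_Gam_eq_bot H hCH
    have hfind := Nat.find_spec hex
    have hmin := fun k => Nat.find_min hex (m := k)
    have h0 : Nat.find hex ≠ 0 := by
      intro h0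
      rw [h0] at hfind
      exact hC hfind
    obtain ⟨m, hm⟩ := Nat.exists_eq_succ_of_ne_zero h0
    refine ⟨m, ?_, ?_⟩
    · exact hmin m (by omega)
    · rw [← Nat.succ_eq_add_one, ← hm]
      exact hfind
  haveI hZn := Gam_normal H C m
  have hZC : Gam H C m ≤ C := Gam_le H C m
  have hZH : ⁅Gam H C m, H⁆ = ⊥ := hm2
  -- stage 2
  have stage2 : ∀ i, Cfsg.IsCoherent (↑(SA H (Gam H T (i + 1))) : Set (N → ℂ)) {1}ᶜ τ := by
    intro i
    induction i with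
    | zero =>
      rw [hGT1]
      exact hcohT₁
    | succ i ih =>
      haveI := Gam_normal H T (i + 1)
      have hle1 : Gam H T (i + 1) ≤ ⁅T, H⁆ :=
        Gam_antitone H T (Nat.succ_le_succ (Nat.zero_le i))
      have hleH' : ⁅T, H⁆ ≤ ⁅H, H⁆ := by rw [hH']; exact le_sup_left
      have := coh_two_factor H hF τ hτ hτ1 (Gam H C m) (Gam H T (i + 1)) (hZC.trans hCH)
        ((Gam_le H T (i + 1)).trans hTH) (s3 _ _ hZC hm1 hZH (Gam_le H T (i + 1)))
        (s4 _ _ hZC hle1) (by rw [hZH, bot_sup_eq]; exact hle1.trans hleH') ψ hψ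
        (by rw [hZH, bot_sup_eq]; exact ih)
      rw [hZH, bot_sup_eq] at this
      exact this
  obtain ⟨n, hn⟩ := exists_Gam_eq_bot H hTH
  have hn1 : Gam H T (n + 1) = ⊥ := by
    have := Gam_succ_le H T n
    rw [hn] at this
    exact le_bot_iff.mp this
  have := stage2 n
  rwa [hn1] at this

end Cfsg.Agent.Helper8.FS
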