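import Mathlib
import Cfsg.Prelude.Def_Characters
import Cfsg.Prelude.Def_OddOrderLocal
import Cfsg.Agent.Helper8.RationalValue
import Cfsg.Agent.Helper24.ColumnOrth
import Cfsg.Agent.Helper24.Span
import Cfsg.Agent.Helper24.Regular
import Cfsg.Agent.Helper24.Integrality

/-!
The congruence `ψ(1) ≡ ψ(z) mod |P|` for an irreducible character constant on the non-identity
elements of a central subgroup of a TI Sylow subgroup with normaliser of odd order
(Peterfalvi 6.7).
-/

set_option autoImplicit false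
set_option linter.unusedSectionVars false
set_option linter.style.haveILetI false

namespace Cfsg.Agent.Helper8

section FreeSum

/-- the sum of an invariant algebraic-integer valued function over a set on which a finite group
acts freely is a multiple of the group order -/
theorem sum_eq_card_mul_of_free {Y : Type*} [DecidableEq Y] {Q : Type*} [Group Q] [Fintype Q]
    (act : Q → Y → Y) (hone : ∀ y, act 1 y = y)
    (hmul : ∀ u v y, act (u * v) y = act u (act v y))
    (f : Y → ℂ) (hf : ∀ v y, f (act v y) = f y) (hint : ∀ y, IsIntegral ℤ (f y)) :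
    ∀ (n : ℕ) (s : Finset Y), s.card = n → (∀ v, ∀ y ∈ s, act v y ∈ s) →
      (∀ v, ∀ y ∈ s, act v y = y → v = 1) →
      ∃ ω : ℂ, IsIntegral ℤ ω ∧ ∑ y ∈ s, f y = (Fintype.card Q : ℂ) * ω := by
  intro n
  induction n using Nat.strong_induction_on with
  | _ n ih =>
  intro s hcard hs hfree
  by_cases hempty : s = ∅
  · exact ⟨0, isIntegral_zero, by rw [hempty]; simp⟩
  obtain ⟨y₀, hy₀⟩ := Finset.nonempty_iff_ne_empty.mpr hempty
  set O := Finset.univ.image (fun v : Q => act v y₀) with hO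
  have hinj : ∀ u v : Q, act u y₀ = act v y₀ → u = v := by
    intro u v huv
    have h1 : act (v⁻¹ * u) y₀ = y₀ := by
      rw [hmul, huv, ← hmul, inv_mul_cancel, hone]
    have h2 := hfree _ y₀ hy₀ h1
    exact (inv_mul_eq_one.mp h2).symm
  have hOs : O ⊆ s := by
    intro y hy
    obtain ⟨v, -, rfl⟩ := Finset.mem_image.mp hy
    exact hs v y₀ hy₀
  have hy₀O : y₀ ∈ O := by
    rw [hO, Finset.mem_image]
    exact ⟨1, Finset.mem_univ _, hone y₀⟩
  have hsumO : ∑ y ∈ O, f y = (Fintype.card Q : ℂ) * f y₀ := by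
    rw [hO, Finset.sum_image (fun u _ v _ h => hinj u v h)]
    simp only [hf]
    rw [Finset.sum_const, Finset.card_univ, nsmul_eq_mul]
  have hs' : ∀ v, ∀ y ∈ s \ O, act v y ∈ s \ O := by
    intro v y hy
    rw [Finset.mem_sdiff] at hy ⊢
    refine ⟨hs v y hy.1, fun h => hy.2 ?_⟩
    obtain ⟨u, -, hu⟩ := Finset.mem_image.mp h
    have h1 : y = act (v⁻¹ * u) y₀ := by
      rw [hmul, hu, ← hmul, inv_mul_cancel, hone]
    rw [h1]
    exact Finset.mem_image_of_mem _ (Finset.mem_univ _)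
  have hcard' : (s \ O).card < n := by
    rw [← hcard]
    apply Finset.card_lt_card
    exact Finset.sdiff_ssubset hOs ⟨y₀, hy₀O⟩
  obtain ⟨ω', hω', hsum'⟩ := ih (s \ O).card hcard' (s \ O) rfl hs'
    (fun v y hy => hfree v y (Finset.mem_sdiff.mp hy).1)
  refine ⟨f y₀ + ω', (hint y₀).add hω', ?_⟩
  rw [← Finset.sum_sdiff hOs, hsum', hsumO]
  ring

end FreeSum

section TI

variable {G : Type*} [Group G] [Finite G] {p : ℕ} [hp : Fact p.Prime] (P : Sylow p G)

/-- an element conjugating a non-identity element of the TI subgroup `P` into `P` normalises `P` -/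
theorem mem_normalizer_of_conj_mem (hTI : Cfsg.IsTISubset ((P : Subgroup G) : Set G)) {y x : G}
    (hy : y ∈ (P : Subgroup G)) (hy1 : y ≠ 1) (hxy : x * y * x⁻¹ ∈ (P : Subgroup G)) :
    x ∈ Subgroup.normalizer ((P : Subgroup G) : Set G) := by
  by_contra hx
  exact hy1 (hTI x hx y hy hxy)

/-- a conjugate of an element of the Sylow subgroup `P` lying in the normaliser of `P` lies in
`P` -/
theorem conj_mem_sylow_of_mem_normalizer {v x : G} (hv : v ∈ (P : Subgroup G))
    (hx : x * v * x⁻¹ ∈ Subgroup.normalizer ((P : Subgroup G) : Set G)) :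
    x * v * x⁻¹ ∈ (P : Subgroup G) := by
  set Q : Subgroup G := (P : Subgroup G).map (MulAut.conj x).toMonoidHom with hQ
  have hQp : IsPGroup p Q := P.isPGroup'.map _
  have hmem : x * v * x⁻¹ ∈ Q := by
    rw [hQ, Subgroup.mem_map]
    exact ⟨v, hv, by simp⟩
  have h1 : x * v * x⁻¹ ∈ Q ⊓ Subgroup.normalizer ((P : Subgroup G) : Set G) := ⟨hmem, hx⟩
  have h2 : Q ⊓ Subgroup.normalizer ((P : Subgroup G) : Set G) = Q ⊓ (P : Subgroup G) :=
    hQp.inf_normalizer_sylow P
  rw [h2] at h1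
  exact h1.2

/-- the conjugation action of `P` on the conjugates of its non-identity elements outside `P` is
free -/
theorem eq_one_of_conj_fixed (hTI : Cfsg.IsTISubset ((P : Subgroup G) : Set G)) {v y x : G}
    (hv : v ∈ (P : Subgroup G)) (hy : y ∈ (P : Subgroup G)) (hy1 : y ≠ 1)
    (hg : x * y * x⁻¹ ∉ (P : Subgroup G)) (hfix : v * (x * y * x⁻¹) * v⁻¹ = x * y * x⁻¹) :
    v = 1 := by
  have h1 : (x⁻¹ * v * x⁻¹⁻¹) * y * (x⁻¹ * v * x⁻¹⁻¹)⁻¹ = y := by
    have h2 : (x⁻¹ * v * x⁻¹⁻¹) * y * (x⁻¹ * v * x⁻¹⁻¹)⁻¹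
        = x⁻¹ * (v * (x * y * x⁻¹) * v⁻¹) * x := by group
    rw [h2, hfix]
    group
  have h3 : x⁻¹ * v * x⁻¹⁻¹ ∈ Subgroup.normalizer ((P : Subgroup G) : Set G) := by
    apply mem_normalizer_of_conj_mem P hTI hy hy1
    rw [h1]
    exact hy
  have h4 : x⁻¹ * v * x⁻¹⁻¹ ∈ (P : Subgroup G) := conj_mem_sylow_of_mem_normalizer P hv h3
  by_cases hx : x⁻¹ ∈ Subgroup.normalizer ((P : Subgroup G) : Set G)
  · exfalso
    apply hg
    have hx' : x ∈ Subgroup.normalizer ((P : Subgroup G) : Set G) := by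
      have := Subgroup.inv_mem _ hx
      rwa [inv_inv] at this
    exact (Subgroup.mem_normalizer_iff.mp hx' y).mp hy
  · exact hTI x⁻¹ hx v hv h4

/-- in a TI Sylow subgroup with normaliser of odd order no non-identity element is conjugate to
its inverse -/
theorem not_isConj_inv (hTI : Cfsg.IsTISubset ((P : Subgroup G) : Set G))
    (hodd : Odd (Nat.card (Subgroup.normalizer ((P : Subgroup G) : Set G)))) {z : G}
    (hz : z ∈ (P : Subgroup G)) (hz1 : z ≠ 1) : ¬ IsConj z z⁻¹ := by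
  intro hc
  obtain ⟨x, hx⟩ := isConj_iff.mp hc
  have hxN : x ∈ Subgroup.normalizer ((P : Subgroup G) : Set G) := by
    apply mem_normalizer_of_conj_mem P hTI hz hz1
    rw [hx]
    exact Subgroup.inv_mem _ hz
  have hordx : Odd (orderOf x) := by
    apply hodd.of_dvd_nat
    have := Subgroup.orderOf_dvd_natCard (Subgroup.normalizer ((P : Subgroup G) : Set G)) hxN
    exact this
  have hzN : z ∈ Subgroup.normalizer ((P : Subgroup G) : Set G) := Subgroup.le_normalizer hz
  have hordz : Odd (orderOf z) := by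
    apply hodd.of_dvd_nat
    exact Subgroup.orderOf_dvd_natCard (Subgroup.normalizer ((P : Subgroup G) : Set G)) hzN
  -- `x ^ 2` commutes with `z`
  have hc2 : Commute (x ^ 2) z := by
    have h1 : x * z = z⁻¹ * x := by
      rw [← hx]
      group
    have h2 : x * z⁻¹ = z * x := by
      have : x * z⁻¹ * x⁻¹ = z := by
        have h3 : x * z⁻¹ * x⁻¹ = (x * z * x⁻¹)⁻¹ := by group
        rw [h3, hx, inv_inv]
      calc x * z⁻¹ = (x * z⁻¹ * x⁻¹) * x := by group
        _ = z * x := by rw [this]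
    show x ^ 2 * z = z * x ^ 2
    calc x ^ 2 * z = x * (x * z) := by rw [pow_two, mul_assoc]
      _ = x * (z⁻¹ * x) := by rw [h1]
      _ = (x * z⁻¹) * x := by rw [mul_assoc]
      _ = (z * x) * x := by rw [h2]
      _ = z * x ^ 2 := by rw [pow_two, mul_assoc]
  obtain ⟨j, hj⟩ := hordx
  have hxpow : x = (x ^ 2) ^ (j + 1) := by
    rw [← pow_mul]
    have : 2 * (j + 1) = orderOf x + 1 := by omega
    rw [this, pow_succ, pow_orderOf_eq_one, one_mul]
  have hcx : Commute x z := by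
    rw [hxpow]
    exact hc2.pow_left _
  have hzz : z = z⁻¹ := by
    rw [← hx]
    have : x * z * x⁻¹ = z := by
      rw [hcx.eq]
      group
    exact this.symm
  have hz2 : z ^ 2 = 1 := by
    rw [sq]
    nth_rewrite 2 [hzz]
    exact mul_inv_cancel z
  have hd : orderOf z ∣ 2 := orderOf_dvd_of_pow_eq_one hz2
  have h1 : orderOf z = 1 := by
    have hle : orderOf z ≤ 2 := Nat.le_of_dvd (by norm_num) hd
    obtain ⟨i, hi⟩ := hordz
    omega
  exact hz1 (orderOf_eq_one_iff.mp h1)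

end TI

section Main

variable {G : Type*} [Group G] [Finite G]

open Cfsg.Agent.Helper24 in
/-- **The congruence `ψ(1) ≡ ψ(z) mod |P|`** (Peterfalvi 6.7). -/
theorem ti_sylow_congruence (p : ℕ) [Fact p.Prime] (P : Sylow p G)
    (hTI : Cfsg.IsTISubset ((P : Subgroup G) : Set G))
    (hodd : Odd (Nat.card (Subgroup.normalizer ((P : Subgroup G) : Set G))))
    (Z : Subgroup G) (hZP : Z ≤ P)
    (hZn : ∀ x ∈ Subgroup.normalizer ((P : Subgroup G) : Set G), ∀ z ∈ Z, x * z * x⁻¹ ∈ Z)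
    (hZc : ∀ z ∈ Z, ∀ y ∈ (P : Subgroup G), z * y = y * z)
    (ψ : G → ℂ) (hψ : Cfsg.IsIrrCharacter G ψ)
    (hconst : ∀ z ∈ Z, ∀ z' ∈ Z, z ≠ 1 → z' ≠ 1 → ψ z = ψ z') (z : G) (hz : z ∈ Z)
    (hz1 : z ≠ 1) :
    ∃ n d : ℤ, ψ z = n ∧ ψ 1 = d ∧ (Nat.card (P : Subgroup G) : ℤ) ∣ d - n := by
  classical
  haveI : Fintype G := Fintype.ofFinite G
  haveI : Fintype (P : Subgroup G) := Fintype.ofFinite _
  have hψc := IsIrrCharacter.isCharacter hψ
  have hcf := IsCharacter.isClassFunction hψc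
  have hint : ∀ g, IsIntegral ℤ (ψ g) := by
    obtain ⟨m, ρ, -, hρ⟩ := hψ
    intro g
    rw [← hρ]
    exact char_isIntegral ρ g
  obtain ⟨n, hn⟩ : ∃ n : ℤ, ψ z = n := by
    apply char_int_of_pow_invariant hψc z
    intro k hk
    apply hconst _ (Z.pow_mem hz k) z hz _ hz1
    intro h
    have h1 : orderOf z ∣ k := orderOf_dvd_of_pow_eq_one h
    have h2 : orderOf z ∣ Nat.card G := orderOf_dvd_natCard z
    have h3 : orderOf z ∣ 1 := by
      have := Nat.dvd_gcd h1 h2
      rwa [hk] at this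
    exact hz1 (orderOf_eq_one_iff.mp (Nat.dvd_one.mp h3))
  obtain ⟨d, hdpos, hd⟩ := isIrrCharacter_one hψ
  refine ⟨n, d, hn, by rw [hd]; simp, ?_⟩
  have hzP : z ∈ (P : Subgroup G) := hZP hz
  have hzinv : z⁻¹ ∈ Z := Z.inv_mem hz
  have hzinv1 : z⁻¹ ≠ 1 := by simpa using hz1
  have hainv : ψ z⁻¹ = ψ z := hconst _ hzinv z hz hzinv1 hz1
  have hnc : ¬ IsConj z z⁻¹ := not_isConj_inv P hTI hodd hzP hz1
  -- the class sum identities
  have key1 := irr_sum_mul_char_mul ⟨ψ, hψ⟩ (classIndicator z)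
    (isClassFunction_classIndicator z) z
  have key2 := irr_sum_mul_char_mul ⟨ψ, hψ⟩ (classIndicator z⁻¹)
    (isClassFunction_classIndicator z⁻¹) z
  simp only at key1 key2
  have r1 : ∑ g, classIndicator z g * ψ g = (Nat.card {x : G // IsConj z x} : ℂ) * ψ z := by
    rw [Finset.sum_congr rfl (fun g _ => classIndicator_mul z ψ hcf g), ← Finset.sum_mul,
      sum_classIndicator]
  have r2 : ∑ g, classIndicator z⁻¹ g * ψ g
      = (Nat.card {x : G // IsConj z⁻¹ x} : ℂ) * ψ z := by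
    rw [Finset.sum_congr rfl (fun g _ => classIndicator_mul z⁻¹ ψ hcf g), ← Finset.sum_mul,
      sum_classIndicator, hainv]
  have hconjinv : ∀ g : G, IsConj z⁻¹ g ↔ IsConj z g⁻¹ := by
    intro g
    rw [isConj_iff, isConj_iff]
    constructor
    · rintro ⟨c, hc⟩
      refine ⟨c, ?_⟩
      rw [← hc]
      group
    · rintro ⟨c, hc⟩
      refine ⟨c, ?_⟩
      have : g = (c * z * c⁻¹)⁻¹ := by rw [hc, inv_inv]
      rw [this]
      group
  have hcardeq : Nat.card {x : G // IsConj z⁻¹ x} = Nat.card {x : G // IsConj z x} := by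
    apply Nat.card_congr
    refine ⟨fun x => ⟨x.1⁻¹, (hconjinv x.1).mp x.2⟩,
      fun x => ⟨x.1⁻¹, (hconjinv x.1⁻¹).mpr (by rw [inv_inv]; exact x.2)⟩, ?_, ?_⟩
    · intro x
      apply Subtype.ext
      simp
    · intro x
      apply Subtype.ext
      simp
  have hψ1 : ψ 1 ≠ 0 := by
    rw [hd]
    exact_mod_cast hdpos.ne'
  have hsumeq : ∑ g, classIndicator z g * ψ (g * z) = ∑ g, classIndicator z⁻¹ g * ψ (g * z) := by
    apply mul_left_cancel₀ hψ1
    rw [key1, key2, r1, r2, hcardeq]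
  -- rewriting the sums over the classes
  have hsplit : ∀ z₁ : G, ∑ g, classIndicator z₁ g * ψ (g * z)
      = ∑ g ∈ Finset.univ.filter (fun g => IsConj z₁ g ∧ g ∈ (P : Subgroup G)), ψ (g * z)
        + ∑ g ∈ Finset.univ.filter (fun g => IsConj z₁ g ∧ g ∉ (P : Subgroup G)), ψ (g * z) := by
    intro z₁
    have h1 : ∑ g, classIndicator z₁ g * ψ (g * z)
        = ∑ g ∈ Finset.univ.filter (fun g => IsConj z₁ g), ψ (g * z) := by
      rw [Finset.sum_filter]
      apply Finset.sum_congr rfl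
      intro g _
      by_cases hg : IsConj z₁ g
      · rw [classIndicator_of_isConj hg, one_mul, if_pos hg]
      · rw [classIndicator_of_not_isConj hg, zero_mul, if_neg hg]
    rw [h1, ← Finset.sum_filter_add_sum_filter_not (Finset.univ.filter (fun g => IsConj z₁ g))
      (fun g => g ∈ (P : Subgroup G)), Finset.filter_filter, Finset.filter_filter]
  -- members of `P` conjugate to a non-identity element of `Z` lie in `Z`
  have hinZ : ∀ z₁ ∈ Z, z₁ ≠ 1 → ∀ g : G, IsConj z₁ g → g ∈ (P : Subgroup G) → g ∈ Z ∧ g ≠ 1 := by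
    intro z₁ hz₁ hz₁1 g hg hgP
    obtain ⟨c, hc⟩ := isConj_iff.mp hg
    have hcN : c ∈ Subgroup.normalizer ((P : Subgroup G) : Set G) := by
      apply mem_normalizer_of_conj_mem P hTI (hZP hz₁) hz₁1
      rw [hc]
      exact hgP
    refine ⟨by rw [← hc]; exact hZn c hcN z₁ hz₁, ?_⟩
    intro h
    apply hz₁1
    rw [h] at hc
    have : z₁ = c⁻¹ * (c * z₁ * c⁻¹) * c := by group
    rw [this, hc]
    group
  -- the part of the class of `z` inside `P`
  have hA1 : ∑ g ∈ Finset.univ.filter (fun g => IsConj z g ∧ g ∈ (P : Subgroup G)), ψ (g * z)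
      = ((Finset.univ.filter (fun g => IsConj z g ∧ g ∈ (P : Subgroup G))).card : ℂ) * ψ z := by
    rw [Finset.sum_congr rfl (g := fun _ => ψ z), Finset.sum_const, nsmul_eq_mul]
    intro g hg
    rw [Finset.mem_filter] at hg
    obtain ⟨hgZ, hg1⟩ := hinZ z hz hz1 g hg.2.1 hg.2.2
    apply hconst _ (Z.mul_mem hgZ hz) z hz _ hz1
    intro h
    apply hnc
    have : g = z⁻¹ := eq_inv_of_mul_eq_one_left h
    rw [← this]
    exact hg.2.1
  -- the part of the class of `z⁻¹` inside `P`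
  have hzinvA : z⁻¹ ∈ Finset.univ.filter (fun g => IsConj z⁻¹ g ∧ g ∈ (P : Subgroup G)) := by
    rw [Finset.mem_filter]
    exact ⟨Finset.mem_univ _, IsConj.refl _, Subgroup.inv_mem _ hzP⟩
  have hA2 : ∑ g ∈ Finset.univ.filter (fun g => IsConj z⁻¹ g ∧ g ∈ (P : Subgroup G)), ψ (g * z)
      = (((Finset.univ.filter (fun g => IsConj z⁻¹ g ∧ g ∈ (P : Subgroup G))).card : ℂ) - 1) * ψ z
        + ψ 1 := by
    rw [← Finset.add_sum_erase _ _ hzinvA, inv_mul_cancel]
    rw [Finset.sum_congr rfl (g := fun _ => ψ z), Finset.sum_const, nsmul_eq_mul,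
      Finset.card_erase_of_mem hzinvA]
    · have hpos : 1 ≤ (Finset.univ.filter
          (fun g => IsConj z⁻¹ g ∧ g ∈ (P : Subgroup G))).card :=
        Finset.card_pos.mpr ⟨_, hzinvA⟩
      rw [Nat.cast_sub hpos]
      push_cast
      ring
    · intro g hg
      rw [Finset.mem_erase, Finset.mem_filter] at hg
      obtain ⟨hgZ, hg1⟩ := hinZ z⁻¹ hzinv hzinv1 g hg.2.2.1 hg.2.2.2
      apply hconst _ (Z.mul_mem hgZ hz) z hz _ hz1
      intro h
      exact hg.1 (eq_inv_of_mul_eq_one_left h)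
  have hAcard : (Finset.univ.filter (fun g => IsConj z⁻¹ g ∧ g ∈ (P : Subgroup G))).card
      = (Finset.univ.filter (fun g => IsConj z g ∧ g ∈ (P : Subgroup G))).card := by
    apply Finset.card_bij (fun g _ => g⁻¹)
    · intro g hg
      rw [Finset.mem_filter] at hg ⊢
      exact ⟨Finset.mem_univ _, (hconjinv g).mp hg.2.1, Subgroup.inv_mem _ hg.2.2⟩
    · intro g₁ _ g₂ _ h
      exact inv_injective h
    · intro g hg
      rw [Finset.mem_filter] at hg
      refine ⟨g⁻¹, ?_, inv_inv g⟩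
      rw [Finset.mem_filter]
      exact ⟨Finset.mem_univ _, (hconjinv g⁻¹).mpr (by rw [inv_inv]; exact hg.2.1),
        Subgroup.inv_mem _ hg.2.2⟩
  -- the parts outside `P`
  have hB : ∀ z₁ ∈ Z, z₁ ≠ 1 → ∃ ω : ℂ, IsIntegral ℤ ω ∧
      ∑ g ∈ Finset.univ.filter (fun g => IsConj z₁ g ∧ g ∉ (P : Subgroup G)), ψ (g * z)
        = (Fintype.card (P : Subgroup G) : ℂ) * ω := by
    intro z₁ hz₁ hz₁1
    apply sum_eq_card_mul_of_free (Q := (P : Subgroup G))
      (fun v g => (v : G) * g * (v : G)⁻¹) (fun g => by simp)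
      (fun u v g => by simp only [Subgroup.coe_mul]; group)
      (fun g => ψ (g * z)) ?_ (fun g => hint _) _ _ rfl
    · intro v g hg
      rw [Finset.mem_filter] at hg ⊢
      refine ⟨Finset.mem_univ _, ?_, ?_⟩
      · exact hg.2.1.trans (isConj_iff.mpr ⟨v, rfl⟩)
      · intro h
        apply hg.2.2
        have h2 := (P : Subgroup G).mul_mem ((P : Subgroup G).mul_mem
          ((P : Subgroup G).inv_mem v.2) h) v.2
        have e : (v : G)⁻¹ * ((v : G) * g * (v : G)⁻¹) * (v : G) = g := by group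
        rwa [e] at h2
    · intro v g hg hfix
      rw [Finset.mem_filter] at hg
      obtain ⟨c, hc⟩ := isConj_iff.mp hg.2.1
      have hg' : c * z₁ * c⁻¹ ∉ (P : Subgroup G) := by rw [hc]; exact hg.2.2
      have hfix' : (v : G) * (c * z₁ * c⁻¹) * (v : G)⁻¹ = c * z₁ * c⁻¹ := by rw [hc]; exact hfix
      have := eq_one_of_conj_fixed P hTI v.2 (hZP hz₁) hz₁1 hg' hfix'
      exact Subtype.ext this
    · intro v g
      show ψ ((v : G) * g * (v : G)⁻¹ * z) = ψ (g * z)
      have hcomm : (v : G)⁻¹ * z = z * (v : G)⁻¹ :=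
        (hZc z hz _ ((P : Subgroup G).inv_mem v.2)).symm
      have e : (v : G) * g * (v : G)⁻¹ * z = (v : G) * (g * z) * (v : G)⁻¹ := by
        rw [mul_assoc ((v : G) * g), hcomm]
        group
      rw [e, hcf]
  obtain ⟨ω₁, hω₁, hB1⟩ := hB z hz hz1
  obtain ⟨ω₂, hω₂, hB2⟩ := hB z⁻¹ hzinv hzinv1
  rw [hsplit z, hsplit z⁻¹, hA1, hA2, hAcard, hB1, hB2] at hsumeq
  have hfin : (d : ℂ) - (n : ℂ) = (Fintype.card (P : Subgroup G) : ℂ) * (ω₁ - ω₂) := by
    rw [← hd, ← hn]
    linear_combination (-1 : ℂ) * hsumeq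
  have hPpos : (Fintype.card (P : Subgroup G) : ℂ) ≠ 0 := by
    exact_mod_cast Fintype.card_ne_zero
  have hq : IsIntegral ℤ ((((d : ℤ) - n : ℤ) / (Fintype.card (P : Subgroup G) : ℤ) : ℚ) : ℂ) := by
    have : ((((d : ℤ) - n : ℤ) / (Fintype.card (P : Subgroup G) : ℤ) : ℚ) : ℂ) = ω₁ - ω₂ := by
      push_cast
      rw [div_eq_iff hPpos, hfin]
      ring
    rw [this]
    exact hω₁.sub hω₂
  obtain ⟨m, hm⟩ := exists_int_of_isIntegral_ratCast hq
  refine ⟨m, ?_⟩
  have hP0 : ((Fintype.card (P : Subgroup G) : ℤ) : ℚ) ≠ 0 := by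
    exact_mod_cast Fintype.card_ne_zero
  rw [div_eq_iff hP0] at hm
  rw [Nat.card_eq_fintype_card]
  have : (((d : ℤ) - n : ℤ) : ℚ) = ((Fintype.card (P : Subgroup G) : ℤ) * m : ℤ) := by
    rw [hm]
    push_cast
    ring
  exact_mod_cast this

end Main

end Cfsg.Agent.Helper8
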