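import Mathlib
import Cfsg.Prelude.Def_Characters
import Cfsg.Prelude.Def_OddOrderChar
import Cfsg.Agent.Helper8.CoherenceKernel
import Cfsg.Agent.Helper8.CharVal
import Cfsg.Agent.Helper8.CharComp
import Cfsg.Agent.Helper24.SmallDegree
import Cfsg.Agent.Helper24.Clifford
import Cfsg.Agent.S1516

/-!
Coherence of the irreducible induced characters not containing a central subgroup in their kernel
(Peterfalvi 6.5/6.6).
-/

set_option autoImplicit false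
set_option linter.unusedSectionVars false
set_option linter.style.haveILetI false

namespace Cfsg.Agent.Helper8

section General

variable {L : Type*} [Group L] [Fintype L] (K : Subgroup L) [hK : K.Normal]

/-- `θ` is constant on the elements of `K` lying in `Z` -/
def ConstOn (Z : Subgroup L) (θ : K → ℂ) : Prop := ∀ a : K, (a : L) ∈ Z → θ a = θ 1

theorem constOn_conjFun {Z : Subgroup L} [hZ : Z.Normal] {θ : K → ℂ} (h : ConstOn K Z θ) (x : L) :
    ConstOn K Z (Cfsg.Agent.Helper24.conjFun K θ x) := by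
  intro a ha
  rw [Cfsg.Agent.Helper24.conjFun_apply, Cfsg.Agent.Helper24.conjFun_apply]
  have e : (⟨x * ((1 : K) : L) * x⁻¹, hK.conj_mem _ (1 : K).2 x⟩ : K) = 1 :=
    Subtype.ext (by simp)
  rw [e]
  exact h _ (hZ.conj_mem _ ha x)

theorem constOn_const (Z : Subgroup L) : ConstOn K Z (fun _ => (1 : ℂ)) := fun _ _ => rfl

/-- irreducible characters of a normal subgroup inducing the same function are conjugate -/
theorem exists_conj_of_indFun_eq [Fintype K] {θ θ' : K → ℂ} (hθ : Cfsg.IsIrrCharacter K θ)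
    (hθ' : Cfsg.IsIrrCharacter K θ') (h : Cfsg.indFun K θ = Cfsg.indFun K θ') :
    ∃ x : L, θ = Cfsg.Agent.Helper24.conjFun K θ' x := by
  classical
  by_contra hcon
  push Not at hcon
  have h1 := Cfsg.Agent.Helper24.classInner_indFun_indFun_normal K θ θ'
  have h2 : ∀ x : L, Cfsg.classInner θ (Cfsg.Agent.Helper24.conjFun K θ' x) = 0 := by
    intro x
    rw [Cfsg.Agent.Helper24.classInner_of_isIrrCharacter hθ
      (Cfsg.Agent.Helper24.isIrrCharacter_conjFun K hθ' x), if_neg (hcon x)]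
  rw [Finset.sum_congr rfl (fun x _ => h2 x), Finset.sum_const_zero, mul_zero, ← h] at h1
  have h3 := Cfsg.Agent.Helper24.card_mul_classInner_indFun_self K θ hθ
  rw [h1, mul_zero] at h3
  have hne : Nonempty {g : L // ∀ h : K, θ ⟨g * h * g⁻¹, hK.conj_mem h h.2 g⟩ = θ h} := by
    refine ⟨⟨1, ?_⟩⟩
    intro k
    have e : (⟨1 * (k : L) * 1⁻¹, hK.conj_mem k k.2 1⟩ : K) = k := Subtype.ext (by simp)
    rw [e]
  have h4 : (Nat.card {g : L // ∀ h : K, θ ⟨g * h * g⁻¹, hK.conj_mem h h.2 g⟩ = θ h} : ℂ) ≠ 0 :=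
    Nat.cast_ne_zero.mpr Nat.card_pos.ne'
  exact h4 h3.symm

/-- if the induced function takes its value at `1` at an element of `K`, so does the character -/
theorem eq_of_indFun_eq_one [Finite K] {θ : K → ℂ} (hθ : Cfsg.IsCharacter K θ) (z : K)
    (h : Cfsg.indFun K θ (z : L) = Cfsg.indFun K θ 1) : θ z = θ 1 := by
  classical
  have h1 := indFun_normal_apply K θ z
  have h2 : Cfsg.indFun K θ (1 : L) = (Nat.card K : ℂ)⁻¹ *
      ∑ x : L, θ ⟨x * ((1 : K) : L) * x⁻¹, hK.conj_mem _ (1 : K).2 x⟩ :=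
    indFun_normal_apply K θ 1
  rw [h1, h2] at h
  have hcard : (Nat.card K : ℂ)⁻¹ ≠ 0 := inv_ne_zero (Nat.cast_ne_zero.mpr Nat.card_pos.ne')
  have h3 := mul_left_cancel₀ hcard h
  have h4 : ∀ x : L, θ ⟨x * ((1 : K) : L) * x⁻¹, hK.conj_mem _ (1 : K).2 x⟩ = θ 1 := by
    intro x
    have e : (⟨x * ((1 : K) : L) * x⁻¹, hK.conj_mem _ (1 : K).2 x⟩ : K) = 1 :=
      Subtype.ext (by simp)
    rw [e]
  rw [Finset.sum_congr rfl (fun x _ => h4 x)] at h3
  have h5 : ∑ x : L, ((θ 1).re - (θ ⟨x * (z : L) * x⁻¹, hK.conj_mem z z.2 x⟩).re) = 0 := by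
    rw [Finset.sum_sub_distrib, sub_eq_zero, ← Complex.re_sum, ← Complex.re_sum, h3]
  have h6 := (Finset.sum_eq_zero_iff_of_nonneg (fun x _ => by
    have := char_re_le hθ (⟨x * (z : L) * x⁻¹, hK.conj_mem z z.2 x⟩ : K)
    linarith)).mp h5 1 (Finset.mem_univ _)
  have e : (⟨1 * (z : L) * 1⁻¹, hK.conj_mem z z.2 1⟩ : K) = z := Subtype.ext (by simp)
  rw [e] at h6
  apply char_eq_of_re_eq hθ
  linarith

end General

section Constituent

variable {K : Type*} [Group K] [Fintype K]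

/-- a nonzero character has an irreducible constituent -/
theorem exists_irr_constituent {ψ : K → ℂ} (hψ : Cfsg.IsCharacter K ψ) (h1 : ψ 1 ≠ 0) :
    ∃ θ : Cfsg.IrrCharacter K, Cfsg.classInner ψ (θ : K → ℂ) ≠ 0 := by
  classical
  haveI : Fintype (Cfsg.IrrCharacter K) :=
    @Fintype.ofFinite _ (Cfsg.Agent.Helper23.finite_irrCharacter K)
  by_contra hcon
  push Not at hcon
  apply h1
  have h := Cfsg.Agent.Helper24.IsCharacter.eq_sum_classInner hψ
  rw [h]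
  simp [hcon]

end Constituent

section Diff

variable {L : Type*} [Group L] [Fintype L] (K : Subgroup L) [hK : K.Normal] (Z : Subgroup L)
  [hZ : Z.Normal]

/-- the members of `S ∖ S(Z)` are the functions induced from the irreducible characters of `K`
not constant on `Z` -/
theorem mem_diff_iff {φ : L → ℂ} :
    φ ∈ Cfsg.inducedIrrAbove K ⊥ \ Cfsg.inducedIrrAbove K Z ↔
      ∃ θ : K → ℂ, Cfsg.IsIrrCharacter K θ ∧ ¬ ConstOn K Z θ ∧ φ = Cfsg.indFun K θ := by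
  classical
  haveI : Fintype K := Fintype.ofFinite K
  constructor
  · rintro ⟨⟨θ, hθ, hne, -, rfl⟩, hnot⟩
    refine ⟨θ, hθ, ?_, rfl⟩
    intro hc
    exact hnot ⟨θ, hθ, hne, hc, rfl⟩
  · rintro ⟨θ, hθ, hnc, rfl⟩
    constructor
    · refine ⟨θ, hθ, ?_, ?_, rfl⟩
      · intro h
        apply hnc
        rw [h]
        exact constOn_const K Z
      · intro a ha
        have : a = 1 := Subtype.ext (Subgroup.mem_bot.mp ha)
        rw [this]
    · rintro ⟨θ', hθ', -, hc', heq⟩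
      obtain ⟨x, hx⟩ := exists_conj_of_indFun_eq K hθ hθ' heq
      apply hnc
      rw [hx]
      exact constOn_conjFun K hc' x

/-- `S ∖ S(Z)` is the set of irreducible characters of `L` not constant on `Z`, when all its
members are irreducible -/
theorem diff_eq_irr (hZK : Z ≤ K)
    (hirr : ∀ χ ∈ Cfsg.inducedIrrAbove K ⊥ \ Cfsg.inducedIrrAbove K Z, Cfsg.IsIrrCharacter L χ) :
    Cfsg.inducedIrrAbove K ⊥ \ Cfsg.inducedIrrAbove K Z
      = {χ | Cfsg.IsIrrCharacter L χ ∧ ∃ z ∈ Z, χ z ≠ χ 1} := by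
  classical
  haveI : Fintype K := Fintype.ofFinite K
  ext χ
  constructor
  · intro hχ
    refine ⟨hirr χ hχ, ?_⟩
    obtain ⟨θ, hθ, hnc, rfl⟩ := (mem_diff_iff K Z).mp hχ
    unfold ConstOn at hnc
    push Not at hnc
    obtain ⟨a, haZ, hne⟩ := hnc
    refine ⟨a, haZ, ?_⟩
    intro h
    exact hne (eq_of_indFun_eq_one K (Cfsg.Agent.Helper24.IsIrrCharacter.isCharacter hθ) a h)
  · rintro ⟨hχ, z₀, hz₀, hne⟩
    have hχc := Cfsg.Agent.Helper24.IsIrrCharacter.isCharacter hχ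
    have hres : Cfsg.IsCharacter K (fun k : K => χ k) := isCharacter_restrict K hχc
    have h1 : (fun k : K => χ k) 1 ≠ 0 :=
      Cfsg.Agent.Helper24.irr_one_ne_zero (⟨χ, hχ⟩ : Cfsg.IrrCharacter L)
    obtain ⟨θ, hθ⟩ := exists_irr_constituent hres h1
    have hnc : ¬ ConstOn K Z (θ : K → ℂ) := by
      intro hc
      have hcl := Cfsg.Agent.Helper24.clifford_finset K hχ θ.2 hθ
      apply hne
      have hv : ∀ k : K, (k : L) ∈ Z → χ k = χ 1 := by
        intro k hk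
        have e1 := congrFun hcl k
        have e2 := congrFun hcl 1
        simp only [Pi.smul_apply, Finset.sum_apply, smul_eq_mul] at e1 e2
        have hc2 : ∀ ψ ∈ Finset.univ.image (Cfsg.Agent.Helper24.conjFun K (θ : K → ℂ)),
            ψ k = ψ 1 := by
          intro ψ hψ
          obtain ⟨g, -, rfl⟩ := Finset.mem_image.mp hψ
          exact constOn_conjFun K hc g k hk
        rw [Finset.sum_congr rfl hc2] at e1
        rw [e1, ← e2]
        rfl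
      exact hv ⟨z₀, hZK hz₀⟩ hz₀
    have hmem : Cfsg.indFun K (θ : K → ℂ) ∈ Cfsg.inducedIrrAbove K ⊥ \ Cfsg.inducedIrrAbove K Z :=
      (mem_diff_iff K Z).mpr ⟨θ, θ.2, hnc, rfl⟩
    have hirrI := hirr _ hmem
    have hfr := frobenius_reciprocity K (θ : K → ℂ) χ
      (Cfsg.Agent.Helper24.IsCharacter.isClassFunction hχc)
    have hne2 : Cfsg.classInner (Cfsg.indFun K (θ : K → ℂ)) χ ≠ 0 := by
      rw [hfr, classInner_conj_symm]
      intro h
      apply hθ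
      have := congrArg (starRingEnd ℂ) h
      rwa [Complex.conj_conj, map_zero] at this
    rw [Cfsg.Agent.Helper24.classInner_of_isIrrCharacter hirrI hχ] at hne2
    have heq : Cfsg.indFun K (θ : K → ℂ) = χ := by
      by_contra h
      exact hne2 (if_neg h)
    rw [← heq]
    exact hmem

end Diff

section SumStable

variable {L : Type*} [Group L] [Fintype L] (K : Subgroup L) [hK : K.Normal] [Fintype K]
  [Fintype (Cfsg.IrrCharacter K)]

/-- the weighted sum of inner products of induced characters over a conjugation-stable family -/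
theorem sum_degree_mul_classInner_indFun_stable (I₀ : Finset (Cfsg.IrrCharacter K))
    (hI₀ : ∀ θ ∈ I₀, ∀ x : L, conjIrrK K θ x ∈ I₀) {θ₀ : Cfsg.IrrCharacter K} (hθ₀ : θ₀ ∈ I₀) :
    ∑ θ ∈ I₀, (θ : K → ℂ) 1 *
        Cfsg.classInner (Cfsg.indFun K (θ : K → ℂ)) (Cfsg.indFun K (θ₀ : K → ℂ))
      = (K.index : ℂ) * (θ₀ : K → ℂ) 1 := by
  classical
  have h1 : ∀ θ ∈ I₀, (θ : K → ℂ) 1 *
        Cfsg.classInner (Cfsg.indFun K (θ : K → ℂ)) (Cfsg.indFun K (θ₀ : K → ℂ))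
      = ∑ x : L, (Nat.card K : ℂ)⁻¹ * ((θ : K → ℂ) 1 * if θ = conjIrrK K θ₀ x then 1 else 0) := by
    intro θ _
    rw [Cfsg.Agent.Helper24.classInner_indFun_indFun_normal, Finset.mul_sum, Finset.mul_sum]
    apply Finset.sum_congr rfl
    intro x _
    rw [Cfsg.Agent.Helper24.classInner_of_isIrrCharacter θ.2
      (Cfsg.Agent.Helper24.isIrrCharacter_conjFun K θ₀.2 x)]
    have : ((θ : K → ℂ) = Cfsg.Agent.Helper24.conjFun K (θ₀ : K → ℂ) x) ↔ θ = conjIrrK K θ₀ x := by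
      constructor
      · intro h
        exact Subtype.ext h
      · intro h
        rw [h]
        rfl
    simp only [this]
    ring
  rw [Finset.sum_congr rfl h1, Finset.sum_comm]
  have h2 : ∀ x : L, ∑ θ ∈ I₀, (Nat.card K : ℂ)⁻¹ *
      ((θ : K → ℂ) 1 * if θ = conjIrrK K θ₀ x then 1 else 0)
      = (Nat.card K : ℂ)⁻¹ * (θ₀ : K → ℂ) 1 := by
    intro x
    rw [← Finset.mul_sum]
    congr 1
    simp only [mul_ite, mul_one, mul_zero]
    rw [Finset.sum_ite_eq' I₀ (conjIrrK K θ₀ x), if_pos (hI₀ θ₀ hθ₀ x), conjIrrK_apply_one]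
  rw [Finset.sum_congr rfl (fun x _ => h2 x), Finset.sum_const, Finset.card_univ, nsmul_eq_mul,
    ← Nat.card_eq_fintype_card, ← Subgroup.index_mul_card K]
  have hKpos : (Nat.card K : ℂ) ≠ 0 := Nat.cast_ne_zero.mpr Nat.card_pos.ne'
  push_cast
  field_simp

/-- the sum of `degree² / norm` over the functions induced from a conjugation-stable family -/
theorem sum_degree_sq_div_norm_stable (I₀ : Finset (Cfsg.IrrCharacter K))
    (hI₀ : ∀ θ ∈ I₀, ∀ x : L, conjIrrK K θ x ∈ I₀) (T : Finset (L → ℂ))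
    (hT : ∀ φ, φ ∈ T ↔ ∃ θ ∈ I₀, φ = Cfsg.indFun K (θ : K → ℂ))
    (horth : ∀ φ ∈ T, ∀ ψ ∈ T, φ ≠ ψ → Cfsg.classInner φ ψ = 0)
    (hne : ∀ φ ∈ T, Cfsg.classInner φ φ ≠ 0) :
    ∑ φ ∈ T, (φ 1) ^ 2 / Cfsg.classInner φ φ
      = (K.index : ℂ) * ∑ θ ∈ I₀, ((θ : K → ℂ) 1) ^ 2 := by
  classical
  set Ψ : L → ℂ := ∑ θ ∈ I₀, ((θ : K → ℂ) 1) • Cfsg.indFun K (θ : K → ℂ) with hΨ
  have hmemT : ∀ θ ∈ I₀, Cfsg.indFun K (θ : K → ℂ) ∈ T := fun θ hθ => (hT _).mpr ⟨θ, hθ, rfl⟩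
  have h1 : orthExt T id Ψ = Ψ := by
    rw [hΨ, orthExt_sum]
    apply Finset.sum_congr rfl
    intro θ hθ
    rw [orthExt_smul, orthExt_of_mem horth hne id (hmemT θ hθ)]
    rfl
  have h2 : ∀ φ ∈ T, Cfsg.classInner Ψ φ = φ 1 := by
    intro φ hφ
    obtain ⟨θ₀, hθ₀, rfl⟩ := (hT φ).mp hφ
    rw [hΨ, Cfsg.Agent.Helper23.classInner_sum_left]
    simp only [Cfsg.Agent.Helper23.classInner_smul_left]
    rw [sum_degree_mul_classInner_indFun_stable K I₀ hI₀ hθ₀, Cfsg.Agent.Helper5.indFun_apply_one]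
  have h3 : Ψ 1 = (K.index : ℂ) * ∑ θ ∈ I₀, ((θ : K → ℂ) 1) ^ 2 := by
    rw [hΨ, Finset.sum_apply, Finset.mul_sum]
    apply Finset.sum_congr rfl
    intro θ _
    rw [Pi.smul_apply, Cfsg.Agent.Helper5.indFun_apply_one, smul_eq_mul]
    ring
  rw [← h3]
  conv_rhs => rw [← h1]
  unfold orthExt
  rw [Finset.sum_apply]
  apply Finset.sum_congr rfl
  intro φ hφ
  rw [Pi.smul_apply, h2 φ hφ, smul_eq_mul, id]
  ring

end SumStable

section Arith2

/-- in a family of `p`-power degrees whose squares sum to a multiple of `p ^ c`, the squares of the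
degrees below `p ^ b` sum to a multiple of `p ^ (2 b)` when `2 b ≤ c` -/
theorem pgroup_sum_dvd {ι : Type*} [DecidableEq ι] (NZ : Finset ι) (deg bexp : ι → ℕ) {p c : ℕ}
    (hp : p.Prime) (hdeg : ∀ θ ∈ NZ, deg θ = p ^ bexp θ) (htot : p ^ c ∣ ∑ θ ∈ NZ, deg θ ^ 2)
    {b : ℕ} (hb : 2 * b ≤ c) :
    p ^ (2 * b) ∣ ∑ θ ∈ NZ.filter (fun θ => deg θ < p ^ b), deg θ ^ 2 := by
  have hsplit := Finset.sum_filter_add_sum_filter_not NZ (fun θ => deg θ < p ^ b)
    (fun θ => deg θ ^ 2)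
  have h1 : p ^ (2 * b) ∣ ∑ θ ∈ NZ, deg θ ^ 2 := (pow_dvd_pow p hb).trans htot
  have h2 : p ^ (2 * b) ∣ ∑ θ ∈ NZ.filter (fun θ => ¬ deg θ < p ^ b), deg θ ^ 2 := by
    apply Finset.dvd_sum
    intro θ hθ
    rw [Finset.mem_filter] at hθ
    have hge : p ^ b ≤ deg θ := not_lt.mp hθ.2
    rw [hdeg θ hθ.1] at hge ⊢
    have hbb : b ≤ bexp θ := (Nat.pow_le_pow_iff_right hp.one_lt).mp hge
    rw [← pow_mul]
    exact pow_dvd_pow p (by omega)
  rw [← hsplit] at h1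
  exact (Nat.dvd_add_left h2).mp h1

/-- the lower bound for the sum of squares of degrees below a threshold -/
theorem sum_sq_ge_of_dvd {ι κ : Type*} (Tb : Finset ι) (I₀ : Finset κ) (t : ι → ℕ) (deg : κ → ℕ)
    {e p b : ℕ} (hcop : Nat.Coprime e p) (he : 0 < e)
    (h1 : ∑ φ ∈ Tb, (e * t φ) ^ 2 = e * ∑ θ ∈ I₀, deg θ ^ 2)
    (h2 : p ^ (2 * b) ∣ ∑ θ ∈ I₀, deg θ ^ 2) (hne : ∃ φ ∈ Tb, t φ ≠ 0) :
    e ^ 2 * p ^ (2 * b) ≤ ∑ φ ∈ Tb, (e * t φ) ^ 2 := by
  have e1 : ∑ φ ∈ Tb, (e * t φ) ^ 2 = e ^ 2 * ∑ φ ∈ Tb, t φ ^ 2 := by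
    rw [Finset.mul_sum]
    apply Finset.sum_congr rfl
    intro φ _
    ring
  have e2 : e * ∑ φ ∈ Tb, t φ ^ 2 = ∑ θ ∈ I₀, deg θ ^ 2 := by
    have : e * (e * ∑ φ ∈ Tb, t φ ^ 2) = e * ∑ θ ∈ I₀, deg θ ^ 2 := by
      rw [← h1, e1]
      ring
    exact Nat.eq_of_mul_eq_mul_left he this
  rw [← e2] at h2
  have h3 : p ^ (2 * b) ∣ ∑ φ ∈ Tb, t φ ^ 2 :=
    (Nat.Coprime.pow_left (2 * b) hcop.symm).dvd_of_dvd_mul_left h2
  have hpos : 0 < ∑ φ ∈ Tb, t φ ^ 2 := by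
    obtain ⟨φ, hφ, hφ0⟩ := hne
    have h4 : t φ ^ 2 ≤ ∑ φ ∈ Tb, t φ ^ 2 :=
      Finset.single_le_sum (f := fun φ => t φ ^ 2) (fun _ _ => Nat.zero_le _) hφ
    have h5 : 0 < t φ ^ 2 := by positivity
    omega
  rw [e1]
  exact Nat.mul_le_mul_left _ (Nat.le_of_dvd hpos h3)

end Arith2

section KFacts

variable {L : Type*} [Group L] [Fintype L] (K : Subgroup L) [hK : K.Normal] [Fintype K]
  [Fintype (Cfsg.IrrCharacter K)] (Z : Subgroup L) [hZ : Z.Normal]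

open Classical in
/-- the irreducible characters of `K` that are not constant on `Z` -/
noncomputable def nonConst : Finset (Cfsg.IrrCharacter K) :=
  Finset.univ.filter (fun θ => ¬ ConstOn K Z (θ : K → ℂ))

theorem mem_nonConst {θ : Cfsg.IrrCharacter K} :
    θ ∈ nonConst K Z ↔ ¬ ConstOn K Z (θ : K → ℂ) := by
  unfold nonConst
  simp only [Finset.mem_filter, Finset.mem_univ, true_and]

theorem constOn_of_conjFun {θ : K → ℂ} (x : L)
    (h : ConstOn K Z (Cfsg.Agent.Helper24.conjFun K θ x)) : ConstOn K Z θ := by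
  intro a ha
  have ha' : ((⟨x⁻¹ * (a : L) * x⁻¹⁻¹, hK.conj_mem a a.2 x⁻¹⟩ : K) : L) ∈ Z :=
    hZ.conj_mem _ ha x⁻¹
  have h1 := h ⟨x⁻¹ * (a : L) * x⁻¹⁻¹, hK.conj_mem a a.2 x⁻¹⟩ ha'
  rw [Cfsg.Agent.Helper24.conjFun_apply, Cfsg.Agent.Helper24.conjFun_apply] at h1
  have e1 : (⟨x * ((⟨x⁻¹ * (a : L) * x⁻¹⁻¹, hK.conj_mem a a.2 x⁻¹⟩ : K) : L) * x⁻¹,
      hK.conj_mem _ (hK.conj_mem a a.2 x⁻¹) x⟩ : K) = a := Subtype.ext (by simp only; group)
  have e2 : (⟨x * ((1 : K) : L) * x⁻¹, hK.conj_mem _ (1 : K).2 x⟩ : K) = 1 :=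
    Subtype.ext (by simp)
  rw [e1, e2] at h1
  exact h1

theorem conjIrrK_mem_nonConst {θ : Cfsg.IrrCharacter K} (hθ : θ ∈ nonConst K Z) (x : L) :
    conjIrrK K θ x ∈ nonConst K Z := by
  rw [mem_nonConst] at hθ ⊢
  intro h
  exact hθ (constOn_of_conjFun K Z x h)

theorem irrDeg_conjIrrK (θ : Cfsg.IrrCharacter K) (x : L) :
    Cfsg.Agent.Helper24.irrDeg (conjIrrK K θ x) = Cfsg.Agent.Helper24.irrDeg θ := by
  have h := conjIrrK_apply_one K θ x
  rw [Cfsg.Agent.Helper24.irrDeg_spec, Cfsg.Agent.Helper24.irrDeg_spec] at h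
  exact_mod_cast h

/-- the squares of the degrees of the characters not constant on `Z` sum to `|K| - |K : Z|` -/
theorem sum_nonConst_add :
    ∑ θ ∈ nonConst K Z, Cfsg.Agent.Helper24.irrDeg θ ^ 2 + Z.relIndex K = Nat.card K := by
  classical
  haveI : (Z.subgroupOf K).Normal := hZ.subgroupOf K
  haveI : Fintype (Z.subgroupOf K) := Fintype.ofFinite _
  have h1 := sum_sq_degree_of_kernel (Z.subgroupOf K)
  have h2 : Finset.univ.filter (fun θ : Cfsg.IrrCharacter K =>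
        ∀ a : Z.subgroupOf K, (θ : K → ℂ) a = (θ : K → ℂ) 1)
      = Finset.univ.filter (fun θ : Cfsg.IrrCharacter K => ConstOn K Z (θ : K → ℂ)) := by
    ext θ
    simp only [Finset.mem_filter, Finset.mem_univ, true_and]
    constructor
    · intro h a ha
      exact h ⟨a, Subgroup.mem_subgroupOf.mpr ha⟩
    · intro h a
      exact h a (Subgroup.mem_subgroupOf.mp a.2)
  rw [h2] at h1
  have h3 : ∑ θ ∈ Finset.univ.filter (fun θ : Cfsg.IrrCharacter K => ConstOn K Z (θ : K → ℂ)),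
      Cfsg.Agent.Helper24.irrDeg θ ^ 2 = Z.relIndex K := by
    have h4 : (Z.subgroupOf K).index = Z.relIndex K := rfl
    rw [h4] at h1
    simp only [Cfsg.Agent.Helper24.irrDeg_spec] at h1
    exact_mod_cast h1
  have h5 := Cfsg.Agent.Helper24.sum_irrDeg_sq (G := K)
  rw [← Finset.sum_filter_add_sum_filter_not Finset.univ
    (fun θ : Cfsg.IrrCharacter K => ConstOn K Z (θ : K → ℂ)), h3] at h5
  unfold nonConst
  rw [← h5]
  ring

theorem relIndex_dvd_sum_nonConst :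
    Z.relIndex K ∣ ∑ θ ∈ nonConst K Z, Cfsg.Agent.Helper24.irrDeg θ ^ 2 := by
  have h1 := sum_nonConst_add K Z
  have h2 : Nat.card (Z.subgroupOf K) * Z.relIndex K = Nat.card K :=
    Subgroup.card_mul_index (Z.subgroupOf K)
  have h3 : 1 ≤ Nat.card (Z.subgroupOf K) := Nat.card_pos
  refine ⟨Nat.card (Z.subgroupOf K) - 1, ?_⟩
  have h4 : (Nat.card (Z.subgroupOf K) - 1 + 1) * Z.relIndex K = Nat.card K := by
    rw [Nat.sub_add_cancel h3]
    exact h2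
  rw [← h4] at h1
  have h5 : (Nat.card (Z.subgroupOf K) - 1 + 1) * Z.relIndex K
      = Z.relIndex K * (Nat.card (Z.subgroupOf K) - 1) + Z.relIndex K := by ring
  rw [h5] at h1
  exact Nat.add_right_cancel h1

theorem nonConst_nonempty (hZK : Z ≤ K) (hZ1 : Z ≠ ⊥) : (nonConst K Z).Nonempty := by
  by_contra hcon
  rw [Finset.not_nonempty_iff_eq_empty] at hcon
  have h1 := sum_nonConst_add K Z
  rw [hcon, Finset.sum_empty, zero_add] at h1
  have h2 : Nat.card (Z.subgroupOf K) * Z.relIndex K = Nat.card K :=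
    Subgroup.card_mul_index (Z.subgroupOf K)
  rw [← h1] at h2
  have hpos : 0 < Z.relIndex K :=
    Nat.pos_of_ne_zero (Subgroup.index_ne_zero_of_finite (H := Z.subgroupOf K))
  have h3 : Nat.card (Z.subgroupOf K) = 1 := by
    have : Nat.card (Z.subgroupOf K) * Z.relIndex K = 1 * Z.relIndex K := by rw [h2, one_mul]
    exact Nat.eq_of_mul_eq_mul_right hpos this
  rw [card_subgroupOf_of_le hZK] at h3
  exact hZ1 (Subgroup.card_eq_one.mp h3)

/-- the degree bound for characters of `K` when `Z` is central in `K` -/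
theorem irrDeg_sq_le_of_central (hZK : Z ≤ K) (hZc : ∀ z ∈ Z, ∀ k ∈ K, z * k = k * z)
    {θ : Cfsg.IrrCharacter K} (hθ : θ ∈ nonConst K Z) :
    Cfsg.Agent.Helper24.irrDeg θ ^ 2 ≤ Z.relIndex K := by
  have hmem : θ ∈ irrAbove K ⊥ := by
    rw [mem_irrAbove]
    constructor
    · intro h
      apply (mem_nonConst K Z).mp hθ
      rw [h]
      exact constOn_const K Z
    · intro a ha
      have : a = 1 := Subtype.ext (Subgroup.mem_bot.mp ha)
      rw [this]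
  have h := degree_bound_irrAbove K (B := ⊥) (C := K) (D := Z) bot_le hZK le_rfl
    (fun x hx y hy => by
      rw [Subgroup.mem_bot, hZc x hx y hy]
      group) hmem
  have hpos : 0 < K.index ^ 2 :=
    pow_pos (Nat.pos_of_ne_zero Subgroup.index_ne_zero_of_finite) 2
  rw [mul_pow] at h
  exact Nat.le_of_mul_le_mul_left h hpos

end KFacts

section PGroup

variable {L G : Type*} [Group L] [Fintype L] [Group G] [Fintype G]

/-- **Coherence of the irreducible induced characters nontrivial on a central subgroup**, in the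
case where `K` is a `p`-group. -/
theorem irr_coherence_pgroup (K : Subgroup L) [hK : K.Normal]
    (τ : (L → ℂ) → (G → ℂ)) (R : (L → ℂ) → Finset (G → ℂ))
    (hS : Cfsg.IsCoherenceSystem (Cfsg.inducedIrrAbove K ⊥) τ R)
    (Z : Subgroup L) [hZ : Z.Normal] (hZ1 : Z ≠ ⊥) (hZK : Z ≤ K)
    (hZc : ∀ z ∈ Z, ∀ k ∈ K, z * k = k * z)
    (hirr : ∀ χ ∈ Cfsg.inducedIrrAbove K ⊥ \ Cfsg.inducedIrrAbove K Z, Cfsg.IsIrrCharacter L χ)
    {p m : ℕ} (hp : p.Prime) (hp3 : 3 ≤ p) (hcard : Nat.card K = p ^ m)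
    (hcop : Nat.Coprime K.index p) :
    Cfsg.IsCoherent (Cfsg.inducedIrrAbove K ⊥ \ Cfsg.inducedIrrAbove K Z) {1}ᶜ τ := by
  classical
  haveI : Fintype K := Fintype.ofFinite K
  haveI : Fintype (Cfsg.IrrCharacter K) :=
    @Fintype.ofFinite _ (Cfsg.Agent.Helper23.finite_irrCharacter K)
  haveI : Fintype (Cfsg.IrrCharacter L) :=
    @Fintype.ofFinite _ (Cfsg.Agent.Helper23.finite_irrCharacter L)
  set S := Cfsg.inducedIrrAbove K ⊥ with hSdef
  set X := S \ Cfsg.inducedIrrAbove K Z with hXdef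
  have hXS : X ⊆ S := Set.sdiff_subset
  have hfinS : S.Finite :=
    finite_of_orthogonal hS.orthogonal (fun χ hχ => cs_norm_ne_zero hS hχ)
  set Xf : Finset (L → ℂ) := (hfinS.subset hXS).toFinset with hXfdef
  have hmemXf : ∀ φ, φ ∈ Xf ↔ φ ∈ X := fun φ => Set.Finite.mem_toFinset _
  have hXfcoe : (↑Xf : Set (L → ℂ)) = X := Set.Finite.coe_toFinset _
  have hXiff : ∀ φ, φ ∈ X ↔ ∃ θ ∈ nonConst K Z, φ = Cfsg.indFun K (θ : K → ℂ) := by
    intro φ
    rw [hXdef, hSdef, mem_diff_iff K Z]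
    constructor
    · rintro ⟨θ, hθ, hnc, rfl⟩
      exact ⟨⟨θ, hθ⟩, (mem_nonConst K Z).mpr hnc, rfl⟩
    · rintro ⟨θ, hθ, rfl⟩
      exact ⟨θ, θ.2, (mem_nonConst K Z).mp hθ, rfl⟩
  -- degrees and norms
  have hdex : ∀ φ : L → ℂ, ∃ k : ℕ, φ ∈ S → φ 1 = (k : ℂ) := by
    intro φ
    by_cases hφ : φ ∈ S
    · obtain ⟨k, hk⟩ := char_degree_nat (hS.isCharacter φ hφ)
      exact ⟨k, fun _ => hk⟩
    · exact ⟨0, fun h => absurd h hφ⟩
  choose d hd using hdex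
  have hnex : ∀ φ : L → ℂ, ∃ k : ℕ, φ ∈ S → Cfsg.classInner φ φ = (k : ℂ) := by
    intro φ
    by_cases hφ : φ ∈ S
    · obtain ⟨k, hk⟩ := Cfsg.Agent.Helper24.IsCharacter.classInner_nat (hS.isCharacter φ hφ)
        (hS.isCharacter φ hφ)
      exact ⟨k, fun _ => hk⟩
    · exact ⟨0, fun h => absurd h hφ⟩
  choose n hn using hnex
  set e := K.index with he
  have hepos : 0 < e := Nat.pos_of_ne_zero Subgroup.index_ne_zero_of_finite
  have hdeg : ∀ θ : Cfsg.IrrCharacter K, Cfsg.indFun K (θ : K → ℂ) ∈ S →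
      d (Cfsg.indFun K (θ : K → ℂ)) = e * Cfsg.Agent.Helper24.irrDeg θ := by
    intro θ hθ
    have h1 := hd _ hθ
    rw [Cfsg.Agent.Helper5.indFun_apply_one, Cfsg.Agent.Helper24.irrDeg_spec] at h1
    exact_mod_cast h1.symm
  -- prime power degrees
  have hbex : ∀ θ : Cfsg.IrrCharacter K, ∃ b, Cfsg.Agent.Helper24.irrDeg θ = p ^ b := by
    intro θ
    have h1 := Cfsg.Agent.Helper24.irrDeg_dvd_card θ
    rw [hcard] at h1
    obtain ⟨b, -, hb⟩ := (Nat.dvd_prime_pow hp).mp h1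
    exact ⟨b, hb⟩
  choose bexp hbexp using hbex
  obtain ⟨c, hc⟩ : ∃ c, Z.relIndex K = p ^ c := by
    have h1 : Z.relIndex K ∣ Nat.card K := (Z.subgroupOf K).index_dvd_card
    rw [hcard] at h1
    obtain ⟨c, -, hc⟩ := (Nat.dvd_prime_pow hp).mp h1
    exact ⟨c, hc⟩
  have hbc : ∀ θ ∈ nonConst K Z, 2 * bexp θ ≤ c := by
    intro θ hθ
    have h1 := irrDeg_sq_le_of_central K Z hZK hZc hθ
    rw [hbexp θ, hc, ← pow_mul] at h1
    have := (Nat.pow_le_pow_iff_right hp.one_lt).mp h1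
    omega
  have htot : p ^ c ∣ ∑ θ ∈ nonConst K Z, Cfsg.Agent.Helper24.irrDeg θ ^ 2 := by
    rw [← hc]
    exact relIndex_dvd_sum_nonConst K Z
  have hn1 : ∀ φ ∈ X, n φ = 1 := by
    intro φ hφ
    have h1 := hn φ (hXS hφ)
    have h2 := hirr φ hφ
    rw [Cfsg.Agent.Helper24.classInner_of_isIrrCharacter h2 h2, if_pos rfl] at h1
    exact_mod_cast h1.symm
  have hXne : X.Nonempty := by
    obtain ⟨θ, hθ⟩ := nonConst_nonempty K Z hZK hZ1
    exact ⟨_, (hXiff _).mpr ⟨θ, hθ, rfl⟩⟩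
  have hXconj : ∀ φ ∈ X, Cfsg.conjFun φ ∈ X := by
    intro φ hφ
    refine ⟨inducedIrrAbove_conj_mem K ⊥ hφ.1, fun h => hφ.2 ?_⟩
    have h1 := inducedIrrAbove_conj_mem K Z h
    rwa [conjFun_conjFun] at h1
  have hdconj : ∀ φ ∈ S, d (Cfsg.conjFun φ) = d φ := by
    intro φ hφ
    have h1 := hd _ (hS.conj_mem φ hφ)
    have h2 := hd φ hφ
    have h3 : Cfsg.conjFun φ 1 = starRingEnd ℂ (φ 1) := rfl
    rw [h3, h2, Complex.conj_natCast] at h1
    exact_mod_cast h1.symm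
  -- the degree data of members of `X`
  have hXdeg : ∀ φ ∈ X, ∃ θ ∈ nonConst K Z, φ = Cfsg.indFun K (θ : K → ℂ) ∧
      d φ = e * p ^ bexp θ := by
    intro φ hφ
    obtain ⟨θ, hθ, rfl⟩ := (hXiff φ).mp hφ
    exact ⟨θ, hθ, rfl, by rw [hdeg θ (hXS hφ), hbexp θ]⟩
  -- the member of minimal degree
  have hXfne : Xf.Nonempty := by
    obtain ⟨φ, hφ⟩ := hXne
    exact ⟨φ, (hmemXf φ).mpr hφ⟩
  obtain ⟨χ₁, hχ₁Xf, hχ₁min⟩ := Finset.exists_min_image Xf d hXfne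
  have hχ₁X : χ₁ ∈ X := (hmemXf χ₁).mp hχ₁Xf
  obtain ⟨θ₁, hθ₁, hχ₁eq, hdχ₁⟩ := hXdeg χ₁ hχ₁X
  set X₁ : Finset (L → ℂ) := Xf.filter (fun φ => d φ = d χ₁) with hX₁def
  have hmemX₁ : ∀ φ, φ ∈ X₁ ↔ φ ∈ X ∧ d φ = d χ₁ := by
    intro φ
    rw [hX₁def, Finset.mem_filter, hmemXf]
  have hχ₁X₁ : χ₁ ∈ X₁ := (hmemX₁ χ₁).mpr ⟨hχ₁X, rfl⟩
  have hX₁conj : ∀ φ ∈ X₁, Cfsg.conjFun φ ∈ X₁ := by
    intro φ hφ
    rw [hmemX₁] at hφ ⊢
    exact ⟨hXconj φ hφ.1, by rw [hdconj φ (hXS hφ.1), hφ.2]⟩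
  -- the base of the iteration
  have hbase : Cfsg.IsCoherent (↑X₁ : Set (L → ℂ)) {1}ᶜ τ := by
    have hsys : Cfsg.IsCoherenceSystem (↑X₁ : Set (L → ℂ)) τ R := by
      apply cs_subsystem hS
      · intro φ hφ
        exact hXS ((hmemX₁ φ).mp (Finset.mem_coe.mp hφ)).1
      · exact ⟨χ₁, Finset.mem_coe.mpr hχ₁X₁⟩
      · intro φ hφ
        exact Finset.mem_coe.mpr (hX₁conj φ (Finset.mem_coe.mp hφ))
    apply uniform_degree_coherent hsys
    intro φ hφ ψ hψ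
    have h1 := (hmemX₁ φ).mp (Finset.mem_coe.mp hφ)
    have h2 := (hmemX₁ ψ).mp (Finset.mem_coe.mp hψ)
    rw [hd φ (hXS h1.1), hd ψ (hXS h2.1), h1.2, h2.2]
  -- the sum over the members of `X` of degree below that of `χ`
  have hsumbound : ∀ χ ∈ X, ∀ b : ℕ, d χ = e * p ^ b → 2 * b ≤ c → d χ₁ < d χ →
      ((e ^ 2 * p ^ (2 * b) : ℕ) : ℝ)
        ≤ ∑ φ ∈ Xf.filter (fun φ => d φ < d χ), ((d φ : ℝ) ^ 2 / (n φ : ℝ)) := by
    intro χ hχ b hdχ hb hlt
    set Tb := Xf.filter (fun φ => d φ < d χ) with hTbdef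
    set I₀ := (nonConst K Z).filter (fun θ => Cfsg.Agent.Helper24.irrDeg θ < p ^ b) with hI₀def
    have hI₀stable : ∀ θ ∈ I₀, ∀ x : L, conjIrrK K θ x ∈ I₀ := by
      intro θ hθ x
      rw [hI₀def, Finset.mem_filter] at hθ ⊢
      exact ⟨conjIrrK_mem_nonConst K Z hθ.1 x, by rw [irrDeg_conjIrrK]; exact hθ.2⟩
    have hTbiff : ∀ φ, φ ∈ Tb ↔ ∃ θ ∈ I₀, φ = Cfsg.indFun K (θ : K → ℂ) := by
      intro φ
      rw [hTbdef, Finset.mem_filter, hmemXf, hXiff]
      constructor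
      · rintro ⟨⟨θ, hθ, rfl⟩, hlt2⟩
        refine ⟨θ, ?_, rfl⟩
        rw [hI₀def, Finset.mem_filter]
        refine ⟨hθ, ?_⟩
        have hmem : Cfsg.indFun K (θ : K → ℂ) ∈ S := hXS ((hXiff _).mpr ⟨θ, hθ, rfl⟩)
        rw [hdeg θ hmem, hdχ] at hlt2
        exact Nat.lt_of_mul_lt_mul_left hlt2
      · rintro ⟨θ, hθ, rfl⟩
        rw [hI₀def, Finset.mem_filter] at hθ
        refine ⟨⟨θ, hθ.1, rfl⟩, ?_⟩
        have hmem : Cfsg.indFun K (θ : K → ℂ) ∈ S := hXS ((hXiff _).mpr ⟨θ, hθ.1, rfl⟩)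
        rw [hdeg θ hmem, hdχ]
        exact Nat.mul_lt_mul_of_pos_left hθ.2 hepos
    have hTbX : ∀ φ ∈ Tb, φ ∈ X := by
      intro φ hφ
      rw [hTbdef, Finset.mem_filter, hmemXf] at hφ
      exact hφ.1
    have hsumC : ∑ φ ∈ Tb, (φ 1) ^ 2 / Cfsg.classInner φ φ
        = (e : ℂ) * ∑ θ ∈ I₀, ((θ : K → ℂ) 1) ^ 2 :=
      sum_degree_sq_div_norm_stable K I₀ hI₀stable Tb hTbiff
        (fun φ hφ ψ hψ hne => hS.orthogonal φ (hXS (hTbX φ hφ)) ψ (hXS (hTbX ψ hψ)) hne)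
        (fun φ hφ => cs_norm_ne_zero hS (hXS (hTbX φ hφ)))
    -- the quotient of the degree by `e`
    have htex : ∀ φ : L → ℂ, ∃ t : ℕ, φ ∈ X → d φ = e * t ∧ t ≠ 0 := by
      intro φ
      by_cases hφ : φ ∈ X
      · obtain ⟨θ, _, _, hθd⟩ := hXdeg φ hφ
        exact ⟨p ^ bexp θ, fun _ => ⟨hθd, pow_ne_zero _ hp.ne_zero⟩⟩
      · exact ⟨0, fun h => absurd h hφ⟩
    choose t ht using htex
    have hnat : ∑ φ ∈ Tb, (e * t φ) ^ 2
        = e * ∑ θ ∈ I₀, Cfsg.Agent.Helper24.irrDeg θ ^ 2 := by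
      have h1 : ((∑ φ ∈ Tb, (e * t φ) ^ 2 : ℕ) : ℂ)
          = ((e * ∑ θ ∈ I₀, Cfsg.Agent.Helper24.irrDeg θ ^ 2 : ℕ) : ℂ) := by
        push_cast
        have h2 : ∑ θ ∈ I₀, ((θ : K → ℂ) 1) ^ 2
            = ∑ θ ∈ I₀, ((Cfsg.Agent.Helper24.irrDeg θ : ℂ)) ^ 2 := by
          apply Finset.sum_congr rfl
          intro θ _
          rw [Cfsg.Agent.Helper24.irrDeg_spec]
        rw [← h2, ← hsumC]
        apply Finset.sum_congr rfl
        intro φ hφ
        have hφX := hTbX φ hφ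
        rw [hd φ (hXS hφX), hn φ (hXS hφX), hn1 φ hφX, (ht φ hφX).1]
        push_cast
        ring
      exact_mod_cast h1
    have hdvd : p ^ (2 * b) ∣ ∑ θ ∈ I₀, Cfsg.Agent.Helper24.irrDeg θ ^ 2 :=
      pgroup_sum_dvd (nonConst K Z) Cfsg.Agent.Helper24.irrDeg bexp hp
        (fun θ _ => hbexp θ) htot hb
    have hχ₁Tb : χ₁ ∈ Tb := by
      rw [hTbdef, Finset.mem_filter]
      exact ⟨hχ₁Xf, hlt⟩
    have hge := sum_sq_ge_of_dvd Tb I₀ t Cfsg.Agent.Helper24.irrDeg hcop hepos hnat hdvd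
      ⟨χ₁, hχ₁Tb, (ht χ₁ hχ₁X).2⟩
    have hreal : ∑ φ ∈ Tb, ((d φ : ℝ) ^ 2 / (n φ : ℝ))
        = ((∑ φ ∈ Tb, (e * t φ) ^ 2 : ℕ) : ℝ) := by
      push_cast
      apply Finset.sum_congr rfl
      intro φ hφ
      have hφX := hTbX φ hφ
      rw [hn1 φ hφX, (ht φ hφX).1]
      push_cast
      ring
    rw [hreal]
    exact_mod_cast hge
  -- the iteration
  have key : ∀ m : ℕ, ∀ T : Finset (L → ℂ), T.card = m → X₁ ⊆ T → T ⊆ Xf →
      (∀ φ ∈ T, Cfsg.conjFun φ ∈ T) → (∀ φ ∈ T, ∀ ψ ∈ Xf, d ψ < d φ → ψ ∈ T) →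
      Cfsg.IsCoherent (↑T : Set (L → ℂ)) {1}ᶜ τ := by
    intro m
    induction m using Nat.strong_induction_on with
    | _ m ih =>
    intro T hcard hX₁T hTX hTc hTd
    by_cases hTX₁ : T = X₁
    · rw [hTX₁]
      exact hbase
    obtain ⟨χ₀, hχ₀T, hχ₀X₁⟩ : ∃ χ ∈ T, χ ∉ X₁ := by
      by_contra hcon
      push Not at hcon
      exact hTX₁ (Finset.Subset.antisymm hcon hX₁T)
    obtain ⟨χ, hχT, hχmax⟩ := Finset.exists_max_image T d ⟨χ₀, hχ₀T⟩
    have hχXf : χ ∈ Xf := hTX hχT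
    have hχX : χ ∈ X := (hmemXf χ).mp hχXf
    have hχS : χ ∈ S := hXS hχX
    have hdlt : d χ₁ < d χ := by
      have h1 : d χ₁ ≤ d χ₀ := hχ₁min χ₀ (hTX hχ₀T)
      have h2 : d χ₀ ≠ d χ₁ := fun h => hχ₀X₁ ((hmemX₁ χ₀).mpr ⟨(hmemXf χ₀).mp (hTX hχ₀T), h⟩)
      have h3 : d χ₀ ≤ d χ := hχmax χ₀ hχ₀T
      omega
    have hcT : Cfsg.conjFun χ ∈ T := hTc χ hχT
    have hdc : d (Cfsg.conjFun χ) = d χ := hdconj χ hχS
    set T' := (T.erase χ).erase (Cfsg.conjFun χ) with hT'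
    have hT'sub : T' ⊆ T := (Finset.erase_subset _ _).trans (Finset.erase_subset _ _)
    have hmemT' : ∀ φ, φ ∈ T' ↔ φ ∈ T ∧ φ ≠ χ ∧ φ ≠ Cfsg.conjFun χ := by
      intro φ
      rw [hT', Finset.mem_erase, Finset.mem_erase]
      tauto
    have hcard' : T'.card < m := by
      rw [← hcard]
      apply Finset.card_lt_card
      refine ⟨hT'sub, fun h => ?_⟩
      have h1 := h hχT
      rw [hmemT'] at h1
      exact h1.2.1 rfl
    have hX₁T' : X₁ ⊆ T' := by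
      intro φ hφ
      rw [hmemT']
      have hφd := ((hmemX₁ φ).mp hφ).2
      refine ⟨hX₁T hφ, ?_, ?_⟩
      · rintro rfl
        omega
      · rintro rfl
        omega
    have hT'X : T' ⊆ Xf := hT'sub.trans hTX
    have hT'c : ∀ φ ∈ T', Cfsg.conjFun φ ∈ T' := by
      intro φ hφ
      rw [hmemT'] at hφ ⊢
      refine ⟨hTc φ hφ.1, ?_, ?_⟩
      · intro h
        apply hφ.2.2
        rw [← h, conjFun_conjFun]
      · intro h
        apply hφ.2.1
        have h1 := congrArg Cfsg.conjFun h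
        rwa [conjFun_conjFun, conjFun_conjFun] at h1
    have hT'd : ∀ φ ∈ T', ∀ ψ ∈ Xf, d ψ < d φ → ψ ∈ T' := by
      intro φ hφ ψ hψ hlt
      have hφT := ((hmemT' φ).mp hφ).1
      rw [hmemT']
      have h1 : d φ ≤ d χ := hχmax φ hφT
      refine ⟨hTd φ hφT ψ hψ hlt, ?_, ?_⟩
      · rintro rfl
        omega
      · rintro rfl
        omega
    have hcoh' := ih T'.card hcard' T' rfl hX₁T' hT'X hT'c hT'd
    have hT'S : (↑T' : Set (L → ℂ)) ⊆ S := by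
      intro φ hφ
      exact hXS ((hmemXf φ).mp (hT'X (Finset.mem_coe.mp hφ)))
    have hχT' : χ ∉ T' := fun h => ((hmemT' χ).mp h).2.1 rfl
    have hcT' : Cfsg.conjFun χ ∉ T' := fun h => ((hmemT' _).mp h).2.2 rfl
    obtain ⟨θ, hθ, -, hdχ⟩ := hXdeg χ hχX
    have hb := hbc θ hθ
    have hblt : bexp θ₁ < bexp θ := by
      rw [hdχ₁, hdχ] at hdlt
      have h1 : p ^ bexp θ₁ < p ^ bexp θ := Nat.lt_of_mul_lt_mul_left hdlt
      exact (Nat.pow_lt_pow_iff_right hp.one_lt).mp h1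
    have hdvd : d χ₁ ∣ d χ := by
      rw [hdχ₁, hdχ]
      exact Nat.mul_dvd_mul_left e (pow_dvd_pow p hblt.le)
    have hineq : (2 * d χ * d χ₁ : ℝ) < ∑ φ ∈ T', ((d φ : ℝ) ^ 2 / (n φ : ℝ)) := by
      have h1 := hsumbound χ hχX (bexp θ) hdχ hb hdlt
      have h2 : ∑ φ ∈ Xf.filter (fun φ => d φ < d χ), ((d φ : ℝ) ^ 2 / (n φ : ℝ))
          ≤ ∑ φ ∈ T', ((d φ : ℝ) ^ 2 / (n φ : ℝ)) := by
        apply Finset.sum_le_sum_of_subset_of_nonneg
        · intro ψ hψ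
          rw [Finset.mem_filter] at hψ
          rw [hmemT']
          refine ⟨hTd χ hχT ψ hψ.1 hψ.2, ?_, ?_⟩
          · rintro rfl
            exact lt_irrefl _ hψ.2
          · rintro rfl
            rw [hdc] at hψ
            exact lt_irrefl _ hψ.2
        · intro φ _ _
          positivity
      have h3 : 2 * d χ * d χ₁ < e ^ 2 * p ^ (2 * bexp θ) := by
        rw [hdχ, hdχ₁]
        have h4 : p ^ bexp θ₁ * 3 ≤ p ^ bexp θ := by
          calc p ^ bexp θ₁ * 3 ≤ p ^ bexp θ₁ * p := Nat.mul_le_mul_left _ hp3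
            _ = p ^ (bexp θ₁ + 1) := (pow_succ p _).symm
            _ ≤ p ^ bexp θ := Nat.pow_le_pow_right hp.pos hblt
        have h5 : 0 < p ^ bexp θ₁ := pow_pos hp.pos _
        have h6 : 0 < p ^ bexp θ := pow_pos hp.pos _
        have h7 : p ^ (2 * bexp θ) = p ^ bexp θ * p ^ bexp θ := by
          rw [two_mul, pow_add]
        rw [h7]
        have h8 : 0 < e ^ 2 := pow_pos hepos 2
        calc 2 * (e * p ^ bexp θ) * (e * p ^ bexp θ₁)
            = e ^ 2 * (p ^ bexp θ * (p ^ bexp θ₁ * 2)) := by ring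
          _ < e ^ 2 * (p ^ bexp θ * (p ^ bexp θ₁ * 3)) := by
              apply Nat.mul_lt_mul_of_pos_left _ h8
              apply Nat.mul_lt_mul_of_pos_left _ h6
              omega
          _ ≤ e ^ 2 * (p ^ bexp θ * p ^ bexp θ) := by
              apply Nat.mul_le_mul_left
              exact Nat.mul_le_mul_left _ h4
      have h9 : ((2 * d χ * d χ₁ : ℕ) : ℝ) < ((e ^ 2 * p ^ (2 * bexp θ) : ℕ) : ℝ) := by
        exact_mod_cast h3
      calc (2 * d χ * d χ₁ : ℝ) = ((2 * d χ * d χ₁ : ℕ) : ℝ) := by push_cast; ring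
        _ < ((e ^ 2 * p ^ (2 * bexp θ) : ℕ) : ℝ) := h9
        _ ≤ _ := h1
        _ ≤ _ := h2
    have hres := Cfsg.Agent.S1516.result S τ R hS d n (fun φ hφ => hd φ hφ)
      (fun φ hφ => hn φ hφ) T' hT'S hT'c hcoh' χ hχS hχT' hcT' χ₁ (hX₁T' hχ₁X₁) hdvd hineq
    have hEq : (↑T' ∪ {χ, Cfsg.conjFun χ} : Set (L → ℂ)) = ↑T := by
      ext φ
      simp only [Set.mem_union, Finset.mem_coe, Set.mem_insert_iff, Set.mem_singleton_iff, hmemT']
      constructor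
      · rintro (h | h | h)
        · exact h.1
        · rw [h]; exact hχT
        · rw [h]; exact hcT
      · intro h
        by_cases h1 : φ = χ
        · exact Or.inr (Or.inl h1)
        by_cases h2 : φ = Cfsg.conjFun χ
        · exact Or.inr (Or.inr h2)
        exact Or.inl ⟨h, h1, h2⟩
    rw [← hEq]
    exact hres
  have hfinal := key Xf.card Xf rfl (Finset.filter_subset _ _) (Finset.Subset.refl _)
    (fun φ hφ => (hmemXf _).mpr (hXconj φ ((hmemXf φ).mp hφ))) (fun φ _ ψ hψ _ => hψ)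
  rw [hXfcoe] at hfinal
  exact hfinal

end PGroup

section Final

variable {L G : Type*} [Group L] [Fintype L] [Group G] [Fintype G]

theorem exists_zspanOn_ne_zero {S : Set (L → ℂ)} {τ : (L → ℂ) → (G → ℂ)}
    {R : (L → ℂ) → Finset (G → ℂ)} (hS : Cfsg.IsCoherenceSystem S τ R) :
    ∃ α ∈ Cfsg.zspanOn S {1}ᶜ, α ≠ 0 := by
  obtain ⟨χ, hχ⟩ := hS.nonempty
  refine ⟨χ - Cfsg.conjFun χ, ⟨?_, ?_⟩, ?_⟩
  · exact Submodule.sub_mem _ (Submodule.subset_span hχ)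
      (Submodule.subset_span (hS.conj_mem χ hχ))
  · intro x hx
    have hx1 : x = 1 := by simpa using hx
    subst hx1
    obtain ⟨k, hk⟩ := char_degree_nat (hS.isCharacter χ hχ)
    show χ 1 - Cfsg.conjFun χ 1 = 0
    have h1 : Cfsg.conjFun χ 1 = starRingEnd ℂ (χ 1) := rfl
    rw [h1, hk, Complex.conj_natCast, sub_self]
  · intro h
    apply hS.conj_ne χ hχ
    exact (sub_eq_zero.mp h).symm

/-- **Coherence of the irreducible induced characters nontrivial on a central subgroup**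
(Peterfalvi 6.5). -/
theorem irr_coherence (K : Subgroup L) [hK : K.Normal] (hsolv : Group.IsSolvable K)
    (τ : (L → ℂ) → (G → ℂ)) (R : (L → ℂ) → Finset (G → ℂ))
    (hS : Cfsg.IsCoherenceSystem (Cfsg.inducedIrrAbove K ⊥) τ R) (hodd : Odd (Nat.card L))
    (hnil : Group.IsNilpotent K) (hH₁K : ⁅K, K⁆ < K)
    (hfrob : ∀ k ∈ K, k ∉ ⁅K, K⁆ → ∀ x : L, x * k * x⁻¹ * k⁻¹ ∈ ⁅K, K⁆ → x ∈ K)
    (Z : Subgroup L) [hZ : Z.Normal] (hZ1 : Z ≠ ⊥) (hZK : Z ≤ K)
    (hZc : ∀ z ∈ Z, ∀ k ∈ K, z * k = k * z)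
    (hirr : ∀ χ ∈ Cfsg.inducedIrrAbove K ⊥ \ Cfsg.inducedIrrAbove K Z, Cfsg.IsIrrCharacter L χ) :
    Cfsg.IsCoherent (Cfsg.inducedIrrAbove K ⊥ \ Cfsg.inducedIrrAbove K Z) {1}ᶜ τ := by
  classical
  haveI : Fintype K := Fintype.ofFinite K
  haveI : Fintype (Cfsg.IrrCharacter K) :=
    @Fintype.ofFinite _ (Cfsg.Agent.Helper23.finite_irrCharacter K)
  haveI hcn : (⁅K, K⁆ : Subgroup L).Normal := Subgroup.commutator_normal K K
  by_cases hpp : ∃ p m : ℕ, p.Prime ∧ Nat.card K = p ^ m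
  · obtain ⟨p, m, hp, hcard⟩ := hpp
    have hr1 : 1 < (⁅K, K⁆ : Subgroup L).relIndex K := one_lt_relIndex_of_lt hH₁K
    have hrdvd : (⁅K, K⁆ : Subgroup L).relIndex K ∣ p ^ m := by
      rw [← hcard]
      exact ((⁅K, K⁆ : Subgroup L).subgroupOf K).index_dvd_card
    obtain ⟨j, -, hj⟩ := (Nat.dvd_prime_pow hp).mp hrdvd
    have hj1 : j ≠ 0 := by
      rintro rfl
      rw [pow_zero] at hj
      omega
    have hpr : p ∣ (⁅K, K⁆ : Subgroup L).relIndex K := by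
      rw [hj]
      exact dvd_pow_self p hj1
    have hpodd : Odd p := (odd_relIndex hodd _ _).of_dvd_nat hpr
    have hp3 : 3 ≤ p := by
      have h2 := hp.two_le
      rcases Nat.lt_or_ge p 3 with h | h
      · have : p = 2 := by omega
        rw [this] at hpodd
        exact absurd hpodd (by decide)
      · exact h
    have d2 := index_dvd_relIndex_sub_one K K ⁅K, K⁆ le_rfl le_rfl hfrob
    have hcop : Nat.Coprime K.index p := by
      apply Nat.Coprime.symm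
      rw [Nat.Prime.coprime_iff_not_dvd hp]
      intro hpe
      have h1 : p ∣ (⁅K, K⁆ : Subgroup L).relIndex K - 1 := hpe.trans d2
      have h2 : p ∣ 1 := by
        have h3 : (⁅K, K⁆ : Subgroup L).relIndex K
            = ((⁅K, K⁆ : Subgroup L).relIndex K - 1) + 1 := by omega
        rw [h3] at hpr
        exact (Nat.dvd_add_right h1).mp hpr
      exact hp.one_lt.ne' (Nat.dvd_one.mp h2)
    exact irr_coherence_pgroup K τ R hS Z hZ1 hZK hZc hirr hp hp3 hcard hcop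
  · haveI hbn : ((⊥ : Subgroup L).subgroupOf K).Normal :=
      (inferInstance : (⊥ : Subgroup L).Normal).subgroupOf K
    have hnil' : Group.IsNilpotent (↥K ⧸ (⊥ : Subgroup L).subgroupOf K) := inferInstance
    have hcohS : Cfsg.IsCoherent (Cfsg.inducedIrrAbove K ⊥) {1}ᶜ τ := by
      apply coherence_kernel K hsolv τ R hS hodd ⊥ bot_le hnil' ⁅K, K⁆ (sup_bot_eq _).symm hH₁K
        hfrob
      right; right; left
      rintro ⟨p, m, hp, hpm⟩
      apply hpp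
      refine ⟨p, m, hp, ?_⟩
      rw [← hpm, Subgroup.relIndex_bot_left]
    have hsysX : Cfsg.IsCoherenceSystem
        (Cfsg.inducedIrrAbove K ⊥ \ Cfsg.inducedIrrAbove K Z) τ R := by
      apply cs_subsystem hS Set.sdiff_subset
      · obtain ⟨θ, hθ⟩ := nonConst_nonempty K Z hZK hZ1
        exact ⟨_, (mem_diff_iff K Z).mpr ⟨θ, θ.2, (mem_nonConst K Z).mp hθ, rfl⟩⟩
      · intro φ hφ
        refine ⟨inducedIrrAbove_conj_mem K ⊥ hφ.1, fun h => hφ.2 ?_⟩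
        have h1 := inducedIrrAbove_conj_mem K Z h
        rwa [conjFun_conjFun] at h1
    exact isCoherent_of_subset Set.sdiff_subset hcohS (exists_zspanOn_ne_zero hsysX)

end Final

end Cfsg.Agent.Helper8
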