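import Mathlib
import Cfsg.Prelude.Def_Characters
import Cfsg.Prelude.Def_OddOrderChar
import Cfsg.Prelude.Def_OddOrderLocal
import Cfsg.Agent.Helper8.FS1
import Cfsg.Agent.Helper8.FrobKernel3
import Cfsg.Agent.Helper8.CoherenceStep
import Cfsg.Agent.Helper8.InducedSet
import Cfsg.Agent.Helper24.Abelian
import Cfsg.Agent.Helper29.GalConjA

/-!
A subgroup `H` containing the centralisers of its non-identity elements, inside its normaliser
`L`: the Frobenius structure of `L`, and the irreducible characters of `L` not constant on `H`.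
-/

set_option autoImplicit false
set_option linter.unusedSectionVars false

namespace Cfsg.Agent.Helper8.FS

open Cfsg Cfsg.Agent.Helper8

section GroupTheory

variable {G : Type*} [Group G] [Finite G]

/-- the Frobenius condition inside the normaliser -/
theorem frobL (H : Subgroup G)
    (hC : ∀ k ∈ H, k ≠ 1 → Subgroup.centralizer ({k} : Set G) ≤ H) :
    ∀ x ∈ Subgroup.normalizer (H : Set G), x ∉ H → ∀ h ∈ H, x * h = h * x → h = 1 := by
  intro x _ hxH h hh hcomm
  by_contra h1
  apply hxH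
  apply hC h hh h1
  rw [Subgroup.mem_centralizer_iff]
  intro y hy
  rw [Set.mem_singleton_iff] at hy
  rw [hy]
  exact hcomm.symm

/-- a non-abelian subgroup of odd order containing the centralisers of its non-identity
elements has a normaliser of odd order -/
theorem odd_normalizer (H : Subgroup G) (hHodd : Odd (Nat.card H))
    (hna : ¬ IsMulCommutative H)
    (hC : ∀ k ∈ H, k ≠ 1 → Subgroup.centralizer ({k} : Set G) ≤ H) :
    Odd (Nat.card (Subgroup.normalizer (H : Set G))) := by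
  classical
  by_contra hodd
  rw [Nat.not_odd_iff_even, even_iff_two_dvd] at hodd
  haveI : Fact (Nat.Prime 2) := ⟨Nat.prime_two⟩
  obtain ⟨t, ht⟩ := exists_prime_orderOf_dvd_card' (G := Subgroup.normalizer (H : Set G)) 2 hodd
  set s : G := (t : G) with hs
  have hso : orderOf s = 2 := by rw [hs, Subgroup.orderOf_coe, ht]
  have hs2 : s * s = 1 := by
    have := pow_orderOf_eq_one s
    rw [hso, pow_two] at this
    exact this
  have hsinv : s⁻¹ = s := inv_eq_of_mul_eq_one_right hs2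
  have hsH : s ∉ H := by
    intro h
    have h1 : orderOf (⟨s, h⟩ : H) = 2 := by
      rw [← Subgroup.orderOf_coe]; exact hso
    have h2 : 2 ∣ Nat.card H := by rw [← h1]; exact orderOf_dvd_natCard _
    rcases hHodd with ⟨m, hm⟩
    omega
  have hsN : ∀ x, x ∈ H ↔ s * x * s⁻¹ ∈ H := by
    have := t.2
    rw [Subgroup.mem_normalizer_iff] at this
    intro x
    exact this x
  -- the map `x ↦ x⁻¹ * (s x s⁻¹)`
  let φ : H → H := fun x => ⟨(x : G)⁻¹ * (s * x * s⁻¹), H.mul_mem (H.inv_mem x.2) ((hsN x).mp x.2)⟩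
  have hφinj : Function.Injective φ := by
    intro x y hxy
    have h1 : (x : G)⁻¹ * (s * x * s⁻¹) = (y : G)⁻¹ * (s * y * s⁻¹) := congrArg Subtype.val hxy
    have h2 : s * ((y : G) * (x : G)⁻¹) = ((y : G) * (x : G)⁻¹) * s := by
      have h3 : (x : G)⁻¹ * s * x = (y : G)⁻¹ * s * y := by
        have := congrArg (fun z => z * s) h1
        simp only [mul_assoc, inv_mul_cancel, mul_one] at this
        simpa [mul_assoc] using this
      have h4 : s * x = (x : G) * ((y : G)⁻¹ * s * y) := by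
        rw [← h3]; group
      calc s * ((y : G) * (x : G)⁻¹) = (y : G) * ((y : G)⁻¹ * s * y) * (x : G)⁻¹ := by group
        _ = (y : G) * ((x : G)⁻¹ * s * x) * (x : G)⁻¹ := by rw [h3]
        _ = ((y : G) * (x : G)⁻¹) * s := by group
    have h5 : (y : G) * (x : G)⁻¹ = 1 := by
      by_contra hne
      apply hsH
      apply hC _ (H.mul_mem y.2 (H.inv_mem x.2)) hne
      rw [Subgroup.mem_centralizer_iff]
      intro z hz
      rw [Set.mem_singleton_iff] at hz
      rw [hz]
      exact h2.symm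
    apply Subtype.ext
    have := mul_inv_eq_one.mp h5
    exact this.symm
  have hφsurj : Function.Surjective φ := Finite.injective_iff_surjective.mp hφinj
  have hinv : ∀ z ∈ H, s * z * s⁻¹ = z⁻¹ := by
    intro z hz
    obtain ⟨x, hx⟩ := hφsurj ⟨z, hz⟩
    have h1 : (x : G)⁻¹ * (s * x * s⁻¹) = z := congrArg Subtype.val hx
    rw [← h1]
    have e1 : s * ((x : G)⁻¹ * (s * x * s⁻¹)) * s⁻¹ = s * (x : G)⁻¹ * s * x * (s⁻¹ * s⁻¹) := by
      group
    have e2 : ((x : G)⁻¹ * (s * x * s⁻¹))⁻¹ = s * (x : G)⁻¹ * s⁻¹ * x := by group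
    rw [e1, e2, hsinv, hs2, mul_one]
  apply hna
  refine ⟨⟨fun a b => ?_⟩⟩
  apply Subtype.ext
  show (a : G) * b = b * a
  have h1 := hinv _ (H.mul_mem a.2 b.2)
  have h2 := hinv _ a.2
  have h3 := hinv _ b.2
  have h4 : s * ((a : G) * b) * s⁻¹ = (s * a * s⁻¹) * (s * b * s⁻¹) := by group
  rw [h4, h2, h3, mul_inv_rev] at h1
  have := congrArg (fun z => z⁻¹) h1
  simpa using this.symm

end GroupTheory

section Characters

variable {G : Type*} [Group G] [Fintype G] (H : Subgroup G)
  [Fintype ↥(Subgroup.normalizer (H : Set G))]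

/-- the irreducible characters of the normaliser that are not constant on `H` -/
def irrOff : Set (↥(Subgroup.normalizer (H : Set G)) → ℂ) :=
  {χ | IsIrrCharacter ↥(Subgroup.normalizer (H : Set G)) χ ∧
    ∃ x : ↥(Subgroup.normalizer (H : Set G)), (x : G) ∈ H ∧ χ x ≠ χ 1}

theorem subgroupOf_normal :
    (H.subgroupOf (Subgroup.normalizer (H : Set G))).Normal := by
  constructor
  intro n hn g
  rw [Subgroup.mem_subgroupOf] at hn ⊢
  have := g.2
  rw [Subgroup.mem_normalizer_iff] at this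
  have h1 := (this n).mp hn
  simpa using h1

theorem frobK (hC : ∀ k ∈ H, k ≠ 1 → Subgroup.centralizer ({k} : Set G) ≤ H) :
    ∀ n : ↥(Subgroup.normalizer (H : Set G)),
      n ∉ H.subgroupOf (Subgroup.normalizer (H : Set G)) →
      ∀ k ∈ H.subgroupOf (Subgroup.normalizer (H : Set G)), k * n = n * k → k = 1 := by
  intro n hn k hk hkn
  have hn' : (n : G) ∉ H := fun h => hn (Subgroup.mem_subgroupOf.mpr h)
  have hk' : (k : G) ∈ H := Subgroup.mem_subgroupOf.mp hk
  have h1 : (n : G) * (k : G) = (k : G) * (n : G) := by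
    have := congrArg Subtype.val hkn
    simpa using this.symm
  exact Subtype.ext (frobL H hC n n.2 hn' k hk' h1)

/-- the irreducible characters not constant on `H` are the characters induced from the
non-principal irreducible characters of `H` -/
theorem irrOff_eq (hC : ∀ k ∈ H, k ≠ 1 → Subgroup.centralizer ({k} : Set G) ≤ H) :
    irrOff H = inducedIrrAbove (H.subgroupOf (Subgroup.normalizer (H : Set G))) ⊥ := by
  classical
  haveI := subgroupOf_normal H
  have hF := frobK H hC
  ext χ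
  constructor
  · rintro ⟨hχ, x, hx, hne⟩
    have hnc : FrobKer.NonConst (H.subgroupOf (Subgroup.normalizer (H : Set G)))
        ((⟨χ, hχ⟩ : IrrCharacter _) : _ → ℂ) := ⟨x, Subgroup.mem_subgroupOf.mpr hx, hne⟩
    obtain ⟨θ, hθ1, hθ⟩ := FrobKer.exists_ind_eq _ hF ⟨χ, hχ⟩ hnc
    refine ⟨(θ : _ → ℂ), θ.2, ?_, ?_, hθ.symm⟩
    · intro h
      apply hθ1
      exact Subtype.ext h
    · intro a ha
      have : a = 1 := by
        apply Subtype.ext
        exact Subgroup.mem_bot.mp ha
      rw [this]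
  · rintro ⟨θ, hθ, hθ1, -, rfl⟩
    refine ⟨FrobKer.isIrr_ind _ hF θ hθ hθ1, ?_⟩
    obtain ⟨k, hk, hne⟩ := FrobKer.ind_nonConst _ hF θ hθ hθ1
    exact ⟨k, Subgroup.mem_subgroupOf.mp hk, hne⟩

omit [Fintype G] in
/-- two distinct irreducible characters give a nonzero combination vanishing at `1` -/
theorem exists_zspanOn_ne_zero {L : Type*} [Group L] [Fintype L] (T : Set (L → ℂ))
    (hirr : ∀ χ ∈ T, IsIrrCharacter L χ) (htwo : ∃ a ∈ T, ∃ b ∈ T, a ≠ b) :
    ∃ α ∈ zspanOn T {1}ᶜ, α ≠ 0 := by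
  classical
  obtain ⟨a, ha, b, hb, hab⟩ := htwo
  set da := Cfsg.Agent.Helper24.irrDeg ⟨a, hirr a ha⟩ with hda
  set db := Cfsg.Agent.Helper24.irrDeg ⟨b, hirr b hb⟩ with hdb
  have ea : a 1 = (da : ℂ) := Cfsg.Agent.Helper24.irrDeg_spec ⟨a, hirr a ha⟩
  have eb : b 1 = (db : ℂ) := Cfsg.Agent.Helper24.irrDeg_spec ⟨b, hirr b hb⟩
  refine ⟨(db : ℤ) • a - (da : ℤ) • b, ?_, ?_⟩
  · rw [mem_zspanOn_compl_one]
    refine ⟨zspan_sub_mem (zspan_zsmul_mem _ (mem_zspan_of_mem ha))
      (zspan_zsmul_mem _ (mem_zspan_of_mem hb)), ?_⟩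
    rw [Pi.sub_apply, Pi.smul_apply, Pi.smul_apply, ea, eb, zsmul_eq_mul, zsmul_eq_mul]
    push_cast
    ring
  · intro h
    have h1 : classInner ((db : ℤ) • a - (da : ℤ) • b) a = classInner 0 a := by rw [h]
    rw [classInner_sub_left, Cfsg.Agent.Helper8.classInner_zsmul_left,
      Cfsg.Agent.Helper8.classInner_zsmul_left,
      Cfsg.Agent.Helper23.classInner_irrCharacter a a (hirr a ha) (hirr a ha),
      Cfsg.Agent.Helper23.classInner_irrCharacter b a (hirr b hb) (hirr a ha), if_pos rfl,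
      if_neg (Ne.symm hab), Cfsg.Agent.Helper23.classInner_zero_left] at h1
    have hpos := Cfsg.Agent.Helper24.irrDeg_pos ⟨b, hirr b hb⟩
    rw [← hdb] at hpos
    simp only [Int.cast_natCast, mul_one, mul_zero, sub_zero] at h1
    have : (db : ℂ) ≠ 0 := by exact_mod_cast hpos.ne'
    exact this h1

/-- in odd order, a nonempty conjugation-closed set of non-principal irreducible characters
has two distinct members -/
theorem exists_two_of_odd {L : Type*} [Group L] [Fintype L] (hodd : Odd (Nat.card L))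
    (T : Set (L → ℂ)) (hirr : ∀ χ ∈ T, IsIrrCharacter L χ)
    (hconj : ∀ χ ∈ T, conjFun χ ∈ T) (hne1 : ∀ χ ∈ T, χ ≠ fun _ => 1) (hT : T.Nonempty) :
    ∃ a ∈ T, ∃ b ∈ T, a ≠ b := by
  obtain ⟨χ, hχ⟩ := hT
  refine ⟨χ, hχ, conjFun χ, hconj χ hχ, ?_⟩
  intro hc
  have hreal : ∀ g : L, (χ g).im = 0 := by
    intro g
    have h1 : (starRingEnd ℂ) (χ g) = χ g := (congrFun hc g).symm
    exact Complex.conj_eq_iff_im.mp h1
  exact hne1 χ hχ (Cfsg.Agent.Helper24.irr_eq_one_of_real_of_odd hodd ⟨χ, hirr χ hχ⟩ hreal)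

end Characters

end Cfsg.Agent.Helper8.FS
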