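import Mathlib
import Cfsg.Agent.Helper8.FS2
import Cfsg.Agent.Helper5.SibH

/-!
Sibley's coherence theorem in Feit's formulation, odd normaliser.
-/

set_option autoImplicit false
set_option linter.unusedSectionVars false

namespace Cfsg.Agent.Helper8.FS

open Cfsg Cfsg.Agent.Helper8

variable {G : Type*} [Group G] [Fintype G] (H : Subgroup G)
  [Fintype ↥(Subgroup.normalizer (H : Set G))]

/-- the irreducible characters of the normaliser not constant on `Z ≤ H` -/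
def irrOffZ (Z : Subgroup G) : Set (↥(Subgroup.normalizer (H : Set G)) → ℂ) :=
  {χ | IsIrrCharacter ↥(Subgroup.normalizer (H : Set G)) χ ∧
    ∃ z : ↥(Subgroup.normalizer (H : Set G)), (z : G) ∈ Z ∧ χ z ≠ χ 1}

theorem irrOffZ_subset (Z : Subgroup G) (hZH : Z ≤ H) : irrOffZ H Z ⊆ irrOff H := by
  rintro χ ⟨hχ, z, hz, hne⟩
  exact ⟨hχ, z, hZH hz, hne⟩

theorem irrOffZ_self : irrOffZ H H = irrOff H := rfl

theorem irrOffZ_nonempty (Z : Subgroup G) (hZ1 : Z ≠ ⊥) (hZH : Z ≤ H) : (irrOffZ H Z).Nonempty := by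
  obtain ⟨z, hz1⟩ := (Subgroup.ne_bot_iff_exists_ne_one).mp hZ1
  have hzL : (z : G) ∈ Subgroup.normalizer (H : Set G) := Subgroup.le_normalizer (hZH z.2)
  have hz1' : (⟨(z : G), hzL⟩ : ↥(Subgroup.normalizer (H : Set G))) ≠ 1 := by
    intro h
    apply hz1
    apply Subtype.ext
    have h' : (z : G) = ((1 : ↥(Subgroup.normalizer (H : Set G))) : G) := Subtype.mk.inj h
    rw [h']; rfl
  obtain ⟨χ, hχ⟩ := Cfsg.Agent.Helper29.GalConj.exists_irr_ne
    (⟨(z : G), hzL⟩ : ↥(Subgroup.normalizer (H : Set G))) hz1'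
  exact ⟨(χ : _ → ℂ), χ.2, ⟨(z : G), hzL⟩, z.2, hχ⟩

theorem irrOffZ_conj (Z : Subgroup G) : ∀ χ ∈ irrOffZ H Z, conjFun χ ∈ irrOffZ H Z := by
  rintro χ ⟨hχ, z, hz, hne⟩
  refine ⟨Cfsg.Agent.Helper8.isIrrCharacter_conjFun_of_irr hχ, z, hz, ?_⟩
  intro h
  apply hne
  exact (starRingEnd ℂ).injective h

theorem irrOffZ_ne_one (Z : Subgroup G) : ∀ χ ∈ irrOffZ H Z, χ ≠ fun _ => 1 := by
  rintro χ ⟨-, z, -, hne⟩ h
  apply hne
  rw [h]

/-- **Sibley's theorem**, odd normaliser, for the characters not constant on `Z`. -/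
theorem coherent_of_odd (hodd : Odd (Nat.card (Subgroup.normalizer (H : Set G))))
    (hlt : H < Subgroup.normalizer (H : Set G)) (hnil : Group.IsNilpotent H)
    (hTI : IsTISubset (H : Set G))
    (hC : ∀ k ∈ H, k ≠ 1 → Subgroup.centralizer ({k} : Set G) ≤ H)
    (Z : Subgroup G) (hZ1 : Z ≠ ⊥) (hZH : Z ≤ H) :
    IsCoherent (irrOffZ H Z) {1}ᶜ
      (fun α => indFun (Subgroup.normalizer (H : Set G)) α) := by
  classical
  have hHn : ∀ x ∈ Subgroup.normalizer (H : Set G), ∀ h ∈ H, x * h * x⁻¹ ∈ H := by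
    intro x hx h hh
    rw [Subgroup.mem_normalizer_iff] at hx
    exact (hx h).mp hh
  have hH1 : H ≠ ⊥ := by
    intro h
    apply hZ1
    rw [eq_bot_iff, ← h]
    exact hZH
  have hcoh := Cfsg.Agent.Helper5.Sib.sibley H (Subgroup.normalizer (H : Set G)) hodd hlt hH1 hnil
    hHn (frobL H hC) hTI rfl
  rw [← irrOff_eq H hC] at hcoh
  have hirrT : ∀ χ ∈ irrOffZ H Z, IsIrrCharacter _ χ := fun χ hχ => hχ.1
  have htwo := exists_two_of_odd hodd (irrOffZ H Z) hirrT (irrOffZ_conj H Z) (irrOffZ_ne_one H Z)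
    (irrOffZ_nonempty H Z hZ1 hZH)
  exact isCoherent_of_subset (irrOffZ_subset H Z hZH) hcoh
    (exists_zspanOn_ne_zero (irrOffZ H Z) hirrT htwo)

end Cfsg.Agent.Helper8.FS
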