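import Mathlib
import Cfsg.Agent.Helper8.FS3
import Cfsg.Agent.Helper5.SibE

/-!
Frobenius groups with abelian kernel inside a normaliser: induction is an isometry, the case of a
single character, and coherence for equal degrees.
-/

set_option autoImplicit false
set_option linter.unusedSectionVars false

namespace Cfsg.Agent.Helper8.FS

open Cfsg Cfsg.Agent.Helper8

section Abstract

variable {N : Type*} [Group N] [Fintype N] (K : Subgroup N)

open Classical in
/-- if exactly one irreducible character is not constant on the abelian Frobenius kernel `K`,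
then `|K| = |N : K| + 1` -/
theorem card_of_unique [hK : K.Normal]
    (hF : ∀ n : N, n ∉ K → ∀ k ∈ K, k * n = n * k → k = 1)
    (hab : ∀ a b : K, a * b = b * a) (χ : IrrCharacter N) (hχ : FrobKer.NonConst K (χ : N → ℂ))
    (huniq : ∀ ψ : IrrCharacter N, FrobKer.NonConst K (ψ : N → ℂ) → ψ = χ) :
    Nat.card K = K.index + 1 := by
  haveI : Fintype (IrrCharacter N) := Fintype.ofFinite _
  have h1 := Cfsg.Agent.Helper24.sum_irr_mul_conj (G := N) 1 1
  rw [if_pos (IsConj.refl 1)] at h1
  have hcent : Nat.card (Subgroup.centralizer ({(1 : N)} : Set N)) = Nat.card N := by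
    have : Subgroup.centralizer ({(1 : N)} : Set N) = ⊤ := by
      rw [eq_top_iff]
      intro x _
      rw [Subgroup.mem_centralizer_iff]
      intro y hy
      rw [Set.mem_singleton_iff] at hy
      rw [hy, one_mul, mul_one]
    rw [this, Subgroup.card_top]
  rw [hcent] at h1
  have h2 := FrobKer.sum_const K (1 : N)
  rw [FrobKer.indK_mem K K.one_mem, mul_one] at h2
  have h3 : ∑ ψ : IrrCharacter N, (ψ : N → ℂ) 1 * (starRingEnd ℂ) ((ψ : N → ℂ) 1)
      = ∑ ψ : IrrCharacter N,
          (if FrobKer.NonConst K (ψ : N → ℂ) then (ψ : N → ℂ) 1 * (ψ : N → ℂ) 1 else 0)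
        + ∑ ψ : IrrCharacter N,
          (if FrobKer.NonConst K (ψ : N → ℂ) then 0 else (ψ : N → ℂ) 1 * (ψ : N → ℂ) 1) := by
    rw [← Finset.sum_add_distrib]
    refine Finset.sum_congr rfl fun ψ _ => ?_
    rw [FrobKer.conj_irr_one]
    by_cases h : FrobKer.NonConst K (ψ : N → ℂ)
    · rw [if_pos h, if_pos h, add_zero]
    · rw [if_neg h, if_neg h, zero_add]
  have h4 : ∑ ψ : IrrCharacter N,
      (if FrobKer.NonConst K (ψ : N → ℂ) then (ψ : N → ℂ) 1 * (ψ : N → ℂ) 1 else 0)
      = (K.index : ℂ) * (K.index : ℂ) := by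
    rw [Finset.sum_eq_single χ]
    · rw [if_pos hχ, FrobKer.deg_of_abelian K hF hab χ hχ]
    · intro ψ _ hne
      rw [if_neg]
      intro h
      exact hne (huniq ψ h)
    · intro h
      exact absurd (Finset.mem_univ χ) h
  rw [h3, h4, h2] at h1
  have h5 : (K.index : ℂ) * ((K.index : ℂ) + 1) = (Nat.card K : ℂ) * (K.index : ℂ) := by
    rw [FrobKer.card_mul_index_complex K, ← h1]
    ring
  have h6 : K.index * (K.index + 1) = Nat.card K * K.index := by exact_mod_cast h5
  have hpos : 0 < K.index := Nat.pos_of_ne_zero (Subgroup.index_ne_zero_of_finite)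
  rw [mul_comm (Nat.card K)] at h6
  exact (Nat.eq_of_mul_eq_mul_left hpos h6).symm

/-- an abelian Frobenius kernel of prime power order with `|K| = |N : K| + 1` has exponent `p` -/
theorem pow_eq_one_of_card (p : ℕ) [hp : Fact p.Prime] [hK : K.Normal]
    (hF : ∀ n : N, n ∉ K → ∀ k ∈ K, k * n = n * k → k = 1)
    (hab : ∀ a b : K, a * b = b * a) (hKp : IsPGroup p K) (hK1 : K ≠ ⊥)
    (hcard : Nat.card K = K.index + 1) : ∀ k ∈ K, k ^ p = 1 := by
  classical
  let Ω : Subgroup N :=
    { carrier := {k | k ∈ K ∧ k ^ p = 1}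
      one_mem' := ⟨K.one_mem, one_pow p⟩
      mul_mem' := by
        rintro a b ⟨ha, ha'⟩ ⟨hb, hb'⟩
        refine ⟨K.mul_mem ha hb, ?_⟩
        have hc : Commute a b := by
          have := hab ⟨a, ha⟩ ⟨b, hb⟩
          exact congrArg Subtype.val this
        rw [hc.mul_pow, ha', hb', one_mul]
      inv_mem' := by
        rintro a ⟨ha, ha'⟩
        exact ⟨K.inv_mem ha, by rw [inv_pow, ha', inv_one]⟩ }
  have hΩK : Ω ≤ K := fun k hk => hk.1
  haveI hΩn : Ω.Normal := by
    constructor
    intro n hn g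
    refine ⟨hK.conj_mem n hn.1 g, ?_⟩
    rw [conj_pow, hn.2]
    group
  have hΩc : ∀ z ∈ Ω, ∀ k ∈ K, z * k = k * z := by
    intro z hz k hk
    have := hab ⟨z, hz.1⟩ ⟨k, hk⟩
    exact congrArg Subtype.val this
  have hF' : ∀ x : N, x ∉ K → ∀ k ∈ K, x * k = k * x → k = 1 :=
    fun x hx k hk h => hF x hx k hk h.symm
  have hdvd := Cfsg.Agent.Helper5.Sib.index_dvd_card_sub_one K Ω hΩK hΩc hF'
  -- `Ω` is nontrivial
  have hKnt : Nontrivial K := by
    rw [← Subgroup.nontrivial_iff_ne_bot] at hK1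
    exact hK1
  have hpK : p ∣ Nat.card K := by
    obtain ⟨n, hn⟩ := IsPGroup.iff_card.mp hKp
    have hn0 : n ≠ 0 := by
      intro h
      rw [h, pow_zero] at hn
      have := Finite.one_lt_card (α := K)
      omega
    rw [hn]
    exact dvd_pow_self p hn0
  obtain ⟨k, hk⟩ := exists_prime_orderOf_dvd_card' (G := K) p hpK
  have hkΩ : (k : N) ∈ Ω := by
    refine ⟨k.2, ?_⟩
    have := pow_orderOf_eq_one k
    rw [hk] at this
    have h2 := congrArg Subtype.val this
    simpa using h2
  have hk1 : (k : N) ≠ 1 := by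
    intro h
    have : k = 1 := Subtype.ext h
    rw [this, orderOf_one] at hk
    exact hp.out.one_lt.ne hk
  have hΩcard : 2 ≤ Nat.card Ω := by
    have : Nontrivial Ω := ⟨⟨⟨(k : N), hkΩ⟩, 1, fun h => hk1 (congrArg Subtype.val h)⟩⟩
    exact Finite.one_lt_card
  have hge : K.index + 1 ≤ Nat.card Ω := by
    have h1 : K.index ≤ Nat.card Ω - 1 := Nat.le_of_dvd (by omega) hdvd
    omega
  have heq : Ω = K := by
    apply Subgroup.eq_of_le_of_card_ge hΩK
    rw [hcard]
    exact hge
  intro k hk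
  have : k ∈ Ω := by rw [heq]; exact hk
  exact this.2

end Abstract

section Normalizer

variable {G : Type*} [Group G] [Fintype G] (H : Subgroup G)
  [Fintype ↥(Subgroup.normalizer (H : Set G))]

/-- induction from the normaliser is an isometry on the characters not constant on `H`
vanishing at `1` -/
theorem ind_isometry (hTI : IsTISubset (H : Set G))
    (hC : ∀ k ∈ H, k ≠ 1 → Subgroup.centralizer ({k} : Set G) ≤ H) :
    IsLinearIsometryOn (zspanOn (irrOff H) {1}ᶜ)
        (fun α => indFun (Subgroup.normalizer (H : Set G)) α) ∧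
      ∀ α ∈ zspanOn (irrOff H) {1}ᶜ, indFun (Subgroup.normalizer (H : Set G)) α 1 = 0 := by
  classical
  haveI := subgroupOf_normal H
  have hirr : ∀ χ ∈ irrOff H, IsIrrCharacter _ χ := fun χ hχ => hχ.1
  have hgenS : ∀ ξ ∈ irrOff H, IsGeneralizedCharacter _ ξ := fun ξ hξ =>
    Cfsg.Agent.Helper24.IsIrrCharacter.isGeneralizedCharacter (hirr ξ hξ)
  have hvan : ∀ f ∈ zspan (irrOff H), ∀ x : ↥(Subgroup.normalizer (H : Set G)),
      (x : G) ∉ H → f x = 0 := by
    intro f hf x hx
    rw [irrOff_eq H hC] at hf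
    exact Cfsg.Agent.Helper5.Sib.zspan_vanish H _ hf x hx
  refine ⟨⟨fun α _ β _ => Cfsg.Agent.Helper8.indFun_add _ α β, ?_, ?_, ?_⟩, ?_⟩
  · intro α _ n
    show indFun _ (n • α) = n • indFun _ α
    rw [← Int.cast_smul_eq_zsmul ℂ n α, Cfsg.Agent.Helper8.indFun_smul, Int.cast_smul_eq_zsmul]
  · intro α hα β hβ
    have hα' := mem_zspanOn_compl_one.mp hα
    have hβ' := mem_zspanOn_compl_one.mp hβ
    apply Cfsg.Agent.Helper5.Sib.ti_isometry H _ hTI rfl α β
    · exact Cfsg.Agent.Helper24.IsGeneralizedCharacter.isClassFunction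
        (isGeneralizedCharacter_of_mem_zspan hgenS hβ'.1)
    · exact fun x hx => hvan α hα'.1 x hx
    · exact fun x hx => hvan β hβ'.1 x hx
    · exact hα'.2
  · intro α hα
    have hα' := mem_zspanOn_compl_one.mp hα
    exact Cfsg.Agent.Helper24.IsGeneralizedCharacter.indFun _
      (isGeneralizedCharacter_of_mem_zspan hgenS hα'.1)
  · intro α hα
    have hα' := mem_zspanOn_compl_one.mp hα
    rw [Cfsg.Agent.Helper5.indFun_apply_one, hα'.2, mul_zero]

/-- all characters not constant on an abelian `H` have degree the index -/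
theorem deg_irrOff (hC : ∀ k ∈ H, k ≠ 1 → Subgroup.centralizer ({k} : Set G) ≤ H)
    (hab : ∀ a b : H, a * b = b * a) :
    ∀ χ ∈ irrOff H, χ 1 = ((H.subgroupOf (Subgroup.normalizer (H : Set G))).index : ℂ) := by
  haveI := subgroupOf_normal H
  rintro χ ⟨hχ, x, hx, hne⟩
  have hab' : ∀ a b : H.subgroupOf (Subgroup.normalizer (H : Set G)), a * b = b * a := by
    intro a b
    apply Subtype.ext
    apply Subtype.ext
    have := hab ⟨(a : G), Subgroup.mem_subgroupOf.mp a.2⟩ ⟨(b : G), Subgroup.mem_subgroupOf.mp b.2⟩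
    have h2 : ((a : ↥(Subgroup.normalizer (H : Set G))) : G) * (b : ↥(Subgroup.normalizer (H : Set G)))
        = (b : ↥(Subgroup.normalizer (H : Set G))) * (a : ↥(Subgroup.normalizer (H : Set G))) :=
      Subtype.mk.inj this
    exact h2
  exact FrobKer.deg_of_abelian _ (frobK H hC) hab' ⟨χ, hχ⟩ ⟨x, Subgroup.mem_subgroupOf.mpr hx, hne⟩

/-- abelian `H`: either exactly one character and `H` elementary abelian of order `e + 1`, or
coherence -/
theorem abelian_case (p : ℕ) [Fact p.Prime] (hHp : IsPGroup p H) (hH1 : H ≠ ⊥)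
    (hTI : IsTISubset (H : Set G))
    (hC : ∀ k ∈ H, k ≠ 1 → Subgroup.centralizer ({k} : Set G) ≤ H)
    (hab : ∀ a b : H, a * b = b * a) :
    (Nat.card ↥(irrOff H) = 1 ∧ (∀ a ∈ H, a ^ p = 1) ∧
      Nat.card H = (H.subgroupOf (Subgroup.normalizer (H : Set G))).index + 1) ∨
    IsCoherent (irrOff H) {1}ᶜ (fun α => indFun (Subgroup.normalizer (H : Set G)) α) := by
  classical
  haveI := subgroupOf_normal H
  have hirr : ∀ χ ∈ irrOff H, IsIrrCharacter _ χ := fun χ hχ => hχ.1
  by_cases htwo : ∃ a ∈ irrOff H, ∃ b ∈ irrOff H, a ≠ b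
  · right
    obtain ⟨hτ, hτ1⟩ := ind_isometry H hTI hC
    apply irr_uniform_coherent (irrOff H) hirr _ htwo _ hτ hτ1
    intro φ hφ ψ hψ
    rw [deg_irrOff H hC hab φ hφ, deg_irrOff H hC hab ψ hψ]
  · left
    push Not at htwo
    obtain ⟨χ, hχ⟩ := irrOffZ_nonempty H H hH1 le_rfl
    have hχ' : χ ∈ irrOff H := hχ
    set K := H.subgroupOf (Subgroup.normalizer (H : Set G)) with hK
    have hab' : ∀ a b : K, a * b = b * a := by
      intro a b
      apply Subtype.ext
      apply Subtype.ext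
      have := hab ⟨(a : G), Subgroup.mem_subgroupOf.mp a.2⟩
        ⟨(b : G), Subgroup.mem_subgroupOf.mp b.2⟩
      have h2 : ((a : ↥(Subgroup.normalizer (H : Set G))) : G) * (b : ↥(Subgroup.normalizer (H : Set G)))
          = (b : ↥(Subgroup.normalizer (H : Set G))) * (a : ↥(Subgroup.normalizer (H : Set G))) :=
        Subtype.mk.inj this
      exact h2
    have hnc : ∀ ψ : IrrCharacter ↥(Subgroup.normalizer (H : Set G)),
        FrobKer.NonConst K (ψ : _ → ℂ) → (ψ : _ → ℂ) ∈ irrOff H := by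
      rintro ψ ⟨k, hk, hne⟩
      exact ⟨ψ.2, k, Subgroup.mem_subgroupOf.mp hk, hne⟩
    have hχnc : FrobKer.NonConst K χ := by
      obtain ⟨-, x, hx, hne⟩ := hχ'
      exact ⟨x, Subgroup.mem_subgroupOf.mpr hx, hne⟩
    have hcardK := card_of_unique K (frobK H hC) hab' ⟨χ, hχ'.1⟩ hχnc
      (fun ψ hψ => Subtype.ext (htwo _ (hnc ψ hψ) χ hχ'))
    have eKH : K ≃* H := Subgroup.subgroupOfEquivOfLe Subgroup.le_normalizer
    have hcKH : Nat.card K = Nat.card H := Nat.card_congr eKH.toEquiv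
    refine ⟨?_, ?_, ?_⟩
    · rw [Nat.card_eq_one_iff_unique]
      refine ⟨⟨fun a b => Subtype.ext (htwo _ a.2 _ b.2)⟩, ⟨⟨χ, hχ'⟩⟩⟩
    · have hKp : IsPGroup p K := hHp.of_equiv eKH.symm
      have hK1 : K ≠ ⊥ := by
        intro h
        rw [hK, Subgroup.subgroupOf_eq_bot] at h
        apply hH1
        rw [← disjoint_self]
        exact h.mono_right Subgroup.le_normalizer
      have hpow := pow_eq_one_of_card K p (frobK H hC) hab' hKp hK1 hcardK
      intro a ha
      have haL : a ∈ Subgroup.normalizer (H : Set G) := Subgroup.le_normalizer ha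
      have := hpow ⟨a, haL⟩ (Subgroup.mem_subgroupOf.mpr ha)
      have h2 := congrArg Subtype.val this
      simpa using h2
    · rw [← hcKH]
      exact hcardK

end Normalizer

end Cfsg.Agent.Helper8.FS
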