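import Mathlib
import Cfsg.Prelude.Def_Transfer
import Cfsg.Agent.Helper8.FS4
import Cfsg.Agent.Helper8.FS10
import Cfsg.Agent.Helper5.PartG
import Cfsg.Agent.S1535

/-!
The Feit–Sibley coherence theorem: a nilpotent TI-subgroup containing the centralisers of its
non-identity elements, inside its normaliser.
-/

set_option autoImplicit false
set_option linter.unusedSectionVars false

namespace Cfsg.Agent.Helper8.FS

open Cfsg Cfsg.Agent.Helper8

section Abstract

variable {N : Type*} [Group N] [Fintype N] (K : Subgroup N)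

/-- if `|K| = e + 1` there is no normal subgroup strictly between `⊥` and `K` -/
theorem no_between [hK : K.Normal]
    (hF : ∀ n : N, n ∉ K → ∀ k ∈ K, k * n = n * k → k = 1)
    (hcard : Nat.card K = K.index + 1) (A : Subgroup N) [hA : A.Normal] (hA1 : A ≠ ⊥)
    (hA2 : A < K) : False := by
  have h1 := succ_index_le_relIndex K hF ⊥ A (bot_lt_iff_ne_bot.mpr hA1) hA2.le
  have h2 := succ_index_le_relIndex K hF A K hA2 le_rfl
  have hmul := Subgroup.relIndex_mul_relIndex ⊥ A K bot_le hA2.le
  rw [Subgroup.relIndex_bot_left K, hcard] at hmul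
  have : (K.index + 1) * (K.index + 1) ≤ K.index + 1 :=
    le_of_le_of_eq (Nat.mul_le_mul h1 h2) hmul
  have he0 : 0 < K.index := Nat.pos_of_ne_zero Subgroup.index_ne_zero_of_finite
  nlinarith

theorem pgroup_abelian_of_card [hK : K.Normal] (hnil : Group.IsNilpotent K) (hK1 : K ≠ ⊥)
    (hF : ∀ n : N, n ∉ K → ∀ k ∈ K, k * n = n * k → k = 1)
    (hcard : Nat.card K = K.index + 1) :
    (∃ p : ℕ, p.Prime ∧ ∃ m : ℕ, Nat.card K = p ^ m) ∧ (⁅K, K⁆ : Subgroup N) = ⊥ := by
  haveI := hnil
  constructor
  · by_contra hnp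
    obtain ⟨T, C, hTn, hCn, hsup, hinf, hT, hC⟩ := exists_TC K hnil hK1 hnp
    have hTK : T ≤ K := hsup ▸ le_sup_left
    have hCK : C ≤ K := hsup ▸ le_sup_right
    refine no_between K hF hcard T hT (lt_of_le_of_ne hTK ?_)
    intro heq
    apply hC
    rw [eq_bot_iff, ← hinf]
    exact le_inf (heq ▸ hCK) le_rfl
  · by_contra hne
    exact no_between K hF hcard ⁅K, K⁆ hne (commutator_lt K K le_rfl hK1)

end Abstract

section Normaliser

variable {G : Type*} [Group G] [Fintype G] (H : Subgroup G)
  [Fintype ↥(Subgroup.normalizer (H : Set G))]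

theorem card_subgroupOf_normalizer :
    Nat.card (H.subgroupOf (Subgroup.normalizer (H : Set G))) = Nat.card H :=
  Nat.card_congr (Subgroup.subgroupOfEquivOfLe Subgroup.le_normalizer).toEquiv

theorem subgroupOf_ne_bot (hH1 : H ≠ ⊥) :
    H.subgroupOf (Subgroup.normalizer (H : Set G)) ≠ ⊥ := by
  intro h
  apply hH1
  rw [← Subgroup.card_eq_one, ← card_subgroupOf_normalizer H, h, Subgroup.card_bot]

theorem subgroupOf_ne_top (hlt : H < Subgroup.normalizer (H : Set G)) :
    H.subgroupOf (Subgroup.normalizer (H : Set G)) ≠ ⊤ := by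
  intro h
  rw [Subgroup.subgroupOf_eq_top] at h
  exact hlt.not_ge h

theorem centralizer_subgroupOf
    (hC : ∀ k ∈ H, k ≠ 1 → Subgroup.centralizer ({k} : Set G) ≤ H) :
    ∀ h ∈ H.subgroupOf (Subgroup.normalizer (H : Set G)), h ≠ 1 →
      Subgroup.centralizer ({h} : Set ↥(Subgroup.normalizer (H : Set G))) ≤
        H.subgroupOf (Subgroup.normalizer (H : Set G)) := by
  intro h hh h1 x hx
  rw [Subgroup.mem_subgroupOf] at hh ⊢
  have h1' : (h : G) ≠ 1 := by
    intro hc
    apply h1
    apply Subtype.ext
    rw [hc]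
    rfl
  apply hC (h : G) hh h1'
  rw [Subgroup.mem_centralizer_iff] at hx ⊢
  intro y hy
  rw [Set.mem_singleton_iff] at hy
  have := hx h (Set.mem_singleton h)
  rw [hy]
  exact Subtype.mk.inj this

theorem nilpotent_subgroupOf (hnil : Group.IsNilpotent H) :
    Group.IsNilpotent (H.subgroupOf (Subgroup.normalizer (H : Set G))) := by
  haveI := hnil
  exact Group.nilpotent_of_mulEquiv
    (Subgroup.subgroupOfEquivOfLe (Subgroup.le_normalizer (H := H))).symm

theorem comm_of_commutator_subgroupOf
    (h : (⁅H.subgroupOf (Subgroup.normalizer (H : Set G)),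
      H.subgroupOf (Subgroup.normalizer (H : Set G))⁆ :
        Subgroup ↥(Subgroup.normalizer (H : Set G))) = ⊥) :
    ∀ a b : H, a * b = b * a := by
  intro a b
  rw [Subgroup.commutator_eq_bot_iff_le_centralizer] at h
  have ha : (⟨(a : G), Subgroup.le_normalizer a.2⟩ : ↥(Subgroup.normalizer (H : Set G))) ∈
      H.subgroupOf (Subgroup.normalizer (H : Set G)) := Subgroup.mem_subgroupOf.mpr a.2
  have hb : (⟨(b : G), Subgroup.le_normalizer b.2⟩ : ↥(Subgroup.normalizer (H : Set G))) ∈
      H.subgroupOf (Subgroup.normalizer (H : Set G)) := Subgroup.mem_subgroupOf.mpr b.2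
  have := h ha
  rw [Subgroup.mem_centralizer_iff] at this
  have h2 := this _ hb
  apply Subtype.ext
  have h3 : (b : G) * (a : G) = (a : G) * (b : G) := Subtype.mk.inj h2
  exact h3.symm

theorem not_comm_subgroupOf (hna : ¬ IsMulCommutative (H.subgroupOf (Subgroup.normalizer (H : Set G)))) :
    ¬ IsMulCommutative H := by
  intro hab
  apply hna
  refine ⟨⟨fun a b => ?_⟩⟩
  apply Subtype.ext
  apply Subtype.ext
  have := hab.is_comm.comm (⟨((a : ↥(Subgroup.normalizer (H : Set G))) : G),
    Subgroup.mem_subgroupOf.mp a.2⟩ : H) ⟨((b : ↥(Subgroup.normalizer (H : Set G))) : G),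
    Subgroup.mem_subgroupOf.mp b.2⟩
  exact Subtype.mk.inj this

theorem relIndex_commutator_subgroupOf :
    (⁅H.subgroupOf (Subgroup.normalizer (H : Set G)),
      H.subgroupOf (Subgroup.normalizer (H : Set G))⁆ :
        Subgroup ↥(Subgroup.normalizer (H : Set G))).relIndex
          (H.subgroupOf (Subgroup.normalizer (H : Set G))) = (⁅H, H⁆ : Subgroup G).relIndex H := by
  have hmap : (H.subgroupOf (Subgroup.normalizer (H : Set G))).map
      (Subgroup.normalizer (H : Set G)).subtype = H := by
    rw [Subgroup.subgroupOf_map_subtype]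
    exact inf_eq_left.mpr Subgroup.le_normalizer
  have := Subgroup.relIndex_map_map_of_injective
    (⁅H.subgroupOf (Subgroup.normalizer (H : Set G)),
      H.subgroupOf (Subgroup.normalizer (H : Set G))⁆ :
        Subgroup ↥(Subgroup.normalizer (H : Set G)))
    (H.subgroupOf (Subgroup.normalizer (H : Set G)))
    (Subgroup.normalizer (H : Set G)).subtype_injective
  rw [Subgroup.map_commutator, hmap] at this
  exact this.symm

theorem two_pow_lt_of_le {e a : ℕ} (he : Odd e) (he1 : e ≠ 1) (h : 2 ^ a ≤ 4 * e ^ 2 + 1) :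
    2 ^ a < 4 * e ^ 2 := by
  have he0 : 0 < e := he.pos
  rcases Nat.lt_or_ge (2 ^ a) (4 * e ^ 2) with h1 | h1
  · exact h1
  · exfalso
    rcases Nat.eq_or_lt_of_le h1 with h2 | h2
    · -- 2 ^ a = 4 e²
      apply he1
      have hdvd : e ∣ 2 ^ a := by
        rw [← h2]
        exact Dvd.dvd.mul_left (dvd_pow_self e two_ne_zero) 4
      have hcop : Nat.Coprime e (2 ^ a) := (Nat.Coprime.pow_right a (Nat.coprime_two_right.mpr he))
      exact Nat.Coprime.eq_one_of_dvd hcop hdvd
    · -- 2 ^ a = 4 e² + 1
      have h3 : 2 ^ a = 4 * e ^ 2 + 1 := by omega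
      cases a with
      | zero =>
        have : 0 < e ^ 2 := by positivity
        omega
      | succ a =>
        rw [pow_succ] at h3
        omega

/-- **The Feit–Sibley theorem.** -/
theorem feit_sibley (hH1 : H ≠ ⊥) (hnil : Group.IsNilpotent H) (hTI : IsTISubset (H : Set G))
    (hlt : H < Subgroup.normalizer (H : Set G))
    (hC : ∀ k ∈ H, k ≠ 1 → Subgroup.centralizer ({k} : Set G) ≤ H) :
    (Nat.card ↥(irrOff H) = 1 ∧
      Nat.card H = (H.subgroupOf (Subgroup.normalizer (H : Set G))).index + 1 ∧
      ∃ p : ℕ, p.Prime ∧ Cfsg.IsElementaryAbelian p H) ∨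
    (Nat.card H = 2 ^ (Nat.card G).factorization 2 ∧
      ((⁅H, H⁆ : Subgroup G).subgroupOf H).index <
        4 * (H.subgroupOf (Subgroup.normalizer (H : Set G))).index ^ 2) ∨
    IsCoherent (irrOff H) {1}ᶜ (fun α => indFun (Subgroup.normalizer (H : Set G)) α) := by
  classical
  haveI := subgroupOf_normal H
  have hF := frobK H hC
  have hK1 := subgroupOf_ne_bot H hH1
  have hK2 := subgroupOf_ne_top H hlt
  have hC₀ := centralizer_subgroupOf H hC
  have hnil₀ := nilpotent_subgroupOf H hnil
  have hcard := card_subgroupOf_normalizer H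
  by_cases he : Nat.card H = (H.subgroupOf (Subgroup.normalizer (H : Set G))).index + 1
  · obtain ⟨⟨p, hp, m, hm⟩, hbot⟩ := pgroup_abelian_of_card
      (H.subgroupOf (Subgroup.normalizer (H : Set G))) hnil₀ hK1 hF (by rw [hcard]; exact he)
    haveI := Fact.mk hp
    have hab := comm_of_commutator_subgroupOf H hbot
    have hHp : IsPGroup p H := IsPGroup.of_card (n := m) (by rw [← hcard]; exact hm)
    rcases abelian_case H p hHp hH1 hTI hC hab with ⟨h1, h2, h3⟩ | h
    · left
      exact ⟨h1, h3, p, hp, ⟨⟨⟨fun a b => hab a b⟩⟩, h2⟩⟩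
    · right; right
      exact h
  · obtain ⟨hτ, hτ1⟩ := ind_isometry H hTI hC
    rcases Cfsg.Agent.S1535.result (H.subgroupOf (Subgroup.normalizer (H : Set G))) hK1 hK2 hC₀
      (by rw [hcard]; exact he) _ hτ hτ1 with h | ⟨p, hp, ⟨m, hm⟩, hna, hidx⟩
    · right; right
      exact h
    · have hna' := not_comm_subgroupOf H hna
      rw [hcard] at hm
      by_cases hp2 : p = 2
      · subst hp2
        right; left
        haveI : Fact (Nat.Prime 2) := ⟨Nat.prime_two⟩
        have hHn : ∀ x ∈ Subgroup.normalizer (H : Set G), ∀ h ∈ H, x * h * x⁻¹ ∈ H := by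
          intro x hx h hh
          rw [Subgroup.mem_normalizer_iff] at hx
          exact (hx h).mp hh
        have hedvd := Cfsg.Agent.Helper5.Part.frob_index_dvd H (Subgroup.normalizer (H : Set G))
          hHn (frobL H hC)
        have hm0 : m ≠ 0 := by
          intro h0
          rw [h0, pow_zero] at hm
          exact hH1 (Subgroup.card_eq_one.mp hm)
        have heodd : Odd (H.subgroupOf (Subgroup.normalizer (H : Set G))).index := by
          refine Odd.of_dvd_nat ?_ hedvd
          rw [hm]
          obtain ⟨m', rfl⟩ := Nat.exists_eq_succ_of_ne_zero hm0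
          rw [pow_succ]
          have : 0 < 2 ^ m' := by positivity
          exact ⟨2 ^ m' - 1, by omega⟩
        have he1 : (H.subgroupOf (Subgroup.normalizer (H : Set G))).index ≠ 1 := by
          intro h
          exact hK2 (Subgroup.index_eq_one.mp h)
        constructor
        · have hnot : ¬ 2 ^ (m + 1) ∣ Nat.card G := by
            intro hdvd
            have h2 := Sylow.prime_dvd_card_quotient_normalizer hdvd hm
            have h3 : (2 : ℕ) ∣ (H.subgroupOf (Subgroup.normalizer (H : Set G))).index := h2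
            rw [Nat.odd_iff] at heodd
            omega
          have hdvdm : 2 ^ m ∣ Nat.card G := hm ▸ Subgroup.card_subgroup_dvd_card H
          have hG0 : Nat.card G ≠ 0 := Nat.card_pos.ne'
          rw [Nat.prime_two.pow_dvd_iff_le_factorization hG0] at hnot hdvdm
          rw [hm]
          congr 1
          omega
        · change (⁅H, H⁆ : Subgroup G).relIndex H < _
          have hidx' : (⁅H, H⁆ : Subgroup G).relIndex H ≤
              4 * (H.subgroupOf (Subgroup.normalizer (H : Set G))).index ^ 2 + 1 := by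
            rw [← relIndex_commutator_subgroupOf H]
            exact hidx
          have hdvd : (⁅H, H⁆ : Subgroup G).relIndex H ∣ 2 ^ m := hm ▸ Subgroup.relIndex_dvd_card _ _
          obtain ⟨a, _, ha⟩ := (Nat.dvd_prime_pow Nat.prime_two).mp hdvd
          rw [ha] at hidx' ⊢
          exact two_pow_lt_of_le heodd he1 hidx'
      · right; right
        have hHodd : Odd (Nat.card H) := by
          rw [hm]
          exact (hp.odd_of_ne_two hp2).pow
        have hodd := odd_normalizer H hHodd hna' hC
        exact coherent_of_odd H hodd hlt hnil hTI hC H hH1 le_rfl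

end Normaliser

end Cfsg.Agent.Helper8.FS
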