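import Mathlib
import Cfsg.Agent.Helper13.S2276Defs
import Cfsg.Agent.Helper4.S2276EVEN2
import Cfsg.Agent.Helper4.S2276NS3

/-! # S2276, piece P3NINE (helper8) -/

set_option autoImplicit false

namespace Cfsg.Agent.S2276P

open Equiv Equiv.Perm

namespace P3NINE

/-- the 3-cycle `a ↦ c ↦ b ↦ a` -/
def cyc3 (a c b : Fin 9) : Perm (Fin 9) := swap a b * swap a c

theorem cyc3_isThreeCycle {a c b : Fin 9} (ab : a ≠ b) (ac : a ≠ c) (bc : b ≠ c) :
    (cyc3 a c b).IsThreeCycle :=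
  isThreeCycle_swap_mul_swap_same ab ac bc

theorem disj_of {f g : Perm (Fin 9)} (h : ∀ x, f x = x ∨ g x = x) : Perm.Disjoint f g := h

/-- the window gadget `(0 8 2)(3 6 5)` -/
def v2 : Perm (Fin 9) := cyc3 0 8 2 * cyc3 3 6 5

/-- the window gadget `(0 8 5)(1 4 7)(2 6 3)` -/
def v3 : Perm (Fin 9) := cyc3 0 8 5 * (cyc3 1 4 7 * cyc3 2 6 3)

theorem v2_cycleType : v2.cycleType = Multiset.replicate 2 3 := by
  have hd : Perm.Disjoint (cyc3 0 8 2) (cyc3 3 6 5) := disj_of (by decide)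
  have h1 : (cyc3 0 8 2).IsThreeCycle := cyc3_isThreeCycle (by decide) (by decide) (by decide)
  have h2 : (cyc3 3 6 5).IsThreeCycle := cyc3_isThreeCycle (by decide) (by decide) (by decide)
  unfold v2
  rw [hd.cycleType_mul, h1.cycleType, h2.cycleType]
  rfl

theorem v3_cycleType : v3.cycleType = Multiset.replicate 3 3 := by
  have hd : Perm.Disjoint (cyc3 0 8 5) (cyc3 1 4 7 * cyc3 2 6 3) := disj_of (by decide)
  have hd' : Perm.Disjoint (cyc3 1 4 7) (cyc3 2 6 3) := disj_of (by decide)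
  have h1 : (cyc3 0 8 5).IsThreeCycle := cyc3_isThreeCycle (by decide) (by decide) (by decide)
  have h2 : (cyc3 1 4 7).IsThreeCycle := cyc3_isThreeCycle (by decide) (by decide) (by decide)
  have h3 : (cyc3 2 6 3).IsThreeCycle := cyc3_isThreeCycle (by decide) (by decide) (by decide)
  unfold v3
  rw [hd.cycleType_mul, hd'.cycleType_mul, h1.cycleType, h2.cycleType, h3.cycleType]
  rfl

/-- the `3`-cycle word for `j = 2` -/
def t2 : Perm (Fin 9) :=
  ((finRotate 9 * v2) ^ 3 * (finRotate 9 ^ 2 * (finRotate 9 * v2) ^ 3 * (finRotate 9 ^ 2)⁻¹)) ^ 2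

/-- the `3`-cycle word for `j = 3` -/
def t3 : Perm (Fin 9) :=
  ((finRotate 9 * v3) ^ 3 * (finRotate 9 * (finRotate 9 * v3) ^ 3 * (finRotate 9)⁻¹)) ^ 4

set_option maxRecDepth 100000 in
theorem t2_eq : t2 = cyc3 3 4 5 := by decide

set_option maxRecDepth 100000 in
theorem t3_eq : t3 = cyc3 2 6 7 := by decide

theorem t2_mem : t2 ∈ Subgroup.closure ({finRotate 9, v2} : Set (Perm (Fin 9))) := by
  have hc : finRotate 9 ∈ Subgroup.closure ({finRotate 9, v2} : Set (Perm (Fin 9))) :=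
    Subgroup.subset_closure (by simp)
  have hv : v2 ∈ Subgroup.closure ({finRotate 9, v2} : Set (Perm (Fin 9))) :=
    Subgroup.subset_closure (by simp)
  have hι := Subgroup.pow_mem _ (Subgroup.mul_mem _ hc hv) 3
  have hc2 := Subgroup.pow_mem _ hc 2
  exact Subgroup.pow_mem _ (Subgroup.mul_mem _ hι
    (Subgroup.mul_mem _ (Subgroup.mul_mem _ hc2 hι) (Subgroup.inv_mem _ hc2))) 2

theorem t3_mem : t3 ∈ Subgroup.closure ({finRotate 9, v3} : Set (Perm (Fin 9))) := by
  have hc : finRotate 9 ∈ Subgroup.closure ({finRotate 9, v3} : Set (Perm (Fin 9))) :=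
    Subgroup.subset_closure (by simp)
  have hv : v3 ∈ Subgroup.closure ({finRotate 9, v3} : Set (Perm (Fin 9))) :=
    Subgroup.subset_closure (by simp)
  have hι := Subgroup.pow_mem _ (Subgroup.mul_mem _ hc hv) 3
  exact Subgroup.pow_mem _ (Subgroup.mul_mem _ hι
    (Subgroup.mul_mem _ (Subgroup.mul_mem _ hc hι) (Subgroup.inv_mem _ hc))) 4

set_option maxRecDepth 100000 in
theorem good2 {p : ℕ} (hp : p.Prime) (hp2 : p ≠ 2) : Good p (finRotate 9) v2 := by
  refine ⟨EVEN2.main hp hp2 (finRotate 9 * v2) (x := 1) (y := 2) (by decide) (by decide)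
    (by decide), ?_⟩
  refine NS3.main (r := 9) (by decide) (by norm_num) _ (Subgroup.subset_closure (by simp))
    t2_mem ?_ (x := 3) (d := 1) (by norm_num) (by decide)
  rw [t2_eq]
  exact cyc3_isThreeCycle (by decide) (by decide) (by decide)

set_option maxRecDepth 100000 in
theorem good3 {p : ℕ} (hp : p.Prime) (hp2 : p ≠ 2) : Good p (finRotate 9) v3 := by
  refine ⟨EVEN2.main hp hp2 (finRotate 9 * v3) (x := 1) (y := 5) (by decide) (by decide)
    (by decide), ?_⟩
  refine NS3.main (r := 9) (by decide) (by norm_num) _ (Subgroup.subset_closure (by simp))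
    t3_mem ?_ (x := 6) (d := 1) (by norm_num) (by decide)
  rw [t3_eq]
  exact cyc3_isThreeCycle (by decide) (by decide) (by decide)

end P3NINE

/-- P3NINE [M]: `r = 9`, `j = 2, 3`: the window gadgets of P3W2 / P3W3 alone (`decide` on `Fin 9`;
non-solvability by NS3 with the explicit 3-cycle word). -/
theorem P3NINE.main {p : ℕ} (hp : p.Prime) (hp2 : p ≠ 2) (j : ℕ) (hj : j = 2 ∨ j = 3) :
    ∃ v : Perm (Fin 9), v.cycleType = Multiset.replicate j 3 ∧ Good p (finRotate 9) v := by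
  rcases hj with rfl | rfl
  · exact ⟨P3NINE.v2, P3NINE.v2_cycleType, P3NINE.good2 hp hp2⟩
  · exact ⟨P3NINE.v3, P3NINE.v3_cycleType, P3NINE.good3 hp hp2⟩

end Cfsg.Agent.S2276P
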