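import Mathlib
import Cfsg.Agent.Helper8.MatBNDefs
import Cfsg.Agent.Helper8.S2546Defs
import Cfsg.Agent.Helper8.S2546EMB
import Cfsg.Agent.Helper17.S2546JCalc
import Cfsg.Agent.Helper17.S2546PRES
import Cfsg.Agent.Helper17.S2546XMEM

set_option autoImplicit false
open scoped Matrix

/-! S2546 pieces HDE / HDO / HDL (helper8): the rank one Bruhat identities, via block embeddings. -/

namespace Cfsg.Agent.S2546P

open Cfsg.Agent.MatBN Cfsg.Agent.MatBN.EMB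

variable {K : Type*} [Field K]

namespace HD

/-- the generic wrapper: an identity of small blocks gives the rank one identity in the group -/
theorem isTri_of_emb (σ : K →+* K) (n : ℕ) (s x x' : SUJ σ n) {k : ℕ} (f : Fin k → Fin n)
    (hf : StrictMono f) (S₀ X₀ X₀' B₀ : Matrix (Fin k) (Fin k) K)
    (hs : rho σ n s = emb f S₀) (hx : rho σ n x = emb f X₀) (hx' : rho σ n x' = emb f X₀')
    (hB : ∀ p q : Fin k, q < p → B₀ p q = 0)
    (hid : S₀ * X₀ * S₀ = B₀ * (S₀ * X₀')) :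
    IsTri (rho σ n (s * x * (s * x' * s⁻¹)⁻¹)) := by
  have hinj := hf.injective
  set Y := rho σ n (s * x' * s⁻¹) with hY
  have hYinv : Y * rho σ n (s * x' * s⁻¹)⁻¹ = 1 := by
    rw [hY, ← map_mul, mul_inv_cancel, map_one]
  have h1 : rho σ n (s * x * (s * x' * s⁻¹)⁻¹) * Y = rho σ n (s * x) := by
    rw [hY, ← map_mul]
    congr 1
    group
  have h2 : emb f B₀ * Y = rho σ n (s * x) := by
    have e1 : Y * rho σ n s = emb f (S₀ * X₀') := by
      rw [hY, ← map_mul]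
      have : s * x' * s⁻¹ * s = s * x' := by group
      rw [this, map_mul, hs, hx', emb_mul hinj]
    have e2 : emb f B₀ * Y * rho σ n s = rho σ n (s * x) * rho σ n s := by
      rw [Matrix.mul_assoc, e1, emb_mul hinj, ← hid, ← emb_mul hinj, ← emb_mul hinj, ← hs, ← hx,
        ← map_mul]
    have e3 : rho σ n s * rho σ n s⁻¹ = 1 := by rw [← map_mul, mul_inv_cancel, map_one]
    have := congrArg (fun M => M * rho σ n s⁻¹) e2
    simp only [Matrix.mul_assoc, e3, Matrix.mul_one] at this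
    exact this
  have h3 : rho σ n (s * x * (s * x' * s⁻¹)⁻¹) = emb f B₀ := by
    have := congrArg (fun M => M * rho σ n (s * x' * s⁻¹)⁻¹) (h1.trans h2.symm)
    simp only [Matrix.mul_assoc, hYinv, Matrix.mul_one] at this
    exact this
  rw [h3]
  exact isTri_emb hf B₀ hB

/-- membership in `Xset` for the last node, `n` even -/
theorem mem_Xset_E (σ : K →+* K) (n : ℕ) (hn : n % 2 = 0) (hn2 : 2 ≤ n) (x : SUJ σ n) :
    x ∈ Xset σ n (n / 2 - 1) ↔ ∃ t : K, t + σ t = 0 ∧ rho σ n x = xE n t := by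
  unfold Xset XMat
  have h1 : ¬ (n / 2 - 1 + 1 < n / 2) := by omega
  rw [Set.mem_setOf_eq, if_neg h1, if_pos hn]
  rfl

/-- membership in `Xset` for the last node, `n` odd -/
theorem mem_Xset_O (σ : K →+* K) (n : ℕ) (hn : n % 2 = 1) (hn3 : 3 ≤ n) (x : SUJ σ n) :
    x ∈ Xset σ n (n / 2 - 1) ↔
      ∃ a b : K, b + σ b + a * σ a = 0 ∧ rho σ n x = xO σ n a b := by
  unfold Xset XMat
  have h1 : ¬ (n / 2 - 1 + 1 < n / 2) := by omega
  have h2 : ¬ (n % 2 = 0) := by omega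
  rw [Set.mem_setOf_eq, if_neg h1, if_neg h2]
  rfl

/-- membership in `Xset` for a linear node -/
theorem mem_Xset_L (σ : K →+* K) (n j : ℕ) (hj : j + 1 < n / 2) (x : SUJ σ n) :
    x ∈ Xset σ n j ↔ ∃ t : K, rho σ n x = xL σ n j t := by
  unfold Xset XMat
  rw [Set.mem_setOf_eq, if_pos hj]
  rfl

/-! ### the last node, `n` even -/

/-- the positions of the `2 × 2` block -/
def f2 (n : ℕ) (hn2 : 2 ≤ n) : Fin 2 → Fin n := ![⟨n / 2 - 1, by omega⟩, ⟨n / 2, by omega⟩]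

theorem f2_strictMono (n : ℕ) (hn2 : 2 ≤ n) : StrictMono (f2 n hn2) := by
  intro p q hpq
  fin_cases p <;> fin_cases q <;> simp [f2] at hpq ⊢
  omega

theorem xE_eq_emb (n : ℕ) (hn2 : 2 ≤ n) (t : K) :
    xE n t = emb (f2 n hn2) (!![1, t; 0, 1] : Matrix (Fin 2) (Fin 2) K) := by
  have e : (!![1, t; 0, 1] : Matrix (Fin 2) (Fin 2) K) = 1 + t • Matrix.single 0 1 1 := by
    ext i j
    fin_cases i <;> fin_cases j <;> simp [Matrix.single_apply]
  rw [e, emb_one_add, Matrix.mul_smul, Matrix.smul_mul, inc_single_incT]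
  unfold xE
  rw [JC.E_eq_single (n / 2 - 1) (n / 2) (by omega) (by omega)]
  rfl

theorem sE_eq_emb (n : ℕ) (hn2 : 2 ≤ n) (ζ : K) :
    sE n ζ = emb (f2 n hn2) (!![0, ζ; -ζ⁻¹, 0] : Matrix (Fin 2) (Fin 2) K) := by
  have e : (!![0, ζ; -ζ⁻¹, 0] : Matrix (Fin 2) (Fin 2) K) =
      1 + (-(Matrix.single 0 0 1) - Matrix.single 1 1 1 + ζ • Matrix.single 0 1 1
        - ζ⁻¹ • Matrix.single 1 0 1) := by
    ext i j
    fin_cases i <;> fin_cases j <;> simp [Matrix.single_apply]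
  rw [e, emb_one_add]
  simp only [Matrix.mul_sub, Matrix.sub_mul, Matrix.mul_add, Matrix.add_mul, Matrix.mul_neg,
    Matrix.neg_mul, Matrix.mul_smul, Matrix.smul_mul, inc_single_incT]
  unfold sE
  rw [JC.E_eq_single (n / 2 - 1) (n / 2) (by omega) (by omega),
    JC.E_eq_single (n / 2 - 1) (n / 2 - 1) (by omega) (by omega),
    JC.E_eq_single (n / 2) (n / 2) (by omega) (by omega),
    JC.E_eq_single (n / 2) (n / 2 - 1) (by omega) (by omega)]
  have h0 : f2 n hn2 0 = ⟨n / 2 - 1, by omega⟩ := rfl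
  have h1 : f2 n hn2 1 = ⟨n / 2, by omega⟩ := rfl
  rw [h0, h1]
  abel

end HD

open HD in
/-- HDE -/
theorem hd_E (σ : K →+* K) (hσ : ∀ x, σ (σ x) = x) (n : ℕ) (hn : n % 2 = 0) (hn2 : 2 ≤ n) (ζ : K)
    (hζ : ζ ≠ 0) (hζσ : σ ζ = -ζ) (s : SUJ σ n) (hs : rho σ n s = sE n ζ) (x : SUJ σ n)
    (hx : x ∈ Xset σ n (n / 2 - 1)) (hx1 : x ≠ 1) :
    ∃ b₁ : SUJ σ n, IsTri (rho σ n b₁) ∧
      ∃ x' ∈ Xset σ n (n / 2 - 1), s * x = b₁ * (s * x' * s⁻¹) := by
  obtain ⟨t, ht, hxt⟩ := (mem_Xset_E σ n hn hn2 x).mp hx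
  have ht0 : t ≠ 0 := by
    rintro rfl
    apply hx1
    apply rho_injective σ n
    rw [hxt, map_one]
    unfold xE
    rw [zero_smul, add_zero]
  have hσt : σ t = -t := by linear_combination ht
  have hσt0 : σ t ≠ 0 := by rw [hσt]; exact neg_ne_zero.mpr ht0
  set u : K := -(ζ * ζ) / t with hu
  have huσ : u + σ u = 0 := by
    rw [hu, map_div₀, map_neg, map_mul, hζσ, hσt]
    field_simp
    ring
  obtain ⟨h1, h2⟩ := presJ_xE σ hσ n hn hn2 u huσ
  obtain ⟨x', hx'⟩ := exists_of_presJ σ n (xE n u) h2 h1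
  refine ⟨s * x * (s * x' * s⁻¹)⁻¹, ?_, x', (mem_Xset_E σ n hn hn2 x').mpr ⟨u, huσ, hx'⟩, by group⟩
  apply isTri_of_emb σ n s x x' (f2 n hn2) (f2_strictMono n hn2)
    (!![0, ζ; -ζ⁻¹, 0]) (!![1, t; 0, 1]) (!![1, u; 0, 1]) (!![-ζ / t, ζ; 0, -t / ζ])
  · rw [hs, sE_eq_emb n hn2]
  · rw [hxt, xE_eq_emb n hn2]
  · rw [hx', xE_eq_emb n hn2]
  · intro p q hqp
    fin_cases p <;> fin_cases q <;> simp at hqp ⊢
  · ext i j
    fin_cases i <;> fin_cases j <;> simp [Matrix.mul_apply, Fin.sum_univ_two, hu] <;> field_simp <;>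
      ring

end Cfsg.Agent.S2546P
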