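import Mathlib
import Cfsg.Agent.Helper8.MatBNDefs
import Cfsg.Agent.Helper8.S2546Defs
import Cfsg.Agent.Helper8.S2546EMB
import Cfsg.Agent.Helper8.S2546HDE

set_option autoImplicit false
open scoped Matrix

/-! S2546 piece HDO (helper8): the rank one Bruhat identity for the `SU_3` node. -/

namespace Cfsg.Agent.S2546P

open Cfsg.Agent.MatBN Cfsg.Agent.MatBN.EMB

variable {K : Type*} [Field K]

namespace HD

/-- the positions of the `3 × 3` block -/
def f3 (n : ℕ) (hn : n % 2 = 1) (hn3 : 3 ≤ n) : Fin 3 → Fin n :=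
  ![⟨n / 2 - 1, by omega⟩, ⟨n / 2, by omega⟩, ⟨n / 2 + 1, by omega⟩]

theorem f3_strictMono (n : ℕ) (hn : n % 2 = 1) (hn3 : 3 ≤ n) : StrictMono (f3 n hn hn3) := by
  intro p q hpq
  fin_cases p <;> fin_cases q <;> simp [f3] at hpq ⊢ <;> omega

theorem xO_eq_emb (σ : K →+* K) (n : ℕ) (hn : n % 2 = 1) (hn3 : 3 ≤ n) (a b : K) :
    xO σ n a b = emb (f3 n hn hn3) (!![1, a, b; 0, 1, -σ a; 0, 0, 1] : Matrix (Fin 3) (Fin 3) K) := by
  have e : (!![1, a, b; 0, 1, -σ a; 0, 0, 1] : Matrix (Fin 3) (Fin 3) K) =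
      1 + (a • Matrix.single 0 1 1 + b • Matrix.single 0 2 1 - σ a • Matrix.single 1 2 1) := by
    ext i j
    fin_cases i <;> fin_cases j <;> simp [Matrix.single_apply]
  rw [e, emb_one_add]
  simp only [Matrix.mul_sub, Matrix.sub_mul, Matrix.mul_add, Matrix.add_mul, Matrix.mul_smul,
    Matrix.smul_mul, inc_single_incT]
  unfold xO
  rw [JC.E_eq_single (n / 2 - 1) (n / 2) (by omega) (by omega),
    JC.E_eq_single (n / 2 - 1) (n / 2 + 1) (by omega) (by omega),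
    JC.E_eq_single (n / 2) (n / 2 + 1) (by omega) (by omega)]
  have h0 : f3 n hn hn3 0 = ⟨n / 2 - 1, by omega⟩ := rfl
  have h1 : f3 n hn hn3 1 = ⟨n / 2, by omega⟩ := rfl
  have h2 : f3 n hn hn3 2 = ⟨n / 2 + 1, by omega⟩ := rfl
  rw [h0, h1, h2]
  abel

theorem sO_eq_emb (n : ℕ) (hn : n % 2 = 1) (hn3 : 3 ≤ n) :
    (sO n : Matrix (Fin n) (Fin n) K) =
      emb (f3 n hn hn3) (!![0, 0, 1; 0, -1, 0; 1, 0, 0] : Matrix (Fin 3) (Fin 3) K) := by
  have e : (!![0, 0, 1; 0, -1, 0; 1, 0, 0] : Matrix (Fin 3) (Fin 3) K) =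
      1 + (-(Matrix.single 0 0 1) - Matrix.single 2 2 1 - (2 : K) • Matrix.single 1 1 1
        + Matrix.single 0 2 1 + Matrix.single 2 0 1) := by
    ext i j
    fin_cases i <;> fin_cases j <;> simp [Matrix.single_apply] <;> norm_num
  rw [e, emb_one_add]
  simp only [Matrix.mul_sub, Matrix.sub_mul, Matrix.mul_add, Matrix.add_mul, Matrix.mul_neg,
    Matrix.neg_mul, Matrix.mul_smul, Matrix.smul_mul, inc_single_incT]
  unfold sO
  rw [JC.E_eq_single (n / 2 - 1) (n / 2 - 1) (by omega) (by omega),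
    JC.E_eq_single (n / 2 + 1) (n / 2 + 1) (by omega) (by omega),
    JC.E_eq_single (n / 2) (n / 2) (by omega) (by omega),
    JC.E_eq_single (n / 2 - 1) (n / 2 + 1) (by omega) (by omega),
    JC.E_eq_single (n / 2 + 1) (n / 2 - 1) (by omega) (by omega)]
  have h0 : f3 n hn hn3 0 = ⟨n / 2 - 1, by omega⟩ := rfl
  have h1 : f3 n hn hn3 1 = ⟨n / 2, by omega⟩ := rfl
  have h2 : f3 n hn hn3 2 = ⟨n / 2 + 1, by omega⟩ := rfl
  rw [h0, h1, h2]
  abel

end HD

open HD in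
/-- HDO -/
theorem hd_O (σ : K →+* K) (hσ : ∀ x, σ (σ x) = x) (n : ℕ) (hn : n % 2 = 1) (hn3 : 3 ≤ n)
    (s : SUJ σ n) (hs : rho σ n s = sO n) (x : SUJ σ n) (hx : x ∈ Xset σ n (n / 2 - 1))
    (hx1 : x ≠ 1) :
    ∃ b₁ : SUJ σ n, IsTri (rho σ n b₁) ∧
      ∃ x' ∈ Xset σ n (n / 2 - 1), s * x = b₁ * (s * x' * s⁻¹) := by
  obtain ⟨a, b, hab, hxt⟩ := (mem_Xset_O σ n hn hn3 x).mp hx
  have hb0 : b ≠ 0 := by
    rintro rfl
    rw [map_zero, add_zero, zero_add] at hab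
    have ha0 : a = 0 := by
      rcases mul_eq_zero.mp hab with h | h
      · exact h
      · have := congrArg σ h
        rwa [hσ, map_zero] at this
    apply hx1
    apply rho_injective σ n
    rw [hxt, map_one, ha0]
    unfold xO
    rw [map_zero, zero_smul, zero_smul, zero_smul, add_zero, add_zero, sub_zero]
  have hσb0 : σ b ≠ 0 := by
    intro h
    apply hb0
    have := congrArg σ h
    rwa [hσ, map_zero] at this
  set a' : K := -a / b with ha'
  set b' : K := 1 / b with hb'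
  have hab' : b' + σ b' + a' * σ a' = 0 := by
    rw [ha', hb', map_div₀, map_div₀, map_neg, map_one]
    field_simp
    linear_combination hab
  obtain ⟨h1, h2⟩ := presJ_xO σ hσ n hn hn3 a' b' hab'
  obtain ⟨x', hx'⟩ := exists_of_presJ σ n (xO σ n a' b') h2 h1
  refine ⟨s * x * (s * x' * s⁻¹)⁻¹, ?_, x',
    (mem_Xset_O σ n hn hn3 x').mpr ⟨a', b', hab', hx'⟩, by group⟩
  apply isTri_of_emb σ n s x x' (f3 n hn hn3) (f3_strictMono n hn hn3)
    (!![0, 0, 1; 0, -1, 0; 1, 0, 0]) (!![1, a, b; 0, 1, -σ a; 0, 0, 1])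
    (!![1, a', b'; 0, 1, -σ a'; 0, 0, 1]) (!![1 / σ b, -a / b, 1; 0, σ b / b, σ a; 0, 0, b])
  · rw [hs, sO_eq_emb n hn hn3]
  · rw [hxt, xO_eq_emb σ n hn hn3]
  · rw [hx', xO_eq_emb σ n hn hn3]
  · intro p q hqp
    fin_cases p <;> fin_cases q <;> simp at hqp ⊢
  · have hσa' : σ a' = -σ a / σ b := by rw [ha', map_div₀, map_neg]
    ext i j
    fin_cases i <;> fin_cases j <;>
      simp [Matrix.mul_apply, Fin.sum_univ_three, hσa', ha', hb'] <;> field_simp
    all_goals first | ring1 | linear_combination hab | linear_combination (-1 : K) * hab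

end Cfsg.Agent.S2546P
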