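import Mathlib
import Cfsg.Agent.Helper8.MatBNDefs
import Cfsg.Agent.Helper8.S2546Defs
import Cfsg.Agent.Helper23.S2546ZETA
import Cfsg.Agent.Helper23.S2546TAU
import Cfsg.Agent.Helper23.S2546HAL
import Cfsg.Agent.Helper23.S2546HE
import Cfsg.Agent.Helper17.S2546PRES
import Cfsg.Agent.Helper17.S2546SMEM
import Cfsg.Agent.Helper17.S2546SUPP
import Cfsg.Agent.Helper17.S2546HAE
import Cfsg.Agent.Helper17.S2546HAO
import Cfsg.Agent.Lead.S2546N0
import Cfsg.Agent.Lead.S2546DIAG
import Cfsg.Agent.Helper8.S2546HDE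
import Cfsg.Agent.Helper8.S2546HDO
import Cfsg.Agent.Helper23.S2546HDL
import Cfsg.Agent.Helper25.S2546GEN
set_option autoImplicit false
open scoped Matrix

/-! S2546 piece DATA (driver helper8): assembly of the `MatBN.Data` of the unitary group. -/

namespace Cfsg.Agent.S2546P

open Cfsg.Agent.MatBN

variable {K : Type*} [Field K]

namespace DATA

theorem isUni_of_mem (σ : K →+* K) (n j : ℕ) (hj : j < n / 2) (x : SUJ σ n)
    (hx : x ∈ Xset σ n j) : IsUni (rho σ n x) := by
  obtain ⟨h1, h2⟩ := supp_XMat σ n j hj (rho σ n x) hx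
  refine ⟨?_, h1⟩
  intro a c hca
  by_contra hne
  have := (h2 a c hca.ne' hne).1
  exact absurd this (not_lt.mpr hca.le)

end DATA

theorem exists_data [Fintype K] {q : ℕ} (hK : Fintype.card K = q ^ 2) (σ : K →+* K)
    (hσq : ∀ x, σ x = x ^ q) (hσ : ∀ x, σ (σ x) = x) (n : ℕ) (hn : 2 ≤ n) :
    ∃ D : Data (SUJ σ n) K n (n / 2), D.ρ = rho σ n := by
  obtain ⟨ζ, hζ, hζσ⟩ := exists_zeta hK σ hσq
  have hs : ∀ j : Fin (n / 2), ∃ s : SUJ σ n, rho σ n s = sMat n ζ j ∧
      Mon (rho σ n s) (tau n j) := fun j => exists_s σ n ζ hζ hζσ j j.2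
  choose s hs1 hs2 using hs
  obtain ⟨n₀, hn₀, hmon₀⟩ := exists_n0 σ n s hs2
  have hcase : ∀ j : Fin (n / 2), ¬ (j : ℕ) + 1 < n / 2 → (j : ℕ) = n / 2 - 1 := by
    intro j h
    have := j.2
    omega
  refine ⟨{ ρ := rho σ n
            ρ_inj := rho_injective σ n
            s := s
            τ := fun j => tau n j
            X := fun j => Xset σ n j
            n₀ := n₀
            mon_s := hs2
            τ_sq := fun j => tau_sq n j
            τ_inj := ?_
            X_uni := fun j x hx => DATA.isUni_of_mem σ n j j.2 x hx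
            Y_low := fun j x hx => ylow_all σ n j j.2 (s j) (hs2 j) x hx
            X_ne := fun j => exists_X_ne_one σ hσ n ζ hζ hζσ j j.2
            ha := ?_
            hd := ?_
            he := fun j g π hg => he_all σ hσ n j j.2 (s j) (hs2 j) g π hg
            gen := ?_
            diag := fun b hb => exists_diag σ hσ n b hb
            n₀_mem := hn₀
            mon_n₀ := hmon₀ }, rfl⟩
  · intro j j' h
    exact Fin.ext (tau_inj n j.2 j'.2 h)
  · intro j b hb
    by_cases h : (j : ℕ) + 1 < n / 2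
    · have e : rho σ n (s j) = pMat n (tau n j) := by
        rw [hs1 j]; unfold sMat; rw [if_pos h]
      exact ha_L σ hσ n j h (s j) e b hb
    · have hj := hcase j h
      by_cases hpar : n % 2 = 0
      · have e : rho σ n (s j) = sE n ζ := by
          rw [hs1 j]; unfold sMat; rw [if_neg h, if_pos hpar]
        have := ha_E σ hσ n hpar hn ζ hζ hζσ (s j) e b hb
        rwa [← hj] at this
      · have hpar' : n % 2 = 1 := by omega
        have hn3 : 3 ≤ n := by omega
        have e : rho σ n (s j) = sO n := by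
          rw [hs1 j]; unfold sMat; rw [if_neg h, if_neg hpar]
        have := ha_O σ hσ n hpar' hn3 (s j) e b hb
        rwa [← hj] at this
  · intro j x hx hx1
    by_cases h : (j : ℕ) + 1 < n / 2
    · have e : rho σ n (s j) = pMat n (tau n j) := by
        rw [hs1 j]; unfold sMat; rw [if_pos h]
      exact hd_L σ hσ n j h (s j) e x hx hx1
    · have hj := hcase j h
      by_cases hpar : n % 2 = 0
      · have e : rho σ n (s j) = sE n ζ := by
          rw [hs1 j]; unfold sMat; rw [if_neg h, if_pos hpar]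
        rw [hj] at hx
        have := hd_E σ hσ n hpar hn ζ hζ hζσ (s j) e x hx hx1
        rwa [← hj] at this
      · have hpar' : n % 2 = 1 := by omega
        have hn3 : 3 ≤ n := by omega
        have e : rho σ n (s j) = sO n := by
          rw [hs1 j]; unfold sMat; rw [if_neg h, if_neg hpar]
        rw [hj] at hx
        have := hd_O σ hσ n hpar' hn3 (s j) e x hx hx1
        rwa [← hj] at this
  · intro g
    have h1 := gen_all hK σ hσq hσ n hn ζ hζ hζσ g
    refine Subgroup.closure_mono ?_ h1
    rintro y (hy | ⟨j, hj, hy⟩)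
    · exact Or.inl hy
    · right
      refine ⟨⟨j, hj⟩, ?_⟩
      apply rho_injective σ n
      rw [hs1 ⟨j, hj⟩, hy]

end Cfsg.Agent.S2546P
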