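import Mathlib

/-! # S3154, piece HEIS: the unitriangular (Heisenberg) subgroup of `SL₃(F)` -/

set_option autoImplicit false

namespace Cfsg.Agent.S3154P

open Matrix

variable {F : Type*} [Field F]

/-- The upper unitriangular matrix with entries `a` (1,2), `b` (2,3), `c` (1,3). -/
def uMat (a b c : F) : Matrix (Fin 3) (Fin 3) F := !![1, a, c; 0, 1, b; 0, 0, 1]

theorem det_uMat (a b c : F) : (uMat a b c).det = 1 := by
  simp [uMat, Matrix.det_fin_three]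

/-- The unitriangular element `u(a,b,c)` of `SL₃(F)`. -/
def U (a b c : F) : SpecialLinearGroup (Fin 3) F := ⟨uMat a b c, det_uMat a b c⟩

@[simp] theorem U_val (a b c : F) : (U a b c).1 = uMat a b c := rfl

theorem U_mul (a b c a' b' c' : F) :
    U a b c * U a' b' c' = U (a + a') (b + b') (c + c' + a * b') := by
  ext i j
  change (uMat a b c * uMat a' b' c') i j = uMat (a + a') (b + b') (c + c' + a * b') i j
  fin_cases i <;> fin_cases j <;>
    simp [uMat, Matrix.mul_apply, Fin.sum_univ_three] <;> ring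

theorem U_zero : U (0 : F) 0 0 = 1 := by
  ext i j
  change uMat (0 : F) 0 0 i j = (1 : Matrix (Fin 3) (Fin 3) F) i j
  fin_cases i <;> fin_cases j <;> simp [uMat]

theorem U_inv (a b c : F) : (U a b c)⁻¹ = U (-a) (-b) (a * b - c) := by
  rw [inv_eq_iff_mul_eq_one, U_mul, ← U_zero]
  congr 1 <;> ring

theorem U_inj {a b c a' b' c' : F} (h : U a b c = U a' b' c') : a = a' ∧ b = b' ∧ c = c' := by
  have h1 : uMat a b c = uMat a' b' c' := congrArg Subtype.val h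
  refine ⟨?_, ?_, ?_⟩
  · simpa [uMat] using congrFun (congrFun h1 0) 1
  · simpa [uMat] using congrFun (congrFun h1 1) 2
  · simpa [uMat] using congrFun (congrFun h1 0) 2


/-- The unitriangular subgroup of `SL₃(F)`. -/
def Usub : Subgroup (SpecialLinearGroup (Fin 3) F) where
  carrier := {g | ∃ a b c : F, g = U a b c}
  mul_mem' := by
    rintro _ _ ⟨a, b, c, rfl⟩ ⟨a', b', c', rfl⟩
    exact ⟨_, _, _, U_mul a b c a' b' c'⟩
  one_mem' := ⟨0, 0, 0, U_zero.symm⟩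
  inv_mem' := by
    rintro _ ⟨a, b, c, rfl⟩
    exact ⟨_, _, _, U_inv a b c⟩

/-- The elementary abelian subgroup `{u(a,0,c)}`. -/
def A1 : Subgroup (SpecialLinearGroup (Fin 3) F) where
  carrier := {g | ∃ a c : F, g = U a 0 c}
  mul_mem' := by
    rintro _ _ ⟨a, c, rfl⟩ ⟨a', c', rfl⟩
    exact ⟨a + a', c + c' + a * 0, by rw [U_mul, add_zero]⟩
  one_mem' := ⟨0, 0, U_zero.symm⟩
  inv_mem' := by
    rintro _ ⟨a, c, rfl⟩
    exact ⟨-a, a * 0 - c, by rw [U_inv, neg_zero]⟩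

/-- The elementary abelian subgroup `{u(0,b,c)}`. -/
def A2 : Subgroup (SpecialLinearGroup (Fin 3) F) where
  carrier := {g | ∃ b c : F, g = U 0 b c}
  mul_mem' := by
    rintro _ _ ⟨b, c, rfl⟩ ⟨b', c', rfl⟩
    exact ⟨b + b', c + c' + 0 * b', by rw [U_mul, add_zero]⟩
  one_mem' := ⟨0, 0, U_zero.symm⟩
  inv_mem' := by
    rintro _ ⟨b, c, rfl⟩
    exact ⟨-b, 0 * b - c, by rw [U_inv, neg_zero]⟩

theorem mem_Usub {g : SpecialLinearGroup (Fin 3) F} : g ∈ (Usub : Subgroup _) ↔ ∃ a b c : F, g = U a b c :=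
  Iff.rfl

theorem mem_A1 {g : SpecialLinearGroup (Fin 3) F} : g ∈ (A1 : Subgroup _) ↔ ∃ a c : F, g = U a 0 c :=
  Iff.rfl

theorem mem_A2 {g : SpecialLinearGroup (Fin 3) F} : g ∈ (A2 : Subgroup _) ↔ ∃ b c : F, g = U 0 b c :=
  Iff.rfl

theorem U_mem_A1 {a b c : F} : U a b c ∈ (A1 : Subgroup _) ↔ b = 0 := by
  constructor
  · rintro ⟨a', c', h⟩
    exact (U_inj h).2.1
  · rintro rfl
    exact ⟨a, c, rfl⟩

theorem U_mem_A2 {a b c : F} : U a b c ∈ (A2 : Subgroup _) ↔ a = 0 := by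
  constructor
  · rintro ⟨b', c', h⟩
    exact (U_inj h).1
  · rintro rfl
    exact ⟨b, c, rfl⟩

theorem A1_le_Usub : (A1 : Subgroup (SpecialLinearGroup (Fin 3) F)) ≤ Usub := by
  rintro _ ⟨a, c, rfl⟩
  exact ⟨a, 0, c, rfl⟩

theorem A2_le_Usub : (A2 : Subgroup (SpecialLinearGroup (Fin 3) F)) ≤ Usub := by
  rintro _ ⟨b, c, rfl⟩
  exact ⟨0, b, c, rfl⟩

theorem A1_sup_A2 : (A1 : Subgroup (SpecialLinearGroup (Fin 3) F)) ⊔ A2 = Usub := by
  apply le_antisymm (sup_le A1_le_Usub A2_le_Usub)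
  rintro _ ⟨a, b, c, rfl⟩
  have h : U a b c = U a 0 (c - a * b) * U 0 b 0 := by
    rw [U_mul]
    congr 1 <;> ring
  rw [h]
  exact Subgroup.mul_mem _ (Subgroup.mem_sup_left ⟨a, _, rfl⟩) (Subgroup.mem_sup_right ⟨b, 0, rfl⟩)

theorem conj_mem_A1 {g x : SpecialLinearGroup (Fin 3) F} (hg : g ∈ (Usub : Subgroup _))
    (hx : x ∈ (A1 : Subgroup _)) : g * x * g⁻¹ ∈ (A1 : Subgroup _) := by
  obtain ⟨p, q, r, rfl⟩ := hg
  obtain ⟨a, c, rfl⟩ := hx
  rw [U_inv, U_mul, U_mul, U_mem_A1]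
  ring

theorem conj_mem_A2 {g x : SpecialLinearGroup (Fin 3) F} (hg : g ∈ (Usub : Subgroup _))
    (hx : x ∈ (A2 : Subgroup _)) : g * x * g⁻¹ ∈ (A2 : Subgroup _) := by
  obtain ⟨p, q, r, rfl⟩ := hg
  obtain ⟨b, c, rfl⟩ := hx
  rw [U_inv, U_mul, U_mul, U_mem_A2]
  ring

/-- an element of `Usub` commuting with `u(1,0,0)` and `u(0,1,0)` lies in `A1 ⊓ A2` -/
theorem central_mem {x : SpecialLinearGroup (Fin 3) F} (hx : x ∈ (Usub : Subgroup _))
    (h1 : x * U 1 0 0 = U 1 0 0 * x) (h2 : x * U 0 1 0 = U 0 1 0 * x) :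
    x ∈ (A1 : Subgroup _) ⊓ A2 := by
  obtain ⟨a, b, c, rfl⟩ := hx
  rw [U_mul, U_mul] at h1 h2
  have e1 := (U_inj h1).2.2
  have e2 := (U_inj h2).2.2
  have hb : b = 0 := by linear_combination -e1
  have ha : a = 0 := by linear_combination e2
  exact ⟨U_mem_A1.mpr hb, U_mem_A2.mpr ha⟩

theorem U_sq [CharP F 2] (a b c : F) : U a b c ^ 2 = U 0 0 (a * b) := by
  rw [pow_two, U_mul]
  have h2 : ∀ x : F, x + x = 0 := fun x => CharTwo.add_self_eq_zero x
  congr 1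
  · exact h2 a
  · exact h2 b
  · rw [h2 c, zero_add]

theorem A1_sq [CharP F 2] {x : SpecialLinearGroup (Fin 3) F} (hx : x ∈ (A1 : Subgroup _)) :
    x ^ 2 = 1 := by
  obtain ⟨a, c, rfl⟩ := hx
  rw [U_sq, mul_zero, U_zero]

theorem A2_sq [CharP F 2] {x : SpecialLinearGroup (Fin 3) F} (hx : x ∈ (A2 : Subgroup _)) :
    x ^ 2 = 1 := by
  obtain ⟨b, c, rfl⟩ := hx
  rw [U_sq, zero_mul, U_zero]

theorem A1_comm {x y : SpecialLinearGroup (Fin 3) F} (hx : x ∈ (A1 : Subgroup _))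
    (hy : y ∈ (A1 : Subgroup _)) : x * y = y * x := by
  obtain ⟨a, c, rfl⟩ := hx
  obtain ⟨a', c', rfl⟩ := hy
  rw [U_mul, U_mul]
  congr 1 <;> ring

theorem A2_comm {x y : SpecialLinearGroup (Fin 3) F} (hx : x ∈ (A2 : Subgroup _))
    (hy : y ∈ (A2 : Subgroup _)) : x * y = y * x := by
  obtain ⟨b, c, rfl⟩ := hx
  obtain ⟨b', c', rfl⟩ := hy
  rw [U_mul, U_mul]
  congr 1 <;> ring

/-- Classification: a subgroup of `Usub` of exponent 2 lies in `A1` or in `A2`. -/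
theorem le_A1_or_le_A2 [CharP F 2] (E : Subgroup (SpecialLinearGroup (Fin 3) F))
    (hE : E ≤ Usub) (hsq : ∀ x ∈ E, x ^ 2 = 1) : E ≤ A1 ∨ E ≤ A2 := by
  by_cases h : ∀ x ∈ E, x ∈ (A2 : Subgroup _)
  · exact Or.inr h
  · left
    push Not at h
    obtain ⟨x, hxE, hxA⟩ := h
    obtain ⟨a, b, c, rfl⟩ := hE hxE
    have ha : a ≠ 0 := fun h0 => hxA (U_mem_A2.mpr h0)
    intro y hy
    obtain ⟨a', b', c', rfl⟩ := hE hy
    rw [U_mem_A1]
    -- squares of x, y, xy are trivial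
    have hx2 := hsq _ hxE
    have hy2 := hsq _ hy
    have hxy2 := hsq _ (E.mul_mem hxE hy)
    rw [U_sq, ← U_zero] at hx2 hy2
    rw [U_mul, U_sq, ← U_zero] at hxy2
    have e1 := (U_inj hx2).2.2
    have e2 := (U_inj hy2).2.2
    have e3 := (U_inj hxy2).2.2
    have hb : b = 0 := (mul_eq_zero.mp e1).resolve_left ha
    subst hb
    -- (a + a') * b' = 0 and a' * b' = 0 give a * b' = 0
    have : a * b' = 0 := by linear_combination e3 - e2
    exact (mul_eq_zero.mp this).resolve_left ha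


theorem card_Usub : Nat.card (Usub : Subgroup (SpecialLinearGroup (Fin 3) F)) = Nat.card F ^ 3 := by
  have e : (F × F × F) ≃ (Usub : Subgroup (SpecialLinearGroup (Fin 3) F)) :=
    Equiv.ofBijective (fun t => ⟨U t.1 t.2.1 t.2.2, ⟨_, _, _, rfl⟩⟩) (by
      constructor
      · rintro ⟨a, b, c⟩ ⟨a', b', c'⟩ h
        obtain ⟨h1, h2, h3⟩ := U_inj (congrArg Subtype.val h)
        simp only at h1 h2 h3
        rw [h1, h2, h3]
      · rintro ⟨_, a, b, c, rfl⟩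
        exact ⟨(a, b, c), rfl⟩)
  rw [← Nat.card_congr e, Nat.card_prod, Nat.card_prod]
  ring

theorem card_A1 : Nat.card (A1 : Subgroup (SpecialLinearGroup (Fin 3) F)) = Nat.card F ^ 2 := by
  have e : (F × F) ≃ (A1 : Subgroup (SpecialLinearGroup (Fin 3) F)) :=
    Equiv.ofBijective (fun t => ⟨U t.1 0 t.2, ⟨_, _, rfl⟩⟩) (by
      constructor
      · rintro ⟨a, c⟩ ⟨a', c'⟩ h
        obtain ⟨h1, -, h3⟩ := U_inj (congrArg Subtype.val h)
        simp only at h1 h3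
        rw [h1, h3]
      · rintro ⟨_, a, c, rfl⟩
        exact ⟨(a, c), rfl⟩)
  rw [← Nat.card_congr e, Nat.card_prod]
  ring

theorem card_A2 : Nat.card (A2 : Subgroup (SpecialLinearGroup (Fin 3) F)) = Nat.card F ^ 2 := by
  have e : (F × F) ≃ (A2 : Subgroup (SpecialLinearGroup (Fin 3) F)) :=
    Equiv.ofBijective (fun t => ⟨U 0 t.1 t.2, ⟨_, _, rfl⟩⟩) (by
      constructor
      · rintro ⟨b, c⟩ ⟨b', c'⟩ h
        obtain ⟨-, h2, h3⟩ := U_inj (congrArg Subtype.val h)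
        simp only at h2 h3
        rw [h2, h3]
      · rintro ⟨_, b, c, rfl⟩
        exact ⟨(b, c), rfl⟩)
  rw [← Nat.card_congr e, Nat.card_prod]
  ring

theorem A1_ne_A2 : (A1 : Subgroup (SpecialLinearGroup (Fin 3) F)) ≠ A2 := by
  intro h
  have h1 : U (1 : F) 0 0 ∈ (A1 : Subgroup _) := ⟨1, 0, rfl⟩
  rw [h, U_mem_A2] at h1
  exact one_ne_zero h1

/-- Classification with cardinality: a subgroup of `Usub` of exponent 2 and of the order of `A1`
is `A1` or `A2`. -/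
theorem eq_A1_or_eq_A2 [Finite F] [CharP F 2] (E : Subgroup (SpecialLinearGroup (Fin 3) F))
    (hE : E ≤ Usub) (hsq : ∀ x ∈ E, x ^ 2 = 1) (hcard : Nat.card E = Nat.card F ^ 2) :
    E = A1 ∨ E = A2 := by
  have : Finite (Matrix.SpecialLinearGroup (Fin 3) F) := by
    unfold Matrix.SpecialLinearGroup
    infer_instance
  rcases le_A1_or_le_A2 E hE hsq with h | h
  · left
    exact Subgroup.eq_of_le_of_card_ge h (by rw [hcard, card_A1])
  · right
    exact Subgroup.eq_of_le_of_card_ge h (by rw [hcard, card_A2])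

end Cfsg.Agent.S3154P
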