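import Mathlib
import Cfsg.Agent.Helper8.S3154HEIS
import Cfsg.Agent.Helper11.L34Gens

/-! # S3154, piece PSL: the images of `Usub`, `A1`, `A2` in `PSL₃(F)`, `|F| = 4` -/

set_option autoImplicit false

namespace Cfsg.Agent.S3154P

open Matrix

variable {F : Type*} [Field F]

/-- the quotient map `SL₃(F) → PSL₃(F)` -/
noncomputable def mkL : SpecialLinearGroup (Fin 3) F →* ProjectiveSpecialLinearGroup (Fin 3) F :=
  QuotientGroup.mk' (Subgroup.center (SpecialLinearGroup (Fin 3) F))

theorem mkL_surjective : Function.Surjective (mkL : SpecialLinearGroup (Fin 3) F →* _) :=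
  QuotientGroup.mk'_surjective _

theorem mkL_ker : (mkL : SpecialLinearGroup (Fin 3) F →* _).ker =
    Subgroup.center (SpecialLinearGroup (Fin 3) F) :=
  QuotientGroup.ker_mk' _

/-- a unitriangular central element is trivial -/
theorem U_center {a b c : F} (h : U a b c ∈ Subgroup.center (SpecialLinearGroup (Fin 3) F)) :
    a = 0 ∧ b = 0 ∧ c = 0 := by
  obtain ⟨r, -, hr⟩ := Matrix.SpecialLinearGroup.mem_center_iff.mp h
  have h01 := congrFun (congrFun hr 0) 1
  have h12 := congrFun (congrFun hr 1) 2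
  have h02 := congrFun (congrFun hr 0) 2
  simp [uMat, Matrix.scalar, Matrix.diagonal] at h01 h12 h02
  exact ⟨h01.symm, h12.symm, h02.symm⟩

theorem Usub_inf_center :
    (Usub : Subgroup (SpecialLinearGroup (Fin 3) F)) ⊓ Subgroup.center _ = ⊥ := by
  rw [eq_bot_iff]
  rintro x ⟨⟨a, b, c, rfl⟩, hc⟩
  obtain ⟨rfl, rfl, rfl⟩ := U_center hc
  rw [U_zero]
  exact Subgroup.mem_bot.mpr rfl

theorem mkL_injOn_Usub {x y : SpecialLinearGroup (Fin 3) F} (hx : x ∈ (Usub : Subgroup _))
    (hy : y ∈ (Usub : Subgroup _)) (h : mkL x = mkL y) : x = y := by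
  have h1 : x⁻¹ * y ∈ (mkL : SpecialLinearGroup (Fin 3) F →* _).ker := by
    rw [MonoidHom.mem_ker, map_mul, map_inv, h, inv_mul_cancel]
  rw [mkL_ker] at h1
  have h2 : x⁻¹ * y ∈ (Usub : Subgroup _) ⊓ Subgroup.center _ :=
    ⟨Subgroup.mul_mem _ (Subgroup.inv_mem _ hx) hy, h1⟩
  rw [Usub_inf_center, Subgroup.mem_bot] at h2
  exact inv_mul_eq_one.mp h2


/-- cardinality of the image of a subgroup under a hom injective on it -/
theorem card_map_of_injOn {G H : Type*} [Group G] [Group H] (f : G →* H) (E : Subgroup G)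
    (h : ∀ x ∈ E, ∀ y ∈ E, f x = f y → x = y) : Nat.card (E.map f) = Nat.card E := by
  symm
  apply Nat.card_congr
  refine Equiv.ofBijective (fun x : E => (⟨f x, Subgroup.mem_map_of_mem f x.2⟩ : E.map f)) ⟨?_, ?_⟩
  · rintro ⟨x, hx⟩ ⟨y, hy⟩ hxy
    have : f x = f y := congrArg Subtype.val hxy
    exact Subtype.ext (h x hx y hy this)
  · rintro ⟨_, x, hx, rfl⟩
    exact ⟨⟨x, hx⟩, rfl⟩

/-- the images in `PSL₃(F)` -/
noncomputable def Ubar : Subgroup (ProjectiveSpecialLinearGroup (Fin 3) F) := Usub.map mkL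
/-- image of `A1` -/
noncomputable def A1bar : Subgroup (ProjectiveSpecialLinearGroup (Fin 3) F) := A1.map mkL
/-- image of `A2` -/
noncomputable def A2bar : Subgroup (ProjectiveSpecialLinearGroup (Fin 3) F) := A2.map mkL

theorem A1bar_le_Ubar : (A1bar : Subgroup (ProjectiveSpecialLinearGroup (Fin 3) F)) ≤ Ubar :=
  Subgroup.map_mono A1_le_Usub

theorem A2bar_le_Ubar : (A2bar : Subgroup (ProjectiveSpecialLinearGroup (Fin 3) F)) ≤ Ubar :=
  Subgroup.map_mono A2_le_Usub

theorem A1bar_sup_A2bar :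
    (A1bar : Subgroup (ProjectiveSpecialLinearGroup (Fin 3) F)) ⊔ A2bar = Ubar := by
  unfold A1bar A2bar Ubar
  rw [← Subgroup.map_sup, A1_sup_A2]

theorem card_map_mkL (E : Subgroup (SpecialLinearGroup (Fin 3) F)) (hE : E ≤ Usub) :
    Nat.card (E.map mkL) = Nat.card E :=
  card_map_of_injOn mkL E fun _ hx _ hy h => mkL_injOn_Usub (hE hx) (hE hy) h

theorem card_Ubar : Nat.card (Ubar : Subgroup (ProjectiveSpecialLinearGroup (Fin 3) F)) =
    Nat.card F ^ 3 := by
  unfold Ubar
  rw [card_map_mkL _ le_rfl, card_Usub]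

theorem card_A1bar : Nat.card (A1bar : Subgroup (ProjectiveSpecialLinearGroup (Fin 3) F)) =
    Nat.card F ^ 2 := by
  unfold A1bar
  rw [card_map_mkL _ A1_le_Usub, card_A1]

theorem card_A2bar : Nat.card (A2bar : Subgroup (ProjectiveSpecialLinearGroup (Fin 3) F)) =
    Nat.card F ^ 2 := by
  unfold A2bar
  rw [card_map_mkL _ A2_le_Usub, card_A2]

/-- pulling back a subgroup of `Ubar` to `Usub` -/
theorem map_pullback (A : Subgroup (ProjectiveSpecialLinearGroup (Fin 3) F)) (hA : A ≤ Ubar) :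
    ((Usub : Subgroup (SpecialLinearGroup (Fin 3) F)) ⊓ A.comap mkL).map mkL = A := by
  apply le_antisymm
  · rintro _ ⟨x, ⟨-, hx⟩, rfl⟩
    exact hx
  · intro y hy
    obtain ⟨x, hxU, rfl⟩ := hA hy
    exact ⟨x, ⟨hxU, hy⟩, rfl⟩

/-- Classification in `Ubar`: a subgroup of exponent 2 and order `|F|²` is `A1bar` or `A2bar`. -/
theorem eq_A1bar_or_eq_A2bar [Finite F] [CharP F 2]
    (A : Subgroup (ProjectiveSpecialLinearGroup (Fin 3) F)) (hA : A ≤ Ubar)
    (hsq : ∀ x ∈ A, x ^ 2 = 1) (hcard : Nat.card A = Nat.card F ^ 2) :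
    A = A1bar ∨ A = A2bar := by
  set E := (Usub : Subgroup (SpecialLinearGroup (Fin 3) F)) ⊓ A.comap mkL with hE
  have hEU : E ≤ Usub := inf_le_left
  have hmap : E.map mkL = A := map_pullback A hA
  have hEcard : Nat.card E = Nat.card F ^ 2 := by
    rw [← card_map_mkL E hEU, hmap, hcard]
  have hEsq : ∀ x ∈ E, x ^ 2 = 1 := by
    intro x hx
    have h1 : mkL (x ^ 2) = 1 := by
      rw [map_pow]
      exact hsq _ hx.2
    have h2 : x ^ 2 ∈ (Usub : Subgroup _) ⊓ Subgroup.center (SpecialLinearGroup (Fin 3) F) := by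
      refine ⟨Subgroup.pow_mem _ hx.1 2, ?_⟩
      rw [← mkL_ker]
      exact h1
    rw [Usub_inf_center, Subgroup.mem_bot] at h2
    exact h2
  rcases eq_A1_or_eq_A2 E hEU hEsq hEcard with h | h
  · left
    rw [← hmap, h]
    rfl
  · right
    rw [← hmap, h]
    rfl


section Card4

variable [Fintype F]

theorem charP_two (hF : Fintype.card F = 4) : CharP F 2 := by
  have h2 : (2 : F) = 0 := Cfsg.Agent.Helper11.PSL34.two_eq_zero hF
  exact CharTwo.of_one_ne_zero_of_two_eq_zero one_ne_zero h2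

theorem finite_psl : Finite (ProjectiveSpecialLinearGroup (Fin 3) F) := by
  have : Finite (Matrix.SpecialLinearGroup (Fin 3) F) := by
    unfold Matrix.SpecialLinearGroup
    infer_instance
  unfold ProjectiveSpecialLinearGroup
  infer_instance

theorem factorization_card_psl (hF : Fintype.card F = 4) :
    (Nat.card (ProjectiveSpecialLinearGroup (Fin 3) F)).factorization 2 = 6 := by
  rw [Cfsg.Agent.Helper11.L34.card_psl34 hF]
  have h : (20160 : ℕ) = 2 ^ 6 * 315 := by norm_num
  rw [h, Nat.factorization_mul (by norm_num) (by norm_num), Nat.Prime.factorization_pow Nat.prime_two]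
  have h315 : (Nat.factorization 315) 2 = 0 :=
    Nat.factorization_eq_zero_of_not_dvd (by norm_num)
  simp [h315]

/-- every Sylow 2-subgroup of `PSL₃(4)` is a conjugate of `Ubar` -/
theorem exists_conj_Ubar (hF : Fintype.card F = 4)
    (T : Sylow 2 (ProjectiveSpecialLinearGroup (Fin 3) F)) :
    ∃ g : ProjectiveSpecialLinearGroup (Fin 3) F,
      (T : Subgroup _) = (Ubar : Subgroup _).map (MulAut.conj g).toMonoidHom := by
  haveI := finite_psl (F := F)
  have hc : Nat.card (Ubar : Subgroup (ProjectiveSpecialLinearGroup (Fin 3) F)) =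
      2 ^ (Nat.card (ProjectiveSpecialLinearGroup (Fin 3) F)).factorization 2 := by
    rw [card_Ubar, factorization_card_psl hF, Nat.card_eq_fintype_card, hF]
    norm_num
  let S : Sylow 2 (ProjectiveSpecialLinearGroup (Fin 3) F) := Sylow.ofCard Ubar hc
  obtain ⟨g, hg⟩ := MulAction.exists_smul_eq (ProjectiveSpecialLinearGroup (Fin 3) F) S T
  refine ⟨g, ?_⟩
  rw [← hg]
  rfl

end Card4

end Cfsg.Agent.S3154P
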