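import Mathlib
import Cfsg.Agent.Helper8.S3154PSL

/-! # S3154: definitions shared by the pieces

* `Good P Tb A B`: the facts about a pair `A, B` of subgroups of a 2-group `Tb` of a group `L` that
  the abstract part of the argument uses (`P` is the quotient `N_L(A) / A`).
* `P1`, `P2`: the two maximal parabolic subgroups of `SL₃(F)` containing the upper unitriangular
  group; they are the full preimages of the normalisers of `A1bar`, `A2bar`.
-/

set_option autoImplicit false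

namespace Cfsg.Agent.S3154P

open Matrix

/-- the facts about `A, B ≤ Tb ≤ L` used by the abstract part of S3154 -/
structure Good {L : Type*} [Group L] (P : Type*) [Group P] (Tb A B : Subgroup L) : Prop where
  sup : A ⊔ B = Tb
  norm : Tb ≤ Subgroup.normalizer (A : Set L)
  cent : ∀ t ∈ Tb, (∀ s ∈ Tb, s * t = t * s) → t ∈ A ⊓ B
  trans : ∀ a ∈ A, a ≠ 1 → ∀ a' ∈ A, a' ≠ 1 → ∃ g : L, g * a * g⁻¹ = a'
  hom : ∃ φ : Subgroup.normalizer (A : Set L) →* P, Function.Surjective φ ∧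
    φ.ker = A.subgroupOf (Subgroup.normalizer (A : Set L))

variable {F : Type*} [Field F]

/-- the stabiliser of the line `⟨e₀⟩`: first column `(λ,0,0)` -/
def P1 : Subgroup (Matrix.SpecialLinearGroup (Fin 3) F) where
  carrier := {g | g.1 1 0 = 0 ∧ g.1 2 0 = 0}
  one_mem' := by simp
  mul_mem' := by
    rintro g h ⟨g1, g2⟩ ⟨h1, h2⟩
    simp only [Set.mem_ofPred_eq, Matrix.SpecialLinearGroup.coe_mul, Matrix.mul_apply,
      Fin.sum_univ_three] at *
    simp [g1, g2, h1, h2]
  inv_mem' := by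
    rintro g ⟨g1, g2⟩
    simp only [Set.mem_ofPred_eq, Matrix.SpecialLinearGroup.coe_inv, Matrix.adjugate_fin_three] at *
    simp [g1, g2]

theorem mem_P1 {g : Matrix.SpecialLinearGroup (Fin 3) F} : g ∈ P1 ↔ g.1 1 0 = 0 ∧ g.1 2 0 = 0 :=
  Iff.rfl

/-- the stabiliser of the plane `⟨e₀,e₁⟩`: last row `(0,0,μ)` -/
def P2 : Subgroup (Matrix.SpecialLinearGroup (Fin 3) F) where
  carrier := {g | g.1 2 0 = 0 ∧ g.1 2 1 = 0}
  one_mem' := by simp
  mul_mem' := by
    rintro g h ⟨g1, g2⟩ ⟨h1, h2⟩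
    simp only [Set.mem_ofPred_eq, Matrix.SpecialLinearGroup.coe_mul, Matrix.mul_apply,
      Fin.sum_univ_three] at *
    simp [g1, g2, h1, h2]
  inv_mem' := by
    rintro g ⟨g1, g2⟩
    simp only [Set.mem_ofPred_eq, Matrix.SpecialLinearGroup.coe_inv, Matrix.adjugate_fin_three] at *
    simp [g1, g2]

theorem mem_P2 {g : Matrix.SpecialLinearGroup (Fin 3) F} : g ∈ P2 ↔ g.1 2 0 = 0 ∧ g.1 2 1 = 0 :=
  Iff.rfl

end Cfsg.Agent.S3154P
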