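import Mathlib
import Cfsg.Agent.Helper11.S4409Defs
import Cfsg.Agent.Helper14.S4409V3

/-! Board `s4409pieces`, row NV4: no `2`-subgroup over a normal self-centralising four-group has `HasA`. -/

set_option autoImplicit false
set_option linter.unusedSectionVars false

namespace Cfsg.Agent.S4409P

open Subgroup
open scoped commutatorElement

variable {S : Type*} [Group S] [Finite S]

/-- NV4 -/
theorem no_hasA_over_v4 (N P : Subgroup S) (hN : IsV4 N) (hNn : N.Normal) (hC : centralizer (N : Set S) ≤ N)
    (hP : IsPGroup 2 ↥P) (hNP : N ≤ P) : ¬ HasA P := by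
  rintro ⟨A, hAP, hAc, hAnc, hA8⟩
  have hPN : P ≤ normalizer (N : Set S) := by
    rw [Subgroup.normalizer_eq_top]; exact le_top
  have hN4 : Nat.card ↥N = 4 := hN.1
  have hcard : Nat.card ↥P ≤ 8 := by
    rcases v4_idx N P hN hP hNP hPN with h | h
    · have h1 : P ≤ N := h.trans hC
      have h2 := Subgroup.card_le_of_le h1
      omega
    · have h1 : (P ⊓ centralizer (N : Set S)) ≤ N := inf_le_right.trans hC
      have h2 := Subgroup.card_le_of_le h1
      have h3 : Nat.card ↥(P ⊓ centralizer (N : Set S)) * (P ⊓ centralizer (N : Set S)).relIndex P = Nat.card ↥P := by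
        have := Subgroup.relIndex_mul_relIndex (H := ⊥) (K := P ⊓ centralizer (N : Set S)) (L := P) bot_le inf_le_left
        rwa [Subgroup.relIndex_bot_left, Subgroup.relIndex_bot_left] at this
      rw [h] at h3
      omega
  have hAeq : A = P := Subgroup.eq_of_le_of_card_ge hAP (by rw [hA8]; exact hcard)
  subst hAeq
  have h1 : A ≤ centralizer (N : Set S) := by
    intro x hx
    rw [Subgroup.mem_centralizer_iff]
    intro n hn
    have := hAc.is_comm.comm (⟨n, hNP hn⟩ : ↥A) ⟨x, hx⟩
    exact congrArg Subtype.val this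
  have h2 := Subgroup.card_le_of_le (h1.trans hC)
  omega

end Cfsg.Agent.S4409P
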