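import Mathlib
import Cfsg.Agent.Helper11.S4409Defs
import Cfsg.Agent.Helper6.S4409CA1
import Cfsg.Agent.Helper15.S4409CA1N
import Cfsg.Agent.Helper15.S4409CA2
import Cfsg.Agent.Helper10.S4409CA3
import Cfsg.Agent.Helper9.S4409V
import Cfsg.Agent.Helper22.S4409V5

/-! Board `s4409pieces`, row P2BV: a minimal `X` with `[X,K]` a proper four-group is abelian. -/

set_option autoImplicit false
set_option linter.unusedSectionVars false

namespace Cfsg.Agent.S4409P

open Subgroup
open scoped commutatorElement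

variable {S : Type*} [Group S] [Finite S]

/-- an element normalising `A` and `B` normalises `A ⊔ B`. -/
theorem P2BV_aux_normalizer_sup {A B : Subgroup S} {k : S} (hA : k ∈ normalizer (A : Set S))
    (hB : k ∈ normalizer (B : Set S)) : k ∈ normalizer ((A ⊔ B : Subgroup S) : Set S) := by
  have key : ∀ g : S, g ∈ normalizer (A : Set S) → g ∈ normalizer (B : Set S) →
      ∀ h ∈ A ⊔ B, g * h * g⁻¹ ∈ A ⊔ B := by
    intro g hgA hgB h hh
    have hmap : (A ⊔ B).map (MulAut.conj g).toMonoidHom ≤ A ⊔ B := by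
      rw [Subgroup.map_sup]
      apply sup_le_sup
      · rintro _ ⟨a, ha, rfl⟩
        exact (Subgroup.mem_normalizer_iff.mp hgA a).mp ha
      · rintro _ ⟨b, hb, rfl⟩
        exact (Subgroup.mem_normalizer_iff.mp hgB b).mp hb
    exact hmap ⟨h, hh, rfl⟩
  rw [Subgroup.mem_normalizer_iff]
  intro h
  constructor
  · exact key k hA hB h
  · intro hh
    have := key k⁻¹ (Subgroup.inv_mem _ hA) (Subgroup.inv_mem _ hB) _ hh
    have e : k⁻¹ * (k * h * k⁻¹) * k⁻¹⁻¹ = h := by group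
    rwa [e] at this

/-- an element centralising `c` normalises `zpowers c`. -/
theorem P2BV_aux_normalizer_zpowers {c k : S} (h : k * c = c * k) :
    k ∈ normalizer ((zpowers c : Subgroup S) : Set S) := by
  have hcen : ∀ x ∈ zpowers c, k * x * k⁻¹ = x := by
    intro x hx
    obtain ⟨n, rfl⟩ := Subgroup.mem_zpowers_iff.mp hx
    have : Commute k (c ^ n) := (show Commute k c from h).zpow_right n
    rw [this.eq]; group
  rw [Subgroup.mem_normalizer_iff]
  intro x
  constructor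
  · intro hx; rw [hcen x hx]; exact hx
  · intro hx
    have h2 := hcen _ hx
    -- k * (k x k⁻¹) * k⁻¹ = k x k⁻¹, so k x k⁻¹ = x
    have h3 : k * x * k⁻¹ = x := by
      have : k * (k * x * k⁻¹) * k⁻¹ = k * x * k⁻¹ := h2
      have e : k * (k * x * k⁻¹) * k⁻¹ = k * (k * x * k⁻¹) * k⁻¹ := rfl
      calc k * x * k⁻¹ = k⁻¹ * (k * (k * x * k⁻¹) * k⁻¹) * k := by group
        _ = k⁻¹ * (k * x * k⁻¹) * k := by rw [this]
        _ = x := by group
    rwa [h3] at hx

/-- P2BV -/
theorem struct_v4 (X K : Subgroup S) (hX : IsPGroup 2 ↥X) (hK : Odd (Nat.card ↥K)) (hKX : K ≤ normalizer (X : Set S))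
    (hM : MinA X K) (hlt : ⁅X, K⁆ ≠ X) (hV : IsV4 ⁅X, K⁆) : IsAb X := by
  set L : Subgroup S := ⁅X, K⁆ with hLdef
  have hLX : L ≤ X := comm_le X K hKX
  obtain ⟨hXL, hKL⟩ := comm_normal X K hKX
  have hLL : ⁅L, K⁆ = L := comm_comm X K hX hK hKX
  have hLne : ⁅L, K⁆ ≠ ⊥ := by
    rw [hLL]
    intro h
    have h4 : Nat.card ↥L = 4 := hV.1
    rw [h] at h4
    simp at h4
  have hsup : L ⊔ (X ⊓ centralizer (K : Set S)) = X := comm_sup_cent X K hX hK hKX
  -- every element of `C_X(K)` centralises `L`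
  have hcen : ∀ c ∈ X ⊓ centralizer (K : Set S), c ∈ centralizer (L : Set S) := by
    intro c hc
    obtain ⟨hcX, hcK⟩ := Subgroup.mem_inf.mp hc
    refine v4_cen L K hV hK hKL hLne c (hXL hcX) hcK ?_
    obtain ⟨n, hn⟩ := (IsPGroup.iff_orderOf.mp hX) ⟨c, hcX⟩
    refine ⟨n, ?_⟩
    have h1 : (⟨c, hcX⟩ : ↥X) ^ (2 ^ n) = 1 := by rw [← hn]; exact pow_orderOf_eq_one _
    exact congrArg Subtype.val h1
  -- some `c ∈ C_X(K)` is outside `L`
  have hex : ∃ c ∈ X ⊓ centralizer (K : Set S), c ∉ L := by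
    by_contra hcon
    have hle : X ⊓ centralizer (K : Set S) ≤ L := by
      intro c hc
      by_contra hcL
      exact hcon ⟨c, hc, hcL⟩
    have hXL' : X ≤ L := by
      calc X = L ⊔ (X ⊓ centralizer (K : Set S)) := hsup.symm
        _ ≤ L := sup_le le_rfl hle
    exact hlt (le_antisymm hLX hXL')
  obtain ⟨c, hc, hcL⟩ := hex
  obtain ⟨hcX, hcK⟩ := Subgroup.mem_inf.mp hc
  have hcCL : c ∈ centralizer (L : Set S) := hcen c hc
  have hc2 : ∃ n : ℕ, c ^ (2 ^ n) = 1 := by
    obtain ⟨n, hn⟩ := (IsPGroup.iff_orderOf.mp hX) ⟨c, hcX⟩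
    refine ⟨n, ?_⟩
    have h1 : (⟨c, hcX⟩ : ↥X) ^ (2 ^ n) = 1 := by rw [← hn]; exact pow_orderOf_eq_one _
    exact congrArg Subtype.val h1
  have hHas : HasA (L ⊔ zpowers c) := v4_hasA L hV c hcCL hcL hc2
  have hYX : L ⊔ zpowers c ≤ X := sup_le hLX (by rw [Subgroup.zpowers_le]; exact hcX)
  have hKY : K ≤ normalizer ((L ⊔ zpowers c : Subgroup S) : Set S) := by
    intro k hk
    apply P2BV_aux_normalizer_sup (hKL hk)
    apply P2BV_aux_normalizer_zpowers
    exact ((Subgroup.mem_centralizer_iff.mp hcK) k hk)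
  have hYeq : L ⊔ zpowers c = X := by
    by_contra hne
    exact hM _ hYX hne hKY hHas
  -- `L ⊔ zpowers c` is abelian
  have hLab : IsAb L := IsV4.isAb hV
  have hL1 : L ≤ centralizer (L : Set S) := by
    intro x hx
    rw [Subgroup.mem_centralizer_iff]
    intro y hy
    exact hLab y hy x hx
  have hZ1 : zpowers c ≤ centralizer (L : Set S) := by
    rw [Subgroup.zpowers_le]; exact hcCL
  have hZ2 : zpowers c ≤ centralizer ((zpowers c : Subgroup S) : Set S) := by
    intro x hx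
    rw [Subgroup.mem_centralizer_iff]
    intro y hy
    obtain ⟨n, rfl⟩ := Subgroup.mem_zpowers_iff.mp hx
    obtain ⟨m, rfl⟩ := Subgroup.mem_zpowers_iff.mp hy
    exact (zpow_mul_comm c m n)
  have hL2 : L ≤ centralizer ((zpowers c : Subgroup S) : Set S) := by
    intro x hx
    rw [Subgroup.mem_centralizer_iff]
    intro y hy
    have := (Subgroup.mem_centralizer_iff.mp (hZ1 hy)) x hx
    exact this.symm
  have h1 : L ⊔ zpowers c ≤ centralizer (L : Set S) := sup_le hL1 hZ1
  have h2 : L ⊔ zpowers c ≤ centralizer ((zpowers c : Subgroup S) : Set S) := sup_le hL2 hZ2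
  have h3 : L ⊔ zpowers c ≤ centralizer ((L ⊔ zpowers c : Subgroup S) : Set S) := by
    apply sup_le
    · exact Subgroup.le_centralizer_iff.mp h1
    · exact Subgroup.le_centralizer_iff.mp h2
  rw [hYeq] at h3
  intro x hx y hy
  exact ((Subgroup.mem_centralizer_iff.mp (h3 hx)) y hy).symm

end Cfsg.Agent.S4409P
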