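import Mathlib
import Cfsg.Prelude.Def_Transfer
import Cfsg.Agent.Helper11.S4409Defs

/-! Board `s4409pieces`, rows TR2 and TR3: translation between the internal `Zc`, `Der`, `Fr` and the centre, derived subgroup,
Frattini subgroup of the subtype `↥P`. -/

set_option autoImplicit false
set_option linter.unusedSectionVars false

namespace Cfsg.Agent.S4409P

open Subgroup
open scoped commutatorElement

variable {S : Type*} [Group S] [Finite S]

omit [Finite S] in
theorem TR3_aux_map_center (P : Subgroup S) : (Subgroup.center ↥P).map P.subtype = Zc P := by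
  ext x
  rw [mem_Zc, Subgroup.mem_map]
  constructor
  · rintro ⟨y, hy, rfl⟩
    refine ⟨y.2, fun z hz => ?_⟩
    have := Subgroup.mem_center_iff.mp hy ⟨z, hz⟩
    exact congrArg Subtype.val this
  · rintro ⟨hx, h⟩
    refine ⟨⟨x, hx⟩, ?_, rfl⟩
    rw [Subgroup.mem_center_iff]
    intro z
    exact Subtype.ext (h z.1 z.2)

omit [Finite S] in
theorem TR2_aux_map_commutator (P : Subgroup S) : (_root_.commutator ↥P).map P.subtype = Der P := by
  unfold Der
  exact Subgroup.map_subtype_commutator P

/-- TR2 -/
theorem special_of_int (P : Subgroup S) (hP : IsPGroup 2 ↥P) (hs : SpecialInt P) : Cfsg.IsSpecial 2 ↥P := by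
  obtain ⟨h1, h2⟩ := hs
  refine ⟨hP, ?_, ?_⟩
  · apply Subgroup.map_injective P.subtype_injective
    rw [TR3_aux_map_center]
    exact h1
  · apply Subgroup.map_injective P.subtype_injective
    rw [TR3_aux_map_center, TR2_aux_map_commutator]
    exact h2

/-- TR3 -/
theorem card_center (P : Subgroup S) : Nat.card ↥(Subgroup.center ↥P) = Nat.card ↥(Zc P) := by
  rw [← TR3_aux_map_center]
  exact (Subgroup.card_map_of_injective P.subtype_injective).symm

end Cfsg.Agent.S4409P
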