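import Mathlib
import Cfsg.Agent.Helper3.S5655EVDefs
import Cfsg.Agent.Helper19.S5655EVMUCARD

set_option autoImplicit false
set_option linter.unusedSectionVars false
set_option linter.unusedVariables false

/-! # S5655 k = 1, chapter "q EVEN": piece E1PAIR -/

namespace Cfsg.Agent.S5655K1.EV

open Matrix
open Cfsg.Agent.S2644 Cfsg.Agent.Helper2.SUGen Cfsg.Agent.Helper28.SimMax Cfsg.Agent.S5658P

variable {K : Type*} [Field K] {q n : ℕ}

local notation "h" => Cfsg.hermForm n K q
local notation "T" => Cfsg.unitaryTransvection n q

namespace E1PAIR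

theorem wt_pos_of_ne_zero {v : Fin n → K} (hv : v ≠ 0) : 1 ≤ wt v := by
  by_contra hcon
  have h0 : wt v = 0 := by omega
  apply hv
  funext i
  by_contra hi
  have : i ∈ supp v := mem_supp.2 hi
  unfold wt at h0
  rw [Finset.card_eq_zero] at h0
  rw [h0] at this
  exact (Finset.notMem_empty i) this

end E1PAIR

open Classical in
theorem E1PAIR.main [Fintype K] (D : Frob K q) (hK : Fintype.card K = q ^ 2) (hq : 2 ≤ q)
    {x y : Fin n → K} (hxx : h x x = 1)
    (hw : ∀ l : K, l * D.σ l = 1 → wt (x + l • y) = 2) :
    wt x = 1 ∨ (supp y ⊆ supp x ∧ wt x ≤ 3) := by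
  set μ : Finset K := Finset.univ.filter (fun l : K => l * D.σ l = 1) with hμ
  have hμc : μ.card = q + 1 := MUCARD.card D hK
  have hmem : ∀ l : K, l ∈ μ ↔ l * D.σ l = 1 := by
    intro l
    simp [hμ]
  set U : Finset (Fin n) := supp x ∪ supp y with hU
  have hxU : supp x ⊆ U := by rw [hU]; exact Finset.subset_union_left
  have hyU : supp y ⊆ U := by rw [hU]; exact Finset.subset_union_right
  have hx0 : x ≠ 0 := by
    rintro rfl
    rw [h_zero_left] at hxx
    exact zero_ne_one hxx
  have hwx : 1 ≤ wt x := E1PAIR.wt_pos_of_ne_zero hx0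
  -- support of `x + l y`
  have hsupp : ∀ l : K, supp (x + l • y) = U.filter (fun i => (x + l • y) i ≠ 0) := by
    intro l
    ext i
    rw [mem_supp, Finset.mem_filter]
    constructor
    · intro hi
      refine ⟨?_, hi⟩
      rw [hU, Finset.mem_union, mem_supp, mem_supp]
      by_contra hcon
      push Not at hcon
      apply hi
      simp [hcon.1, hcon.2]
    · exact fun hi => hi.2
  -- the number of `l` with non-zero coordinate `i`
  set N : Fin n → ℕ := fun i => (μ.filter (fun l => (x + l • y) i ≠ 0)).card with hN
  -- double counting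
  have hcount : ∑ i ∈ U, N i = 2 * (q + 1) := by
    have h1 : ∑ l ∈ μ, wt (x + l • y) = 2 * (q + 1) := by
      rw [Finset.sum_congr rfl (fun l hl => hw l ((hmem l).1 hl)), Finset.sum_const, hμc,
        smul_eq_mul, mul_comm]
    rw [← h1]
    have h2 : ∀ l ∈ μ, wt (x + l • y) = ∑ i ∈ U, if (x + l • y) i ≠ 0 then 1 else 0 := by
      intro l _
      unfold wt
      rw [hsupp l, Finset.card_filter]
    rw [Finset.sum_congr rfl h2, Finset.sum_comm]
    apply Finset.sum_congr rfl
    intro i _
    rw [hN]
    simp only
    rw [Finset.card_filter]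
  -- bounds
  have hlow : ∀ i ∈ U, q + (if i ∈ supp x then 0 else 1) ≤ N i := by
    intro i hi
    have hsplit : N i + (μ.filter (fun l => ¬ (x + l • y) i ≠ 0)).card = q + 1 := by
      rw [hN, ← hμc]
      exact Finset.card_filter_add_card_filter_not (s := μ) (fun l => (x + l • y) i ≠ 0)
    by_cases hix : i ∈ supp x
    · rw [if_pos hix, add_zero]
      have hle : (μ.filter (fun l => ¬ (x + l • y) i ≠ 0)).card ≤ 1 := by
        rw [Finset.card_le_one]
        intro l hl l' hl'
        rw [Finset.mem_filter, not_not] at hl hl'
        have e1 : x i + l * y i = 0 := by simpa using hl.2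
        have e2 : x i + l' * y i = 0 := by simpa using hl'.2
        have hy : y i ≠ 0 := by
          intro hy
          rw [hy, mul_zero, add_zero] at e1
          exact (mem_supp.1 hix) e1
        have : (l - l') * y i = 0 := by linear_combination e1 - e2
        rcases mul_eq_zero.1 this with hh | hh
        · exact sub_eq_zero.1 hh
        · exact absurd hh hy
      omega
    · rw [if_neg hix]
      have hxi : x i = 0 := by
        by_contra hne
        exact hix (mem_supp.2 hne)
      have hyi : y i ≠ 0 := by
        rw [hU, Finset.mem_union] at hi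
        rcases hi with hi | hi
        · exact absurd hi hix
        · exact mem_supp.1 hi
      have hempty : μ.filter (fun l => ¬ (x + l • y) i ≠ 0) = ∅ := by
        rw [Finset.filter_eq_empty_iff]
        intro l hl hcon
        rw [not_not] at hcon
        have e1 : x i + l * y i = 0 := by simpa using hcon
        rw [hxi, zero_add] at e1
        rcases mul_eq_zero.1 e1 with h0 | h0
        · have := (hmem l).1 hl
          rw [h0, zero_mul] at this
          exact zero_ne_one this
        · exact hyi h0
      rw [hempty, Finset.card_empty, add_zero] at hsplit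
      omega
  set s := U.card with hs
  set b := (U \ supp x).card with hb
  have hsb : s = wt x + b := by
    have h5 : (U \ supp x).card + (supp x).card = U.card := Finset.card_sdiff_add_card_eq_card hxU
    unfold wt
    omega
  have hineq : s * q + b ≤ 2 * (q + 1) := by
    rw [← hcount]
    calc s * q + b = ∑ i ∈ U, (q + (if i ∈ supp x then 0 else 1)) := by
          rw [Finset.sum_add_distrib, Finset.sum_const, smul_eq_mul, hb, Finset.card_sdiff_of_subset hxU]
          have h3 : ∑ i ∈ U, (if i ∈ supp x then 0 else 1) = (U.filter (fun i => i ∉ supp x)).card := by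
            rw [Finset.card_filter]
            apply Finset.sum_congr rfl
            intro i _
            by_cases hi : i ∈ supp x <;> simp [hi]
          rw [h3, Finset.filter_not, Finset.card_sdiff_of_subset (Finset.filter_subset _ _)]
          have h4 : U.filter (fun i => i ∈ supp x) = supp x := by
            ext i
            rw [Finset.mem_filter]
            exact ⟨fun hh => hh.2, fun hh => ⟨hxU hh, hh⟩⟩
          rw [h4]
      _ ≤ ∑ i ∈ U, N i := Finset.sum_le_sum hlow
  -- `s ≥ 2`
  have hs2 : 2 ≤ s := by
    have hne : μ.Nonempty := by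
      rw [← Finset.card_pos, hμc]; omega
    obtain ⟨l, hl⟩ := hne
    have h2 := hw l ((hmem l).1 hl)
    unfold wt at h2
    rw [hsupp l] at h2
    rw [← h2]
    exact Finset.card_le_card (Finset.filter_subset _ _)
  by_cases h1 : wt x = 1
  · exact Or.inl h1
  right
  have hwx2 : 2 ≤ wt x := by omega
  have hb0 : b = 0 := by
    by_contra hbne
    have hb1 : 1 ≤ b := Nat.pos_of_ne_zero hbne
    have hs3 : 3 ≤ s := by omega
    have := Nat.mul_le_mul_right q hs3
    omega
  have hUx : U ⊆ supp x := by
    rw [hb, Finset.card_eq_zero, Finset.sdiff_eq_empty_iff_subset] at hb0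
    exact hb0
  refine ⟨fun i hi => hUx (hyU hi), ?_⟩
  by_contra hcon
  push Not at hcon
  have hs4 : 4 ≤ s := by omega
  have := Nat.mul_le_mul_right q hs4
  omega

end Cfsg.Agent.S5655K1.EV
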