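import Mathlib
import Cfsg.Agent.Helper3.S5655EVDefs
import Cfsg.Agent.Helper18.S5655EVE2ZERO
import Cfsg.Agent.Helper3.S5655EVE2SOLVE
import Cfsg.Agent.Helper13.S5655EVE2CENTRE

set_option autoImplicit false
set_option linter.unusedSectionVars false
set_option linter.unusedVariables false

/-! # S5655 k = 1, chapter "q EVEN": piece E2 -/

namespace Cfsg.Agent.S5655K1.EV

open Matrix
open Cfsg.Agent.S2644 Cfsg.Agent.Helper2.SUGen Cfsg.Agent.Helper28.SimMax Cfsg.Agent.S5658P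

variable {K : Type*} [Field K] {q n : ℕ}

local notation "h" => Cfsg.hermForm n K q
local notation "T" => Cfsg.unitaryTransvection n q

namespace E2

/-- three distinct points of the support give weight at least 3 -/
theorem three_le_wt {u : Fin n → K} {a b c : Fin n} (hab : a ≠ b) (hac : a ≠ c) (hbc : b ≠ c)
    (ha : u a ≠ 0) (hb : u b ≠ 0) (hc : u c ≠ 0) : 3 ≤ wt u := by
  classical
  have hsub : ({a, b, c} : Finset (Fin n)) ⊆ supp u := by
    intro i hi
    rw [Finset.mem_insert, Finset.mem_insert, Finset.mem_singleton] at hi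
    rcases hi with rfl | rfl | rfl
    · exact mem_supp.2 ha
    · exact mem_supp.2 hb
    · exact mem_supp.2 hc
  have hcard : ({a, b, c} : Finset (Fin n)).card = 3 := by
    rw [Finset.card_insert_of_notMem, Finset.card_insert_of_notMem, Finset.card_singleton]
    · simpa using hbc
    · simp [hab, hac]
  unfold wt
  rw [← hcard]
  exact Finset.card_le_card hsub

end E2

theorem E2.main [Fintype K] (D : Frob K q) (hK : Fintype.card K = q ^ 2) (hq : 4 ≤ q) (h2 : (2 : K) = 0)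
    (hn : 7 ≤ n) {M : Subgroup (Matrix.GeneralLinearGroup (Fin n) K)} (hM : Over q M) (hB : PropB M)
    {v : Fin n → K} (hvv : h v v = 0) (hv : v ≠ 0) (hT : T v (1 : K) ∈ MS M) : wt v = 2 := by
  by_cases hz : ∃ i, v i = 0
  · obtain ⟨i, hi⟩ := hz
    exact E2ZERO.main D hB hvv hv hT hi
  push Not at hz
  exfalso
  -- six points
  set r1 : Fin n := ⟨0, by omega⟩ with hr1
  set s1 : Fin n := ⟨1, by omega⟩ with hs1
  set r2 : Fin n := ⟨2, by omega⟩ with hr2
  set s2 : Fin n := ⟨3, by omega⟩ with hs2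
  set r3 : Fin n := ⟨4, by omega⟩ with hr3
  set s3 : Fin n := ⟨5, by omega⟩ with hs3
  set z0 : Fin n := ⟨6, by omega⟩ with hz0
  have hnd : [r1, s1, r2, s2, r3, s3].Nodup := by
    simp [hr1, hs1, hr2, hs2, hr3, hs3, Fin.ext_iff]
  have hz0n : z0 ∉ [r1, s1, r2, s2, r3, s3] := by
    simp [hr1, hs1, hr2, hs2, hr3, hs3, hz0, Fin.ext_iff]
  obtain ⟨t1, t2, t3, ht1, ht2, ht3, hsum, hne0, hne1⟩ :=
    E2SOLVE.main D hK hq h2 (hz r1) (hz s1) (hz r2) (hz s2) (hz r3) (hz s3)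
  -- the twists `σ t_j`
  have hs : ∀ t : K, t * D.σ t = 1 → D.σ t * D.σ (D.σ t) = 1 := by
    intro t ht
    rw [D.invol, mul_comm]; exact ht
  obtain ⟨A, hAP, hAd, hAm, hAv, hout, e1, e1', e2, e2', e3, e3'⟩ :=
    E2CENTRE.main D h2 hvv hnd (hs t1 ht1) (hs t2 ht2) (hs t3 ht3)
  simp only [D.invol] at hAv e1 e1' e2 e2' e3 e3'
  have hAM : A ∈ MS M := hM.mono_mem A hAP hAd hAm
  have hhAv : h (A *ᵥ v) v = 1 := by rw [hAv]; exact hsum
  set u : Fin n → K := A *ᵥ v + v with hu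
  have hTu : T v (1 : K) *ᵥ (A *ᵥ v) = u := by
    rw [T_mulVec, hhAv, mul_one, one_smul]
  -- `T u 1 ∈ M`
  have hTAv : T (A *ᵥ v) (1 : K) ∈ MS M := MS_conj_T D hM.le hAM hT
  have hTuM : T u (1 : K) ∈ MS M := by
    have := MS_conj_T D hM.le hT hTAv
    rwa [hTu] at this
  -- `u` is isotropic
  have hσ1 : D.σ (1 : K) = -1 := by
    rw [map_one]
    have : (1 : K) + 1 = 0 := by rw [one_add_one_eq_two]; exact h2
    exact eq_neg_of_add_eq_zero_left this
  have huu : h u u = 0 := by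
    rw [← hTu, pres_T D hvv hσ1, hAP, hvv]
  -- coordinates
  have hw3 : v r3 + t3 * v s3 ≠ 0 := by
    intro h0
    apply hne0
    rw [h0]
    unfold Nm
    rw [zero_mul]
  have hur3 : u r3 ≠ 0 := by rw [e3]; exact hw3
  have hus3 : u s3 ≠ 0 := by
    rw [e3']
    apply mul_ne_zero _ hw3
    intro h0
    rw [h0, mul_zero] at ht3
    exact zero_ne_one ht3
  have hu0 : u ≠ 0 := by
    intro h0
    apply hur3
    rw [h0]; rfl
  have hwt2 : wt u = 2 := E2ZERO.main D hB huu hu0 hTuM (hout z0 hz0n)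
  -- a third non-zero coordinate
  have h12 : v r1 + t1 * v s1 ≠ 0 ∨ v r2 + t2 * v s2 ≠ 0 := by
    by_contra hcon
    push Not at hcon
    apply hne1
    rw [hcon.1, hcon.2] at hsum
    unfold Nm at hsum ⊢
    rw [zero_mul, zero_add, zero_add] at hsum
    exact hsum
  have hr13 : r1 ≠ r3 := by simp [hr1, hr3, Fin.ext_iff]
  have hr1s3 : r1 ≠ s3 := by simp [hr1, hs3, Fin.ext_iff]
  have hr23 : r2 ≠ r3 := by simp [hr2, hr3, Fin.ext_iff]
  have hr2s3 : r2 ≠ s3 := by simp [hr2, hs3, Fin.ext_iff]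
  have hr3s3 : r3 ≠ s3 := by simp [hr3, hs3, Fin.ext_iff]
  rcases h12 with hh | hh
  · have := E2.three_le_wt hr13 hr1s3 hr3s3 (by rw [e1]; exact hh) hur3 hus3
    omega
  · have := E2.three_le_wt hr23 hr2s3 hr3s3 (by rw [e2]; exact hh) hur3 hus3
    omega

end Cfsg.Agent.S5655K1.EV
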