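import Mathlib
import Cfsg.Prelude.Def_GeometricClasses
import Cfsg.Agent.Helper2.S5886.Defs
import Cfsg.Agent.Helper4.S5886SYLGENB

/-! # S5886 piece FIXL (helper8) -/

set_option autoImplicit false

namespace Cfsg.Agent.S5886P

variable {F K V : Type*} [Field F] [Field K] [Algebra F K]
  [AddCommGroup V] [Module F V] [Module K V] [IsScalarTower F K V]

namespace FIXL

theorem mem_Kline {v x : V} : x ∈ Kline (F := F) (K := K) v ↔ ∃ c : K, c • v = x := by
  unfold Kline
  rw [Submodule.restrictScalars_mem, Submodule.mem_span_singleton]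

/-- the elements of `StabPt M L` acting trivially on `V / L` -/
def Ygrp (M : Subgroup (V ≃ₗ[F] V)) (L : Submodule F V) : Subgroup (V ≃ₗ[F] V) where
  carrier := {g | g ∈ StabPt M L ∧ ∀ x, g x - x ∈ L}
  mul_mem' := by
    rintro a b ⟨ha, ha1⟩ ⟨hb, hb1⟩
    refine ⟨(StabPt M L).mul_mem ha hb, fun x => ?_⟩
    have h1 : (a * b) x - x = (a (b x) - b x) + (b x - x) := by
      rw [LinearEquiv.mul_apply]; abel
    rw [h1]
    exact L.add_mem (ha1 _) (hb1 x)
  one_mem' := ⟨(StabPt M L).one_mem, fun x => by simp⟩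
  inv_mem' := by
    rintro a ⟨ha, ha1⟩
    refine ⟨(StabPt M L).inv_mem ha, fun x => ?_⟩
    have h1 := ha1 (a⁻¹ x)
    have h2 : a (a⁻¹ x) = x := by simp
    rw [h2] at h1
    have h3 : a⁻¹ x - x = -(x - a⁻¹ x) := by abel
    rw [h3]
    exact L.neg_mem h1

theorem Ygrp_le (M : Subgroup (V ≃ₗ[F] V)) (L : Submodule F V) : Ygrp M L ≤ StabPt M L :=
  fun _ hg => hg.1

theorem pow_apply {M : Subgroup (V ≃ₗ[F] V)} {L : Submodule F V} {g : V ≃ₗ[F] V}
    (hg : g ∈ Ygrp M L) (n : ℕ) (x : V) : (g ^ n) x = x + n • (g x - x) := by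
  induction n with
  | zero => simp
  | succ n ih =>
    rw [pow_succ', LinearEquiv.mul_apply, ih, map_add, map_nsmul, hg.1.2 _ (hg.2 x)]
    rw [succ_nsmul]
    abel

theorem Ygrp_isPGroup (p : ℕ) [Fact p.Prime] [CharP F p] (M : Subgroup (V ≃ₗ[F] V))
    (L : Submodule F V) : IsPGroup p (Ygrp M L) := by
  intro g
  refine ⟨1, ?_⟩
  apply Subtype.ext
  rw [pow_one, Subgroup.coe_pow, Subgroup.coe_one]
  apply LinearEquiv.ext
  intro x
  rw [pow_apply g.2, LinearEquiv.coe_one, id_eq]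
  have : (p : ℕ) • ((g : V ≃ₗ[F] V) x - x) = 0 := by
    rw [← Nat.cast_smul_eq_nsmul F, CharP.cast_eq_zero F p, zero_smul]
  rw [this, add_zero]

theorem Ygrp_normal (M : Subgroup (V ≃ₗ[F] V)) (L : Submodule F V) :
    ∀ c ∈ StabPt M L, ∀ y ∈ Ygrp M L, c * y * c⁻¹ ∈ Ygrp M L := by
  intro c hc y hy
  refine ⟨(StabPt M L).mul_mem ((StabPt M L).mul_mem hc hy.1) ((StabPt M L).inv_mem hc), fun x => ?_⟩
  have h1 : (c * y * c⁻¹) x - x = c (y (c⁻¹ x) - c⁻¹ x) := by
    rw [LinearEquiv.mul_apply, LinearEquiv.mul_apply, map_sub]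
    simp
  rw [h1, hc.2 _ (hy.2 _)]
  exact hy.2 _

/-- the `K`-transvection `x ↦ x + ψ x • v` -/
def tv (ψ : V →ₗ[K] K) (v : V) (hψ : ψ v = 0) : V ≃ₗ[F] V :=
  LinearEquiv.ofLinear
    { toFun := fun x => x + ψ x • v
      map_add' := by
        intro x y
        rw [map_add, add_smul]; abel
      map_smul' := by
        intro c x
        have h1 : ψ (c • x) = c • ψ x := by
          rw [← algebraMap_smul K c x, map_smul, algebraMap_smul]
        rw [h1, RingHom.id_apply, smul_add, smul_assoc] }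
    { toFun := fun x => x - ψ x • v
      map_add' := by
        intro x y
        rw [map_add, add_smul]; abel
      map_smul' := by
        intro c x
        have h1 : ψ (c • x) = c • ψ x := by
          rw [← algebraMap_smul K c x, map_smul, algebraMap_smul]
        rw [h1, RingHom.id_apply, smul_sub, smul_assoc] }
    (by
      apply LinearMap.ext
      intro x
      simp only [LinearMap.coe_comp, LinearMap.coe_mk, AddHom.coe_mk, Function.comp_apply,
        LinearMap.id_coe, id_eq, map_sub, map_smul, hψ, smul_eq_mul, mul_zero, sub_zero]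
      abel)
    (by
      apply LinearMap.ext
      intro x
      simp only [LinearMap.coe_comp, LinearMap.coe_mk, AddHom.coe_mk, Function.comp_apply,
        LinearMap.id_coe, id_eq, map_add, map_smul, hψ, smul_eq_mul, mul_zero, add_zero]
      abel)

theorem tv_apply (ψ : V →ₗ[K] K) (v : V) (hψ : ψ v = 0) (x : V) :
    tv (F := F) ψ v hψ x = x + ψ x • v := rfl

theorem tv_isKTv (ψ : V →ₗ[K] K) (v : V) (hψ : ψ v = 0) : IsKTv (K := K) (tv (F := F) ψ v hψ) :=
  ⟨ψ, v, hψ, fun x => rfl⟩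

theorem tv_mem_Ygrp (M : Subgroup (V ≃ₗ[F] V)) (hKTV : KTV F K V ≤ M) (ψ : V →ₗ[K] K) (v : V)
    (hψ : ψ v = 0) : tv (F := F) ψ v hψ ∈ Ygrp M (Kline (F := F) (K := K) v) := by
  refine ⟨⟨hKTV (Subgroup.subset_closure (tv_isKTv ψ v hψ)), fun y hy => ?_⟩, fun x => ?_⟩
  · obtain ⟨c, rfl⟩ := mem_Kline.1 hy
    rw [tv_apply, map_smul, hψ, smul_zero, zero_smul, add_zero]
  · rw [tv_apply, add_sub_cancel_left]
    exact mem_Kline.2 ⟨ψ x, rfl⟩

end FIXL

open FIXL in
/-- FIXL : the common fixed space of a Sylow `p`-subgroup of `StabPt M (K v)` is `K v`. -/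
theorem FIXL [Finite F] [Finite K] [Finite V] (p : ℕ) [Fact p.Prime] [CharP F p]
    (M : Subgroup (V ≃ₗ[F] V)) (hKTV : KTV F K V ≤ M) (v : V) (hv : v ≠ 0)
    (Q : Subgroup (V ≃ₗ[F] V)) (hQ : IsSylIn p (StabPt M (Kline (F := F) (K := K) v)) Q)
    (x : V) (hx : ∀ g ∈ Q, g x = x) : x ∈ Kline (F := F) (K := K) v := by
  have hYQ : Ygrp M (Kline (F := F) (K := K) v) ≤ Q :=
    SYLGEN.normal_le p _ Q _ hQ (Ygrp_le M _) (Ygrp_isPGroup p M _) (Ygrp_normal M _)
  -- every `K`-functional vanishing at `v` vanishes at `x`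
  have hψx : ∀ ψ : V →ₗ[K] K, ψ v = 0 → ψ x = 0 := by
    intro ψ hψ
    have h1 := hx _ (hYQ (tv_mem_Ygrp M hKTV ψ v hψ))
    rw [tv_apply] at h1
    have h2 : ψ x • v = 0 := by
      have := congrArg (fun y => y - x) h1
      simpa using this
    rcases smul_eq_zero.1 h2 with h3 | h3
    · exact h3
    · exact absurd h3 hv
  by_contra hcon
  have hx' : x ∉ Submodule.span K {v} := by
    intro hmem
    apply hcon
    unfold Kline
    rw [Submodule.restrictScalars_mem]
    exact hmem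
  obtain ⟨f, hfx, hfv⟩ := Submodule.exists_dual_map_eq_bot_of_notMem hx' inferInstance
  have hfv0 : f v = 0 := by
    have h1 : f v ∈ (Submodule.span K {v}).map f := ⟨v, Submodule.mem_span_singleton_self v, rfl⟩
    rw [hfv] at h1
    exact (Submodule.mem_bot K).1 h1
  exact hfx (hψx f hfv0)

end Cfsg.Agent.S5886P
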