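import Mathlib
import Cfsg.Prelude.Def_Characters
import Cfsg.Agent.Helper12.LOPDefs
import Cfsg.Agent.Helper12.LSLDefs

set_option autoImplicit false

namespace Cfsg.Agent.Helper12.LOP

open Matrix Cfsg Cfsg.Agent.Helper28.Sg Cfsg.Agent.Helper28.Spin Cfsg.Agent.Helper12.LSL

variable {F : Type*} [Field F] {n : ℕ}

namespace COUNT

/-- `V_{m+1} ≃ F × F × V_m`, `x ↦ (x₀, y₀, p x)`. -/
def splitEquiv (m : ℕ) : VV (m + 1) F ≃ F × F × VV m F where
  toFun x := (x (Sum.inl 0), x (Sum.inr 0), pp x)
  invFun t := t.1 • (ee : VV (m + 1) F) + t.2.1 • (ff : VV (m + 1) F) + jj t.2.2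
  left_inv x := (decomp x).symm
  right_inv t := by
    obtain ⟨a, b, p⟩ := t
    refine Prod.ext ?_ (Prod.ext ?_ ?_)
    · simp [ee, ff]
    · simp [ee, ff]
    · simp only [map_add, map_smul, pp_ee, pp_ff, pp_jj, smul_zero, zero_add]

/-- the number of vectors of `V_m` with `Q = α` -/
def cnt [Fintype F] [DecidableEq F] (m : ℕ) (α : F) : ℕ :=
  (Finset.univ.filter (fun w : VV m F => QfPlus m F w = α)).card

theorem card_VV [Fintype F] (m : ℕ) : Fintype.card (VV m F) = Fintype.card F ^ (2 * m) := by
  simp [two_mul]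

theorem sum_b [Fintype F] [DecidableEq F] (a c : F) :
    (∑ b : F, if a * b + c = 0 then 1 else 0 : ℕ) =
      if a = 0 then (if c = 0 then Fintype.card F else 0) else 1 := by
  by_cases ha : a = 0
  · subst ha
    simp only [zero_mul, zero_add, if_true]
    by_cases hc : c = 0
    · simp [hc]
    · simp [hc]
  · rw [if_neg ha]
    have h : ∀ b : F, (a * b + c = 0) ↔ b = -c / a := by
      intro b
      constructor
      · intro h
        field_simp
        linear_combination h
      · intro h
        rw [h]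
        field_simp
        ring
    simp only [h]
    rw [Finset.sum_ite_eq' Finset.univ (-c / a) (fun _ => (1 : ℕ))]
    simp

theorem cnt_succ [Fintype F] [DecidableEq F] (m : ℕ) (α : F) :
    cnt (m + 1) α + Fintype.card F ^ (2 * m) =
      Fintype.card F * Fintype.card F ^ (2 * m) + Fintype.card F * cnt m α := by
  have hq : 1 ≤ Fintype.card F := Fintype.card_pos
  have h1 : cnt (m + 1) α =
      ∑ a : F, ∑ p : VV m F, ∑ b : F, if a * b + (QfPlus m F p - α) = 0 then 1 else 0 := by
    unfold cnt
    rw [Finset.card_filter]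
    rw [Fintype.sum_equiv (splitEquiv m) (fun x : VV (m + 1) F => if QfPlus (m + 1) F x = α then 1 else 0)
      (fun t : F × F × VV m F => if t.1 * t.2.1 + (QfPlus m F t.2.2 - α) = 0 then 1 else 0)]
    · rw [Fintype.sum_prod_type]
      refine Finset.sum_congr rfl fun a _ => ?_
      rw [Fintype.sum_prod_type, Finset.sum_comm]
    · intro x
      rw [Q_succ]
      have : (x (Sum.inl 0) * x (Sum.inr 0) + QfPlus m F (pp x) = α) ↔
          ((splitEquiv m x).1 * (splitEquiv m x).2.1 + (QfPlus m F (splitEquiv m x).2.2 - α) = 0) := by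
        show _ ↔ (x (Sum.inl 0) * x (Sum.inr 0) + (QfPlus m F (pp x) - α) = 0)
        constructor
        · intro h; rw [← h]; ring
        · intro h; linear_combination h
      simp only [this]
  rw [h1]
  simp only [sum_b]
  have h2 : ∀ a : F, (∑ p : VV m F, if a = 0 then (if QfPlus m F p - α = 0 then Fintype.card F else 0) else 1)
      = if a = 0 then Fintype.card F * cnt m α else Fintype.card F ^ (2 * m) := by
    intro a
    by_cases ha : a = 0
    · simp only [ha, if_true]
      unfold cnt
      rw [Finset.card_filter, Finset.mul_sum]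
      refine Finset.sum_congr rfl fun p _ => ?_
      by_cases hp : QfPlus m F p = α
      · simp [hp]
      · have : QfPlus m F p - α ≠ 0 := sub_ne_zero.mpr hp
        simp [hp, this]
    · simp only [ha, if_false]
      rw [Finset.sum_const, Finset.card_univ, card_VV]
      simp
  simp only [h2]
  rw [Finset.sum_ite, Finset.sum_const, Finset.sum_const, Finset.filter_eq', Finset.filter_ne']
  simp only [Finset.mem_univ, if_true, Finset.card_singleton, smul_eq_mul]
  rw [Finset.card_erase_of_mem (Finset.mem_univ _), Finset.card_univ]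
  have : (Fintype.card F - 1) * Fintype.card F ^ (2 * m) + Fintype.card F ^ (2 * m)
      = Fintype.card F * Fintype.card F ^ (2 * m) := by
    obtain ⟨k, hk⟩ : ∃ k, Fintype.card F = k + 1 := ⟨Fintype.card F - 1, by omega⟩
    rw [hk]
    simp only [Nat.add_sub_cancel]
    ring
  omega

theorem cnt_zero [Fintype F] [DecidableEq F] (α : F) :
    cnt 0 α = if α = 0 then 1 else 0 := by
  unfold cnt
  have h : ∀ w : VV 0 F, QfPlus 0 F w = 0 := by
    intro w
    rw [Q_plus]
    simp
  by_cases hα : α = 0
  · rw [if_pos hα]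
    rw [Finset.filter_true_of_mem]
    · rw [Finset.card_univ, card_VV]; simp
    · intro w _
      rw [h w, hα]
  · rw [if_neg hα]
    rw [Finset.filter_false_of_mem]
    · simp
    · intro w _
      rw [h w]
      exact fun h' => hα h'.symm

theorem cnt_formula [Fintype F] [DecidableEq F] (m : ℕ) (α : F) :
    Fintype.card F * cnt m α + Fintype.card F ^ m =
      Fintype.card F ^ (2 * m) + Fintype.card F ^ (m + 1) * (if α = 0 then 1 else 0) := by
  induction m with
  | zero =>
    rw [cnt_zero]
    simp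
    ring
  | succ k ih =>
    have h := cnt_succ k α
    set q := Fintype.card F with hq
    set c : ℕ := if α = 0 then 1 else 0 with hc
    have e1 : q ^ (2 * (k + 1)) = q * (q * q ^ (2 * k)) := by ring
    have e2 : q ^ (k + 1 + 1) = q * (q ^ (k + 1)) := by ring
    have e3 : q ^ (k + 1) = q * q ^ k := by ring
    -- q * cnt(k+1) + q^(k+1)
    have h3 : q * (cnt (k + 1) α + q ^ (2 * k)) = q * (q * q ^ (2 * k) + q * cnt k α) := by rw [h]
    have h4 : q * (q * cnt k α + q ^ k) = q * (q ^ (2 * k) + q ^ (k + 1) * c) := by rw [ih]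
    rw [e1, e2]
    nlinarith [h3, h4, e3]

end COUNT

open COUNT in
theorem card_sing [Fintype F] [DecidableEq F] (m : ℕ) (hm : 1 ≤ m) :
    (Finset.univ.filter (fun w : VV m F => QfPlus m F w = 0)).card =
      Fintype.card F ^ (2 * m - 1) + Fintype.card F ^ m - Fintype.card F ^ (m - 1) := by
  obtain ⟨k, rfl⟩ : ∃ k, m = k + 1 := ⟨m - 1, by omega⟩
  have h := cnt_formula (F := F) (k + 1) 0
  rw [if_pos rfl, mul_one] at h
  have hq : 0 < Fintype.card F := Fintype.card_pos
  set q := Fintype.card F with hqd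
  have e1 : q ^ (2 * (k + 1)) = q * q ^ (2 * k + 1) := by ring
  have e2 : q ^ (k + 1 + 1) = q * q ^ (k + 1) := by ring
  have e3 : q ^ (k + 1) = q * q ^ k := by ring
  have h2 : q * (cnt (k + 1) (0 : F) + q ^ k) = q * (q ^ (2 * k + 1) + q ^ (k + 1)) := by
    rw [mul_add, mul_add, ← e1, ← e2, ← e3]
    exact h
  have h3 := Nat.eq_of_mul_eq_mul_left hq h2
  have e4 : 2 * (k + 1) - 1 = 2 * k + 1 := by omega
  have e5 : k + 1 - 1 = k := by omega
  rw [e4, e5]
  show cnt (k + 1) (0 : F) = _
  omega

open COUNT in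
theorem card_level [Fintype F] [DecidableEq F] (m : ℕ) (hm : 1 ≤ m) (α : F) (hα : α ≠ 0) :
    (Finset.univ.filter (fun w : VV m F => QfPlus m F w = α)).card =
      Fintype.card F ^ (2 * m - 1) - Fintype.card F ^ (m - 1) := by
  obtain ⟨k, rfl⟩ : ∃ k, m = k + 1 := ⟨m - 1, by omega⟩
  have h := cnt_formula (F := F) (k + 1) α
  rw [if_neg hα, mul_zero, add_zero] at h
  have hq : 0 < Fintype.card F := Fintype.card_pos
  set q := Fintype.card F with hqd
  have e1 : q ^ (2 * (k + 1)) = q * q ^ (2 * k + 1) := by ring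
  have e3 : q ^ (k + 1) = q * q ^ k := by ring
  have h2 : q * (cnt (k + 1) α + q ^ k) = q * (q ^ (2 * k + 1)) := by
    rw [mul_add, ← e1, ← e3]
    exact h
  have h3 := Nat.eq_of_mul_eq_mul_left hq h2
  have e4 : 2 * (k + 1) - 1 = 2 * k + 1 := by omega
  have e5 : k + 1 - 1 = k := by omega
  rw [e4, e5]
  show cnt (k + 1) α = _
  omega

end Cfsg.Agent.Helper12.LOP
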