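import Mathlib

/-! Rows CHAR2 and MCOMM of the board `s1906pieces` (blueprint `departures/helper8_S1906_blueprint.md`). -/

set_option autoImplicit false

namespace Cfsg.Agent.S1906P

variable {F : Type*} [Field F]

/-- CHAR2: odd cardinality gives `2 ≠ 0`. -/
theorem CHAR2 [Fintype F] (hF : Odd (Fintype.card F)) : (2 : F) ≠ 0 := by
  intro h
  have hch : ringChar F = 2 := by
    have hdvd : ringChar F ∣ 2 := by
      rw [← ringChar.spec F 2]
      exact_mod_cast h
    have hp : (ringChar F).Prime := CharP.char_is_prime F (ringChar F)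
    rcases (Nat.dvd_prime Nat.prime_two).1 hdvd with h1 | h2
    · exact absurd h1 hp.ne_one
    · exact h2
  obtain ⟨n, hp, hn⟩ := FiniteField.card F (ringChar F)
  rw [hch] at hn
  rw [hn] at hF
  have : Even (2 ^ (n : ℕ)) := (Nat.even_pow.2 ⟨even_two, n.ne_zero⟩)
  exact (Nat.not_odd_iff_even.2 this) hF

/-- MCOMM: a matrix commuting with `diag(-1,-1,1)` and `diag(1,-1,-1)` is diagonal. -/
theorem MCOMM (h2 : (2 : F) ≠ 0) (M : Matrix (Fin 3) (Fin 3) F)
    (h12 : M * !![-1, 0, 0; 0, -1, 0; 0, 0, 1] = !![-1, 0, 0; 0, -1, 0; 0, 0, 1] * M)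
    (h23 : M * !![1, 0, 0; 0, -1, 0; 0, 0, -1] = !![1, 0, 0; 0, -1, 0; 0, 0, -1] * M) :
    ∀ i j : Fin 3, i ≠ j → M i j = 0 := by
  have key : ∀ x : F, x = -x → x = 0 := by
    intro x hx
    have : (2 : F) * x = 0 := by linear_combination hx
    rcases mul_eq_zero.1 this with h | h
    · exact absurd h h2
    · exact h
  have e12 : ∀ i j : Fin 3, (M * (!![-1, 0, 0; 0, -1, 0; 0, 0, 1] : Matrix (Fin 3) (Fin 3) F)) i j =
      ((!![-1, 0, 0; 0, -1, 0; 0, 0, 1] : Matrix (Fin 3) (Fin 3) F) * M) i j := fun i j => by rw [h12]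
  have e23 : ∀ i j : Fin 3, (M * (!![1, 0, 0; 0, -1, 0; 0, 0, -1] : Matrix (Fin 3) (Fin 3) F)) i j =
      ((!![1, 0, 0; 0, -1, 0; 0, 0, -1] : Matrix (Fin 3) (Fin 3) F) * M) i j := fun i j => by rw [h23]
  intro i j hij
  fin_cases i <;> fin_cases j
  · exact absurd rfl hij
  · -- (0,1): from h23
    have := e23 0 1
    simp [Matrix.mul_apply, Fin.sum_univ_three] at this
    exact key (M 0 1) this.symm
  · -- (0,2): from h12
    have := e12 0 2
    simp [Matrix.mul_apply, Fin.sum_univ_three] at this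
    exact key _ this
  · have := e23 1 0
    simp [Matrix.mul_apply, Fin.sum_univ_three] at this
    exact key _ this
  · exact absurd rfl hij
  · have := e12 1 2
    simp [Matrix.mul_apply, Fin.sum_univ_three] at this
    exact key _ this
  · have := e12 2 0
    simp [Matrix.mul_apply, Fin.sum_univ_three] at this
    exact key (M 2 0) this.symm
  · have := e12 2 1
    simp [Matrix.mul_apply, Fin.sum_univ_three] at this
    exact key (M 2 1) this.symm
  · exact absurd rfl hij

end Cfsg.Agent.S1906P
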