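import Cfsg.Agent.Helper21.S2293DEFS
import Cfsg.Agent.Helper21.S2286FIN
import Cfsg.Agent.Helper16.S2293TORUS4
import Cfsg.Agent.Helper19.S2293ROOTS4
import Cfsg.Agent.Helper19.S2293NACT4

/-! S2293 piece BOREL4 (driver helper21): the Borel set `X_α X_β X_{α+β} X_{2α+β} T` of type `C₂` is a
subgroup; splittings with respect to `na` and `nb`. -/

set_option linter.unusedVariables false

namespace Cfsg.Agent.Helper21.S2293

open Multiplicative Cfsg.Agent.Helper21.S2286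

variable {F : Type*} [Field F] {P : Type*} [Group P] (D : C2Data F P)

namespace C2Data

namespace BOREL4

variable {F : Type*} [Field F] {P : Type*} [Group P] (D : C2Data F P)

/-- `x_{α+β}(c) x_α(a) = x_α(a) x_{α+β}(c) x_{2α+β}(-2ac)` -/
theorem swap_s1s0 (hC : D.Comm) (a c : F) :
    D.xs 1 c * D.xs 0 a = D.xs 0 a * (D.xs 1 c * D.xl 3 (-(2 * a * c))) := by
  have h := hC.comm_aab a c
  have c1 := hC.comm_s0l3 a (-(2 * a * c))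
  have c2 := hC.comm_s1l3 c (-(2 * a * c))
  have h' : D.xs 1 c * D.xs 0 a = D.xl 3 (-(2 * a * c)) * (D.xs 0 a * D.xs 1 c) := by
    rw [D.xl_neg, ← h]; group
  rw [h', c1.symm.left_comm, c2.symm.eq]

theorem swap_s1s0' (hC : D.Comm) (a c : F) (z : P) :
    D.xs 1 c * (D.xs 0 a * z) = D.xs 0 a * (D.xs 1 c * (D.xl 3 (-(2 * a * c)) * z)) := by
  rw [← mul_assoc, swap_s1s0 D hC]
  simp only [mul_assoc]

/-- `x_β(b) x_α(a) = x_α(a) x_β(b) x_{α+β}(-ab) x_{2α+β}(a²b)` -/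
theorem swap_l0s0 (hC : D.Comm) (a b : F) :
    D.xl 0 b * D.xs 0 a = D.xs 0 a * (D.xl 0 b * (D.xs 1 (-(a * b)) * D.xl 3 (a ^ 2 * b))) := by
  have h := hC.comm_ab a b
  have h' : D.xl 0 b * D.xs 0 a =
      D.xl 3 (-(a ^ 2 * b)) * (D.xs 1 (-(a * b)) * (D.xs 0 a * D.xl 0 b)) := by
    rw [D.xl_neg, D.xs_neg, ← mul_assoc, ← mul_inv_rev, ← h]; group
  rw [h', swap_s1s0' D hC, (hC.comm_s0l3 a (-(a ^ 2 * b))).symm.left_comm]
  congr 1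
  -- all remaining factors commute
  have k1 := hC.comm_s1l3 (-(a * b)) (-(a ^ 2 * b))
  have k2 := hC.comm_l0l3 b (-(2 * a * -(a * b)))
  have k3 := hC.comm_l0s1 b (-(a * b))
  have k4 := hC.comm_l0l3 b (-(a ^ 2 * b))
  rw [k2.symm.eq, k3.symm.left_comm, k4.symm.left_comm]
  congr 1
  rw [k1.symm.left_comm]
  congr 1
  rw [← D.xl_add]
  congr 1
  ring

theorem swap_l0s0' (hC : D.Comm) (a b : F) (z : P) :
    D.xl 0 b * (D.xs 0 a * z) =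
      D.xs 0 a * (D.xl 0 b * (D.xs 1 (-(a * b)) * (D.xl 3 (a ^ 2 * b) * z))) := by
  rw [← mul_assoc, swap_l0s0 D hC]
  simp only [mul_assoc]

/-- the abelian part `X_β X_{α+β} X_{2α+β}` -/
def IsV (v : P) : Prop := ∃ b c d : F, v = D.xl 0 b * (D.xs 1 c * D.xl 3 d)

theorem isV_one : IsV D (1 : P) :=
  ⟨0, 0, 0, by rw [D.xl_zero, D.xs_zero, D.xl_zero, mul_one, mul_one]⟩

theorem isV_xl0 (b : F) : IsV D (D.xl 0 b) :=
  ⟨b, 0, 0, by rw [D.xs_zero, D.xl_zero, mul_one, mul_one]⟩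

theorem isV_xs1 (c : F) : IsV D (D.xs 1 c) :=
  ⟨0, c, 0, by rw [D.xl_zero, D.xl_zero, mul_one, one_mul]⟩

theorem isV_xl3 (d : F) : IsV D (D.xl 3 d) :=
  ⟨0, 0, d, by rw [D.xl_zero, D.xs_zero, one_mul, one_mul]⟩

theorem isV_mul (hC : D.Comm) {v v' : P} (hv : IsV D v) (hv' : IsV D v') : IsV D (v * v') := by
  obtain ⟨b, c, d, rfl⟩ := hv
  obtain ⟨b', c', d', rfl⟩ := hv'
  refine ⟨b + b', c + c', d + d', ?_⟩
  rw [D.xl_add, D.xs_add, D.xl_add]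
  simp only [mul_assoc]
  congr 1
  rw [(hC.comm_l0l3 b' d).symm.left_comm, (hC.comm_l0s1 b' c).symm.left_comm]
  congr 2
  rw [(hC.comm_s1l3 c' d).symm.left_comm]

theorem isV_inv (hC : D.Comm) {v : P} (hv : IsV D v) : IsV D v⁻¹ := by
  obtain ⟨b, c, d, rfl⟩ := hv
  rw [mul_inv_rev, mul_inv_rev, ← D.xl_neg, ← D.xs_neg, ← D.xl_neg]
  exact isV_mul D hC (isV_mul D hC (isV_xl3 D _) (isV_xs1 D _)) (isV_xl0 D _)

/-- moving `x_α(a)` to the left of an element of `V` -/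
theorem isV_swap (hC : D.Comm) (a : F) {v : P} (hv : IsV D v) :
    ∃ v', IsV D v' ∧ v * D.xs 0 a = D.xs 0 a * v' := by
  obtain ⟨b, c, d, rfl⟩ := hv
  refine ⟨D.xl 0 b * (D.xs 1 (-(a * b)) * (D.xl 3 (a ^ 2 * b) *
    (D.xs 1 c * (D.xl 3 (-(2 * a * c)) * D.xl 3 d)))), ?_, ?_⟩
  · have h1 : IsV D (D.xl 0 b * (D.xs 1 (-(a * b)) * D.xl 3 (a ^ 2 * b))) := ⟨_, _, _, rfl⟩
    have h2 : IsV D (D.xs 1 c * (D.xl 3 (-(2 * a * c)) * D.xl 3 d)) :=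
      isV_mul D hC (isV_xs1 D _) (isV_mul D hC (isV_xl3 D _) (isV_xl3 D _))
    have := isV_mul D hC h1 h2
    simpa only [mul_assoc] using this
  · rw [mul_assoc, mul_assoc, (hC.comm_s0l3 a d).symm.eq, swap_s1s0' D hC, swap_l0s0' D hC]

/-- the unipotent part `X_α V` -/
def IsU (g : P) : Prop := ∃ (a : F) (v : P), IsV D v ∧ g = D.xs 0 a * v

theorem isU_of_isV {v : P} (hv : IsV D v) : IsU D v :=
  ⟨0, v, hv, by rw [D.xs_zero, one_mul]⟩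

theorem isU_xs0 (a : F) : IsU D (D.xs 0 a) := ⟨a, 1, isV_one D, by rw [mul_one]⟩

theorem isU_one : IsU D (1 : P) := isU_of_isV D (isV_one D)

theorem isU_mul (hC : D.Comm) {g g' : P} (hg : IsU D g) (hg' : IsU D g') : IsU D (g * g') := by
  obtain ⟨a, v, hv, rfl⟩ := hg
  obtain ⟨a', v', hv', rfl⟩ := hg'
  obtain ⟨w, hw, hvw⟩ := isV_swap D hC a' hv
  refine ⟨a + a', w * v', isV_mul D hC hw hv', ?_⟩
  calc D.xs 0 a * v * (D.xs 0 a' * v') = D.xs 0 a * (v * D.xs 0 a') * v' := by group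
    _ = D.xs 0 a * (D.xs 0 a' * w) * v' := by rw [hvw]
    _ = D.xs 0 (a + a') * (w * v') := by rw [D.xs_add]; group

theorem isU_inv (hC : D.Comm) {g : P} (hg : IsU D g) : IsU D g⁻¹ := by
  obtain ⟨a, v, hv, rfl⟩ := hg
  rw [mul_inv_rev, ← D.xs_neg]
  exact isU_mul D hC (isU_of_isV D (isV_inv D hC hv)) (isU_xs0 D _)

theorem isU_iff (g : P) :
    IsU D g ↔ ∃ a b c d : F, g = D.xs 0 a * D.xl 0 b * D.xs 1 c * D.xl 3 d := by
  constructor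
  · rintro ⟨a, v, ⟨b, c, d, rfl⟩, rfl⟩
    exact ⟨a, b, c, d, by simp only [mul_assoc]⟩
  · rintro ⟨a, b, c, d, rfl⟩
    exact ⟨a, _, ⟨b, c, d, rfl⟩, by simp only [mul_assoc]⟩

theorem es0 (i j : ℤ) : es i j 0 = i - j := rfl
theorem es1 (i j : ℤ) : es i j 1 = i + j := rfl
theorem el0 (i j : ℤ) : el i j 0 = 2 * j := rfl
theorem el3 (i j : ℤ) : el i j 3 = 2 * i := rfl

theorem isU_conj_tor {g : P} (hg : IsU D g) (i j : ℤ) :
    IsU D (D.tor i j * g * (D.tor i j)⁻¹) := by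
  rw [isU_iff] at hg ⊢
  obtain ⟨a, b, c, d, rfl⟩ := hg
  refine ⟨(D.ω : F) ^ (es i j 0) * a, (D.ω : F) ^ (el i j 0) * b,
    (D.ω : F) ^ (es i j 1) * c, (D.ω : F) ^ (el i j 3) * d, ?_⟩
  rw [← D.tor_xs i j 0 a, ← D.tor_xl i j 0 b, ← D.tor_xs i j 1 c, ← D.tor_xl i j 3 d]
  group

theorem mem_borel_iff (g : P) :
    g ∈ D.borelSet ↔ ∃ u, IsU D u ∧ ∃ i j : ℤ, g = u * D.tor i j := by
  constructor
  · rintro ⟨a, b, c, d, i, j, rfl⟩
    exact ⟨_, (isU_iff D _).mpr ⟨a, b, c, d, rfl⟩, i, j, rfl⟩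
  · rintro ⟨u, hu, i, j, rfl⟩
    obtain ⟨a, b, c, d, rfl⟩ := (isU_iff D _).mp hu
    exact ⟨a, b, c, d, i, j, rfl⟩

theorem isU_mem_borel {u : P} (hu : IsU D u) : u ∈ D.borelSet :=
  (mem_borel_iff D u).mpr ⟨u, hu, 0, 0, by rw [D.tor_zero, mul_one]⟩

/-- `na⁻¹ * tor i j * na` -/
theorem na_inv_tor (i j : ℤ) : D.na⁻¹ * D.tor i j * D.na = D.tor j i := by
  have h := D.na_tor j i
  rw [← h]
  group

/-- `nb⁻¹ * tor i j * nb` -/
theorem nb_inv_tor (i j : ℤ) : D.nb⁻¹ * D.tor i j * D.nb = D.tor i (-j) := by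
  have h := D.nb_tor i (-j)
  rw [neg_neg] at h
  rw [← h]
  group

end BOREL4

open BOREL4

/-! ## piece BOREL4 -/
theorem borel_one : (1 : P) ∈ D.borelSet := isU_mem_borel D (isU_one D)

theorem borel_mul (hC : D.Comm) {g g' : P} (hg : g ∈ D.borelSet) (hg' : g' ∈ D.borelSet) :
    g * g' ∈ D.borelSet := by
  rw [mem_borel_iff] at hg hg' ⊢
  obtain ⟨u, hu, i, j, rfl⟩ := hg
  obtain ⟨u', hu', i', j', rfl⟩ := hg'
  refine ⟨u * (D.tor i j * u' * (D.tor i j)⁻¹), isU_mul D hC hu (isU_conj_tor D hu' i j),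
    i + i', j + j', ?_⟩
  rw [← D.tor_mul]
  group

theorem borel_inv (hC : D.Comm) {g : P} (hg : g ∈ D.borelSet) : g⁻¹ ∈ D.borelSet := by
  rw [mem_borel_iff] at hg ⊢
  obtain ⟨u, hu, i, j, rfl⟩ := hg
  refine ⟨D.tor (-i) (-j) * u⁻¹ * (D.tor (-i) (-j))⁻¹, isU_conj_tor D (isU_inv D hC hu) _ _,
    -i, -j, ?_⟩
  rw [← D.tor_inv]
  group

theorem xs0_mem_borel (a : F) : D.xs 0 a ∈ D.borelSet := isU_mem_borel D (isU_xs0 D a)
theorem xl0_mem_borel (a : F) : D.xl 0 a ∈ D.borelSet :=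
  isU_mem_borel D (isU_of_isV D (isV_xl0 D a))
theorem xs1_mem_borel (a : F) : D.xs 1 a ∈ D.borelSet :=
  isU_mem_borel D (isU_of_isV D (isV_xs1 D a))
theorem xl3_mem_borel (a : F) : D.xl 3 a ∈ D.borelSet :=
  isU_mem_borel D (isU_of_isV D (isV_xl3 D a))

theorem tor_mem_borel (i j : ℤ) : D.tor i j ∈ D.borelSet :=
  (mem_borel_iff D _).mpr ⟨1, isU_one D, i, j, by rw [one_mul]⟩

theorem borel_split_na (hC : D.Comm) {g : P} (hg : g ∈ D.borelSet) :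
    ∃ (a : F) (g' : P), g' ∈ D.borelSet ∧ g = D.xs 0 a * g' ∧
      D.na⁻¹ * g' * D.na ∈ D.borelSet := by
  obtain ⟨a, b, c, d, i, j, rfl⟩ := hg
  refine ⟨a, D.xl 0 b * D.xs 1 c * D.xl 3 d * D.tor i j, ?_, by group, ?_⟩
  · exact ⟨0, b, c, d, i, j, by rw [D.xs_zero, one_mul]⟩
  · obtain ⟨b', hb'⟩ := D.na_inv_xl 0 b
    obtain ⟨c', hc'⟩ := D.na_inv_xs 1 c
    obtain ⟨d', hd'⟩ := D.na_inv_xl 3 d
    have e1 : (3 : Fin 4) - 0 = 3 := by decide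
    have e2 : (2 : Fin 4) - 1 = 1 := by decide
    have e3 : (3 : Fin 4) - 3 = 0 := by decide
    rw [e1] at hb'
    rw [e2] at hc'
    rw [e3] at hd'
    have : D.na⁻¹ * (D.xl 0 b * D.xs 1 c * D.xl 3 d * D.tor i j) * D.na =
        (D.na⁻¹ * D.xl 0 b * D.na) * (D.na⁻¹ * D.xs 1 c * D.na) * (D.na⁻¹ * D.xl 3 d * D.na) *
          (D.na⁻¹ * D.tor i j * D.na) := by
      group
    rw [this, hb', hc', hd', na_inv_tor]
    exact D.borel_mul hC (D.borel_mul hC (D.borel_mul hC (D.xl3_mem_borel _) (D.xs1_mem_borel _))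
      (D.xl0_mem_borel _)) (D.tor_mem_borel _ _)

theorem borel_split_nb (hC : D.Comm) {g : P} (hg : g ∈ D.borelSet) :
    ∃ (b : F) (g' : P), g' ∈ D.borelSet ∧ g = D.xl 0 b * g' ∧
      D.nb⁻¹ * g' * D.nb ∈ D.borelSet := by
  obtain ⟨a, b, c, d, i, j, rfl⟩ := hg
  -- `xs0 a * xl0 b = xl0 b * xs0 a * xl3(-a²b) * xs1(ab)`
  have hsw : D.xs 0 a * D.xl 0 b =
      D.xl 0 b * (D.xs 0 a * (D.xl 3 (-(a ^ 2 * b)) * D.xs 1 (a * b))) := by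
    have h := swap_l0s0 D hC a b
    rw [← mul_assoc, ← mul_assoc, h]
    simp only [mul_assoc]
    congr 2
    rw [D.xs_neg, D.xl_neg]
    group
  refine ⟨b, D.xs 0 a * (D.xl 3 (-(a ^ 2 * b)) * D.xs 1 (a * b)) * D.xs 1 c * D.xl 3 d * D.tor i j,
    ?_, ?_, ?_⟩
  · exact D.borel_mul hC (D.borel_mul hC (D.borel_mul hC (D.borel_mul hC (D.xs0_mem_borel _)
      (D.borel_mul hC (D.xl3_mem_borel _) (D.xs1_mem_borel _))) (D.xs1_mem_borel _))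
      (D.xl3_mem_borel _)) (D.tor_mem_borel _ _)
  · rw [hsw]
    simp only [mul_assoc]
  · obtain ⟨a', ha'⟩ := D.nb_inv_xs 0 a
    obtain ⟨l', hl'⟩ := D.nb_inv_xl 3 (-(a ^ 2 * b))
    obtain ⟨s', hs'⟩ := D.nb_inv_xs 1 (a * b)
    obtain ⟨c', hc'⟩ := D.nb_inv_xs 1 c
    obtain ⟨d', hd'⟩ := D.nb_inv_xl 3 d
    have e1 : (1 : Fin 4) - 0 = 1 := by decide
    have e2 : (1 : Fin 4) - 1 = 0 := by decide
    have e3 : (2 : Fin 4) - 3 = 3 := by decide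
    rw [e1] at ha'
    rw [e3] at hl' hd'
    rw [e2] at hs' hc'
    have : D.nb⁻¹ * (D.xs 0 a * (D.xl 3 (-(a ^ 2 * b)) * D.xs 1 (a * b)) * D.xs 1 c * D.xl 3 d *
          D.tor i j) * D.nb =
        (D.nb⁻¹ * D.xs 0 a * D.nb) * ((D.nb⁻¹ * D.xl 3 (-(a ^ 2 * b)) * D.nb) *
          (D.nb⁻¹ * D.xs 1 (a * b) * D.nb)) * (D.nb⁻¹ * D.xs 1 c * D.nb) *
          (D.nb⁻¹ * D.xl 3 d * D.nb) * (D.nb⁻¹ * D.tor i j * D.nb) := by
      group
    rw [this, ha', hl', hs', hc', hd', nb_inv_tor]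
    exact D.borel_mul hC (D.borel_mul hC (D.borel_mul hC (D.borel_mul hC (D.xs1_mem_borel _)
      (D.borel_mul hC (D.xl3_mem_borel _) (D.xs0_mem_borel _))) (D.xs0_mem_borel _))
      (D.xl3_mem_borel _)) (D.tor_mem_borel _ _)

end C2Data

end Cfsg.Agent.Helper21.S2293
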