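import Cfsg.Agent.Helper12.S5702Defs2
import Cfsg.Agent.Helper20.S5702RATSIEG

set_option autoImplicit false
set_option linter.unusedSectionVars false
set_option linter.unusedVariables false

/-! S5702 piece KADD (driver helper12; port of helper23's S5683 piece): `KO` is an additive subgroup containing
`F₀`. -/

namespace Cfsg.Agent.S5702P

open Matrix Cfsg.Agent.Helper28.Sg Cfsg.Agent.Helper28.Spin Cfsg.Agent.Helper12.OrthGen
  Cfsg.Agent.S5683P

variable {F : Type*} [Field F] {m : ℕ} {a b : F}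

namespace KADD

theorem mem_KO_iff {M : Subgroup (OG m F a b)} {i j : Fin m} {c : F} :
    c ∈ KO M i j ↔ c • ee F j ∈ Rad M (ee F i) (Q_ee i) := Iff.rfl

/-- two distinct coordinate vectors are independent -/
theorem indep_single {p q : Idx m} (h : p ≠ q) :
    Indep (Pi.single p 1 : Idx m → F) (Pi.single q 1) := by
  intro x y hxy
  have h1 := congrFun hxy p
  have h2 := congrFun hxy q
  simp only [Pi.add_apply, Pi.smul_apply, Pi.single_eq_same, Pi.single_eq_of_ne h,
    Pi.single_eq_of_ne h.symm, smul_eq_mul, mul_one, mul_zero, add_zero, zero_add,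
    Pi.zero_apply] at h1 h2
  exact ⟨h1, h2⟩

theorem indep_ee_ee {i j : Fin m} (h : i ≠ j) : Indep (ee F i) (ee F j) :=
  indep_single (fun h' => h (Sum.inl_injective (Sum.inl_injective h')))

theorem indep_ee_ff (i j : Fin m) : Indep (ee F i) (ff F j) :=
  indep_single (fun h' => Sum.inl_ne_inr (Sum.inl_injective h'))

theorem B_ee_ee (i j : Fin m) : B (QfMinus m F a b) (ee F i) (ee F j) = 0 := by
  rw [B_ee]
  unfold ee
  rw [Pi.single_eq_of_ne]
  intro h
  exact Sum.inl_ne_inr (Sum.inl_injective h).symm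

theorem B_ee_ff (i j : Fin m) :
    B (QfMinus m F a b) (ee F i) (ff F j) = if i = j then 1 else 0 := by
  classical
  rw [B_ee]
  unfold ff
  by_cases h : i = j
  · subst h
    rw [Pi.single_eq_same, if_pos rfl]
  · rw [if_neg h, Pi.single_eq_of_ne]
    intro h'
    exact h (Sum.inr_injective (Sum.inl_injective h'))

theorem B_ff_ee (i j : Fin m) :
    B (QfMinus m F a b) (ff F i) (ee F j) = if i = j then 1 else 0 := by
  rw [B_comm, B_ee_ff]
  by_cases h : i = j
  · subst h
    rw [if_pos rfl]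
  · rw [if_neg h, if_neg (fun h' => h h'.symm)]

theorem B_smul_r (c : F) (x y : Idx m → F) :
    B (QfMinus m F a b) x (c • y) = c * B (QfMinus m F a b) x y := by
  show QuadraticMap.polar ⇑(QfMinus m F a b) x (c • y) = _
  rw [QuadraticMap.polar_smul_right]
  rfl

theorem B_smul_l (c : F) (x y : Idx m → F) :
    B (QfMinus m F a b) (c • x) y = c * B (QfMinus m F a b) x y := by
  show QuadraticMap.polar ⇑(QfMinus m F a b) (c • x) y = _
  rw [QuadraticMap.polar_smul_left]
  rfl

end KADD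

theorem KADD.add_mem (M : Subgroup (OG m F a b)) (i j : Fin m) {c d : F} (hc : c ∈ KO M i j)
    (hd : d ∈ KO M i j) : c + d ∈ KO M i j := by
  rw [KADD.mem_KO_iff] at hc hd ⊢
  rw [add_smul]
  exact (Rad M (ee F i) (Q_ee i)).add_mem hc hd

theorem KADD.neg_mem (M : Subgroup (OG m F a b)) (i j : Fin m) {c : F} (hc : c ∈ KO M i j) :
    -c ∈ KO M i j := by
  rw [KADD.mem_KO_iff] at hc ⊢
  rw [neg_smul]
  exact (Rad M (ee F i) (Q_ee i)).neg_mem hc

theorem KADD.rat_mem (F₀ : Subfield F) (ha : a ∈ F₀) (hb : b ∈ F₀) (M : Subgroup (OG m F a b))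
    (hM : HasRatO F₀ M) (i j : Fin m) (hij : i ≠ j) {c : F} (hc : c ∈ F₀) : c ∈ KO M i j := by
  rw [KADD.mem_KO_iff]
  refine RATSIEG.mem_rad F₀ ha hb M hM (ee F i) (c • ee F j) (rat_ee i) (Rat.smul hc (rat_ee j))
    (Q_ee i) ?_
  rw [KADD.B_smul_r, KADD.B_ee_ee, mul_zero]

end Cfsg.Agent.S5702P
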