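import Cfsg.Agent.Helper12.S5702Defs2
import Cfsg.Agent.Helper8.S5702KADD
import Cfsg.Agent.Helper20.S5702TRANSO

set_option autoImplicit false
set_option linter.unusedSectionVars false
set_option linter.unusedVariables false

/-! S5702: a private copy (hedge, port of helper23's S5683 KTRANS) of the piece KTRANS, under the name
`KTRANSH8.exists_scalar`, so that KMOD / KMUL do not wait: every rational long root group has the same parameter
set as `E(e_i, · e_j)`, up to a rational scalar. -/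

namespace Cfsg.Agent.S5702P

open Matrix Cfsg.Agent.Helper28.Sg Cfsg.Agent.Helper28.Spin Cfsg.Agent.Helper12.OrthGen
  Cfsg.Agent.S5683P

variable {F : Type*} [Field F] {m : ℕ} {a b : F}

namespace KTRANSH8

theorem Q_smul_ee (c : F) (i : Fin m) : QfMinus m F a b (c • ee F i) = 0 := by
  rw [Q_smul, Q_ee, mul_zero]

end KTRANSH8

/-- every rational long root group has the same parameter set as `E(e_i, · e_j)`, up to a rational scalar. -/
theorem KTRANSH8.exists_scalar (hm : 3 ≤ m) (F₀ : Subfield F) (ha : a ∈ F₀) (hb : b ∈ F₀)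
    (hab : 4 * b - a ^ 2 ≠ 0)
    (M : Subgroup (OG m F a b)) (hM : HasRatO F₀ M) (i j : Fin m) (hij : i ≠ j) (u w : Idx m → F)
    (hu : Rat F₀ u) (hw : Rat F₀ w) (hQu : QfMinus m F a b u = 0) (hQw : QfMinus m F a b w = 0)
    (huw : B (QfMinus m F a b) u w = 0) (hind : Indep u w) :
    ∃ ν : F, ν ∈ F₀ ∧ ν ≠ 0 ∧ ∀ c : F, c • w ∈ Rad M u hQu ↔ ν * c ∈ KO M i j := by
  obtain ⟨g, c, c', hgS, hgr, hgr', hc, hc', hc0, hc'0, hgu, hgw⟩ :=
    TRANSO.exists_move₂ hm F₀ ha hb hab u w hu hw hQu hQw huw hind i j hij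
  have hgM : g ∈ M := hM g hgS hgr
  have hgM' : g⁻¹ ∈ M := hM g⁻¹ ((S (QfMinus m F a b)).inv_mem hgS) hgr'
  refine ⟨c * c', F₀.mul_mem hc hc', mul_ne_zero hc0 hc'0, fun c₀ => ?_⟩
  rw [KADD.mem_KO_iff]
  constructor
  · intro h
    have h1 : (c₀ * c') • ee F j ∈ Rad M (c • ee F i) (KTRANSH8.Q_smul_ee c i) := by
      refine Rad_conj' hgM h (KTRANSH8.Q_smul_ee c i) hgu ?_
      rw [Matrix.mulVec_smul, hgw, smul_smul]
    have h3 := Rad_smul_left (Q_ee i) c (KTRANSH8.Q_smul_ee c i) h1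
    rw [smul_smul] at h3
    have e : c * c' * c₀ = c * (c₀ * c') := by ring
    rw [e]
    exact h3
  · intro h
    have e : c * c' * c₀ = c * (c₀ * c') := by ring
    rw [e, ← smul_smul] at h
    have h1 : (c₀ * c') • ee F j ∈ Rad M (c • ee F i) (KTRANSH8.Q_smul_ee c i) :=
      Rad_smul_left' (Q_ee i) c (KTRANSH8.Q_smul_ee c i) h hc0
    refine Rad_conj' hgM' h1 hQu ?_ ?_
    · rw [← hgu, mt_inv_mulVec]
    · rw [← smul_smul, Matrix.mulVec_smul, ← hgw, mt_inv_mulVec]

end Cfsg.Agent.S5702P
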