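import Cfsg.Agent.Helper12.S5702Defs2
import Cfsg.Agent.Helper20.S5702RATSIEG
import Cfsg.Agent.Helper8.S5702KADD
import Cfsg.Agent.Helper8.S5702KTRANSH

set_option autoImplicit false
set_option linter.unusedSectionVars false
set_option linter.unusedVariables false

/-! S5702 piece KMOD (driver helper12; port of helper23's S5683 piece): `KO` is stable under multiplication by
`F₀`. -/

namespace Cfsg.Agent.S5702P

open Matrix Cfsg.Agent.Helper28.Sg Cfsg.Agent.Helper28.Spin Cfsg.Agent.Helper12.OrthGen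
  Cfsg.Agent.S5683P

variable {F : Type*} [Field F] {m : ℕ} {a b : F}

namespace KMOD

/-- a third index -/
theorem exists_third (hm : 3 ≤ m) (i j : Fin m) : ∃ k : Fin m, k ≠ i ∧ k ≠ j := by
  by_cases h0 : (i.val ≠ 0 ∧ j.val ≠ 0)
  · refine ⟨⟨0, by omega⟩, ?_, ?_⟩
    · intro h
      exact h0.1 (congrArg Fin.val h).symm
    · intro h
      exact h0.2 (congrArg Fin.val h).symm
  · by_cases h1 : (i.val ≠ 1 ∧ j.val ≠ 1)
    · refine ⟨⟨1, by omega⟩, ?_, ?_⟩
      · intro h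
        exact h1.1 (congrArg Fin.val h).symm
      · intro h
        exact h1.2 (congrArg Fin.val h).symm
    · refine ⟨⟨2, by omega⟩, ?_, ?_⟩
      · intro h
        have := congrArg Fin.val h
        simp only at this
        omega
      · intro h
        have := congrArg Fin.val h
        simp only at this
        omega

/-- the commutator step: `c ∈ KO M i j`, `l' • f_j ∈ Rad e_k` ⇒ `(l' * c) • e_k ∈ Rad e_i` -/
theorem comm_step (M : Subgroup (OG m F a b)) {i j k : Fin m} (hij : i ≠ j) (hki : k ≠ i)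
    (hkj : k ≠ j) {c l' : F} (hc : c ∈ KO M i j)
    (hl : l' • ff F j ∈ Rad M (ee F k) (Q_ee k)) :
    (l' * c) • ee F k ∈ Rad M (ee F i) (Q_ee i) := by
  rw [KADD.mem_KO_iff] at hc
  have h1 : B (QfMinus m F a b) (ee F i) (ee F k) = 0 := KADD.B_ee_ee i k
  have h2 : B (QfMinus m F a b) (ee F i) (l' • ff F j) = 0 := by
    rw [KADD.B_smul_r, KADD.B_ee_ff, if_neg hij, mul_zero]
  have h3 : B (QfMinus m F a b) (ee F k) (c • ee F j) = 0 := by
    rw [KADD.B_smul_r, KADD.B_ee_ee, mul_zero]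
  have h4 := Rad_comm hc hl h1 h2 h3
  have e : B (QfMinus m F a b) (l' • ff F j) (c • ee F j) = l' * c := by
    rw [KADD.B_smul_l, KADD.B_smul_r, KADD.B_ff_ee, if_pos rfl, mul_one]
  rw [e] at h4
  exact h4

end KMOD

/-- KMOD: `KO` is stable under multiplication by `F₀` (`Rad_comm` with `u = e_i, v = c e_j, u' = e_k, v' = l' f_j`,
then KTRANS for the pair `(e_i, e_k)`). -/
theorem KMOD.smul_mem (hm : 3 ≤ m) (F₀ : Subfield F) (ha : a ∈ F₀) (hb : b ∈ F₀)
    (hab : 4 * b - a ^ 2 ≠ 0) (M : Subgroup (OG m F a b))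
    (hM : HasRatO F₀ M) (i j : Fin m) (hij : i ≠ j) {l c : F} (hl : l ∈ F₀) (hc : c ∈ KO M i j) :
    l * c ∈ KO M i j := by
  obtain ⟨k, hki, hkj⟩ := KMOD.exists_third hm i j
  obtain ⟨ν, hν, hν0, hνc⟩ := KTRANSH8.exists_scalar hm F₀ ha hb hab M hM i j hij (ee F i) (ee F k)
    (rat_ee i) (rat_ee k) (Q_ee i) (Q_ee k) (KADD.B_ee_ee i k) (KADD.indep_ee_ee hki.symm)
  have hl' : (ν⁻¹ * l) • ff F j ∈ Rad M (ee F k) (Q_ee k) := by
    refine RATSIEG.mem_rad F₀ ha hb M hM (ee F k) _ (rat_ee k)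
      (Rat.smul (F₀.mul_mem (F₀.inv_mem hν) hl) (rat_ff j)) (Q_ee k) ?_
    rw [KADD.B_smul_r, KADD.B_ee_ff, if_neg hkj, mul_zero]
  have h1 := KMOD.comm_step M hij hki hkj hc hl'
  have h3 := (hνc _).1 h1
  have e : ν * (ν⁻¹ * l * c) = l * c := by
    field_simp
  rw [e] at h3
  exact h3

end Cfsg.Agent.S5702P
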