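import Cfsg.Agent.Helper12.S5702Defs2
import Cfsg.Agent.Helper8.S5702KADD
import Cfsg.Agent.Helper8.S5702KMOD
import Cfsg.Agent.Helper8.S5702KTRANSH

set_option autoImplicit false
set_option linter.unusedSectionVars false
set_option linter.unusedVariables false

/-! S5702 piece KMUL (driver helper12; port of helper23's S5683 piece): `KO` is closed under multiplication. -/

namespace Cfsg.Agent.S5702P

open Matrix Cfsg.Agent.Helper28.Sg Cfsg.Agent.Helper28.Spin Cfsg.Agent.Helper12.OrthGen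
  Cfsg.Agent.S5683P

variable {F : Type*} [Field F] {m : ℕ} {a b : F}

/-- KMUL: `KO` is closed under multiplication (KTRANS for `(e_k, f_j)`, `Rad_comm`, KTRANS for `(e_i, e_k)`, KMOD). -/
theorem KMUL.mul_mem (hm : 3 ≤ m) (F₀ : Subfield F) (ha : a ∈ F₀) (hb : b ∈ F₀)
    (hab : 4 * b - a ^ 2 ≠ 0) (M : Subgroup (OG m F a b))
    (hM : HasRatO F₀ M) (i j : Fin m) (hij : i ≠ j) {c d : F} (hc : c ∈ KO M i j)
    (hd : d ∈ KO M i j) : c * d ∈ KO M i j := by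
  obtain ⟨k, hki, hkj⟩ := KMOD.exists_third hm i j
  have hBkj : B (QfMinus m F a b) (ee F k) (ff F j) = 0 := by
    rw [KADD.B_ee_ff, if_neg hkj]
  obtain ⟨ν₁, hν₁, hν₁0, hc₁⟩ := KTRANSH8.exists_scalar hm F₀ ha hb hab M hM i j hij (ee F k) (ff F j)
    (rat_ee k) (rat_ff j) (Q_ee k) (Q_ff j) hBkj (KADD.indep_ee_ff k j)
  obtain ⟨ν₂, hν₂, hν₂0, hc₂⟩ := KTRANSH8.exists_scalar hm F₀ ha hb hab M hM i j hij (ee F i) (ee F k)
    (rat_ee i) (rat_ee k) (Q_ee i) (Q_ee k) (KADD.B_ee_ee i k) (KADD.indep_ee_ee hki.symm)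
  have hl' : (ν₁⁻¹ * d) • ff F j ∈ Rad M (ee F k) (Q_ee k) := by
    rw [hc₁, ← mul_assoc, mul_inv_cancel₀ hν₁0, one_mul]
    exact hd
  have h1 := KMOD.comm_step M hij hki hkj hc hl'
  have h3 := (hc₂ _).1 h1
  have hl : ν₂⁻¹ * ν₁ ∈ F₀ := F₀.mul_mem (F₀.inv_mem hν₂) hν₁
  have h4 := KMOD.smul_mem hm F₀ ha hb hab M hM i j hij hl h3
  have e : ν₂⁻¹ * ν₁ * (ν₂ * (ν₁⁻¹ * d * c)) = c * d := by
    field_simp
  rw [e] at h4
  exact h4

end Cfsg.Agent.S5702P
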