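import Mathlib
import Cfsg.Prelude.Def_Solvable
import Cfsg.Prelude.Def_Transfer
import Cfsg.Agent.Helper15.ExtClosed2

/-!
# Abelian Sylow subgroups with a regular automizer: centralizers of `p`-elements

If `P` is an abelian Sylow `p`-subgroup and `y ∈ P` satisfies `C_G(y) ∩ N_G(P) = C_G(P)`, then
`C_G(y)` has a normal `p`-complement (Burnside).
-/

set_option autoImplicit false

namespace Cfsg.Agent.Helper8.AS

open Cfsg

variable {G : Type*} [Group G] [Finite G] {p : ℕ} [hp : Fact p.Prime]

omit [Finite G] hp in
theorem mem_centralizer_singleton {y g : G} :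
    g ∈ Subgroup.centralizer ({y} : Set G) ↔ y * g = g * y := by
  rw [Subgroup.mem_centralizer_iff]
  constructor
  · intro h; exact h y (Set.mem_singleton y)
  · intro h w hw
    rw [Set.mem_singleton_iff] at hw
    rw [hw]; exact h

omit [Finite G] hp in
theorem le_centralizer_singleton (P : Sylow p G) (hab : IsMulCommutative P) {y : G}
    (hyP : y ∈ P) : (P : Subgroup G) ≤ Subgroup.centralizer ({y} : Set G) := by
  intro x hx
  rw [mem_centralizer_singleton]
  have := hab.is_comm.comm (⟨y, hyP⟩ : (P : Subgroup G)) ⟨x, hx⟩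
  exact congrArg Subtype.val this

/-- The centralizer of `y` has a normal `p`-complement. -/
theorem index_pPrimeCore_centralizer (P : Sylow p G) (hab : IsMulCommutative P) {y : G}
    (hyP : y ∈ P)
    (hfrob : Subgroup.centralizer ({y} : Set G) ⊓ Subgroup.normalizer ((P : Subgroup G) : Set G) =
      Subgroup.centralizer ((P : Subgroup G) : Set G)) :
    (pPrimeCore p ↥(Subgroup.centralizer ({y} : Set G))).index = Nat.card (P : Subgroup G) := by
  set H : Subgroup G := Subgroup.centralizer ({y} : Set G) with hH
  have hPH : (P : Subgroup G) ≤ H := le_centralizer_singleton P hab hyP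
  set Q : Sylow p H := P.subtype hPH with hQ
  have hQcoe : (Q : Subgroup H) = (P : Subgroup G).subgroupOf H := Sylow.coe_subtype P hPH
  have hN : Subgroup.normalizer ((Q : Subgroup H) : Set H) ≤
      Subgroup.centralizer ((Q : Subgroup H) : Set H) := by
    intro h hh
    have hnG : (h : G) ∈ Subgroup.normalizer ((P : Subgroup G) : Set G) := by
      rw [Subgroup.mem_normalizer_iff]
      intro x
      have key := (Subgroup.mem_normalizer_iff.mp hh)
      constructor
      · intro hx
        have hxH : x ∈ H := hPH hx
        have h1 : (⟨x, hxH⟩ : H) ∈ (Q : Subgroup H) := by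
          rw [hQcoe, Subgroup.mem_subgroupOf]; exact hx
        have h2 := (key ⟨x, hxH⟩).mp h1
        rw [hQcoe, Subgroup.mem_subgroupOf] at h2
        exact h2
      · intro hx
        have hxH : (h : G) * x * (h : G)⁻¹ ∈ H := hPH hx
        have hxH' : x ∈ H := by
          have : x = (h : G)⁻¹ * ((h : G) * x * (h : G)⁻¹) * (h : G) := by group
          rw [this]
          exact H.mul_mem (H.mul_mem (H.inv_mem h.2) hxH) h.2
        have h1 : h * (⟨x, hxH'⟩ : H) * h⁻¹ ∈ (Q : Subgroup H) := by
          rw [hQcoe, Subgroup.mem_subgroupOf]; exact hx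
        have h2 := (key ⟨x, hxH'⟩).mpr h1
        rw [hQcoe, Subgroup.mem_subgroupOf] at h2
        exact h2
    have hcG : (h : G) ∈ Subgroup.centralizer ((P : Subgroup G) : Set G) := by
      rw [← hfrob]
      exact ⟨h.2, hnG⟩
    rw [Subgroup.mem_centralizer_iff]
    intro x hx
    have hx' : (x : G) ∈ (P : Subgroup G) := by
      have : x ∈ (Q : Subgroup H) := hx
      rw [hQcoe, Subgroup.mem_subgroupOf] at this
      exact this
    apply Subtype.ext
    exact (Subgroup.mem_centralizer_iff.mp hcG) (x : G) hx'
  have hc := MonoidHom.ker_transferSylow_isComplement' Q hN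
  have hker := Cfsg.Agent.Helper15.pPrimeCore_eq_ker_transferSylow Q hN
  rw [hker]
  have h1 := hc.card_mul_card
  have h2 := Subgroup.card_mul_index (MonoidHom.transferSylow Q hN).ker
  have h4 : Nat.card (Q : Subgroup H) = Nat.card (P : Subgroup G) := by
    rw [hQcoe]
    exact Nat.card_congr (Subgroup.subgroupOfEquivOfLe hPH).toEquiv
  have hpos : 0 < Nat.card (MonoidHom.transferSylow Q hN).ker := Nat.card_pos
  have : Nat.card (MonoidHom.transferSylow Q hN).ker * (MonoidHom.transferSylow Q hN).ker.index =
      Nat.card (MonoidHom.transferSylow Q hN).ker * Nat.card (P : Subgroup G) := by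
    rw [h2, ← h1, h4]
  exact Nat.eq_of_mul_eq_mul_left hpos this

end Cfsg.Agent.Helper8.AS
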