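import Mathlib
import Cfsg.Agent.Helper8.AS1
import Cfsg.Agent.Helper8.KleinOrder

/-!
# Characters of the principal block are constant on `p`-sections with `p`-nilpotent centralizer
-/

set_option autoImplicit false

namespace Cfsg.Agent.Helper8.AS

open Cfsg Cfsg.Agent.Helper24 Cfsg.Agent.Helper5 Cfsg.Agent.Helper5.CC Cfsg.Agent.Helper5.Loc

variable {G : Type*} [Group G] [Fintype G] {M : Ideal AlgInt} {p : ℕ} [hp : Fact p.Prime]

/-- If the centralizer of the `p`-element `x` has a normal `p`-complement, every character of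
the principal block is constant on the `p`-section of `x`. -/
theorem principal_const_section (hM : IsPModular p M) (x : G)
    (hx : ∃ k : ℕ, orderOf x = p ^ k)
    (hnc : ∃ k : ℕ, (pPrimeCore p ↥(Subgroup.centralizer ({x} : Set G))).index = p ^ k)
    (χ : IrrCharacter G) (hχ : χ ∈ principalBlock M G) (z : G) (hz : IsPPart p z x) :
    (χ : G → ℂ) z = (χ : G → ℂ) x := by
  classical
  haveI : Fintype (IrrCharacter G) := Fintype.ofFinite _
  set C : Subgroup G := Subgroup.centralizer ({x} : Set G) with hC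
  haveI : Fintype C := Fintype.ofFinite _
  haveI : Fintype (IrrCharacter C) := Fintype.ofFinite _
  obtain ⟨r, hr1, hr2, _, hr4⟩ := hz
  have hxC : x ∈ C := mem_centralizer_singleton.mpr rfl
  have hcomm : ∀ c : C, x * (c : G) = (c : G) * x := fun c => mem_centralizer_singleton.mp c.2
  have hrC : r ∈ C := mem_centralizer_singleton.mpr hr2.eq
  have hr4' : ¬ p ∣ orderOf (⟨r, hrC⟩ : C) := by
    rw [← Subgroup.orderOf_coe]; exact hr4
  have hone : ¬ p ∣ orderOf (1 : C) := by
    rw [orderOf_one]; exact fun h => hp.out.one_lt.ne' (Nat.dvd_one.mp h)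
  have hexp1 := Cfsg.Agent.Helper8.SecCore.section_expansion hM x hx C hxC hcomm (le_refl _)
    (principalBlock M G) isPBlock_principalBlock χ (1 : C) hone
  have hexpr := Cfsg.Agent.Helper8.SecCore.section_expansion hM x hx C hxC hcomm (le_refl _)
    (principalBlock M G) isPBlock_principalBlock χ (⟨r, hrC⟩ : C) hr4'
  have hset : Cfsg.Agent.Helper8.SecCore.indSet M C (principalBlock M G) = principalBlock M C :=
    inducingSet_principalBlock (M := M) hM x hx C hxC hcomm (le_refl _)
  have hB := Cfsg.Agent.S0939.result (G := C) p M hM hnc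
  have hrK : (⟨r, hrC⟩ : C) ∈ pPrimeCore p C := by
    by_contra hnot
    exact hr4' (Cfsg.Agent.Helper8.KleinOrd.dvd_orderOf_of_not_mem hnc _ hnot)
  rw [if_pos hχ] at hexp1 hexpr
  simp only [Subgroup.coe_one, mul_one] at hexp1
  rw [← hr1, hexpr, hexp1]
  refine Finset.sum_congr rfl fun ψ _ => ?_
  by_cases hψ : ψ ∈ Cfsg.Agent.Helper8.SecCore.indSet M C (principalBlock M G)
  · rw [if_pos hψ, if_pos hψ]
    rw [hset, hB] at hψ
    rw [hψ _ hrK]
  · rw [if_neg hψ, if_neg hψ]

end Cfsg.Agent.Helper8.AS
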