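import Mathlib
import Cfsg.Agent.Helper8.AS2
import Cfsg.Agent.Helper8.DualGroup
import Cfsg.Agent.Helper24.LinUnits
import Cfsg.Agent.Helper24.Generalized
import Cfsg.Agent.Helper24.Expansion
import Cfsg.Agent.Helper8.Ind
import Cfsg.Agent.Helper8.SectionCore

/-!
# The block parts of the generalized characters induced from `ψ - 1`
-/

set_option autoImplicit false

namespace Cfsg.Agent.Helper8.AS

open Cfsg Cfsg.Agent.Helper24 Cfsg.Agent.Helper5 Cfsg.Agent.Helper5.CC Cfsg.Agent.Helper5.Loc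

/-- `ψ - 1` as a function. -/
def th {A : Type*} [Group A] (ψ : A →* ℂˣ) : A → ℂ := fun y => ((ψ y : ℂˣ) : ℂ) - 1

theorem th_apply {A : Type*} [Group A] (ψ : A →* ℂˣ) (y : A) :
    th ψ y = ((ψ y : ℂˣ) : ℂ) - 1 := rfl

theorem th_one {A : Type*} [Group A] (ψ : A →* ℂˣ) : th ψ 1 = 0 := by
  rw [th_apply, map_one, Units.val_one, sub_self]

theorem th_triv {A : Type*} [Group A] : th (1 : A →* ℂˣ) = 0 := by
  funext y
  rw [th_apply, MonoidHom.one_apply, Units.val_one, sub_self, Pi.zero_apply]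

theorem isGeneralizedCharacter_th {A : Type*} [Group A] (ψ : A →* ℂˣ) :
    IsGeneralizedCharacter A (th ψ) := by
  refine ⟨fun y => ((ψ y : ℂˣ) : ℂ), fun _ => 1, (isLin_coe ψ).1, ?_, rfl⟩
  have := (isLin_coe (1 : A →* ℂˣ)).1
  simpa using this

variable {G : Type*} [Group G] [Fintype G] {M : Ideal AlgInt} {p : ℕ} [hp : Fact p.Prime]

/-- The generalized character induced from `ψ - 1`. -/
noncomputable def Ph (P : Subgroup G) (ψ : P →* ℂˣ) : G → ℂ := indFun P (th ψ)

theorem isGeneralizedCharacter_Ph (P : Subgroup G) (ψ : P →* ℂˣ) :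
    IsGeneralizedCharacter G (Ph P ψ) :=
  IsGeneralizedCharacter.indFun P (isGeneralizedCharacter_th ψ)

theorem Ph_triv (P : Subgroup G) : Ph P (1 : P →* ℂˣ) = 0 := by
  unfold Ph
  rw [th_triv, Cfsg.Agent.Helper8.indFun_zero]

theorem isClassFunction_Ph (P : Subgroup G) (ψ : P →* ℂˣ) : IsClassFunction G (Ph P ψ) :=
  Cfsg.Agent.Helper8.indFun_isClassFunction P _

/-- `Φ_ψ` vanishes on the `p`-regular elements. -/
theorem Ph_apply_of_pRegular (P : Subgroup G) (hP : IsPGroup p P) (ψ : P →* ℂˣ) (g : G)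
    (hg : ¬ p ∣ orderOf g) : Ph P ψ g = 0 := by
  unfold Ph
  rw [Cfsg.Agent.Helper8.indFun_def]
  apply mul_eq_zero_of_right
  apply Finset.sum_eq_zero
  intro x _
  by_cases hx : x⁻¹ * g * x ∈ P
  · have h1 : x⁻¹ * g * x = 1 := by
      obtain ⟨k, hk⟩ := IsPGroup.iff_orderOf.mp hP ⟨x⁻¹ * g * x, hx⟩
      rw [Subgroup.orderOf_mk] at hk
      have h2 : orderOf (x⁻¹ * g * x) = orderOf g := by
        have := Cfsg.Agent.Helper8.orderOf_conj_eq x⁻¹ g
        rwa [inv_inv] at this
      rw [h2] at hk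
      rcases Nat.eq_zero_or_pos k with rfl | hkpos
      · rw [pow_zero] at hk
        rw [← orderOf_eq_one_iff, h2, hk]
      · exfalso
        apply hg
        rw [hk]
        exact dvd_pow_self p hkpos.ne'
    rw [h1, Cfsg.Agent.Helper8.ebz_mem P _ P.one_mem]
    exact th_one ψ
  · exact Cfsg.Agent.Helper8.ebz_not_mem P _ hx

variable [Fintype (IrrCharacter G)]

open Classical in
/-- The `B`-part of a class function, as a combination of irreducible characters. -/
noncomputable def bp (B : Set (IrrCharacter G)) (Φ : G → ℂ) : G → ℂ :=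
  ∑ χ : IrrCharacter G, (if χ ∈ B then classInner Φ (χ : G → ℂ) else 0) • (χ : G → ℂ)

open Classical in
theorem bp_apply (B : Set (IrrCharacter G)) (Φ : G → ℂ) (g : G) :
    bp B Φ g = ∑ χ : IrrCharacter G,
      (if χ ∈ B then classInner Φ (χ : G → ℂ) * (χ : G → ℂ) g else 0) := by
  unfold bp
  rw [Finset.sum_apply]
  refine Finset.sum_congr rfl fun χ _ => ?_
  rw [Pi.smul_apply, smul_eq_mul]
  split_ifs <;> simp

open Classical in
theorem classInner_bp_irr (B : Set (IrrCharacter G)) (Φ : G → ℂ) (χ : IrrCharacter G) :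
    classInner (bp B Φ) (χ : G → ℂ) = if χ ∈ B then classInner Φ (χ : G → ℂ) else 0 := by
  unfold bp
  rw [classInner_sum_irr]

open Classical in
theorem classInner_bp_bp (B : Set (IrrCharacter G)) (Φ Φ' : G → ℂ) :
    classInner (bp B Φ) (bp B Φ') = ∑ χ : IrrCharacter G,
      (if χ ∈ B then classInner Φ (χ : G → ℂ) * (starRingEnd ℂ) (classInner Φ' (χ : G → ℂ))
        else 0) := by
  unfold bp
  rw [classInner_sum_sum]
  refine Finset.sum_congr rfl fun χ _ => ?_
  split_ifs <;> simp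

theorem isGeneralizedCharacter_bp (B : Set (IrrCharacter G)) {Φ : G → ℂ}
    (hΦ : IsGeneralizedCharacter G Φ) : IsGeneralizedCharacter G (bp B Φ) := by
  classical
  rw [isGeneralizedCharacter_iff_exists_int_coeff]
  have hint := fun χ : IrrCharacter G => IsGeneralizedCharacter.classInner_irr_int hΦ χ
  choose n hn using hint
  refine ⟨fun χ => if χ ∈ B then n χ else 0, ?_⟩
  unfold bp
  refine Finset.sum_congr rfl fun χ _ => ?_
  by_cases h : χ ∈ B
  · simp only [if_pos h, hn χ]
  · simp only [if_neg h, Int.cast_zero]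

theorem bp_zero (B : Set (IrrCharacter G)) : bp B (0 : G → ℂ) = 0 := by
  classical
  unfold bp
  apply Finset.sum_eq_zero
  intro χ _
  have : classInner (0 : G → ℂ) (χ : G → ℂ) = 0 := by
    unfold classInner
    simp
  rw [this]
  simp

/-- The block part of a class function vanishing on the `p`-regular elements vanishes on the
`p`-regular elements. -/
theorem bp_apply_of_pRegular (hM : IsPModular p M) (B : Set (IrrCharacter G))
    (hB : ∀ ψ ∈ B, blockOf M (ψ : G → ℂ) ⊆ B) {Φ : G → ℂ}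
    (hΦ : ∀ c : G, ¬ p ∣ orderOf c → Φ c = 0) (g : G) (hg : ¬ p ∣ orderOf g) :
    bp B Φ g = 0 := by
  classical
  rw [bp_apply]
  have := Cfsg.Agent.Helper8.SecCore.sum_classInner_congr hM B hB Φ 0
    (fun c hc => by rw [hΦ c hc, Pi.zero_apply]) g hg
  rw [this]
  apply Finset.sum_eq_zero
  intro χ _
  have h0 : classInner (0 : G → ℂ) (χ : G → ℂ) = 0 := by
    unfold classInner
    simp
  rw [h0]
  simp

/-- The principal block is a union of blocks. -/
theorem principalBlock_closed (hM : IsPModular p M) :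
    ∀ ψ ∈ principalBlock M G, blockOf M (ψ : G → ℂ) ⊆ principalBlock M G := by
  intro ψ hψ
  have hMp := isPrime_of_isPModular hM
  unfold principalBlock
  rw [← blockOf_eq_of_sameBlock hMp hψ]

/-- The principal block part of `Φ_ψ`. -/
noncomputable def Th (M : Ideal AlgInt) (P : Subgroup G) (ψ : P →* ℂˣ) : G → ℂ :=
  bp (principalBlock M G) (Ph P ψ)

theorem isGeneralizedCharacter_Th (P : Subgroup G) (ψ : P →* ℂˣ) :
    IsGeneralizedCharacter G (Th M P ψ) :=
  isGeneralizedCharacter_bp _ (isGeneralizedCharacter_Ph P ψ)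

theorem Th_triv (P : Subgroup G) : Th M P (1 : P →* ℂˣ) = 0 := by
  unfold Th
  rw [Ph_triv, bp_zero]

theorem Th_apply_of_pRegular (hM : IsPModular p M) (P : Subgroup G) (hP : IsPGroup p P)
    (ψ : P →* ℂˣ) (g : G) (hg : ¬ p ∣ orderOf g) : Th M P ψ g = 0 :=
  bp_apply_of_pRegular hM _ (principalBlock_closed hM) (Ph_apply_of_pRegular P hP ψ) g hg

end Cfsg.Agent.Helper8.AS
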