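import Mathlib
import Cfsg.Agent.Helper8.AS3

/-!
# The action of `N_G(P)` on `P` and on its dual group
-/

set_option autoImplicit false

namespace Cfsg.Agent.Helper8.AS

open Cfsg Cfsg.Agent.Helper24

variable {G : Type*} [Group G]

/-- Conjugation by an element of the normalizer as an automorphism of `P`. -/
def cj (P : Subgroup G) (n : Subgroup.normalizer (P : Set G)) : P ≃* P where
  toFun w := ⟨(n : G) * (w : G) * (n : G)⁻¹, (Subgroup.mem_normalizer_iff.mp n.2 (w : G)).mp w.2⟩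
  invFun w := ⟨(n : G)⁻¹ * (w : G) * (n : G),
    (Subgroup.mem_normalizer_iff''.mp n.2 (w : G)).mp w.2⟩
  left_inv w := by
    apply Subtype.ext
    show (n : G)⁻¹ * ((n : G) * (w : G) * (n : G)⁻¹) * (n : G) = (w : G)
    group
  right_inv w := by
    apply Subtype.ext
    show (n : G) * ((n : G)⁻¹ * (w : G) * (n : G)) * (n : G)⁻¹ = (w : G)
    group
  map_mul' a b := by
    apply Subtype.ext
    show (n : G) * ((a : G) * (b : G)) * (n : G)⁻¹ =
      ((n : G) * (a : G) * (n : G)⁻¹) * ((n : G) * (b : G) * (n : G)⁻¹)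
    group

theorem cj_coe (P : Subgroup G) (n : Subgroup.normalizer (P : Set G)) (w : P) :
    ((cj P n w : P) : G) = (n : G) * (w : G) * (n : G)⁻¹ := rfl

theorem cj_mul (P : Subgroup G) (a b : Subgroup.normalizer (P : Set G)) (w : P) :
    cj P (a * b) w = cj P a (cj P b w) := by
  apply Subtype.ext
  rw [cj_coe, cj_coe, cj_coe]
  simp only [Subgroup.coe_mul]
  group

theorem cj_one (P : Subgroup G) (w : P) : cj P 1 w = w := by
  apply Subtype.ext
  rw [cj_coe]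
  simp

theorem cj_inv_cj (P : Subgroup G) (a : Subgroup.normalizer (P : Set G)) (w : P) :
    cj P a⁻¹ (cj P a w) = w := by
  rw [← cj_mul, inv_mul_cancel, cj_one]

theorem cj_cj_inv (P : Subgroup G) (a : Subgroup.normalizer (P : Set G)) (w : P) :
    cj P a (cj P a⁻¹ w) = w := by
  rw [← cj_mul, mul_inv_cancel, cj_one]

/-- The relation of the statement: `ψ'` is the `n`-conjugate of `ψ`. -/
def RelS (P : Subgroup G) (ψ ψ' : P →* ℂˣ) : Prop :=
  ∃ n : G, n ∈ Subgroup.normalizer (P : Set G) ∧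
    ∀ w w' : P, (w' : G) = n * w * n⁻¹ → ψ' w' = ψ w

theorem relS_iff (P : Subgroup G) (ψ ψ' : P →* ℂˣ) :
    RelS P ψ ψ' ↔ ∃ n : Subgroup.normalizer (P : Set G), ∀ w : P, ψ' (cj P n w) = ψ w := by
  constructor
  · rintro ⟨n, hn, h⟩
    exact ⟨⟨n, hn⟩, fun w => h w (cj P ⟨n, hn⟩ w) rfl⟩
  · rintro ⟨n, h⟩
    refine ⟨n, n.2, fun w w' hw => ?_⟩
    have : w' = cj P n w := Subtype.ext hw
    rw [this, h]

theorem relS_refl (P : Subgroup G) (ψ : P →* ℂˣ) : RelS P ψ ψ := by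
  rw [relS_iff]
  exact ⟨1, fun w => by rw [cj_one]⟩

theorem relS_symm (P : Subgroup G) {ψ ψ' : P →* ℂˣ} (h : RelS P ψ ψ') : RelS P ψ' ψ := by
  rw [relS_iff] at h ⊢
  obtain ⟨n, hn⟩ := h
  refine ⟨n⁻¹, fun w => ?_⟩
  rw [← hn, cj_cj_inv]

theorem relS_trans (P : Subgroup G) {ψ ψ' ψ'' : P →* ℂˣ} (h : RelS P ψ ψ') (h' : RelS P ψ' ψ'') :
    RelS P ψ ψ'' := by
  rw [relS_iff] at h h' ⊢
  obtain ⟨n, hn⟩ := h
  obtain ⟨n', hn'⟩ := h'
  refine ⟨n' * n, fun w => ?_⟩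
  rw [cj_mul, hn', hn]

theorem relS_one_iff (P : Subgroup G) (ψ' : P →* ℂˣ) : RelS P 1 ψ' ↔ ψ' = 1 := by
  constructor
  · intro h
    rw [relS_iff] at h
    obtain ⟨n, hn⟩ := h
    ext w
    have := hn (cj P n⁻¹ w)
    rw [cj_cj_inv] at this
    rw [this]
    simp
  · rintro rfl
    exact relS_refl P 1

theorem relS_ne_one (P : Subgroup G) {ψ ψ' : P →* ℂˣ} (h : RelS P ψ ψ') (hψ : ψ ≠ 1) :
    ψ' ≠ 1 := by
  rintro rfl
  exact hψ ((relS_one_iff P ψ).mp (relS_symm P h))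

/-- The twisted homomorphism. -/
def twc (P : Subgroup G) (n : Subgroup.normalizer (P : Set G)) (ψ : P →* ℂˣ) : P →* ℂˣ :=
  ψ.comp (cj P n).toMonoidHom

theorem twc_apply (P : Subgroup G) (n : Subgroup.normalizer (P : Set G)) (ψ : P →* ℂˣ) (w : P) :
    twc P n ψ w = ψ (cj P n w) := rfl

theorem relS_iff_twc (P : Subgroup G) (ψ ψ' : P →* ℂˣ) :
    RelS P ψ ψ' ↔ ∃ n : Subgroup.normalizer (P : Set G), twc P n ψ' = ψ := by
  rw [relS_iff]
  constructor
  · rintro ⟨n, hn⟩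
    exact ⟨n, MonoidHom.ext hn⟩
  · rintro ⟨n, hn⟩
    exact ⟨n, fun w => by rw [← hn]; rfl⟩

theorem twc_ne_one (P : Subgroup G) (n : Subgroup.normalizer (P : Set G)) {ψ : P →* ℂˣ}
    (hψ : ψ ≠ 1) : twc P n ψ ≠ 1 := by
  intro h
  apply hψ
  ext w
  have := congrArg (fun f : P →* ℂˣ => f (cj P n⁻¹ w)) h
  simp only [twc_apply, cj_cj_inv, MonoidHom.one_apply] at this
  rw [this]
  rfl

section Fin

variable [Fintype G]

/-- Induction does not see conjugation by the normalizer. -/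
theorem indFun_comp_cj (P : Subgroup G) (n : Subgroup.normalizer (P : Set G)) (θ : P → ℂ) :
    indFun P (fun w => θ (cj P n w)) = indFun P θ := by
  funext g
  rw [Cfsg.Agent.Helper8.indFun_def, Cfsg.Agent.Helper8.indFun_def]
  congr 1
  have key : ∀ z : G, extendByZero P (fun w => θ (cj P n w)) z =
      extendByZero P θ ((n : G) * z * (n : G)⁻¹) := by
    intro z
    by_cases hz : z ∈ P
    · have hz' : (n : G) * z * (n : G)⁻¹ ∈ P := (Subgroup.mem_normalizer_iff.mp n.2 z).mp hz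
      rw [Cfsg.Agent.Helper8.ebz_mem P _ hz, Cfsg.Agent.Helper8.ebz_mem P _ hz']
      rfl
    · have hz' : (n : G) * z * (n : G)⁻¹ ∉ P := fun h =>
        hz ((Subgroup.mem_normalizer_iff.mp n.2 z).mpr h)
      rw [Cfsg.Agent.Helper8.ebz_not_mem P _ hz, Cfsg.Agent.Helper8.ebz_not_mem P _ hz']
  simp_rw [key]
  have h2 : ∑ x : G, extendByZero P θ (x⁻¹ * g * x) =
      ∑ x : G, extendByZero P θ ((x * (n : G)⁻¹)⁻¹ * g * (x * (n : G)⁻¹)) :=
    (Equiv.sum_comp (Equiv.mulRight (n : G)⁻¹)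
      (fun x => extendByZero P θ (x⁻¹ * g * x))).symm
  rw [h2]
  refine Finset.sum_congr rfl fun x _ => ?_
  congr 1
  group

theorem Ph_twc (P : Subgroup G) (n : Subgroup.normalizer (P : Set G)) (ψ : P →* ℂˣ) :
    Ph P (twc P n ψ) = Ph P ψ := by
  unfold Ph
  exact indFun_comp_cj P n (th ψ)

theorem Ph_eq_of_relS (P : Subgroup G) {ψ ψ' : P →* ℂˣ} (h : RelS P ψ ψ') :
    Ph P ψ = Ph P ψ' := by
  rw [relS_iff_twc] at h
  obtain ⟨n, rfl⟩ := h
  exact Ph_twc P n ψ'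

theorem Th_eq_of_relS [Fintype (IrrCharacter G)] {M : Ideal AlgInt} (P : Subgroup G)
    {ψ ψ' : P →* ℂˣ} (h : RelS P ψ ψ') : Th M P ψ = Th M P ψ' := by
  unfold Th
  rw [Ph_eq_of_relS P h]

end Fin

end Cfsg.Agent.Helper8.AS
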