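import Mathlib
import Cfsg.Agent.Helper8.AS4

/-!
# Semiregularity of the normalizer on the dual group
-/

set_option autoImplicit false

namespace Cfsg.Agent.Helper8.AS

open Cfsg Cfsg.Agent.Helper24

variable {G : Type*} [Group G]

theorem twc_mul (P : Subgroup G) (a b : Subgroup.normalizer (P : Set G)) (ψ : P →* ℂˣ) :
    twc P (a * b) ψ = twc P b (twc P a ψ) := by
  ext w
  rw [twc_apply, twc_apply, twc_apply, cj_mul]

theorem twc_of_mem_centralizer (P : Subgroup G) (n : Subgroup.normalizer (P : Set G))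
    (hn : (n : G) ∈ Subgroup.centralizer (P : Set G)) (ψ : P →* ℂˣ) : twc P n ψ = ψ := by
  ext w
  rw [twc_apply]
  have : cj P n w = w := by
    apply Subtype.ext
    rw [cj_coe]
    have := (Subgroup.mem_centralizer_iff.mp hn) (w : G) w.2
    rw [← this]
    group
  rw [this]

variable [Finite G]

/-- **Semiregularity**: only the centralizer fixes a nontrivial linear character of `P`. -/
theorem mem_centralizer_of_twc_eq (P : Subgroup G)
    (hfrob : ∀ y : G, y ∈ P → y ≠ 1 →
      Subgroup.centralizer ({y} : Set G) ⊓ Subgroup.normalizer (P : Set G) =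
        Subgroup.centralizer (P : Set G))
    (n : Subgroup.normalizer (P : Set G)) {ψ : P →* ℂˣ} (hψ : ψ ≠ 1) (h : twc P n ψ = ψ) :
    (n : G) ∈ Subgroup.centralizer (P : Set G) := by
  by_contra hn
  set F : P → P := fun w => w⁻¹ * cj P n w with hF
  have hinj : Function.Injective F := by
    intro w w' hww'
    simp only [hF] at hww'
    set y : P := w * w'⁻¹ with hy
    have h1 : cj P n y = y := by
      rw [hy, map_mul, map_inv]
      have : cj P n w = w * w'⁻¹ * cj P n w' := by
        have := congrArg (fun z => w * z) hww'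
        simp only [mul_inv_cancel_left] at this
        rw [this, mul_assoc]
      rw [this, mul_inv_cancel_right]
    by_cases hy1 : y = 1
    · rw [hy, mul_inv_eq_one] at hy1
      exact hy1
    · exfalso
      apply hn
      have hyG : (y : G) ≠ 1 := fun h => hy1 (Subtype.ext h)
      rw [← hfrob (y : G) y.2 hyG]
      refine Subgroup.mem_inf.mpr ⟨?_, n.2⟩
      rw [mem_centralizer_singleton]
      have h2 := congrArg Subtype.val h1
      rw [cj_coe] at h2
      calc (y : G) * (n : G) = ((n : G) * (y : G) * (n : G)⁻¹) * (n : G) := by rw [h2]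
        _ = (n : G) * (y : G) := by group
  have hsurj : Function.Surjective F := Finite.surjective_of_injective hinj
  apply hψ
  ext u
  obtain ⟨w, rfl⟩ := hsurj u
  simp only [hF]
  rw [map_mul, map_inv]
  have h3 : ψ (cj P n w) = ψ w := by
    have := congrArg (fun f : P →* ℂˣ => f w) h
    simpa [twc_apply] using this
  rw [h3, inv_mul_cancel]
  rfl

open Classical in
/-- Counting the elements of the normalizer carrying `ψ'` to `ψ`. -/
theorem sum_twc_eq (P : Subgroup G)
    (hfrob : ∀ y : G, y ∈ P → y ≠ 1 →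
      Subgroup.centralizer ({y} : Set G) ⊓ Subgroup.normalizer (P : Set G) =
        Subgroup.centralizer (P : Set G))
    [Fintype (Subgroup.normalizer (P : Set G))] {ψ ψ' : P →* ℂˣ} (hψ : ψ ≠ 1) :
    (∑ x : Subgroup.normalizer (P : Set G), if twc P x ψ' = ψ then (1 : ℂ) else 0) =
      if RelS P ψ ψ' then (Nat.card (Subgroup.centralizer (P : Set G)) : ℂ) else 0 := by
  by_cases hR : RelS P ψ ψ'
  · rw [if_pos hR]
    rw [relS_iff_twc] at hR
    obtain ⟨n₀, hn₀⟩ := hR
    have hiff : ∀ x : Subgroup.normalizer (P : Set G), twc P x ψ' = ψ ↔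
        ((n₀⁻¹ * x : Subgroup.normalizer (P : Set G)) : G) ∈ Subgroup.centralizer (P : Set G) := by
      intro x
      have e : twc P x ψ' = twc P (n₀⁻¹ * x) ψ := by
        have : x = n₀ * (n₀⁻¹ * x) := by group
        conv_lhs => rw [this, twc_mul, hn₀]
      rw [e]
      constructor
      · intro h
        exact mem_centralizer_of_twc_eq P hfrob _ hψ h
      · intro h
        exact twc_of_mem_centralizer P _ h ψ
    simp_rw [hiff]
    have h2 : (∑ x : Subgroup.normalizer (P : Set G),
        if ((n₀⁻¹ * x : Subgroup.normalizer (P : Set G)) : G) ∈ Subgroup.centralizer (P : Set G)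
          then (1 : ℂ) else 0) =
        ∑ x : Subgroup.normalizer (P : Set G),
          if (x : G) ∈ Subgroup.centralizer (P : Set G) then (1 : ℂ) else 0 :=
      Equiv.sum_comp (Equiv.mulLeft n₀⁻¹)
        (fun x : Subgroup.normalizer (P : Set G) =>
          if (x : G) ∈ Subgroup.centralizer (P : Set G) then (1 : ℂ) else 0)
    rw [h2, Finset.sum_boole]
    congr 1
    have hle : Subgroup.centralizer (P : Set G) ≤ Subgroup.normalizer (P : Set G) :=
      Subgroup.centralizer_le_normalizer _
    rw [← Nat.card_congr (Subgroup.subgroupOfEquivOfLe hle).toEquiv, Nat.card_eq_fintype_card,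
      Fintype.card_subtype]
    rfl
  · rw [if_neg hR]
    apply Finset.sum_eq_zero
    intro x _
    rw [if_neg]
    intro h
    apply hR
    rw [relS_iff_twc]
    exact ⟨x, h⟩

open Classical in
/-- First orthogonality for the functions `ψ - 1`. -/
theorem sum_th_mul_conj_th {A : Type*} [Group A] [Fintype A]
    (φ φ' : A →* ℂˣ) :
    ∑ y : A, th φ y * (starRingEnd ℂ) (th φ' y) =
      (Nat.card A : ℂ) * ((if φ = φ' then 1 else 0) - (if φ = 1 then 1 else 0)
        - (if φ' = 1 then 1 else 0) + 1) := by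
  have hA : (Nat.card A : ℂ) ≠ 0 := by
    exact_mod_cast (Nat.card_pos (α := A)).ne'
  have h1 := Cfsg.Agent.Helper8.classInner_hom_units φ φ'
  have h2 := Cfsg.Agent.Helper8.classInner_hom_units φ (1 : A →* ℂˣ)
  have h3 := Cfsg.Agent.Helper8.classInner_hom_units (1 : A →* ℂˣ) φ'
  unfold classInner at h1 h2 h3
  have e1 : ∑ y : A, ((φ y : ℂˣ) : ℂ) * (starRingEnd ℂ) ((φ' y : ℂˣ) : ℂ) =
      (Nat.card A : ℂ) * (if φ = φ' then 1 else 0) := by
    rw [← h1, ← mul_assoc, mul_inv_cancel₀ hA, one_mul]
  have e2 : ∑ y : A, ((φ y : ℂˣ) : ℂ) = (Nat.card A : ℂ) * (if φ = 1 then 1 else 0) := by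
    rw [← h2, ← mul_assoc, mul_inv_cancel₀ hA, one_mul]
    refine Finset.sum_congr rfl fun y _ => ?_
    simp
  have e3 : ∑ y : A, (starRingEnd ℂ) ((φ' y : ℂˣ) : ℂ) =
      (Nat.card A : ℂ) * (if φ' = 1 then 1 else 0) := by
    have : (if (1 : A →* ℂˣ) = φ' then (1 : ℂ) else 0) = if φ' = 1 then 1 else 0 := by
      by_cases h : φ' = 1
      · rw [if_pos h, if_pos h.symm]
      · rw [if_neg h, if_neg (fun h' => h h'.symm)]
    rw [← this, ← h3, ← mul_assoc, mul_inv_cancel₀ hA, one_mul]
    refine Finset.sum_congr rfl fun y _ => ?_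
    simp
  have e4 : ∑ _y : A, (1 : ℂ) = (Nat.card A : ℂ) := by
    rw [Finset.sum_const, Finset.card_univ, Nat.card_eq_fintype_card]
    simp
  calc ∑ y : A, th φ y * (starRingEnd ℂ) (th φ' y)
      = ∑ y : A, (((φ y : ℂˣ) : ℂ) * (starRingEnd ℂ) ((φ' y : ℂˣ) : ℂ) - ((φ y : ℂˣ) : ℂ)
          - (starRingEnd ℂ) ((φ' y : ℂˣ) : ℂ) + 1) := by
        refine Finset.sum_congr rfl fun y _ => ?_
        rw [th_apply, th_apply, map_sub, map_one]
        ring
    _ = _ := by
        rw [Finset.sum_add_distrib, Finset.sum_sub_distrib, Finset.sum_sub_distrib, e1, e2, e3, e4]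
        ring

end Cfsg.Agent.Helper8.AS
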