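import Mathlib
import Cfsg.Agent.Helper8.AS5
import Cfsg.Agent.Helper23.ColumnInner

/-!
# The Gram matrix of the principal block parts
-/

set_option autoImplicit false

namespace Cfsg.Agent.Helper8.AS

open Cfsg Cfsg.Agent.Helper24 Cfsg.Agent.Helper5 Cfsg.Agent.Helper5.CC Cfsg.Agent.Helper5.Loc

variable {M : Ideal AlgInt} {p : ℕ} [hp : Fact p.Prime]

/-- The sum of the squares of the degrees in the principal block of a `p`-nilpotent group. -/
theorem sum_deg_sq_principal_npc {H : Type*} [Group H] [Finite H] (hM : IsPModular p M)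
    (hnc : ∃ k : ℕ, (pPrimeCore p H).index = p ^ k) :
    (∑ᶠ ψ ∈ principalBlock M H, ((charDegree (ψ : H → ℂ) : ℚ)) ^ 2 : ℚ) =
      ((pPrimeCore p H).index : ℚ) := by
  classical
  have : Fintype H := Fintype.ofFinite H
  have : Fintype (IrrCharacter H) := Fintype.ofFinite _
  have hcast : Function.Injective (fun r : ℚ => (r : ℂ)) := Rat.cast_injective
  apply hcast
  show (((∑ᶠ ψ ∈ principalBlock M H, ((charDegree (ψ : H → ℂ) : ℚ)) ^ 2 : ℚ)) : ℂ) =
    ((((pPrimeCore p H).index : ℚ)) : ℂ)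
  rw [finsum_mem_eq_sum_ite', Rat.cast_sum]
  have h := Cfsg.Agent.Helper8.KleinOrd.sum_principal_npc (M := M) hM hnc (1 : H)
  rw [if_pos (Subgroup.one_mem _)] at h
  rw [Rat.cast_natCast, ← h]
  refine Finset.sum_congr rfl fun ψ _ => ?_
  split_ifs with hψ
  · rw [irrDeg_spec, Complex.conj_natCast, ← charDegree_irr]
    push_cast
    ring
  · simp

variable {G : Type*} [Group G] [Fintype G] [Fintype (IrrCharacter G)]

omit [Fintype (IrrCharacter G)] in
/-- `th ψ` at an inverse. -/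
theorem th_inv {A : Type*} [Group A] [Finite A] (ψ : A →* ℂˣ) (y : A) :
    th ψ y⁻¹ = (starRingEnd ℂ) (th ψ y) := by
  rw [th_apply, th_apply, map_sub, map_one, Cfsg.Agent.Helper8.conj_hom_units, map_inv,
    MonoidHom.inv_apply]

open Classical in
/-- **The Gram matrix.** -/
theorem classInner_Th_Th (hM : IsPModular p M) (P : Sylow p G) (hab : IsMulCommutative P)
    (hfrob : ∀ y : G, y ∈ (P : Subgroup G) → y ≠ 1 →
      Subgroup.centralizer ({y} : Set G) ⊓ Subgroup.normalizer ((P : Subgroup G) : Set G) =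
        Subgroup.centralizer ((P : Subgroup G) : Set G))
    {ψ ψ' : (P : Subgroup G) →* ℂˣ} (hψ : ψ ≠ 1) (hψ' : ψ' ≠ 1) :
    classInner (Th M (P : Subgroup G) ψ) (Th M (P : Subgroup G) ψ') =
      ((Subgroup.centralizer ((P : Subgroup G) : Set G)).relIndex
        (Subgroup.normalizer ((P : Subgroup G) : Set G)) : ℂ) +
        (if RelS (P : Subgroup G) ψ ψ' then 1 else 0) := by
  have : Finite G := Finite.of_fintype G
  set N : Subgroup G := Subgroup.normalizer ((P : Subgroup G) : Set G) with hN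
  set C : Subgroup G := Subgroup.centralizer ((P : Subgroup G) : Set G) with hC
  have : Fintype (P : Subgroup G) := Fintype.ofFinite _
  have : Fintype N := Fintype.ofFinite _
  have hCN : C ≤ N := Subgroup.centralizer_le_normalizer _
  have hqne : (Nat.card (P : Subgroup G) : ℂ) ≠ 0 := by exact_mod_cast (Nat.card_pos (α := (P : Subgroup G))).ne'
  have hcne : (Nat.card C : ℂ) ≠ 0 := by exact_mod_cast (Nat.card_pos (α := C)).ne'
  -- the hypotheses of the column formula
  set U : Set G := {u | u ∈ (P : Subgroup G) ∧ u ≠ 1} with hU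
  have hfus : ∀ u ∈ U, ∀ g : G, g * u * g⁻¹ ∈ ((P : Subgroup G) : Set G) → ∃ n ∈ N, n * u * n⁻¹ = g * u * g⁻¹ := by
    intro u hu g hg
    haveI := hab
    obtain ⟨n, hn, hn'⟩ := Sylow.conj_eq_normalizer_conj_of_mem P u g⁻¹ hu.1
      (by rw [inv_inv]; exact hg)
    refine ⟨n⁻¹, N.inv_mem hn, ?_⟩
    rw [inv_inv] at hn' ⊢
    exact hn'.symm
  have hw : ∀ y ∈ U, ((∑ᶠ χ ∈ principalBlock M ↥(Subgroup.centralizer ({y} : Set G)),
      ((charDegree (χ : ↥(Subgroup.centralizer ({y} : Set G)) → ℂ) : ℚ)) ^ 2 : ℚ)) =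
        ((Nat.card (P : Subgroup G) : ℚ) / (Nat.card C : ℚ)) *
          Nat.card ↥(N ⊓ Subgroup.centralizer ({y} : Set G)) := by
    intro y hy
    have hidx := index_pPrimeCore_centralizer P hab hy.1 (hfrob y hy.1 hy.2)
    have hnc : ∃ k : ℕ, (pPrimeCore p ↥(Subgroup.centralizer ({y} : Set G))).index = p ^ k := by
      obtain ⟨k, hk⟩ := IsPGroup.iff_card.mp P.isPGroup'
      exact ⟨k, by rw [hidx, hk]⟩
    rw [sum_deg_sq_principal_npc hM hnc, hidx]
    have e : N ⊓ Subgroup.centralizer ({y} : Set G) = C := by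
      rw [inf_comm]; exact hfrob y hy.1 hy.2
    rw [e]
    have : (Nat.card C : ℚ) ≠ 0 := by exact_mod_cast (Nat.card_pos (α := C)).ne'
    field_simp
  have hθU : ∀ y : (P : Subgroup G), (y : G) ∉ U → th ψ y = 0 := by
    intro y hy
    have : y = 1 := by
      by_contra h
      exact hy ⟨y.2, fun h' => h (Subtype.ext h')⟩
    rw [this, th_one]
  have key := Cfsg.Agent.Helper23.CI.column_inner hM (P : Subgroup G) P.isPGroup' N (le_refl _) U hfus
    ((Nat.card (P : Subgroup G) : ℚ) / (Nat.card C : ℚ)) hw (th ψ) (th ψ') hθU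
  -- the left side
  have hβ : ∀ (χ : IrrCharacter G) (φ : (P : Subgroup G) →* ℂˣ),
      (Nat.card (P : Subgroup G) : ℂ)⁻¹ * ∑ᶠ y : (P : Subgroup G), (χ : G → ℂ) (y : G) * th φ y⁻¹ =
        (starRingEnd ℂ) (classInner (Ph (P : Subgroup G) φ) (χ : G → ℂ)) := by
    intro χ φ
    unfold Ph
    rw [Cfsg.Agent.Helper8.frobenius_reciprocity (P : Subgroup G) (th φ) (χ : G → ℂ) (isClassFunction_irr χ)]
    unfold classInner
    rw [map_mul, map_inv₀, Complex.conj_natCast, map_sum, finsum_eq_sum_of_fintype]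
    congr 1
    refine Finset.sum_congr rfl fun y _ => ?_
    rw [map_mul, Complex.conj_conj, th_inv, mul_comm]
  have hL : ∑ᶠ χ ∈ principalBlock M G,
      ((Nat.card (P : Subgroup G) : ℂ)⁻¹ * ∑ᶠ y : (P : Subgroup G), (χ : G → ℂ) (y : G) * th ψ y⁻¹) *
        (starRingEnd ℂ) ((Nat.card (P : Subgroup G) : ℂ)⁻¹ * ∑ᶠ y : (P : Subgroup G), (χ : G → ℂ) (y : G) * th ψ' y⁻¹) =
      (starRingEnd ℂ) (classInner (Th M (P : Subgroup G) ψ) (Th M (P : Subgroup G) ψ')) := by
    rw [finsum_mem_eq_sum_ite']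
    unfold Th
    rw [classInner_bp_bp, map_sum]
    refine Finset.sum_congr rfl fun χ _ => ?_
    split_ifs with h
    · rw [hβ χ ψ, hβ χ ψ', map_mul, Complex.conj_conj]
    · simp
  -- the right side
  have hR : ∑ᶠ y : (P : Subgroup G), th ψ y * (starRingEnd ℂ)
      (∑ᶠ x : N, extendByZero (P : Subgroup G) (th ψ') ((x : G) * (y : G) * (x : G)⁻¹)) =
      (Nat.card (P : Subgroup G) : ℂ) * ((if RelS (P : Subgroup G) ψ ψ' then (Nat.card C : ℂ) else 0) + (Nat.card N : ℂ)) := by
    rw [finsum_eq_sum_of_fintype]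
    have h1 : ∀ y : (P : Subgroup G), th ψ y * (starRingEnd ℂ)
        (∑ᶠ x : N, extendByZero (P : Subgroup G) (th ψ') ((x : G) * (y : G) * (x : G)⁻¹)) =
        ∑ x : N, th ψ y * (starRingEnd ℂ) (th (twc (P : Subgroup G) x ψ') y) := by
      intro y
      rw [finsum_eq_sum_of_fintype, map_sum, Finset.mul_sum]
      refine Finset.sum_congr rfl fun x _ => ?_
      congr 2
      have : (x : G) * (y : G) * (x : G)⁻¹ = ((cj (P : Subgroup G) x y : (P : Subgroup G)) : G) := rfl
      rw [this, Cfsg.Agent.Helper8.ebz_coe]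
      rfl
    rw [Finset.sum_congr rfl (fun y _ => h1 y), Finset.sum_comm]
    have h2 : ∀ x : N, ∑ y : (P : Subgroup G), th ψ y * (starRingEnd ℂ) (th (twc (P : Subgroup G) x ψ') y) =
        (Nat.card (P : Subgroup G) : ℂ) * ((if twc (P : Subgroup G) x ψ' = ψ then 1 else 0) + 1) := by
      intro x
      rw [sum_th_mul_conj_th, if_neg hψ, if_neg (twc_ne_one (P : Subgroup G) x hψ')]
      congr 1
      have : (if ψ = twc (P : Subgroup G) x ψ' then (1 : ℂ) else 0) = if twc (P : Subgroup G) x ψ' = ψ then 1 else 0 := by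
        by_cases h : twc (P : Subgroup G) x ψ' = ψ
        · rw [if_pos h, if_pos h.symm]
        · rw [if_neg h, if_neg (fun h' => h h'.symm)]
      rw [this]
      ring
    rw [Finset.sum_congr rfl (fun x _ => h2 x), ← Finset.mul_sum, Finset.sum_add_distrib]
    have h3 := sum_twc_eq (P : Subgroup G) hfrob (ψ := ψ) (ψ' := ψ') hψ
    have h4 : ∑ _x : N, (1 : ℂ) = (Nat.card N : ℂ) := by
      rw [Finset.sum_const, Finset.card_univ, Nat.card_eq_fintype_card]
      simp
    rw [h4]
    congr 2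
    convert h3
  rw [hL, hR] at key
  have hm : ((C.relIndex N : ℕ) : ℂ) = (Nat.card N : ℂ) / (Nat.card C : ℂ) := by
    rw [eq_div_iff hcne]
    have := Subgroup.relIndex_mul_relIndex ⊥ C N bot_le hCN
    rw [Subgroup.relIndex_bot_left, Subgroup.relIndex_bot_left] at this
    rw [mul_comm]
    exact_mod_cast this
  have key2 := congrArg (starRingEnd ℂ) key
  rw [Complex.conj_conj] at key2
  rw [key2, hm]
  have hreal : (starRingEnd ℂ) (((((Nat.card (P : Subgroup G) : ℚ) / (Nat.card C : ℚ) : ℚ)) : ℂ) /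
      ((Nat.card (P : Subgroup G) : ℂ) ^ 2) * ((Nat.card (P : Subgroup G) : ℂ) *
        ((if RelS (P : Subgroup G) ψ ψ' then (Nat.card C : ℂ) else 0) + (Nat.card N : ℂ)))) =
      (((((Nat.card (P : Subgroup G) : ℚ) / (Nat.card C : ℚ) : ℚ)) : ℂ) /
      ((Nat.card (P : Subgroup G) : ℂ) ^ 2) * ((Nat.card (P : Subgroup G) : ℂ) *
        ((if RelS (P : Subgroup G) ψ ψ' then (Nat.card C : ℂ) else 0) + (Nat.card N : ℂ)))) := by
    rw [map_mul, map_div₀, map_mul, map_add, map_pow, Complex.conj_natCast, Complex.conj_natCast]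
    congr 2
    · push_cast
      rw [map_div₀, Complex.conj_natCast, Complex.conj_natCast]
    · split_ifs
      · rw [Complex.conj_natCast]
      · rw [map_zero]
  rw [hreal]
  push_cast
  split_ifs with h
  · field_simp
    ring
  · field_simp
    ring

end Cfsg.Agent.Helper8.AS
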