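import Mathlib
import Cfsg.Agent.Helper8.AS6
import Cfsg.Agent.Helper24.Linear

/-!
# Fourier inversion on `P`, sizes of orbits, non-vanishing on `P`
-/

set_option autoImplicit false

namespace Cfsg.Agent.Helper8.AS

open Cfsg Cfsg.Agent.Helper24 Cfsg.Agent.Helper5 Cfsg.Agent.Helper5.CC Cfsg.Agent.Helper5.Loc

/-- The dual group of a finite abelian group has the same order. -/
theorem card_dual {A : Type*} [Group A] [Finite A] (hc : ∀ a b : A, a * b = b * a) :
    Nat.card (A →* ℂˣ) = Nat.card A := by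
  let _ : CommGroup A := { ‹Group A› with mul_comm := hc }
  have := Cfsg.Agent.Helper8.hasEnoughRootsOfUnity_exponent A
  exact CommGroup.card_monoidHom_of_hasEnoughRootsOfUnity A ℂ

open Classical in
/-- Second orthogonality on a finite abelian group. -/
theorem sum_dual_apply {A : Type*} [Group A] [Finite A] (hc : ∀ a b : A, a * b = b * a)
    [Fintype (A →* ℂˣ)] (x : A) :
    ∑ φ : A →* ℂˣ, ((φ x : ℂˣ) : ℂ) = if x = 1 then (Nat.card A : ℂ) else 0 := by
  have h := Cfsg.Agent.Helper8.sum_annihilator hc (⊥ : Subgroup A) x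
  have hf : Finset.univ.filter (fun φ : A →* ℂˣ => ∀ y ∈ (⊥ : Subgroup A), φ y = 1) =
      Finset.univ := by
    apply Finset.filter_true_of_mem
    intro φ _ y hy
    rw [Subgroup.mem_bot] at hy
    rw [hy, map_one]
  rw [hf] at h
  rw [h]
  by_cases hx : x = 1
  · rw [if_pos hx, if_pos (by rw [hx]; exact Subgroup.one_mem _), Finset.card_univ,
      ← Nat.card_eq_fintype_card, card_dual hc]
  · rw [if_neg hx, if_neg (fun h' => hx (Subgroup.mem_bot.mp h'))]

variable {G : Type*} [Group G] [Fintype G]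

/-- **Fourier inversion**: the values of a class function on `P \ 1` from its inner products with
the induced generalized characters. -/
theorem apply_eq_sum_dual (P : Subgroup G) (hc : ∀ a b : P, a * b = b * a)
    [Fintype (P →* ℂˣ)] (χ : G → ℂ) (hχ : IsClassFunction G χ) (y : P) (hy : y ≠ 1) :
    χ (y : G) = ∑ ψ : P →* ℂˣ, ((ψ y : ℂˣ) : ℂ) *
      (starRingEnd ℂ) (classInner (Ph P ψ) χ) := by
  classical
  have : Fintype P := Fintype.ofFinite _
  have hq : (Nat.card P : ℂ) ≠ 0 := by exact_mod_cast (Nat.card_pos (α := P)).ne'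
  have h1 : ∀ ψ : P →* ℂˣ, (starRingEnd ℂ) (classInner (Ph P ψ) χ) =
      (Nat.card P : ℂ)⁻¹ * ∑ z : P, (starRingEnd ℂ) (th ψ z) * χ (z : G) := by
    intro ψ
    unfold Ph
    rw [Cfsg.Agent.Helper8.frobenius_reciprocity P (th ψ) χ hχ]
    unfold classInner
    rw [map_mul, map_inv₀, Complex.conj_natCast, map_sum]
    congr 1
    refine Finset.sum_congr rfl fun z _ => ?_
    rw [map_mul, Complex.conj_conj]
  simp_rw [h1]
  have h2 : ∑ ψ : P →* ℂˣ, ((ψ y : ℂˣ) : ℂ) *
      ((Nat.card P : ℂ)⁻¹ * ∑ z : P, (starRingEnd ℂ) (th ψ z) * χ (z : G)) =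
      (Nat.card P : ℂ)⁻¹ * ∑ z : P, χ (z : G) *
        ∑ ψ : P →* ℂˣ, ((ψ y : ℂˣ) : ℂ) * (starRingEnd ℂ) (th ψ z) := by
    simp_rw [Finset.mul_sum]
    rw [Finset.sum_comm]
    refine Finset.sum_congr rfl fun z _ => ?_
    refine Finset.sum_congr rfl fun ψ _ => ?_
    ring
  rw [h2]
  have h3 : ∀ z : P, ∑ ψ : P →* ℂˣ, ((ψ y : ℂˣ) : ℂ) * (starRingEnd ℂ) (th ψ z) =
      (if y * z⁻¹ = 1 then (Nat.card P : ℂ) else 0) := by
    intro z
    have e : ∀ ψ : P →* ℂˣ, ((ψ y : ℂˣ) : ℂ) * (starRingEnd ℂ) (th ψ z) =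
        ((ψ (y * z⁻¹) : ℂˣ) : ℂ) - ((ψ y : ℂˣ) : ℂ) := by
      intro ψ
      rw [th_apply, map_sub, map_one, Cfsg.Agent.Helper8.conj_hom_units, map_mul, map_inv,
        Units.val_mul, MonoidHom.inv_apply]
      ring
    simp_rw [e]
    rw [Finset.sum_sub_distrib, sum_dual_apply hc, sum_dual_apply hc, if_neg hy, sub_zero]
    congr
  simp_rw [h3]
  rw [Finset.sum_eq_single y]
  · rw [mul_inv_cancel, if_pos rfl]
    field_simp
  · intro z _ hz
    rw [if_neg, mul_zero]
    intro h
    apply hz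
    rw [mul_inv_eq_one] at h
    exact h.symm
  · intro h
    exact absurd (Finset.mem_univ y) h

theorem twc_one (P : Subgroup G) (ψ : P →* ℂˣ) : twc P 1 ψ = ψ := by
  ext w
  rw [twc_apply, cj_one]

open Classical in
/-- **Orbit sizes**: each nontrivial linear character of `P` has exactly `|N : C|` conjugates. -/
theorem card_orbit (P : Subgroup G)
    (hfrob : ∀ y : G, y ∈ P → y ≠ 1 →
      Subgroup.centralizer ({y} : Set G) ⊓ Subgroup.normalizer (P : Set G) =
        Subgroup.centralizer (P : Set G))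
    [Fintype (P →* ℂˣ)] {ψ : P →* ℂˣ} (hψ : ψ ≠ 1) :
    (Finset.univ.filter (fun ψ' : P →* ℂˣ => RelS P ψ ψ')).card =
      (Subgroup.centralizer (P : Set G)).relIndex (Subgroup.normalizer (P : Set G)) := by
  have : Finite G := Finite.of_fintype G
  set N : Subgroup G := Subgroup.normalizer (P : Set G) with hN
  set C : Subgroup G := Subgroup.centralizer (P : Set G) with hC
  have : Fintype N := Fintype.ofFinite _
  have hCN : C ≤ N := Subgroup.centralizer_le_normalizer _
  have h1 : ∑ ψ' : P →* ℂˣ, ∑ x : N, (if twc P x ψ' = ψ then (1 : ℂ) else 0) =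
      (Nat.card N : ℂ) := by
    rw [Finset.sum_comm]
    have : ∀ x : N, ∑ ψ' : P →* ℂˣ, (if twc P x ψ' = ψ then (1 : ℂ) else 0) = 1 := by
      intro x
      rw [Finset.sum_eq_single (twc P x⁻¹ ψ)]
      · rw [if_pos]
        rw [← twc_mul, inv_mul_cancel, twc_one]
      · intro ψ' _ hne
        rw [if_neg]
        intro h
        apply hne
        rw [← h, ← twc_mul, mul_inv_cancel, twc_one]
      · intro h
        exact absurd (Finset.mem_univ _) h
    rw [Finset.sum_congr rfl (fun x _ => this x), Finset.sum_const, Finset.card_univ,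
      Nat.card_eq_fintype_card]
    simp
  have h2 : ∑ ψ' : P →* ℂˣ, ∑ x : N, (if twc P x ψ' = ψ then (1 : ℂ) else 0) =
      ((Finset.univ.filter (fun ψ' : P →* ℂˣ => RelS P ψ ψ')).card : ℂ) * (Nat.card C : ℂ) := by
    have : ∀ ψ' : P →* ℂˣ, ∑ x : N, (if twc P x ψ' = ψ then (1 : ℂ) else 0) =
        if RelS P ψ ψ' then (Nat.card C : ℂ) else 0 := by
      intro ψ'
      convert sum_twc_eq P hfrob (ψ := ψ) (ψ' := ψ') hψ
    rw [Finset.sum_congr rfl (fun ψ' _ => this ψ'), ← Finset.sum_filter, Finset.sum_const,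
      nsmul_eq_mul]
  rw [h1] at h2
  have h3 := Subgroup.relIndex_mul_relIndex ⊥ C N bot_le hCN
  rw [Subgroup.relIndex_bot_left, Subgroup.relIndex_bot_left] at h3
  have h4 : (Finset.univ.filter (fun ψ' : P →* ℂˣ => RelS P ψ ψ')).card * Nat.card C =
      Nat.card N := by exact_mod_cast h2.symm
  have hCpos : 0 < Nat.card C := Nat.card_pos
  rw [← h3, mul_comm] at h4
  exact Nat.eq_of_mul_eq_mul_left hCpos h4

open Classical in
/-- If the orbits are smaller than `|P| - 1`, there are two unrelated nontrivial characters. -/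
theorem exists_not_relS (P : Subgroup G) (hc : ∀ a b : P, a * b = b * a)
    (hfrob : ∀ y : G, y ∈ P → y ≠ 1 →
      Subgroup.centralizer ({y} : Set G) ⊓ Subgroup.normalizer (P : Set G) =
        Subgroup.centralizer (P : Set G))
    (hm : (Subgroup.centralizer (P : Set G)).relIndex (Subgroup.normalizer (P : Set G)) + 1 <
      Nat.card P) {ψ : P →* ℂˣ} (hψ : ψ ≠ 1) :
    ∃ ψ' : P →* ℂˣ, ψ' ≠ 1 ∧ ¬ RelS P ψ ψ' := by
  have : Finite G := Finite.of_fintype G
  have : Finite (P →* ℂˣ) := Cfsg.Agent.Helper8.finite_hom_units hc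
  have : Fintype (P →* ℂˣ) := Fintype.ofFinite _
  by_contra hcon
  push Not at hcon
  have hsub : (Finset.univ : Finset (P →* ℂˣ)) ⊆
      insert 1 (Finset.univ.filter (fun ψ' : P →* ℂˣ => RelS P ψ ψ')) := by
    intro ψ' _
    by_cases h : ψ' = 1
    · rw [h]; exact Finset.mem_insert_self _ _
    · apply Finset.mem_insert_of_mem
      rw [Finset.mem_filter]
      exact ⟨Finset.mem_univ _, hcon ψ' h⟩
  have h1 := Finset.card_le_card hsub
  have h2 := Finset.card_insert_le (1 : P →* ℂˣ)
    (Finset.univ.filter (fun ψ' : P →* ℂˣ => RelS P ψ ψ'))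
  rw [card_orbit P hfrob hψ] at h2
  rw [Finset.card_univ, ← Nat.card_eq_fintype_card, card_dual hc] at h1
  omega

variable {M : Ideal AlgInt} {p : ℕ} [hp : Fact p.Prime]

/-- Characters of the principal block do not vanish at elements whose class has size prime to
`p`. -/
theorem principal_apply_ne_zero (hM : IsPModular p M) (χ : IrrCharacter G)
    (hχ : χ ∈ principalBlock M G) (y : G)
    (hy : ¬ p ∣ (Subgroup.centralizer ({y} : Set G)).index) : (χ : G → ℂ) y ≠ 0 := by
  intro h0
  have h := hχ y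
  unfold centralChar at h
  rw [h0, mul_zero, zero_div, sub_zero, mul_one, div_one] at h
  exact hy ((memLocalIdeal_natCast_iff hM _).mp h)

/-- The class of an element of an abelian Sylow `p`-subgroup has size prime to `p`. -/
theorem not_dvd_index_centralizer (P : Sylow p G) (hab : IsMulCommutative P) {y : G}
    (hy : y ∈ P) : ¬ p ∣ (Subgroup.centralizer ({y} : Set G)).index := by
  have : Finite G := Finite.of_fintype G
  have hle := le_centralizer_singleton P hab hy
  have h1 := Subgroup.index_dvd_of_le hle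
  intro h
  exact P.not_dvd_index (dvd_trans h h1)

end Cfsg.Agent.Helper8.AS
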