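import Mathlib
import Cfsg.Agent.Helper8.AS7
import Cfsg.Agent.Helper8.UniformCoherent

/-!
# Coherence: the exceptional characters of the principal block
-/

set_option autoImplicit false

namespace Cfsg.Agent.Helper8.AS

open Cfsg Cfsg.Agent.Helper24 Cfsg.Agent.Helper5 Cfsg.Agent.Helper5.CC Cfsg.Agent.Helper5.Loc

variable {G : Type*} [Group G] [Fintype G] [Fintype (IrrCharacter G)]
variable {M : Ideal AlgInt} {p : ℕ} [hp : Fact p.Prime]

/-- The orbit relation on the nontrivial linear characters of `P`. -/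
def relSetoid (P : Subgroup G) : Setoid {ψ : P →* ℂˣ // ψ ≠ 1} where
  r a b := RelS P a.1 b.1
  iseqv := ⟨fun a => relS_refl P a.1, fun h => relS_symm P h, fun h h' => relS_trans P h h'⟩

omit [Fintype G] [Fintype (IrrCharacter G)] in
theorem relSetoid_r (P : Subgroup G) (a b : {ψ : P →* ℂˣ // ψ ≠ 1}) :
    (relSetoid P).r a b ↔ RelS P a.1 b.1 := Iff.rfl

theorem Th_apply_one (hM : IsPModular p M) (P : Sylow p G) (ψ : (P : Subgroup G) →* ℂˣ) :
    Th M (P : Subgroup G) ψ 1 = 0 := by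
  apply Th_apply_of_pRegular hM _ P.isPGroup'
  rw [orderOf_one, Nat.dvd_one]
  exact hp.out.ne_one

open Classical in
/-- **The structure of the block parts**: `Θ_ψ = V + ε ζ_ψ`. -/
theorem exists_exceptional (hM : IsPModular p M) (P : Sylow p G) (hab : IsMulCommutative P)
    (hfrob : ∀ y : G, y ∈ (P : Subgroup G) → y ≠ 1 →
      Subgroup.centralizer ({y} : Set G) ⊓ Subgroup.normalizer ((P : Subgroup G) : Set G) =
        Subgroup.centralizer ((P : Subgroup G) : Set G))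
    (hm : (Subgroup.centralizer ((P : Subgroup G) : Set G)).relIndex
      (Subgroup.normalizer ((P : Subgroup G) : Set G)) + 1 < Nat.card (P : Subgroup G)) :
    ∃ (ε : ℤ) (ζ : ((P : Subgroup G) →* ℂˣ) → IrrCharacter G) (nV : IrrCharacter G → ℤ),
      (ε = 1 ∨ ε = -1) ∧
      (∀ ψ : (P : Subgroup G) →* ℂˣ, ψ ≠ 1 → ζ ψ ∈ principalBlock M G) ∧
      (∀ ψ ψ' : (P : Subgroup G) →* ℂˣ, ψ ≠ 1 → ψ' ≠ 1 →
        (ζ ψ = ζ ψ' ↔ RelS (P : Subgroup G) ψ ψ')) ∧
      (∀ χ : IrrCharacter G, χ ∉ principalBlock M G → nV χ = 0) ∧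
      (∀ ψ : (P : Subgroup G) →* ℂˣ, ψ ≠ 1 → Th M (P : Subgroup G) ψ =
        (∑ χ : IrrCharacter G, (nV χ : ℂ) • (χ : G → ℂ)) + (ε : ℂ) • (ζ ψ : G → ℂ)) := by
  have : Finite G := Finite.of_fintype G
  have hc : ∀ a b : (P : Subgroup G), a * b = b * a := fun a b => hab.is_comm.comm a b
  have : Finite ((P : Subgroup G) →* ℂˣ) := Cfsg.Agent.Helper8.finite_hom_units hc
  have : Fintype ((P : Subgroup G) →* ℂˣ) := Fintype.ofFinite _
  -- a nontrivial character
  obtain ⟨ψ₀, hψ₀⟩ : ∃ ψ₀ : (P : Subgroup G) →* ℂˣ, ψ₀ ≠ 1 := by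
    have h1 : 1 < Nat.card ((P : Subgroup G) →* ℂˣ) := by rw [card_dual hc]; omega
    have : Nontrivial ((P : Subgroup G) →* ℂˣ) := (Finite.one_lt_card_iff_nontrivial).mp h1
    exact exists_ne 1
  set m : ℕ := (Subgroup.centralizer ((P : Subgroup G) : Set G)).relIndex
      (Subgroup.normalizer ((P : Subgroup G) : Set G)) with hmdef
  let s := relSetoid (P : Subgroup G)
  let T := Quotient s
  let q₀ : T := Quotient.mk s ⟨ψ₀, hψ₀⟩
  let v : T → (G → ℂ) := fun q => Th M (P : Subgroup G) q.out.1 - Th M (P : Subgroup G) ψ₀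
  have hrel_out : ∀ a : {ψ : (P : Subgroup G) →* ℂˣ // ψ ≠ 1},
      RelS (P : Subgroup G) (Quotient.mk s a).out.1 a.1 :=
    fun a => Quotient.exact (Quotient.out_eq (Quotient.mk s a))
  have hTh_out : ∀ a : {ψ : (P : Subgroup G) →* ℂˣ // ψ ≠ 1},
      Th M (P : Subgroup G) (Quotient.mk s a).out.1 = Th M (P : Subgroup G) a.1 :=
    fun a => Th_eq_of_relS (P : Subgroup G) (hrel_out a)
  have hv0 : v q₀ = 0 := by
    show Th M (P : Subgroup G) q₀.out.1 - Th M (P : Subgroup G) ψ₀ = 0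
    rw [hTh_out ⟨ψ₀, hψ₀⟩, sub_self]
  have hgen : ∀ q, IsGeneralizedCharacter G (v q) := fun q =>
    IsGeneralizedCharacter.sub (isGeneralizedCharacter_Th _ _) (isGeneralizedCharacter_Th _ _)
  have h1 : ∀ q, v q 1 = 0 := by
    intro q
    show Th M (P : Subgroup G) q.out.1 1 - Th M (P : Subgroup G) ψ₀ 1 = 0
    rw [Th_apply_one hM, Th_apply_one hM, sub_self]
  have hrel_iff : ∀ q q' : T, RelS (P : Subgroup G) q.out.1 q'.out.1 ↔ q = q' := by
    intro q q'
    constructor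
    · intro h
      have : Quotient.mk s q.out = Quotient.mk s q'.out := Quotient.sound h
      rwa [Quotient.out_eq, Quotient.out_eq] at this
    · rintro rfl
      exact relS_refl _ _
  have hnot0 : ∀ q : T, q ≠ q₀ → ¬ RelS (P : Subgroup G) q.out.1 ψ₀ := by
    intro q hq h
    apply hq
    have : Quotient.mk s q.out = Quotient.mk s ⟨ψ₀, hψ₀⟩ := Quotient.sound h
    rwa [Quotient.out_eq] at this
  have hin : ∀ q q' : T, q ≠ q₀ → q' ≠ q₀ →
      classInner (v q) (v q') = @ite _ (q = q') (Classical.propDecidable _) 2 1 := by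
    intro q q' hq hq'
    show classInner (Th M (P : Subgroup G) q.out.1 - Th M (P : Subgroup G) ψ₀)
      (Th M (P : Subgroup G) q'.out.1 - Th M (P : Subgroup G) ψ₀) = _
    rw [classInner_sub_left, classInner_sub_right, classInner_sub_right,
      classInner_Th_Th hM P hab hfrob q.out.2 q'.out.2,
      classInner_Th_Th hM P hab hfrob q.out.2 hψ₀,
      classInner_Th_Th hM P hab hfrob hψ₀ q'.out.2,
      classInner_Th_Th hM P hab hfrob hψ₀ hψ₀,
      if_neg (hnot0 q hq), if_neg (fun h => hnot0 q' hq' (relS_symm _ h)),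
      if_pos (relS_refl _ _)]
    by_cases hqq : q = q'
    · rw [if_pos hqq, if_pos ((hrel_iff q q').mpr hqq)]
      ring
    · rw [if_neg hqq, if_neg (fun h => hqq ((hrel_iff q q').mp h))]
      ring
  obtain ⟨ε, f, hε, hf, hvf⟩ := Cfsg.Agent.Helper8.UniCoh.uniform_coherent q₀ v hv0 hgen h1 hin
  -- the integer sign
  obtain ⟨εz, hεz, hεz'⟩ : ∃ εz : ℤ, (εz = 1 ∨ εz = -1) ∧ (εz : ℂ) = ε := by
    rcases hε with h | h
    · exact ⟨1, Or.inl rfl, by rw [h]; simp⟩
    · exact ⟨-1, Or.inr rfl, by rw [h]; simp⟩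
  let ζ : ((P : Subgroup G) →* ℂˣ) → IrrCharacter G := fun ψ =>
    if h : ψ ≠ 1 then f (Quotient.mk s ⟨ψ, h⟩) else f q₀
  have hζ : ∀ (ψ : (P : Subgroup G) →* ℂˣ) (h : ψ ≠ 1), ζ ψ = f (Quotient.mk s ⟨ψ, h⟩) := by
    intro ψ h
    show (if h : ψ ≠ 1 then f (Quotient.mk s ⟨ψ, h⟩) else f q₀) = _
    rw [dif_pos h]
  have hζ0 : ζ ψ₀ = f q₀ := hζ ψ₀ hψ₀
  -- the key identity
  have hkey : ∀ (ψ : (P : Subgroup G) →* ℂˣ), ψ ≠ 1 → Th M (P : Subgroup G) ψ =
      (Th M (P : Subgroup G) ψ₀ - ε • (ζ ψ₀ : G → ℂ)) + ε • (ζ ψ : G → ℂ) := by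
    intro ψ h
    have h2 := hvf (Quotient.mk s ⟨ψ, h⟩)
    have h3 : v (Quotient.mk s ⟨ψ, h⟩) = Th M (P : Subgroup G) ψ - Th M (P : Subgroup G) ψ₀ := by
      show Th M (P : Subgroup G) (Quotient.mk s ⟨ψ, h⟩).out.1 - Th M (P : Subgroup G) ψ₀ = _
      rw [hTh_out ⟨ψ, h⟩]
    rw [h3, ← hζ ψ h, ← hζ0] at h2
    rw [eq_add_of_sub_eq h2, smul_sub]
    abel
  set V : G → ℂ := Th M (P : Subgroup G) ψ₀ - ε • (ζ ψ₀ : G → ℂ) with hV
  have hVgen : IsGeneralizedCharacter G V := by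
    apply IsGeneralizedCharacter.sub (isGeneralizedCharacter_Th _ _)
    rw [← hεz']
    exact IsGeneralizedCharacter.zsmul (IsIrrCharacter.isGeneralizedCharacter (ζ ψ₀).2) εz
  obtain ⟨nV, hnV⟩ := IsGeneralizedCharacter.exists_int_coeff hVgen
  have hε0 : ε ≠ 0 := by
    rcases hε with h | h <;> rw [h] <;> norm_num
  -- injectivity
  have hζinj : ∀ ψ ψ' : (P : Subgroup G) →* ℂˣ, ψ ≠ 1 → ψ' ≠ 1 →
      (ζ ψ = ζ ψ' ↔ RelS (P : Subgroup G) ψ ψ') := by
    intro ψ ψ' h h'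
    rw [hζ ψ h, hζ ψ' h']
    constructor
    · intro he
      exact Quotient.exact (hf he)
    · intro hr
      congr 1
      exact Quotient.sound hr
  -- membership in the principal block
  have hζB : ∀ ψ : (P : Subgroup G) →* ℂˣ, ψ ≠ 1 → ζ ψ ∈ principalBlock M G := by
    intro ψ h
    by_contra hnot
    obtain ⟨ψ', h', hnr⟩ := exists_not_relS (P : Subgroup G) hc hfrob hm h
    have hne : ζ ψ ≠ ζ ψ' := fun he => hnr ((hζinj ψ ψ' h h').mp he)
    have e1 := hkey ψ h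
    have e2 := hkey ψ' h'
    have e3 : classInner (Th M (P : Subgroup G) ψ - Th M (P : Subgroup G) ψ') (ζ ψ : G → ℂ) = ε := by
      rw [e1, e2]
      have : V + ε • (ζ ψ : G → ℂ) - (V + ε • (ζ ψ' : G → ℂ)) =
          ε • (ζ ψ : G → ℂ) - ε • (ζ ψ' : G → ℂ) := by abel
      rw [this, classInner_sub_left, classInner_smul_left, classInner_smul_left, classInner_irr,
        classInner_irr, if_pos rfl, if_neg (fun h => hne h.symm)]
      ring
    rw [classInner_sub_left] at e3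
    unfold Th at e3
    rw [classInner_bp_irr, classInner_bp_irr, if_neg hnot, if_neg hnot, sub_zero] at e3
    exact hε0 e3.symm
  refine ⟨εz, ζ, nV, hεz, hζB, hζinj, ?_, ?_⟩
  · intro χ hχ
    have h2 : classInner V (χ : G → ℂ) = (nV χ : ℂ) := by
      rw [hnV, classInner_sum_irr]
    have h3 : classInner V (χ : G → ℂ) = 0 := by
      rw [hV, classInner_sub_left, classInner_smul_left, classInner_irr]
      unfold Th
      rw [classInner_bp_irr, if_neg hχ]
      have : ζ ψ₀ ≠ χ := by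
        intro h
        rw [← h] at hχ
        exact hχ (hζB ψ₀ hψ₀)
      rw [if_neg this]
      ring
    rw [h3] at h2
    exact_mod_cast h2.symm
  · intro ψ h
    rw [hkey ψ h, hnV, hεz']

end Cfsg.Agent.Helper8.AS
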