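import Mathlib
import Cfsg.Agent.Helper8.AS8

/-!
# The exceptional characters: values, norm relation, `p`-regular relation
-/

set_option autoImplicit false

namespace Cfsg.Agent.Helper8.AS

open Cfsg Cfsg.Agent.Helper24 Cfsg.Agent.Helper5 Cfsg.Agent.Helper5.CC Cfsg.Agent.Helper5.Loc

variable {G : Type*} [Group G] [Fintype G] [Fintype (IrrCharacter G)]
variable {M : Ideal AlgInt} {p : ℕ} [hp : Fact p.Prime]

/-- The data of the exceptional characters of the principal block. -/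
structure Exc (M : Ideal AlgInt) (P : Sylow p G) where
  ε : ℤ
  ζ : ((P : Subgroup G) →* ℂˣ) → IrrCharacter G
  nV : IrrCharacter G → ℤ
  hε : ε = 1 ∨ ε = -1
  hζB : ∀ ψ : (P : Subgroup G) →* ℂˣ, ψ ≠ 1 → ζ ψ ∈ principalBlock M G
  hζinj : ∀ ψ ψ' : (P : Subgroup G) →* ℂˣ, ψ ≠ 1 → ψ' ≠ 1 →
    (ζ ψ = ζ ψ' ↔ RelS (P : Subgroup G) ψ ψ')
  hnV0 : ∀ χ : IrrCharacter G, χ ∉ principalBlock M G → nV χ = 0
  hTh : ∀ ψ : (P : Subgroup G) →* ℂˣ, ψ ≠ 1 → Th M (P : Subgroup G) ψ =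
    (∑ χ : IrrCharacter G, (nV χ : ℂ) • (χ : G → ℂ)) + (ε : ℂ) • (ζ ψ : G → ℂ)

theorem nonempty_exc (hM : IsPModular p M) (P : Sylow p G) (hab : IsMulCommutative P)
    (hfrob : ∀ y : G, y ∈ (P : Subgroup G) → y ≠ 1 →
      Subgroup.centralizer ({y} : Set G) ⊓ Subgroup.normalizer ((P : Subgroup G) : Set G) =
        Subgroup.centralizer ((P : Subgroup G) : Set G))
    (hm : (Subgroup.centralizer ((P : Subgroup G) : Set G)).relIndex
      (Subgroup.normalizer ((P : Subgroup G) : Set G)) + 1 < Nat.card (P : Subgroup G)) :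
    Nonempty (Exc M P) := by
  obtain ⟨ε, ζ, nV, h1, h2, h3, h4, h5⟩ := exists_exceptional hM P hab hfrob hm
  exact ⟨⟨ε, ζ, nV, h1, h2, h3, h4, h5⟩⟩

variable {P : Sylow p G}

open Classical in
theorem Exc.Th_eq_sum (E : Exc M P) {ψ : (P : Subgroup G) →* ℂˣ} (hψ : ψ ≠ 1) :
    Th M (P : Subgroup G) ψ = ∑ χ : IrrCharacter G,
      ((E.nV χ : ℂ) + if E.ζ ψ = χ then (E.ε : ℂ) else 0) • (χ : G → ℂ) := by
  rw [E.hTh ψ hψ]
  simp_rw [add_smul]
  rw [Finset.sum_add_distrib]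
  congr 1
  simp_rw [ite_smul, zero_smul]
  rw [Finset.sum_ite_eq]
  simp

open Classical in
theorem Exc.classInner_Th_irr (E : Exc M P) {ψ : (P : Subgroup G) →* ℂˣ} (hψ : ψ ≠ 1)
    (χ : IrrCharacter G) :
    classInner (Th M (P : Subgroup G) ψ) (χ : G → ℂ) =
      (E.nV χ : ℂ) + if E.ζ ψ = χ then (E.ε : ℂ) else 0 := by
  rw [E.Th_eq_sum hψ, classInner_sum_irr]

open Classical in
theorem Exc.classInner_Ph_irr (E : Exc M P) {ψ : (P : Subgroup G) →* ℂˣ} (hψ : ψ ≠ 1)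
    (χ : IrrCharacter G) (hχ : χ ∈ principalBlock M G) :
    classInner (Ph (P : Subgroup G) ψ) (χ : G → ℂ) =
      (E.nV χ : ℂ) + if E.ζ ψ = χ then (E.ε : ℂ) else 0 := by
  have h := classInner_bp_irr (principalBlock M G) (Ph (P : Subgroup G) ψ) χ
  rw [if_pos hχ] at h
  rw [← h]
  exact E.classInner_Th_irr hψ χ

open Classical in
/-- **Values on `P`**: for `χ` in the principal block and `1 ≠ y ∈ P`. -/
theorem Exc.apply_P (E : Exc M P) (hab : IsMulCommutative P)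
    [Fintype ((P : Subgroup G) →* ℂˣ)]
    (χ : IrrCharacter G) (hχ : χ ∈ principalBlock M G) (y : (P : Subgroup G)) (hy : y ≠ 1) :
    (χ : G → ℂ) (y : G) = -(E.nV χ : ℂ) + (E.ε : ℂ) *
      ∑ ψ ∈ Finset.univ.filter (fun ψ : (P : Subgroup G) →* ℂˣ => ψ ≠ 1 ∧ E.ζ ψ = χ),
        ((ψ y : ℂˣ) : ℂ) := by
  have : Finite G := Finite.of_fintype G
  have hc : ∀ a b : (P : Subgroup G), a * b = b * a := fun a b => hab.is_comm.comm a b
  rw [apply_eq_sum_dual (P : Subgroup G) hc (χ : G → ℂ) (isClassFunction_irr χ) y hy]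
  have hterm : ∀ ψ : (P : Subgroup G) →* ℂˣ, ((ψ y : ℂˣ) : ℂ) *
      (starRingEnd ℂ) (classInner (Ph (P : Subgroup G) ψ) (χ : G → ℂ)) =
      (((ψ y : ℂˣ) : ℂ) * (E.nV χ : ℂ) - if ψ = 1 then (E.nV χ : ℂ) else 0) +
        (E.ε : ℂ) * (if ψ ≠ 1 ∧ E.ζ ψ = χ then ((ψ y : ℂˣ) : ℂ) else 0) := by
    intro ψ
    by_cases hψ : ψ = 1
    · rw [hψ, Ph_triv, if_pos rfl, if_neg (fun h => h.1 rfl)]
      have : classInner (0 : G → ℂ) (χ : G → ℂ) = 0 := by
        unfold classInner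
        simp
      rw [this]
      simp
    · rw [E.classInner_Ph_irr hψ χ hχ, if_neg hψ]
      by_cases hz : E.ζ ψ = χ
      · rw [if_pos hz, if_pos ⟨hψ, hz⟩, map_add, map_intCast, map_intCast]
        ring
      · rw [if_neg hz, if_neg (fun h => hz h.2), map_add, map_intCast, map_zero]
        ring
  rw [Finset.sum_congr rfl (fun ψ _ => hterm ψ), Finset.sum_add_distrib, Finset.sum_sub_distrib,
    ← Finset.sum_mul, sum_dual_apply hc y, if_neg hy, Finset.sum_ite_eq' Finset.univ 1,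
    if_pos (Finset.mem_univ _), ← Finset.mul_sum, Finset.sum_filter]
  ring

theorem Exc.eps_sq (E : Exc M P) : E.ε ^ 2 = 1 := by
  rcases E.hε with h | h <;> rw [h] <;> norm_num

open Classical in
/-- **The norm relation**. -/
theorem Exc.norm_eq (E : Exc M P) (hM : IsPModular p M) (hab : IsMulCommutative P)
    (hfrob : ∀ y : G, y ∈ (P : Subgroup G) → y ≠ 1 →
      Subgroup.centralizer ({y} : Set G) ⊓ Subgroup.normalizer ((P : Subgroup G) : Set G) =
        Subgroup.centralizer ((P : Subgroup G) : Set G))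
    {ψ : (P : Subgroup G) →* ℂˣ} (hψ : ψ ≠ 1) :
    ∑ χ : IrrCharacter G, (E.nV χ) ^ 2 + 2 * E.ε * E.nV (E.ζ ψ) =
      ((Subgroup.centralizer ((P : Subgroup G) : Set G)).relIndex
        (Subgroup.normalizer ((P : Subgroup G) : Set G)) : ℤ) := by
  have h1 := classInner_Th_Th hM P hab hfrob hψ hψ
  rw [if_pos (relS_refl _ _), E.Th_eq_sum hψ, classInner_sum_sum] at h1
  have hε2 : (E.ε : ℂ) ^ 2 = 1 := by exact_mod_cast E.eps_sq
  have h2 : ∀ χ : IrrCharacter G,
      ((E.nV χ : ℂ) + if E.ζ ψ = χ then (E.ε : ℂ) else 0) *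
        (starRingEnd ℂ) ((E.nV χ : ℂ) + if E.ζ ψ = χ then (E.ε : ℂ) else 0) =
      ((E.nV χ : ℂ)) ^ 2 + if E.ζ ψ = χ then (2 * (E.ε : ℂ) * (E.nV χ : ℂ) + 1) else 0 := by
    intro χ
    by_cases hz : E.ζ ψ = χ
    · rw [if_pos hz, if_pos hz, map_add, map_intCast, map_intCast]
      linear_combination hε2
    · rw [if_neg hz, if_neg hz, map_add, map_intCast, map_zero]
      ring
  rw [Finset.sum_congr rfl (fun χ _ => h2 χ), Finset.sum_add_distrib, Finset.sum_ite_eq,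
    if_pos (Finset.mem_univ _)] at h1
  have h3 : ((∑ χ : IrrCharacter G, (E.nV χ) ^ 2 + 2 * E.ε * E.nV (E.ζ ψ) : ℤ) : ℂ) =
      (((Subgroup.centralizer ((P : Subgroup G) : Set G)).relIndex
        (Subgroup.normalizer ((P : Subgroup G) : Set G)) : ℤ) : ℂ) := by
    push_cast
    linear_combination h1
  exact_mod_cast h3

/-- The coefficient of the exceptional characters is constant. -/
theorem Exc.nV_ζ_const (E : Exc M P) (hM : IsPModular p M) (hab : IsMulCommutative P)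
    (hfrob : ∀ y : G, y ∈ (P : Subgroup G) → y ≠ 1 →
      Subgroup.centralizer ({y} : Set G) ⊓ Subgroup.normalizer ((P : Subgroup G) : Set G) =
        Subgroup.centralizer ((P : Subgroup G) : Set G))
    {ψ ψ' : (P : Subgroup G) →* ℂˣ} (hψ : ψ ≠ 1) (hψ' : ψ' ≠ 1) :
    E.nV (E.ζ ψ) = E.nV (E.ζ ψ') := by
  have h1 := E.norm_eq hM hab hfrob hψ
  have h2 := E.norm_eq hM hab hfrob hψ'
  have h3 : E.ε * E.nV (E.ζ ψ) = E.ε * E.nV (E.ζ ψ') := by linarith
  have hε0 : E.ε ≠ 0 := by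
    rcases E.hε with h | h <;> rw [h] <;> norm_num
  exact mul_left_cancel₀ hε0 h3

/-- **The relation on `p`-regular elements**. -/
theorem Exc.pRegular_eq (E : Exc M P) (hM : IsPModular p M)
    {ψ : (P : Subgroup G) →* ℂˣ} (hψ : ψ ≠ 1) (g : G) (hg : ¬ p ∣ orderOf g) :
    ∑ χ : IrrCharacter G, (E.nV χ : ℂ) * (χ : G → ℂ) g + (E.ε : ℂ) * (E.ζ ψ : G → ℂ) g = 0 := by
  have h := Th_apply_of_pRegular hM (P : Subgroup G) P.isPGroup' ψ g hg
  rw [E.hTh ψ hψ] at h
  simpa using h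

omit [Fintype (IrrCharacter G)] in
theorem classInner_Ph_const_one (Q : Subgroup G) {ψ : Q →* ℂˣ} (hψ : ψ ≠ 1) :
    classInner (Ph Q ψ) (fun _ : G => (1 : ℂ)) = -1 := by
  classical
  have : Fintype Q := Fintype.ofFinite _
  unfold Ph
  rw [Cfsg.Agent.Helper8.frobenius_reciprocity Q (th ψ) (fun _ : G => (1 : ℂ)) (fun _ _ => rfl)]
  unfold classInner
  have hq : (Nat.card Q : ℂ) ≠ 0 := by exact_mod_cast (Nat.card_pos (α := Q)).ne'
  have h0 : ∑ y : Q, ((ψ y : ℂˣ) : ℂ) = 0 := by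
    have hne : (Units.coeHom ℂ).comp ψ ≠ 1 := by
      intro h
      apply hψ
      ext y
      have := DFunLike.congr_fun h y
      simpa using this
    have := sum_hom_units_eq_zero ((Units.coeHom ℂ).comp ψ) hne
    simpa using this
  have h1 : ∑ y : Q, th ψ y * (starRingEnd ℂ) ((fun _ : G => (1 : ℂ)) (y : G)) =
      -(Nat.card Q : ℂ) := by
    simp only [map_one, mul_one, th_apply]
    rw [Finset.sum_sub_distrib, h0, Finset.sum_const, Finset.card_univ, Nat.card_eq_fintype_card]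
    simp
  rw [h1]
  field_simp

open Classical in
/-- The principal character is not exceptional. -/
theorem Exc.ζ_ne_triv (E : Exc M P) (hM : IsPModular p M) (hab : IsMulCommutative P)
    (hfrob : ∀ y : G, y ∈ (P : Subgroup G) → y ≠ 1 →
      Subgroup.centralizer ({y} : Set G) ⊓ Subgroup.normalizer ((P : Subgroup G) : Set G) =
        Subgroup.centralizer ((P : Subgroup G) : Set G))
    (hm : (Subgroup.centralizer ((P : Subgroup G) : Set G)).relIndex
      (Subgroup.normalizer ((P : Subgroup G) : Set G)) + 1 < Nat.card (P : Subgroup G))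
    {ψ : (P : Subgroup G) →* ℂˣ} (hψ : ψ ≠ 1) :
    ((E.ζ ψ : IrrCharacter G) : G → ℂ) ≠ fun _ => 1 := by
  have : Finite G := Finite.of_fintype G
  have hc : ∀ a b : (P : Subgroup G), a * b = b * a := fun a b => hab.is_comm.comm a b
  intro hz
  have htB : trivIrr G ∈ principalBlock M G := trivIrr_mem_principalBlock (isPrime_of_isPModular hM)
  have hzt : E.ζ ψ = trivIrr G := Subtype.ext hz
  obtain ⟨ψ', hψ', hnr⟩ := exists_not_relS (P : Subgroup G) hc hfrob hm hψ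
  have hne : E.ζ ψ' ≠ trivIrr G := by
    intro h
    exact hnr ((E.hζinj ψ ψ' hψ hψ').mp (hzt.trans h.symm))
  have h1 := E.classInner_Ph_irr hψ (trivIrr G) htB
  have h2 := E.classInner_Ph_irr hψ' (trivIrr G) htB
  rw [if_pos hzt] at h1
  rw [if_neg hne, add_zero] at h2
  have e1 : classInner (Ph (P : Subgroup G) ψ) ((trivIrr G : IrrCharacter G) : G → ℂ) = -1 :=
    classInner_Ph_const_one (P : Subgroup G) hψ
  have e2 : classInner (Ph (P : Subgroup G) ψ') ((trivIrr G : IrrCharacter G) : G → ℂ) = -1 :=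
    classInner_Ph_const_one (P : Subgroup G) hψ'
  rw [e1] at h1
  rw [e2] at h2
  rw [← h2] at h1
  have hε0 : (E.ε : ℂ) ≠ 0 := by
    rcases E.hε with h | h <;> rw [h] <;> norm_num
  apply hε0
  linear_combination -h1

end Cfsg.Agent.Helper8.AS
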