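import Mathlib
import Cfsg.Agent.Helper8.AS9

/-!
# The two parts of the principal block
-/

set_option autoImplicit false

namespace Cfsg.Agent.Helper8.AS

open Cfsg Cfsg.Agent.Helper24 Cfsg.Agent.Helper5 Cfsg.Agent.Helper5.CC Cfsg.Agent.Helper5.Loc

variable {G : Type*} [Group G] [Fintype G] [Fintype (IrrCharacter G)]
variable {M : Ideal AlgInt} {p : ℕ} [hp : Fact p.Prime] {P : Sylow p G}

open Classical in
/-- The exceptional characters. -/
noncomputable def Exc.Yf (E : Exc M P) [Fintype ((P : Subgroup G) →* ℂˣ)] :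
    Finset (IrrCharacter G) :=
  (Finset.univ.filter (fun ψ : (P : Subgroup G) →* ℂˣ => ψ ≠ 1)).image E.ζ

open Classical in
/-- The non-exceptional characters of the principal block. -/
noncomputable def Exc.Xf (E : Exc M P) [Fintype ((P : Subgroup G) →* ℂˣ)] :
    Finset (IrrCharacter G) :=
  (Finset.univ.filter (fun χ : IrrCharacter G => χ ∈ principalBlock M G)) \ E.Yf

theorem Exc.mem_Yf (E : Exc M P) [Fintype ((P : Subgroup G) →* ℂˣ)] (χ : IrrCharacter G) :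
    χ ∈ E.Yf ↔ ∃ ψ : (P : Subgroup G) →* ℂˣ, ψ ≠ 1 ∧ E.ζ ψ = χ := by
  classical
  unfold Exc.Yf
  rw [Finset.mem_image]
  constructor
  · rintro ⟨ψ, hψ, h⟩
    exact ⟨ψ, (Finset.mem_filter.mp hψ).2, h⟩
  · rintro ⟨ψ, hψ, h⟩
    exact ⟨ψ, Finset.mem_filter.mpr ⟨Finset.mem_univ _, hψ⟩, h⟩

theorem Exc.mem_Xf (E : Exc M P) [Fintype ((P : Subgroup G) →* ℂˣ)] (χ : IrrCharacter G) :
    χ ∈ E.Xf ↔ χ ∈ principalBlock M G ∧ χ ∉ E.Yf := by
  classical
  unfold Exc.Xf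
  rw [Finset.mem_sdiff, Finset.mem_filter]
  simp

theorem Exc.Yf_subset (E : Exc M P) [Fintype ((P : Subgroup G) →* ℂˣ)] {χ : IrrCharacter G}
    (h : χ ∈ E.Yf) : χ ∈ principalBlock M G := by
  obtain ⟨ψ, hψ, rfl⟩ := (E.mem_Yf χ).mp h
  exact E.hζB ψ hψ

theorem Exc.mem_block_iff (E : Exc M P) [Fintype ((P : Subgroup G) →* ℂˣ)] (χ : IrrCharacter G) :
    χ ∈ principalBlock M G ↔ χ ∈ E.Xf ∨ χ ∈ E.Yf := by
  rw [E.mem_Xf]
  constructor
  · intro h
    by_cases hy : χ ∈ E.Yf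
    · exact Or.inr hy
    · exact Or.inl ⟨h, hy⟩
  · rintro (h | h)
    · exact h.1
    · exact E.Yf_subset h

theorem Exc.disjoint_Xf_Yf (E : Exc M P) [Fintype ((P : Subgroup G) →* ℂˣ)] :
    Disjoint E.Xf E.Yf := by
  rw [Finset.disjoint_left]
  intro χ hx hy
  exact ((E.mem_Xf χ).mp hx).2 hy

open Classical in
theorem Exc.filter_eq_orbit (E : Exc M P) [Fintype ((P : Subgroup G) →* ℂˣ)]
    {ψ₁ : (P : Subgroup G) →* ℂˣ} (hψ₁ : ψ₁ ≠ 1) :
    Finset.univ.filter (fun ψ : (P : Subgroup G) →* ℂˣ => ψ ≠ 1 ∧ E.ζ ψ = E.ζ ψ₁) =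
      Finset.univ.filter (fun ψ : (P : Subgroup G) →* ℂˣ => RelS (P : Subgroup G) ψ₁ ψ) := by
  ext ψ
  simp only [Finset.mem_filter, Finset.mem_univ, true_and]
  constructor
  · rintro ⟨h1, h2⟩
    exact (E.hζinj ψ₁ ψ hψ₁ h1).mp h2.symm
  · intro h
    have h1 : ψ ≠ 1 := relS_ne_one (P : Subgroup G) h hψ₁
    exact ⟨h1, ((E.hζinj ψ₁ ψ hψ₁ h1).mpr h).symm⟩

open Classical in
/-- **The number of exceptional characters**. -/
theorem Exc.card_Yf_mul (E : Exc M P) (hab : IsMulCommutative P)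
    (hfrob : ∀ y : G, y ∈ (P : Subgroup G) → y ≠ 1 →
      Subgroup.centralizer ({y} : Set G) ⊓ Subgroup.normalizer ((P : Subgroup G) : Set G) =
        Subgroup.centralizer ((P : Subgroup G) : Set G))
    [Fintype ((P : Subgroup G) →* ℂˣ)] :
    E.Yf.card * (Subgroup.centralizer ((P : Subgroup G) : Set G)).relIndex
      (Subgroup.normalizer ((P : Subgroup G) : Set G)) = Nat.card (P : Subgroup G) - 1 := by
  have : Finite G := Finite.of_fintype G
  have hc : ∀ a b : (P : Subgroup G), a * b = b * a := fun a b => hab.is_comm.comm a b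
  have h1 : (Finset.univ.filter (fun ψ : (P : Subgroup G) →* ℂˣ => ψ ≠ 1)).card =
      Nat.card (P : Subgroup G) - 1 := by
    rw [Finset.filter_ne' Finset.univ (1 : (P : Subgroup G) →* ℂˣ),
      Finset.card_erase_of_mem (Finset.mem_univ _), Finset.card_univ, ← Nat.card_eq_fintype_card,
      card_dual hc]
  rw [← h1, Finset.card_eq_sum_card_fiberwise (f := E.ζ) (t := E.Yf)
    (fun ψ hψ => (E.mem_Yf _).mpr ⟨ψ, (Finset.mem_filter.mp hψ).2, rfl⟩)]
  rw [Finset.sum_const_nat (m := (Subgroup.centralizer ((P : Subgroup G) : Set G)).relIndex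
      (Subgroup.normalizer ((P : Subgroup G) : Set G)))]
  intro χ hχ
  obtain ⟨ψ₁, hψ₁, rfl⟩ := (E.mem_Yf χ).mp hχ
  rw [Finset.filter_filter, E.filter_eq_orbit hψ₁]
  exact card_orbit (P : Subgroup G) hfrob hψ₁

open Classical in
/-- Values of the non-exceptional characters on `P`. -/
theorem Exc.apply_P_Xf (E : Exc M P) (hab : IsMulCommutative P)
    [Fintype ((P : Subgroup G) →* ℂˣ)]
    (χ : IrrCharacter G) (hχ : χ ∈ E.Xf) (y : (P : Subgroup G)) (hy : y ≠ 1) :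
    (χ : G → ℂ) (y : G) = -(E.nV χ : ℂ) := by
  rw [E.apply_P hab χ ((E.mem_Xf χ).mp hχ).1 y hy]
  have : Finset.univ.filter (fun ψ : (P : Subgroup G) →* ℂˣ => ψ ≠ 1 ∧ E.ζ ψ = χ) = ∅ := by
    rw [Finset.filter_eq_empty_iff]
    rintro ψ - ⟨h1, h2⟩
    exact ((E.mem_Xf χ).mp hχ).2 ((E.mem_Yf χ).mpr ⟨ψ, h1, h2⟩)
  rw [this, Finset.sum_empty, mul_zero, add_zero]

open Classical in
/-- Values of the exceptional characters on `P`. -/
theorem Exc.apply_P_ζ (E : Exc M P) (hab : IsMulCommutative P)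
    [Fintype ((P : Subgroup G) →* ℂˣ)]
    {ψ₁ : (P : Subgroup G) →* ℂˣ} (hψ₁ : ψ₁ ≠ 1) (y : (P : Subgroup G)) (hy : y ≠ 1) :
    (E.ζ ψ₁ : G → ℂ) (y : G) = -(E.nV (E.ζ ψ₁) : ℂ) + (E.ε : ℂ) *
      ∑ ψ ∈ Finset.univ.filter (fun ψ : (P : Subgroup G) →* ℂˣ => RelS (P : Subgroup G) ψ₁ ψ),
        ((ψ y : ℂˣ) : ℂ) := by
  rw [E.apply_P hab (E.ζ ψ₁) (E.hζB ψ₁ hψ₁) y hy, E.filter_eq_orbit hψ₁]

/-- The non-exceptional coefficients do not vanish. -/
theorem Exc.nV_ne_zero (E : Exc M P) (hM : IsPModular p M) (hab : IsMulCommutative P)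
    (hP1 : Nat.card (P : Subgroup G) ≠ 1)
    [Fintype ((P : Subgroup G) →* ℂˣ)]
    (χ : IrrCharacter G) (hχ : χ ∈ E.Xf) : E.nV χ ≠ 0 := by
  have : Finite G := Finite.of_fintype G
  obtain ⟨y, hy⟩ : ∃ y : (P : Subgroup G), y ≠ 1 := by
    have h1 : 1 < Nat.card (P : Subgroup G) := by
      have := Nat.card_pos (α := (P : Subgroup G))
      omega
    have : Nontrivial (P : Subgroup G) := (Finite.one_lt_card_iff_nontrivial).mp h1
    exact exists_ne 1
  intro h0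
  have h1 := E.apply_P_Xf hab χ hχ y hy
  rw [h0] at h1
  have h2 := principal_apply_ne_zero hM χ ((E.mem_Xf χ).mp hχ).1 (y : G)
    (not_dvd_index_centralizer P hab y.2)
  apply h2
  rw [h1]
  simp

/-- Splitting a sum over the principal block. -/
theorem Exc.sum_split (E : Exc M P) [Fintype ((P : Subgroup G) →* ℂˣ)]
    {A : Type*} [AddCommMonoid A] (f : IrrCharacter G → A)
    (hf : ∀ χ : IrrCharacter G, χ ∉ principalBlock M G → f χ = 0) :
    ∑ χ : IrrCharacter G, f χ = ∑ χ ∈ E.Xf, f χ + ∑ χ ∈ E.Yf, f χ := by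
  classical
  rw [← Finset.sum_union E.disjoint_Xf_Yf]
  symm
  apply Finset.sum_subset (Finset.subset_univ _)
  intro χ _ hχ
  apply hf
  intro hB
  apply hχ
  rw [Finset.mem_union]
  exact (E.mem_block_iff χ).mp hB

end Cfsg.Agent.Helper8.AS
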