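import Mathlib
import Cfsg.Agent.Helper8.AS10

/-!
# Assembly: the principal block for an abelian Sylow subgroup with Frobenius normalizer
-/

set_option autoImplicit false

namespace Cfsg.Agent.Helper8.AS

open Cfsg Cfsg.Agent.Helper24 Cfsg.Agent.Helper5 Cfsg.Agent.Helper5.CC Cfsg.Agent.Helper5.Loc

variable {G : Type*} [Group G] [Fintype G] [Fintype (IrrCharacter G)]
variable {M : Ideal AlgInt} {p : ℕ} [hp : Fact p.Prime] {P : Sylow p G}

omit [Fintype (IrrCharacter G)] in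
/-- Characters of the principal block are constant on the `p`-sections of the elements of `P`. -/
theorem const_section (hM : IsPModular p M) (P : Sylow p G) (hab : IsMulCommutative P)
    (hfrob : ∀ y : G, y ∈ (P : Subgroup G) → y ≠ 1 →
      Subgroup.centralizer ({y} : Set G) ⊓ Subgroup.normalizer ((P : Subgroup G) : Set G) =
        Subgroup.centralizer ((P : Subgroup G) : Set G))
    (χ : IrrCharacter G) (hχ : χ ∈ principalBlock M G) (z y : G) (hz : IsPPart p z y)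
    (hyP : y ∈ (P : Subgroup G)) (hy1 : y ≠ 1) : (χ : G → ℂ) z = (χ : G → ℂ) y := by
  have : Finite G := Finite.of_fintype G
  have hx : ∃ k : ℕ, orderOf y = p ^ k := hz.choose_spec.2.2.1
  have hnc : ∃ k : ℕ, (pPrimeCore p ↥(Subgroup.centralizer ({y} : Set G))).index = p ^ k := by
    rw [index_pPrimeCore_centralizer P hab hyP (hfrob y hyP hy1)]
    exact IsPGroup.iff_card.mp P.isPGroup'
  exact principal_const_section hM y hx hnc χ hχ z hz

/-- The coefficient of the exceptional characters. -/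
noncomputable def Exc.dd (E : Exc M P) (ψ₀ : (P : Subgroup G) →* ℂˣ) : ℤ := -E.nV (E.ζ ψ₀)

theorem Exc.nV_of_mem_Yf (E : Exc M P) (hM : IsPModular p M) (hab : IsMulCommutative P)
    (hfrob : ∀ y : G, y ∈ (P : Subgroup G) → y ≠ 1 →
      Subgroup.centralizer ({y} : Set G) ⊓ Subgroup.normalizer ((P : Subgroup G) : Set G) =
        Subgroup.centralizer ((P : Subgroup G) : Set G))
    [Fintype ((P : Subgroup G) →* ℂˣ)]
    {ψ₀ : (P : Subgroup G) →* ℂˣ} (hψ₀ : ψ₀ ≠ 1) {χ : IrrCharacter G} (hχ : χ ∈ E.Yf) :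
    E.nV χ = -E.dd ψ₀ := by
  obtain ⟨ψ, hψ, rfl⟩ := (E.mem_Yf χ).mp hχ
  unfold Exc.dd
  rw [neg_neg]
  exact E.nV_ζ_const hM hab hfrob hψ hψ₀

/-- **The norm relation**, split over the two parts. -/
theorem Exc.norm_split (E : Exc M P) (hM : IsPModular p M) (hab : IsMulCommutative P)
    (hfrob : ∀ y : G, y ∈ (P : Subgroup G) → y ≠ 1 →
      Subgroup.centralizer ({y} : Set G) ⊓ Subgroup.normalizer ((P : Subgroup G) : Set G) =
        Subgroup.centralizer ((P : Subgroup G) : Set G))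
    [Fintype ((P : Subgroup G) →* ℂˣ)]
    {ψ₀ : (P : Subgroup G) →* ℂˣ} (hψ₀ : ψ₀ ≠ 1) :
    ∑ χ ∈ E.Xf, (-E.nV χ) ^ 2 + (E.Yf.card : ℤ) * (E.dd ψ₀) ^ 2 - 2 * E.ε * E.dd ψ₀ =
      ((Subgroup.centralizer ((P : Subgroup G) : Set G)).relIndex
        (Subgroup.normalizer ((P : Subgroup G) : Set G)) : ℤ) := by
  have h1 := E.norm_eq hM hab hfrob hψ₀
  rw [E.sum_split (fun χ => (E.nV χ) ^ 2) (fun χ hχ => by
    show (E.nV χ) ^ 2 = 0
    rw [E.hnV0 χ hχ]; ring)] at h1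
  have h2 : ∑ χ ∈ E.Yf, (E.nV χ) ^ 2 = (E.Yf.card : ℤ) * (E.dd ψ₀) ^ 2 := by
    rw [Finset.sum_congr rfl (fun χ hχ => by rw [E.nV_of_mem_Yf hM hab hfrob hψ₀ hχ]),
      Finset.sum_const, nsmul_eq_mul]
    ring
  rw [h2] at h1
  have h3 : ∑ χ ∈ E.Xf, (-E.nV χ) ^ 2 = ∑ χ ∈ E.Xf, (E.nV χ) ^ 2 :=
    Finset.sum_congr rfl (fun χ _ => by ring)
  rw [h3]
  unfold Exc.dd at h1 ⊢
  linarith

/-- The exceptional characters agree on the `p`-regular elements. -/
theorem Exc.Yf_agree (E : Exc M P) (hM : IsPModular p M)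
    [Fintype ((P : Subgroup G) →* ℂˣ)]
    {η η' : IrrCharacter G} (hη : η ∈ E.Yf) (hη' : η' ∈ E.Yf) (g : G) (hg : ¬ p ∣ orderOf g) :
    (η : G → ℂ) g = (η' : G → ℂ) g := by
  obtain ⟨ψ, hψ, rfl⟩ := (E.mem_Yf η).mp hη
  obtain ⟨ψ', hψ', rfl⟩ := (E.mem_Yf η').mp hη'
  have h1 := E.pRegular_eq hM hψ g hg
  have h2 := E.pRegular_eq hM hψ' g hg
  have hε0 : (E.ε : ℂ) ≠ 0 := by
    rcases E.hε with h | h <;> rw [h] <;> norm_num
  have h3 : (E.ε : ℂ) * (E.ζ ψ : G → ℂ) g = (E.ε : ℂ) * (E.ζ ψ' : G → ℂ) g := by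
    linear_combination h1 - h2
  exact mul_left_cancel₀ hε0 h3

/-- **The relation on `p`-regular elements**, split over the two parts. -/
theorem Exc.pRegular_split (E : Exc M P) (hM : IsPModular p M) (hab : IsMulCommutative P)
    (hfrob : ∀ y : G, y ∈ (P : Subgroup G) → y ≠ 1 →
      Subgroup.centralizer ({y} : Set G) ⊓ Subgroup.normalizer ((P : Subgroup G) : Set G) =
        Subgroup.centralizer ((P : Subgroup G) : Set G))
    [Fintype ((P : Subgroup G) →* ℂˣ)]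
    {ψ₀ : (P : Subgroup G) →* ℂˣ} (hψ₀ : ψ₀ ≠ 1)
    {η : IrrCharacter G} (hη : η ∈ E.Yf) (g : G) (hg : ¬ p ∣ orderOf g) :
    ((E.Yf.card : ℂ) * (E.dd ψ₀ : ℂ) - (E.ε : ℂ)) * (η : G → ℂ) g +
      ∑ χ ∈ E.Xf, ((-E.nV χ : ℤ) : ℂ) * (χ : G → ℂ) g = 0 := by
  obtain ⟨ψ, hψ, hζη⟩ := (E.mem_Yf η).mp hη
  have h1 := E.pRegular_eq hM hψ g hg
  rw [hζη, E.sum_split (fun χ => (E.nV χ : ℂ) * (χ : G → ℂ) g) (fun χ hχ => by
    show (E.nV χ : ℂ) * (χ : G → ℂ) g = 0
    rw [E.hnV0 χ hχ]; simp)] at h1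
  have h2 : ∑ χ ∈ E.Yf, (E.nV χ : ℂ) * (χ : G → ℂ) g =
      -((E.Yf.card : ℂ) * (E.dd ψ₀ : ℂ)) * (η : G → ℂ) g := by
    rw [Finset.sum_congr rfl (fun χ hχ => by
      rw [E.nV_of_mem_Yf hM hab hfrob hψ₀ hχ, E.Yf_agree hM hχ hη g hg]),
      Finset.sum_const, nsmul_eq_mul]
    push_cast
    ring
  rw [h2] at h1
  have h3 : ∑ χ ∈ E.Xf, ((-E.nV χ : ℤ) : ℂ) * (χ : G → ℂ) g =
      -∑ χ ∈ E.Xf, (E.nV χ : ℂ) * (χ : G → ℂ) g := by
    rw [← Finset.sum_neg_distrib]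
    refine Finset.sum_congr rfl (fun χ _ => ?_)
    push_cast
    ring
  rw [h3]
  linear_combination -h1

/-- The principal character is non-exceptional. -/
theorem Exc.triv_mem_Xf (E : Exc M P) (hM : IsPModular p M) (hab : IsMulCommutative P)
    (hfrob : ∀ y : G, y ∈ (P : Subgroup G) → y ≠ 1 →
      Subgroup.centralizer ({y} : Set G) ⊓ Subgroup.normalizer ((P : Subgroup G) : Set G) =
        Subgroup.centralizer ((P : Subgroup G) : Set G))
    (hm : (Subgroup.centralizer ((P : Subgroup G) : Set G)).relIndex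
      (Subgroup.normalizer ((P : Subgroup G) : Set G)) + 1 < Nat.card (P : Subgroup G))
    [Fintype ((P : Subgroup G) →* ℂˣ)] :
    haveI : Finite G := Finite.of_fintype G
    trivIrr G ∈ E.Xf := by
  have : Finite G := Finite.of_fintype G
  rw [E.mem_Xf]
  refine ⟨trivIrr_mem_principalBlock (isPrime_of_isPModular hM), ?_⟩
  intro h
  obtain ⟨ψ, hψ, hz⟩ := (E.mem_Yf _).mp h
  apply E.ζ_ne_triv hM hab hfrob hm hψ
  rw [hz]
  rfl

/-- There are at least two exceptional characters. -/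
theorem Exc.two_le_card_Yf (E : Exc M P) (hab : IsMulCommutative P)
    (hfrob : ∀ y : G, y ∈ (P : Subgroup G) → y ≠ 1 →
      Subgroup.centralizer ({y} : Set G) ⊓ Subgroup.normalizer ((P : Subgroup G) : Set G) =
        Subgroup.centralizer ((P : Subgroup G) : Set G))
    (hm : (Subgroup.centralizer ((P : Subgroup G) : Set G)).relIndex
      (Subgroup.normalizer ((P : Subgroup G) : Set G)) + 1 < Nat.card (P : Subgroup G))
    [Fintype ((P : Subgroup G) →* ℂˣ)] : 2 ≤ E.Yf.card := by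
  have h := E.card_Yf_mul hab hfrob
  by_contra hlt
  push Not at hlt
  have h2 : E.Yf.card * (Subgroup.centralizer ((P : Subgroup G) : Set G)).relIndex
      (Subgroup.normalizer ((P : Subgroup G) : Set G)) ≤
      1 * (Subgroup.centralizer ((P : Subgroup G) : Set G)).relIndex
      (Subgroup.normalizer ((P : Subgroup G) : Set G)) :=
    Nat.mul_le_mul_right _ (by omega)
  omega

/-- **The bound on the number of non-exceptional characters**. -/
theorem Exc.card_Xf_le (E : Exc M P) (hM : IsPModular p M) (hab : IsMulCommutative P)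
    (hP1 : Nat.card (P : Subgroup G) ≠ 1)
    (hfrob : ∀ y : G, y ∈ (P : Subgroup G) → y ≠ 1 →
      Subgroup.centralizer ({y} : Set G) ⊓ Subgroup.normalizer ((P : Subgroup G) : Set G) =
        Subgroup.centralizer ((P : Subgroup G) : Set G))
    (hm : (Subgroup.centralizer ((P : Subgroup G) : Set G)).relIndex
      (Subgroup.normalizer ((P : Subgroup G) : Set G)) + 1 < Nat.card (P : Subgroup G))
    [Fintype ((P : Subgroup G) →* ℂˣ)]
    {ψ₀ : (P : Subgroup G) →* ℂˣ} (hψ₀ : ψ₀ ≠ 1) :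
    E.Xf.card ≤ (Subgroup.centralizer ((P : Subgroup G) : Set G)).relIndex
      (Subgroup.normalizer ((P : Subgroup G) : Set G)) := by
  have h1 := E.norm_split hM hab hfrob hψ₀
  have h2 : (E.Xf.card : ℤ) ≤ ∑ χ ∈ E.Xf, (-E.nV χ) ^ 2 := by
    have : ∀ χ ∈ E.Xf, (1 : ℤ) ≤ (-E.nV χ) ^ 2 := by
      intro χ hχ
      have := E.nV_ne_zero hM hab hP1 χ hχ
      have h3 : 0 < (-E.nV χ) ^ 2 := by
        have : -E.nV χ ≠ 0 := neg_ne_zero.mpr this
        positivity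
      omega
    calc (E.Xf.card : ℤ) = ∑ χ ∈ E.Xf, (1 : ℤ) := by simp
      _ ≤ _ := Finset.sum_le_sum this
  have h3 : (2 : ℤ) ≤ (E.Yf.card : ℤ) := by exact_mod_cast E.two_le_card_Yf hab hfrob hm
  have h4 : 0 ≤ (E.Yf.card : ℤ) * (E.dd ψ₀) ^ 2 - 2 * E.ε * E.dd ψ₀ := by
    have hsq : 0 ≤ (E.dd ψ₀) ^ 2 := sq_nonneg _
    have h5 : 2 * (E.dd ψ₀) ^ 2 ≤ (E.Yf.card : ℤ) * (E.dd ψ₀) ^ 2 :=
      mul_le_mul_of_nonneg_right h3 hsq
    have h6 : E.ε * E.dd ψ₀ ≤ (E.dd ψ₀) ^ 2 := by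
      rcases E.hε with h | h <;> rw [h]
      · rcases le_or_gt (E.dd ψ₀) 0 with h0 | h0
        · nlinarith
        · nlinarith
      · rcases le_or_gt 0 (E.dd ψ₀) with h0 | h0
        · nlinarith
        · nlinarith
    linarith
  have h7 : (E.Xf.card : ℤ) ≤ ((Subgroup.centralizer ((P : Subgroup G) : Set G)).relIndex
      (Subgroup.normalizer ((P : Subgroup G) : Set G)) : ℤ) := by linarith
  exact_mod_cast h7

end Cfsg.Agent.Helper8.AS
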