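import Mathlib
import Cfsg.Agent.Helper8.AS11

/-!
# The case `|N : C| = 3`: normalization of the exceptional characters
-/

set_option autoImplicit false

namespace Cfsg.Agent.Helper8.AS

open Cfsg Cfsg.Agent.Helper24 Cfsg.Agent.Helper5 Cfsg.Agent.Helper5.CC Cfsg.Agent.Helper5.Loc

variable {G : Type*} [Group G] [Fintype G] [Fintype (IrrCharacter G)]
variable {M : Ideal AlgInt} {p : ℕ} [hp : Fact p.Prime] {P : Sylow p G}

omit [Fintype G] [Fintype (IrrCharacter G)] hp in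
theorem exists_ne_one_of_card (Q : Subgroup G) [Finite G] (hP1 : Nat.card Q ≠ 1) :
    ∃ y : Q, y ≠ 1 := by
  have h1 : 1 < Nat.card Q := by
    have := Nat.card_pos (α := Q)
    omega
  have : Nontrivial Q := (Finite.one_lt_card_iff_nontrivial).mp h1
  exact exists_ne 1

/-- The coefficient of the principal character. -/
theorem Exc.nV_triv (E : Exc M P) (hM : IsPModular p M) (hab : IsMulCommutative P)
    (hP1 : Nat.card (P : Subgroup G) ≠ 1)
    (hfrob : ∀ y : G, y ∈ (P : Subgroup G) → y ≠ 1 →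
      Subgroup.centralizer ({y} : Set G) ⊓ Subgroup.normalizer ((P : Subgroup G) : Set G) =
        Subgroup.centralizer ((P : Subgroup G) : Set G))
    (hm : (Subgroup.centralizer ((P : Subgroup G) : Set G)).relIndex
      (Subgroup.normalizer ((P : Subgroup G) : Set G)) + 1 < Nat.card (P : Subgroup G))
    [Fintype ((P : Subgroup G) →* ℂˣ)] :
    haveI : Finite G := Finite.of_fintype G
    E.nV (trivIrr G) = -1 := by
  have : Finite G := Finite.of_fintype G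
  obtain ⟨y, hy⟩ := exists_ne_one_of_card (P : Subgroup G) hP1
  have h1 := E.apply_P_Xf hab (trivIrr G) (E.triv_mem_Xf hM hab hfrob hm) y hy
  rw [trivIrr_apply] at h1
  have h2 : ((E.nV (trivIrr G) : ℤ) : ℂ) = ((-1 : ℤ) : ℂ) := by
    push_cast
    linear_combination h1
  exact_mod_cast h2

omit [Fintype (IrrCharacter G)] in
theorem card_ne_ten (P : Sylow p G) : Nat.card (P : Subgroup G) ≠ 10 := by
  intro h
  obtain ⟨n, hn⟩ := IsPGroup.iff_card.mp P.isPGroup'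
  rw [h] at hn
  have h2 : 2 ∣ p ^ n := ⟨5, by omega⟩
  have h5 : 5 ∣ p ^ n := ⟨2, by omega⟩
  have e2 := (Nat.prime_dvd_prime_iff_eq Nat.prime_two hp.out).mp (Nat.prime_two.dvd_of_dvd_pow h2)
  have e5 := (Nat.prime_dvd_prime_iff_eq (by norm_num : Nat.Prime 5) hp.out).mp
    ((by norm_num : Nat.Prime 5).dvd_of_dvd_pow h5)
  omega

/-- **The possible coefficients** for `|N : C| = 3`. -/
theorem Exc.dd_cases (E : Exc M P) (hM : IsPModular p M) (hab : IsMulCommutative P)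
    (hP1 : Nat.card (P : Subgroup G) ≠ 1)
    (hfrob : ∀ y : G, y ∈ (P : Subgroup G) → y ≠ 1 →
      Subgroup.centralizer ({y} : Set G) ⊓ Subgroup.normalizer ((P : Subgroup G) : Set G) =
        Subgroup.centralizer ((P : Subgroup G) : Set G))
    (hCN : (Subgroup.centralizer ((P : Subgroup G) : Set G)).relIndex
      (Subgroup.normalizer ((P : Subgroup G) : Set G)) = 3)
    (hm2 : 3 + 1 < Nat.card (P : Subgroup G))
    [Fintype ((P : Subgroup G) →* ℂˣ)]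
    {ψ₀ : (P : Subgroup G) →* ℂˣ} (hψ₀ : ψ₀ ≠ 1) :
    (E.dd ψ₀ = 0 ∨ (E.Yf.card = 2 ∧ E.dd ψ₀ = E.ε)) ∧ ∑ χ ∈ E.Xf, (E.nV χ) ^ 2 = 3 := by
  have : Finite G := Finite.of_fintype G
  have hm : (Subgroup.centralizer ((P : Subgroup G) : Set G)).relIndex
      (Subgroup.normalizer ((P : Subgroup G) : Set G)) + 1 < Nat.card (P : Subgroup G) := by
    rw [hCN]; exact hm2
  have h1 := E.norm_split hM hab hfrob hψ₀
  rw [hCN] at h1
  push_cast at h1
  have h3 : ∑ χ ∈ E.Xf, (-E.nV χ) ^ 2 = ∑ χ ∈ E.Xf, (E.nV χ) ^ 2 :=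
    Finset.sum_congr rfl (fun χ _ => by ring)
  rw [h3] at h1
  set S : ℤ := ∑ χ ∈ E.Xf, (E.nV χ) ^ 2 with hS
  set d : ℤ := E.dd ψ₀ with hd
  have hr2 : (2 : ℤ) ≤ (E.Yf.card : ℤ) := by exact_mod_cast E.two_le_card_Yf hab hfrob hm
  have htX := E.triv_mem_Xf hM hab hfrob hm
  have hS1 : 1 ≤ S := by
    have h4 : (E.nV (trivIrr G)) ^ 2 ≤ S :=
      Finset.single_le_sum (f := fun χ => (E.nV χ) ^ 2) (fun χ _ => sq_nonneg _) htX
    rw [E.nV_triv hM hab hP1 hfrob hm] at h4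
    linarith
  have hcardle : (E.Xf.card : ℤ) ≤ S := by
    have : ∀ χ ∈ E.Xf, (1 : ℤ) ≤ (E.nV χ) ^ 2 := by
      intro χ hχ
      have := E.nV_ne_zero hM hab hP1 χ hχ
      have h3 : 0 < (E.nV χ) ^ 2 := by positivity
      omega
    calc (E.Xf.card : ℤ) = ∑ χ ∈ E.Xf, (1 : ℤ) := by simp
      _ ≤ _ := Finset.sum_le_sum this
  have hcardmul := E.card_Yf_mul hab hfrob
  rw [hCN] at hcardmul
  -- exclusion of the two sporadic possibilities
  have hno3 : E.Yf.card ≠ 3 := by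
    intro h
    rw [h] at hcardmul
    exact card_ne_ten P (by omega)
  have hno4 : ¬ (E.Yf.card = 4 ∧ d = E.ε ∧ S = 1) := by
    rintro ⟨h4, hde, hS1'⟩
    have hc1 : E.Xf.card ≤ 1 := by
      have : (E.Xf.card : ℤ) ≤ 1 := by linarith
      exact_mod_cast this
    have hXeq : E.Xf = {trivIrr G} := by
      obtain ⟨a, ha⟩ := Finset.card_eq_one.mp (le_antisymm hc1 (Finset.card_pos.mpr ⟨_, htX⟩))
      rw [ha] at htX ⊢
      rw [Finset.mem_singleton.mp htX]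
    have hη : E.ζ ψ₀ ∈ E.Yf := (E.mem_Yf _).mpr ⟨ψ₀, hψ₀, rfl⟩
    have h5 := E.pRegular_split hM hab hfrob hψ₀ hη 1 (by
      rw [orderOf_one, Nat.dvd_one]; exact hp.out.ne_one)
    rw [hXeq, Finset.sum_singleton, trivIrr_apply, E.nV_triv hM hab hP1 hfrob hm, h4,
      irrDeg_spec, ← hd, hde] at h5
    have h6 : (((4 : ℤ) * E.ε - E.ε) * (irrDeg (E.ζ ψ₀) : ℤ) + 1 : ℤ) = 0 := by
      have : ((((4 : ℤ) * E.ε - E.ε) * (irrDeg (E.ζ ψ₀) : ℤ) + 1 : ℤ) : ℂ) = 0 := by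
        push_cast
        linear_combination h5
      exact_mod_cast this
    rcases E.hε with h | h <;> rw [h] at h6 <;> omega
  have hd01 : d = 0 ∨ d = E.ε := by
    have h5 : 2 * d ^ 2 ≤ (E.Yf.card : ℤ) * d ^ 2 := mul_le_mul_of_nonneg_right hr2 (sq_nonneg _)
    rcases E.hε with h | h <;> rw [h] at h1 ⊢
    · have h6 : d ^ 2 - d ≤ 1 := by nlinarith
      have : 0 ≤ d := by nlinarith
      have : d ≤ 1 := by nlinarith
      omega
    · have h6 : d ^ 2 + d ≤ 1 := by nlinarith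
      have : d ≤ 0 := by nlinarith
      have : -1 ≤ d := by nlinarith
      omega
  rcases hd01 with h0 | hde
  · refine ⟨Or.inl h0, ?_⟩
    rw [h0] at h1
    linarith
  · have hεd : E.ε * d = 1 := by rw [hde]; have := E.eps_sq; nlinarith
    have hdd : d ^ 2 = 1 := by rw [hde]; exact E.eps_sq
    have h7 : S + (E.Yf.card : ℤ) = 5 := by
      rw [hdd] at h1
      linarith
    have h8 : E.Yf.card = 2 ∨ E.Yf.card = 3 ∨ E.Yf.card = 4 := by
      have : (E.Yf.card : ℤ) ≤ 4 := by linarith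
      have h9 : E.Yf.card ≤ 4 := by exact_mod_cast this
      have h10 := E.two_le_card_Yf hab hfrob hm
      omega
    rcases h8 with h8 | h8 | h8
    · refine ⟨Or.inr ⟨h8, hde⟩, ?_⟩
      rw [h8] at h7
      push_cast at h7
      linarith
    · exact absurd h8 hno3
    · exfalso
      apply hno4
      refine ⟨h8, hde, ?_⟩
      rw [h8] at h7
      push_cast at h7
      linarith

open Classical in
/-- With exactly two exceptional characters, the two may be interchanged. -/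
theorem Exc.exists_swap (E : Exc M P) (hM : IsPModular p M) (hab : IsMulCommutative P)
    (hfrob : ∀ y : G, y ∈ (P : Subgroup G) → y ≠ 1 →
      Subgroup.centralizer ({y} : Set G) ⊓ Subgroup.normalizer ((P : Subgroup G) : Set G) =
        Subgroup.centralizer ((P : Subgroup G) : Set G))
    (hm : (Subgroup.centralizer ((P : Subgroup G) : Set G)).relIndex
      (Subgroup.normalizer ((P : Subgroup G) : Set G)) + 1 < Nat.card (P : Subgroup G))
    [Fintype ((P : Subgroup G) →* ℂˣ)]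
    {ψ₀ : (P : Subgroup G) →* ℂˣ} (hψ₀ : ψ₀ ≠ 1) (h2 : E.Yf.card = 2) (hd : E.dd ψ₀ = E.ε) :
    ∃ E' : Exc M P, ∀ ψ : (P : Subgroup G) →* ℂˣ, ψ ≠ 1 → E'.nV (E'.ζ ψ) = 0 := by
  have : Finite G := Finite.of_fintype G
  have hc : ∀ a b : (P : Subgroup G), a * b = b * a := fun a b => hab.is_comm.comm a b
  have hex : ∀ ψ : (P : Subgroup G) →* ℂˣ, ∃ ψ' : (P : Subgroup G) →* ℂˣ,
      ψ ≠ 1 → (ψ' ≠ 1 ∧ ¬ RelS (P : Subgroup G) ψ ψ') := by
    intro ψ
    by_cases h : ψ = 1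
    · exact ⟨1, fun h' => absurd h h'⟩
    · obtain ⟨ψ', h1, h2⟩ := exists_not_relS (P : Subgroup G) hc hfrob hm h
      exact ⟨ψ', fun _ => ⟨h1, h2⟩⟩
  choose st hst using hex
  have hmemY : ∀ ψ : (P : Subgroup G) →* ℂˣ, ψ ≠ 1 → E.ζ ψ ∈ E.Yf :=
    fun ψ hψ => (E.mem_Yf _).mpr ⟨ψ, hψ, rfl⟩
  -- only two orbits
  have htwo : ∀ ψ ψ' ψ'' : (P : Subgroup G) →* ℂˣ, ψ ≠ 1 → ψ' ≠ 1 → ψ'' ≠ 1 →
      ¬ RelS (P : Subgroup G) ψ ψ' → ¬ RelS (P : Subgroup G) ψ ψ'' →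
      RelS (P : Subgroup G) ψ' ψ'' := by
    intro ψ ψ' ψ'' h h' h'' hn' hn''
    by_contra hn
    have e1 : E.ζ ψ ≠ E.ζ ψ' := fun he => hn' ((E.hζinj ψ ψ' h h').mp he)
    have e2 : E.ζ ψ ≠ E.ζ ψ'' := fun he => hn'' ((E.hζinj ψ ψ'' h h'').mp he)
    have e3 : E.ζ ψ' ≠ E.ζ ψ'' := fun he => hn ((E.hζinj ψ' ψ'' h' h'').mp he)
    have hsub : ({E.ζ ψ, E.ζ ψ', E.ζ ψ''} : Finset (IrrCharacter G)) ⊆ E.Yf := by
      intro χ hχ
      simp only [Finset.mem_insert, Finset.mem_singleton] at hχ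
      rcases hχ with rfl | rfl | rfl
      · exact hmemY ψ h
      · exact hmemY ψ' h'
      · exact hmemY ψ'' h''
    have hcard : ({E.ζ ψ, E.ζ ψ', E.ζ ψ''} : Finset (IrrCharacter G)).card = 3 :=
      Finset.card_eq_three.mpr ⟨_, _, _, e1, e2, e3, rfl⟩
    have := Finset.card_le_card hsub
    omega
  have hYeq : ∀ ψ : (P : Subgroup G) →* ℂˣ, ψ ≠ 1 → E.Yf = {E.ζ ψ, E.ζ (st ψ)} := by
    intro ψ h
    have hne : E.ζ ψ ≠ E.ζ (st ψ) := fun he => (hst ψ h).2 ((E.hζinj ψ (st ψ) h (hst ψ h).1).mp he)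
    symm
    apply Finset.eq_of_subset_of_card_le
    · intro χ hχ
      simp only [Finset.mem_insert, Finset.mem_singleton] at hχ
      rcases hχ with rfl | rfl
      · exact hmemY ψ h
      · exact hmemY _ (hst ψ h).1
    · rw [h2, Finset.card_pair hne]
  have hnVY : ∀ χ ∈ E.Yf, E.nV χ = -E.ε := by
    intro χ hχ
    rw [E.nV_of_mem_Yf hM hab hfrob hψ₀ hχ, hd]
  refine ⟨⟨-E.ε, fun ψ => E.ζ (st ψ), fun χ => if χ ∈ E.Yf then 0 else E.nV χ, ?_, ?_, ?_, ?_, ?_⟩,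
    ?_⟩
  · rcases E.hε with h | h <;> rw [h] <;> simp
  · intro ψ h
    exact E.hζB _ (hst ψ h).1
  · intro ψ ψ' h h'
    rw [E.hζinj _ _ (hst ψ h).1 (hst ψ' h').1]
    constructor
    · intro hr
      by_contra hn
      -- ψ' and st ψ are both unrelated to ψ
      have e1 : RelS (P : Subgroup G) ψ' (st ψ) := htwo ψ ψ' (st ψ) h h' (hst ψ h).1 hn (hst ψ h).2
      exact (hst ψ' h').2 (relS_trans _ e1 hr)
    · intro hr
      have e1 : ¬ RelS (P : Subgroup G) ψ (st ψ') := by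
        intro h3
        exact (hst ψ' h').2 (relS_trans _ (relS_symm _ hr) h3)
      exact htwo ψ (st ψ) (st ψ') h (hst ψ h).1 (hst ψ' h').1 (hst ψ h).2 e1
  · intro χ hχ
    show (if χ ∈ E.Yf then 0 else E.nV χ) = 0
    split_ifs
    · rfl
    · exact E.hnV0 χ hχ
  · intro ψ h
    rw [E.hTh ψ h]
    have hne : E.ζ ψ ≠ E.ζ (st ψ) := fun he => (hst ψ h).2 ((E.hζinj ψ (st ψ) h (hst ψ h).1).mp he)
    have e1 : ∑ χ : IrrCharacter G, (E.nV χ : ℂ) • (χ : G → ℂ) =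
        ∑ χ : IrrCharacter G, (((if χ ∈ E.Yf then 0 else E.nV χ : ℤ) : ℂ)) • (χ : G → ℂ) +
          ∑ χ ∈ E.Yf, (E.nV χ : ℂ) • (χ : G → ℂ) := by
      rw [← Finset.sum_filter_add_sum_filter_not Finset.univ (fun χ => χ ∈ E.Yf)
        (fun χ => (((if χ ∈ E.Yf then 0 else E.nV χ : ℤ) : ℂ)) • (χ : G → ℂ)),
        ← Finset.sum_filter_add_sum_filter_not Finset.univ (fun χ => χ ∈ E.Yf)
        (fun χ => (E.nV χ : ℂ) • (χ : G → ℂ))]
      have f1 : ∑ χ ∈ Finset.univ.filter (fun χ => χ ∈ E.Yf),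
          (((if χ ∈ E.Yf then 0 else E.nV χ : ℤ) : ℂ)) • (χ : G → ℂ) = 0 := by
        apply Finset.sum_eq_zero
        intro χ hχ
        rw [if_pos (Finset.mem_filter.mp hχ).2]
        simp
      have f2 : ∑ χ ∈ Finset.univ.filter (fun χ => ¬ χ ∈ E.Yf),
          (((if χ ∈ E.Yf then 0 else E.nV χ : ℤ) : ℂ)) • (χ : G → ℂ) =
          ∑ χ ∈ Finset.univ.filter (fun χ => ¬ χ ∈ E.Yf), (E.nV χ : ℂ) • (χ : G → ℂ) := by
        apply Finset.sum_congr rfl
        intro χ hχ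
        rw [if_neg (Finset.mem_filter.mp hχ).2]
      have f3 : Finset.univ.filter (fun χ => χ ∈ E.Yf) = E.Yf := by
        ext χ; simp
      rw [f1, f2, f3]
      abel
    rw [e1, hYeq ψ h, Finset.sum_pair hne, hnVY _ (hmemY ψ h), hnVY _ (hmemY _ (hst ψ h).1)]
    push_cast
    rw [← hYeq ψ h]
    simp only [neg_smul]
    abel
  · intro ψ h
    show (if E.ζ (st ψ) ∈ E.Yf then 0 else E.nV (E.ζ (st ψ))) = 0
    rw [if_pos (hmemY _ (hst ψ h).1)]

/-- **Normalization**: for `|N : C| = 3` the exceptional characters can be chosen with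
coefficient zero. -/
theorem exists_exc_normalized (hM : IsPModular p M) (P : Sylow p G) (hab : IsMulCommutative P)
    (hP1 : Nat.card (P : Subgroup G) ≠ 1)
    (hfrob : ∀ y : G, y ∈ (P : Subgroup G) → y ≠ 1 →
      Subgroup.centralizer ({y} : Set G) ⊓ Subgroup.normalizer ((P : Subgroup G) : Set G) =
        Subgroup.centralizer ((P : Subgroup G) : Set G))
    (hCN : (Subgroup.centralizer ((P : Subgroup G) : Set G)).relIndex
      (Subgroup.normalizer ((P : Subgroup G) : Set G)) = 3)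
    (hm2 : 3 + 1 < Nat.card (P : Subgroup G))
    [Fintype ((P : Subgroup G) →* ℂˣ)] :
    ∃ E : Exc M P, ∀ ψ : (P : Subgroup G) →* ℂˣ, ψ ≠ 1 → E.nV (E.ζ ψ) = 0 := by
  have : Finite G := Finite.of_fintype G
  have hc : ∀ a b : (P : Subgroup G), a * b = b * a := fun a b => hab.is_comm.comm a b
  have hm : (Subgroup.centralizer ((P : Subgroup G) : Set G)).relIndex
      (Subgroup.normalizer ((P : Subgroup G) : Set G)) + 1 < Nat.card (P : Subgroup G) := by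
    rw [hCN]; exact hm2
  obtain ⟨E⟩ := nonempty_exc hM P hab hfrob hm
  obtain ⟨ψ₀, hψ₀⟩ : ∃ ψ₀ : (P : Subgroup G) →* ℂˣ, ψ₀ ≠ 1 := by
    have h1 : 1 < Nat.card ((P : Subgroup G) →* ℂˣ) := by rw [card_dual hc]; omega
    have : Nontrivial ((P : Subgroup G) →* ℂˣ) := (Finite.one_lt_card_iff_nontrivial).mp h1
    exact exists_ne 1
  rcases (E.dd_cases hM hab hP1 hfrob hCN hm2 hψ₀).1 with h0 | ⟨h2, hd⟩
  · refine ⟨E, fun ψ hψ => ?_⟩
    rw [E.nV_ζ_const hM hab hfrob hψ hψ₀]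
    unfold Exc.dd at h0
    omega
  · exact E.exists_swap hM hab hfrob hm hψ₀ h2 hd

/-- For `|N : C| = 3` there are exactly three non-exceptional characters, with coefficients
`± 1`. -/
theorem Exc.Xf_three (E : Exc M P) (hM : IsPModular p M) (hab : IsMulCommutative P)
    (hP1 : Nat.card (P : Subgroup G) ≠ 1)
    (hfrob : ∀ y : G, y ∈ (P : Subgroup G) → y ≠ 1 →
      Subgroup.centralizer ({y} : Set G) ⊓ Subgroup.normalizer ((P : Subgroup G) : Set G) =
        Subgroup.centralizer ((P : Subgroup G) : Set G))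
    (hCN : (Subgroup.centralizer ((P : Subgroup G) : Set G)).relIndex
      (Subgroup.normalizer ((P : Subgroup G) : Set G)) = 3)
    (hm2 : 3 + 1 < Nat.card (P : Subgroup G))
    [Fintype ((P : Subgroup G) →* ℂˣ)] :
    E.Xf.card = 3 ∧ ∀ χ ∈ E.Xf, (E.nV χ = 1 ∨ E.nV χ = -1) := by
  have : Finite G := Finite.of_fintype G
  have hc : ∀ a b : (P : Subgroup G), a * b = b * a := fun a b => hab.is_comm.comm a b
  obtain ⟨ψ₀, hψ₀⟩ : ∃ ψ₀ : (P : Subgroup G) →* ℂˣ, ψ₀ ≠ 1 := by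
    have h1 : 1 < Nat.card ((P : Subgroup G) →* ℂˣ) := by rw [card_dual hc]; omega
    have : Nontrivial ((P : Subgroup G) →* ℂˣ) := (Finite.one_lt_card_iff_nontrivial).mp h1
    exact exists_ne 1
  have hS := (E.dd_cases hM hab hP1 hfrob hCN hm2 hψ₀).2
  have hpm : ∀ χ ∈ E.Xf, (E.nV χ = 1 ∨ E.nV χ = -1) := by
    intro χ hχ
    have h0 := E.nV_ne_zero hM hab hP1 χ hχ
    have h4 : (E.nV χ) ^ 2 ≤ ∑ χ ∈ E.Xf, (E.nV χ) ^ 2 :=
      Finset.single_le_sum (f := fun χ => (E.nV χ) ^ 2) (fun χ _ => sq_nonneg _) hχ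
    rw [hS] at h4
    have h5 : E.nV χ ≤ 1 := by nlinarith
    have h6 : -1 ≤ E.nV χ := by nlinarith
    omega
  refine ⟨?_, hpm⟩
  have h7 : ∑ χ ∈ E.Xf, (E.nV χ) ^ 2 = ∑ χ ∈ E.Xf, (1 : ℤ) := by
    apply Finset.sum_congr rfl
    intro χ hχ
    rcases hpm χ hχ with h | h <;> rw [h] <;> norm_num
  rw [h7] at hS
  simp at hS
  exact_mod_cast hS

end Cfsg.Agent.Helper8.AS
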