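import Mathlib
import Cfsg.Agent.Helper8.AS12
import Cfsg.Agent.Helper23.InvolutionColumns
import Cfsg.Agent.Helper5.PPart

/-!
# Block orthogonality against products of two conjugate involutions
-/

set_option autoImplicit false

namespace Cfsg.Agent.Helper8.AS

open Cfsg Cfsg.Agent.Helper24 Cfsg.Agent.Helper5 Cfsg.Agent.Helper5.CC Cfsg.Agent.Helper5.Loc

variable {G : Type*} [Group G] [Fintype G] [Fintype (IrrCharacter G)]
variable {M : Ideal AlgInt} {p : ℕ} [hp : Fact p.Prime]

omit [Fintype G] [Fintype (IrrCharacter G)] hp in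
theorem isPPart_self_of_pow {y : G} (hy : ∃ k : ℕ, orderOf y = p ^ k) (hp1 : p ≠ 1) :
    IsPPart p y y := by
  refine ⟨1, mul_one y, Commute.one_right y, hy, ?_⟩
  rw [orderOf_one, Nat.dvd_one]
  exact hp1

open Classical in
/-- Block orthogonality in `Finset` form. -/
theorem block_orth (hM : IsPModular p M) (B : Set (IrrCharacter G)) (hB : IsPBlock M B)
    (g h x y : G) (hgx : IsPPart p g x) (hhy : IsPPart p h y) (hnc : ¬ IsConj x y) :
    ∑ χ : IrrCharacter G, (if χ ∈ B then (χ : G → ℂ) g * (χ : G → ℂ) h⁻¹ else 0) = 0 := by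
  have : Finite G := Finite.of_fintype G
  have := (Cfsg.Agent.S0925.result p M hM).2 g h x y hgx hhy hnc B hB
  rw [finsum_mem_eq_sum_ite'] at this
  exact this

open Classical in
/-- **The class multiplication relation**: if no product of two conjugates of the involution `t`
has `p`-part conjugate to `y`, then `∑_{χ ∈ B} χ(t)² χ(y⁻¹) / χ(1) = 0`. -/
theorem sum_block_sq_mul (hM : IsPModular p M) (B : Set (IrrCharacter G)) (hB : IsPBlock M B)
    (t : G) (ht : t⁻¹ = t) (y : G) (hy : ∃ k : ℕ, orderOf y = p ^ k)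
    (hgood : ∀ x c : G, IsConj t x → IsConj t c → ∀ v : G, IsPPart p (x⁻¹ * c) v → ¬ IsConj v y) :
    ∑ χ : IrrCharacter G, (if χ ∈ B then
      (χ : G → ℂ) t ^ 2 / (χ : G → ℂ) 1 * (χ : G → ℂ) y⁻¹ else 0) = 0 := by
  have : Finite G := Finite.of_fintype G
  have hyy : IsPPart p y y := isPPart_self_of_pow hy hp.out.ne_one
  have e : ∀ χ : IrrCharacter G, (if χ ∈ B then
      (χ : G → ℂ) t ^ 2 / (χ : G → ℂ) 1 * (χ : G → ℂ) y⁻¹ else 0) =
      ∑ c : G, ∑ x : G, ((Nat.card {x : G // IsConj t x} : ℂ)⁻¹) ^ 2 *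
        (classIndicator t c * classIndicator t x) *
        (if χ ∈ B then (χ : G → ℂ) (x⁻¹ * c) * (χ : G → ℂ) y⁻¹ else 0) := by
    intro χ
    split_ifs with h
    · rw [Cfsg.Agent.Helper23.InvCol.sq_div_eq χ t ht, Finset.mul_sum, Finset.sum_mul]
      apply Finset.sum_congr rfl
      intro c _
      rw [Finset.mul_sum, Finset.sum_mul]
      apply Finset.sum_congr rfl
      intro x _
      ring
    · simp
  rw [Finset.sum_congr rfl (fun χ _ => e χ), Finset.sum_comm]
  apply Finset.sum_eq_zero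
  intro c _
  rw [Finset.sum_comm]
  apply Finset.sum_eq_zero
  intro x _
  rw [← Finset.mul_sum]
  by_cases hc : IsConj t c
  · by_cases hx : IsConj t x
    · obtain ⟨v, hv⟩ := Cfsg.Agent.Helper5.RDZ.exists_isPPart p (x⁻¹ * c)
      rw [block_orth hM B hB (x⁻¹ * c) y v y hv hyy (hgood x c hx hc v hv), mul_zero]
    · rw [classIndicator_of_not_isConj hx]; ring
  · rw [classIndicator_of_not_isConj hc]; ring

end Cfsg.Agent.Helper8.AS
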