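import Mathlib
import Cfsg.Prelude.Def_Characters
import Cfsg.Agent.Helper12.LSpWDefs
import Cfsg.Agent.Helper12.LSpWPDefs
import Cfsg.Agent.Helper12.LSLDefs
import Cfsg.Agent.Helper12.RUSpB
import Cfsg.Agent.Helper20.PermCharI
import Cfsg.Agent.Helper25.SpUH
import Cfsg.Agent.Helper12.WGDefs
import Cfsg.Agent.Helper12.WGDefsC
import Cfsg.Agent.Helper12.WGDefsD
import Cfsg.Agent.Helper12.WGStruct
import Cfsg.Agent.Helper18.WGSPECNAT
import Cfsg.Agent.Helper22.WGCLASS
import Cfsg.Agent.Helper24.CharBasic
import Cfsg.Agent.Helper24.TripleReduce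
import Cfsg.Agent.Helper14.WGSPECZ
import Cfsg.Agent.Helper7.WGHEISGEN

set_option autoImplicit false

/-! S2524 part B piece LEMB (helper8). -/

namespace Cfsg.Agent.S2524P

open Matrix Cfsg Cfsg.Agent.S2333P Cfsg.Agent.Helper2.Sp Cfsg.Agent.Helper12.LSp Cfsg.Agent.Helper25
open Cfsg.Agent.Helper12.LSL Cfsg.Agent.Helper20.PermChar

variable {F : Type*} [Field F] [Fintype F]

/-- the symmetric matrix with first row `(-s, v)` and vanishing lower right block -/
def lemb_S {m : ℕ} (v : Fin m → F) (s : F) : ↥(SymM (m + 1) F) :=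
  ⟨Matrix.of (fun i j : Fin (m + 1) =>
      Fin.cases (Fin.cases (-s) (fun j' : Fin m => v j') j)
        (fun i' : Fin m => Fin.cases (v i') (fun _ : Fin m => (0 : F)) j) i), by
    rw [mem_SymM]
    ext i j
    rw [transpose_apply, of_apply, of_apply]
    refine Fin.cases ?_ (fun i' => ?_) i
    · refine Fin.cases ?_ (fun j' => ?_) j
      · rfl
      · simp
    · refine Fin.cases ?_ (fun j' => ?_) j
      · simp
      · simp⟩

omit [Fintype F] in
theorem lemb_S_zero_zero {m : ℕ} (v : Fin m → F) (s : F) : (lemb_S v s).1 0 0 = -s := rfl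

omit [Fintype F] in
theorem lemb_S_zero_succ {m : ℕ} (v : Fin m → F) (s : F) (j : Fin m) :
    (lemb_S v s).1 0 j.succ = v j := by
  show Matrix.of _ 0 j.succ = _
  rw [of_apply]
  simp

omit [Fintype F] in
theorem lemb_qS {m : ℕ} (v : Fin m → F) (s : F) : qS (lemb_S v s) = 0 := by
  apply Subtype.ext
  ext i j
  rw [qS_apply]
  show Matrix.of _ i.succ j.succ = _
  rw [of_apply]
  simp

omit [Fintype F] in
/-- `qt` of this matrix is the Heisenberg element `(v, s)` -/
theorem lemb_qt {m : ℕ} (v : Fin m ⊕ Fin m → F) (hv : InW v) (s : F) :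
    qt m F (Multiplicative.ofAdd (lemb_S (fun i => v (Sum.inl i)) s)) =
      SemidirectProduct.inl (⟨v, s⟩ : Heis m F) := by
  apply SemidirectProduct.ext
  · rw [SemidirectProduct.left_inl]
    apply Heis.ext
    · rw [qt_left_v]
      funext k
      rcases k with i | i
      · rw [qv_inl, lemb_S_zero_succ]
      · rw [qv_inr]
        exact (hv i).symm
    · rw [qt_left_s, lemb_S_zero_zero, neg_neg]
  · rw [SemidirectProduct.right_inl, qt_right, lemb_qS]
    exact map_one _

omit [Fintype F] in
/-- the trace pairing of a matrix with vanishing first row and one with vanishing lower right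
block -/
theorem lemb_trace {m : ℕ} (T S : ↥(SymM (m + 1) F)) (hT : ∀ j, T.1 0 j = 0) (hS : qS S = 0) :
    Matrix.trace (T.1 * S.1) = 0 := by
  unfold Matrix.trace
  apply Finset.sum_eq_zero
  intro i _
  rw [Matrix.diag_apply, Matrix.mul_apply]
  apply Finset.sum_eq_zero
  intro j _
  refine Fin.cases ?_ (fun i' => ?_) i
  · rw [hT j, zero_mul]
  · refine Fin.cases ?_ (fun j' => ?_) j
    · rw [symM_symm T i'.succ 0, hT, zero_mul]
    · have : S.1 j'.succ i'.succ = 0 := by
        rw [← qS_apply, hS]
        rfl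
      rw [this, mul_zero]

/-- **LEMB**: trivial central character and rank at most one: inflated from `Sp_{2m}` -/
theorem lemB (hodd : Odd (Fintype.card F)) (ψ : AddChar F ℂ) (hψ : ψ ≠ 1) {m : ℕ}
    (ζ : Gam m F → ℂ) (hζ : IsIrrCharacter (Gam m F) ζ) (hz : LiesOver ψ ζ 0)
    (hrk : RankLeOne ψ (qt m F) ζ) :
    ∃ κ : ↥(symplecticGroup (Fin m) F) → ℂ, IsIrrCharacter ↥(symplecticGroup (Fin m) F) κ ∧
      ζ = fun x : Gam m F => κ x.right := by
  classical
  have h2 := class_two_ne_zero hodd
  -- every `T` in the spectrum has vanishing first row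
  have hrow : ∀ T : ↥(SymM (m + 1) F), specU ψ (qt m F) ζ T ≠ 0 → ∀ j, T.1 0 j = 0 := by
    intro T hT j
    have h00 := spec_entry_of_liesOver ψ hψ ζ 0 hz T hT
    rw [neg_zero] at h00
    obtain ⟨c, x, rfl⟩ := hrk T hT
    rw [rk1_apply] at h00 ⊢
    rcases mul_eq_zero.mp h00 with hc | hx
    · rw [hc, zero_mul]
    · have : x 0 = 0 := mul_self_eq_zero.mp hx
      rw [this, zero_mul, mul_zero]
  -- `ζ` is constant on the `qt S` with vanishing lower right block
  have hconst : ∀ S : ↥(SymM (m + 1) F), qS S = 0 → ζ (qt m F (Multiplicative.ofAdd S)) = ζ 1 := by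
    intro S hS
    have h1 := specU_expand h2 ψ hψ (qt m F) ζ (Multiplicative.ofAdd S)
    have h0 := specU_expand h2 ψ hψ (qt m F) ζ 1
    rw [map_one] at h0
    rw [h1, h0]
    apply Finset.sum_congr rfl
    intro T _
    by_cases hT : specU ψ (qt m F) ζ T = 0
    · rw [hT, zero_mul, zero_mul]
    · rw [map_one, lamT_apply, lemb_trace T S (hrow T hT) hS, AddChar.map_zero_eq_one]
  obtain ⟨n, ρ, hirr, hχ⟩ := hζ
  have hker : ∀ g : Gam m F, ζ g = ζ 1 ↔ g ∈ MonoidHom.ker ρ := by
    intro g
    rw [← hχ, Representation.char_one, Cfsg.Agent.Helper24.char_eq_finrank_iff, MonoidHom.mem_ker]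
    rfl
  -- the Heisenberg group lies in the kernel
  have hK : (MonoidHom.ker ρ).comap (SemidirectProduct.inl : Heis m F →* Gam m F) = ⊤ := by
    apply heis_gen
    · intro v s hv
      rw [Subgroup.mem_comap, ← hker, ← lemb_qt v hv s]
      exact hconst _ (lemb_qS _ _)
    · intro g a ha
      rw [Subgroup.mem_comap] at ha ⊢
      have h3 : (SemidirectProduct.inl (heisAct g a) : Gam m F) =
          SemidirectProduct.inr g * SemidirectProduct.inl a * (SemidirectProduct.inr g)⁻¹ := by
        rw [← map_inv]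
        exact SemidirectProduct.inl_aut (φ := heisPhi m F) g a
      rw [h3]
      exact (MonoidHom.normal_ker ρ).conj_mem _ ha _
  have hinl : ∀ a : Heis m F, ρ (SemidirectProduct.inl a) = 1 := by
    intro a
    have : a ∈ (MonoidHom.ker ρ).comap (SemidirectProduct.inl : Heis m F →* Gam m F) := by
      rw [hK]; exact Subgroup.mem_top a
    exact MonoidHom.mem_ker.mp (Subgroup.mem_comap.mp this)
  refine ⟨fun g => ζ (SemidirectProduct.inr g), ?_, ?_⟩
  · apply Cfsg.Agent.Helper24.isIrrCharacter_of_comp_surjective_irr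
      (SemidirectProduct.rightHom : Gam m F →* ↥(symplecticGroup (Fin m) F))
      SemidirectProduct.rightHom_surjective
    have : (fun x : Gam m F => ζ (SemidirectProduct.inr (SemidirectProduct.rightHom x))) = ζ := by
      funext x
      have hx : x = SemidirectProduct.inl x.left * SemidirectProduct.inr x.right :=
        (SemidirectProduct.inl_left_mul_inr_right x).symm
      conv_rhs => rw [hx]
      rw [← hχ]
      unfold Representation.character
      rw [map_mul, hinl, one_mul]
      rfl
    rw [this]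
    exact ⟨n, ρ, hirr, hχ⟩
  · funext x
    have hx : x = SemidirectProduct.inl x.left * SemidirectProduct.inr x.right :=
      (SemidirectProduct.inl_left_mul_inr_right x).symm
    conv_lhs => rw [hx]
    rw [← hχ]
    unfold Representation.character
    rw [map_mul, hinl, one_mul]

end Cfsg.Agent.S2524P
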