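import Mathlib
import Cfsg.Prelude.Def_Characters
import Cfsg.Agent.Helper12.LSpWDefs
import Cfsg.Agent.Helper12.LSpWPDefs
import Cfsg.Agent.Helper12.LSLDefs
import Cfsg.Agent.Helper12.RUSpB
import Cfsg.Agent.Helper20.PermCharI
import Cfsg.Agent.Helper25.SpUH
import Cfsg.Agent.Helper12.WGDefs
import Cfsg.Agent.Helper12.WGDefsC
import Cfsg.Agent.Helper12.WGDefsD
import Cfsg.Agent.Helper12.WGStruct
import Cfsg.Agent.Helper2.Transvec
import Cfsg.Agent.Helper7.WGWEYL
import Cfsg.Agent.Helper14.WGKEY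

set_option autoImplicit false

/-! S2524 part B piece KEYB (helper8). -/

namespace Cfsg.Agent.S2524P

open Matrix Cfsg Cfsg.Agent.S2333P Cfsg.Agent.Helper2.Sp Cfsg.Agent.Helper12.LSp Cfsg.Agent.Helper25
open Cfsg.Agent.Helper12.LSL Cfsg.Agent.Helper20.PermChar

variable {F : Type*} [Field F] [Fintype F]

omit [Fintype F] in
theorem keyb_trace {n : ℕ} (c : F) (w : Fin n → F) (S : Matrix (Fin n) (Fin n) F) :
    Matrix.trace ((rk1 c w).1 * S) = c * (w ⬝ᵥ (S *ᵥ w)) := by
  rw [rk1_val, Matrix.smul_mul, Matrix.trace_smul, smul_eq_mul, vecMulVec_mul, trace_vecMulVec,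
    dotProduct_mulVec, dotProduct_comm]

omit [Fintype F] in
/-- a nontrivial additive character of a field is not trivial on a line -/
theorem keyb_eq_zero (ψ : AddChar F ℂ) (hψ : ψ ≠ 1) (a : F) (h : ∀ s : F, ψ (a * s) = 1) :
    a = 0 := by
  by_contra ha
  apply hψ
  ext t
  rw [AddChar.one_apply]
  have := h (a⁻¹ * t)
  rwa [← mul_assoc, mul_inv_cancel₀ ha, one_mul] at this

omit [Fintype F] in
theorem keyb_quad_diag {n : ℕ} (i : Fin n) (s : F) (x : Fin n → F) :
    x ⬝ᵥ ((rk1 s (Pi.single i 1)).1 *ᵥ x) = s * (x i * x i) := by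
  classical
  have h1 : ∀ k, ((rk1 s (Pi.single i (1 : F))).1 *ᵥ x) k = if k = i then s * x i else 0 := by
    intro k
    rw [Matrix.mulVec, dotProduct]
    simp only [rk1_apply, Pi.single_apply]
    by_cases hk : k = i
    · simp [hk]
    · simp [hk]
  rw [dotProduct]
  simp only [h1, mul_ite, mul_zero, Finset.sum_ite_eq', Finset.mem_univ, if_true]
  ring

omit [Fintype F] in
theorem keyb_quad_symE {n : ℕ} (i j : Fin n) (t : F) (x : Fin n → F) :
    x ⬝ᵥ ((symE i j t).1 *ᵥ x) = 2 * t * (x i * x j) := by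
  classical
  rw [symE_val, Matrix.add_mulVec, dotProduct_add]
  have h1 : ∀ (a b : Fin n), x ⬝ᵥ (Matrix.single a b t *ᵥ x) = t * (x a * x b) := by
    intro a b
    rw [Matrix.single_mulVec, dotProduct]
    simp only [Function.update_apply, Pi.zero_apply, mul_ite, mul_zero,
      Finset.sum_ite_eq', Finset.mem_univ, if_true]
    ring
  rw [h1, h1]
  ring

/-- the Levi transvections fix the `Q`-fixed vectors -/
theorem keyb_levT (h2 : (2 : F) ≠ 0) (ψ : AddChar F ℂ) (hψ : ψ ≠ 1) {n : ℕ} {V : Type*}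
    [AddCommGroup V] [Module ℂ V] [FiniteDimensional ℂ V]
    (ρ : Representation ℂ ↥(symplecticGroup (Fin n) F) V)
    (hrk : RankLeOne ψ (US n F) ρ.character)
    (v : V) (hv : ∀ Y : Multiplicative ↥(SymM n F), ρ (US n F Y) v = v)
    (i j : Fin n) (hij : i ≠ j) (t : F) : ρ (SpU.levT i j t) v = v := by
  obtain ⟨w, hw1, hw2⟩ := weyl_exists (F := F) j
  set u : V := ρ w⁻¹ v with hu
  have hu1 : ∀ S : ↥(SymM n F), (∀ k, S.1 j k = 0) →
      ρ (US n F (Multiplicative.ofAdd S)) u = u := by
    intro S hS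
    have h3 : US n F (Multiplicative.ofAdd S) * w⁻¹ = w⁻¹ * US n F (Multiplicative.ofAdd S) := by
      have := hw1 S hS
      calc US n F (Multiplicative.ofAdd S) * w⁻¹
          = w⁻¹ * (w * US n F (Multiplicative.ofAdd S) * w⁻¹) := by group
        _ = w⁻¹ * US n F (Multiplicative.ofAdd S) := by rw [this]
    rw [hu, ← Module.End.mul_apply, ← map_mul, h3, map_mul, Module.End.mul_apply, hv]
  have hkey := key_fixed h2 ψ hψ ρ hrk (fun S => ∀ k, S.1 j k = 0) (symE i j (-t)) ?_ u hu1
  · have h4 := hw2 i hij (-t)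
    rw [neg_neg] at h4
    rw [← h4, map_mul, map_mul, Module.End.mul_apply, Module.End.mul_apply, ← hu, hkey, hu,
      ← Module.End.mul_apply, ← map_mul, mul_inv_cancel, map_one, Module.End.one_apply]
  · intro c x hx
    rw [keyb_trace, keyb_quad_symE]
    have h5 : c * (x i * x i) = 0 := by
      apply keyb_eq_zero ψ hψ
      intro s
      have := hx (rk1 s (Pi.single i 1)) (fun k => by
        rw [rk1_apply, Pi.single_apply, if_neg (fun h => hij h.symm), zero_mul, mul_zero])
      rw [keyb_trace, keyb_quad_diag] at this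
      rw [← this]
      congr 1
      ring
    have h6 : c * (x i * x j) = 0 := by
      rcases mul_eq_zero.mp h5 with hc | hx
      · rw [hc, zero_mul]
      · rw [mul_self_eq_zero.mp hx, zero_mul, mul_zero]
    have : c * (2 * -t * (x i * x j)) = 0 := by
      calc c * (2 * -t * (x i * x j)) = 2 * -t * (c * (x i * x j)) := by ring
        _ = 0 := by rw [h6, mul_zero]
    rw [this, AddChar.map_zero_eq_one]

/-- **KEYB**: the Levi subgroup `SL_n` fixes the `Q`-fixed vectors -/
theorem keyB (h2 : (2 : F) ≠ 0) (ψ : AddChar F ℂ) (hψ : ψ ≠ 1) {n : ℕ} {V : Type*}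
    [AddCommGroup V] [Module ℂ V] [FiniteDimensional ℂ V]
    (ρ : Representation ℂ ↥(symplecticGroup (Fin n) F) V)
    (hrk : RankLeOne ψ (US n F) ρ.character) (A : Matrix.SpecialLinearGroup (Fin n) F)
    (v : V) (hv : ∀ Y : Multiplicative ↥(SymM n F), ρ (US n F Y) v = v) :
    ρ (SpU.Lam A) v = v := by
  rcases Nat.lt_or_ge n 2 with hn | hn
  · have : Subsingleton (Fin n) := by
      rcases Nat.lt_succ_iff.mp hn with h
      interval_cases n
      · infer_instance
      · infer_instance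
    have : A = 1 := Subsingleton.elim _ _
    rw [this, map_one, map_one, Module.End.one_apply]
  · have : Nontrivial (Fin n) := Fin.nontrivial_iff_two_le.mpr hn
    refine Cfsg.Agent.Helper2.SL_transvection_induction
      (fun A => ρ (SpU.Lam A) v = v) ?_ ?_ A
    · intro i j h c
      show ρ (SpU.Lam (Matrix.SpecialLinearGroup.transvection h c)) v = v
      rw [SpU.Lam_transvection h c]
      exact keyb_levT h2 ψ hψ ρ hrk v hv i j h c
    · intro A B hA hB
      show ρ (SpU.Lam (A * B)) v = v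
      rw [map_mul, map_mul, Module.End.mul_apply, hB, hA]

end Cfsg.Agent.S2524P
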