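import Mathlib
import Cfsg.Prelude.Def_Characters
import Cfsg.Agent.Helper12.LSpWDefs
import Cfsg.Agent.Helper12.LSpWPDefs
import Cfsg.Agent.Helper12.LSLDefs
import Cfsg.Agent.Helper12.RUSpB
import Cfsg.Agent.Helper20.PermCharI
import Cfsg.Agent.Helper25.SpUH
import Cfsg.Agent.Helper12.WGDefs
import Cfsg.Agent.Helper12.WGDefsC
import Cfsg.Agent.Helper12.WGDefsD
import Cfsg.Agent.Helper12.WGStruct
import Cfsg.Agent.Helper19.WGIOTASURJ

set_option autoImplicit false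

/-! S2524 part B piece VANISH (helper8). -/

namespace Cfsg.Agent.S2524P

open Matrix Cfsg Cfsg.Agent.S2333P Cfsg.Agent.Helper2.Sp Cfsg.Agent.Helper12.LSp Cfsg.Agent.Helper25
open Cfsg.Agent.Helper12.LSL Cfsg.Agent.Helper20.PermChar

variable {F : Type*} [Field F] [Fintype F]

/-- **VANISH**: a class function vanishing on the stabiliser of `e0` vanishes on every element
with a nonzero fixed vector -/
theorem vanish_of_fix {m : ℕ} (f : ↥(symplecticGroup (Fin (m + 1)) F) → ℂ)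
    (hf : IsClassFunction ↥(symplecticGroup (Fin (m + 1)) F) f)
    (h : ∀ x : Gam m F, f (iota m F x) = 0)
    (g : ↥(symplecticGroup (Fin (m + 1)) F)) (hg : ¬ NoFix g) : f g = 0 := by
  unfold NoFix at hg
  push Not at hg
  obtain ⟨v, hgv, hv⟩ := hg
  have he0 : (e0 : Vec (m + 1) F) ≠ 0 := by
    intro h0
    have := congrFun h0 (Sum.inl 0)
    simp [e0] at this
  obtain ⟨a, -, hav⟩ := exists_TV_mulVec_eq v (e0 : Vec (m + 1) F) hv he0
  have hfix : ((a * g * a⁻¹ : ↥(symplecticGroup (Fin (m + 1)) F)) :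
      Matrix (Fin (m + 1) ⊕ Fin (m + 1)) (Fin (m + 1) ⊕ Fin (m + 1)) F) *ᵥ e0 = e0 := by
    have hinv : ((a⁻¹ : ↥(symplecticGroup (Fin (m + 1)) F)) :
        Matrix (Fin (m + 1) ⊕ Fin (m + 1)) (Fin (m + 1) ⊕ Fin (m + 1)) F) *ᵥ e0 = v := by
      rw [← hav, mulVec_mulVec]
      have : ((a⁻¹ : ↥(symplecticGroup (Fin (m + 1)) F)) :
          Matrix (Fin (m + 1) ⊕ Fin (m + 1)) (Fin (m + 1) ⊕ Fin (m + 1)) F) *
          (a : Matrix (Fin (m + 1) ⊕ Fin (m + 1)) (Fin (m + 1) ⊕ Fin (m + 1)) F) = 1 := by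
        rw [← coe_mul', inv_mul_cancel]
        rfl
      rw [this, one_mulVec]
    rw [coe_mul', coe_mul', ← mulVec_mulVec, ← mulVec_mulVec, hinv, hgv, hav]
  obtain ⟨x, hx⟩ := exists_iota_eq (a * g * a⁻¹) hfix
  rw [← hf g a, ← hx]
  exact h x

end Cfsg.Agent.S2524P
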