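import Mathlib
import Cfsg.Prelude.Def_Characters
import Cfsg.Agent.Helper12.LSpWDefs
import Cfsg.Agent.Helper12.LSpWPDefs
import Cfsg.Agent.Helper12.WGDefs
import Cfsg.Agent.Helper12.WGDefsC
import Cfsg.Agent.Helper12.WGStruct
import Cfsg.Agent.Helper18.WGSPECNAT
import Cfsg.Agent.Helper22.WGCLASS

set_option autoImplicit false

/-! S2524 chapter WEIL piece WDEG (helper8). -/

namespace Cfsg.Agent.S2524P

open Matrix Cfsg Cfsg.Agent.S2333P Cfsg.Agent.Helper2.Sp Cfsg.Agent.Helper12.LSp Cfsg.Agent.Helper25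

variable {F : Type*} [Field F] [Fintype F]

/-- sum of a function which is `e` at `0`, `a` on a set `P` not containing `0`, and `0` elsewhere -/
theorem wdeg_sum {α : Type*} [Fintype α] [DecidableEq α] (z : α) (P : α → Prop) [DecidablePred P]
    (hz : ¬ P z) (k : α → ℕ) (e a : ℕ) (h0 : k z = e) (h1 : ∀ T, P T → k T = a)
    (h2 : ∀ T, T ≠ z → ¬ P T → k T = 0) :
    ∑ T, k T = e + a * Fintype.card {T // P T} := by
  have hk : ∀ T, k T = (if T = z then e else 0) + (if P T then a else 0) := by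
    intro T
    by_cases hT : T = z
    · subst hT
      rw [if_pos rfl, if_neg hz, add_zero, h0]
    · by_cases hP : P T
      · rw [if_neg hT, if_pos hP, zero_add, h1 T hP]
      · rw [if_neg hT, if_neg hP, h2 T hT hP]
  rw [Finset.sum_congr rfl (fun T _ => hk T), Finset.sum_add_distrib, Finset.sum_ite_eq'
    , if_pos (Finset.mem_univ z), ← Finset.sum_filter, Finset.sum_const, smul_eq_mul,
    Fintype.card_subtype, mul_comm]

/-- **WDEG**: the degree of a character whose spectrum is `e` at `0`, `a` on the class of `c` and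
`0` elsewhere -/
theorem degree_of_spec (hodd : Odd (Fintype.card F)) {n : ℕ} (ψ : AddChar F ℂ) (hψ : ψ ≠ 1)
    (χ : ↥(symplecticGroup (Fin n) F) → ℂ) (hχ : IsCharacter ↥(symplecticGroup (Fin n) F) χ)
    (c : F) (hc : c ≠ 0) (e a : ℕ) (h0 : spec ψ χ 0 = e)
    (h1 : ∀ T : ↥(SymM n F), OfClass c T → spec ψ χ T = a)
    (h2 : ∀ T : ↥(SymM n F), T ≠ 0 → ¬ OfClass c T → spec ψ χ T = 0) :
    χ 1 = ((e + a * ((Fintype.card F ^ n - 1) / 2) : ℕ) : ℂ) := by
  classical
  obtain ⟨k, hk, hdeg⟩ := specU_nat (class_two_ne_zero hodd) ψ hψ (US n F) χ hχ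
  rw [hdeg]
  congr 1
  have hz : ¬ OfClass c (0 : ↥(SymM n F)) := fun h => ne_zero_of_ofClass hc h rfl
  have hsum := wdeg_sum (0 : ↥(SymM n F)) (OfClass c) hz k e a
    (by exact_mod_cast (hk 0).symm.trans h0)
    (fun T hT => by exact_mod_cast (hk T).symm.trans (h1 T hT))
    (fun T hT hP => by exact_mod_cast (hk T).symm.trans (h2 T hT hP))
  have hcard := card_ofClass hodd (n := n) hc
  rw [Nat.card_eq_fintype_card] at hcard
  rw [hsum]
  congr 2
  omega

end Cfsg.Agent.S2524P
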