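import Mathlib
import Cfsg.Prelude.Def_Characters
import Cfsg.Agent.Helper12.LSpWDefs
import Cfsg.Agent.Helper12.LSpWPDefs
import Cfsg.Agent.Helper12.WGDefs
import Cfsg.Agent.Helper12.WGDefsC
import Cfsg.Agent.Helper12.WGStruct
import Cfsg.Agent.Helper18.WGSPECADD

set_option autoImplicit false

/-! S2524 chapter WEIL piece WSPEC (helper8). -/

namespace Cfsg.Agent.S2524P

open Matrix Cfsg Cfsg.Agent.S2333P Cfsg.Agent.Helper2.Sp Cfsg.Agent.Helper12.LSp Cfsg.Agent.Helper25

variable {F : Type*} [Field F] [Fintype F]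

omit [Fintype F] in
theorem wspec_trace {n : ℕ} (c : F) (w : Fin n → F) (S : Matrix (Fin n) (Fin n) F) :
    Matrix.trace ((c • vecMulVec w w) * S) = c * (w ⬝ᵥ (S *ᵥ w)) := by
  rw [Matrix.smul_mul, Matrix.trace_smul, smul_eq_mul, vecMulVec_mul, trace_vecMulVec,
    dotProduct_mulVec, dotProduct_comm]

omit [Fintype F] in
theorem wspec_lamT {n : ℕ} (ψ : AddChar F ℂ) (c : F) (w : Fin n → F) (S : ↥(SymM n F)) :
    ψ (c * (w ⬝ᵥ (S.1 *ᵥ w))) = lamT ψ (rk1 c w) (Multiplicative.ofAdd S) := by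
  rw [lamT_apply, rk1_val, wspec_trace]

theorem wspec_classInner_sum {G : Type*} [Group G] [Fintype G] {ι : Type*} [Fintype ι]
    (f : ι → G → ℂ) (g : G → ℂ) :
    classInner (fun Y => ∑ w, f w Y) g = ∑ w, classInner (f w) g := by
  unfold classInner
  rw [← Finset.mul_sum, Finset.sum_comm]
  congr 1
  apply Finset.sum_congr rfl
  intro Y _
  rw [Finset.sum_mul]

/-- **WSPEC**: the spectrum of a function which is `∑_w lamT ψ (rk1 c w)` on the Siegel radical -/
theorem spec_weil (h2 : (2 : F) ≠ 0) (ψ : AddChar F ℂ) (hψ : ψ ≠ 1) {n : ℕ} (c : F)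
    (ω : ↥(symplecticGroup (Fin n) F) → ℂ)
    (hω : ∀ S : ↥(SymM n F), ω (US n F (Multiplicative.ofAdd S)) =
      ∑ w : Fin n → F, ψ (c * (w ⬝ᵥ (S.1 *ᵥ w)))) (T : ↥(SymM n F)) :
    spec ψ ω T = (Nat.card {w : Fin n → F // rk1 c w = T} : ℂ) := by
  classical
  have hfun : (fun Y : Multiplicative ↥(SymM n F) => ω (US n F Y)) =
      fun Y => ∑ w : Fin n → F, (fun Y' => lamT ψ (rk1 c w) Y') Y := by
    funext Y
    have hY : Y = Multiplicative.ofAdd (Multiplicative.toAdd Y) := rfl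
    rw [hY, hω]
    apply Finset.sum_congr rfl
    intro w _
    exact wspec_lamT ψ c w _
  have hterm : ∀ w : Fin n → F,
      classInner (fun Y' : Multiplicative ↥(SymM n F) => lamT ψ (rk1 c w) Y')
        (fun Y => lamT ψ T Y) = if rk1 c w = T then 1 else 0 := by
    intro w
    have h := specU_lamT h2 ψ hψ (rk1 c w) T
    unfold specU at h
    simp only [MonoidHom.id_apply] at h
    rw [h]
  show classInner (fun Y => ω (US n F Y)) (fun Y => lamT ψ T Y) = _
  rw [hfun, wspec_classInner_sum, Finset.sum_congr rfl (fun w _ => hterm w), Finset.sum_boole,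
    Nat.card_eq_fintype_card, Fintype.card_subtype]

end Cfsg.Agent.S2524P
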