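import Mathlib
import Cfsg.Prelude.Def_LieClassical
import Cfsg.Agent.Helper13.S2263Defs
import Cfsg.Agent.Helper4.S2496MFORM
import Cfsg.Agent.Helper16.S2496FROB

/-! S2263 piece LINEMF (driver helper13; helper8): the Hermitian line and the S2496 model `K × K`
are Hermitian spaces. -/

set_option autoImplicit false

namespace Cfsg.Agent.S2263P

open Cfsg.Agent.S2496P

section general

variable {F : Type*} [Field F] [Fintype F] {p : ℕ} [Fact p.Prime] [CharP F p] {f q : ℕ}

/-- LINE -/
theorem isHerm_Hline (hq : q = p ^ f) (hF : Fintype.card F = q ^ 2) :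
    IsHerm (frob F p f) (Hline (frob F p f)) where
  add_left u u' v := by simp only [Hline_apply, add_mul]
  smul_left c u v := by simp only [Hline_apply, smul_eq_mul, mul_assoc]
  symm u v := by
    simp only [Hline_apply]
    rw [map_mul, frob_frob_F hq hF, mul_comm]
  nondeg u h := by
    have := h 1
    simpa [Hline_apply] using this

end general

section ext

variable {F K : Type*} [Field F] [Fintype F] [Field K] [Algebra F K] [Finite K] {p : ℕ}
  [Fact p.Prime] [CharP F p] [CharP K p] {f q : ℕ}

/-- MF: the S2496 model `K × K` is a Hermitian space -/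
theorem isHerm_mform (hq : q = p ^ f) (hF : Fintype.card F = q ^ 2) :
    IsHerm (frob F p f) (mform F K p f) where
  add_left := mform_add_left
  smul_left := mform_smul_left hq hF
  symm := mform_symm hq hF
  nondeg := mform_nondeg

end ext

end Cfsg.Agent.S2263P
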