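import Mathlib
import Cfsg.Prelude.Def_LieClassical
import Cfsg.Agent.Helper29.S2263Defs
import Cfsg.Agent.Helper7.PGU1
import Cfsg.Agent.Helper2.UnitaryCenter

/-! S2263 pieces CENTERGU, ORDER, PROJORD (driver helper29; helper8): the centre of `GU_d(q)` consists
of scalar matrices, and the order of an element of `PGU_d(q)`. -/

set_option autoImplicit false

namespace Cfsg.Agent.S2263P

open Polynomial
open Cfsg.Agent.S2264P

namespace CENTERGU

theorem scalar_eq_smul_one {F : Type*} [Field F] {d : ℕ} (c : F) :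
    Matrix.scalar (Fin d) c = c • (1 : Matrix (Fin d) (Fin d) F) := by
  ext i j
  by_cases h : i = j
  · subst h; simp
  · simp [h]

end CENTERGU

section poly

variable {F : Type*} [Field F]

variable [Fintype F] {p f q : ℕ} [Fact p.Prime]

open CENTERGU Cfsg.Agent.Helper7.PGU in
/-- ORDER -/
theorem orderOf_mk_le {d : ℕ} (g : ↥(Cfsg.GU d F q)) {K : ℕ} (hK : 0 < K) {c : F}
    (h : minpoly F ((g : GL (Fin d) F) : Matrix (Fin d) (Fin d) F) ∣ X ^ K - C c) :
    orderOf (QuotientGroup.mk g : ↥(Cfsg.GU d F q) ⧸ Subgroup.center ↥(Cfsg.GU d F q)) ≤ K := by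
  have h0 : Polynomial.aeval ((g : GL (Fin d) F) : Matrix (Fin d) (Fin d) F) (X ^ K - C c) = 0 :=
    (minpoly.dvd_iff).1 h
  rw [map_sub, map_pow, aeval_X, aeval_C, sub_eq_zero] at h0
  have h1 : valM (g ^ K) = Matrix.scalar (Fin d) c := by
    rw [valM_pow]
    rw [scalar_eq_smul_one, ← Algebra.algebraMap_eq_smul_one]
    exact h0
  have h2 : g ^ K ∈ Subgroup.center ↥(Cfsg.GU d F q) := mem_center_of_scalar _ c h1
  apply orderOf_le_of_pow_eq_one hK
  rw [← QuotientGroup.mk_pow]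
  exact (QuotientGroup.eq_one_iff _).2 h2

open CENTERGU Cfsg.Agent.Helper7.PGU in
/-- CENTERGU -/
theorem center_GU_scalar (hF : Fintype.card F = q ^ 2) {d : ℕ} (hd : 3 ≤ d)
    (z : ↥(Cfsg.GU d F q)) (hz : z ∈ Subgroup.center ↥(Cfsg.GU d F q)) :
    ∃ c : F, ((z : GL (Fin d) F) : Matrix (Fin d) (Fin d) F) = c • 1 := by
  obtain ⟨a, ha1, ha2⟩ := Cfsg.Agent.Helper2.Herm.exists_norm_one_sq_ne hF
  have ha : (a : F) ≠ 1 := by
    intro h
    apply ha2
    apply Units.ext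
    rw [Units.val_pow_eq_pow_val, h]; simp
  have ha1' : (a : F) ^ (q + 1) = 1 := by
    rw [← Units.val_pow_eq_pow_val, ha1]; rfl
  obtain ⟨c, hc⟩ := exists_scalar_of_mem_center (Cfsg.Agent.Helper2.Herm.cj hF)
    (Cfsg.Agent.Helper2.Herm.cj_apply hF) (by omega : 1 ≤ d) (a : F) ha ha1' z hz
  exact ⟨c, by rw [← scalar_eq_smul_one]; exact hc⟩

open CENTERGU Cfsg.Agent.Helper7.PGU in
/-- PROJORD -/
theorem orderOf_mk_eq (hF : Fintype.card F = q ^ 2) {d : ℕ} (hd : 3 ≤ d) (g : ↥(Cfsg.GU d F q))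
    {N : ℕ}
    (h : ∀ k : ℕ, (∃ c : F, ((g : GL (Fin d) F) : Matrix (Fin d) (Fin d) F) ^ k = c • 1) ↔ N ∣ k) :
    orderOf (QuotientGroup.mk g : ↥(Cfsg.GU d F q) ⧸ Subgroup.center ↥(Cfsg.GU d F q)) = N := by
  have key : ∀ k : ℕ, (QuotientGroup.mk g : ↥(Cfsg.GU d F q) ⧸ Subgroup.center ↥(Cfsg.GU d F q)) ^ k = 1
      ↔ N ∣ k := by
    intro k
    rw [← QuotientGroup.mk_pow, QuotientGroup.eq_one_iff, ← h k]
    constructor
    · intro hc
      obtain ⟨c, hc'⟩ := center_GU_scalar hF hd (g ^ k) hc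
      refine ⟨c, ?_⟩
      rw [← hc']
      exact (valM_pow g k).symm
    · rintro ⟨c, hc⟩
      apply mem_center_of_scalar _ c
      rw [valM_pow, scalar_eq_smul_one]
      exact hc
  apply Nat.dvd_antisymm
  · exact orderOf_dvd_of_pow_eq_one ((key N).2 dvd_rfl)
  · exact (key _).1 (pow_orderOf_eq_one _)

end poly

end Cfsg.Agent.S2263P
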