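import Mathlib
import Cfsg.Agent.Helper27.S0996Defs
import Cfsg.Agent.Helper8.Ind
import Cfsg.Agent.Helper24.Span

set_option autoImplicit false

/-! S0996, piece REL: the relation `Σ_X δ_χ a_φ(χ) − ε a_φ(ψ) = 1` between the multiplicities of the
induced characters `Λ_φ`. -/

namespace Cfsg.Agent.Helper8.S0996REL

open Cfsg Cfsg.Agent.Helper24 Cfsg.Agent.Helper1.W2p Cfsg.Agent.S0996P

universe u

variable {G : Type u} [Group G] [Fintype G] {p : ℕ} {P : Subgroup G}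

/-- the class function `Θ = Σ_X δ_χ χ − ε ψ` -/
noncomputable def Th (D : BrauerData p P) (ψ : IrrCharacter G) (g : G) : ℂ :=
  ∑ χ ∈ XF D, (D.δ χ : ℂ) * (χ : G → ℂ) g - (D.ε : ℂ) * (ψ : G → ℂ) g

theorem Th_regular (D : BrauerData p P) (ψ : IrrCharacter G) (hψ : ψ ∈ D.Y) (g : G)
    (hg : ¬ p ∣ orderOf g) : Th D ψ g = 0 := by
  unfold Th
  have h := D.rel ψ hψ g hg
  rw [finsum_mem_eq_finite_toFinset_sum _ (Set.toFinite D.X)] at h
  unfold XF
  rw [h, sub_self]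

theorem Th_one (hp : p.Prime) (D : BrauerData p P) (ψ : IrrCharacter G) (hψ : ψ ∈ D.Y) :
    Th D ψ 1 = 0 := by
  apply Th_regular D ψ hψ
  rw [orderOf_one]
  exact hp.one_lt.ne' ∘ Nat.dvd_one.mp

theorem Th_on_P (hp : p.Prime) (D : BrauerData p P) (ψ : IrrCharacter G) (hψ : ψ ∈ D.Y) (y : G) (hy : y ∈ P) :
    Th D ψ y = (eN P : ℂ) - D.Lam ψ y := by
  by_cases h1 : y = 1
  · rw [h1, Th_one hp D ψ hψ, D.Lam_one ψ hψ, sub_self]
  · unfold Th
    rw [D.val_Y ψ hψ y hy h1]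
    have hX : ∑ χ ∈ XF D, (D.δ χ : ℂ) * (χ : G → ℂ) y = ∑ χ ∈ XF D, (1 : ℂ) := by
      refine Finset.sum_congr rfl fun χ hχ => ?_
      rw [mem_XF] at hχ
      rw [D.val_X χ hχ y hy h1]
      rcases D.δ_pm χ hχ with h | h <;> rw [h] <;> norm_num
    rw [hX, Finset.sum_const, card_XF, nsmul_eq_mul, mul_one]
    have hε : (D.ε : ℂ) * ((D.ε : ℂ) * D.Lam ψ y) = D.Lam ψ y := by
      rcases D.ε_pm with h | h <;> rw [h] <;> norm_num
    rw [hε]

theorem sum_Th_P (hp : p.Prime) (D : BrauerData p P) (ψ : IrrCharacter G) (hψ : ψ ∈ D.Y) (hP : Nat.card P = p)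
    [Fintype P] : ∑ y : P, Th D ψ (y : G) = (p : ℂ) * (eN P : ℂ) := by
  have h1 : ∑ y : P, Th D ψ (y : G) = ∑ y : P, ((eN P : ℂ) - D.Lam ψ (y : G)) :=
    Finset.sum_congr rfl fun y _ => Th_on_P hp D ψ hψ y y.2
  have h2 := D.Lam_sum ψ hψ
  rw [finsum_eq_sum_of_fintype] at h2
  rw [h1, Finset.sum_sub_distrib, h2, sub_zero, Finset.sum_const, Finset.card_univ,
    ← Nat.card_eq_fintype_card, hP, nsmul_eq_mul]

end Cfsg.Agent.Helper8.S0996REL

namespace Cfsg.Agent.S0996P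

open Cfsg Cfsg.Agent.Helper24 Cfsg.Agent.Helper1.W2p

universe u

variable {G : Type u} [Group G]

section L3
variable [Fintype G] [Fintype (IrrCharacter G)] {p : ℕ} [Fact p.Prime] {P : Subgroup G} {n : ℕ}
  [Fintype (Lin P)]

open Cfsg.Agent.Helper8.S0996REL in
/-- REL -/
theorem mult_rel (B : Basic p P n) (D : BrauerData p P) (T0 : Dict0 P) (φ : Lin P)
    (ψ : IrrCharacter G) (hψ : ψ ∈ D.Y) :
    ∑ χ ∈ XF D, D.δ χ * (mult P φ χ : ℤ) - D.ε * (mult P φ ψ : ℤ) = 1 := by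
  classical
  let _ : Fintype (NP P) := Fintype.ofFinite _
  let _ : Fintype P := Fintype.ofFinite _
  -- Frobenius reciprocity for each irreducible character
  have hfr : ∀ χ : IrrCharacter G, (mult P φ χ : ℂ) =
      (Nat.card (NP P) : ℂ)⁻¹ * ∑ k : NP P, lam P φ k * (starRingEnd ℂ) ((χ : G → ℂ) (k : G)) := by
    intro χ
    rw [← T0.inner φ χ]
    unfold indL
    rw [Cfsg.Agent.Helper8.frobenius_reciprocity (NP P) (lam P φ) (χ : G → ℂ)
      (isClassFunction_irr χ)]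
    rfl
  -- combine
  have hTh : ∀ k : NP P, lam P φ k * (starRingEnd ℂ) (Th D ψ (k : G)) =
      ∑ χ ∈ XF D, (D.δ χ : ℂ) * (lam P φ k * (starRingEnd ℂ) ((χ : G → ℂ) (k : G))) -
        (D.ε : ℂ) * (lam P φ k * (starRingEnd ℂ) ((ψ : G → ℂ) (k : G))) := by
    intro k
    unfold Th
    rw [map_sub, map_sum, mul_sub, Finset.mul_sum, map_mul, map_intCast]
    congr 1
    · refine Finset.sum_congr rfl fun χ _ => ?_
      rw [map_mul, map_intCast]
      ring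
    · ring
  have hcomb : ((∑ χ ∈ XF D, D.δ χ * (mult P φ χ : ℤ) - D.ε * (mult P φ ψ : ℤ) : ℤ) : ℂ) =
      (Nat.card (NP P) : ℂ)⁻¹ * ∑ k : NP P, lam P φ k * (starRingEnd ℂ) (Th D ψ (k : G)) := by
    push_cast
    rw [Finset.sum_congr rfl (fun k _ => hTh k), Finset.sum_sub_distrib, Finset.sum_comm, mul_sub,
      Finset.mul_sum, ← Finset.mul_sum (a := (D.ε : ℂ))]
    congr 1
    · refine Finset.sum_congr rfl fun χ _ => ?_
      rw [hfr χ, ← Finset.mul_sum]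
      ring
    · rw [hfr ψ]
      ring
  -- the sum over `N` reduces to a sum over `P`
  have hPN : P ≤ NP P := Subgroup.le_normalizer
  have hlamP : ∀ k : NP P, (k : G) ∈ P → lam P φ k = 1 := by
    intro k hk
    unfold lam
    have : (QuotientGroup.mk k : QP P) = 1 := by
      rw [QuotientGroup.eq_one_iff]
      exact hk
    rw [this, map_one, Units.val_one]
  have hsum : ∑ k : NP P, lam P φ k * (starRingEnd ℂ) (Th D ψ (k : G)) =
      ∑ y : P, (starRingEnd ℂ) (Th D ψ (y : G)) := by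
    rw [← Cfsg.Agent.Helper8.sum_ebz_mul (NP P) (lam P φ) (fun g => (starRingEnd ℂ) (Th D ψ g))]
    have h1 : ∑ y : P, (starRingEnd ℂ) (Th D ψ (y : G)) =
        ∑ y : P, (fun _ : P => (1 : ℂ)) y * (fun g => (starRingEnd ℂ) (Th D ψ g)) (y : G) := by
      refine Finset.sum_congr rfl fun y _ => ?_
      rw [one_mul]
    rw [h1, ← Cfsg.Agent.Helper8.sum_ebz_mul P (fun _ : P => (1 : ℂ))
      (fun g => (starRingEnd ℂ) (Th D ψ g))]
    refine Finset.sum_congr rfl fun g _ => ?_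
    by_cases hgP : g ∈ P
    · rw [Cfsg.Agent.Helper8.ebz_mem P _ hgP, Cfsg.Agent.Helper8.ebz_mem (NP P) _ (hPN hgP),
        hlamP ⟨g, hPN hgP⟩ hgP]
    · rw [Cfsg.Agent.Helper8.ebz_not_mem P _ hgP, zero_mul]
      by_cases hgN : g ∈ NP P
      · rw [Th_regular D ψ hψ g (B.regular g hgN hgP), map_zero, mul_zero]
      · rw [Cfsg.Agent.Helper8.ebz_not_mem (NP P) _ hgN, zero_mul]
  have hfin : ∑ y : P, (starRingEnd ℂ) (Th D ψ (y : G)) = (p : ℂ) * (eN P : ℂ) := by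
    rw [← map_sum, sum_Th_P Fact.out D ψ hψ B.card_P, map_mul, Complex.conj_natCast, Complex.conj_natCast]
  have hne : ((p : ℂ) * (eN P : ℂ)) ≠ 0 := by
    have h0 : p * eN P ≠ 0 := by
      rw [← B.card_NP]
      exact Nat.card_pos.ne'
    exact_mod_cast h0
  have hone : ((∑ χ ∈ XF D, D.δ χ * (mult P φ χ : ℤ) - D.ε * (mult P φ ψ : ℤ) : ℤ) : ℂ) = 1 := by
    rw [hcomb, hsum, hfin, B.card_NP]
    push_cast
    exact inv_mul_cancel₀ hne
  exact_mod_cast hone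

end L3

end Cfsg.Agent.S0996P
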