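import Mathlib
import Cfsg.Agent.Helper8.W2pT1b

/-!
# S0720 piece T1, part c: the assembler
-/

set_option autoImplicit false

namespace Cfsg.Agent.Helper8.W2p

open Cfsg Cfsg.Agent.Helper24 Cfsg.Agent.Helper8.D1 Cfsg.Agent.Helper1.W2p

universe u

section

variable {G : Type u} [Group G] [Finite G] {p : ℕ} [Fact p.Prime] (P : Sylow p G)

local notation "CP" => Subgroup.centralizer ((P : Subgroup G) : Set G)

/-- values on `P ∖ 1` as a sum over the non-trivial `p`-linear functions -/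
theorem apply_eq_sum_nt (hP : Nat.card P = p) (hC : CP = (P : Subgroup G))
    [Fintype (PL P)] [DecidableEq (PL P)] (θ : CP → ℂ) (hθ : ∀ c, θ c = 1) (χ : G → ℂ) (y : CP) (hy : y ≠ 1) :
    χ y = ∑ μ ∈ Finset.univ.erase (onePL P), Dnum CP μ.1 θ χ * μ.1 y := by
  rw [apply_eq_sum_Dnum P hP hC θ hθ χ y hy,
    ← Finset.add_sum_erase Finset.univ _ (Finset.mem_univ (onePL P))]
  have h0 : Dnum CP (onePL P).1 θ χ = 0 := by
    unfold Dnum
    have : (fun c : CP => (onePL P).1 c * θ c) = θ := by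
      funext c
      show (1 : ℂ) * θ c = θ c
      rw [one_mul]
    rw [this, sub_self]
  rw [h0, zero_mul, zero_add]

theorem sum_nt_apply (hP : Nat.card P = p) (hC : CP = (P : Subgroup G))
    [Fintype (PL P)] [DecidableEq (PL P)] (y : CP) (hy : y ≠ 1) :
    ∑ μ ∈ Finset.univ.erase (onePL P), μ.1 y = -1 := by
  have h1 := sum_PL_apply P hP hC y hy
  rw [← Finset.add_sum_erase Finset.univ _ (Finset.mem_univ (onePL P))] at h1
  have h2 : (onePL P).1 y = 1 := rfl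
  rw [h2] at h1
  linear_combination h1

/-- the assembler -/
theorem nonempty_brauerData_of (hP : Nat.card P = p) (hC : CP = (P : Subgroup G))
    [Fintype (PL P)] [DecidableEq (PL P)] (θ : CP → ℂ) (hθ : ∀ c, θ c = 1)
    (X Y : Set (IrrCharacter G)) (s : IrrCharacter G → ℤ) (ε : ℤ)
    (O : IrrCharacter G → Finset (PL P))
    (hcX : Nat.card X = eN (P : Subgroup G))
    (hcY : Nat.card Y * eN (P : Subgroup G) = p - 1)
    (hdisj : Disjoint X Y) (htriv : trivIrr G ∈ X) (hstriv : s (trivIrr G) = 1)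
    (hs : ∀ χ ∈ X, s χ = 1 ∨ s χ = -1) (hε : ε = 1 ∨ ε = -1)
    (hDX : ∀ χ ∈ X, ∀ μ : PL P, NT p μ.1 → Dnum CP μ.1 θ (χ : G → ℂ) = -(s χ : ℂ))
    (hDO : ∀ χ : IrrCharacter G, χ ∉ X → χ ∉ Y → ∀ μ : PL P, NT p μ.1 →
      Dnum CP μ.1 θ (χ : G → ℂ) = 0)
    (hDY : ∀ ψ ∈ Y, ∀ μ : PL P, NT p μ.1 →
      Dnum CP μ.1 θ (ψ : G → ℂ) = if μ ∈ O ψ then (ε : ℂ) else 0)
    (hOc : ∀ ψ ∈ Y, (O ψ).card = eN (P : Subgroup G))
    (hOnt : ∀ ψ ∈ Y, ∀ ν ∈ O ψ, NT p ν.1)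
    (hOd : ∀ ψ ∈ Y, ∀ ψ' ∈ Y, ψ ≠ ψ' → Disjoint (O ψ) (O ψ'))
    (hdX : ∀ χ ∈ X, (irrDeg χ : ℤ) ≡ s χ [ZMOD p])
    (hdY : ∀ ψ ∈ Y, (irrDeg ψ : ℤ) ≡ ε * eN (P : Subgroup G) [ZMOD p])
    (hrel : ∀ ψ ∈ Y, ∀ g : G, ¬ p ∣ orderOf g →
      ∑ᶠ χ ∈ X, (s χ : ℂ) * (χ : G → ℂ) g = (ε : ℂ) * (ψ : G → ℂ) g) :
    Nonempty (BrauerData p (P : Subgroup G)) := by
  have hp := (Fact.out : p.Prime)
  letI : Fintype CP := Fintype.ofFinite _
  letI : Fintype (IrrCharacter CP) := Fintype.ofFinite _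
  have hmemNT : ∀ μ : PL P, μ ∈ Finset.univ.erase (onePL P) ↔ NT p μ.1 := by
    intro μ
    rw [Finset.mem_erase, nt_iff_ne_one]
    simp
  -- element of `P` as element of `CP`
  have hPC : ∀ y : G, y ∈ (P : Subgroup G) → y ∈ CP := by
    intro y hy
    have h2 : ∀ (A B : Subgroup G), A = B → ∀ y : G, y ∈ B → y ∈ A := by
      intro A B hAB y hy
      rw [hAB]; exact hy
    exact h2 _ _ hC _ hy
  have hval : ∀ (χ : IrrCharacter G) (y : G) (hy : y ∈ (P : Subgroup G)), y ≠ 1 →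
      (χ : G → ℂ) y = ∑ μ ∈ Finset.univ.erase (onePL P),
        Dnum CP μ.1 θ (χ : G → ℂ) * μ.1 ⟨y, hPC y hy⟩ := by
    intro χ y hy hy1
    have hne : (⟨y, hPC y hy⟩ : CP) ≠ 1 := by
      intro h
      exact hy1 (congrArg Subtype.val h)
    exact apply_eq_sum_nt P hP hC θ hθ (χ : G → ℂ) ⟨y, hPC y hy⟩ hne
  have hsumnt : ∀ (y : G) (hy : y ∈ (P : Subgroup G)), y ≠ 1 →
      ∑ μ ∈ Finset.univ.erase (onePL P), μ.1 ⟨y, hPC y hy⟩ = -1 := by
    intro y hy hy1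
    have hne : (⟨y, hPC y hy⟩ : CP) ≠ 1 := by
      intro h
      exact hy1 (congrArg Subtype.val h)
    exact sum_nt_apply P hP hC _ hne
  -- values
  have hvalX : ∀ χ ∈ X, ∀ y ∈ (P : Subgroup G), y ≠ 1 → (χ : G → ℂ) y = (s χ : ℂ) := by
    intro χ hχ y hy hy1
    rw [hval χ y hy hy1]
    rw [Finset.sum_congr rfl (fun μ hμ => by rw [hDX χ hχ μ ((hmemNT μ).1 hμ)])]
    rw [← Finset.mul_sum, hsumnt y hy hy1]
    ring
  have hvalO : ∀ χ : IrrCharacter G, χ ∉ X → χ ∉ Y → ∀ y ∈ (P : Subgroup G), y ≠ 1 →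
      (χ : G → ℂ) y = 0 := by
    intro χ hχX hχY y hy hy1
    rw [hval χ y hy hy1]
    apply Finset.sum_eq_zero
    intro μ hμ
    rw [hDO χ hχX hχY μ ((hmemNT μ).1 hμ), zero_mul]
  have hvalY : ∀ ψ ∈ Y, ∀ y ∈ (P : Subgroup G), y ≠ 1 →
      (ψ : G → ℂ) y = (ε : ℂ) * LamOf P (O ψ) y := by
    intro ψ hψ y hy hy1
    rw [hval ψ y hy hy1]
    rw [Finset.sum_congr rfl (fun μ hμ => by rw [hDY ψ hψ μ ((hmemNT μ).1 hμ), ite_mul, zero_mul])]
    rw [Finset.sum_ite_mem]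
    have hfil : (Finset.univ.erase (onePL P)) ∩ O ψ = O ψ := by
      ext μ
      rw [Finset.mem_inter, hmemNT]
      constructor
      · exact fun h => h.2
      · exact fun h => ⟨hOnt ψ hψ μ h, h⟩
    rw [hfil, ← Finset.mul_sum]
    congr 1
    have := LamOf_coe P (O ψ) ⟨y, hPC y hy⟩
    exact this.symm
  -- degrees of the other characters
  have hdegO : ∀ χ : IrrCharacter G, χ ∉ X → χ ∉ Y → p ∣ irrDeg χ := by
    intro χ hχX hχY
    have hres : IsCharacter CP (fun c : CP => (χ : G → ℂ) c) :=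
      Cfsg.Agent.Helper8.isCharacter_restrict CP (IsIrrCharacter.isCharacter χ.2)
    obtain ⟨n, hn⟩ := IsCharacter.classInner_irr_nat hres (trivIrr CP)
    unfold classInner at hn
    rw [card_CP P hP hC] at hn
    have hsum : ∑ c : CP, (χ : G → ℂ) c * (starRingEnd ℂ) ((trivIrr CP : CP → ℂ) c) =
        (irrDeg χ : ℂ) := by
      rw [Finset.sum_eq_single (1 : CP)]
      · rw [trivIrr_apply, map_one, mul_one, Subgroup.coe_one, irrDeg_spec]
      · intro c _ hc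
        have hc1 : (c : G) ≠ 1 := fun h => hc (Subtype.ext h)
        rw [hvalO χ hχX hχY c (mem_P_of_mem_CP P hC c) hc1, zero_mul]
      · intro h; exact absurd (Finset.mem_univ _) h
    rw [hsum] at hn
    have hp0 : (p : ℂ) ≠ 0 := by exact_mod_cast hp.ne_zero
    have h2 : (irrDeg χ : ℂ) = ((p * n : ℕ) : ℂ) := by
      rw [Nat.cast_mul, ← hn, ← mul_assoc, mul_inv_cancel₀ hp0, one_mul]
    have h3 : irrDeg χ = p * n := by exact_mod_cast h2
    exact ⟨n, h3⟩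
  -- `e ≤ p - 1` when `Y` is non-empty
  have hele : ∀ ψ ∈ Y, eN (P : Subgroup G) ≤ p - 1 := by
    intro ψ hψ
    have hY1 : 0 < Nat.card Y := by
      haveI : Nonempty Y := ⟨⟨ψ, hψ⟩⟩
      exact Nat.card_pos
    calc eN (P : Subgroup G) = 1 * eN (P : Subgroup G) := (one_mul _).symm
      _ ≤ Nat.card Y * eN (P : Subgroup G) := Nat.mul_le_mul_right _ hY1
      _ = p - 1 := hcY
  -- the numbers `a ψ`
  have hdegY : ∀ ψ ∈ Y, (irrDeg ψ : ℤ) =
      ((((irrDeg ψ : ℤ) - ε * eN (P : Subgroup G)) / p).toNat : ℤ) * p +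
        ε * eN (P : Subgroup G) := by
    intro ψ hψ
    have h1 : (p : ℤ) ∣ (irrDeg ψ : ℤ) - ε * eN (P : Subgroup G) :=
      (Int.modEq_iff_dvd.1 (hdY ψ hψ).symm)
    obtain ⟨k, hk⟩ := h1
    have hppos : (0 : ℤ) < p := by exact_mod_cast hp.pos
    have hk0 : 0 ≤ k := by
      by_contra hneg
      push Not at hneg
      have hk1 : k ≤ -1 := by omega
      have h2 : (p : ℤ) * k ≤ (p : ℤ) * (-1) := mul_le_mul_of_nonneg_left hk1 hppos.le
      have h3 : (0 : ℤ) < irrDeg ψ := by exact_mod_cast irrDeg_pos ψ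
      have h4 := hele ψ hψ
      have h5 : (eN (P : Subgroup G) : ℤ) ≤ (p : ℤ) - 1 := by
        have : 1 ≤ p := hp.one_lt.le
        omega
      rcases hε with rfl | rfl
      · omega
      · have h6 : (0 : ℤ) ≤ eN (P : Subgroup G) := Int.natCast_nonneg _
        omega
    rw [hk, Int.mul_ediv_cancel_left _ hppos.ne', Int.toNat_of_nonneg hk0]
    linarith
  refine ⟨⟨X, Y, s, ε, fun ψ => (((irrDeg ψ : ℤ) - ε * eN (P : Subgroup G)) / p).toNat,
    fun ψ => LamOf P (O ψ), hcX, hcY, hdisj, htriv, hstriv, hs, hε, hvalX, hdX, hvalO,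
    hdegO, hvalY, hdegY, ?_, ?_, ?_, ?_, hrel⟩⟩
  · intro ψ hψ
    rw [LamOf_one, hOc ψ hψ]
  · intro ψ hψ
    exact LamOf_sum P hP hC (O ψ) (hOnt ψ hψ)
  · intro ψ hψ
    rw [LamOf_inner P hP hC, Finset.inter_self, hOc ψ hψ]
    push_cast
    ring
  · intro ψ hψ ψ' hψ' hne
    rw [LamOf_inner P hP hC, Finset.disjoint_iff_inter_eq_empty.1 (hOd ψ hψ ψ' hψ' hne)]
    simp

end

end Cfsg.Agent.Helper8.W2p
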