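import Mathlib
import Cfsg.Agent.Helper8.W2pT1c
import Cfsg.Agent.Helper8.D1Main
import Cfsg.Agent.Helper5.PDD1APP
import Cfsg.Agent.Helper18.D1QOFinal
import Cfsg.Agent.Helper24.Codegree

/-!
# S0720 piece T1, part d: Brauer's defect-one theorem for a self-centralizing Sylow subgroup of
prime order, in clean form
-/

set_option autoImplicit false
set_option maxHeartbeats 800000

namespace Cfsg.Agent.Helper8.W2p

open Cfsg Cfsg.Agent.Helper24 Cfsg.Agent.Helper5 Cfsg.Agent.Helper5.Loc Cfsg.Agent.Helper5.CC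
  Cfsg.Agent.Helper5.D1Q Cfsg.Agent.Helper8.D1 Cfsg.Agent.Helper1.W2p

universe u

theorem core_selfcent {G : Type u} [Group G] [Finite G] (p : ℕ) [hr : Fact p.Prime]
    (P : Sylow p G) (hP : Nat.card P = p)
    (hC : Subgroup.centralizer ((P : Subgroup G) : Set G) = (P : Subgroup G)) :
    ∃ (θ : Subgroup.centralizer ((P : Subgroup G) : Set G) → ℂ) (B : Set (IrrCharacter G))
      (Ψ : (Subgroup.centralizer ((P : Subgroup G) : Set G) → ℂ) → IrrCharacter G) (ε : ℤ)
      (w : IrrCharacter G → ℤ),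
      (∀ c, θ c = 1) ∧ trivIrr G ∈ B ∧ eN (P : Subgroup G) ∣ p - 1 ∧
      Nat.card B = eN (P : Subgroup G) + (p - 1) / eN (P : Subgroup G) ∧
      (ε = 1 ∨ ε = -1) ∧
      (∀ μ, NT p μ → Ψ μ ∈ B) ∧
      (∀ μ ν, NT p μ → NT p ν → (Ψ μ = Ψ ν ↔
        TConj (P : Subgroup G) (Subgroup.normalizer ((P : Subgroup G) : Set G)) μ ν)) ∧
      (∀ μ, NT p μ → w (Ψ μ) = 0) ∧
      (∀ χ ∈ B, (∀ μ, NT p μ → χ ≠ Ψ μ) → (w χ = 1 ∨ w χ = -1)) ∧
      (∀ χ, χ ∉ B → w χ = 0) ∧
      (∀ μ, NT p μ → Dnum (Subgroup.centralizer ((P : Subgroup G) : Set G)) μ θ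
        ((Ψ μ : IrrCharacter G) : G → ℂ) = (ε : ℂ)) ∧
      (∀ μ, NT p μ → ∀ χ : IrrCharacter G, χ ≠ Ψ μ →
        Dnum (Subgroup.centralizer ((P : Subgroup G) : Set G)) μ θ (χ : G → ℂ) = (w χ : ℂ)) ∧
      Nat.card {χ : IrrCharacter G // ∃ μ, NT p μ ∧ χ = Ψ μ} = (p - 1) / eN (P : Subgroup G) ∧
      (∀ χ ∈ B, (∀ μ, NT p μ → χ ≠ Ψ μ) → (irrDeg χ : ℤ) ≡ - w χ [ZMOD p]) ∧
      (∀ μ, NT p μ → (irrDeg (Ψ μ) : ℤ) ≡ ε * eN (P : Subgroup G) [ZMOD p]) ∧
      (∀ μ, NT p μ → ∀ x : G, ¬ p ∣ orderOf x →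
        ∑ᶠ χ : IrrCharacter G, (w χ : ℂ) * (χ : G → ℂ) x +
          (ε : ℂ) * ((Ψ μ : IrrCharacter G) : G → ℂ) x = 0) ∧
      (∀ μ, NT p μ → Nat.card {ν : Subgroup.centralizer ((P : Subgroup G) : Set G) → ℂ //
        TConj (P : Subgroup G) (Subgroup.normalizer ((P : Subgroup G) : Set G)) μ ν} =
          eN (P : Subgroup G)) := by
  classical
  have : Fintype G := Fintype.ofFinite G
  letI : Fintype (IrrCharacter G) := Fintype.ofFinite _
  obtain ⟨M, hM⟩ := Cfsg.Agent.Helper24.exists_isPModular p hr.out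
  have hMp := isPrime_of_isPModular hM
  have hcardR : Nat.card P = p ^ (Nat.card G).factorization p := P.card_eq_multiplicity
  have hfac : (Nat.card G).factorization p = 1 := by
    rw [hP] at hcardR
    have h1 : p ^ 1 = p ^ (Nat.card G).factorization p := by rw [pow_one]; exact hcardR
    exact (Nat.pow_right_injective hr.out.two_le h1).symm
  have h0 : Nat.card G ≠ 0 := Nat.card_pos.ne'
  have hdiv : p ∣ Nat.card G := (hr.out.dvd_iff_one_le_factorization h0).mpr (by omega)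
  have hsq : ¬ p ^ 2 ∣ Nat.card G := fun h => by
    have := (hr.out.pow_dvd_iff_le_factorization h0).mp h
    omega
  set χ₀ : IrrCharacter G := trivIrr G with hχ₀
  set B : Set (IrrCharacter G) := blockOf M (χ₀ : G → ℂ) with hBdef
  have hB : IsPBlock M B := isPBlock_blockOf χ₀
  have hχ₀deg : charDegree (χ₀ : G → ℂ) = 1 := by
    unfold charDegree
    show ⌊((1 : ℂ)).re⌋₊ = 1
    simp
  have hd : 0 < blockDefect p B := by
    unfold blockDefect
    have h1 : sInf ((fun ψ : IrrCharacter G => (charDegree (ψ : G → ℂ)).factorization p) '' B) = 0 := by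
      apply Nat.eq_zero_of_le_zero
      apply Nat.sInf_le
      refine ⟨χ₀, mem_blockOf_self hMp χ₀, ?_⟩
      show (charDegree (χ₀ : G → ℂ)).factorization p = 0
      rw [hχ₀deg]
      simp
    rw [h1, Nat.sub_zero, hfac]
    exact Nat.one_pos
  have hBP : IsDefectGroup p M B P := isDefectGroup_sylow_of_pos hM hdiv hsq P B hB hd
  obtain ⟨b, θ, hind, hθ, hθP⟩ := exists_root_of_defectGroup p M hM P hP B hB hBP
  have hθconst : ∀ x : Subgroup.centralizer ((P : Subgroup G) : Set G),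
      (θ : Subgroup.centralizer ((P : Subgroup G) : Set G) → ℂ) x =
        (θ : Subgroup.centralizer ((P : Subgroup G) : Set G) → ℂ) 1 := by
    intro x
    apply hθP
    exact mem_P_of_mem_CP P hC x
  have hθ1 := Cfsg.Agent.Helper5.PD.irr_const_eq_one θ hθconst
  have hθdeg : charDegree (θ : Subgroup.centralizer ((P : Subgroup G) : Set G) → ℂ) = 1 := by
    unfold charDegree
    rw [hθ1 1]
    simp
  set T : Subgroup G := Subgroup.normalizer ((P : Subgroup G) : Set G) with hTdef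
  have hT : ∀ g : G, g ∈ T ↔ (g ∈ Subgroup.normalizer ((P : Subgroup G) : Set G) ∧
      ∀ c c' : Subgroup.centralizer ((P : Subgroup G) : Set G), (c' : G) = g * c * g⁻¹ →
        (θ : Subgroup.centralizer ((P : Subgroup G) : Set G) → ℂ) c' =
          (θ : Subgroup.centralizer ((P : Subgroup G) : Set G) → ℂ) c) := by
    intro g
    constructor
    · intro hg
      exact ⟨hg, fun c c' _ => by rw [hθ1 c, hθ1 c']⟩
    · intro hg
      exact hg.1
  set f := (Subgroup.centralizer ((P : Subgroup G) : Set G)).relIndex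
    (Subgroup.normalizer ((P : Subgroup G) : Set G)) with hf
  have hfe : f = eN (P : Subgroup G) := by
    unfold eN
    rw [hf, hC]
  obtain ⟨hediv, -, hBcard, Ψ, ε, w, hε, hΨB, hΨconj, hwΨ, hwX, hwO, hDΨ, hDw, -, hYcard,
    hdegX, hdegY, hrel⟩ :=
    core p M hM P hP B hB hBP b hind θ hθ hθP T hT f f rfl rfl
  have hfpos : 0 < f := by
    have : f ≠ 0 := by
      intro h0
      rw [h0] at hediv
      have h1 : p - 1 = 0 := Nat.eq_zero_of_zero_dvd hediv
      have := hr.out.two_le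
      omega
    omega
  have hCT : Subgroup.centralizer ((P : Subgroup G) : Set G) ≤ T :=
    fun g hg => Subgroup.centralizer_le_normalizer _ hg
  obtain ⟨-, R, -, -, -, -, hR4⟩ :=
    Cfsg.Agent.Helper18.D1QO.exists_orbit_reps P hP T hCT le_rfl
  refine ⟨(θ : Subgroup.centralizer ((P : Subgroup G) : Set G) → ℂ), B, Ψ, ε, w, hθ1,
    mem_blockOf_self hMp χ₀, hfe ▸ hediv, ?_, hε, hΨB, hΨconj, hwΨ, hwX, hwO, hDΨ, hDw, ?_, ?_, ?_,
    ?_, ?_⟩
  · rw [hBcard, hfe]
  · rw [hYcard, hfe]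
  · intro χ hχ hne
    have := hdegX χ hχ hne
    rw [hθdeg, Nat.div_self hfpos, Nat.mul_one, charDegree_irr] at this
    simpa using this
  · intro μ hμ
    have := hdegY μ hμ
    rw [hθdeg, Nat.mul_one, charDegree_irr, hfe] at this
    exact this
  · intro μ hμ x hx
    rw [finsum_eq_sum_of_fintype]
    exact hrel μ hμ x hx
  · intro μ hμ
    rw [← hfe]
    exact hR4 μ hμ.1 hμ.2

end Cfsg.Agent.Helper8.W2p
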