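import Mathlib
import Cfsg.Agent.Helper8.W2pT1d

/-!
# S0720 piece T1: `BrauerData` for a self-centralizing Sylow subgroup of prime order
-/

set_option autoImplicit false
set_option maxHeartbeats 800000

namespace Cfsg.Agent.Helper8.W2p

open Cfsg Cfsg.Agent.Helper24 Cfsg.Agent.Helper8.D1 Cfsg.Agent.Helper1.W2p

universe u

section

variable {G : Type u} [Group G] [Finite G] {p : ℕ} [Fact p.Prime] (P : Sylow p G)

local notation "CP" => Subgroup.centralizer ((P : Subgroup G) : Set G)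

/-- the numbers `Dnum` of the trivial character -/
theorem Dnum_triv (hP : Nat.card P = p) (hC : CP = (P : Subgroup G)) (θ : CP → ℂ)
    (hθ : ∀ c, θ c = 1) {μ : CP → ℂ} (hμ : NT p μ) :
    Dnum CP μ θ ((trivIrr G : IrrCharacter G) : G → ℂ) = -1 := by
  classical
  letI : Fintype CP := Fintype.ofFinite _
  have hp0 : (p : ℂ) ≠ 0 := by exact_mod_cast (Fact.out : p.Prime).ne_zero
  have hθ' : θ = fun _ => 1 := funext hθ
  unfold Dnum classInner
  rw [card_CP P hP hC, hθ']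
  have h1 : ∑ c : CP, ((trivIrr G : IrrCharacter G) : G → ℂ) (c : G) *
      (starRingEnd ℂ) (μ c * (1 : ℂ)) = 0 := by
    have h2 : ∀ c : CP, ((trivIrr G : IrrCharacter G) : G → ℂ) (c : G) *
        (starRingEnd ℂ) (μ c * (1 : ℂ)) = (starRingEnd ℂ) (μ c) := by
      intro c
      rw [trivIrr_apply, one_mul, mul_one]
    rw [Finset.sum_congr rfl (fun c _ => h2 c), ← map_sum, sum_CP_nt P hP hC hμ, map_zero]
  have h3 : ∑ c : CP, ((trivIrr G : IrrCharacter G) : G → ℂ) (c : G) *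
      (starRingEnd ℂ) ((1 : ℂ)) = (p : ℂ) := by
    have h4 : ∀ c : CP, ((trivIrr G : IrrCharacter G) : G → ℂ) (c : G) *
        (starRingEnd ℂ) ((1 : ℂ)) = 1 := by
      intro c
      rw [trivIrr_apply, map_one, mul_one]
    rw [Finset.sum_congr rfl (fun c _ => h4 c), Finset.sum_const, Finset.card_univ, nsmul_eq_mul,
      mul_one, ← Nat.card_eq_fintype_card, card_CP P hP hC]
  rw [h1, h3, mul_zero, inv_mul_cancel₀ hp0, zero_sub]

end

theorem irrDeg_trivIrr {G : Type u} [Group G] [Finite G] : irrDeg (trivIrr G) = 1 := by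
  have h := irrDeg_spec (trivIrr G)
  rw [trivIrr_apply] at h
  exact_mod_cast h.symm

theorem exists_brauerData {H : Type u} [Group H] [Finite H] (p : ℕ) [Fact p.Prime] (hp2 : p ≠ 2)
    (P : Sylow p H) (hP : Nat.card P = p)
    (hC : Subgroup.centralizer ((P : Subgroup H) : Set H) = (P : Subgroup H)) :
    Nonempty (BrauerData p (P : Subgroup H)) := by
  classical
  have hp := (Fact.out : p.Prime)
  have _ := hp2
  haveI := finite_PL P hP
  letI : Fintype (PL P) := Fintype.ofFinite _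
  letI : Fintype (IrrCharacter H) := Fintype.ofFinite _
  obtain ⟨θ, B, Ψ, ε, w, hθ, htrivB, hediv, hBcard, hε, hΨB, hΨconj, hwΨ, hwX, hwO, hDΨ, hDw,
    hYcard, hdegX, hdegY, hrel, horb⟩ := core_selfcent p P hP hC
  have hp1 : 0 < p - 1 := by have := hp.two_le; omega
  have hepos : 0 < eN (P : Subgroup H) := Nat.pos_of_dvd_of_pos hediv hp1
  have hDtriv : ∀ μ, NT p μ → Dnum (Subgroup.centralizer ((P : Subgroup H) : Set H)) μ θ
      ((trivIrr H : IrrCharacter H) : H → ℂ) = -1 := fun μ hμ => Dnum_triv P hP hC θ hθ hμ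
  set Y₀ : Set (IrrCharacter H) := {χ | ∃ μ, NT p μ ∧ χ = Ψ μ} with hY₀
  set X₀ : Set (IrrCharacter H) := {χ | χ ∈ B ∧ ∀ μ, NT p μ → χ ≠ Ψ μ} with hX₀
  have hY₀B : Y₀ ⊆ B := by
    rintro χ ⟨μ, hμ, rfl⟩
    exact hΨB μ hμ
  have hXY : X₀ = B \ Y₀ := by
    ext χ
    constructor
    · rintro ⟨h1, h2⟩
      refine ⟨h1, ?_⟩
      rintro ⟨μ, hμ, rfl⟩
      exact h2 μ hμ rfl
    · rintro ⟨h1, h2⟩
      refine ⟨h1, fun μ hμ h => h2 ⟨μ, hμ, h⟩⟩
  have hY₀card : Nat.card Y₀ = (p - 1) / eN (P : Subgroup H) := hYcard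
  have hX₀card : Nat.card X₀ = eN (P : Subgroup H) := by
    rw [Nat.card_coe_set_eq, hXY, Set.ncard_diff hY₀B, ← Nat.card_coe_set_eq,
      ← Nat.card_coe_set_eq, hBcard, hY₀card]
    omega
  -- `w` vanishes off `X₀`
  have hw0 : ∀ χ, χ ∉ X₀ → w χ = 0 := by
    intro χ hχ
    by_cases hχB : χ ∈ B
    · have : ∃ μ, NT p μ ∧ χ = Ψ μ := by
        by_contra hno
        push Not at hno
        exact hχ ⟨hχB, hno⟩
      obtain ⟨μ, hμ, rfl⟩ := this
      exact hwΨ μ hμ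
    · exact hwO χ hχB
  obtain ⟨μ₁, hμ₁⟩ := exists_nt P hP
  by_cases hcase : trivIrr H ∈ X₀
  · -- case A: the trivial character is not exceptional
    have hwtriv : w (trivIrr H) = -1 := by
      have h1 := hDw μ₁.1 hμ₁ (trivIrr H) (hcase.2 μ₁.1 hμ₁)
      rw [hDtriv μ₁.1 hμ₁] at h1
      have h2 : ((w (trivIrr H) : ℤ) : ℂ) = ((-1 : ℤ) : ℂ) := by rw [← h1]; simp
      exact_mod_cast h2
    refine nonempty_brauerData_of P hP hC θ hθ X₀ Y₀ (fun χ => - w χ) ε
      (fun ψ => Finset.univ.filter (fun ν : PL P => NT p ν.1 ∧ Ψ ν.1 = ψ))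
      hX₀card ?_ ?_ hcase ?_ ?_ hε ?_ ?_ ?_ ?_ ?_ ?_ ?_ ?_ ?_
    · rw [hY₀card]; exact Nat.div_mul_cancel hediv
    · rw [Set.disjoint_left]
      rintro χ ⟨-, h2⟩ ⟨μ, hμ, rfl⟩
      exact h2 μ hμ rfl
    · show - w (trivIrr H) = 1
      rw [hwtriv]; rfl
    · intro χ hχ
      show - w χ = 1 ∨ - w χ = -1
      rcases hwX χ hχ.1 hχ.2 with h | h
      · right; rw [h]
      · left; rw [h]; rfl
    · intro χ hχ μ hμ
      rw [hDw μ.1 hμ χ (hχ.2 μ.1 hμ)]
      push_cast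
      ring
    · intro χ hχX hχY μ hμ
      have hχB : χ ∉ B := by
        intro hχB
        apply hχX
        refine ⟨hχB, fun ν hν h => hχY ⟨ν, hν, h⟩⟩
      have hne : χ ≠ Ψ μ.1 := fun h => hχB (h ▸ hΨB μ.1 hμ)
      rw [hDw μ.1 hμ χ hne, hwO χ hχB]
      simp
    · rintro ψ ⟨μ₀, hμ₀, rfl⟩ μ hμ
      by_cases hμψ : Ψ μ.1 = Ψ μ₀
      · rw [if_pos (Finset.mem_filter.2 ⟨Finset.mem_univ _, hμ, hμψ⟩), ← hμψ]
        exact hDΨ μ.1 hμ
      · rw [if_neg (fun h => hμψ (Finset.mem_filter.1 h).2.2)]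
        rw [hDw μ.1 hμ (Ψ μ₀) (fun h => hμψ h.symm), hwΨ μ₀ hμ₀]
        simp
    · rintro ψ ⟨μ₀, hμ₀, rfl⟩
      rw [← horb μ₀ hμ₀, ← Fintype.card_coe, ← Nat.card_eq_fintype_card]
      refine Nat.card_congr ⟨fun ν => ⟨ν.1.1, ?_⟩, fun ν => ⟨⟨ν.1, (ν.2.nt hμ₀).1⟩, ?_⟩, ?_, ?_⟩
      · have := (Finset.mem_filter.1 ν.2).2
        exact (hΨconj μ₀ ν.1.1 hμ₀ this.1).1 this.2.symm
      · refine Finset.mem_filter.2 ⟨Finset.mem_univ _, ν.2.nt hμ₀, ?_⟩
        exact ((hΨconj μ₀ ν.1 hμ₀ (ν.2.nt hμ₀)).2 ν.2).symm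
      · intro ν; rfl
      · intro ν; rfl
    · intro ψ _ ν hν
      exact (Finset.mem_filter.1 hν).2.1
    · intro ψ _ ψ' _ hne
      rw [Finset.disjoint_left]
      intro ν h1 h2
      exact hne ((Finset.mem_filter.1 h1).2.2.symm.trans (Finset.mem_filter.1 h2).2.2)
    · intro χ hχ
      exact hdegX χ hχ.1 hχ.2
    · rintro ψ ⟨μ₀, hμ₀, rfl⟩
      exact hdegY μ₀ hμ₀
    · rintro ψ ⟨μ₀, hμ₀, rfl⟩ g hg
      have h1 := hrel μ₀ hμ₀ g hg
      rw [finsum_mem_def]
      have h2 : ∀ χ : IrrCharacter H,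
          X₀.indicator (fun χ => (((fun χ => - w χ) χ : ℤ) : ℂ) * (χ : H → ℂ) g) χ =
            -((w χ : ℂ) * (χ : H → ℂ) g) := by
        intro χ
        by_cases hχ : χ ∈ X₀
        · rw [Set.indicator_of_mem hχ]
          push_cast
          ring
        · rw [Set.indicator_of_notMem hχ, hw0 χ hχ]
          simp
      rw [finsum_congr h2, finsum_neg_distrib]
      linear_combination -h1
  · -- case B: the trivial character is the exceptional one
    obtain ⟨μ₀, hμ₀, hμ₀eq⟩ : ∃ μ, NT p μ ∧ trivIrr H = Ψ μ := by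
      by_contra hno
      push Not at hno
      exact hcase ⟨htrivB, hno⟩
    have hwtriv : w (trivIrr H) = 0 := by rw [hμ₀eq]; exact hwΨ μ₀ hμ₀
    have hall : ∀ ν, NT p ν → Ψ ν = trivIrr H := by
      intro ν hν
      by_contra hne
      have h1 := hDw ν hν (trivIrr H) (fun h => hne h.symm)
      rw [hDtriv ν hν, hwtriv] at h1
      norm_num at h1
    have hY₀eq : Y₀ = {trivIrr H} := by
      ext χ
      constructor
      · rintro ⟨μ, hμ, rfl⟩
        exact hall μ hμ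
      · intro h
        rw [Set.mem_singleton_iff] at h
        exact ⟨μ₀, hμ₀, h.trans hμ₀eq⟩
    have hquot : (p - 1) / eN (P : Subgroup H) = 1 := by
      rw [← hY₀card, hY₀eq]
      simp
    have heq : eN (P : Subgroup H) = p - 1 := by
      have := Nat.div_mul_cancel hediv
      rw [hquot, one_mul] at this
      exact this
    have hεm : ε = -1 := by
      have h1 := hDΨ μ₀ hμ₀
      rw [← hμ₀eq, hDtriv μ₀ hμ₀] at h1
      have h2 : ((ε : ℤ) : ℂ) = ((-1 : ℤ) : ℂ) := by rw [← h1]; simp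
      exact_mod_cast h2
    obtain ⟨ψ₁, hψ₁⟩ : ∃ ψ₁, ψ₁ ∈ X₀ := by
      have h1 : 0 < Nat.card X₀ := by rw [hX₀card]; exact hepos
      rw [Nat.card_pos_iff] at h1
      obtain ⟨⟨ψ₁, h⟩⟩ := h1.1
      exact ⟨ψ₁, h⟩
    have hψ₁triv : trivIrr H ≠ ψ₁ := fun h => hcase (h ▸ hψ₁)
    have hΨne : ∀ (χ : IrrCharacter H), χ ≠ trivIrr H → ∀ μ, NT p μ → χ ≠ Ψ μ := by
      intro χ hχ μ hμ h
      exact hχ (h.trans (hall μ hμ))
    refine nonempty_brauerData_of P hP hC θ hθ {χ | χ ∈ B ∧ χ ≠ ψ₁} {ψ₁}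
      (fun χ => if χ = trivIrr H then 1 else - w χ) (w ψ₁)
      (fun _ => Finset.univ.erase (onePL P))
      ?_ ?_ ?_ ⟨htrivB, hψ₁triv⟩ (if_pos rfl) ?_ (hwX ψ₁ hψ₁.1 hψ₁.2) ?_ ?_ ?_ ?_ ?_ ?_ ?_ ?_ ?_
    · have h1 : {χ | χ ∈ B ∧ χ ≠ ψ₁} = B \ {ψ₁} := by
        ext χ
        simp [Set.mem_sdiff]
      rw [Nat.card_coe_set_eq, h1, Set.ncard_diff_singleton_of_mem hψ₁.1,
        ← Nat.card_coe_set_eq, hBcard, hquot]
      omega
    · rw [heq]
      simp
    · rw [Set.disjoint_singleton_right]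
      exact fun h => h.2 rfl
    · intro χ hχ
      show (if χ = trivIrr H then (1 : ℤ) else - w χ) = 1 ∨
        (if χ = trivIrr H then (1 : ℤ) else - w χ) = -1
      by_cases hχt : χ = trivIrr H
      · left; rw [if_pos hχt]
      · rw [if_neg hχt]
        rcases hwX χ hχ.1 (hΨne χ hχt) with h | h
        · right; rw [h]
        · left; rw [h]; rfl
    · intro χ hχ μ hμ
      show _ = -(((if χ = trivIrr H then (1 : ℤ) else - w χ : ℤ)) : ℂ)
      by_cases hχt : χ = trivIrr H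
      · rw [if_pos hχt, hχt, hDtriv μ.1 hμ]
        simp
      · rw [if_neg hχt, hDw μ.1 hμ χ (hΨne χ hχt μ.1 hμ)]
        push_cast
        ring
    · intro χ hχX hχY μ hμ
      have hχ1 : χ ≠ ψ₁ := fun h => hχY (Set.mem_singleton_iff.2 h)
      have hχB : χ ∉ B := fun h => hχX ⟨h, hχ1⟩
      have hne : χ ≠ Ψ μ.1 := fun h => hχB (h ▸ hΨB μ.1 hμ)
      rw [hDw μ.1 hμ χ hne, hwO χ hχB]
      simp
    · intro ψ hψ μ hμ
      rw [Set.mem_singleton_iff] at hψ
      rw [hψ, if_pos (Finset.mem_erase.2 ⟨(nt_iff_ne_one P μ).1 hμ, Finset.mem_univ _⟩)]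
      exact hDw μ.1 hμ ψ₁ (hψ₁.2 μ.1 hμ)
    · intro ψ _
      rw [Finset.card_erase_of_mem (Finset.mem_univ _), Finset.card_univ,
        ← Nat.card_eq_fintype_card, card_PL P hP, heq]
    · intro ψ _ ν hν
      exact (nt_iff_ne_one P ν).2 (Finset.mem_erase.1 hν).1
    · intro ψ hψ ψ' hψ' hne
      rw [Set.mem_singleton_iff] at hψ hψ'
      exact absurd (hψ.trans hψ'.symm) hne
    · intro χ hχ
      show (irrDeg χ : ℤ) ≡ (if χ = trivIrr H then (1 : ℤ) else - w χ) [ZMOD p]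
      by_cases hχt : χ = trivIrr H
      · rw [if_pos hχt, hχt, irrDeg_trivIrr]
        rfl
      · rw [if_neg hχt]
        exact hdegX χ hχ.1 (hΨne χ hχt)
    · intro ψ hψ
      rw [Set.mem_singleton_iff] at hψ
      rw [hψ]
      refine (hdegX ψ₁ hψ₁.1 hψ₁.2).trans ?_
      rw [heq, Int.modEq_iff_dvd]
      refine ⟨w ψ₁, ?_⟩
      have h1 : ((p - 1 : ℕ) : ℤ) = (p : ℤ) - 1 := by
        rw [Nat.cast_sub hp.one_lt.le]; simp
      rw [h1]
      ring
    · intro ψ hψ g hg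
      rw [Set.mem_singleton_iff] at hψ
      rw [hψ]
      have h1 := hrel μ₀ hμ₀ g hg
      rw [← hμ₀eq, hεm, trivIrr_apply] at h1
      rw [finsum_mem_def]
      have h2 : ∀ χ : IrrCharacter H,
          ({χ | χ ∈ B ∧ χ ≠ ψ₁} : Set (IrrCharacter H)).indicator
            (fun χ => (((fun χ => if χ = trivIrr H then (1 : ℤ) else - w χ) χ : ℤ) : ℂ) *
              (χ : H → ℂ) g) χ =
            -((w χ : ℂ) * (χ : H → ℂ) g) + (if χ = trivIrr H then (1 : ℂ) else 0) +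
              (if χ = ψ₁ then (w ψ₁ : ℂ) * (ψ₁ : H → ℂ) g else 0) := by
        intro χ
        by_cases hχ1 : χ = ψ₁
        · have hnot : χ ∉ ({χ | χ ∈ B ∧ χ ≠ ψ₁} : Set (IrrCharacter H)) := fun h => h.2 hχ1
          rw [Set.indicator_of_notMem hnot, if_pos hχ1, if_neg (fun h => hψ₁triv (h.symm.trans hχ1)),
            hχ1]
          ring
        · rw [if_neg hχ1]
          by_cases hχt : χ = trivIrr H
          · have hmem : χ ∈ ({χ | χ ∈ B ∧ χ ≠ ψ₁} : Set (IrrCharacter H)) :=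
              ⟨hχt ▸ htrivB, hχ1⟩
            rw [Set.indicator_of_mem hmem, if_pos hχt]
            simp only [if_pos hχt]
            rw [hχt, hwtriv, trivIrr_apply]
            simp
          · rw [if_neg hχt]
            by_cases hχB : χ ∈ B
            · have hmem : χ ∈ ({χ | χ ∈ B ∧ χ ≠ ψ₁} : Set (IrrCharacter H)) := ⟨hχB, hχ1⟩
              rw [Set.indicator_of_mem hmem]
              simp only [if_neg hχt]
              push_cast
              ring
            · have hnot : χ ∉ ({χ | χ ∈ B ∧ χ ≠ ψ₁} : Set (IrrCharacter H)) := fun h => hχB h.1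
              rw [Set.indicator_of_notMem hnot, hwO χ hχB]
              simp
      rw [finsum_congr h2, finsum_eq_sum_of_fintype, Finset.sum_add_distrib,
        Finset.sum_add_distrib, Finset.sum_neg_distrib, Finset.sum_ite_eq', Finset.sum_ite_eq']
      rw [finsum_eq_sum_of_fintype] at h1
      simp only [Finset.mem_univ, if_true]
      push_cast at h1
      linear_combination -h1

end Cfsg.Agent.Helper8.W2p
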