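import Mathlib
import Cfsg.Agent.Helper8.KleinOrder

/-!
# S4501 piece PV: principal block characters are constant on `t · O_{2'}(C(t))`
-/

set_option autoImplicit false

namespace Cfsg.Agent.S4501P

open Cfsg Cfsg.Agent.Helper24 Cfsg.Agent.Helper5 Cfsg.Agent.Helper5.CC Cfsg.Agent.Helper5.Loc
open Cfsg.Agent.Helper16

universe u

variable {G : Type u} [Group G] [Finite G]

/-- For a Klein four Sylow 2-subgroup `P`, an involution `t ∈ P`, an element `y` of odd order
commuting with `t`, and `χ` in the principal 2-block: `χ(t y) = χ(t)`. -/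
theorem klein_value_const {M : Ideal AlgInt} (hM : IsPModular 2 M) (P : Sylow 2 G)
    (hP : IsKleinFour (P : Subgroup G)) (t : G) (htP : t ∈ P) (ht1 : t ≠ 1)
    (y : G) (hy : Odd (orderOf y)) (hcomm : t * y = y * t)
    (χ : IrrCharacter G) (hχ : χ ∈ principalBlock M G) :
    (χ : G → ℂ) (t * y) = (χ : G → ℂ) t := by
  classical
  haveI : Fact (Nat.Prime 2) := ⟨Nat.prime_two⟩
  haveI : Fintype G := Fintype.ofFinite G
  haveI : Fintype (IrrCharacter G) := Fintype.ofFinite _
  set C : Subgroup G := Subgroup.centralizer ({t} : Set G) with hC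
  haveI : Fintype C := Fintype.ofFinite _
  haveI : Fintype (IrrCharacter C) := Fintype.ofFinite _
  have hmem : ∀ z : G, z ∈ C ↔ t * z = z * t := by
    intro z
    show z ∈ Subgroup.centralizer ({t} : Set G) ↔ _
    rw [Subgroup.mem_centralizer_iff]
    constructor
    · intro h; exact h t (Set.mem_singleton t)
    · intro h w hw
      rw [Set.mem_singleton_iff] at hw
      rw [hw]; exact h
  have htC : t ∈ C := (hmem t).mpr rfl
  have hyC : y ∈ C := (hmem y).mpr hcomm
  have hcommC : ∀ c : C, t * (c : G) = (c : G) * t := fun c => (hmem c).mp c.2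
  have ht2 : orderOf t = 2 := Cfsg.Agent.Helper8.KleinB.orderOf_eq_two_of_mem P hP htP ht1
  have hx : ∃ k : ℕ, orderOf t = 2 ^ k := ⟨1, by rw [ht2, pow_one]⟩
  obtain ⟨hidx, -, -⟩ := Cfsg.Agent.Helper8.KleinB.centralizer_npc P hP t htP ht1
  have hnc : ∃ k : ℕ, (pPrimeCore 2 C).index = 2 ^ k := ⟨2, hidx⟩
  have hB := Cfsg.Agent.S0939.result (G := C) 2 M hM hnc
  have hset : Cfsg.Agent.Helper8.SecCore.indSet M C (principalBlock M G) = principalBlock M C :=
    inducingSet_principalBlock (M := M) hM t hx C htC hcommC (le_refl _)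
  -- `y` lies in the 2'-core of `C`
  have hyK : (⟨y, hyC⟩ : C) ∈ pPrimeCore 2 C := by
    by_contra hnot
    have h2 := Cfsg.Agent.Helper8.KleinOrd.dvd_orderOf_of_not_mem hnc (⟨y, hyC⟩ : C) hnot
    have h3 : orderOf (⟨y, hyC⟩ : C) = orderOf y := by
      rw [← Subgroup.orderOf_coe]
    rw [h3] at h2
    exact (Nat.not_even_iff_odd.mpr hy) (even_iff_two_dvd.mpr h2)
  have hyodd : ¬ 2 ∣ orderOf (⟨y, hyC⟩ : C) := by
    have h3 : orderOf (⟨y, hyC⟩ : C) = orderOf y := by
      rw [← Subgroup.orderOf_coe]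
    rw [h3]
    intro h2
    exact (Nat.not_even_iff_odd.mpr hy) (even_iff_two_dvd.mpr h2)
  have hexp1 := Cfsg.Agent.Helper8.SecCore.section_expansion hM t hx C htC hcommC (le_refl _)
    (principalBlock M G) isPBlock_principalBlock χ (1 : C)
    (by rw [orderOf_one]; exact fun h => Nat.prime_two.one_lt.ne' (Nat.dvd_one.mp h))
  have hexpy := Cfsg.Agent.Helper8.SecCore.section_expansion hM t hx C htC hcommC (le_refl _)
    (principalBlock M G) isPBlock_principalBlock χ (⟨y, hyC⟩ : C) hyodd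
  simp only [Subgroup.coe_one, mul_one] at hexp1
  rw [if_pos hχ] at hexp1 hexpy
  show (χ : G → ℂ) (t * ((⟨y, hyC⟩ : C) : G)) = (χ : G → ℂ) t
  rw [hexp1, hexpy]
  refine Finset.sum_congr rfl fun ψ _ => ?_
  by_cases hψ : ψ ∈ Cfsg.Agent.Helper8.SecCore.indSet M C (principalBlock M G)
  · rw [if_pos hψ, if_pos hψ]
    have hψ' : ψ ∈ principalBlock M C := by rw [← hset]; exact hψ
    have : ψ ∈ {χ : IrrCharacter C | ∀ n ∈ pPrimeCore 2 C, (χ : C → ℂ) n = (χ : C → ℂ) 1} := by
      rw [← hB]; exact hψ'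
    rw [this _ hyK]
  · rw [if_neg hψ, if_neg hψ]

end Cfsg.Agent.S4501P
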