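import Cfsg.Agent.Helper18.S4501SIMP
import Cfsg.Agent.Helper21.S4501KA
import Cfsg.Agent.Helper21.S4501KB1
import Cfsg.Agent.Helper21.S4501KB2
import Cfsg.Agent.Helper8.S4501PV
import Cfsg.Agent.Helper21.S4501F1
import Cfsg.Agent.Helper21.S4501F2
import Cfsg.Agent.Helper3.S4501GT
import Cfsg.Agent.Helper8.KleinBlock2
import Cfsg.Agent.Helper8.KleinNoComplement
import Cfsg.Agent.S4479
import Cfsg.Agent.S4480
import Cfsg.Agent.S3277
import Cfsg.Agent.Helper24.Burnside
import Cfsg.Agent.Helper24.DefectZero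
import Cfsg.Agent.Helper24.RealChar

set_option autoImplicit false
set_option maxHeartbeats 800000
set_option linter.style.haveILetI false

namespace Cfsg.Agent.S4501P

open Cfsg Cfsg.Agent.Helper24 Cfsg.Agent.Helper16
open scoped ComplexConjugate

universe u

variable {G : Type u} [Group G] [Finite G]

theorem part1 [IsSimpleGroup G] (hna : ∃ x y : G, x * y ≠ y * x) (p q a b : ℕ) (hp : p.Prime)
    (hq : q.Prime) (hpq : p ≠ q) (hG : Nat.card G = 4 * p ^ a * q ^ b) :
    Nonempty (G ≃* alternatingGroup (Fin 5)) := by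
  classical
  haveI : Fintype G := Fintype.ofFinite G
  haveI : Fintype (IrrCharacter G) := Fintype.ofFinite _
  haveI : Fact (Nat.Prime 2) := ⟨Nat.prime_two⟩
  obtain ⟨hperf, hfaith, _, hns⟩ := simple_facts hna
  -- `p`, `q` are odd
  have hp2 : p ≠ 2 := by
    rintro rfl
    apply hns
    refine isSolvable_of_card_eq_prime_pow_mul 2 q (a + 2) b Nat.prime_two hq ?_
    rw [hG]; ring
  have hq2 : q ≠ 2 := by
    rintro rfl
    apply hns
    refine isSolvable_of_card_eq_prime_pow_mul 2 p (b + 2) a Nat.prime_two hp ?_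
    rw [hG]; ring
  set g₀ : ℕ := p ^ a * q ^ b with hg₀def
  have hG' : Nat.card G = 4 * g₀ := by rw [hG, hg₀def]; ring
  have hpodd : Odd p := hp.odd_of_ne_two hp2
  have hqodd : Odd q := hq.odd_of_ne_two hq2
  have hg₀ : Odd g₀ := (hpodd.pow).mul (hqodd.pow)
  have hg₀1 : g₀ ≠ 1 := by
    intro h1
    apply hns
    refine isSolvable_of_card_eq_prime_pow_mul 2 3 2 0 Nat.prime_two Nat.prime_three ?_
    rw [hG', h1]; norm_num
  have hnc : ¬ ∃ N : Subgroup G, N.Normal ∧ Nat.card N = g₀ := by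
    rintro ⟨N, hN, hNc⟩
    rcases hN.eq_bot_or_eq_top with h | h
    · rw [h, Subgroup.card_bot] at hNc
      exact hg₀1 hNc.symm
    · rw [h, Subgroup.card_top, hG'] at hNc
      have : 0 < g₀ := Nat.pos_of_ne_zero (fun h0 => by rw [h0] at hg₀; simp at hg₀)
      omega
  let P : Sylow 2 G := default
  obtain ⟨hK, hone⟩ := Cfsg.Agent.Helper8.KleinNC.klein_of_no_complement g₀ hg₀ hG' hnc P
  obtain ⟨M, hM⟩ := exists_isPModular 2 Nat.prime_two
  obtain ⟨ζ₂, ζ₃, ζ₄, ε, hε, h21, h31, h23, h24, h34, hB, hvals, hmod2, hmod3, hmod4, hrel⟩ :=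
    Cfsg.Agent.Helper8.KleinB.klein_principal_block hM P hK hone
  obtain ⟨J, t, hJP, htP, hJ1, ht1, hJt⟩ := klein_exists_gens P hK
  have hJ2 : orderOf J = 2 := Cfsg.Agent.Helper8.KleinB.orderOf_eq_two_of_mem P hK hJP hJ1
  have ht2 : orderOf t = 2 := Cfsg.Agent.Helper8.KleinB.orderOf_eq_two_of_mem P hK htP ht1
  obtain ⟨hv2, hv3, hv4⟩ := hvals J hJ2
  have h41 : (ζ₄ : G → ℂ) ≠ (fun _ => 1) := by
    intro h
    have := congrFun h J
    rw [hv4] at this
    norm_num at this
  -- degrees are at least two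
  have hdeg2 : ∀ χ : IrrCharacter G, (χ : G → ℂ) ≠ (fun _ => 1) → 2 ≤ irrDeg χ := by
    intro χ hχ
    have hpos := irrDeg_pos χ
    by_contra hlt
    have h1 : irrDeg χ = 1 := by omega
    apply hχ
    rw [hperf χ h1]
    rfl
  have hd2 := hdeg2 ζ₂ h21
  have hd3 := hdeg2 ζ₃ h31
  have hd4 := hdeg2 ζ₄ h41
  rw [charDegree_irr] at hmod2 hmod3 hmod4
  -- the relation at the identity
  have hrel1 := hrel 1 (by rw [orderOf_one]; exact odd_one)
  rw [irrDeg_spec, irrDeg_spec, irrDeg_spec] at hrel1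
  have hcardP : Nat.card (P : Subgroup G) = 4 := IsKleinFour.card_four
  have hPleC : (P : Subgroup G) ≤ Subgroup.centralizer ((P : Subgroup G) : Set G) := by
    intro x hx
    rw [Subgroup.mem_centralizer_iff]
    intro y hy
    exact klein_comm P hK hy hx
  have h4P : 4 ∣ Nat.card (Subgroup.centralizer ((P : Subgroup G) : Set G)) := by
    rw [← hcardP]; exact Subgroup.card_dvd_of_le hPleC
  have hcardG : Nat.card G = 4 * p ^ a * q ^ b := hG
  rcases hε with hε1 | hε1
  · -- case `ε = 1` is impossible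
    exfalso
    subst hε1
    have hS := Cfsg.Agent.S4480.result M hM g₀ hg₀ hG' hnc P J hJP hJ2 ζ₂ ζ₃ ζ₄ 1 1 (-1) hB
      ⟨h21, h31, h41, h23, h24, h34⟩ ⟨Or.inl rfl, Or.inl rfl, Or.inr rfl⟩
      ⟨by rw [hv2]; norm_num, by rw [hv3], by rw [hv4]; norm_num⟩ (by norm_num) rfl
    obtain ⟨m, _, h8⟩ := hS
    rw [charDegree_irr, hcardG] at h8
    have hQ := caseA_arith p q a b hp hq hp2 hq2 _ m (irrDeg ζ₄) h4P (by omega)
      (by exact_mod_cast hmod4) h8
    rw [hQ] at hrel1
    have h5 : ((irrDeg ζ₂ + irrDeg ζ₃ : ℕ) : ℂ) = ((2 : ℕ) : ℂ) := by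
      push_cast
      push_cast at hrel1
      linear_combination hrel1
    have h6 : irrDeg ζ₂ + irrDeg ζ₃ = 2 := by exact_mod_cast h5
    omega
  · subst hε1
    have hS := Cfsg.Agent.S4479.result M hM g₀ hg₀ hG' hnc P J hJP hJ2 ζ₂ ζ₃ ζ₄ 1 (-1) (-1) hB
      ⟨h21, h31, h41, h23, h24, h34⟩ ⟨Or.inl rfl, Or.inr rfl, Or.inr rfl⟩
      ⟨by rw [hv2]; norm_num, by rw [hv3], by rw [hv4]; norm_num⟩
    rw [charDegree_irr, charDegree_irr, charDegree_irr, hcardG] at hS
    set cJ := Nat.card (Subgroup.centralizer ({J} : Set G)) with hcJdef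
    set cP := Nat.card (Subgroup.centralizer ((P : Subgroup G) : Set G)) with hcPdef
    have hform : ((4 * p ^ a * q ^ b : ℕ) : ℚ) =
        8 * (((irrDeg ζ₂ : ℚ) * irrDeg ζ₃ * irrDeg ζ₄) /
          (((irrDeg ζ₂ : ℚ) + 1) * ((irrDeg ζ₃ : ℚ) - 1) * ((irrDeg ζ₄ : ℚ) - 1))) *
          (cJ : ℚ) ^ 3 / (cP : ℚ) ^ 2 := by
      rw [hS]
      push_cast
      ring
    have hdvdG : ∀ H : Subgroup G, Nat.card H ∣ 4 * p ^ a * q ^ b := fun H => by
      rw [← hcardG]; exact Subgroup.card_subgroup_dvd_card H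
    have hdegdvd : ∀ χ : IrrCharacter G, irrDeg χ ∣ 4 * p ^ a * q ^ b := fun χ => by
      rw [← hcardG]; exact Cfsg.Agent.Helper24.irrDeg_dvd_card χ
    have hsum : 1 + irrDeg ζ₂ = irrDeg ζ₃ + irrDeg ζ₄ := by
      have h5 : ((1 + irrDeg ζ₂ : ℕ) : ℂ) = ((irrDeg ζ₃ + irrDeg ζ₄ : ℕ) : ℂ) := by
        push_cast
        push_cast at hrel1
        linear_combination hrel1
      exact_mod_cast h5
    obtain ⟨hx2, hx3, hx4⟩ := caseB_degrees p q a b hp hq hp2 hq2 cJ cP (irrDeg ζ₂) (irrDeg ζ₃)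
      (irrDeg ζ₄) (hdvdG _) (hdvdG _) (hdegdvd _) (hdegdvd _) (hdegdvd _) (by omega) (by omega)
      hmod2 (by simpa using hmod3) hmod4 hsum hform
      (fun u v w h1 h2 h3 => dioph p q hp hq hp2 hq2 hpq u v w h1 h2 h3)
    have hζ₃B : ζ₃ ∈ principalBlock M G := by
      rw [hB]; right; right; left; rfl
    have hζ₃ne : ζ₃ ≠ trivIrr G := by
      intro h
      apply h31
      rw [h]
      rfl
    have hval1 : ∀ s ∈ (P : Subgroup G), s ≠ 1 → (ζ₃ : G → ℂ) s = -1 := by
      intro s hs hs1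
      have := (hvals s (Cfsg.Agent.Helper8.KleinB.orderOf_eq_two_of_mem P hK hs hs1)).2.1
      rw [this]; push_cast; rfl
    have hone3 : ∀ y : G, (ζ₃ : G → ℂ) y = 3 → y = 1 := by
      intro y h3
      apply hfaith ζ₃ hζ₃ne y
      rw [h3, irrDeg_spec, hx3]
      norm_num
    -- no odd-order element centralizes `P`
    have hCP : ∀ y : G, Odd (orderOf y) → (∀ s ∈ (P : Subgroup G), s * y = y * s) → y = 1 := by
      intro y hy hcomm
      apply hone3
      refine deg3_klein ζ₃ hx3 (P : Subgroup G) hcardP y hcomm hval1 ?_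
      intro s hs hs1
      rw [klein_value_const hM P hK s hs hs1 y hy (hcomm s hs) ζ₃ hζ₃B]
      exact hval1 s hs hs1
    -- no odd-order element centralizes `J`
    have hCJ : ∀ y : G, Odd (orderOf y) → J * y = y * J → y = 1 := by
      intro y hy hJy
      apply hone3
      have hinv := invert_of_fpf P hK J t hJP htP hJ1 ht1 hJt.symm hCP y hy hJy
      have hreal : conj ((ζ₃ : G → ℂ) y) = (ζ₃ : G → ℂ) y := by
        rw [← irr_inv, ← hinv]
        exact isClassFunction_irr ζ₃ y t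
      refine deg3_invol ζ₃ hx3 J y hJ2 hJy hy (hval1 J hJP hJ1) ?_ hreal
      intro k
      have hyk : Odd (orderOf (y ^ k)) := by
        obtain ⟨d, hd⟩ := orderOf_pow_dvd (x := y) k
        rw [hd] at hy
        exact (Nat.odd_mul.mp hy).1
      have hck : J * y ^ k = y ^ k * J := ((Commute.pow_right (show Commute J y from hJy)) k).eq
      rw [klein_value_const hM P hK J hJP hJ1 (y ^ k) hyk hck ζ₃ hζ₃B]
      exact hval1 J hJP hJ1
    -- the centralizer of `J` is `P`
    have hmemC : ∀ z : G, z ∈ Subgroup.centralizer ({J} : Set G) ↔ J * z = z * J := by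
      intro z
      rw [Subgroup.mem_centralizer_iff]
      constructor
      · intro h; exact h J (Set.mem_singleton J)
      · intro h w hw
        rw [Set.mem_singleton_iff] at hw
        rw [hw]; exact h
    have hPleCJ : (P : Subgroup G) ≤ Subgroup.centralizer ({J} : Set G) := by
      intro z hz
      rw [hmemC]
      exact klein_comm P hK hJP hz
    have hprime2 : ∀ {d : ℕ}, d.Prime → d ∣ cJ → d = 2 := by
      intro d hd hdvd
      by_contra hd2
      haveI : Fact d.Prime := ⟨hd⟩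
      obtain ⟨y, hy⟩ := exists_prime_orderOf_dvd_card' (G := Subgroup.centralizer ({J} : Set G))
        d hdvd
      have hyo : orderOf (y : G) = d := by rw [Subgroup.orderOf_coe]; exact hy
      have hy1 : (y : G) = 1 :=
        hCJ (y : G) (by rw [hyo]; exact hd.odd_of_ne_two hd2) ((hmemC _).mp y.2)
      rw [hy1, orderOf_one] at hyo
      exact hd.one_lt.ne' hyo.symm
    have hcJpos : cJ ≠ 0 := (Nat.card_pos (α := Subgroup.centralizer ({J} : Set G))).ne'
    have hcJpow := Nat.eq_prime_pow_of_unique_prime_dvd hcJpos hprime2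
    have hC4 : cJ = 4 := by
      have h1 : cJ ∣ 4 * g₀ := by rw [← hG']; exact Subgroup.card_subgroup_dvd_card _
      have h2 : Nat.Coprime cJ g₀ := by
        rw [hcJpow]
        exact Nat.Coprime.pow_left _ (Nat.coprime_two_left.mpr hg₀)
      have h3 : cJ ∣ 4 := h2.dvd_of_dvd_mul_right h1
      have h4 : 4 ∣ cJ := by rw [← hcardP]; exact Subgroup.card_dvd_of_le hPleCJ
      exact Nat.dvd_antisymm h3 h4
    have hCeq : (P : Subgroup G) = Subgroup.centralizer ({J} : Set G) :=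
      Subgroup.eq_of_le_of_card_ge hPleCJ (by rw [hcardP, ← hcJdef, hC4])
    have hCe : ∀ c ∈ Subgroup.centralizer ({J} : Set G), c ^ 2 = 1 := by
      intro c hc
      rw [← hCeq] at hc
      rw [pow_two]
      exact klein_mul_self P hK hc
    have hnc' : ¬ HasNormalPComplement 2 G := by
      rintro ⟨P', N, hN, hcompl⟩
      apply hnc
      refine ⟨N, hN, ?_⟩
      have h1 := hcompl.card_mul_card
      have h2 : Nat.card (P' : Subgroup G) = 4 := by
        rw [Sylow.card_eq_multiplicity, ← hcardP, Sylow.card_eq_multiplicity]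
      rw [h2, hG'] at h1
      omega
    have hne : ∀ E : Subgroup G, E.Normal → IsElementaryAbelian 2 E →
        Nat.card E ≠ 2 ∧ Nat.card E ≠ 4 := by
      intro E hE _
      rcases hE.eq_bot_or_eq_top with h | h
      · rw [h, Subgroup.card_bot]; omega
      · rw [h, Subgroup.card_top, hG']
        obtain ⟨k, hk⟩ := hg₀
        omega
    exact Cfsg.Agent.S3277.result J hJ2 (by rw [← hcJdef]; exact hC4) hCe hnc' hne

end Cfsg.Agent.S4501P
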