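import Mathlib
import Cfsg.Agent.Helper15.O7920n

set_option autoImplicit false
set_option linter.style.haveILetI false

namespace Cfsg.Agent.Helper8.S4501CNTb

open Cfsg Cfsg.Agent.Helper24
open scoped ComplexConjugate

universe u

variable {G : Type u} [Group G] [Finite G]

theorem count_formula (σ : G) (f : ℕ) (χf χg : IrrCharacter G) (hf2 : 2 ≤ f)
    (hdf : irrDeg χf = f) (hdg : irrDeg χg = f + 1) (hfg : χf ≠ χg)
    (hf1 : χf ≠ trivIrr G) (hg1 : χg ≠ trivIrr G)
    (hvf : (χf : G → ℂ) σ = 1) (hvg : (χg : G → ℂ) σ = -1)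
    (hoth : ∀ χ : IrrCharacter G, χ ≠ trivIrr G → χ ≠ χf → χ ≠ χg → (χ : G → ℂ) σ = 0)
    (z : G) (a : ℤ) (ha : (χf : G → ℂ) z = a) (hg : (χg : G → ℂ) z = a + 1) :
    (Nat.card {s : G // IsConj z s ∧ IsConj z (s⁻¹ * σ)} : ℤ) *
        (Nat.card (Subgroup.centralizer ({z} : Set G)) : ℤ) ^ 2 * f * (f + 1) =
      (Nat.card G : ℤ) * ((f : ℤ) - a) ^ 2 := by
  classical
  haveI : Fintype G := Fintype.ofFinite G
  haveI : Fintype (IrrCharacter G) := Fintype.ofFinite _
  have key := Cfsg.Agent.Helper15.O7920.card_factorizations_gen z z σ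
  set N := Nat.card {s : G // IsConj z s ∧ IsConj z (s⁻¹ * σ)} with hN
  set c := Nat.card (Subgroup.centralizer ({z} : Set G)) with hc
  set idx := (Subgroup.centralizer ({z} : Set G)).index with hidx
  have hidxc : (idx : ℂ) * (c : ℂ) = (Nat.card G : ℂ) := by
    have := Subgroup.index_mul_card (Subgroup.centralizer ({z} : Set G))
    rw [← hidx, ← hc] at this
    exact_mod_cast this
  have hGne : (Nat.card G : ℂ) ≠ 0 := by
    exact_mod_cast (Nat.card_pos (α := G)).ne'
  have hfne : (f : ℂ) ≠ 0 := by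
    have : f ≠ 0 := by omega
    exact_mod_cast this
  have hf1ne : (f : ℂ) + 1 ≠ 0 := by
    have : f + 1 ≠ 0 := by omega
    exact_mod_cast this
  have hsum : ∑ ψ : IrrCharacter G, (ψ : G → ℂ) z * (ψ : G → ℂ) z *
      (starRingEnd ℂ) ((ψ : G → ℂ) σ) / (ψ : G → ℂ) 1 =
      1 + (a : ℂ) * a / f - ((a : ℂ) + 1) * (a + 1) / (f + 1) := by
    have hterm : ∀ ψ : IrrCharacter G, (ψ : G → ℂ) z * (ψ : G → ℂ) z *
        (starRingEnd ℂ) ((ψ : G → ℂ) σ) / (ψ : G → ℂ) 1 =
        (if ψ = trivIrr G then (1 : ℂ) else 0) + (if ψ = χf then (a : ℂ) * a / f else 0) +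
          (if ψ = χg then -(((a : ℂ) + 1) * (a + 1) / (f + 1)) else 0) := by
      intro ψ
      by_cases h1 : ψ = trivIrr G
      · rw [if_pos h1, if_neg (by rw [h1]; exact Ne.symm hf1), if_neg (by rw [h1]; exact Ne.symm hg1),
          h1, trivIrr_apply, trivIrr_apply, trivIrr_apply]
        simp
      · by_cases h2 : ψ = χf
        · rw [if_neg h1, if_pos h2, if_neg (by rw [h2]; exact hfg), h2, ha, hvf, irrDeg_spec, hdf]
          simp
        · by_cases h3 : ψ = χg
          · rw [if_neg h1, if_neg h2, if_pos h3, h3, hg, hvg, irrDeg_spec, hdg]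
            push_cast
            simp
            ring
          · rw [if_neg h1, if_neg h2, if_neg h3, hoth ψ h1 h2 h3]
            simp
    rw [Finset.sum_congr rfl fun ψ _ => hterm ψ, Finset.sum_add_distrib, Finset.sum_add_distrib,
      Finset.sum_ite_eq' Finset.univ (trivIrr G), Finset.sum_ite_eq' Finset.univ χf,
      Finset.sum_ite_eq' Finset.univ χg]
    simp
    ring
  rw [hsum] at key
  have hfinal : (N : ℂ) * (c : ℂ) ^ 2 * f * (f + 1) = (Nat.card G : ℂ) * ((f : ℂ) - a) ^ 2 := by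
    have h1 : (N : ℂ) * (Nat.card G : ℂ) * ((c : ℂ) ^ 2 * f * (f + 1)) =
        (Nat.card G : ℂ) * ((Nat.card G : ℂ) * ((f : ℂ) - a) ^ 2) := by
      rw [key, ← hidxc]
      field_simp
      ring
    have h2 : (Nat.card G : ℂ) * ((N : ℂ) * (c : ℂ) ^ 2 * f * (f + 1)) =
        (Nat.card G : ℂ) * ((Nat.card G : ℂ) * ((f : ℂ) - a) ^ 2) := by
      rw [← h1]; ring
    exact mul_left_cancel₀ hGne h2
  exact_mod_cast hfinal

end Cfsg.Agent.Helper8.S4501CNTb
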