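import Cfsg.Agent.Helper18.S4501SIMP
import Cfsg.Agent.Helper20.S4501SC
import Cfsg.Agent.Helper3.S4501EN
import Cfsg.Agent.Lead.S4501BD3
import Cfsg.Agent.Helper20.S4501ZZ
import Cfsg.Agent.Lead.S4501IV
import Cfsg.Agent.Helper17.S4501INV
import Cfsg.Agent.Helper8.S4501CNTb
import Cfsg.Agent.Helper17.S4501NO6
import Cfsg.Agent.Helper17.S4501CZ
import Cfsg.Agent.Helper18.S4501AR7
import Cfsg.Agent.Helper18.S4501AR4
import Cfsg.Agent.S4500
import Cfsg.Agent.S0494
import Cfsg.Agent.S0495
import Cfsg.Agent.Helper24.Burnside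
import Cfsg.Agent.Helper24.DefectZero

set_option autoImplicit false
set_option maxHeartbeats 800000
set_option linter.style.haveILetI false

namespace Cfsg.Agent.S4501P

open Cfsg Cfsg.Agent.Helper24
open scoped ComplexConjugate

universe u

variable {G : Type u} [Group G] [Finite G]

theorem part2 [IsSimpleGroup G] (hna : ∃ x y : G, x * y ≠ y * x) (p q a b : ℕ) (hp : p.Prime)
    (hq : q.Prime) (hpq : p ≠ q) (ha : a ≤ 2) (hG : Nat.card G = 3 * p ^ a * q ^ b)
    (hpart1 : ∀ k : ℕ, Nat.card G = 4 * 3 ^ 1 * 5 ^ k →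
      Nonempty (G ≃* alternatingGroup (Fin 5))) :
    Nonempty (G ≃* alternatingGroup (Fin 5)) ∨
      Nonempty (G ≃* Matrix.ProjectiveSpecialLinearGroup (Fin 2) (ZMod 7)) := by
  classical
  haveI : Fintype G := Fintype.ofFinite G
  haveI : Fintype (IrrCharacter G) := Fintype.ofFinite _
  haveI : Fact (Nat.Prime 3) := ⟨Nat.prime_three⟩
  obtain ⟨hperf, hfaith, hcent, hns⟩ := simple_facts hna
  -- `p`, `q` are different from `3`
  have hp3 : p ≠ 3 := by
    rintro rfl
    apply hns
    refine isSolvable_of_card_eq_prime_pow_mul 3 q (a + 1) b Nat.prime_three hq ?_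
    rw [hG]; ring
  have hq3 : q ≠ 3 := by
    rintro rfl
    apply hns
    refine isSolvable_of_card_eq_prime_pow_mul 3 p (b + 1) a Nat.prime_three hp ?_
    rw [hG]; ring
  have h3G : 3 ∣ Nat.card G := ⟨p ^ a * q ^ b, by rw [hG]; ring⟩
  have h9G : ¬ 9 ∣ Nat.card G := by
    rw [hG, mul_assoc]
    intro h
    have h1 : 3 ∣ p ^ a * q ^ b := by
      have : 3 * 3 ∣ 3 * (p ^ a * q ^ b) := h
      exact (Nat.mul_dvd_mul_iff_left (by norm_num)).mp this
    rcases (Nat.Prime.dvd_mul Nat.prime_three).mp h1 with h2 | h2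
    · exact hp3 ((Nat.prime_dvd_prime_iff_eq Nat.prime_three hp).mp
        (Nat.prime_three.dvd_of_dvd_pow h2)).symm
    · exact hq3 ((Nat.prime_dvd_prime_iff_eq Nat.prime_three hq).mp
        (Nat.prime_three.dvd_of_dvd_pow h2)).symm
  -- the character of degree 3
  obtain ⟨⟨ζ, hζ1, k, hk⟩, -⟩ := Cfsg.Agent.S4500.result (G := G) p 3 q a 1 b hp Nat.prime_three hq
    hp3 hpq (Ne.symm hq3) ha (by rw [hG]; ring)
  rw [charDegree_irr] at hk
  have hζne : ζ ≠ trivIrr G := by
    intro h
    apply hζ1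
    rw [h]
    rfl
  have hdeg : irrDeg ζ = 3 := by
    have hk0 : k ≠ 0 := by
      rintro rfl
      rw [pow_zero] at hk
      exact hζne (hperf ζ hk)
    have hk2 : k < 2 := by
      by_contra hge
      push Not at hge
      apply h9G
      have h1 : 3 ^ 2 ∣ 3 ^ k := pow_dvd_pow 3 hge
      rw [← hk, show (3 : ℕ) ^ 2 = 9 from rfl] at h1
      exact dvd_trans h1 (Cfsg.Agent.Helper24.irrDeg_dvd_card ζ)
    have : k = 1 := by omega
    rw [hk, this, pow_one]
  have hvan : ∀ g : G, 3 ∣ orderOf g → (ζ : G → ℂ) g = 0 := by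
    intro g hg
    refine irr_eq_zero_of_defect_zero ζ 3 1 3 Nat.prime_three (by rw [pow_one]; exact h3G)
      (by rw [show (3 : ℕ) ^ (1 + 1) = 9 from rfl]; exact h9G) (by rw [irrDeg_spec, hdeg])
      (by norm_num) g hg
  -- the Sylow 3-subgroup
  let P : Sylow 3 G := default
  have hfac : (Nat.card G).factorization 3 = 1 := by
    have hne : Nat.card G ≠ 0 := Nat.card_pos.ne'
    have h1 : 1 ≤ (Nat.card G).factorization 3 :=
      (Nat.prime_three.pow_dvd_iff_le_factorization hne).mp (by rw [pow_one]; exact h3G)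
    have h2 : ¬ 2 ≤ (Nat.card G).factorization 3 := fun h =>
      h9G (by
        have := (Nat.prime_three.pow_dvd_iff_le_factorization hne).mpr h
        rw [show (3 : ℕ) ^ 2 = 9 from rfl] at this
        exact this)
    omega
  have hP : Nat.card P = 3 := by
    rw [Sylow.card_eq_multiplicity, hfac, pow_one]
  have hC := self_centralizing_of_deg3 hna ζ hdeg hvan P hP
  have heN := eN_eq_two hna P hP hC
  obtain ⟨f, χf, χg, hf2, hf3, hdf, hdg, hPv, hoth, hrel⟩ := brauer_three P hP hC heN hperf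
  -- a generator of `P`
  obtain ⟨σ, hσP, hσ1⟩ : ∃ σ : G, σ ∈ (P : Subgroup G) ∧ σ ≠ 1 := by
    by_contra hcon
    push Not at hcon
    have : (P : Subgroup G) = ⊥ := (Subgroup.eq_bot_iff_forall _).mpr hcon
    rw [this, Subgroup.card_bot] at hP
    norm_num at hP
  have hσ3 : orderOf σ = 3 := by
    have h1 : orderOf σ ∣ 3 := by
      rw [← hP]
      have := orderOf_dvd_natCard (⟨σ, hσP⟩ : (P : Subgroup G))
      rwa [Subgroup.orderOf_mk] at this
    rcases (Nat.dvd_prime Nat.prime_three).mp h1 with h | h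
    · exact absurd (orderOf_eq_one_iff.mp h) hσ1
    · exact h
  have hσ0 : (ζ : G → ℂ) σ = 0 := hvan σ (by rw [hσ3])
  obtain ⟨hvf, hvg⟩ := hPv σ hσP hσ1
  have hothσ : ∀ χ : IrrCharacter G, χ ≠ trivIrr G → χ ≠ χf → χ ≠ χg → (χ : G → ℂ) σ = 0 :=
    fun χ h1 h2 h3 => hoth χ h1 h2 h3 σ hσP hσ1
  have hfg : χf ≠ χg := by
    intro h
    rw [h] at hdf
    omega
  have hf1 : χf ≠ trivIrr G := by
    intro h
    have h1 := irrDeg_spec χf
    rw [h, trivIrr_apply, ← h, hdf] at h1
    have : f = 1 := by exact_mod_cast h1.symm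
    omega
  have hg1 : χg ≠ trivIrr G := by
    intro h
    rw [h, trivIrr_apply] at hvg
    norm_num at hvg
  -- `G` has even order
  have h2G : 2 ∣ Nat.card G := by
    have h1 : Cfsg.Agent.Helper1.W2p.eN (P : Subgroup G) ∣
        Nat.card (Subgroup.normalizer ((P : Subgroup G) : Set G)) := by
      unfold Cfsg.Agent.Helper1.W2p.eN Subgroup.relIndex
      exact Subgroup.index_dvd_card _
    rw [heN] at h1
    exact dvd_trans h1 (Subgroup.card_subgroup_dvd_card _)
  obtain ⟨z, hz2, hzS⟩ := exists_central_involution h2G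
  have hz3 : ¬ 3 ∣ orderOf z := by rw [hz2]; norm_num
  set c := Nat.card (Subgroup.centralizer ({z} : Set G)) with hcdef
  have hcN : c ∣ 3 * p ^ a * q ^ b := by rw [← hG]; exact Subgroup.card_subgroup_dvd_card _
  have hcpos : 0 < c := Nat.card_pos
  have hGpos : 0 < Nat.card G := Nat.card_pos
  rw [hG] at hzS
  have hζz : (ζ : G → ℂ) z * conj ((ζ : G → ℂ) z) = 1 := by
    rcases deg3_involution_value ζ hdeg (hfaith ζ hζne) (hcent ζ hζne) z hz2 with h | h
    · rw [h]; simp
    · rw [h]; simp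
  have hINV := invol_count P hP hC heN σ hσP hσ1 z hz2
  have hrelz := hrel z hz3
  rcases zeta_sq ζ hdeg σ hσ0 hperf f χf χg hf2 hf3 hdf hdg hvf hvg hothσ with
    ⟨hf7, hprod⟩ | ⟨hf4, Θ, hΘdeg, hprod⟩
  · -- `f = 7`
    right
    have hgz : (χg : G → ℂ) z = 0 := by
      have := hprod z
      rw [hζz] at this
      linear_combination -this
    have hfz : (χf : G → ℂ) z = ((-1 : ℤ) : ℂ) := by
      push_cast
      linear_combination hrelz + hgz
    have hCNT := Cfsg.Agent.Helper8.S4501CNTb.count_formula σ f χf χg hf2 hdf hdg hfg hf1 hg1 hvf hvg hothσ z (-1) hfz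
      (by rw [hgz]; push_cast; ring)
    rw [hf7] at hCNT
    have h21 : 21 * c ^ 2 = 8 * (3 * p ^ a * q ^ b) := by
      rw [← hG]
      rcases hINV with h0 | h3
      · rw [h0] at hCNT
        push_cast at hCNT
        have : (Nat.card G : ℤ) = 0 := by nlinarith
        exact absurd (by exact_mod_cast this) hGpos.ne'
      · rw [h3] at hCNT
        have : (21 : ℤ) * (c : ℤ) ^ 2 = 8 * (Nat.card G : ℤ) := by
          push_cast at hCNT
          linarith
        exact_mod_cast this
    have h168 := arith7 p q a b hp hq hpq ha hp3 hq3 c h21 hcN hzS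
    rw [← hG] at h168
    haveI : Fact (Nat.Prime 7) := ⟨by norm_num⟩
    exact Cfsg.Agent.S0495.result h168 (F := ZMod 7) (ZMod.card 7)
  · -- `f = 4`
    left
    have hΘne : Θ ≠ trivIrr G := by
      intro h
      have h1 := irrDeg_spec Θ
      rw [h, trivIrr_apply, ← h, hΘdeg] at h1
      norm_num at h1
    have hgz : (χg : G → ℂ) z = - (Θ : G → ℂ) z := by
      have := hprod z
      rw [hζz] at this
      linear_combination -this
    rcases deg3_involution_value Θ hΘdeg (hfaith Θ hΘne) (hcent Θ hΘne) z hz2 with hΘz | hΘz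
    · -- `a = -2`: impossible
      exfalso
      rw [hΘz] at hgz
      have hfz : (χf : G → ℂ) z = ((-2 : ℤ) : ℂ) := by
        push_cast
        linear_combination hrelz + hgz
      have hCNT := Cfsg.Agent.Helper8.S4501CNTb.count_formula σ f χf χg hf2 hdf hdg hfg hf1 hg1 hvf hvg hothσ z (-2) hfz
        (by rw [hgz]; push_cast; ring)
      rw [hf4] at hCNT
      rcases hINV with h0 | h3
      · rw [h0] at hCNT
        push_cast at hCNT
        have : (Nat.card G : ℤ) = 0 := by nlinarith
        exact absurd (by exact_mod_cast this) hGpos.ne'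
      · rw [h3] at hCNT
        have h5 : (5 : ℤ) * (c : ℤ) ^ 2 = 3 * (Nat.card G : ℤ) := by
          push_cast at hCNT
          linarith
        have h5' : 5 * c ^ 2 = 3 * Nat.card G := by exact_mod_cast h5
        have h3c : 3 ∣ c := by
          have h1 : 3 ∣ 5 * c ^ 2 := ⟨Nat.card G, h5'⟩
          have h2 : 3 ∣ c ^ 2 :=
            (Nat.Coprime.dvd_mul_left (by norm_num : Nat.Coprime 3 5)).mp h1
          exact Nat.prime_three.dvd_of_dvd_pow h2
        exact no_order_six P hP hC z hz2 h3c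
    · -- `a = 0`
      rw [hΘz] at hgz
      have hfz : (χf : G → ℂ) z = ((0 : ℤ) : ℂ) := by
        push_cast
        linear_combination hrelz + hgz
      have hCNT := Cfsg.Agent.Helper8.S4501CNTb.count_formula σ f χf χg hf2 hdf hdg hfg hf1 hg1 hvf hvg hothσ z 0 hfz
        (by rw [hgz]; push_cast; ring)
      rw [hf4] at hCNT
      have h15 : 15 * c ^ 2 = 4 * (3 * p ^ a * q ^ b) := by
        rw [← hG]
        rcases hINV with h0 | h3
        · rw [h0] at hCNT
          push_cast at hCNT
          have : (Nat.card G : ℤ) = 0 := by nlinarith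
          exact absurd (by exact_mod_cast this) hGpos.ne'
        · rw [h3] at hCNT
          have : (15 : ℤ) * (c : ℤ) ^ 2 = 4 * (Nat.card G : ℤ) := by
            push_cast at hCNT
            linarith
          exact_mod_cast this
      rcases arith4 p q a b hp hq hpq ha hp3 hq3 c h15 hcN hzS with h60 | ⟨k, hk⟩
      · rw [← hG] at h60
        exact Cfsg.Agent.S0494.result h60
      · rw [← hG] at hk
        exact hpart1 k hk

end Cfsg.Agent.S4501P
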