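import Mathlib
import Cfsg.Agent.Helper5.S0999Defs
import Cfsg.Agent.Helper8.W2pT1
import Cfsg.Agent.Helper3.W2pBRa
import Cfsg.Agent.Helper24.RealGlauberman
import Cfsg.Agent.Helper24.RealChar
import Cfsg.Agent.Helper24.Span

set_option autoImplicit false

namespace Cfsg.Agent.S0997R

open Cfsg Cfsg.Agent.Helper24 Cfsg.Agent.S4503P

universe u

namespace REAL

open Cfsg.Agent.Helper1.W2p

/-- an irreducible character of degree `(p+1)/2`, `p ≥ 5`, is exceptional. -/
theorem mem_Y_of_half {G : Type u} [Group G] [Finite G] (p : ℕ) [Fact p.Prime] (hp5 : 5 ≤ p)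
    (P : Subgroup G) (E : BrauerData p P) (χ : IrrCharacter G) (hdeg : 2 * irrDeg χ = p + 1) :
    χ ∈ E.Y := by
  by_contra hY
  by_cases hX : χ ∈ E.X
  · have h1 := (E.deg_X χ hX).dvd
    obtain ⟨k, hk⟩ := h1
    have hd : (2 : ℤ) * (irrDeg χ : ℤ) = (p : ℤ) + 1 := by exact_mod_cast hdeg
    have h2 : (p : ℤ) ∣ 2 * E.δ χ - 1 := ⟨2 * k + 1, by linarith⟩
    rcases E.δ_pm χ hX with h | h
    · rw [h] at h2
      norm_num at h2
      have h3 : p ∣ 1 := by exact_mod_cast h2
      have := Nat.le_of_dvd one_pos h3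
      omega
    · rw [h] at h2
      norm_num at h2
      have h4 : p ∣ 3 := by exact_mod_cast h2
      have := Nat.le_of_dvd (by norm_num) h4
      omega
  · have h1 := E.deg_other χ hX hY
    have h2 := Nat.le_of_dvd (irrDeg_pos χ) h1
    omega

theorem irrDeg_conjIrr {G : Type u} [Group G] [Finite G] (χ : IrrCharacter G) :
    irrDeg (conjIrr χ) = irrDeg χ := by
  have h1 := irrDeg_spec (conjIrr χ)
  rw [conjIrr_apply, irrDeg_spec χ, Complex.conj_natCast] at h1
  exact_mod_cast h1.symm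

end REAL

/-- R-REAL -/
theorem real_of_half {G : Type u} [Group G] [Finite G] (p : ℕ) [Fact p.Prime] (hp5 : 5 ≤ p)
    (P : Sylow p G) (hP : Nat.card P = p)
    (hC : Subgroup.centralizer ((P : Subgroup G) : Set G) = (P : Subgroup G))
    (hf : 2 * fN (P : Subgroup G) = p - 1)
    (hinv : ∀ y ∈ (P : Subgroup G), ∃ g : G, g * y * g⁻¹ = y⁻¹)
    (ψ : IrrCharacter G) (hdeg : 2 * irrDeg ψ = p + 1) :
    ∀ g : G, ((ψ : G → ℂ) g).im = 0 := by
  classical
  have _ := hf
  obtain ⟨E⟩ := Helper8.W2p.exists_brauerData p (by omega) P hP hC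
  have hdeg' : 2 * irrDeg (conjIrr ψ) = p + 1 := by rw [REAL.irrDeg_conjIrr]; exact hdeg
  have hY := REAL.mem_Y_of_half p hp5 _ E ψ hdeg
  have hY' := REAL.mem_Y_of_half p hp5 _ E (conjIrr ψ) hdeg'
  have key : ∀ g : G, (conjIrr ψ : G → ℂ) g = (ψ : G → ℂ) g := by
    intro g
    by_cases hg : p ∣ orderOf g
    · obtain ⟨h, y, hy, -, rfl⟩ := Helper3.W2p.exists_conj_mem_of_singular p P hP hC g hg
      obtain ⟨k, hk⟩ := hinv y hy
      rw [conjIrr_apply, isClassFunction_irr ψ y h, ← irr_inv, ← hk, isClassFunction_irr ψ y k]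
    · have h1 := E.rel ψ hY g hg
      have h2 := E.rel (conjIrr ψ) hY' g hg
      rw [h1] at h2
      have hε : (E.ε : ℂ) ≠ 0 := by
        rcases E.ε_pm with h | h <;> rw [h] <;> norm_num
      exact (mul_left_cancel₀ hε h2).symm
  intro g
  have := key g
  rw [conjIrr_apply] at this
  exact Complex.conj_eq_iff_im.mp this

end Cfsg.Agent.S0997R
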