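import Mathlib
import Cfsg.Prelude.Def_RootSubgroups
import Cfsg.Agent.Helper2.RootSub
import Cfsg.Agent.Helper13.S5072Defs

set_option autoImplicit false
set_option linter.unusedSectionVars false
set_option linter.unusedVariables false

/-! S5072 piece GEN: a family `S` of subgroups that pairwise commute, span a copy of `SL₂(L)` or are in
the commutator case, viewed inside the subgroup it generates, is a set of `L`-root subgroups. -/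

namespace Cfsg.Agent.S5072P

open Cfsg Cfsg.Agent.Helper25 Cfsg.Agent.Helper2.RootGeneric Cfsg.Agent.Helper2.RootSub

open scoped commutatorElement

namespace GEN

variable {G : Type*} [Group G]

theorem commutator_le_of_le {G₀ A B : Subgroup G} (hA : A ≤ G₀) (hB : B ≤ G₀) : ⁅A, B⁆ ≤ G₀ := by
  rw [Subgroup.commutator_le]
  intro a ha b hb
  rw [commutatorElement_def]
  exact G₀.mul_mem (G₀.mul_mem (G₀.mul_mem (hA ha) (hB hb)) (G₀.inv_mem (hA ha))) (G₀.inv_mem (hB hb))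

/-- the commutator of two subgroups of `G₀`, computed in `G₀` -/
theorem commutator_subgroupOf {G₀ A B : Subgroup G} (hA : A ≤ G₀) (hB : B ≤ G₀) :
    ⁅A.subgroupOf G₀, B.subgroupOf G₀⁆ = (⁅A, B⁆).subgroupOf G₀ := by
  apply Subgroup.map_injective G₀.subtype_injective
  rw [Subgroup.map_commutator, Subgroup.map_subgroupOf_eq_of_le hA,
    Subgroup.map_subgroupOf_eq_of_le hB,
    Subgroup.map_subgroupOf_eq_of_le (commutator_le_of_le hA hB)]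

theorem image_comm_left {G₀ B : Subgroup G} (hB : B ≤ G₀) (a : ↥G₀) :
    (G₀.subtype : ↥G₀ → G) '' ((fun b : ↥G₀ => a * b * a⁻¹ * b⁻¹) '' (B.subgroupOf G₀ : Set ↥G₀)) =
      (fun b : G => (a : G) * b * (a : G)⁻¹ * b⁻¹) '' (B : Set G) := by
  ext y
  constructor
  · rintro ⟨_, ⟨b, hb, rfl⟩, rfl⟩
    exact ⟨b.1, Subgroup.mem_subgroupOf.mp hb, rfl⟩
  · rintro ⟨b, hb, rfl⟩
    exact ⟨_, ⟨⟨b, hB hb⟩, Subgroup.mem_subgroupOf.mpr hb, rfl⟩, rfl⟩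

theorem image_comm_right {G₀ A : Subgroup G} (hA : A ≤ G₀) (b : ↥G₀) :
    (G₀.subtype : ↥G₀ → G) '' ((fun a : ↥G₀ => a * b * a⁻¹ * b⁻¹) '' (A.subgroupOf G₀ : Set ↥G₀)) =
      (fun a : G => a * (b : G) * a⁻¹ * (b : G)⁻¹) '' (A : Set G) := by
  ext y
  constructor
  · rintro ⟨_, ⟨a, ha, rfl⟩, rfl⟩
    exact ⟨a.1, Subgroup.mem_subgroupOf.mp ha, rfl⟩
  · rintro ⟨a, ha, rfl⟩
    exact ⟨_, ⟨⟨a, hA ha⟩, Subgroup.mem_subgroupOf.mpr ha, rfl⟩, rfl⟩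

/-- transfer of the commutator case to the generated subgroup -/
theorem commCase_sub {S : Set (Subgroup G)} {A B : Subgroup G} (hA : A ∈ S) (hB : B ∈ S)
    (h : RootCommutatorCase S A B) :
    RootCommutatorCase (Cfsg.Agent.Helper2.RootSub.Sub S) (A.subgroupOf (⨆ B ∈ S, B)) (B.subgroupOf (⨆ B ∈ S, B)) := by
  obtain ⟨h1, h2, h3, h4⟩ := h
  have hAle : A ≤ ⨆ B ∈ S, B := le_gen hA
  have hBle : B ≤ ⨆ B ∈ S, B := le_gen hB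
  have hcomm := commutator_subgroupOf hAle hBle
  have hCle : ⁅A, B⁆ ≤ ⨆ B ∈ S, B := commutator_le_of_le hAle hBle
  refine ⟨?_, ?_, ?_, ?_⟩
  · rw [hcomm]
    exact ⟨_, h1, rfl⟩
  · intro c hc x hx
    rw [hcomm] at hc
    have hx' : (x : G) ∈ A ⊔ B := by
      have h5 := Subgroup.mem_map_of_mem (⨆ B ∈ S, B).subtype hx
      rw [Subgroup.map_sup, Subgroup.map_subgroupOf_eq_of_le hAle,
        Subgroup.map_subgroupOf_eq_of_le hBle] at h5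
      exact h5
    apply Subtype.ext
    exact h2 c.1 (Subgroup.mem_subgroupOf.mp hc) x.1 hx'
  · intro a ha ha1
    apply Subgroup.map_injective (⨆ B ∈ S, B).subtype_injective
    rw [MonoidHom.map_closure, hcomm, Subgroup.map_subgroupOf_eq_of_le hCle, image_comm_left hBle]
    exact h3 a.1 (Subgroup.mem_subgroupOf.mp ha) (fun h5 => ha1 (Subtype.ext h5))
  · intro b hb hb1
    apply Subgroup.map_injective (⨆ B ∈ S, B).subtype_injective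
    rw [MonoidHom.map_closure, hcomm, Subgroup.map_subgroupOf_eq_of_le hCle, image_comm_right hAle]
    exact h4 b.1 (Subgroup.mem_subgroupOf.mp hb) (fun h5 => hb1 (Subtype.ext h5))

/-- in the commutator case with abelian `B` and non-trivial commutator the pair is not a rank one pair -/
theorem not_rankOne_of_commCase {S : Set (Subgroup G)} {A B : Subgroup G}
    (hBc : IsMulCommutative B) (hne : ⁅A, B⁆ ≠ ⊥) (h : RootCommutatorCase S A B) :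
    ¬ IsRankOnePair A B := by
  intro hr
  obtain ⟨-, h2, -, -⟩ := h
  obtain ⟨a, ha, ha1⟩ := rankOne_exists_ne_one hr
  obtain ⟨b, hb, -, hcj⟩ := hr.cond_left a ha ha1
  apply hne
  apply comm_eq_bot
  intro a' ha' b'' hb''
  -- `b⁻¹ a' b ∈ b⁻¹ A b = a⁻¹ B a`
  have hmem : b⁻¹ * a' * b ∈ conjBy B a⁻¹ := by
    rw [← hcj]
    refine ⟨a', ha', ?_⟩
    simp
  obtain ⟨b', hb', hb'eq⟩ := hmem
  simp only [MulEquiv.coe_toMonoidHom, MulAut.conj_apply, inv_inv] at hb'eq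
  -- `z = a'⁻¹ b⁻¹ a' b`, `z' = b'⁻¹ a⁻¹ b' a`
  have hz : ⁅a'⁻¹, b⁻¹⁆ ∈ ⁅A, B⁆ :=
    Subgroup.commutator_mem_commutator (A.inv_mem ha') (B.inv_mem hb)
  have hz' : ⁅b'⁻¹, a⁻¹⁆ ∈ ⁅A, B⁆ := by
    rw [Subgroup.commutator_comm]
    exact Subgroup.commutator_mem_commutator (B.inv_mem hb') (A.inv_mem ha)
  have hb''s : b'' ∈ A ⊔ B := Subgroup.mem_sup_right hb''
  have c1 := h2 _ hz b'' hb''s
  have c2 := h2 _ hz' b'' hb''s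
  have c3 : b' * b'' = b'' * b' := by
    have := hBc.is_comm.comm ⟨b', hb'⟩ ⟨b'', hb''⟩
    exact congrArg Subtype.val this
  -- `a' = b' * z' * z⁻¹`
  have hexp : a' = b' * ⁅b'⁻¹, a⁻¹⁆ * (⁅a'⁻¹, b⁻¹⁆)⁻¹ := by
    have e1 : b⁻¹ * a' * b = a' * ⁅a'⁻¹, b⁻¹⁆ := by
      rw [commutatorElement_def]; group
    have e2 : a⁻¹ * b' * a = b' * ⁅b'⁻¹, a⁻¹⁆ := by
      rw [commutatorElement_def]; group
    have e3 : a' * ⁅a'⁻¹, b⁻¹⁆ = b' * ⁅b'⁻¹, a⁻¹⁆ := by rw [← e1, ← e2, hb'eq]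
    rw [← e3]; group
  have c1' : (⁅a'⁻¹, b⁻¹⁆)⁻¹ * b'' = b'' * (⁅a'⁻¹, b⁻¹⁆)⁻¹ := by
    calc (⁅a'⁻¹, b⁻¹⁆)⁻¹ * b'' = (⁅a'⁻¹, b⁻¹⁆)⁻¹ * (b'' * ⁅a'⁻¹, b⁻¹⁆) * (⁅a'⁻¹, b⁻¹⁆)⁻¹ := by group
      _ = (⁅a'⁻¹, b⁻¹⁆)⁻¹ * (⁅a'⁻¹, b⁻¹⁆ * b'') * (⁅a'⁻¹, b⁻¹⁆)⁻¹ := by rw [c1]
      _ = b'' * (⁅a'⁻¹, b⁻¹⁆)⁻¹ := by group
  rw [hexp]
  calc b' * ⁅b'⁻¹, a⁻¹⁆ * (⁅a'⁻¹, b⁻¹⁆)⁻¹ * b''
      = b' * ⁅b'⁻¹, a⁻¹⁆ * ((⁅a'⁻¹, b⁻¹⁆)⁻¹ * b'') := by group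
    _ = b' * ⁅b'⁻¹, a⁻¹⁆ * (b'' * (⁅a'⁻¹, b⁻¹⁆)⁻¹) := by rw [c1']
    _ = b' * (⁅b'⁻¹, a⁻¹⁆ * b'') * (⁅a'⁻¹, b⁻¹⁆)⁻¹ := by group
    _ = b' * (b'' * ⁅b'⁻¹, a⁻¹⁆) * (⁅a'⁻¹, b⁻¹⁆)⁻¹ := by rw [c2]
    _ = (b' * b'') * ⁅b'⁻¹, a⁻¹⁆ * (⁅a'⁻¹, b⁻¹⁆)⁻¹ := by group
    _ = (b'' * b') * ⁅b'⁻¹, a⁻¹⁆ * (⁅a'⁻¹, b⁻¹⁆)⁻¹ := by rw [c3]
    _ = b'' * (b' * ⁅b'⁻¹, a⁻¹⁆ * (⁅a'⁻¹, b⁻¹⁆)⁻¹) := by group

section

variable {L : Type*} [Field L] {S : Set (Subgroup G)}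

theorem sub_ne_bot3 (H : Hyp3 L S) {A : Subgroup G} (hA : A ∈ S) :
    A.subgroupOf (⨆ B ∈ S, B) ≠ ⊥ := by
  intro hbot
  apply H.ne_bot A hA
  rw [Subgroup.eq_bot_iff_forall]
  intro a ha
  have h1 : (⟨a, le_gen hA ha⟩ : ↥(⨆ B ∈ S, B)) ∈ A.subgroupOf (⨆ B ∈ S, B) :=
    Subgroup.mem_subgroupOf.mpr ha
  rw [hbot, Subgroup.mem_bot] at h1
  exact congrArg Subtype.val h1

theorem isRootSubgroupSet3 (H : Hyp3 L S) : IsRootSubgroupSet (Cfsg.Agent.Helper2.RootSub.Sub S) := by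
  refine ⟨?_, ?_, ?_, ?_, ?_⟩
  · rintro _ ⟨A, hA, rfl⟩
    refine ⟨⟨fun x y => ?_⟩⟩
    have hc := (H.comm A hA).is_comm.comm ⟨x.1.1, Subgroup.mem_subgroupOf.mp x.2⟩
      ⟨y.1.1, Subgroup.mem_subgroupOf.mp y.2⟩
    apply Subtype.ext
    apply Subtype.ext
    exact congrArg (fun z : ↥A => (z : G)) hc
  · rintro _ ⟨A, hA, rfl⟩
    exact sub_ne_bot3 H hA
  · rw [eq_top_iff]
    intro x _
    have h1 : (⨆ B ∈ S, B) ≤ (⨆ A' ∈ Cfsg.Agent.Helper2.RootSub.Sub S, A').map (Subgroup.subtype _) := by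
      apply iSup₂_le
      intro A hA a ha
      refine ⟨⟨a, le_gen hA ha⟩, ?_, rfl⟩
      have h2 : A.subgroupOf (⨆ B ∈ S, B) ≤ ⨆ A' ∈ Cfsg.Agent.Helper2.RootSub.Sub S, A' :=
        le_iSup₂ (f := fun A' (_ : A' ∈ Cfsg.Agent.Helper2.RootSub.Sub S) => A') _ ⟨A, hA, rfl⟩
      exact h2 (Subgroup.mem_subgroupOf.mpr ha)
    obtain ⟨y, hy, hyx⟩ := h1 x.2
    have h3 : y = x := Subtype.ext hyx
    rw [← h3]; exact hy
  · rintro _ ⟨A, hA, rfl⟩ g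
    rw [conjBy_subgroupOf]
    exact ⟨_, H.conj A hA g.1, rfl⟩
  · rintro _ ⟨A, hA, rfl⟩ _ ⟨B, hB, rfl⟩
    rcases H.pair A hA B hB with hc | hc | hc
    · left
      apply comm_eq_bot
      intro a ha b hb
      apply Subtype.ext
      exact hc a.1 (Subgroup.mem_subgroupOf.mp ha) b.1 (Subgroup.mem_subgroupOf.mp hb)
    · obtain ⟨ρ, hinj, hρA, hρB⟩ := hc.restrict _ (le_gen hA) (le_gen hB)
      exact Or.inr (Or.inl (pair_of_sl2_hom ρ hinj hρA hρB).1)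
    · exact Or.inr (Or.inr (commCase_sub hA hB hc))

end

end GEN

open GEN in
theorem isKRoot3 {G : Type*} [Group G] {L : Type*} [Field L] {S : Set (Subgroup G)}
    (H : Hyp3 L S) : IsKRootSubgroupSet L (Cfsg.Agent.Helper2.RootSub.Sub S) := by
  refine ⟨isRootSubgroupSet3 H, ?_⟩
  rintro _ ⟨A, hA, rfl⟩ _ ⟨B, hB, rfl⟩ hAB
  have hAle : A ≤ ⨆ B ∈ S, B := le_gen hA
  have hBle : B ≤ ⨆ B ∈ S, B := le_gen hB
  -- the pair is a rank one pair in `G`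
  have hAB' : IsRankOnePair A B := by
    have h1 := isRankOnePair_map (⨆ B ∈ S, B).subtype (⨆ B ∈ S, B).subtype_injective hAB
    rw [Subgroup.map_subgroupOf_eq_of_le hAle, Subgroup.map_subgroupOf_eq_of_le hBle] at h1
    exact h1
  rcases H.pair A hA B hB with hc | hc | hc
  · exact absurd hAB' (not_isRankOnePair_of_commute hc)
  · obtain ⟨ρ, hinj, hρA, hρB⟩ := hc.restrict _ hAle hBle
    exact (pair_of_sl2_hom ρ hinj hρA hρB).2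
  · exfalso
    exact not_rankOne_of_commCase (H.comm B hB) (H.ne_bot _ hc.1) hc hAB'

end Cfsg.Agent.S5072P
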