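import Mathlib
import Cfsg.Agent.Helper26.TT1
import Cfsg.Agent.Helper26.TT2

set_option autoImplicit false

/-!
# Tate's theorem for fusion systems, piece TH: the twisted biset isomorphism on the fibre
-/

namespace Cfsg.Agent.Helper8.TT

open Cfsg.Agent.Helper26.TT

section Resp

variable {Y : Type*} {Q : Type*} [Group Q] {A : Type*} [CommGroup A]

/-- For a free action of a finite group, the inverse of a respecting permutation is respecting. -/
theorem resp_inv_of_free [Finite Q] (ρ : Q →* Equiv.Perm Y) (π : Q →* A)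
    (hfree : ∀ t y, ρ t y = y → t = 1) {g : Equiv.Perm Y} (h : Resp ρ π g) : Resp ρ π g⁻¹ := by
  classical
  intro y t
  set y' : Y := g⁻¹ y with hy'
  have hgy' : g y' = y := by
    rw [hy', ← Equiv.Perm.mul_apply, mul_inv_cancel]; rfl
  choose F hF using fun t'' : Q => h y' t''
  have hinj : Function.Injective F := by
    intro t₁ t₂ h12
    have h1 := (hF t₁).1
    have h2 := (hF t₂).1
    rw [h12, ← h2] at h1
    have h3 : ρ t₁ y' = ρ t₂ y' := g.injective h1
    have h4 : ρ (t₂⁻¹ * t₁) y' = y' := by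
      rw [map_mul, Equiv.Perm.mul_apply, h3, ← Equiv.Perm.mul_apply, ← map_mul, inv_mul_cancel,
        map_one]
      rfl
    have h5 := hfree _ _ h4
    exact (inv_mul_eq_one.mp h5).symm
  obtain ⟨t'', ht''⟩ := (Finite.injective_iff_surjective.mp hinj) t
  refine ⟨t'', ?_, ?_⟩
  · have h1 := (hF t'').1
    rw [ht'', hgy'] at h1
    rw [← h1, ← Equiv.Perm.mul_apply, inv_mul_cancel]
    rfl
  · have h2 := (hF t'').2
    rw [ht''] at h2
    exact h2.symm

theorem mem_Gp_of_resp_free [Finite Q] (ρ : Q →* Equiv.Perm Y) (π : Q →* A)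
    (hfree : ∀ t y, ρ t y = y → t = 1) {g : Equiv.Perm Y} (h : Resp ρ π g) : g ∈ Gp ρ π :=
  ⟨h, resp_inv_of_free ρ π hfree h⟩

end Resp

theorem exists_twisted {S : Type*} [Group S] [Finite S] {Qs : Subgroup S} [Qs.Normal] {X : Type*}
    [Finite X] {l r : S →* Equiv.Perm X} {d : X → S ⧸ Qs} (h : Grading Qs l r d)
    (hfree : ∀ s x, r s x = x → s = 1) {A : Type*} [CommGroup A] (π : Qs →* A)
    (hπ : ∀ (s : S) (t : Qs), π ⟨s * t * s⁻¹, ‹Qs.Normal›.conj_mem t t.2 s⟩ = π t)
    (θ : Equiv.Perm X) (hθ : ∀ s, r s * θ = θ * r s)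
    (P : Subgroup S) (hP : P ≤ Qs) (φ : P →* S) (hφ : ∀ y : P, φ y ∈ Qs)
    (hθφ : ∀ y : P, θ * l (y : S) = l (φ y) * θ) :
    ∃ θ' : Equiv.Perm (Yt Qs d), θ' ∈ Gp (rY h) π ∧
      ∀ y : P, θ' * lY h ⟨(y : S), hP y.2⟩ = lY h ⟨φ y, hφ y⟩ * θ' := by
  classical
  -- pointwise forms of the commutation hypotheses
  have hθr : ∀ s x, θ (r s x) = r s (θ x) := by
    intro s x
    have := congrArg (fun e : Equiv.Perm X => e x) (hθ s)
    simp only [Equiv.Perm.mul_apply] at this
    exact this.symm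
  have hθl : ∀ (y : P) x, θ (l (y : S) x) = l (φ y) (θ x) := by
    intro y x
    have := congrArg (fun e : Equiv.Perm X => e x) (hθφ y)
    simpa only [Equiv.Perm.mul_apply] using this
  have hlr : ∀ u s x, l u (r s x) = r s (l u x) := by
    intro u s x
    have := congrArg (fun e : Equiv.Perm X => e x) (h.comm u s)
    simpa only [Equiv.Perm.mul_apply] using this
  have hrmul : ∀ s s' x, r s (r s' x) = r (s * s') x := by
    intro s s' x
    rw [map_mul, Equiv.Perm.mul_apply]
  -- the coset of `θ x` and a representative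
  let e : X → S ⧸ Qs := fun x => d (θ x)
  let σ : X → S := fun x => Quotient.out (e x)
  have hσ : ∀ x, ((σ x : S) : S ⧸ Qs) = e x := fun x => QuotientGroup.out_eq' (e x)
  have he_r : ∀ (t : S), t ∈ Qs → ∀ x, e (r t x) = e x := by
    intro t ht x
    show d (θ (r t x)) = d (θ x)
    rw [hθr, h.dr, (QuotientGroup.eq_one_iff t).mpr ht, inv_one, mul_one]
  have he_l : ∀ (y : P) x, e (l (y : S) x) = e x := by
    intro y x
    show d (θ (l (y : S) x)) = d (θ x)
    rw [hθl, h.dl, (QuotientGroup.eq_one_iff (φ y)).mpr (hφ y), one_mul]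
  have hσ_r : ∀ (t : S), t ∈ Qs → ∀ x, σ (r t x) = σ x := by
    intro t ht x
    show Quotient.out (e (r t x)) = Quotient.out (e x)
    rw [he_r t ht x]
  have hσ_l : ∀ (y : P) x, σ (l (y : S) x) = σ x := by
    intro y x
    show Quotient.out (e (l (y : S) x)) = Quotient.out (e x)
    rw [he_l y x]
  let f : X → X := fun x => r (σ x) (θ x)
  have hdf : ∀ x, d (f x) = 1 := by
    intro x
    show d (r (σ x) (θ x)) = 1
    rw [h.dr, hσ x]
    exact mul_inv_cancel _
  let f' : Yt Qs d → Yt Qs d := fun x => ⟨f x.1, hdf x.1⟩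
  have hf'val : ∀ x : Yt Qs d, ((f' x : Yt Qs d) : X) = r (σ x.1) (θ x.1) := fun _ => rfl
  have hinj : Function.Injective f' := by
    intro x x' hxx'
    have h1 : r (σ x.1) (θ x.1) = r (σ x'.1) (θ x'.1) := congrArg Subtype.val hxx'
    set c : S := (σ x.1)⁻¹ * σ x'.1 with hc
    have h2 : θ x.1 = r c (θ x'.1) := by
      rw [hc, ← hrmul, ← h1, hrmul, inv_mul_cancel, map_one]
      rfl
    have h3 : x.1 = r c x'.1 := by
      apply θ.injective
      rw [h2, hθr]
    have hcQ : c ∈ Qs := by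
      have h4 : d x.1 = d (r c x'.1) := congrArg d h3
      rw [x.2, h.dr, x'.2, one_mul] at h4
      have h5 : ((c : S) : S ⧸ Qs) = 1 := by
        rw [← inv_inv ((c : S) : S ⧸ Qs), ← h4, inv_one]
      exact (QuotientGroup.eq_one_iff c).mp h5
    have h6 : σ x.1 = σ x'.1 := by
      rw [h3]
      exact hσ_r c hcQ x'.1
    have hc1 : c = 1 := by
      rw [hc, h6, inv_mul_cancel]
    apply Subtype.ext
    rw [h3, hc1, map_one]
    rfl
  have hbij : Function.Bijective f' := Finite.injective_iff_bijective.mp hinj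
  let θ' : Equiv.Perm (Yt Qs d) := Equiv.ofBijective f' hbij
  have hθ'app : ∀ x, θ' x = f' x := fun _ => rfl
  have hrYfree : ∀ (t : Qs) (y : Yt Qs d), rY h t y = y → t = 1 := by
    intro t y hty
    have h1 : r (t : S) y.1 = y.1 := by
      have := congrArg Subtype.val hty
      rwa [rY_apply] at this
    have h2 := hfree _ _ h1
    exact Subtype.ext h2
  refine ⟨θ', mem_Gp_of_resp_free (rY h) π hrYfree ?_, ?_⟩
  · intro y t
    refine ⟨⟨σ y.1 * (t : S) * (σ y.1)⁻¹, ‹Qs.Normal›.conj_mem t t.2 (σ y.1)⟩, ?_, hπ (σ y.1) t⟩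
    apply Subtype.ext
    rw [hθ'app, hf'val, rY_apply, rY_apply, hθ'app, hf'val, hσ_r (t : S) t.2 y.1, hθr, hrmul,
      hrmul]
    congr 2
    group
  · intro y
    ext x
    rw [Equiv.Perm.mul_apply, Equiv.Perm.mul_apply, hθ'app, hf'val, lY_apply, lY_apply, hθ'app,
      hf'val]
    show r (σ (l (y : S) x.1)) (θ (l (y : S) x.1)) = l (φ y) (r (σ x.1) (θ x.1))
    rw [hσ_l y x.1, hθl, hlr]

end Cfsg.Agent.Helper8.TT
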