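import Mathlib
import Cfsg.Agent.Helper14.S2481.Defs
import Cfsg.Agent.Helper8.S2481FIELDH90

set_option autoImplicit false
set_option linter.unusedVariables false

/-! S2481 piece FIELDNORM (driver helper14; helper8): the norm is onto the fixed field. -/

namespace Cfsg.Agent.S2481P

open Polynomial DirectSum Matrix Cfsg.Agent.S2478P Cfsg.Agent.S2479P

section field

variable {F : Type*} [Field F] [Finite F] {σ : F →+* F}

namespace FIELDNORM

/-- the norm on units -/
def normHom (σ : F →+* F) : Fˣ →* Fˣ where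
  toFun y := y * Units.map (σ : F →* F) y
  map_one' := by simp
  map_mul' x y := by
    rw [map_mul]
    exact mul_mul_mul_comm _ _ _ _

/-- `c ↦ c / σ c` on units -/
def quotHom (σ : F →+* F) : Fˣ →* Fˣ where
  toFun y := y * (Units.map (σ : F →* F) y)⁻¹
  map_one' := by simp
  map_mul' x y := by
    rw [map_mul, mul_inv]
    exact mul_mul_mul_comm _ _ _ _

theorem normHom_val (y : Fˣ) : ((normHom σ y : Fˣ) : F) = y * σ y := rfl

theorem mem_ker_quotHom (y : Fˣ) : y ∈ (quotHom σ).ker ↔ σ (y : F) = y := by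
  rw [MonoidHom.mem_ker]
  change y * (Units.map (σ : F →* F) y)⁻¹ = 1 ↔ _
  rw [mul_inv_eq_one, Units.ext_iff]
  exact eq_comm

theorem mem_ker_normHom (y : Fˣ) : y ∈ (normHom σ).ker ↔ (y : F) * σ y = 1 := by
  rw [MonoidHom.mem_ker, Units.ext_iff]
  rfl

theorem range_quotHom (hσ : IsInvol σ) : (quotHom σ).range = (normHom σ).ker := by
  ext z
  rw [mem_ker_normHom]
  constructor
  · rintro ⟨c, rfl⟩
    change ((c * (Units.map (σ : F →* F) c)⁻¹ : Fˣ) : F) *
      σ ((c * (Units.map (σ : F →* F) c)⁻¹ : Fˣ) : F) = 1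
    rw [Units.val_mul, Units.val_inv_eq_inv_val, Units.coe_map]
    simp only [MonoidHom.coe_coe, map_mul, map_inv₀, hσ.sq]
    have h1 : (c : F) ≠ 0 := c.ne_zero
    have h2 : σ (c : F) ≠ 0 := (map_ne_zero σ).2 h1
    field_simp
  · intro hz
    obtain ⟨c, hc0, hc⟩ := hilbert90 hσ hz
    refine ⟨Units.mk0 c hc0, ?_⟩
    apply Units.ext
    change ((Units.mk0 c hc0 * (Units.map (σ : F →* F) (Units.mk0 c hc0))⁻¹ : Fˣ) : F) = z
    rw [Units.val_mul, Units.val_inv_eq_inv_val, Units.coe_map]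
    simp only [MonoidHom.coe_coe, Units.val_mk0]
    have h2 : σ c ≠ 0 := (map_ne_zero σ).2 hc0
    rw [eq_comm, eq_mul_inv_iff_mul_eq₀ h2]
    exact hc

theorem range_normHom_le (hσ : IsInvol σ) : (normHom σ).range ≤ (quotHom σ).ker := by
  rintro _ ⟨y, rfl⟩
  rw [mem_ker_quotHom, normHom_val, map_mul, hσ.sq, mul_comm]

end FIELDNORM

open FIELDNORM in
theorem norm_surj (hσ : IsInvol σ) {a : F} (ha : σ a = a) (ha0 : a ≠ 0) : ∃ y : F, y * σ y = a := by
  have h1 : Nat.card (quotHom σ).ker * Nat.card (quotHom σ).range = Nat.card Fˣ := by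
    rw [← Subgroup.index_ker]
    exact Subgroup.card_mul_index _
  have h2 : Nat.card (normHom σ).ker * Nat.card (normHom σ).range = Nat.card Fˣ := by
    rw [← Subgroup.index_ker]
    exact Subgroup.card_mul_index _
  rw [range_quotHom hσ] at h1
  have hpos : 0 < Nat.card (normHom σ).ker := Nat.card_pos
  have h3 : Nat.card (quotHom σ).ker = Nat.card (normHom σ).range := by
    have : Nat.card (normHom σ).ker * Nat.card (quotHom σ).ker =
        Nat.card (normHom σ).ker * Nat.card (normHom σ).range := by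
      rw [h2, mul_comm, h1]
    exact Nat.eq_of_mul_eq_mul_left hpos this
  have h4 : (normHom σ).range = (quotHom σ).ker :=
    Subgroup.eq_of_le_of_card_ge (range_normHom_le hσ) (le_of_eq h3)
  have h5 : Units.mk0 a ha0 ∈ (quotHom σ).ker := by
    rw [mem_ker_quotHom]
    exact ha
  rw [← h4] at h5
  obtain ⟨y, hy⟩ := h5
  refine ⟨(y : F), ?_⟩
  rw [← normHom_val, hy]
  rfl

end field

end Cfsg.Agent.S2481P
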