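import Mathlib

/-! S2481 chapter (R), piece RCHAR (driver helper17; helper8): the characteristic polynomial of a
multiplication map on a field extension. -/

set_option autoImplicit false

namespace Cfsg.Agent.S2481P

open Polynomial

namespace RCHAR

/-- if `t ∈ K` is a root of the monic irreducible `P` with `deg P = [K : F]` then multiplication by `t`
has characteristic polynomial `P` -/
theorem charpoly_mulLeft {F K : Type*} [Field F] [Field K] [Algebra F K] [FiniteDimensional F K]
    (t : K) (P : F[X]) (hP : P.Monic) (hirr : Irreducible P)
    (hdeg : P.natDegree = Module.finrank F K) (ht : aeval t P = 0) :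
    (LinearMap.mulLeft F t).charpoly = P := by
  have h1 : aeval (LinearMap.mulLeft F t) P = 0 := by
    have : LinearMap.mulLeft F t = Algebra.lmul F K t := rfl
    rw [this, Polynomial.aeval_algHom_apply, ht, map_zero]
  have h2 : P = minpoly F (LinearMap.mulLeft F t) :=
    minpoly.eq_of_irreducible_of_monic hirr h1 hP
  have h3 : minpoly F (LinearMap.mulLeft F t) ∣ (LinearMap.mulLeft F t).charpoly :=
    LinearMap.minpoly_dvd_charpoly _
  rw [← h2] at h3
  apply Polynomial.eq_of_monic_of_dvd_of_natDegree_le hP (LinearMap.charpoly_monic _) h3
  rw [LinearMap.charpoly_natDegree, hdeg]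

end RCHAR

end Cfsg.Agent.S2481P
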