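import Mathlib
import Cfsg.Prelude.Def_LieClassical

/-! S2481 chapter (R), piece RCONJ (driver helper17; helper8): conjugate elements of `GU` have the same
characteristic polynomial. -/

set_option autoImplicit false

namespace Cfsg.Agent.S2481P

open Polynomial

namespace RCONJ

theorem charpoly_eq_of_isConj {F : Type*} [Field F] {n q : ℕ} (g h : ↥(Cfsg.GU n F q))
    (hc : IsConj g h) :
    ((g : Matrix.GeneralLinearGroup (Fin n) F) : Matrix (Fin n) (Fin n) F).charpoly =
      ((h : Matrix.GeneralLinearGroup (Fin n) F) : Matrix (Fin n) (Fin n) F).charpoly := by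
  rw [isConj_iff] at hc
  obtain ⟨c, hc⟩ := hc
  have h1 : ((h : Matrix.GeneralLinearGroup (Fin n) F) : Matrix (Fin n) (Fin n) F) =
      ((c : Matrix.GeneralLinearGroup (Fin n) F) : (Matrix (Fin n) (Fin n) F)ˣ) *
        ((g : Matrix.GeneralLinearGroup (Fin n) F) : Matrix (Fin n) (Fin n) F) *
        (((c : Matrix.GeneralLinearGroup (Fin n) F) : (Matrix (Fin n) (Fin n) F)ˣ)⁻¹ :
          (Matrix (Fin n) (Fin n) F)ˣ) := by
    rw [← hc]
    rfl
  rw [h1, Matrix.charpoly_mul_comm, ← mul_assoc, Units.inv_mul, one_mul]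

end RCONJ

end Cfsg.Agent.S2481P
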