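import Mathlib
import Cfsg.Prelude.Def_LieClassical
import Cfsg.Agent.Helper28.GU

/-! S2481 chapter (R), piece RSUM (driver helper17; helper8): orthogonal sums inside `GU`. -/

set_option autoImplicit false
set_option linter.unusedVariables false

namespace Cfsg.Agent.S2481P

open Polynomial
open scoped Matrix

namespace RSUM

open Cfsg.Agent.Helper28.GUlib in
theorem exists_blockSum {F : Type*} [Field F] [Fintype F] {q : ℕ} (σ : F →+* F)
    (hσ : ∀ x, σ x = x ^ q) (hF : Fintype.card F = q ^ 2) {a b : ℕ}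
    (g₁ : ↥(Cfsg.GU a F q)) (g₂ : ↥(Cfsg.GU b F q)) :
    ∃ g : ↥(Cfsg.GU (a + b) F q),
      ((g : Matrix.GeneralLinearGroup (Fin (a + b)) F) :
        Matrix (Fin (a + b)) (Fin (a + b)) F).charpoly =
      ((g₁ : Matrix.GeneralLinearGroup (Fin a) F) : Matrix (Fin a) (Fin a) F).charpoly *
        ((g₂ : Matrix.GeneralLinearGroup (Fin b) F) : Matrix (Fin b) (Fin b) F).charpoly := by
  set A : Matrix (Fin a) (Fin a) F := ((g₁ : Matrix.GeneralLinearGroup (Fin a) F) :
    Matrix (Fin a) (Fin a) F) with hA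
  set D : Matrix (Fin b) (Fin b) F := ((g₂ : Matrix.GeneralLinearGroup (Fin b) F) :
    Matrix (Fin b) (Fin b) F) with hD
  have h1 : Aᵀ * A.map σ = 1 := (mem_GU_iff σ hσ _).1 g₁.2
  have h2 : Dᵀ * D.map σ = 1 := (mem_GU_iff σ hσ _).1 g₂.2
  set B : Matrix (Fin a ⊕ Fin b) (Fin a ⊕ Fin b) F := Matrix.fromBlocks A 0 0 D with hB
  have hBu : Bᵀ * B.map σ = 1 := by
    rw [hB, Matrix.fromBlocks_transpose, Matrix.fromBlocks_map, Matrix.fromBlocks_multiply]
    simp only [Matrix.transpose_zero, Matrix.map_zero _ (map_zero σ), Matrix.zero_mul,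
      Matrix.mul_zero, add_zero, zero_add, h1, h2, Matrix.fromBlocks_one]
  set M : Matrix (Fin (a + b)) (Fin (a + b)) F :=
    Matrix.reindex finSumFinEquiv finSumFinEquiv B with hM
  have hMu : Mᵀ * M.map σ = 1 := by
    rw [hM]
    rw [Matrix.reindex_apply, Matrix.transpose_submatrix, ← Matrix.submatrix_map,
      Matrix.submatrix_mul_equiv, hBu, Matrix.submatrix_one_equiv]
  refine ⟨mkGU σ hσ M hMu, ?_⟩
  rw [mkGU_coe, hM, Matrix.charpoly_reindex, hB, Matrix.charpoly_fromBlocks_zero₁₂]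

end RSUM

end Cfsg.Agent.S2481P
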