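import Mathlib
import Cfsg.Agent.Helper14.S2481.Defs
import Cfsg.Agent.Helper8.S2481FIELDH90

set_option autoImplicit false
set_option linter.unusedVariables false

/-! S2481 piece DESCENT (driver helper14; helper8): Galois descent count. -/

namespace Cfsg.Agent.S2481P

open Polynomial DirectSum Matrix Cfsg.Agent.S2478P Cfsg.Agent.S2479P

section field

variable {F : Type*} [Field F] [Finite F] {σ : F →+* F}

theorem card_fixed_sq (hσ : IsInvol σ) {V : Type*} [AddCommGroup V] [Module F V] [Finite V]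
    (τ : V → V) (hadd : ∀ v w, τ (v + w) = τ v + τ w) (hsmul : ∀ (c : F) v, τ (c • v) = σ c • τ v)
    (hinv : ∀ v, τ (τ v) = v) : Nat.card {v : V // τ v = v} ^ 2 = Nat.card V := by
  obtain ⟨θ, hθ⟩ := exists_not_fixed hσ
  have hδ : θ - σ θ ≠ 0 := sub_ne_zero.2 (Ne.symm hθ)
  have hσδ : σ (θ - σ θ) = -(θ - σ θ) := by
    rw [map_sub, hσ.sq]
    ring
  set δ := θ - σ θ with hδdef
  have hneg : ∀ v, τ (-v) = -τ v := by
    intro v
    have := hsmul (-1) v
    rwa [neg_one_smul, map_neg, map_one, neg_one_smul] at this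
  have hsub : ∀ v w, τ (v - w) = τ v - τ w := by
    intro v w
    rw [sub_eq_add_neg, hadd, hneg, ← sub_eq_add_neg]
  have hw : ∀ v, τ (δ⁻¹ • (v - τ v)) = δ⁻¹ • (v - τ v) := by
    intro v
    rw [hsmul, map_inv₀, hσδ, hsub, hinv, inv_neg, neg_smul, ← smul_neg, neg_sub]
  have hu : ∀ v, τ (v - θ • (δ⁻¹ • (v - τ v))) = v - θ • (δ⁻¹ • (v - τ v)) := by
    intro v
    rw [hsub, hsmul, hw]
    have h1 : (θ - σ θ) • (δ⁻¹ • (v - τ v)) = v - τ v := by
      rw [smul_smul, mul_inv_cancel₀ hδ, one_smul]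
    rw [sub_smul] at h1
    rw [sub_eq_sub_iff_add_eq_add] at h1 ⊢
    rw [add_comm]
    exact h1
  have hcard : Nat.card V = Nat.card ({v : V // τ v = v} × {v : V // τ v = v}) := by
    apply Nat.card_congr
    refine ⟨fun v => (⟨v - θ • (δ⁻¹ • (v - τ v)), hu v⟩, ⟨δ⁻¹ • (v - τ v), hw v⟩),
      fun x => (x.1 : V) + θ • (x.2 : V), ?_, ?_⟩
    · intro v
      simp only [sub_add_cancel]
    · rintro ⟨⟨u, hu'⟩, ⟨w, hw'⟩⟩
      have h1 : (u + θ • w) - τ (u + θ • w) = δ • w := by
        rw [hadd, hsmul, hu', hw', hδdef, sub_smul]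
        abel
      have h2 : δ⁻¹ • ((u + θ • w) - τ (u + θ • w)) = w := by
        rw [h1, smul_smul, inv_mul_cancel₀ hδ, one_smul]
      apply Prod.ext
      · apply Subtype.ext
        simp only
        rw [h2]
        abel
      · apply Subtype.ext
        simp only
        exact h2
  rw [hcard, Nat.card_prod, sq]

end field

end Cfsg.Agent.S2481P
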