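import Mathlib

/-!
# S3805 piece ACTION.
-/

set_option autoImplicit false
set_option linter.unusedVariables false

namespace Cfsg.Agent.S3805P

theorem ACTION_z3 {C : Type*} [Group C] (w : C) (hw : w ^ 3 = 1) (k : ℤ) :
    w ^ k = 1 ∨ w ^ k = w ∨ w ^ k = w⁻¹ := by
  have h : w ^ k = w ^ (k % ((3 : ℕ) : ℤ)) := zpow_eq_zpow_emod' k hw
  have hk : k % ((3 : ℕ) : ℤ) = 0 ∨ k % ((3 : ℕ) : ℤ) = 1 ∨ k % ((3 : ℕ) : ℤ) = 2 := by omega
  rcases hk with hk | hk | hk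
  · left; rw [h, hk, zpow_zero]
  · right; left; rw [h, hk, zpow_one]
  · right; right
    rw [h, hk]
    apply eq_inv_of_mul_eq_one_left
    have : w ^ (2 : ℤ) * w = w ^ 3 := by
      rw [show (2 : ℤ) = ((2 : ℕ) : ℤ) by norm_num, zpow_natCast, ← pow_succ]
    rw [this, hw]

theorem ACTION_eq_one_of_sq {C : Type*} [Group C] (w : C) (h3 : w ^ 3 = 1) (h2 : w ^ 2 = 1) :
    w = 1 := by
  have : w ^ 3 = w ^ 2 * w := pow_succ w 2
  rw [h3, h2, one_mul] at this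
  exact this.symm

/-- a group of order 9 and exponent 3 is generated by two "independent" elements -/
theorem ACTION_gen {C : Type*} [CommGroup C] (hcard : Nat.card C = 9) (h3 : ∀ t : C, t ^ 3 = 1)
    (u v : C) (hu : u ≠ 1) (hv1 : v ≠ 1) (hvu : v ≠ u) (hvu' : v ≠ u⁻¹) :
    ∀ t : C, ∃ m n : ℤ, u ^ m * v ^ n = t := by
  have hfin : Finite C := Nat.finite_of_card_ne_zero (by rw [hcard]; norm_num)
  have : Fact (Nat.Prime 3) := ⟨Nat.prime_three⟩
  have hord : orderOf u = 3 := orderOf_eq_prime (h3 u) hu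
  set K := Subgroup.closure ({u, v} : Set C) with hK
  have hzK : Subgroup.zpowers u ≤ K :=
    (Subgroup.zpowers_le).mpr (Subgroup.subset_closure (by simp))
  have hvK : v ∈ K := Subgroup.subset_closure (by simp)
  have hvz : v ∉ Subgroup.zpowers u := by
    rintro ⟨k, hk⟩
    have hk' : u ^ k = v := hk
    rcases ACTION_z3 u (h3 u) k with h | h | h
    · exact hv1 (hk'.symm.trans h)
    · exact hvu (hk'.symm.trans h)
    · exact hvu' (hk'.symm.trans h)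
  have hc3 : Nat.card (Subgroup.zpowers u) = 3 := by rw [Nat.card_zpowers, hord]
  have hd1 : 3 ∣ Nat.card K := hc3 ▸ Subgroup.card_dvd_of_le hzK
  have hd2 : Nat.card K ∣ 9 := hcard ▸ Subgroup.card_subgroup_dvd_card K
  have hK9 : Nat.card K = 9 := by
    obtain ⟨c, hc⟩ := hd1
    have hc3' : c ∣ 3 := by
      rw [hc] at hd2
      exact Nat.dvd_of_mul_dvd_mul_left (by norm_num : 0 < 3) (by simpa using hd2)
    rcases (Nat.dvd_prime Nat.prime_three).mp hc3' with h | h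
    · exfalso
      rw [h, mul_one] at hc
      have := Subgroup.eq_of_le_of_card_ge hzK (by rw [hc, hc3])
      exact hvz (this ▸ hvK)
    · rw [hc, h]
  have hKtop : K = ⊤ := (Subgroup.card_eq_iff_eq_top K).mp (hK9.trans hcard.symm)
  intro t
  have : t ∈ K := hKtop ▸ Subgroup.mem_top t
  exact Subgroup.mem_closure_pair.mp this


/-- subgroup form of `ACTION_gen` -/
theorem ACTION_gen_sub {G : Type*} [Group G] (T : Subgroup G)
    (hTc : ∀ t₁ ∈ T, ∀ t₂ ∈ T, t₁ * t₂ = t₂ * t₁) (hT3 : ∀ t ∈ T, t ^ 3 = 1)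
    (hcard : Nat.card T = 9) (u v : G) (huT : u ∈ T) (hvT : v ∈ T)
    (hu : u ≠ 1) (hv1 : v ≠ 1) (hvu : v ≠ u) (hvu' : v ≠ u⁻¹) :
    ∀ t ∈ T, ∃ m n : ℤ, u ^ m * v ^ n = t := by
  let _ : CommGroup T :=
    { (inferInstance : Group T) with
      mul_comm := fun a b => Subtype.ext (hTc a a.2 b b.2) }
  intro t ht
  have h := ACTION_gen (C := T) hcard (fun t => Subtype.ext (by simpa using hT3 t t.2))
    ⟨u, huT⟩ ⟨v, hvT⟩ (fun h => hu (congrArg Subtype.val h)) (fun h => hv1 (congrArg Subtype.val h))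
    (fun h => hvu (congrArg Subtype.val h)) (fun h => hvu' (congrArg Subtype.val h)) ⟨t, ht⟩
  obtain ⟨m, n, hmn⟩ := h
  refine ⟨m, n, ?_⟩
  have := congrArg Subtype.val hmn
  simpa using this

/-- facts on an involution normalizing `T` -/
theorem ACTION_invol {G : Type*} [Group G] (T : Subgroup G) (z : G)
    (hz : z ∈ Subgroup.normalizer (T : Set G)) (hz2 : orderOf z = 2) :
    z * z = 1 ∧ z⁻¹ = z ∧ ∀ t ∈ T, z * t * z⁻¹ ∈ T := by
  have h1 : z * z = 1 := by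
    have := pow_orderOf_eq_one z
    rwa [hz2, pow_two] at this
  refine ⟨h1, inv_eq_of_mul_eq_one_right h1, fun t ht => ?_⟩
  exact (Subgroup.mem_normalizer_iff.mp hz t).mp ht


theorem ACTION_conj_comm {G : Type*} [Group G] (z z' : G) (hcomm : z * z' = z' * z) (t : G) :
    z * (z' * t * z'⁻¹) * z⁻¹ = z' * (z * t * z⁻¹) * z'⁻¹ := by
  have e1 : z * (z' * t * z'⁻¹) * z⁻¹ = (z * z') * t * (z * z')⁻¹ := by group
  have e2 : z' * (z * t * z⁻¹) * z'⁻¹ = (z' * z) * t * (z' * z)⁻¹ := by group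
  rw [e1, e2, hcomm]

theorem ACTION_core {G : Type*} [Group G] (T : Subgroup G)
    (hTc : ∀ t₁ ∈ T, ∀ t₂ ∈ T, t₁ * t₂ = t₂ * t₁)
    (hT3 : ∀ t ∈ T, t ^ 3 = 1) (hcard : Nat.card T = 9)
    (z z' : G) (hz : z ∈ Subgroup.normalizer (T : Set G))
    (hz' : z' ∈ Subgroup.normalizer (T : Set G))
    (hz2 : orderOf z = 2) (hz'2 : orderOf z' = 2) (hne : z ≠ z') (hcomm : z * z' = z' * z)
    (hzC : z ∉ Subgroup.centralizer (T : Set G)) (hz'C : z' ∉ Subgroup.centralizer (T : Set G))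
    (hzz'C : z * z' ∉ Subgroup.centralizer (T : Set G))
    (p : G) (hpT : p ∈ T) (hp1 : p ≠ 1) (hpz : z * p * z⁻¹ = p) :
    ∃ a b s r : G, a ∈ T ∧ b ∈ T ∧ s ∈ Subgroup.normalizer (T : Set G) ∧
      r ∈ Subgroup.normalizer (T : Set G) ∧
      orderOf a = 3 ∧ orderOf b = 3 ∧ orderOf s = 2 ∧ orderOf r = 2 ∧
      a * b = b * a ∧ s * r = r * s ∧ s * a * s⁻¹ = a⁻¹ ∧ s * b = b * s ∧ r * a = a * r ∧
      r * b * r⁻¹ = b⁻¹ := by
  have hp3' : Fact (Nat.Prime 3) := ⟨Nat.prime_three⟩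
  have hp2' : Fact (Nat.Prime 2) := ⟨Nat.prime_two⟩
  obtain ⟨hzz, hzi, hzT⟩ := ACTION_invol T z hz hz2
  obtain ⟨hz'z', hz'i, hz'T⟩ := ACTION_invol T z' hz' hz'2
  -- an element fixed and inverted is trivial
  have hfixinv : ∀ t ∈ T, z * t * z⁻¹ = t → z * t * z⁻¹ = t⁻¹ → t = 1 := by
    intro t ht h1 h2
    have h3 : t = t⁻¹ := h1.symm.trans h2
    have h4 : t ^ 2 = 1 := by
      rw [pow_two]
      nth_rewrite 2 [h3]
      exact mul_inv_cancel t
    exact ACTION_eq_one_of_sq t (hT3 t ht) h4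
  -- an inverted element
  have hex : ∃ t ∈ T, z * t * z⁻¹ ≠ t := by
    by_contra hcon
    push Not at hcon
    apply hzC
    rw [Subgroup.mem_centralizer_iff]
    intro t ht
    exact (mul_inv_eq_iff_eq_mul.mp (hcon t ht)).symm
  obtain ⟨t0, ht0, hne0⟩ := hex
  set m : G := t0 * (z * t0 * z⁻¹)⁻¹ with hm
  have hmT : m ∈ T := T.mul_mem ht0 (T.inv_mem (hzT t0 ht0))
  have hm1 : m ≠ 1 := by
    intro h
    apply hne0
    exact (mul_inv_eq_one.mp h).symm
  have hmz : z * m * z⁻¹ = m⁻¹ := by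
    have e1 : z * m * z⁻¹ = (z * t0 * z⁻¹) * ((z * z) * t0⁻¹ * (z * z)⁻¹) := by rw [hm]; group
    have e2 : m⁻¹ = (z * t0 * z⁻¹) * t0⁻¹ := by rw [hm]; group
    rw [e1, e2, hzz, one_mul, inv_one, mul_one]
  have hmp : m ≠ p := by
    intro h
    apply hm1
    apply hfixinv m hmT _ hmz
    rw [h]; exact hpz
  have hmp' : m ≠ p⁻¹ := by
    intro h
    apply hm1
    apply hfixinv m hmT _ hmz
    rw [h, ← conj_inv, hpz]
  have hgen := ACTION_gen_sub T hTc hT3 hcard p m hpT hmT hp1 hm1 hmp hmp'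
  have hconjz : ∀ i j : ℤ, z * (p ^ i * m ^ j) * z⁻¹ = p ^ i * (m ^ j)⁻¹ := by
    intro i j
    rw [← conj_mul, ← conj_zpow, ← conj_zpow, hpz, hmz, inv_zpow]
  have hpiT : ∀ i : ℤ, p ^ i ∈ T := fun i => T.zpow_mem hpT i
  have hmjT : ∀ j : ℤ, m ^ j ∈ T := fun j => T.zpow_mem hmT j
  have hsq1 : ∀ t ∈ T, t = t⁻¹ → t = 1 := by
    intro t ht h3
    have h4 : t ^ 2 = 1 := by
      rw [pow_two]
      nth_rewrite 2 [h3]
      exact mul_inv_cancel t
    exact ACTION_eq_one_of_sq t (hT3 t ht) h4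
  have hplus : ∀ t ∈ T, z * t * z⁻¹ = t → ∃ i : ℤ, t = p ^ i := by
    intro t ht h
    obtain ⟨i, j, rfl⟩ := hgen t ht
    rw [hconjz] at h
    have h1 : (m ^ j)⁻¹ = m ^ j := mul_left_cancel h
    have h2 : m ^ j = 1 := hsq1 _ (hmjT j) h1.symm
    exact ⟨i, by rw [h2, mul_one]⟩
  have hminus : ∀ t ∈ T, z * t * z⁻¹ = t⁻¹ → ∃ j : ℤ, t = m ^ j := by
    intro t ht h
    obtain ⟨i, j, rfl⟩ := hgen t ht
    rw [hconjz, mul_inv_rev, hTc _ (hpiT i) _ (T.inv_mem (hmjT j))] at h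
    have h1 : p ^ i = (p ^ i)⁻¹ := mul_left_cancel h
    have h2 : p ^ i = 1 := hsq1 _ (hpiT i) h1
    exact ⟨j, by rw [h2, one_mul]⟩
  -- the action of `z'`
  have hp' : z' * p * z'⁻¹ = p ∨ z' * p * z'⁻¹ = p⁻¹ := by
    have hfix : z * (z' * p * z'⁻¹) * z⁻¹ = z' * p * z'⁻¹ := by
      rw [ACTION_conj_comm z z' hcomm, hpz]
    obtain ⟨i, hi⟩ := hplus _ (hz'T p hpT) hfix
    rcases ACTION_z3 p (hT3 p hpT) i with h | h | h
    · exfalso
      rw [h] at hi
      apply hp1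
      have : p = z'⁻¹ * (z' * p * z'⁻¹) * z' := by group
      rw [this, hi]; group
    · left; rw [hi, h]
    · right; rw [hi, h]
  have hm' : z' * m * z'⁻¹ = m ∨ z' * m * z'⁻¹ = m⁻¹ := by
    have hinv : z * (z' * m * z'⁻¹) * z⁻¹ = (z' * m * z'⁻¹)⁻¹ := by
      rw [ACTION_conj_comm z z' hcomm, hmz, conj_inv]
    obtain ⟨j, hj⟩ := hminus _ (hz'T m hmT) hinv
    rcases ACTION_z3 m (hT3 m hmT) j with h | h | h
    · exfalso
      rw [h] at hj
      apply hm1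
      have : m = z'⁻¹ * (z' * m * z'⁻¹) * z' := by group
      rw [this, hj]; group
    · left; rw [hj, h]
    · right; rw [hj, h]
  -- centralizing `p` and `m` means centralizing `T`
  have hcent : ∀ w : G, w * p * w⁻¹ = p → w * m * w⁻¹ = m →
      w ∈ Subgroup.centralizer (T : Set G) := by
    intro w h1 h2
    rw [Subgroup.mem_centralizer_iff]
    intro t ht
    obtain ⟨i, j, rfl⟩ := hgen t ht
    have : w * (p ^ i * m ^ j) * w⁻¹ = p ^ i * m ^ j := by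
      rw [← conj_mul, ← conj_zpow, ← conj_zpow, h1, h2]
    exact (mul_inv_eq_iff_eq_mul.mp this).symm
  have hordp : orderOf p = 3 := orderOf_eq_prime (hT3 p hpT) hp1
  have hordm : orderOf m = 3 := orderOf_eq_prime (hT3 m hmT) hm1
  have hpm : p * m = m * p := hTc p hpT m hmT
  rcases hp' with hp' | hp' <;> rcases hm' with hm' | hm'
  · exact absurd (hcent z' hp' hm') hz'C
  · exfalso
    apply hzz'C
    apply hcent
    · have : z * z' * p * (z * z')⁻¹ = z * (z' * p * z'⁻¹) * z⁻¹ := by group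
      rw [this, hp', hpz]
    · have : z * z' * m * (z * z')⁻¹ = z * (z' * m * z'⁻¹) * z⁻¹ := by group
      rw [this, hm', ← conj_inv, hmz, inv_inv]
  · refine ⟨p, m, z', z, hpT, hmT, hz', hz, hordp, hordm, hz'2, hz2, hpm, hcomm.symm, hp', ?_, ?_,
      hmz⟩
    · exact (mul_inv_eq_iff_eq_mul.mp hm')
    · exact (mul_inv_eq_iff_eq_mul.mp hpz)
  · have hsN : z * z' ∈ Subgroup.normalizer (T : Set G) := Subgroup.mul_mem _ hz hz'
    have hs2 : orderOf (z * z') = 2 := by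
      apply orderOf_eq_prime
      · rw [pow_two]
        have : z * z' * (z * z') = (z * z) * (z' * z') := by
          rw [mul_assoc, ← mul_assoc z' z z', ← hcomm]; group
        rw [this, hzz, hz'z', one_mul]
      · intro h
        apply hne
        have : z = z'⁻¹ := eq_inv_of_mul_eq_one_left h
        rw [this, hz'i]
    refine ⟨p, m, z * z', z, hpT, hmT, hsN, hz, hordp, hordm, hs2, hz2, hpm, ?_, ?_, ?_, ?_, hmz⟩
    · rw [mul_assoc, ← hcomm, ← mul_assoc]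
    · have : z * z' * p * (z * z')⁻¹ = z * (z' * p * z'⁻¹) * z⁻¹ := by group
      rw [this, hp', ← conj_inv, hpz]
    · have h1 : z * z' * m * (z * z')⁻¹ = m := by
        have : z * z' * m * (z * z')⁻¹ = z * (z' * m * z'⁻¹) * z⁻¹ := by group
        rw [this, hm', ← conj_inv, hmz, inv_inv]
      exact (mul_inv_eq_iff_eq_mul.mp h1)
    · exact (mul_inv_eq_iff_eq_mul.mp hpz)


/-- an involution normalizing `T` without nontrivial fixed points inverts `T` -/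
theorem ACTION_inverts {G : Type*} [Group G] (T : Subgroup G)
    (hTc : ∀ t₁ ∈ T, ∀ t₂ ∈ T, t₁ * t₂ = t₂ * t₁)
    (z : G) (hz : z ∈ Subgroup.normalizer (T : Set G)) (hz2 : orderOf z = 2)
    (hnofix : ¬ ∃ p ∈ T, p ≠ 1 ∧ z * p * z⁻¹ = p) : ∀ t ∈ T, z * t * z⁻¹ = t⁻¹ := by
  obtain ⟨hzz, hzi, hzT⟩ := ACTION_invol T z hz hz2
  intro t ht
  have huT : t * (z * t * z⁻¹) ∈ T := T.mul_mem ht (hzT t ht)
  have hfix : z * (t * (z * t * z⁻¹)) * z⁻¹ = t * (z * t * z⁻¹) := by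
    have e : z * (t * (z * t * z⁻¹)) * z⁻¹ = (z * t * z⁻¹) * ((z * z) * t * (z * z)⁻¹) := by group
    rw [e, hzz, one_mul, inv_one, mul_one]
    exact hTc _ (hzT t ht) _ ht
  have h1 : t * (z * t * z⁻¹) = 1 := by
    by_contra hne
    exact hnofix ⟨_, huT, hne, hfix⟩
  exact (eq_inv_of_mul_eq_one_right h1)

/-- **ACTION.** Two distinct commuting involutions `x, y` normalizing the elementary abelian group
`T` of order 9, such that none of `x, y, xy` centralizes `T`: after renaming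
(`s, r ∈ {x, y, xy}`), `T = ⟨a⟩ × ⟨b⟩` with `s` inverting `a` and centralizing `b`, and `r`
centralizing `a` and inverting `b`. -/
theorem exists_gens_of_klein {G : Type*} [Group G] (T : Subgroup G) (hTc : ∀ t₁ ∈ T, ∀ t₂ ∈ T, t₁ * t₂ = t₂ * t₁)
    (hT3 : ∀ t ∈ T, t ^ 3 = 1) (hcard : Nat.card T = 9)
    (x y : G) (hx : x ∈ Subgroup.normalizer (T : Set G)) (hy : y ∈ Subgroup.normalizer (T : Set G))
    (hx2 : orderOf x = 2) (hy2 : orderOf y = 2) (hxy : x ≠ y) (hcomm : x * y = y * x)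
    (hxC : x ∉ Subgroup.centralizer (T : Set G)) (hyC : y ∉ Subgroup.centralizer (T : Set G))
    (hxyC : x * y ∉ Subgroup.centralizer (T : Set G)) :
    ∃ a b s r : G, a ∈ T ∧ b ∈ T ∧ s ∈ Subgroup.normalizer (T : Set G) ∧
      r ∈ Subgroup.normalizer (T : Set G) ∧
      orderOf a = 3 ∧ orderOf b = 3 ∧ orderOf s = 2 ∧ orderOf r = 2 ∧
      a * b = b * a ∧ s * r = r * s ∧ s * a * s⁻¹ = a⁻¹ ∧ s * b = b * s ∧ r * a = a * r ∧
      r * b * r⁻¹ = b⁻¹ := by
  by_cases hfx : ∃ p ∈ T, p ≠ 1 ∧ x * p * x⁻¹ = p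
  · obtain ⟨p, hpT, hp1, hpx⟩ := hfx
    exact ACTION_core T hTc hT3 hcard x y hx hy hx2 hy2 hxy hcomm hxC hyC hxyC p hpT hp1 hpx
  · have hxinv := ACTION_inverts T hTc x hx hx2 hfx
    by_cases hfy : ∃ p ∈ T, p ≠ 1 ∧ y * p * y⁻¹ = p
    · obtain ⟨p, hpT, hp1, hpy⟩ := hfy
      exact ACTION_core T hTc hT3 hcard y x hy hx hy2 hx2 (Ne.symm hxy) hcomm.symm hyC hxC
        (hcomm ▸ hxyC) p hpT hp1 hpy
    · exfalso
      have hyinv := ACTION_inverts T hTc y hy hy2 hfy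
      apply hxyC
      rw [Subgroup.mem_centralizer_iff]
      intro t ht
      have h1 : x * y * t * (x * y)⁻¹ = t := by
        have : x * y * t * (x * y)⁻¹ = x * (y * t * y⁻¹) * x⁻¹ := by group
        rw [this, hyinv t ht, ← conj_inv, hxinv t ht, inv_inv]
      exact (mul_inv_eq_iff_eq_mul.mp h1).symm

end Cfsg.Agent.S3805P
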