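import Mathlib
import Cfsg.Agent.Helper16.S64Defs

set_option autoImplicit false

/-!
# S3157 piece B1: the index lemma
-/

open scoped commutatorElement
open Cfsg.Agent.Helper16.S64

namespace Cfsg.Agent.Helper8.S64

variable {T : Type*} [Group T] [Finite T] {ρ x : MulAut T}

omit [Finite T] in
/-- `⁅ρ t, s⁆ = ρ ⁅t, ρ (ρ s)⁆` when `ρ³ = 1`. -/
theorem comm_rho_left (h : Fpf3 ρ) (t s : T) : ⁅ρ t, s⁆ = ρ ⁅t, ρ (ρ s)⁆ := by
  rw [map_commutatorElement, h.cube]

omit [Finite T] in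
/-- the "`N`-centre" `{t | ∀ s, ⁅t,s⁆ ∈ N}` is `ρ`-invariant if `N` is -/
theorem rho_mem_of_forall_comm (h : Fpf3 ρ) (N M : Subgroup T)
    (hN : ∀ n ∈ N, ρ n ∈ N) (hM : ∀ t, t ∈ M ↔ ∀ s, ⁅t, s⁆ ∈ N) :
    ∀ t ∈ M, ρ t ∈ M := by
  intro t ht
  rw [hM]
  intro s
  rw [comm_rho_left h]
  exact hN _ ((hM t).1 ht _)

theorem index_ne_four (h : Fpf3Facts ρ) (N M : Subgroup T) (hNn : N.Normal)
    (hN : ∀ n ∈ N, ρ n ∈ N) (hM : ∀ t, t ∈ M ↔ ∀ s, ⁅t, s⁆ ∈ N) :
    4 * Nat.card M ≠ Nat.card T := by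
  intro h4
  have hMρ : ∀ t ∈ M, ρ t ∈ M := rho_mem_of_forall_comm h.toFpf3 N M hN hM
  have hMpos : 0 < Nat.card M := Nat.card_pos
  -- `M ≠ ⊤`
  have hMtop : M ≠ ⊤ := by
    intro htop
    rw [htop, Subgroup.card_top] at h4
    have : 0 < Nat.card T := Nat.card_pos
    omega
  obtain ⟨a, haM⟩ : ∃ a, a ∉ M := by
    by_contra hno
    push Not at hno
    exact hMtop ((Subgroup.eq_top_iff' M).2 hno)
  -- the subgroup `Ca`
  let Ca : Subgroup T :=
    { carrier := {s | ⁅a, s⁆ ∈ N}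
      one_mem' := by
        show ⁅a, (1 : T)⁆ ∈ N
        rw [commutatorElement_one_right]; exact N.one_mem
      mul_mem' := by
        intro s₁ s₂ h1 h2
        show ⁅a, s₁ * s₂⁆ ∈ N
        have : ⁅a, s₁ * s₂⁆ = ⁅a, s₁⁆ * (s₁ * ⁅a, s₂⁆ * s₁⁻¹) := by
          simp only [commutatorElement_def]; group
        rw [this]
        exact N.mul_mem h1 (hNn.conj_mem _ h2 _)
      inv_mem' := by
        intro s h1
        show ⁅a, s⁻¹⁆ ∈ N
        have : ⁅a, s⁻¹⁆ = s⁻¹ * ⁅a, s⁆⁻¹ * s⁻¹⁻¹ := by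
          simp only [commutatorElement_def]; group
        rw [this]
        exact hNn.conj_mem _ (N.inv_mem h1) _ }
  have hmemCa : ∀ s, s ∈ Ca ↔ ⁅a, s⁆ ∈ N := fun s => Iff.rfl
  have hMCa : M ≤ Ca := by
    intro m hm
    rw [hmemCa, ← commutatorElement_inv]
    exact N.inv_mem ((hM m).1 hm a)
  have haCa : a ∈ Ca := by
    rw [hmemCa, commutatorElement_self]; exact N.one_mem
  have hρaCa : ρ a ∈ Ca := by
    rw [hmemCa, commutatorElement_eq_one_iff_mul_comm.2 (h.comm a)]; exact N.one_mem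
  have hCatop : Ca ≠ ⊤ := by
    intro htop
    apply haM
    rw [hM]
    intro s
    have : s ∈ Ca := by rw [htop]; exact Subgroup.mem_top s
    exact (hmemCa s).1 this
  have hρaM : ρ a ∉ M := by
    intro hmem
    have := hMρ _ (hMρ _ hmem)
    rw [h.cube] at this
    exact haM this
  -- the index computation
  have h1 : Nat.card M * M.relIndex Ca = Nat.card Ca := by
    have := Subgroup.relIndex_mul_relIndex (⊥ : Subgroup T) M Ca bot_le hMCa
    simpa [Subgroup.relIndex_bot_left] using this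
  have h2 : Nat.card Ca * Ca.index = Nat.card T := Subgroup.card_mul_index Ca
  have hr1 : M.relIndex Ca ≠ 1 := by
    intro hr
    rw [Subgroup.relIndex_eq_one] at hr
    exact haM (hr haCa)
  have hi1 : Ca.index ≠ 1 := by
    intro hi
    rw [Subgroup.index_eq_one] at hi
    exact hCatop hi
  have hri : M.relIndex Ca * Ca.index = 4 := by
    have : Nat.card M * (M.relIndex Ca * Ca.index) = Nat.card M * 4 := by
      rw [← mul_assoc, h1, h2, ← h4, mul_comm]
    exact Nat.eq_of_mul_eq_mul_left hMpos this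
  have hr2 : M.relIndex Ca = 2 := by
    have hdvd : M.relIndex Ca ∣ 4 := Dvd.intro _ hri
    have hle : M.relIndex Ca ≤ 4 := Nat.le_of_dvd (by norm_num) hdvd
    interval_cases hr : M.relIndex Ca
    · simp at hri
    · exact absurd rfl hr1
    · rfl
    · omega
    · have : Ca.index = 1 := by omega
      exact absurd this hi1
  -- index two
  have hidx : (M.subgroupOf Ca).index = 2 := hr2
  have key := Subgroup.mul_mem_iff_of_index_two hidx
    (a := (⟨a⁻¹, Ca.inv_mem haCa⟩ : Ca)) (b := (⟨ρ a, hρaCa⟩ : Ca))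
  have hprod : a⁻¹ * ρ a ∈ M := by
    have : (⟨a⁻¹, Ca.inv_mem haCa⟩ : Ca) * ⟨ρ a, hρaCa⟩ ∈ M.subgroupOf Ca := by
      rw [key]
      simp only [Subgroup.mem_subgroupOf]
      constructor
      · intro hh; exact absurd (by simpa using M.inv_mem hh) haM
      · intro hh; exact absurd hh hρaM
    simpa [Subgroup.mem_subgroupOf] using this
  exact haM (h.coset M hMρ a hprod)

end Cfsg.Agent.Helper8.S64
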