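import Mathlib
import Cfsg.Agent.Helper16.S64Defs

set_option autoImplicit false

/-!
# S3157 piece B2: `|Z(T)| = 4` and class two
-/

open scoped commutatorElement
open Cfsg.Agent.Helper16.S64

namespace Cfsg.Agent.Helper8.S64

variable {T : Type*} [Group T] [Finite T] {ρ x : MulAut T}

omit [Finite T] in
/-- the centre is `ρ`-invariant -/
theorem rho_mem_center (h : Fpf3 ρ) : ∀ z ∈ Subgroup.center T, ρ z ∈ Subgroup.center T := by
  intro z hz
  rw [Subgroup.mem_center_iff] at hz ⊢
  intro g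
  calc g * ρ z = ρ (ρ (ρ g)) * ρ z := by rw [h.cube]
    _ = ρ (ρ (ρ g) * z) := by rw [map_mul]
    _ = ρ (z * ρ (ρ g)) := by rw [hz]
    _ = ρ z * ρ (ρ (ρ g)) := by rw [map_mul]
    _ = ρ z * g := by rw [h.cube]

omit [Finite T] in
/-- `{t | ∀ s, ⁅t,s⁆ ∈ N}` is `ρ`-invariant if `N` is -/
theorem rho_mem_of_forall_comm' (h : Fpf3 ρ) (N M : Subgroup T)
    (hN : ∀ n ∈ N, ρ n ∈ N) (hM : ∀ t, t ∈ M ↔ ∀ s, ⁅t, s⁆ ∈ N) :
    ∀ t ∈ M, ρ t ∈ M := by
  intro t ht
  rw [hM]
  intro s
  have : ⁅ρ t, s⁆ = ρ ⁅t, ρ (ρ s)⁆ := by rw [map_commutatorElement, h.cube]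
  rw [this]
  exact hN _ ((hM t).1 ht _)

omit [Finite T] in
/-- a `ρ`-invariant subgroup of a group of order 64 has order 1, 4, 16 or 64 -/
theorem card_cases_of_invariant (hT : Nat.card T = 64) (h : Fpf3Facts ρ) (H : Subgroup T)
    (hH : ∀ n ∈ H, ρ n ∈ H) :
    Nat.card H = 1 ∨ Nat.card H = 4 ∨ Nat.card H = 16 ∨ Nat.card H = 64 := by
  have hdvd : Nat.card H ∣ 2 ^ 6 := by
    have := Subgroup.card_subgroup_dvd_card H
    rw [hT] at this
    simpa using this
  have hmod := h.card_mod H hH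
  obtain ⟨k, hk, hkc⟩ := (Nat.dvd_prime_pow Nat.prime_two).1 hdvd
  rw [hkc] at hmod ⊢
  interval_cases k <;> simp_all

theorem center_and_class (hT : Nat.card T = 64) (hna : ¬ IsMulCommutative T) (h : Fpf3Facts ρ)
    (hL1 : ∀ (N M : Subgroup T), N.Normal → (∀ n ∈ N, ρ n ∈ N) →
      (∀ t, t ∈ M ↔ ∀ s, ⁅t, s⁆ ∈ N) → 4 * Nat.card M ≠ Nat.card T) :
    Nat.card (Subgroup.center T) = 4 ∧ ∀ s t u : T, ⁅s, t⁆ * u = u * ⁅s, t⁆ := by
  have hZρ : ∀ z ∈ Subgroup.center T, ρ z ∈ Subgroup.center T := rho_mem_center h.toFpf3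
  have hp : IsPGroup 2 T := IsPGroup.of_card (n := 6) (by rw [hT]; norm_num)
  have hnt : Nontrivial T := by
    rw [← Finite.one_lt_card_iff_nontrivial, hT]; norm_num
  -- `|Z| = 4`
  have hZ4 : Nat.card (Subgroup.center T) = 4 := by
    rcases card_cases_of_invariant hT h _ hZρ with h1 | h4 | h16 | h64
    · exfalso
      have := hp.center_nontrivial
      rw [← Finite.one_lt_card_iff_nontrivial] at this
      omega
    · exact h4
    · exfalso
      refine hL1 ⊥ (Subgroup.center T) inferInstance ?_ ?_ (by rw [h16, hT])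
      · intro n hn
        rw [Subgroup.mem_bot] at hn ⊢
        rw [hn, map_one]
      · intro t
        rw [Subgroup.mem_center_iff]
        constructor
        · intro ht s
          rw [Subgroup.mem_bot, commutatorElement_eq_one_iff_mul_comm]
          exact (ht s).symm
        · intro ht s
          have := ht s
          rw [Subgroup.mem_bot, commutatorElement_eq_one_iff_mul_comm] at this
          exact this.symm
    · exfalso
      apply hna
      have htop : Subgroup.center T = ⊤ :=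
        Subgroup.eq_top_of_card_eq _ (by rw [h64, hT])
      refine isMulCommutative_iff.2 (fun a b => ?_)
      have ha : b ∈ Subgroup.center T := by rw [htop]; exact Subgroup.mem_top b
      rw [Subgroup.mem_center_iff] at ha
      exact ha a
  refine ⟨hZ4, ?_⟩
  -- the second centre
  set Z : Subgroup T := Subgroup.center T with hZdef
  set Z2 : Subgroup T := (Subgroup.center (T ⧸ Z)).comap (QuotientGroup.mk' Z) with hZ2def
  have hZ2mem : ∀ t, t ∈ Z2 ↔ ∀ s, ⁅t, s⁆ ∈ Z := by
    intro t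
    rw [hZ2def, Subgroup.mem_comap, Subgroup.mem_center_iff]
    constructor
    · intro ht s
      rw [← QuotientGroup.eq_one_iff, ← QuotientGroup.mk'_apply, map_commutatorElement,
        commutatorElement_eq_one_iff_mul_comm]
      exact (ht _).symm
    · intro ht q
      obtain ⟨s, rfl⟩ := QuotientGroup.mk'_surjective Z q
      have := ht s
      rw [← QuotientGroup.eq_one_iff, ← QuotientGroup.mk'_apply, map_commutatorElement,
        commutatorElement_eq_one_iff_mul_comm] at this
      exact this.symm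
  have hZ2ρ : ∀ t ∈ Z2, ρ t ∈ Z2 := rho_mem_of_forall_comm' h.toFpf3 Z Z2 hZρ hZ2mem
  have hZle : Z ≤ Z2 := by
    intro z hz
    rw [hZ2mem]
    intro s
    have hz' := Subgroup.mem_center_iff.1 hz
    have : ⁅z, s⁆ = 1 := by
      rw [commutatorElement_eq_one_iff_mul_comm]; exact (hz' s).symm
    rw [this]; exact Z.one_mem
  -- `Z ≠ Z2`
  have hcardQ : Nat.card (T ⧸ Z) = 16 := by
    have := Subgroup.card_eq_card_quotient_mul_card_subgroup Z
    rw [hT, hZ4] at this
    omega
  have hpQ : IsPGroup 2 (T ⧸ Z) := IsPGroup.of_card (n := 4) (by rw [hcardQ]; norm_num)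
  have hntQ : Nontrivial (T ⧸ Z) := by
    rw [← Finite.one_lt_card_iff_nontrivial, hcardQ]; norm_num
  have hne : Z ≠ Z2 := by
    intro heq
    have hcn := hpQ.center_nontrivial
    obtain ⟨⟨q, hq⟩, hq1⟩ := exists_ne (1 : Subgroup.center (T ⧸ Z))
    obtain ⟨t, rfl⟩ := QuotientGroup.mk'_surjective Z q
    have ht2 : t ∈ Z2 := by rw [hZ2def, Subgroup.mem_comap]; exact hq
    rw [← heq] at ht2
    apply hq1
    apply Subtype.ext
    show (QuotientGroup.mk' Z) t = 1
    rw [QuotientGroup.mk'_apply, QuotientGroup.eq_one_iff]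
    exact ht2
  have hZ2top : Z2 = ⊤ := by
    rcases card_cases_of_invariant hT h _ hZ2ρ with h1 | h4 | h16 | h64
    · exfalso
      have := Subgroup.card_le_of_le hZle
      rw [hZ4, h1] at this
      omega
    · exfalso
      exact hne (Subgroup.eq_of_le_of_card_ge hZle (by rw [h4, hZ4]))
    · exfalso
      exact hL1 Z Z2 inferInstance hZρ hZ2mem (by rw [h16, hT])
    · exact Subgroup.eq_top_of_card_eq _ (by rw [h64, hT])
  intro s t u
  have hs : s ∈ Z2 := by rw [hZ2top]; exact Subgroup.mem_top s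
  have := (hZ2mem s).1 hs t
  rw [hZdef, Subgroup.mem_center_iff] at this
  exact (this u).symm

end Cfsg.Agent.Helper8.S64
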