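import Mathlib
import Cfsg.Prelude.Def_Classical
import Cfsg.Agent.Helper15.S2933Defs
import Cfsg.Agent.Helper19.S2933QUOT

/-! S2933 piece FPF: under (P), `ρ` is fixed-point-free on `T`. -/

set_option autoImplicit false

namespace Cfsg.Agent.S2933P

open scoped commutatorElement
open Cfsg.Agent.Helper16.S64 Cfsg.Agent.S2933P

universe u

theorem FPF {T : Type u} [Group T] [Finite T] (hT : IsPGroup 2 T) {τ ρ : MulAut T} {V : Subgroup T}
    (h : PData τ ρ V) : Fpf3 ρ := by
  refine ⟨h.rho_cube, ?_⟩
  induction' hn : Nat.card T using Nat.strong_induction_on with n ih generalizing T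
  intro t ht
  by_cases hV : V = ⊤
  · exact h.rho_fpf t (by rw [hV]; trivial) ht
  · haveI : V.Normal := h.normal
    obtain ⟨τ', ρ', V', hP', -, hρ', -⟩ := QUOT hT h hV
    have hcard : Nat.card (T ⧸ V) < n := by
      have h1 := Subgroup.card_eq_card_quotient_mul_card_subgroup V
      rw [h.card, hn] at h1
      have hpos : 0 < Nat.card (T ⧸ V) := Nat.card_pos
      omega
    have hfix := ih (Nat.card (T ⧸ V)) hcard (hT.to_quotient V) hP' rfl
    have h1 : (QuotientGroup.mk t : T ⧸ V) = 1 := by
      apply hfix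
      rw [hρ', ht]
    have htV : t ∈ V := (QuotientGroup.eq_one_iff t).mp h1
    exact h.rho_fpf t htV ht

end Cfsg.Agent.S2933P
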