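import Mathlib
import Cfsg.Prelude.Def_Transfer

/-!
Group theory for `N ⋊ P` with `N` the unique minimal normal subgroup, abelian, and `P` a nontrivial
`2`-group: some involution of `P` inverts `N`.
-/

set_option autoImplicit false

namespace Cfsg.Agent.Helper8.SR1

variable {G : Type*} [Group G] [Finite G]

/-- A nontrivial `2`-group has a central involution. -/
theorem exists_central_involution (P : Subgroup G) (hP : IsPGroup 2 ↥P) (hP1 : P ≠ ⊥) :
    ∃ z ∈ P, z ≠ 1 ∧ z * z = 1 ∧ ∀ s ∈ P, s * z = z * s := by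
  haveI : Nontrivial ↥P := (Subgroup.nontrivial_iff_ne_bot P).mpr hP1
  haveI := hP.center_nontrivial
  have hZ : IsPGroup 2 ↥(Subgroup.center ↥P) := hP.to_subgroup _
  obtain ⟨k, hk⟩ := hZ.exists_card_eq
  have hk0 : k ≠ 0 := by
    intro h0
    rw [h0, pow_zero] at hk
    have := (Subgroup.center ↥P).nontrivial_iff_ne_bot.mp inferInstance
    exact this ((Subgroup.card_eq_one).mp hk)
  have h2 : 2 ∣ Nat.card ↥(Subgroup.center ↥P) := by
    rw [hk]
    exact dvd_pow_self 2 hk0
  haveI : Fact (Nat.Prime 2) := ⟨Nat.prime_two⟩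
  obtain ⟨w, hw⟩ := exists_prime_orderOf_dvd_card' 2 h2
  refine ⟨((w : ↥P) : G), (w : ↥P).2, ?_, ?_, ?_⟩
  · intro h1
    have : w = 1 := by
      apply Subtype.ext
      apply Subtype.ext
      simpa using h1
    rw [this, orderOf_one] at hw
    omega
  · have h3 : w ^ 2 = 1 := by rw [← hw]; exact pow_orderOf_eq_one w
    have h4 : ((w : ↥P) : G) ^ 2 = 1 := by
      have := congrArg (fun x : ↥(Subgroup.center ↥P) => ((x : ↥P) : G)) h3
      simpa using this
    rw [← pow_two]
    exact h4
  · intro s hs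
    have h5 := (Subgroup.mem_center_iff.mp w.2) ⟨s, hs⟩
    have := congrArg (fun x : ↥P => (x : G)) h5
    simpa using this

/-- Some involution of `P` inverts `N`. -/
theorem exists_inverting (N P : Subgroup G) (hN : N.Normal)
    (hcomm : ∀ a ∈ N, ∀ b ∈ N, a * b = b * a)
    (hP : IsPGroup 2 ↥P) (hP1 : P ≠ ⊥) (hdisj : N ⊓ P = ⊥) (hprod : N ⊔ P = ⊤)
    (hmin : N ≠ ⊥ ∧ ∀ M : Subgroup G, M.Normal → M ≠ ⊥ → N ≤ M) :
    ∃ z ∈ P, ∀ n ∈ N, z * n * z⁻¹ = n⁻¹ := by
  obtain ⟨z, hzP, hz1, hzz, hzc⟩ := exists_central_involution P hP hP1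
  have hzinv : z⁻¹ = z := inv_eq_of_mul_eq_one_right hzz
  refine ⟨z, hzP, ?_⟩
  -- the fixed points of `z` on `N`
  let C : Subgroup G := N ⊓ Subgroup.centralizer ({z} : Set G)
  have hmemC : ∀ x, x ∈ C ↔ x ∈ N ∧ z * x = x * z := by
    intro x
    show x ∈ N ⊓ Subgroup.centralizer ({z} : Set G) ↔ _
    rw [Subgroup.mem_inf, Subgroup.mem_centralizer_iff]
    constructor
    · rintro ⟨h1, h2⟩
      exact ⟨h1, h2 z rfl⟩
    · rintro ⟨h1, h2⟩
      refine ⟨h1, ?_⟩
      intro y hy
      rw [Set.mem_singleton_iff.mp hy]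
      exact h2
  have hNn : N ≤ Subgroup.normalizer (C : Set G) := by
    intro n hn
    rw [Subgroup.mem_normalizer_iff]
    intro x
    have hx : ∀ y ∈ N, n * y * n⁻¹ = y := by
      intro y hy
      rw [hcomm n hn y hy, mul_inv_cancel_right]
    constructor
    · intro hxC
      rw [hx x ((hmemC x).mp hxC).1]
      exact hxC
    · intro hxC
      have hxN : x ∈ N := by
        have h1 := ((hmemC _).mp hxC).1
        have h2 : x = n⁻¹ * (n * x * n⁻¹) * n := by group
        rw [h2]
        exact N.mul_mem (N.mul_mem (N.inv_mem hn) h1) hn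
      rw [hx x hxN] at hxC
      exact hxC
  have hPn : P ≤ Subgroup.normalizer (C : Set G) := by
    intro s hs
    rw [Subgroup.mem_normalizer_iff]
    intro x
    have hsz : s * z = z * s := hzc s hs
    have hsz' : s⁻¹ * z = z * s⁻¹ := hzc s⁻¹ (P.inv_mem hs)
    constructor
    · intro hxC
      obtain ⟨h1, h2⟩ := (hmemC x).mp hxC
      rw [hmemC]
      refine ⟨hN.conj_mem x h1 s, ?_⟩
      calc z * (s * x * s⁻¹) = (z * s) * x * s⁻¹ := by group
        _ = s * (z * x) * s⁻¹ := by rw [← hsz]; group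
        _ = s * (x * z) * s⁻¹ := by rw [h2]
        _ = s * x * (z * s⁻¹) := by group
        _ = s * x * (s⁻¹ * z) := by rw [hsz']
        _ = s * x * s⁻¹ * z := by group
    · intro hxC
      obtain ⟨h1, h2⟩ := (hmemC _).mp hxC
      rw [hmemC]
      have hxN : x ∈ N := by
        have h3 : x = s⁻¹ * (s * x * s⁻¹) * s⁻¹⁻¹ := by group
        rw [h3]
        exact hN.conj_mem _ h1 s⁻¹
      refine ⟨hxN, ?_⟩
      have h4 : s⁻¹ * (z * (s * x * s⁻¹)) * s = s⁻¹ * (s * x * s⁻¹ * z) * s := by rw [h2]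
      calc z * x = s⁻¹ * (s * z) * x := by group
        _ = s⁻¹ * (z * s) * x := by rw [hsz]
        _ = s⁻¹ * (z * (s * x * s⁻¹)) * s := by group
        _ = s⁻¹ * (s * x * s⁻¹ * z) * s := h4
        _ = x * (s⁻¹ * z) * s := by group
        _ = x * (z * s⁻¹) * s := by rw [hsz']
        _ = x * z := by group
  have hCn : C.Normal := by
    have h1 : Subgroup.normalizer (C : Set G) = ⊤ := by
      rw [eq_top_iff, ← hprod]
      exact sup_le hNn hPn
    exact Subgroup.normalizer_eq_top_iff.mp h1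
  by_cases hC : C = ⊥
  · intro n hn
    have hm : n * (z * n * z⁻¹) ∈ C := by
      rw [hmemC]
      refine ⟨N.mul_mem hn (hN.conj_mem n hn z), ?_⟩
      have h1 : z * n * z⁻¹ ∈ N := hN.conj_mem n hn z
      rw [hzinv]
      have h2 : (z * n * z) * n = n * (z * n * z) := by
        have := hcomm _ h1 n hn
        rw [hzinv] at this
        exact this
      calc z * (n * (z * n * z)) = (z * n * z) * n * z := by group
        _ = n * (z * n * z) * z := by rw [h2]
    rw [hC, Subgroup.mem_bot] at hm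
    exact eq_inv_of_mul_eq_one_right hm
  · exfalso
    have hNC : N ≤ C := hmin.2 C hCn hC
    -- `z` is central in `G`
    have hzcent : Subgroup.centralizer ({z} : Set G) = ⊤ := by
      rw [eq_top_iff, ← hprod]
      refine sup_le ?_ ?_
      · intro n hn
        exact (Subgroup.mem_inf.mp (hNC hn)).2
      · intro s hs
        rw [Subgroup.mem_centralizer_iff]
        intro y hy
        rw [Set.mem_singleton_iff.mp hy]
        exact (hzc s hs).symm
    have hZn : (Subgroup.zpowers z).Normal := by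
      refine ⟨fun x hx g => ?_⟩
      obtain ⟨k, rfl⟩ := Subgroup.mem_zpowers_iff.mp hx
      have hg : g ∈ Subgroup.centralizer ({z} : Set G) := by rw [hzcent]; exact Subgroup.mem_top g
      have h1 : g * z = z * g := ((Subgroup.mem_centralizer_iff.mp hg) z rfl).symm
      have h2 : g * z ^ k * g⁻¹ = z ^ k := by
        have : Commute g z := h1
        have h3 := this.zpow_right k
        rw [h3.eq, mul_inv_cancel_right]
      rw [h2]
      exact Subgroup.zpow_mem_zpowers z k
    have hZ1 : Subgroup.zpowers z ≠ ⊥ := by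
      intro h
      exact hz1 (Subgroup.zpowers_eq_bot.mp h)
    have hNZ : N ≤ Subgroup.zpowers z := hmin.2 _ hZn hZ1
    have hZP : Subgroup.zpowers z ≤ P := (Subgroup.zpowers_le).mpr hzP
    have : N ≤ N ⊓ P := le_inf le_rfl (hNZ.trans hZP)
    rw [hdisj] at this
    exact hmin.1 (le_bot_iff.mp this)

end Cfsg.Agent.Helper8.SR1
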