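import Mathlib
import Cfsg.Prelude.Def_Characters
import Cfsg.Agent.Helper24.Abelian
import Cfsg.Agent.Helper24.Linear
import Cfsg.Agent.Helper24.Product
import Cfsg.Agent.Helper24.Expansion
import Cfsg.Agent.Helper5.LinChar

/-!
S4751 piece L4: a character `φ` of `X` which restricts to `ρ_N - 1_N` on a subgroup `N` of index two
and has absolute value one off `N` forces `|X : X'| ≤ 4`.
-/

set_option autoImplicit false

namespace Cfsg.Agent.S4751P

open scoped ComplexConjugate
open Cfsg.Agent.Helper24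

universe u

namespace L4

variable {X : Type u} [Group X] [Finite X]

/-- the sign character of a subgroup of index two -/
noncomputable def eps (N : Subgroup X) (hN : N.index = 2) : X →* ℂ := by
  classical
  exact
  { toFun := fun x => if x ∈ N then 1 else -1
    map_one' := by simp [N.one_mem]
    map_mul' := by
      intro a b
      by_cases ha : a ∈ N <;> by_cases hb : b ∈ N <;>
        simp [Subgroup.mul_mem_iff_of_index_two hN, ha, hb] }

theorem eps_mem (N : Subgroup X) (hN : N.index = 2) {x : X} (hx : x ∈ N) : eps N hN x = 1 := by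
  classical
  show (if x ∈ N then (1 : ℂ) else -1) = 1
  rw [if_pos hx]

theorem eps_not_mem (N : Subgroup X) (hN : N.index = 2) {x : X} (hx : x ∉ N) :
    eps N hN x = -1 := by
  classical
  show (if x ∈ N then (1 : ℂ) else -1) = -1
  rw [if_neg hx]

/-- `|X| = 2 |N|` -/
theorem card_eq (N : Subgroup X) (hN : N.index = 2) : Nat.card X = 2 * Nat.card N := by
  rw [← N.index_mul_card, hN]

/-- sum over `X` of a function vanishing off `N` -/
theorem sum_of_support [Fintype X] (N : Subgroup X) [Fintype N] (f : X → ℂ)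
    (hf : ∀ x, x ∉ N → f x = 0) : ∑ x : X, f x = ∑ y : N, f y := by
  classical
  rw [← Finset.sum_subset (Finset.subset_univ (Finset.univ.filter (· ∈ N)))]
  · rw [← Finset.sum_subtype (Finset.univ.filter (· ∈ N)) (p := fun x => x ∈ N) (by simp)]
  · intro x _ hx
    apply hf
    simpa using hx

/-- a linear character nontrivial on `N` sums to zero over `N` -/
theorem sum_linear_eq_zero (N : Subgroup X) [Fintype N] (ξ : X → ℂ)
    (hmul : ∀ a b : X, ξ (a * b) = ξ a * ξ b) (y0 : X) (hy0 : y0 ∈ N) (hne : ξ y0 ≠ 1) :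
    ∑ y : N, ξ y = 0 := by
  have h := Fintype.sum_equiv (Equiv.mulLeft (⟨y0, hy0⟩ : N)) (fun y : N => ξ ((⟨y0, hy0⟩ * y : N) : X))
    (fun y : N => ξ y) (fun y => rfl)
  have h2 : ∑ y : N, ξ ((⟨y0, hy0⟩ * y : N) : X) = ξ y0 * ∑ y : N, ξ y := by
    rw [Finset.mul_sum]
    apply Finset.sum_congr rfl
    intro y _
    exact hmul y0 y
  rw [h2] at h
  have h3 : (ξ y0 - 1) * ∑ y : N, ξ y = 0 := by
    rw [sub_mul, one_mul, h, sub_self]
  rcases mul_eq_zero.mp h3 with h4 | h4
  · exfalso
    exact hne (sub_eq_zero.mp h4)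
  · exact h4

end L4

open L4

/-- L4 -/
theorem commutator_index_le_four {X : Type u} [Group X] [Finite X] (N : Subgroup X)
    (hN : N.index = 2) (φ : X → ℂ) (hφ : Cfsg.IsCharacter X φ)
    (h1 : φ 1 = (Nat.card N : ℂ) - 1) (hm1 : ∀ y ∈ N, y ≠ 1 → φ y = -1)
    (habs : ∀ x : X, x ∉ N → φ x * conj (φ x) = 1) : (commutator X).index ≤ 4 := by
  classical
  haveI : Fintype X := Fintype.ofFinite X
  haveI : Fintype N := Fintype.ofFinite N
  haveI : Fintype (Cfsg.IrrCharacter X) := Fintype.ofFinite _
  have hcardX := card_eq N hN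
  have hNpos : 0 < Nat.card N := Nat.card_pos
  have hNne : (Nat.card N : ℂ) ≠ 0 := by exact_mod_cast hNpos.ne'
  have hXne : (Nat.card X : ℂ) ≠ 0 := by
    rw [hcardX]
    push_cast
    exact mul_ne_zero two_ne_zero hNne
  obtain ⟨e, hein, heout⟩ : ∃ e : X →* ℂ, (∀ x, x ∈ N → e x = 1) ∧ (∀ x, x ∉ N → e x = -1) :=
    ⟨eps N hN, fun x hx => eps_mem N hN hx, fun x hx => eps_not_mem N hN hx⟩
  -- the twisted character
  set φ' : X → ℂ := (fun x => e x) * φ with hφ'
  have hφ'c : Cfsg.IsCharacter X φ' := IsCharacter.mul (isCharacter_of_monoidHom e) hφ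
  -- natural coefficients
  have hA : ∀ ξ : Cfsg.IrrCharacter X, ∃ n : ℕ, Cfsg.classInner φ (ξ : X → ℂ) = n :=
    fun ξ => IsCharacter.classInner_irr_nat hφ ξ
  have hB : ∀ ξ : Cfsg.IrrCharacter X, ∃ n : ℕ, Cfsg.classInner φ' (ξ : X → ℂ) = n :=
    fun ξ => IsCharacter.classInner_irr_nat hφ'c ξ
  choose a ha using hA
  choose b hb using hB
  -- norm of the difference
  have hδ1 : Cfsg.classInner (φ - φ') (φ - φ') = 2 := by
    unfold Cfsg.classInner
    have hterm : ∀ x : X, (φ - φ') x * conj ((φ - φ') x) = if x ∈ N then 0 else 4 := by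
      intro x
      by_cases hx : x ∈ N
      · rw [if_pos hx]
        simp only [Pi.sub_apply, hφ', Pi.mul_apply, hein x hx, one_mul, sub_self, zero_mul]
      · rw [if_neg hx]
        simp only [Pi.sub_apply, hφ', Pi.mul_apply, heout x hx]
        have := habs x hx
        rw [map_sub, map_mul, map_neg, map_one]
        linear_combination 4 * this
    rw [Finset.sum_congr rfl (fun x _ => hterm x), Finset.sum_ite, Finset.sum_const_zero, zero_add,
      Finset.sum_const, nsmul_eq_mul]
    have hcnt : (Finset.univ.filter (fun x : X => ¬ x ∈ N)).card = Nat.card N := by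
      have h1 : (Finset.univ.filter (fun x : X => x ∈ N)).card = Nat.card N := by
        rw [Nat.card_eq_fintype_card, ← Fintype.card_subtype]
      have h2 := Finset.card_filter_add_card_filter_not (s := (Finset.univ : Finset X))
        (fun x : X => x ∈ N)
      rw [Finset.card_univ, ← Nat.card_eq_fintype_card, hcardX, h1] at h2
      omega
    rw [hcnt, hcardX]
    push_cast
    field_simp
    norm_num
  have hexp1 := IsCharacter.eq_sum_classInner hφ
  have hexp2 := IsCharacter.eq_sum_classInner hφ'c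
  have hδ2 : Cfsg.classInner (φ - φ') (φ - φ')
      = ∑ ξ : Cfsg.IrrCharacter X, (((a ξ : ℤ) - b ξ) ^ 2 : ℤ) := by
    have hexp : φ - φ' = ∑ ξ : Cfsg.IrrCharacter X, ((a ξ : ℂ) - b ξ) • (ξ : X → ℂ) := by
      conv_lhs => rw [hexp1, hexp2]
      rw [← Finset.sum_sub_distrib]
      apply Finset.sum_congr rfl
      intro ξ _
      rw [ha ξ, hb ξ, sub_smul]
    rw [hexp, classInner_sum_sum]
    push_cast
    apply Finset.sum_congr rfl
    intro ξ _
    rw [map_sub, Complex.conj_natCast, Complex.conj_natCast]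
    ring
  have hsumZ : ∑ ξ : Cfsg.IrrCharacter X, (((a ξ : ℤ) - b ξ) ^ 2 : ℤ) = 2 := by
    have : ((∑ ξ : Cfsg.IrrCharacter X, (((a ξ : ℤ) - b ξ) ^ 2 : ℤ) : ℤ) : ℂ) = ((2 : ℤ) : ℂ) := by
      rw [← hδ2, hδ1]
      norm_num
    exact_mod_cast this
  -- linear characters
  set Lin : Finset (Cfsg.IrrCharacter X) :=
    Finset.univ.filter (fun ξ => (ξ : X → ℂ) 1 = 1) with hLin
  -- the two special ones
  have hsum1 : ∀ ξ ∈ Lin, (∃ y0 ∈ N, (ξ : X → ℂ) y0 ≠ 1) → a ξ + b ξ = 1 := by
    intro ξ hξ hy0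
    obtain ⟨y0, hy0N, hy0⟩ := hy0
    rw [hLin, Finset.mem_filter] at hξ
    have hξc : Cfsg.IsCharacter X (ξ : X → ℂ) := IsIrrCharacter.isCharacter ξ.2
    have hmul := Cfsg.Agent.Helper5.linChar_mul hξc hξ.2
    have hz := sum_linear_eq_zero N (ξ : X → ℂ) hmul y0 hy0N hy0
    have hsum : Cfsg.classInner (φ + φ') (ξ : X → ℂ) = 1 := by
      unfold Cfsg.classInner
      have hsupp : ∀ x : X, x ∉ N → (φ + φ') x * conj ((ξ : X → ℂ) x) = 0 := by
        intro x hx
        simp only [Pi.add_apply, hφ', Pi.mul_apply, heout x hx]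
        ring
      rw [sum_of_support N _ hsupp]
      have hterm : ∀ y : N, (φ + φ') (y : X) * conj ((ξ : X → ℂ) (y : X))
          = 2 * ((if y = 1 then (Nat.card N : ℂ) else 0) - conj ((ξ : X → ℂ) (y : X))) := by
        intro y
        simp only [Pi.add_apply, hφ', Pi.mul_apply, hein y y.2, one_mul]
        by_cases hy : y = 1
        · rw [if_pos hy, hy]
          have h3 : ((1 : N) : X) = 1 := rfl
          rw [h3, h1, hξ.2, map_one]
          ring
        · rw [if_neg hy]
          have hy' : (y : X) ≠ 1 := by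
            intro h
            apply hy
            exact Subtype.ext h
          rw [hm1 y y.2 hy']
          ring
      rw [Finset.sum_congr rfl (fun y _ => hterm y), ← Finset.mul_sum, Finset.sum_sub_distrib,
        Finset.sum_ite_eq' Finset.univ (1 : N), if_pos (Finset.mem_univ _), ← map_sum, hz, map_zero,
        sub_zero, hcardX]
      push_cast
      field_simp
    have h2 : Cfsg.classInner (φ + φ') (ξ : X → ℂ) = ((a ξ + b ξ : ℕ) : ℂ) := by
      rw [classInner_add_left, ha ξ, hb ξ]
      push_cast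
      ring
    rw [h2] at hsum
    exact_mod_cast hsum
  -- classification of the linear characters trivial on N
  have htriv : ∀ ξ ∈ Lin, (∀ y ∈ N, (ξ : X → ℂ) y = 1) →
      (ξ : X → ℂ) = (fun _ => 1) ∨ (ξ : X → ℂ) = (fun x => e x) := by
    intro ξ hξ hy
    rw [hLin, Finset.mem_filter] at hξ
    have hξc : Cfsg.IsCharacter X (ξ : X → ℂ) := IsIrrCharacter.isCharacter ξ.2
    have hmul := Cfsg.Agent.Helper5.linChar_mul hξc hξ.2
    by_cases hall : ∀ x : X, x ∉ N → (ξ : X → ℂ) x = 1
    · left
      funext x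
      by_cases hx : x ∈ N
      · exact hy x hx
      · exact hall x hx
    · right
      rw [not_forall] at hall
      obtain ⟨s, hs⟩ := hall
      rw [Classical.not_imp] at hs
      obtain ⟨hsN, hs1⟩ := hs
      have hs2 : s * s ∈ N := by
        rw [Subgroup.mul_mem_iff_of_index_two hN]
      have hsq : (ξ : X → ℂ) s * (ξ : X → ℂ) s = 1 := by
        rw [← hmul, hy _ hs2]
      have hsm1 : (ξ : X → ℂ) s = -1 := by
        have : ((ξ : X → ℂ) s - 1) * ((ξ : X → ℂ) s + 1) = 0 := by
          linear_combination hsq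
        rcases mul_eq_zero.mp this with h | h
        · exfalso
          exact hs1 (sub_eq_zero.mp h)
        · exact eq_neg_of_add_eq_zero_left h
      funext x
      by_cases hx : x ∈ N
      · rw [hy x hx, hein x hx]
      · rw [heout x hx]
        have hmem : s⁻¹ * x ∈ N := by
          rw [Subgroup.mul_mem_iff_of_index_two hN, inv_mem_iff]
          exact iff_of_false hsN hx
        have : x = s * (s⁻¹ * x) := by group
        rw [this, hmul, hy _ hmem, hsm1, mul_one]
  -- count
  have hLincard : Lin.card ≤ 4 := by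
    set Sp : Finset (Cfsg.IrrCharacter X) :=
      Lin.filter (fun ξ => ∀ y ∈ N, (ξ : X → ℂ) y = 1) with hSp
    set Ge : Finset (Cfsg.IrrCharacter X) :=
      Lin.filter (fun ξ => ¬ ∀ y ∈ N, (ξ : X → ℂ) y = 1) with hGe
    have hsplit : Lin.card = Sp.card + Ge.card := by
      rw [hSp, hGe]
      exact (Finset.card_filter_add_card_filter_not _).symm
    have hSp2 : Sp.card ≤ 2 := by
      have hinj : Sp.card ≤ (Finset.univ : Finset Bool).card := by
        apply Finset.card_le_card_of_injOn (s := Sp) (t := (Finset.univ : Finset Bool))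
          (fun ξ : Cfsg.IrrCharacter X => decide ((ξ : X → ℂ) = (fun _ => (1 : ℂ))))
        · intro ξ _
          exact Finset.mem_univ _
        · intro ξ hξ ξ' hξ' hdec
          have hξm := Finset.mem_coe.mp hξ
          have hξ'm := Finset.mem_coe.mp hξ'
          rw [hSp, Finset.mem_filter] at hξm hξ'm
          apply Subtype.ext
          simp only [decide_eq_decide] at hdec
          rcases htriv ξ hξm.1 hξm.2 with h | h
          · rw [h, hdec.mp h]
          · rcases htriv ξ' hξ'm.1 hξ'm.2 with h' | h'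
            · rw [hdec.mpr h', h']
            · rw [h, h']
      simpa using hinj
    have hGe2 : Ge.card ≤ 2 := by
      have hone : ∀ ξ ∈ Ge, (((a ξ : ℤ) - b ξ) ^ 2 : ℤ) = 1 := by
        intro ξ hξ
        rw [hGe, Finset.mem_filter] at hξ
        have hex : ∃ y0 ∈ N, (ξ : X → ℂ) y0 ≠ 1 := by
          have := hξ.2
          rw [not_forall] at this
          obtain ⟨y0, hy0⟩ := this
          rw [Classical.not_imp] at hy0
          exact ⟨y0, hy0.1, hy0.2⟩
        have hab := hsum1 ξ hξ.1 hex
        have : (a ξ = 0 ∧ b ξ = 1) ∨ (a ξ = 1 ∧ b ξ = 0) := by omega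
        rcases this with ⟨h, h'⟩ | ⟨h, h'⟩ <;> rw [h, h'] <;> norm_num
      have hle : ∑ ξ ∈ Ge, (((a ξ : ℤ) - b ξ) ^ 2 : ℤ)
          ≤ ∑ ξ : Cfsg.IrrCharacter X, (((a ξ : ℤ) - b ξ) ^ 2 : ℤ) :=
        Finset.sum_le_sum_of_subset_of_nonneg (Finset.subset_univ _) (fun ξ _ _ => sq_nonneg _)
      rw [Finset.sum_congr rfl hone, hsumZ, Finset.sum_const, nsmul_eq_mul, mul_one] at hle
      exact_mod_cast hle
    omega
  rw [← card_linear_irr (G := X)]
  have : Nat.card {χ : Cfsg.IrrCharacter X // (χ : X → ℂ) 1 = 1} = Lin.card := by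
    rw [Nat.card_eq_fintype_card, Fintype.card_subtype]
  rw [this]
  exact hLincard

end Cfsg.Agent.S4751P
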