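import Mathlib
import Cfsg.Prelude.Def_ClassicalGeometry
import Cfsg.Agent.Helper16.S5955Defs
import Cfsg.Agent.Helper21.S5949CYCMAIN

set_option autoImplicit false
open scoped MatrixGroups

/-! S5955 piece INVSPLIT. -/

universe u

namespace Cfsg.Agent.S5955P

open Polynomial Cfsg.Agent.Helper2.SympInvol Cfsg.Agent.Helper2.SympUnits Cfsg.Agent.S5961P

namespace INVSPLIT

/-- `range (y - 1) = ker Φ_r(y)` when `y ^ r = 1`, `r ≠ p` -/
theorem range_eq_ker {F V : Type*} [Field F] [Fintype F] [AddCommGroup V] [Module F V]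
    [FiniteDimensional F V] {p : ℕ} [Fact p.Prime] [CharP F p] (r : ℕ) [Fact r.Prime]
    (hrp : r ≠ p) (y : Module.End F V) (hy : y ^ r = 1) :
    LinearMap.range (y - 1) = LinearMap.ker (aeval y (cyclotomic r F)) := by
  have hprod : cyclotomic r F * (X - C (1 : F)) = X ^ r - 1 := by
    rw [C_1]; exact cyclotomic_prime_mul_X_sub_one F r
  have hΦy : aeval y (cyclotomic r F) * (y - 1) = 0 := by
    have := congrArg (aeval y) hprod
    rw [map_mul, S5949P.CYC.aeval_X_sub_one, map_sub, map_pow, aeval_X, map_one, hy, sub_self] at this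
    exact this
  apply Submodule.eq_of_le_of_finrank_eq
  · rintro _ ⟨v, rfl⟩
    rw [LinearMap.mem_ker, ← Module.End.mul_apply, hΦy]
    rfl
  · have h1 := LinearMap.finrank_range_add_finrank_ker (y - 1)
    have h2 := S5949P.CYC.finrank_add r hrp y hy
    omega

end INVSPLIT

/-- INVSPLIT: an invariant subspace splits into its fixed part and its part in `range (y - 1)` -/
theorem inv_split {F V : Type*} [Field F] [Fintype F] [AddCommGroup V] [Module F V]
    [FiniteDimensional F V] {p : ℕ} [Fact p.Prime] [CharP F p] (r : ℕ) [Fact r.Prime]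
    (hrp : r ≠ p) (y : Module.End F V) (hy : y ^ r = 1)
    (W : Submodule F V) (hW : W.map y ≤ W) :
    (W ⊓ LinearMap.ker (y - 1)) ⊔ (W ⊓ LinearMap.range (y - 1)) = W ∧
    Module.finrank F ↥(W ⊓ LinearMap.ker (y - 1)) +
      Module.finrank F ↥(W ⊓ LinearMap.range (y - 1)) = Module.finrank F W ∧
    orderOf ((Fintype.card F : ℕ) : ZMod r) ∣
      Module.finrank F ↥(W ⊓ LinearMap.range (y - 1)) := by
  classical
  rw [INVSPLIT.range_eq_ker r hrp y hy]
  set Φ : F[X] := cyclotomic r F with hΦ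
  have hcompl := S5949P.CYC.decomp r hrp y hy
  obtain ⟨a, b, hab⟩ := S5949P.CYC.coprime (F := F) (p := p) r hrp
  have hprod : (X - C (1 : F)) * Φ = X ^ r - 1 := by
    rw [mul_comm, C_1]; exact cyclotomic_prime_mul_X_sub_one F r
  have hzero : aeval y (X ^ r - 1 : F[X]) = 0 := by
    rw [map_sub, map_pow, aeval_X, map_one, hy, sub_self]
  have hsup : (W ⊓ LinearMap.ker (y - 1)) ⊔ (W ⊓ LinearMap.ker (aeval y Φ)) = W := by
    apply le_antisymm (sup_le inf_le_left inf_le_left)
    intro w hw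
    have hw1 : w = aeval y (b * Φ) w + aeval y (a * (X - C (1 : F))) w := by
      rw [← LinearMap.add_apply, ← map_add, add_comm, hab, map_one, Module.End.one_apply]
    rw [hw1]
    refine Submodule.add_mem_sup (Submodule.mem_inf.mpr ⟨?_, ?_⟩) (Submodule.mem_inf.mpr ⟨?_, ?_⟩)
    · exact S5949P.Basic.aeval_mem_of_invariant y W hW _ w hw
    · rw [LinearMap.mem_ker, ← S5949P.CYC.aeval_X_sub_one, ← Module.End.mul_apply, ← map_mul]
      have : (X - C (1 : F)) * (b * Φ) = b * (X ^ r - 1) := by rw [← hprod]; ring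
      rw [this, map_mul, hzero, mul_zero]
      rfl
    · exact S5949P.Basic.aeval_mem_of_invariant y W hW _ w hw
    · rw [LinearMap.mem_ker, ← Module.End.mul_apply, ← map_mul]
      have : Φ * (a * (X - C (1 : F))) = a * (X ^ r - 1) := by rw [← hprod]; ring
      rw [this, map_mul, hzero, mul_zero]
      rfl
  refine ⟨hsup, ?_, ?_⟩
  · have h := Submodule.finrank_sup_add_finrank_inf_eq (W ⊓ LinearMap.ker (y - 1))
      (W ⊓ LinearMap.ker (aeval y Φ))
    have hinf : (W ⊓ LinearMap.ker (y - 1)) ⊓ (W ⊓ LinearMap.ker (aeval y Φ)) = ⊥ := by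
      rw [eq_bot_iff]
      refine le_trans ?_ hcompl.disjoint.le_bot
      exact inf_le_inf inf_le_right inf_le_right
    rw [hinf, finrank_bot, add_zero, hsup] at h
    exact h.symm
  · have hU : ∀ v ∈ W ⊓ LinearMap.ker (aeval y Φ), y v ∈ W ⊓ LinearMap.ker (aeval y Φ) := by
      intro v hv
      exact Submodule.mem_inf.mpr ⟨hW ⟨v, hv.1, rfl⟩, S5949P.CYC.ker_invariant y Φ v hv.2⟩
    have h0 : aeval (y.restrict hU) Φ = 0 :=
      S5949P.Basic.aeval_restrict_eq_zero y _ hU Φ (fun v hv => LinearMap.mem_ker.mp hv.2)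
    have h1 := S5949P.CYC.finrank_ker_dvd (p := p) r hrp (y.restrict hU)
    rw [← hΦ, h0, LinearMap.ker_zero, finrank_top] at h1
    exact h1

end Cfsg.Agent.S5955P
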