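import Mathlib
import Cfsg.Prelude.Def_Classical
import Cfsg.Prelude.Def_GeometricClasses
import Cfsg.Agent.Helper5.S5973Defs
import Cfsg.Agent.Helper21.S5977OmegaAdj
import Cfsg.Agent.Helper13.S5973NDRES
import Cfsg.Agent.Helper13.S5973TSHALF
import Cfsg.Agent.Helper13.S5973HYPSUM

set_option autoImplicit false
open scoped MatrixGroups

/-! S5973 piece R2NEC1 (helper8). -/

universe u

namespace Cfsg.Agent.S5973P

open Module Cfsg.Agent.Helper28 Cfsg.Agent.Helper28.Spin

open scoped Matrix

namespace R2NEC1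

section Scalars

variable {F : Type*} [Field F]

/-- a binary diagonal form with square discriminant is anisotropic when `-1` is a non-square -/
theorem aniso_binary (hneg : ¬ IsSquare (-1 : F)) {α β c : F} (hα : α ≠ 0) (hc : c ≠ 0)
    (hαβ : α * β = c * c) (s t : F) (h : s * s * α + t * t * β = 0) : s = 0 ∧ t = 0 := by
  by_cases ht : t = 0
  · subst ht
    refine ⟨?_, rfl⟩
    have h' : s * s * α = 0 := by linear_combination h
    rcases mul_eq_zero.mp h' with h0 | h0
    · exact mul_self_eq_zero.mp h0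
    · exact absurd h0 hα
  · exfalso
    apply hneg
    have hsq : (s * α) * (s * α) = -((t * c) * (t * c)) := by
      linear_combination α * h - t * t * hαβ
    have htc : t * c ≠ 0 := mul_ne_zero ht hc
    refine ⟨s * α / (t * c), ?_⟩
    field_simp
    linear_combination -hsq

end Scalars

section Abstract

variable {F V : Type*} [Field F] [AddCommGroup V] [Module F V]

theorem Q_comb (Q : QuadraticForm F V) (a b : V) (hab : QuadraticMap.polar Q a b = 0) (s t : F) :
    Q (s • a + t • b) = s * s * Q a + t * t * Q b := by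
  have hadd : ∀ u v : V, Q (u + v) = Q u + Q v + QuadraticMap.polar Q u v :=
    fun u v => QuadraticMap.map_add Q u v
  rw [hadd, QuadraticMap.map_smul, QuadraticMap.map_smul, QuadraticMap.polar_smul_left,
    QuadraticMap.polar_smul_right, hab]
  simp

/-- the orthogonal complement of the plane spanned by `a`, `b` -/
def perp (Q : QuadraticForm F V) (a b : V) : Submodule F V :=
  LinearMap.ker (QuadraticMap.polarBilin Q a) ⊓ LinearMap.ker (QuadraticMap.polarBilin Q b)

theorem mem_perp (Q : QuadraticForm F V) (a b u : V) :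
    u ∈ perp Q a b ↔ QuadraticMap.polar Q a u = 0 ∧ QuadraticMap.polar Q b u = 0 := by
  unfold perp
  rw [Submodule.mem_inf, LinearMap.mem_ker, LinearMap.mem_ker]
  rfl

theorem polar_self_ne (h2 : (2 : F) ≠ 0) (Q : QuadraticForm F V) (a : V) (ha : Q a ≠ 0) :
    QuadraticMap.polar Q a a ≠ 0 := by
  rw [QuadraticMap.polar_self, two_smul, ← two_mul]
  exact mul_ne_zero h2 ha

theorem isCompl_perp (h2 : (2 : F) ≠ 0) (Q : QuadraticForm F V) (a b : V) (ha : Q a ≠ 0)
    (hb : Q b ≠ 0) (hab : QuadraticMap.polar Q a b = 0) :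
    IsCompl (Submodule.span F {a, b}) (perp Q a b) := by
  have hba : QuadraticMap.polar Q b a = 0 := by rw [QuadraticMap.polar_comm]; exact hab
  have haa := polar_self_ne h2 Q a ha
  have hbb := polar_self_ne h2 Q b hb
  constructor
  · rw [Submodule.disjoint_def]
    intro u hu hn
    obtain ⟨s, t, rfl⟩ := Submodule.mem_span_pair.mp hu
    rw [mem_perp] at hn
    obtain ⟨h1, h2'⟩ := hn
    rw [QuadraticMap.polar_add_right, QuadraticMap.polar_smul_right, QuadraticMap.polar_smul_right,
      hab, smul_zero, add_zero, smul_eq_mul] at h1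
    rw [QuadraticMap.polar_add_right, QuadraticMap.polar_smul_right, QuadraticMap.polar_smul_right,
      hba, smul_zero, zero_add, smul_eq_mul] at h2'
    have hs : s = 0 := (mul_eq_zero.mp h1).resolve_right haa
    have ht : t = 0 := (mul_eq_zero.mp h2').resolve_right hbb
    rw [hs, ht, zero_smul, zero_smul, add_zero]
  · rw [codisjoint_iff, eq_top_iff]
    intro u _
    rw [Submodule.mem_sup]
    set s := (QuadraticMap.polar Q a a)⁻¹ * QuadraticMap.polar Q a u with hs
    set t := (QuadraticMap.polar Q b b)⁻¹ * QuadraticMap.polar Q b u with ht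
    refine ⟨s • a + t • b, Submodule.mem_span_pair.mpr ⟨s, t, rfl⟩, u - (s • a + t • b), ?_, by abel⟩
    rw [mem_perp]
    constructor
    · rw [QuadraticMap.polar_sub_right, QuadraticMap.polar_add_right, QuadraticMap.polar_smul_right,
        QuadraticMap.polar_smul_right, hab, smul_zero, add_zero, smul_eq_mul, hs]
      field_simp
      ring
    · rw [QuadraticMap.polar_sub_right, QuadraticMap.polar_add_right, QuadraticMap.polar_smul_right,
        QuadraticMap.polar_smul_right, hba, smul_zero, zero_add, smul_eq_mul, ht]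
      field_simp
      ring

theorem porth_perp (Q : QuadraticForm F V) (a b : V) :
    POrth Q (Submodule.span F {a, b}) (perp Q a b) := by
  intro u hu n hn
  obtain ⟨s, t, rfl⟩ := Submodule.mem_span_pair.mp hu
  rw [mem_perp] at hn
  rw [QuadraticMap.polar_add_left, QuadraticMap.polar_smul_left, QuadraticMap.polar_smul_left,
    hn.1, hn.2]
  simp

theorem finrank_span_pair (h2 : (2 : F) ≠ 0) (Q : QuadraticForm F V) (a b : V) (ha : Q a ≠ 0)
    (hb : Q b ≠ 0) (hab : QuadraticMap.polar Q a b = 0) :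
    finrank F (Submodule.span F ({a, b} : Set V)) = 2 := by
  have hba : QuadraticMap.polar Q b a = 0 := by rw [QuadraticMap.polar_comm]; exact hab
  have haa := polar_self_ne h2 Q a ha
  have hbb := polar_self_ne h2 Q b hb
  have hli : LinearIndependent F ![a, b] := by
    rw [LinearIndependent.pair_iff]
    intro s t hst
    have h1 : QuadraticMap.polar Q a (s • a + t • b) = 0 := by
      rw [hst]; simp [QuadraticMap.polar]
    have h2' : QuadraticMap.polar Q b (s • a + t • b) = 0 := by
      rw [hst]; simp [QuadraticMap.polar]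
    rw [QuadraticMap.polar_add_right, QuadraticMap.polar_smul_right, QuadraticMap.polar_smul_right,
      hab, smul_zero, add_zero, smul_eq_mul] at h1
    rw [QuadraticMap.polar_add_right, QuadraticMap.polar_smul_right, QuadraticMap.polar_smul_right,
      hba, smul_zero, zero_add, smul_eq_mul] at h2'
    exact ⟨(mul_eq_zero.mp h1).resolve_right haa, (mul_eq_zero.mp h2').resolve_right hbb⟩
  have h := finrank_span_eq_card hli
  rw [Fintype.card_fin] at h
  have hr : Set.range ![a, b] = {a, b} := by
    simp [Matrix.range_cons, Set.pair_comm]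
  rw [hr] at h
  exact h

/-- the plane is not hyperbolic when it is anisotropic -/
theorem not_isHyp_plane (Q : QuadraticForm F V) (A : Submodule F V) [FiniteDimensional F A]
    (hA : finrank F A = 2) (haniso : ∀ u ∈ A, Q u = 0 → u = 0) : ¬ IsHyp (resQ Q A) := by
  rintro ⟨T, hT, hfin⟩
  rw [hA] at hfin
  have h1 : finrank F T = 1 := by omega
  have hpos : 0 < finrank F T := by omega
  obtain ⟨t, ht⟩ := Module.finrank_pos_iff_exists_ne_zero.mp hpos
  apply ht
  have h0 : Q ((t : A) : V) = 0 := hT t t.2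
  have := haniso _ (t : A).2 h0
  exact Subtype.ext (Subtype.ext this)

end Abstract

end R2NEC1

section Matrix

variable {F : Type*} [Field F] [Fintype F] {ι : Type} [Fintype ι] [DecidableEq ι]

namespace R2NEC1

/-- two orthogonal nonsingular vectors whose norms have a square product -/
theorem exists_pair (h2 : (2 : F) ≠ 0) (Q : QuadraticForm F (ι → F)) (hQ : ND Q)
    (hcard : 3 ≤ Fintype.card ι) :
    ∃ a b : ι → F, Q a ≠ 0 ∧ Q b ≠ 0 ∧ QuadraticMap.polar ⇑Q a b = 0 ∧ IsSquare (Q a * Q b) := by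
  obtain ⟨v, horth, hns⟩ := exists_ortho_basis Q h2 hQ
  have hk : Module.finrank F (ι → F) = Fintype.card ι := Module.finrank_fintype_fun_eq_card F
  have h0 : 0 < Module.finrank F (ι → F) := by omega
  have h1 : 1 < Module.finrank F (ι → F) := by omega
  have h2' : 2 < Module.finrank F (ι → F) := by omega
  set i0 : Fin (Module.finrank F (ι → F)) := ⟨0, h0⟩
  set i1 : Fin (Module.finrank F (ι → F)) := ⟨1, h1⟩
  set i2 : Fin (Module.finrank F (ι → F)) := ⟨2, h2'⟩
  have h01 : i0 ≠ i1 := by intro h; simpa [i0, i1] using congrArg Fin.val h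
  have h02 : i0 ≠ i2 := by intro h; simpa [i0, i2] using congrArg Fin.val h
  have h12 : i1 ≠ i2 := by intro h; simpa [i1, i2] using congrArg Fin.val h
  have key : ∀ i j, i ≠ j → (IsSquare (Q (v i)) ↔ IsSquare (Q (v j))) →
      ∃ a b : ι → F, Q a ≠ 0 ∧ Q b ≠ 0 ∧ QuadraticMap.polar ⇑Q a b = 0 ∧ IsSquare (Q a * Q b) :=
    fun i j hij h => ⟨v i, v j, hns i, hns j, horth i j hij,
      (isSquare_mul_iff h2 (hns i) (hns j)).mpr h⟩
  by_cases c0 : IsSquare (Q (v i0)) <;> by_cases c1 : IsSquare (Q (v i1)) <;>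
    by_cases c2 : IsSquare (Q (v i2))
  · exact key i0 i1 h01 (by tauto)
  · exact key i0 i1 h01 (by tauto)
  · exact key i0 i2 h02 (by tauto)
  · exact key i1 i2 h12 (by tauto)
  · exact key i1 i2 h12 (by tauto)
  · exact key i0 i2 h02 (by tauto)
  · exact key i0 i1 h01 (by tauto)
  · exact key i0 i1 h01 (by tauto)

/-- the action of the product of two orthogonal reflections -/
theorem two_refl_mulVec (Q : QuadraticForm F (ι → F)) (a b : ι → F)
    (hab : QuadraticMap.polar ⇑Q a b = 0) (u : ι → F) :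
    (Cfsg.reflectionMatrix ⇑Q a * Cfsg.reflectionMatrix ⇑Q b) *ᵥ u =
      u - (((Q a)⁻¹ * QuadraticMap.polar ⇑Q a u) • a + ((Q b)⁻¹ * QuadraticMap.polar ⇑Q b u) • b) := by
  rw [← Matrix.mulVec_mulVec, refl_mulVec, refl_mulVec, QuadraticMap.polar_sub_right,
    QuadraticMap.polar_smul_right, hab, smul_zero, sub_zero]
  abel

end R2NEC1

/-- R2NEC1: plus type, `q ≡ 3 mod 4`: an involution of `Ω` with an anisotropic `-1`-eigenplane -/
theorem exists_bad_invol (h2 : (2 : F) ≠ 0) (hneg : ¬ IsSquare (-1 : F))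
    (Q : QuadraticForm F (ι → F)) (hQ : ND Q) (d : ℕ) (hd : 2 ≤ d)
    (hcard : Fintype.card ι = 2 * d) (hhyp : IsHyp Q) :
    ∃ x : GL ι F, x ∈ Cfsg.Geo.omegaGL ⇑Q ∧ (x : Matrix ι ι F) * (x : Matrix ι ι F) = 1 ∧
      (∀ z : F, (x : Matrix ι ι F) ≠ z • (1 : Matrix ι ι F)) ∧
      ∀ W : Submodule F (ι → F), W.map (Matrix.toLin' (x : Matrix ι ι F)) ≤ W →
        (∀ w ∈ W, Q w = 0) → finrank F W + 2 ≤ d := by
  obtain ⟨a, b, ha, hb, hab, hsq⟩ := R2NEC1.exists_pair h2 Q hQ (by omega)
  obtain ⟨c, hc⟩ := hsq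
  have hc0 : c ≠ 0 := by
    intro h
    rw [h, mul_zero] at hc
    exact mul_ne_zero ha hb hc
  have hba : QuadraticMap.polar ⇑Q b a = 0 := by rw [QuadraticMap.polar_comm]; exact hab
  -- the element
  set g : ↥(Cfsg.isometryGroup F ⇑Q) := reflO Q a ha * reflO Q b hb with hg
  set X : Matrix ι ι F := Cfsg.reflectionMatrix ⇑Q a * Cfsg.reflectionMatrix ⇑Q b with hX
  have hgX : ((g : GL ι F) : Matrix ι ι F) = X := by
    rw [hg, Subgroup.coe_mul, Units.val_mul, reflO_val, reflO_val]
  have hXu : ∀ u, X *ᵥ u = u - (((Q a)⁻¹ * QuadraticMap.polar ⇑Q a u) • a +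
      ((Q b)⁻¹ * QuadraticMap.polar ⇑Q b u) • b) := R2NEC1.two_refl_mulVec Q a b hab
  have hpa : ∀ u, QuadraticMap.polar ⇑Q a (X *ᵥ u) = - QuadraticMap.polar ⇑Q a u := by
    intro u
    rw [hXu, QuadraticMap.polar_sub_right, QuadraticMap.polar_add_right,
      QuadraticMap.polar_smul_right, QuadraticMap.polar_smul_right, hab, smul_zero, add_zero,
      QuadraticMap.polar_self, smul_eq_mul]
    field_simp
    ring
  have hpb : ∀ u, QuadraticMap.polar ⇑Q b (X *ᵥ u) = - QuadraticMap.polar ⇑Q b u := by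
    intro u
    rw [hXu, QuadraticMap.polar_sub_right, QuadraticMap.polar_add_right,
      QuadraticMap.polar_smul_right, QuadraticMap.polar_smul_right, hba, smul_zero, zero_add,
      QuadraticMap.polar_self, smul_eq_mul]
    field_simp
    ring
  have hXX : X * X = 1 := by
    apply Cfsg.Agent.Helper28.Spin.matrix_ext_mulVec
    intro u
    rw [← Matrix.mulVec_mulVec, hXu (X *ᵥ u), hpa, hpb, Matrix.one_mulVec, hXu u]
    simp only [mul_neg, neg_smul]
    abel
  have hgΩ : g ∈ Cfsg.Omega F ⇑Q := by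
    rw [spinor_criterion Q h2 g [a, b] (by
      intro v hv
      simp only [List.mem_cons, List.not_mem_nil, or_false] at hv
      rcases hv with rfl | rfl
      · exact ha
      · exact hb) (by rw [hgX, hX]; simp)]
    refine ⟨⟨1, rfl⟩, ?_⟩
    simp only [List.map_cons, List.map_nil, List.prod_cons, List.prod_nil, mul_one]
    exact ⟨c, hc⟩
  -- the complement
  have hfinV : finrank F (ι → F) = 2 * d := by
    rw [Module.finrank_fintype_fun_eq_card, hcard]
  set A := Submodule.span F ({a, b} : Set (ι → F)) with hA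
  set N := R2NEC1.perp Q a b with hN
  have hcompl : IsCompl A N := R2NEC1.isCompl_perp h2 Q a b ha hb hab
  have horth : POrth Q A N := R2NEC1.porth_perp Q a b
  have hfA : finrank F A = 2 := R2NEC1.finrank_span_pair h2 Q a b ha hb hab
  have hfN : finrank F N = 2 * d - 2 := by
    have := Submodule.finrank_add_eq_of_isCompl hcompl
    omega
  have haniso : ∀ u ∈ A, Q u = 0 → u = 0 := by
    intro u hu hQu
    obtain ⟨s, t, rfl⟩ := Submodule.mem_span_pair.mp hu
    rw [R2NEC1.Q_comb Q a b hab] at hQu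
    obtain ⟨hs, ht⟩ := R2NEC1.aniso_binary hneg ha hc0 hc s t hQu
    rw [hs, ht, zero_smul, zero_smul, add_zero]
  have hnotA : ¬ IsHyp (resQ Q A) := R2NEC1.not_isHyp_plane Q A hfA haniso
  have hsum := isHyp_iff_of_orth Q hQ A N hcompl horth (by rw [hfA]; exact even_two)
    (by rw [hfN]; exact ⟨d - 1, by omega⟩)
  have hnotN : ¬ IsHyp (resQ Q N) := by
    intro hN'
    exact hnotA ((hsum.mp hhyp).mpr hN')
  have hNDN : ND (resQ Q N) := (nd_res_of_orth Q hQ A N hcompl horth).2
  refine ⟨(g : GL ι F), ?_, ?_, ?_, ?_⟩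
  · exact Subgroup.mem_map.mpr ⟨g, hgΩ, rfl⟩
  · rw [hgX]; exact hXX
  · intro z hz
    rw [hgX] at hz
    -- a nonzero vector of N
    have hNpos : 0 < finrank F N := by omega
    obtain ⟨n, hn⟩ := Module.finrank_pos_iff_exists_ne_zero.mp hNpos
    have hnN := (R2NEC1.mem_perp Q a b (n : ι → F)).mp n.2
    have h1 : X *ᵥ (n : ι → F) = (n : ι → F) := by
      rw [hXu, hnN.1, hnN.2]
      simp
    have h2a : X *ᵥ a = -a := by
      rw [hXu, hba, QuadraticMap.polar_self, mul_zero, zero_smul, add_zero]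
      rw [show (Q a)⁻¹ * (2 • Q a) = 2 by rw [two_smul]; field_simp; ring, two_smul]
      abel
    rw [hz, Matrix.smul_mulVec, Matrix.one_mulVec] at h1 h2a
    have ha0 : a ≠ 0 := by
      intro h
      rw [h, map_zero] at ha
      exact ha rfl
    have hn0 : (n : ι → F) ≠ 0 := fun h => hn (Subtype.ext h)
    have hz1 : z = 1 := by
      by_contra hne
      have : (z - 1) • (n : ι → F) = 0 := by rw [sub_smul, one_smul, h1, sub_self]
      rcases smul_eq_zero.mp this with h | h
      · exact hne (sub_eq_zero.mp h)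
      · exact hn0 h
    rw [hz1, one_smul] at h2a
    have : (2 : F) • a = 0 := by
      rw [two_smul]
      nth_rewrite 1 [h2a]
      simp
    rcases smul_eq_zero.mp this with h | h
    · exact h2 h
    · exact ha0 h
  · intro W hW hWts
    rw [hgX] at hW
    have hWN : W ≤ N := by
      intro u hu
      have hXuW : X *ᵥ u ∈ W := by
        apply hW
        exact ⟨u, hu, by rw [Matrix.toLin'_apply]⟩
      have hdiff : ((Q a)⁻¹ * QuadraticMap.polar ⇑Q a u) • a +
          ((Q b)⁻¹ * QuadraticMap.polar ⇑Q b u) • b ∈ W := by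
        have : ((Q a)⁻¹ * QuadraticMap.polar ⇑Q a u) • a +
            ((Q b)⁻¹ * QuadraticMap.polar ⇑Q b u) • b = u - X *ᵥ u := by
          rw [hXu]; abel
        rw [this]
        exact W.sub_mem hu hXuW
      have hQ0 := hWts _ hdiff
      rw [R2NEC1.Q_comb Q a b hab] at hQ0
      obtain ⟨hs, ht⟩ := R2NEC1.aniso_binary hneg ha hc0 hc _ _ hQ0
      rw [hN, R2NEC1.mem_perp]
      constructor
      · rcases mul_eq_zero.mp hs with h | h
        · exact absurd (inv_eq_zero.mp h) ha
        · exact h
      · rcases mul_eq_zero.mp ht with h | h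
        · exact absurd (inv_eq_zero.mp h) hb
        · exact h
    set W' : Submodule F N := W.comap N.subtype with hW'
    have hW'ts : IsTS (resQ Q N) W' := by
      intro w hw
      exact hWts _ hw
    have hfW' : finrank F W' = finrank F W :=
      (Submodule.comapSubtypeEquivOfLe hWN).finrank_eq
    have hhalf := ts_le_half (resQ Q N) hNDN W' hW'ts
    rw [hfW', hfN] at hhalf
    have hne : 2 * finrank F W ≠ 2 * d - 2 := by
      intro h
      apply hnotN
      exact ⟨W', hW'ts, by rw [hfW', hfN, h]⟩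
    omega

end Matrix

end Cfsg.Agent.S5973P
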