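import Mathlib
import Cfsg.Prelude.Def_Classical
import Cfsg.Prelude.Def_GeometricClasses
import Cfsg.Agent.Helper5.S5973Defs
import Cfsg.Agent.Helper21.S5977OmegaAdj
import Cfsg.Agent.Helper21.S5949IRR

set_option autoImplicit false
open scoped MatrixGroups

/-! S5973 piece EVENDIM (helper8). -/

universe u

namespace Cfsg.Agent.S5973P

open Module Cfsg.Agent.Helper28 Cfsg.Agent.Helper28.Spin

section Matrix

variable {F : Type*} [Field F] [Fintype F] {ι : Type} [Fintype ι] [DecidableEq ι]

/-- EVENDIM: if `-1` is not a square, a matrix with `x * x = -1` has only even-dimensional invariant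
subspaces -/
theorem even_finrank_of_sq_neg_one (hneg : ¬ IsSquare (-1 : F)) (x : Matrix ι ι F)
    (hxx : x * x = -1) (W : Submodule F (ι → F)) (hW : W.map (Matrix.toLin' x) ≤ W) :
    Even (finrank F W) := by
  have hirr : Irreducible (Polynomial.X ^ 2 - Polynomial.C (-1 : F)) := by
    apply X_pow_sub_C_irreducible_of_prime Nat.prime_two
    intro b hb
    exact hneg ⟨b, by rw [← hb, sq]⟩
  have hmon : (Polynomial.X ^ 2 - Polynomial.C (-1 : F)).Monic :=
    Polynomial.monic_X_pow_sub_C _ two_ne_zero
  have hdeg : (Polynomial.X ^ 2 - Polynomial.C (-1 : F)).natDegree = 2 :=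
    Polynomial.natDegree_X_pow_sub_C
  have h0 : Polynomial.aeval (Matrix.toLin' x) (Polynomial.X ^ 2 - Polynomial.C (-1 : F)) = 0 := by
    rw [map_sub, map_pow, Polynomial.aeval_X, Polynomial.aeval_C, sq, Module.End.mul_eq_comp,
      ← Matrix.toLin'_mul, hxx, map_neg, map_neg, Matrix.toLin'_one, map_one]
    ext v
    simp
  have h := (Cfsg.Agent.S5949P.irr_module (Matrix.toLin' x) _ hirr hmon h0).2.1 W hW
  rw [hdeg] at h
  exact even_iff_two_dvd.mpr h

end Matrix

end Cfsg.Agent.S5973P
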