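import Mathlib
import Cfsg.Prelude.Def_Classical
import Cfsg.Prelude.Def_GeometricClasses
import Cfsg.Agent.Helper5.S5973Defs
import Cfsg.Agent.Helper21.S5977OmegaAdj
import Cfsg.Agent.Helper8.S5973EVENDIM
import Cfsg.Agent.Helper21.S5973R2SPIN2
import Cfsg.Agent.Helper18.S5973ORTHONORMAL

set_option autoImplicit false
open scoped MatrixGroups

/-! S5973 piece R2NEC2 (helper8). -/

universe u

namespace Cfsg.Agent.S5973P

open Module Cfsg.Agent.Helper28 Cfsg.Agent.Helper28.Spin

namespace R2NEC2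

variable {F V : Type*} [Field F] [AddCommGroup V] [Module F V]

/-- the swap of the two coordinates of each plane -/
def sw {d : ℕ} (i : Fin d × Fin 2) : Fin d × Fin 2 := (i.1, i.2 + 1)

theorem sw_sw {d : ℕ} (i : Fin d × Fin 2) : sw (sw i) = i := by
  obtain ⟨k, e⟩ := i
  unfold sw
  ext
  · rfl
  · fin_cases e <;> rfl

theorem sw_ne {d : ℕ} {i j : Fin d × Fin 2} (h : i ≠ j) : sw i ≠ sw j := by
  intro h'
  apply h
  rw [← sw_sw i, ← sw_sw j, h']

/-- the sign -/
def sg {d : ℕ} (F : Type*) [Field F] (i : Fin d × Fin 2) : F := if i.2 = 0 then 1 else -1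

theorem sg_mul_sg {d : ℕ} (i : Fin d × Fin 2) : sg F i * sg F i = 1 := by
  unfold sg
  split_ifs <;> simp

theorem sg_mul_sw {d : ℕ} (i : Fin d × Fin 2) : sg F i * sg F (sw i) = -1 := by
  obtain ⟨k, e⟩ := i
  unfold sg sw
  fin_cases e <;> simp

/-- the rotation by a quarter turn in each plane -/
noncomputable def rot {d : ℕ} (b : Module.Basis (Fin d × Fin 2) F V) : Module.End F V :=
  b.constr F (fun i => sg F i • b (sw i))

theorem rot_basis {d : ℕ} (b : Module.Basis (Fin d × Fin 2) F V) (i : Fin d × Fin 2) :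
    rot b (b i) = sg F i • b (sw i) := by
  unfold rot
  rw [Module.Basis.constr_basis]

theorem rot_rot {d : ℕ} (b : Module.Basis (Fin d × Fin 2) F V) : rot b * rot b = -1 := by
  apply b.ext
  intro i
  rw [Module.End.mul_apply, rot_basis, map_smul, rot_basis, sw_sw, smul_smul, sg_mul_sw]
  simp

theorem rot_isom {d : ℕ} (h2 : (2 : F) ≠ 0) (Q : QuadraticForm F V)
    (b : Module.Basis (Fin d × Fin 2) F V)
    (horth : ∀ i j, i ≠ j → QuadraticMap.polar ⇑Q (b i) (b j) = 0) (hone : ∀ i, Q (b i) = 1)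
    (v : V) : Q (rot b v) = Q v := by
  have hB : (QuadraticMap.polarBilin Q).compl₁₂ (rot b) (rot b) = QuadraticMap.polarBilin Q := by
    apply LinearMap.ext_basis b b
    intro i j
    rw [LinearMap.compl₁₂_apply, rot_basis, rot_basis]
    show QuadraticMap.polar Q (sg F i • b (sw i)) (sg F j • b (sw j)) = QuadraticMap.polar Q (b i) (b j)
    rw [QuadraticMap.polar_smul_left, QuadraticMap.polar_smul_right]
    by_cases hij : i = j
    · subst hij
      rw [QuadraticMap.polar_self, QuadraticMap.polar_self, hone, hone, smul_eq_mul, smul_eq_mul,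
        ← mul_assoc, sg_mul_sg, one_mul]
    · rw [horth _ _ hij, horth _ _ (sw_ne hij)]
      simp
  have h := LinearMap.congr_fun (LinearMap.congr_fun hB v) v
  rw [LinearMap.compl₁₂_apply] at h
  have h' : QuadraticMap.polar Q (rot b v) (rot b v) = QuadraticMap.polar Q v v := h
  rw [QuadraticMap.polar_self, QuadraticMap.polar_self, two_smul, two_smul, ← two_mul,
    ← two_mul] at h'
  exact mul_left_cancel₀ h2 h'

end R2NEC2

section Matrix

variable {F : Type*} [Field F] [Fintype F] {ι : Type} [Fintype ι] [DecidableEq ι]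

/-- R2NEC2: an element of `Ω` with `x * x = -1` -/
theorem exists_bad_neg (h2 : (2 : F) ≠ 0) (hneg : ¬ IsSquare (-1 : F))
    (Q : QuadraticForm F (ι → F)) (hQ : ND Q) (d : ℕ) (hd : 1 ≤ d)
    (hcard : Fintype.card ι = 2 * d) (hhyp : IsHyp Q ↔ Even d) (hsq : IsSquare ((2 : F) ^ d)) :
    ∃ x : GL ι F, x ∈ Cfsg.Geo.omegaGL ⇑Q ∧ (x : Matrix ι ι F) * (x : Matrix ι ι F) = -1 ∧
      (∀ z : F, (x : Matrix ι ι F) ≠ z • (1 : Matrix ι ι F)) ∧
      ∀ W : Submodule F (ι → F), W.map (Matrix.toLin' (x : Matrix ι ι F)) ≤ W →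
        Even (finrank F W) := by
  obtain ⟨b, horth, hone⟩ := exists_orthonormal h2 hneg Q hQ d hcard hhyp
  set f := R2NEC2.rot b with hf
  set X : Matrix ι ι F := LinearMap.toMatrix' f with hX
  have hXX : X * X = -1 := by
    rw [hX, ← LinearMap.toMatrix'_mul, R2NEC2.rot_rot]
    simp
  let x : GL ι F := ⟨X, -X, by rw [mul_neg, hXX, neg_neg], by rw [neg_mul, hXX, neg_neg]⟩
  have hxX : (x : Matrix ι ι F) = X := rfl
  have hiso : x ∈ Cfsg.isometryGroup F ⇑Q := by
    rw [Cfsg.Agent.Helper28.IsoTransport.mem_isometryGroup_iff]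
    intro u
    rw [hxX, hX, LinearMap.toMatrix'_mulVec]
    exact R2NEC2.rot_isom h2 Q b horth hone u
  refine ⟨x, ?_, ?_, ?_, ?_⟩
  · exact (omega_of_sq_neg_one h2 Q hQ d hcard x hiso (by rw [hxX]; exact hXX)).mpr hsq
  · rw [hxX]; exact hXX
  · intro z hz
    rw [hxX] at hz
    have hne : Nonempty ι := by
      rw [← Fintype.card_pos_iff, hcard]
      omega
    obtain ⟨i⟩ := hne
    have h := congrFun (congrFun hXX i) i
    rw [hz] at h
    simp [Matrix.mul_apply, Matrix.smul_apply, Matrix.one_apply] at h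
    exact hneg ⟨z, h.symm⟩
  · intro W hW
    rw [hxX] at hW
    exact even_finrank_of_sq_neg_one hneg X hXX W hW

end Matrix

end Cfsg.Agent.S5973P
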