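import Mathlib
import Cfsg.Prelude.Def_Classical
import Cfsg.Prelude.Def_GeometricClasses
import Cfsg.Agent.Helper5.S5973Defs
import Cfsg.Agent.Helper21.S5977OmegaAdj
import Cfsg.Agent.Helper13.QuadWitt

set_option autoImplicit false
open scoped MatrixGroups

/-! S5973 piece EXT (helper8). -/

universe u

namespace Cfsg.Agent.S5973P

open Module Cfsg.Agent.Helper28 Cfsg.Agent.Helper28.Spin

/-- EXT: a nonzero singular vector orthogonal to a small totally singular subspace and outside it -/
theorem exists_singular_ext {F V : Type*} [Field F] [Fintype F] [AddCommGroup V] [Module F V]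
    [FiniteDimensional F V] (Q : QuadraticForm F V) (hQ : ND Q) (W : Submodule F V)
    (hW : IsTS Q W) (hdim : 2 * finrank F W + 3 ≤ finrank F V) :
    ∃ v : V, v ∉ W ∧ Q v = 0 ∧ ∀ w ∈ W, QuadraticMap.polar Q w v = 0 := by
  set B : LinearMap.BilinForm F V := QuadraticMap.polarBilin Q with hB
  have hrefl : B.IsRefl := by
    intro u v h
    have : B v u = B u v := QuadraticMap.polar_comm _ _ _
    rw [this]
    exact h
  set Wp := LinearMap.BilinForm.orthogonal B W with hWp
  have hfr : finrank F Wp = finrank F V - finrank F W :=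
    LinearMap.BilinForm.finrank_orthogonal hQ W
  have hle : W ≤ Wp := by
    intro w hw
    rw [hWp, LinearMap.BilinForm.mem_orthogonal_iff]
    intro n hn
    show QuadraticMap.polar Q n w = 0
    unfold QuadraticMap.polar
    rw [hW _ (W.add_mem hn hw), hW _ hn, hW _ hw]
    simp
  obtain ⟨U₀, hU₀⟩ := Submodule.exists_isCompl W
  set U := U₀ ⊓ Wp with hU
  have hsup : W ⊔ U = Wp := by
    rw [hU, ← sup_inf_assoc_of_le U₀ hle, hU₀.sup_eq_top, top_inf_eq]
  have hinf : W ⊓ U = ⊥ := by
    rw [hU, ← inf_assoc, hU₀.inf_eq_bot, bot_inf_eq]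
  have hfin := Submodule.finrank_sup_add_finrank_inf_eq W U
  rw [hsup, hinf, finrank_bot, add_zero, hfr] at hfin
  have h3 : 3 ≤ finrank F U := by omega
  obtain ⟨u, hu0, hQu⟩ := Cfsg.Agent.Helper13.exists_singular (resQ Q U) h3
  refine ⟨(u : V), ?_, ?_, ?_⟩
  · intro huW
    apply hu0
    have : (u : V) ∈ W ⊓ U := ⟨huW, u.2⟩
    rw [hinf, Submodule.mem_bot] at this
    exact Subtype.ext this
  · exact hQu
  · intro w hw
    have hu : (u : V) ∈ Wp := (inf_le_right : U ≤ Wp) u.2
    rw [hWp, LinearMap.BilinForm.mem_orthogonal_iff] at hu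
    exact hu w hw

end Cfsg.Agent.S5973P
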