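import Mathlib
import Cfsg.Prelude.Def_Classical
import Cfsg.Prelude.Def_GeometricClasses
import Cfsg.Agent.Helper5.S5973Defs
import Cfsg.Agent.Helper21.S5977OmegaAdj
import Cfsg.Agent.Helper8.S5973EVENDIM
import Cfsg.Agent.Helper8.S5973EXT

set_option autoImplicit false
open scoped MatrixGroups

/-! S5973 piece PEEL (helper8). -/

universe u

namespace Cfsg.Agent.S5973P

open Module Cfsg.Agent.Helper28 Cfsg.Agent.Helper28.Spin

namespace PEEL

variable {F V : Type*} [Field F] [AddCommGroup V] [Module F V]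

theorem polar_isom (Q : QuadraticForm F V) (f : Module.End F V) (hf : ∀ v, Q (f v) = Q v)
    (a b : V) : QuadraticMap.polar Q (f a) (f b) = QuadraticMap.polar Q a b := by
  unfold QuadraticMap.polar
  rw [← map_add, hf, hf, hf]

theorem step (h2 : (2 : F) ≠ 0) (Q : QuadraticForm F V) (f : Module.End F V)
    (hf : ∀ v, Q (f v) = Q v) (hff : ∀ v, f (f v) = -v) (W : Submodule F V)
    (hW : ∀ w ∈ W, Q w = 0) (hWf : W.map f ≤ W) (v : V) (hv : Q v = 0)
    (hvW : ∀ w ∈ W, QuadraticMap.polar Q w v = 0) :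
    (∀ w ∈ W ⊔ Submodule.span F {v, f v}, Q w = 0) ∧
      (W ⊔ Submodule.span F {v, f v}).map f ≤ W ⊔ Submodule.span F {v, f v} := by
  have hfv : Q (f v) = 0 := by rw [hf, hv]
  have hp1 : QuadraticMap.polar Q v (f v) = 0 := by
    have h := polar_isom Q f hf v (f v)
    rw [hff, QuadraticMap.polar_neg_right, QuadraticMap.polar_comm] at h
    have h' : (2 : F) * QuadraticMap.polar Q v (f v) = 0 := by
      rw [two_mul]
      nth_rewrite 1 [← h]
      ring
    rcases mul_eq_zero.mp h' with h0 | h0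
    · exact absurd h0 h2
    · exact h0
  have hp2 : ∀ w ∈ W, QuadraticMap.polar Q w (f v) = 0 := by
    intro w hw
    have h := polar_isom Q f hf w (f v)
    rw [hff, QuadraticMap.polar_neg_right] at h
    rw [← h, hvW (f w) (hWf ⟨w, hw, rfl⟩), neg_zero]
  refine ⟨?_, ?_⟩
  · intro u hu
    obtain ⟨w, hw, p, hp, rfl⟩ := Submodule.mem_sup.mp hu
    obtain ⟨a, b, rfl⟩ := Submodule.mem_span_pair.mp hp
    have hadd : ∀ a b : V, Q (a + b) = Q a + Q b + QuadraticMap.polar Q a b :=
      fun a b => QuadraticMap.map_add Q a b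
    rw [hadd, hadd, QuadraticMap.map_smul, QuadraticMap.map_smul,
      hv, hfv, hW w hw, QuadraticMap.polar_add_right, QuadraticMap.polar_smul_right,
      QuadraticMap.polar_smul_right, QuadraticMap.polar_smul_left, QuadraticMap.polar_smul_right,
      hp1, hvW w hw, hp2 w hw]
    simp
  · rintro _ ⟨u, hu, rfl⟩
    obtain ⟨w, hw, p, hp, rfl⟩ := Submodule.mem_sup.mp hu
    obtain ⟨a, b, rfl⟩ := Submodule.mem_span_pair.mp hp
    rw [map_add, map_add, map_smul, map_smul, hff]
    apply Submodule.add_mem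
    · exact Submodule.mem_sup_left (hWf ⟨w, hw, rfl⟩)
    · apply Submodule.mem_sup_right
      rw [Submodule.mem_span_pair]
      exact ⟨-b, a, by rw [smul_neg, neg_smul]; abel⟩

theorem finrank_pair_le [FiniteDimensional F V] (W : Submodule F V) (u v : V) :
    finrank F ↥(W ⊔ Submodule.span F {u, v}) ≤ finrank F W + 2 := by
  classical
  have h1 := Submodule.finrank_add_le_finrank_add_finrank W (Submodule.span F {u, v})
  have h2 : finrank F (Submodule.span F ({u, v} : Set V)) ≤ 2 := by
    have h := finrank_span_finset_le_card (R := F) ({u, v} : Finset V)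
    have hc : (({u, v} : Finset V) : Set V) = {u, v} := by
      rw [Finset.coe_insert, Finset.coe_singleton]
    rw [Set.finrank, hc] at h
    exact h.trans Finset.card_le_two
  omega

end PEEL

section Matrix

variable {F : Type*} [Field F] [Fintype F] {ι : Type} [Fintype ι] [DecidableEq ι]

/-- PEEL: invariant totally singular subspaces for `x * x = -1`, `-1` a non-square -/
theorem exists_ts_of_sq_neg_one (h2 : (2 : F) ≠ 0) (hneg : ¬ IsSquare (-1 : F))
    (Q : QuadraticForm F (ι → F)) (hQ : ND Q) (d : ℕ) (hcard : Fintype.card ι = 2 * d)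
    (x : Matrix ι ι F) (hx : ∀ v, Q (x.mulVec v) = Q v) (hxx : x * x = -1) (k : ℕ)
    (hk : 2 * k ≤ d) :
    ∃ W : Submodule F (ι → F), finrank F W = 2 * k ∧ (∀ w ∈ W, Q w = 0) ∧
      W.map (Matrix.toLin' x) ≤ W := by
  have hff : ∀ v, Matrix.toLin' x (Matrix.toLin' x v) = -v := by
    intro v
    rw [← LinearMap.comp_apply, ← Matrix.toLin'_mul, hxx]
    simp
  have hf : ∀ v, Q (Matrix.toLin' x v) = Q v := by
    intro v
    rw [Matrix.toLin'_apply]
    exact hx v
  induction k with
  | zero =>
    refine ⟨⊥, by simp, ?_, by simp⟩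
    intro w hw
    rw [Submodule.mem_bot] at hw
    rw [hw, map_zero]
  | succ k ih =>
    obtain ⟨W, hWd, hWts, hWinv⟩ := ih (by omega)
    have hdim : 2 * finrank F W + 3 ≤ finrank F (ι → F) := by
      rw [hWd, Module.finrank_fintype_fun_eq_card, hcard]
      omega
    obtain ⟨v, hvW, hv, hvo⟩ := exists_singular_ext Q hQ W hWts hdim
    obtain ⟨hts, hinv⟩ := PEEL.step h2 Q (Matrix.toLin' x) hf hff W hWts hWinv v hv hvo
    refine ⟨W ⊔ Submodule.span F {v, Matrix.toLin' x v}, ?_, hts, hinv⟩
    have hle := PEEL.finrank_pair_le W v (Matrix.toLin' x v)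
    have hlt : finrank F W < finrank F ↥(W ⊔ Submodule.span F {v, Matrix.toLin' x v}) := by
      apply Submodule.finrank_lt_finrank_of_lt
      apply lt_of_le_of_ne le_sup_left
      intro heq
      apply hvW
      rw [heq]
      exact Submodule.mem_sup_right (Submodule.subset_span (Set.mem_insert _ _))
    have hev := even_finrank_of_sq_neg_one hneg x hxx _ hinv
    obtain ⟨t, ht⟩ := hev
    omega

end Matrix

end Cfsg.Agent.S5973P
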