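import Mathlib
import Cfsg.Prelude.Def_Classical
import Cfsg.Prelude.Def_GeometricClasses
import Cfsg.Agent.Helper5.S5973Defs
import Cfsg.Agent.Helper21.S5977OmegaAdj
import Cfsg.Agent.Helper21.S5949Basic
import Cfsg.Agent.Helper8.S5973PEEL

set_option autoImplicit false
open scoped MatrixGroups

/-! S5973 piece R2SUFF2 (helper8). -/

universe u

namespace Cfsg.Agent.S5973P

open Module Cfsg.Agent.Helper28 Cfsg.Agent.Helper28.Spin

namespace R2SUFF2

variable {F V : Type*} [Field F] [AddCommGroup V] [Module F V]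

/-- an eigenspace for an eigenvalue `c` with `c * c = -1` of an isometry is totally singular -/
theorem eigen_ts (h2 : (2 : F) ≠ 0) (Q : QuadraticForm F V) (f : Module.End F V)
    (hf : ∀ v, Q (f v) = Q v) (c : F) (hc : c * c = -1) (v : V) (hv : f v = c • v) : Q v = 0 := by
  have h := hf v
  rw [hv, QuadraticMap.map_smul, hc, smul_eq_mul] at h
  have h' : (2 : F) * Q v = 0 := by
    rw [two_mul]
    nth_rewrite 1 [← h]
    ring
  rcases mul_eq_zero.mp h' with h0 | h0
  · exact absurd h0 h2
  · exact h0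

/-- the two eigenspaces span -/
theorem eigen_sup (h2 : (2 : F) ≠ 0) (f : Module.End F V) (hff : ∀ v, f (f v) = -v) (c : F)
    (hc : c * c = -1) :
    LinearMap.ker (f - c • (1 : Module.End F V)) ⊔ LinearMap.ker (f + c • (1 : Module.End F V)) = ⊤ := by
  rw [eq_top_iff]
  intro v _
  rw [Submodule.mem_sup]
  refine ⟨(2 : F)⁻¹ • (v - c • f v), ?_, (2 : F)⁻¹ • (v + c • f v), ?_, ?_⟩
  · rw [LinearMap.mem_ker, LinearMap.sub_apply, LinearMap.smul_apply, Module.End.one_apply,
      map_smul, map_sub, map_smul, hff]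
    linear_combination (norm := module) ((2 : F)⁻¹ * hc) • (f v)
  · rw [LinearMap.mem_ker, LinearMap.add_apply, LinearMap.smul_apply, Module.End.one_apply,
      map_smul, map_add, map_smul, hff]
    linear_combination (norm := module) ((2 : F)⁻¹ * hc) • (f v)
  · rw [← smul_add]
    have : v - c • f v + (v + c • f v) = (2 : F) • v := by
      rw [two_smul]; abel
    rw [this, smul_smul, inv_mul_cancel₀ h2, one_smul]

end R2SUFF2

section Matrix

variable {F : Type*} [Field F] [Fintype F] {ι : Type} [Fintype ι] [DecidableEq ι]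

/-- R2SUFF2: isometries with `x * x = -1` fix totally singular `m`-spaces -/
theorem r2_suff_neg (h2 : (2 : F) ≠ 0) (Q : QuadraticForm F (ι → F)) (hQ : ND Q) (d : ℕ)
    (hcard : Fintype.card ι = 2 * d) (m : ℕ) (hmd : m + 1 ≤ d)
    (hcond : Fintype.card F % 4 = 1 ∨ Even m)
    (x : Matrix ι ι F) (hx : ∀ v, Q (x.mulVec v) = Q v) (hxx : x * x = -1) :
    ∃ W : Submodule F (ι → F), finrank F W = m ∧ (∀ w ∈ W, Q w = 0) ∧
      W.map (Matrix.toLin' x) ≤ W := by
  have hff : ∀ v, Matrix.toLin' x (Matrix.toLin' x v) = -v := by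
    intro v
    rw [← LinearMap.comp_apply, ← Matrix.toLin'_mul, hxx]
    simp
  have hf : ∀ v, Q (Matrix.toLin' x v) = Q v := by
    intro v
    rw [Matrix.toLin'_apply]
    exact hx v
  by_cases hsq : IsSquare (-1 : F)
  · obtain ⟨c, hc⟩ := hsq
    set f := Matrix.toLin' x with hfdef
    have hsup := R2SUFF2.eigen_sup h2 f hff c hc.symm
    have hfin := Submodule.finrank_add_le_finrank_add_finrank
      (LinearMap.ker (f - c • (1 : Module.End F (ι → F))))
      (LinearMap.ker (f + c • (1 : Module.End F (ι → F))))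
    rw [hsup, finrank_top, Module.finrank_fintype_fun_eq_card, hcard] at hfin
    have key : ∀ (E : Submodule F (ι → F)) (c' : F), c' * c' = -1 → (∀ w ∈ E, f w = c' • w) →
        m ≤ finrank F E →
        ∃ W : Submodule F (ι → F), finrank F W = m ∧ (∀ w ∈ W, Q w = 0) ∧ W.map f ≤ W := by
      intro E c' hc' hE hm
      obtain ⟨W, hWle, hWd⟩ := Cfsg.Agent.S5949P.Basic.exists_submodule_le_finrank_eq E m hm
      have hev : ∀ w ∈ W, f w = c' • w := fun w hw => hE w (hWle hw)
      refine ⟨W, hWd, ?_, ?_⟩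
      · intro w hw
        exact R2SUFF2.eigen_ts h2 Q f hf c' hc' w (hev w hw)
      · rintro _ ⟨w, hw, rfl⟩
        rw [hev w hw]
        exact W.smul_mem _ hw
    by_cases hcase : m ≤ finrank F (LinearMap.ker (f - c • (1 : Module.End F (ι → F))))
    · refine key _ c hc.symm ?_ hcase
      intro w hw
      rw [LinearMap.mem_ker, LinearMap.sub_apply, LinearMap.smul_apply, Module.End.one_apply,
        sub_eq_zero] at hw
      exact hw
    · refine key (LinearMap.ker (f + c • (1 : Module.End F (ι → F)))) (-c)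
        (by rw [neg_mul_neg]; exact hc.symm) ?_ (by omega)
      intro w hw
      rw [LinearMap.mem_ker, LinearMap.add_apply, LinearMap.smul_apply, Module.End.one_apply,
        add_eq_zero_iff_eq_neg] at hw
      rw [hw, neg_smul]
  · have h3 : Fintype.card F % 4 = 3 := by
      by_contra h
      exact hsq (FiniteField.isSquare_neg_one_iff.mpr h)
    rcases hcond with h1 | hev
    · omega
    · obtain ⟨k, hk⟩ := hev
      obtain ⟨W, hWd, hWts, hWinv⟩ := exists_ts_of_sq_neg_one h2 hsq Q hQ d hcard x hx hxx k (by omega)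
      exact ⟨W, by rw [hWd, hk, two_mul], hWts, hWinv⟩

end Matrix

end Cfsg.Agent.S5973P
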