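import Mathlib
import Cfsg.Prelude.Def_GeometricClasses
import Cfsg.Prelude.Def_Classical
import Cfsg.Prelude.Def_LieClassical
import Cfsg.Agent.Helper6.S5992Defs

/-! S5992 piece DISCBASIS (helper8). -/

set_option autoImplicit false
open scoped MatrixGroups
universe u

namespace Cfsg.Agent.S5992P

open Cfsg.Agent.Helper2.SympInvol Cfsg.Agent.Helper2.SympUnits Cfsg.Agent.S5961P Cfsg.Agent.S2614
  Cfsg.Agent.S5955P

namespace DISCBASIS

variable {F V : Type*} [Field F] [AddCommGroup V] [Module F V]

/-- the Gram determinant is the determinant of the matrix of the restricted polar form -/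
theorem gramDet_eq (Q : QuadraticForm F V) (W : Submodule F V) {k : ℕ}
    (b : Module.Basis (Fin k) F W) :
    gramDet Q (fun i => (b i : V)) = (LinearMap.BilinForm.toMatrix b ((PB Q).restrict W)).det := by
  unfold gramDet
  congr 1
  ext i j
  rw [Matrix.of_apply, LinearMap.BilinForm.toMatrix_apply]
  rfl

/-- change of basis -/
theorem gramDet_change (Q : QuadraticForm F V) (W : Submodule F V) {k : ℕ}
    (b b' : Module.Basis (Fin k) F W) :
    gramDet Q (fun i => (b' i : V)) =
      gramDet Q (fun i => (b i : V)) * (b.toMatrix b').det ^ 2 := by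
  rw [gramDet_eq, gramDet_eq, ← LinearMap.BilinForm.toMatrix_mul_basis_toMatrix b b',
    Matrix.det_mul, Matrix.det_mul, Matrix.det_transpose]
  ring

theorem det_toMatrix_ne_zero (W : Submodule F V) {k : ℕ} (b b' : Module.Basis (Fin k) F W) :
    (b.toMatrix b').det ≠ 0 := by
  have h := Module.Basis.toMatrix_mul_toMatrix_flip b b'
  intro h0
  have h1 := congrArg Matrix.det h
  rw [Matrix.det_mul, h0, zero_mul, Matrix.det_one] at h1
  exact zero_ne_one h1

theorem isSquare_mul_sq_iff (x d : F) (hd : d ≠ 0) : IsSquare (x * d ^ 2) ↔ IsSquare x := by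
  constructor
  · rintro ⟨z, hz⟩
    refine ⟨z / d, ?_⟩
    field_simp
    rw [hz]
    ring
  · rintro ⟨z, rfl⟩
    exact ⟨z * d, by ring⟩

theorem nondeg_iff_nondegenerate (Q : QuadraticForm F V) (W : Submodule F V) :
    Nondeg (PB Q) W ↔ ((PB Q).restrict W).Nondegenerate := by
  constructor
  · intro h
    have hl : ((PB Q).restrict W).SeparatingLeft := by
      intro x hx
      by_contra hx0
      obtain ⟨v, hv, hne⟩ := h x x.2 (fun h0 => hx0 (Subtype.ext h0))
      exact hne (hx ⟨v, hv⟩)
    refine ⟨hl, ?_⟩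
    intro y hy
    apply hl
    intro x
    have h1 : PB Q (x : V) (y : V) = 0 := hy x
    show PB Q (y : V) (x : V) = 0
    rw [PB_comm]
    exact h1
  · intro h w hw hw0
    by_contra hcon
    push Not at hcon
    apply hw0
    have := h.1 ⟨w, hw⟩ (fun y => hcon y y.2)
    exact congrArg Subtype.val this

end DISCBASIS

open DISCBASIS in
/-- DISCBASIS -/
theorem discSq_iff {F V : Type*} [Field F] [AddCommGroup V] [Module F V] [FiniteDimensional F V]
    (Q : QuadraticForm F V) (W : Submodule F V) {k : ℕ} (b : Module.Basis (Fin k) F W) :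
    (DiscSq Q W ↔ IsSquare ((-1 : F) ^ (k / 2) * gramDet Q (fun i => (b i : V)))) ∧
    (Nondeg (PB Q) W ↔ gramDet Q (fun i => (b i : V)) ≠ 0) := by
  have hk : k = Module.finrank F W := by
    rw [Module.finrank_eq_card_basis b, Fintype.card_fin]
  refine ⟨?_, ?_⟩
  · subst hk
    constructor
    · rintro ⟨b', hb'⟩
      rw [gramDet_change Q W b b', ← mul_assoc,
        isSquare_mul_sq_iff _ _ (det_toMatrix_ne_zero W b b')] at hb'
      exact hb'
    · intro h
      exact ⟨b, h⟩
  · rw [nondeg_iff_nondegenerate, gramDet_eq,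
      LinearMap.BilinForm.nondegenerate_iff_det_ne_zero b]

end Cfsg.Agent.S5992P
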