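import Mathlib
import Cfsg.Prelude.Def_GeometricClasses
import Cfsg.Prelude.Def_Classical
import Cfsg.Prelude.Def_LieClassical
import Cfsg.Agent.Helper6.S5992Defs
import Cfsg.Agent.Helper8.S5992DISCBASIS
import Cfsg.Agent.Helper15.S5992SUPND

/-! S5992 piece DISCSUM (helper8). -/

set_option autoImplicit false
open scoped MatrixGroups
universe u

namespace Cfsg.Agent.S5992P

open Cfsg.Agent.Helper2.SympInvol Cfsg.Agent.Helper2.SympUnits Cfsg.Agent.S5961P Cfsg.Agent.S2614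
  Cfsg.Agent.S5955P

namespace DISCSUM

theorem isSquare_mul_iff_ff {F : Type*} [Field F] [Fintype F] (h2 : (2 : F) ≠ 0) {a b : F}
    (ha : a ≠ 0) (hb : b ≠ 0) : IsSquare (a * b) ↔ (IsSquare a ↔ IsSquare b) := by
  classical
  rw [← quadraticChar_one_iff_isSquare (mul_ne_zero ha hb), ← quadraticChar_one_iff_isSquare ha,
    ← quadraticChar_one_iff_isSquare hb, map_mul]
  rcases quadraticChar_dichotomy ha with h | h <;> rcases quadraticChar_dichotomy hb with h' | h' <;>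
    rw [h, h'] <;> norm_num

variable {F V : Type*} [Field F] [AddCommGroup V] [Module F V]

theorem span_coe_basis (W : Submodule F V) {k : ℕ} (b : Module.Basis (Fin k) F W) :
    Submodule.span F (Set.range (fun i => (b i : V))) = W := by
  have h : (fun i => (b i : V)) = W.subtype ∘ b := rfl
  rw [h, Set.range_comp, ← Submodule.map_span, b.span_eq, Submodule.map_subtype_top]

theorem li_coe_basis (W : Submodule F V) {k : ℕ} (b : Module.Basis (Fin k) F W) :
    LinearIndependent F (fun i => (b i : V)) :=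
  b.linearIndependent.map' W.subtype (Submodule.ker_subtype W)

/-- the concatenated family -/
def cat {k₁ k₂ : ℕ} (v₁ : Fin k₁ → V) (v₂ : Fin k₂ → V) : Fin (k₁ + k₂) → V :=
  Sum.elim v₁ v₂ ∘ finSumFinEquiv.symm

theorem gramDet_cat (Q : QuadraticForm F V) {k₁ k₂ : ℕ} (v₁ : Fin k₁ → V) (v₂ : Fin k₂ → V)
    (ho : ∀ i j, QuadraticMap.polar Q (v₁ i) (v₂ j) = 0) :
    gramDet Q (cat v₁ v₂) = gramDet Q v₁ * gramDet Q v₂ := by
  unfold gramDet
  have h : (Matrix.of fun i j : Fin (k₁ + k₂) => QuadraticMap.polar Q (cat v₁ v₂ i) (cat v₁ v₂ j)) =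
      (Matrix.fromBlocks (Matrix.of fun i j : Fin k₁ => QuadraticMap.polar Q (v₁ i) (v₁ j)) 0 0
        (Matrix.of fun i j : Fin k₂ => QuadraticMap.polar Q (v₂ i) (v₂ j))).submatrix
        finSumFinEquiv.symm finSumFinEquiv.symm := by
    ext i j
    rw [Matrix.submatrix_apply, Matrix.of_apply]
    unfold cat
    simp only [Function.comp_apply]
    rcases finSumFinEquiv.symm i with a | a <;> rcases finSumFinEquiv.symm j with c | c
    · simp
    · simp [ho]
    · simp only [Sum.elim_inr, Sum.elim_inl, Matrix.fromBlocks_apply₂₁, Matrix.zero_apply]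
      rw [QuadraticMap.polar_comm]
      exact ho c a
    · simp
  rw [h, Matrix.det_submatrix_equiv_self, Matrix.det_fromBlocks_zero₂₁]

theorem span_cat {k₁ k₂ : ℕ} (v₁ : Fin k₁ → V) (v₂ : Fin k₂ → V) :
    Submodule.span F (Set.range (cat v₁ v₂)) =
      Submodule.span F (Set.range v₁) ⊔ Submodule.span F (Set.range v₂) := by
  unfold cat
  rw [Set.range_comp, Set.range_eq_univ.mpr finSumFinEquiv.symm.surjective, Set.image_univ,
    Set.Sum.elim_range, Submodule.span_union]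

theorem li_cat {k₁ k₂ : ℕ} (v₁ : Fin k₁ → V) (v₂ : Fin k₂ → V) (h₁ : LinearIndependent F v₁)
    (h₂ : LinearIndependent F v₂)
    (hd : Disjoint (Submodule.span F (Set.range v₁)) (Submodule.span F (Set.range v₂))) :
    LinearIndependent F (cat v₁ v₂) := by
  unfold cat
  exact (LinearIndependent.sum_type h₁ h₂ hd).comp _ finSumFinEquiv.symm.injective

end DISCSUM

open DISCSUM DISCBASIS in
/-- DISCSUM -/
theorem discSq_sup {F V : Type*} [Field F] [Fintype F] [AddCommGroup V] [Module F V]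
    [FiniteDimensional F V] (h2 : (2 : F) ≠ 0) (Q : QuadraticForm F V) (W₁ W₂ : Submodule F V)
    (h₁ : Nondeg (PB Q) W₁) (h₂ : Nondeg (PB Q) W₂) (ho : Orth (PB Q) W₁ W₂)
    (he₁ : Even (Module.finrank F W₁)) (he₂ : Even (Module.finrank F W₂)) :
    DiscSq Q (W₁ ⊔ W₂) ↔ (DiscSq Q W₁ ↔ DiscSq Q W₂) := by
  obtain ⟨-, hdisj, -⟩ := nondeg_sup_orth Q W₁ W₂ h₁ h₂ ho
  set b₁ := Module.finBasis F W₁ with hb₁
  set b₂ := Module.finBasis F W₂ with hb₂
  set v₁ : Fin (Module.finrank F W₁) → V := fun i => (b₁ i : V) with hv₁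
  set v₂ : Fin (Module.finrank F W₂) → V := fun i => (b₂ i : V) with hv₂
  have hs₁ : Submodule.span F (Set.range v₁) = W₁ := span_coe_basis W₁ b₁
  have hs₂ : Submodule.span F (Set.range v₂) = W₂ := span_coe_basis W₂ b₂
  have hli : LinearIndependent F (cat v₁ v₂) := by
    apply li_cat v₁ v₂ (li_coe_basis W₁ b₁) (li_coe_basis W₂ b₂)
    rw [hs₁, hs₂]
    exact hdisj
  have hspan : Submodule.span F (Set.range (cat v₁ v₂)) = W₁ ⊔ W₂ := by
    rw [span_cat, hs₁, hs₂]
  set B : Module.Basis (Fin (Module.finrank F W₁ + Module.finrank F W₂)) F ↥(W₁ ⊔ W₂) :=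
    (Module.Basis.span hli).map (LinearEquiv.ofEq _ _ hspan) with hB
  have hBv : (fun i => (B i : V)) = cat v₁ v₂ := by
    funext i
    rw [hB, Module.Basis.map_apply, LinearEquiv.coe_ofEq_apply, Module.Basis.span_apply]
  have hoo : ∀ i j, QuadraticMap.polar Q (v₁ i) (v₂ j) = 0 := by
    intro i j
    exact ho (v₁ i) (b₁ i).2 (v₂ j) (b₂ j).2
  have hg := gramDet_cat Q v₁ v₂ hoo
  have hd₁ : gramDet Q v₁ ≠ 0 := (discSq_iff Q W₁ b₁).2.mp h₁
  have hd₂ : gramDet Q v₂ ≠ 0 := (discSq_iff Q W₂ b₂).2.mp h₂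
  rw [(discSq_iff Q (W₁ ⊔ W₂) B).1, (discSq_iff Q W₁ b₁).1, (discSq_iff Q W₂ b₂).1, hBv, hg]
  have hexp : (Module.finrank F W₁ + Module.finrank F W₂) / 2 =
      Module.finrank F W₁ / 2 + Module.finrank F W₂ / 2 :=
    Nat.add_div_of_dvd_right (even_iff_two_dvd.mp he₁)
  rw [hexp, pow_add]
  have hne : ∀ n : ℕ, ((-1 : F)) ^ n ≠ 0 := fun n => pow_ne_zero _ (neg_ne_zero.mpr one_ne_zero)
  rw [← isSquare_mul_iff_ff h2 (mul_ne_zero (hne _) hd₁) (mul_ne_zero (hne _) hd₂)]
  have : (-1 : F) ^ (Module.finrank F W₁ / 2) * (-1) ^ (Module.finrank F W₂ / 2) *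
      (gramDet Q v₁ * gramDet Q v₂) =
      (-1) ^ (Module.finrank F W₁ / 2) * gramDet Q v₁ *
        ((-1) ^ (Module.finrank F W₂ / 2) * gramDet Q v₂) := by ring
  rw [this]

end Cfsg.Agent.S5992P
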