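import Cfsg.Agent.Helper8.S1904Defs
import Cfsg.Agent.Helper23.S1904T4
import Cfsg.Agent.Helper19.S1904T5

/-! Rows T2 and T3 of the board `s1904pieces` (blueprint `departures/helper8_S1904_blueprint.md`). -/

set_option autoImplicit false

namespace Cfsg.Agent.S1904P

variable {X : Type*} [Group X] [Finite X] {A : Subgroup (MulAut X)}

/-- T2: a normal subgroup fixed pointwise by `A` is central. -/
theorem T2 (H : Hyp A) (N : Subgroup X) (hN : N.Normal) (hfix : ∀ φ ∈ A, ∀ n ∈ N, φ n = n) :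
    N ≤ Subgroup.center X :=
  T4_aux_fixed_central H N hN hfix

/-- T3: an element of `A` fixing `Ω₁(M)` pointwise fixes the invariant abelian subgroup `M` pointwise. -/
theorem T3 (H : Hyp A) (M : Subgroup X) (hI : Inv A M) (hc : ∀ a ∈ M, ∀ b ∈ M, a * b = b * a)
    (φ : MulAut X) (hφ : φ ∈ A) (h1 : ∀ m ∈ M, m * m = 1 → φ m = m) : ∀ m ∈ M, φ m = m := by
  obtain ⟨r, hr⟩ := T5_aux_odd H φ hφ
  have key : ∀ k : ℕ, ∀ m ∈ M, m ^ (2 ^ k) = 1 → φ m = m := by
    intro k
    induction k with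
    | zero =>
      intro m _ hm
      have : m = 1 := by simpa using hm
      rw [this, map_one]
    | succ k ih =>
      intro m hm hmk
      have hm2 : m * m ∈ M := mul_mem hm hm
      have h2 : φ (m * m) = m * m := by
        apply ih _ hm2
        rw [← pow_two, ← pow_mul, ← pow_succ']
        exact hmk
      have hφm : φ m ∈ M := hI φ hφ m hm
      have hcM : m⁻¹ * φ m ∈ M := mul_mem (inv_mem hm) hφm
      have hcc : (m⁻¹ * φ m) * (m⁻¹ * φ m) = 1 := by
        have e1 : φ m * m⁻¹ = m⁻¹ * φ m := hc _ hφm _ (inv_mem hm)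
        have e2 : φ m * φ m = m * m := by rw [← map_mul]; exact h2
        calc (m⁻¹ * φ m) * (m⁻¹ * φ m) = m⁻¹ * (φ m * m⁻¹) * φ m := by group
          _ = m⁻¹ * (m⁻¹ * φ m) * φ m := by rw [e1]
          _ = m⁻¹ * m⁻¹ * (φ m * φ m) := by group
          _ = m⁻¹ * m⁻¹ * (m * m) := by rw [e2]
          _ = 1 := by group
      have hfc : φ (m⁻¹ * φ m) = m⁻¹ * φ m := h1 _ hcM hcc
      have hφφ : φ (φ m) = m := by
        have e3 : φ m = m * (m⁻¹ * φ m) := by group
        have e4 : φ (φ m) = φ m * (m⁻¹ * φ m) := by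
          conv_lhs => rw [e3]
          rw [map_mul, hfc]
        rw [e4]
        calc φ m * (m⁻¹ * φ m) = m * ((m⁻¹ * φ m) * (m⁻¹ * φ m)) := by group
          _ = m := by rw [hcc, mul_one]
      exact T5_aux_odd_fix φ r hr m hφφ
  intro m hm
  obtain ⟨k, hk⟩ := (IsPGroup.iff_orderOf.1 H.pX) m
  apply key k m hm
  rw [← hk]
  exact pow_orderOf_eq_one m

end Cfsg.Agent.S1904P
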