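import Cfsg.Agent.Helper8.S1904Defs
import Cfsg.Agent.Helper18.S1904B4core
import Cfsg.Agent.Helper24.S1904B1
import Cfsg.Agent.Helper8.S1904B3
import Cfsg.Agent.Helper8.S1904T23

/-! Row B4 of the board `s1904pieces` (wrapper around the landed core; blueprint
`departures/helper8_S1904_blueprint.md`). -/

set_option autoImplicit false

namespace Cfsg.Agent.S1904P

variable {X : Type*} [Group X] [Finite X] {A : Subgroup (MulAut X)} {B : Subgroup X}

/-- B4: `|A| = 3`. -/
theorem B4 (H : Hyp A) (hB : MaxAb A B) : Nat.card A = 3 := by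
  obtain ⟨h4, -, hΩ, -, hnf⟩ := B1 H hB
  exact B4_core H hB h4 hΩ hnf (B3 H hB)
    (fun φ hφ h1 => T3 H B hB.inv hB.comm φ hφ h1)

end Cfsg.Agent.S1904P
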