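import Mathlib
import Cfsg.Agent.Helper2.S2096.Defs
import Cfsg.Agent.Helper25.S2096WXID
import Cfsg.Agent.Helper5.S2096TXID
import Cfsg.Agent.Helper5.S2096TXCHAIN
import Cfsg.Agent.Helper16.S2096TXDG
import Cfsg.Agent.Helper16.S2096DGH
import Cfsg.Agent.Helper24.S2096HABEL

set_option autoImplicit false
set_option linter.unusedSectionVars false
set_option linter.unusedVariables false

/-! S2096/S2097 part B, piece HGEN (driver helper2): every element of `Ĥ` is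
`Θ (dgS d) * tX (e_o) (f_o1) s`. -/

namespace Cfsg.Agent.S2096P

open Matrix Cfsg.Agent.S3352P Cfsg.Agent.S3351P Cfsg.Agent.S2086P

variable {n : ℕ} {F : Type*} [Field F] [Fintype F] {M : Type*} [Group M] {X : J n → J n → F → M}

namespace HGEN

/-- the normal form -/
def InT (X : J n → J n → F → M) (Θ : Matrix.SpecialLinearGroup (Fin n) F →* M) (o o1 : Fin n)
    (h : M) : Prop :=
  ∃ (d : Tor n F) (s : Fˣ), h = Θ (dgS n F d) * tX X (Sum.inl o) (Sum.inr o1) (s : F)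

theorem isRoot_ll {i j : Fin n} (h : i ≠ j) : IsRoot (Sum.inl i : J n) (Sum.inl j) := by
  refine ⟨fun e => h (Sum.inl_injective e), fun e => ?_⟩
  rw [ng_inl] at e
  exact Sum.inl_ne_inr e

theorem isRoot_lr {i j : Fin n} (h : i ≠ j) : IsRoot (Sum.inl i : J n) (Sum.inr j) := by
  refine ⟨Sum.inl_ne_inr, fun e => ?_⟩
  rw [ng_inr] at e
  exact h (Sum.inl_injective e)

theorem isRoot_rr {i j : Fin n} (h : i ≠ j) : IsRoot (Sum.inr i : J n) (Sum.inr j) := by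
  refine ⟨fun e => h (Sum.inr_injective e), fun e => ?_⟩
  rw [ng_inr] at e
  exact Sum.inr_ne_inl e

theorem tX_mem_Hh {a b : J n} (hab : IsRoot a b) {t : F} (ht : t ≠ 0) : tX X a b t ∈ Hh X :=
  Subgroup.subset_closure ⟨a, b, t, hab, ht, rfl⟩

section

variable (π : M →* Matrix (J n) (J n) F)
  (hπ : ∀ a b, IsRoot a b → ∀ t : F, π (X a b t) = xm a b t)
  (Θ : Matrix.SpecialLinearGroup (Fin n) F →* M)
  (hΘ : ∀ (i j : Fin n) (hij : i ≠ j) (t : F),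
    Θ (Matrix.SpecialLinearGroup.transvection hij t) = X (Sum.inl i) (Sum.inl j) t)
  (hn : 3 ≤ n) (hX : DRel X) {o o1 : Fin n} (ho : o ≠ o1)

include π hπ hΘ hn hX ho

theorem inT_mul {h₁ h₂ : M} (H₁ : InT X Θ o o1 h₁) (H₂ : InT X Θ o o1 h₂) :
    InT X Θ o o1 (h₁ * h₂) := by
  obtain ⟨d₁, s₁, rfl⟩ := H₁
  obtain ⟨d₂, s₂, rfl⟩ := H₂
  refine ⟨d₁ * d₂, s₁ * s₂, ?_⟩
  have hc : tX X (Sum.inl o) (Sum.inr o1) (s₁ : F) * Θ (dgS n F d₂) =
      Θ (dgS n F d₂) * tX X (Sum.inl o) (Sum.inr o1) (s₁ : F) :=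
    Hh_comm π hπ hn hX (tX_mem_Hh (isRoot_lr ho) s₁.ne_zero) (Theta_dgS_mem_Hh Θ hΘ hn hX d₂)
  rw [map_mul, map_mul, Units.val_mul, tX_mul hn hX (isRoot_lr ho) s₁.ne_zero s₂.ne_zero]
  calc Θ (dgS n F d₁) * tX X (Sum.inl o) (Sum.inr o1) ↑s₁ *
        (Θ (dgS n F d₂) * tX X (Sum.inl o) (Sum.inr o1) ↑s₂)
      = Θ (dgS n F d₁) * (tX X (Sum.inl o) (Sum.inr o1) ↑s₁ * Θ (dgS n F d₂)) *
          tX X (Sum.inl o) (Sum.inr o1) ↑s₂ := by group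
    _ = Θ (dgS n F d₁) * Θ (dgS n F d₂) *
        (tX X (Sum.inl o) (Sum.inr o1) ↑s₁ * tX X (Sum.inl o) (Sum.inr o1) ↑s₂) := by
      rw [hc]; group

theorem inT_inv {h : M} (H : InT X Θ o o1 h) : InT X Θ o o1 h⁻¹ := by
  obtain ⟨d, s, rfl⟩ := H
  refine ⟨d⁻¹, s⁻¹, ?_⟩
  have hc : tX X (Sum.inl o) (Sum.inr o1) ((s⁻¹ : Fˣ) : F) * Θ (dgS n F d⁻¹) =
      Θ (dgS n F d⁻¹) * tX X (Sum.inl o) (Sum.inr o1) ((s⁻¹ : Fˣ) : F) :=
    Hh_comm π hπ hn hX (tX_mem_Hh (isRoot_lr ho) (s⁻¹).ne_zero) (Theta_dgS_mem_Hh Θ hΘ hn hX d⁻¹)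
  have h1 : tX X (Sum.inl o) (Sum.inr o1) (s : F) * tX X (Sum.inl o) (Sum.inr o1) ((s⁻¹ : Fˣ) : F)
      = 1 := by
    rw [← tX_mul hn hX (isRoot_lr ho) s.ne_zero (s⁻¹).ne_zero, ← Units.val_mul, mul_inv_cancel,
      Units.val_one, tX_one hX (isRoot_lr ho)]
  rw [_root_.mul_inv_rev, ← hc, inv_eq_of_mul_eq_one_right h1, map_inv, map_inv]

theorem inT_ll {i j : Fin n} (hij : i ≠ j) {t : F} (ht : t ≠ 0) :
    InT X Θ o o1 (tX X (Sum.inl i) (Sum.inl j) t) := by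
  refine ⟨tor2 i j hij (Units.mk0 t ht), 1, ?_⟩
  rw [Units.val_one, tX_one hX (isRoot_lr ho), mul_one,
    ← tX_eq_Theta Θ hΘ hn hX hij (Units.mk0 t ht), Units.val_mk0]

theorem inT_rr {i j : Fin n} (hij : i ≠ j) {t : F} (ht : t ≠ 0) :
    InT X Θ o o1 (tX X (Sum.inr i) (Sum.inr j) t) := by
  have h1 := tX_flip hn hX (isRoot_ll (Ne.symm hij)) ht
  rw [ng_inl, ng_inl] at h1
  rw [h1]
  exact inT_ll π hπ Θ hΘ hn hX ho (Ne.symm hij) ht

/-- first index `e_o` -/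
theorem inT_base {j : Fin n} (hoj : o ≠ j) {t : F} (ht : t ≠ 0) :
    InT X Θ o o1 (tX X (Sum.inl o) (Sum.inr j) t) := by
  by_cases hj : j = o1
  · subst hj
    exact ⟨1, Units.mk0 t ht, by rw [map_one, map_one, one_mul, Units.val_mk0]⟩
  · rw [tX_chain hn hX (isRoot_lr ho) (isRoot_rr (Ne.symm hj)) (isRoot_lr hoj) ht]
    exact inT_mul π hπ Θ hΘ hn hX ho ⟨1, Units.mk0 t ht, by rw [map_one, map_one, one_mul, Units.val_mk0]⟩
      (inT_rr π hπ Θ hΘ hn hX ho (Ne.symm hj) ht)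

theorem inT_lr {i j : Fin n} (hij : i ≠ j) {t : F} (ht : t ≠ 0) :
    InT X Θ o o1 (tX X (Sum.inl i) (Sum.inr j) t) := by
  by_cases hio : i = o
  · subst hio
    exact inT_base π hπ Θ hΘ hn hX ho hij ht
  by_cases hjo : j = o
  · subst hjo
    have h1 := tX_flip hn hX (isRoot_lr (Ne.symm hij)) ht
    rw [ng_inr, ng_inl] at h1
    rw [h1]
    exact inT_base π hπ Θ hΘ hn hX ho (Ne.symm hij) ht
  · rw [tX_chain hn hX (isRoot_ll hio) (isRoot_lr (Ne.symm hjo)) (isRoot_lr hij) ht]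
    exact inT_mul π hπ Θ hΘ hn hX ho (inT_ll π hπ Θ hΘ hn hX ho hio ht)
      (inT_base π hπ Θ hΘ hn hX ho (Ne.symm hjo) ht)

end

end HGEN

open HGEN

/-- HGEN -/
theorem exists_of_mem_Hh (π : M →* Matrix (J n) (J n) F)
    (hπ : ∀ a b, IsRoot a b → ∀ t : F, π (X a b t) = xm a b t) (Θ : Matrix.SpecialLinearGroup (Fin n) F →* M)
    (hΘ : ∀ (i j : Fin n) (hij : i ≠ j) (t : F),
      Θ (Matrix.SpecialLinearGroup.transvection hij t) = X (Sum.inl i) (Sum.inl j) t) (hn : 3 ≤ n) (hX : DRel X) {o o1 : Fin n} (ho : o ≠ o1) {h : M}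
    (hh : h ∈ Hh X) :
    ∃ (d : Tor n F) (s : Fˣ), h = Θ (dgS n F d) * tX X (Sum.inl o) (Sum.inr o1) (s : F) := by
  change InT X Θ o o1 h
  unfold Hh at hh
  induction hh using Subgroup.closure_induction with
  | mem x hx =>
    obtain ⟨a, b, t, hab, ht, rfl⟩ := hx
    rcases a with i | i <;> rcases b with j | j
    · exact inT_ll π hπ Θ hΘ hn hX ho (fun e => hab.1 (by rw [e])) ht
    · exact inT_lr π hπ Θ hΘ hn hX ho (fun e => hab.2 (by rw [e, ng_inr])) ht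
    · have hji : j ≠ i := fun e => hab.2 (by rw [e, ng_inl])
      rw [tX_swap hn hX (isRoot_lr hji) ht]
      exact inT_lr π hπ Θ hΘ hn hX ho hji (inv_ne_zero ht)
    · exact inT_rr π hπ Θ hΘ hn hX ho (fun e => hab.1 (by rw [e])) ht
  | one =>
    exact ⟨1, 1, by rw [map_one, map_one, one_mul, Units.val_one, tX_one hX (isRoot_lr ho)]⟩
  | mul x y _ _ hx hy => exact inT_mul π hπ Θ hΘ hn hX ho hx hy
  | inv x _ hx => exact inT_inv π hπ Θ hΘ hn hX ho hx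

end Cfsg.Agent.S2096P
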