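import Mathlib
import Cfsg.Prelude.Def_ClassicalGeometry
import Cfsg.Agent.Helper16.S5955Defs

set_option autoImplicit false
set_option linter.unusedVariables false
open scoped MatrixGroups

/-! S5955 piece TIHALF. -/

universe u

namespace Cfsg.Agent.S5955P

open Polynomial Cfsg.Agent.Helper2.SympInvol Cfsg.Agent.Helper2.SympUnits Cfsg.Agent.S5961P

/-- TIHALF -/
theorem ti_le_half {F V : Type*} [Field F] [AddCommGroup V] [Module F V]
    [FiniteDimensional F V] (B : LinearMap.BilinForm F V) (halt : ∀ v, B v v = 0)
    (M W : Submodule F V) (hM : Nondeg B M) (hWM : W ≤ M) (hW : Orth B W W) :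
    2 * Module.finrank F W ≤ Module.finrank F M := by
  classical
  -- `ψ : W → Dual M`
  let ψ : W →ₗ[F] Module.Dual F M := B.domRestrict₁₂ W M
  have hψ : Function.Injective ψ := by
    rw [← LinearMap.ker_eq_bot, LinearMap.ker_eq_bot']
    intro w hw
    by_contra hw0
    have hw0' : (w : V) ≠ 0 := fun h => hw0 (Subtype.ext h)
    obtain ⟨v, hv, hBv⟩ := hM w (hWM w.2) hw0'
    apply hBv
    have := LinearMap.congr_fun hw ⟨v, hv⟩
    exact this
  have h1 : Module.finrank F (LinearMap.range ψ) = Module.finrank F W :=
    LinearMap.finrank_range_of_inj hψ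
  have h2 := Subspace.finrank_add_finrank_dualCoannihilator_eq (LinearMap.range ψ)
  -- `W` sits inside the coannihilator
  let ι : W →ₗ[F] M := Submodule.inclusion hWM
  have hι : Function.Injective ι := Submodule.inclusion_injective hWM
  have h3 : LinearMap.range ι ≤ (LinearMap.range ψ).dualCoannihilator := by
    rintro _ ⟨w, rfl⟩
    rw [Submodule.mem_dualCoannihilator]
    rintro _ ⟨w', rfl⟩
    show B w' w = 0
    exact hW w' w'.2 w w.2
  have h4 : Module.finrank F (LinearMap.range ι) = Module.finrank F W :=
    LinearMap.finrank_range_of_inj hι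
  have h5 := Submodule.finrank_mono h3
  omega

end Cfsg.Agent.S5955P
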