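import Mathlib
import Cfsg.Prelude.Def_ClassicalGeometry
import Cfsg.Agent.Helper16.S5955Defs

set_option autoImplicit false
open scoped MatrixGroups

/-! S5955 piece TIEX0. -/

universe u

namespace Cfsg.Agent.S5955P

open Polynomial Cfsg.Agent.Helper2.SympInvol Cfsg.Agent.Helper2.SympUnits Cfsg.Agent.S5961P

/-- TIEX0 -/
theorem exists_ti_sub {F V : Type*} [Field F] [AddCommGroup V] [Module F V]
    [FiniteDimensional F V] (B : LinearMap.BilinForm F V) (halt : ∀ v, B v v = 0)
    (M : Submodule F V) (hM : Nondeg B M) (k : ℕ) (hk : 2 * k ≤ Module.finrank F M) :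
    ∃ U : Submodule F V, U ≤ M ∧ Orth B U U ∧ Module.finrank F U = k := by
  classical
  induction k generalizing M with
  | zero =>
    refine ⟨⊥, bot_le, ?_, finrank_bot F V⟩
    intro a ha b _
    rw [Submodule.mem_bot] at ha
    subst ha
    simp
  | succ k ih =>
    have hMne : M ≠ ⊥ := by
      rintro rfl
      rw [finrank_bot] at hk
      omega
    obtain ⟨u, hu, hu0⟩ := Submodule.exists_mem_ne_zero_of_ne_bot hMne
    obtain ⟨w, hw, huw⟩ := hM u hu hu0
    have hM' := nondeg_perp2 B halt M hM hu hw huw
    -- dimension of `perp2`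
    have hdim : Module.finrank F M ≤ 2 + Module.finrank F (perp2 B M u w) := by
      have hle : M ≤ Submodule.span F (({u, w} : Finset V) : Set V) ⊔ perp2 B M u w := by
        intro m hm
        obtain ⟨α, β, m', hm', rfl⟩ := decomp B halt M hu hw huw hm
        refine Submodule.add_mem_sup ?_ hm'
        refine Submodule.add_mem _ (Submodule.smul_mem _ _ (Submodule.subset_span ?_))
          (Submodule.smul_mem _ _ (Submodule.subset_span ?_))
        · simp
        · simp
      have h1 := Submodule.finrank_mono hle
      have h2 := Submodule.finrank_add_le_finrank_add_finrank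
        (Submodule.span F (({u, w} : Finset V) : Set V)) (perp2 B M u w)
      have h3 : Module.finrank F (Submodule.span F (({u, w} : Finset V) : Set V)) ≤
          ({u, w} : Finset V).card := finrank_span_finset_le_card (R := F) ({u, w} : Finset V)
      have h4 : ({u, w} : Finset V).card ≤ 2 := Finset.card_le_two
      omega
    obtain ⟨U', hU'le, hU'o, hU'k⟩ := ih (perp2 B M u w) hM' (by omega)
    refine ⟨Submodule.span F {u} ⊔ U', ?_, ?_, ?_⟩
    · refine sup_le ?_ (hU'le.trans (perp2_le B M u w))
      rw [Submodule.span_singleton_le_iff_mem]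
      exact hu
    · intro a ha b hb
      obtain ⟨x, hx, a', ha', rfl⟩ := Submodule.mem_sup.mp ha
      obtain ⟨y, hy, b', hb', rfl⟩ := Submodule.mem_sup.mp hb
      obtain ⟨α, rfl⟩ := Submodule.mem_span_singleton.mp hx
      obtain ⟨β, rfl⟩ := Submodule.mem_span_singleton.mp hy
      have h1 : B a' u = 0 := (hU'le ha').2.1
      have h2 : B b' u = 0 := (hU'le hb').2.1
      have h3 : B u b' = 0 := by rw [skew B halt u b', h2, neg_zero]
      simp only [map_add, map_smul, LinearMap.add_apply, LinearMap.smul_apply, smul_eq_mul, halt,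
        h1, h3, hU'o a' ha' b' hb', mul_zero, add_zero]
    · have hinf : Submodule.span F {u} ⊓ U' = ⊥ := by
        rw [eq_bot_iff]
        rintro x ⟨hx, hxU⟩
        obtain ⟨α, rfl⟩ := Submodule.mem_span_singleton.mp hx
        have h1 : B (α • u) w = 0 := (hU'le hxU).2.2
        rw [map_smul, LinearMap.smul_apply, smul_eq_mul] at h1
        rcases mul_eq_zero.mp h1 with h | h
        · rw [h, zero_smul]; exact Submodule.zero_mem _
        · exact absurd h huw
      have h := Submodule.finrank_sup_add_finrank_inf_eq (Submodule.span F {u}) U'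
      rw [hinf, finrank_bot, add_zero, finrank_span_singleton hu0, hU'k] at h
      omega

end Cfsg.Agent.S5955P
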