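import Mathlib
import Cfsg.Prelude.Def_GeometricClasses
import Cfsg.Prelude.Def_Classical
import Cfsg.Prelude.Def_LieClassical
import Cfsg.Agent.Helper6.S5992Defs
import Cfsg.Agent.Helper10.S5961FIXSPLIT
import Cfsg.Agent.Helper23.S5961RESTR

/-! S5992 piece SPLITW (helper8). -/

set_option autoImplicit false
open scoped MatrixGroups
universe u

namespace Cfsg.Agent.S5992P

open Cfsg.Agent.Helper2.SympInvol Cfsg.Agent.Helper2.SympUnits Cfsg.Agent.S5961P Cfsg.Agent.S2614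
  Cfsg.Agent.S5955P

/-- SPLITW -/
theorem inv_split_nd {F V : Type*} [Field F] [AddCommGroup V] [Module F V]
    [FiniteDimensional F V] {p : ℕ} [Fact p.Prime] [CharP F p] (r : ℕ) [Fact r.Prime]
    (hrp : r ≠ p) (Q : QuadraticForm F V) (y : Module.End F V) (hY : IsYO Q y r)
    (W : Submodule F V) (hW : W.map y ≤ W) (hWnd : Nondeg (PB Q) W) :
    Nondeg (PB Q) (W ⊓ LinearMap.ker (y - 1)) ∧ Nondeg (PB Q) (W ⊓ LinearMap.range (y - 1)) ∧
    Orth (PB Q) (W ⊓ LinearMap.ker (y - 1)) (W ⊓ LinearMap.range (y - 1)) ∧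
    (W ⊓ LinearMap.ker (y - 1)) ⊔ (W ⊓ LinearMap.range (y - 1)) = W ∧
    (W ⊓ LinearMap.range (y - 1)).map y ≤ W ⊓ LinearMap.range (y - 1) := by
  have hiso : ∀ u v, PB Q (y u) (y v) = PB Q u v := fun u v => PB_isom Q hY.isom u v
  obtain ⟨-, hCN, hNC, hNinv, -⟩ := fix_split (p := p) r hrp (PB Q) y hiso hY.pow
  have hW' : ∀ v ∈ W, y v ∈ W := fun v hv => hW ⟨v, hv, rfl⟩
  obtain ⟨hpowW, -, hisoW, -, -, hkerW, hrangeW, -⟩ := restr_transport (PB Q) y W hW'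
  obtain ⟨hcomplW, -, -, -, -⟩ := fix_split (p := p) r hrp ((PB Q).restrict W) (y.restrict hW')
    (hisoW hiso) (hpowW r hY.pow)
  -- the decomposition of `W`
  have hsup : (W ⊓ LinearMap.ker (y - 1)) ⊔ (W ⊓ LinearMap.range (y - 1)) = W := by
    apply le_antisymm (sup_le inf_le_left inf_le_left)
    have h1 : W = (⊤ : Submodule F W).map W.subtype := (Submodule.map_subtype_top W).symm
    have h2 : W.map (y - 1) ≤ W ⊓ LinearMap.range (y - 1) := by
      rintro _ ⟨w, hw, rfl⟩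
      refine ⟨?_, ⟨w, rfl⟩⟩
      rw [LinearMap.sub_apply, Module.End.one_apply]
      exact W.sub_mem (hW' w hw) hw
    calc W = (⊤ : Submodule F W).map W.subtype := h1
      _ = (LinearMap.ker (y.restrict hW' - 1) ⊔ LinearMap.range (y.restrict hW' - 1)).map
            W.subtype := by rw [hcomplW.sup_eq_top]
      _ = W ⊓ LinearMap.ker (y - 1) ⊔ W.map (y - 1) := by
            rw [Submodule.map_sup, hkerW, hrangeW]
      _ ≤ _ := sup_le_sup_left h2 _
  have hdec : ∀ v ∈ W, ∃ c ∈ W ⊓ LinearMap.ker (y - 1), ∃ n ∈ W ⊓ LinearMap.range (y - 1),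
      c + n = v := by
    intro v hv
    rw [← hsup] at hv
    exact Submodule.mem_sup.mp hv
  refine ⟨?_, ?_, ?_, hsup, ?_⟩
  · intro w hw hw0
    obtain ⟨v, hv, hne⟩ := hWnd w hw.1 hw0
    obtain ⟨c, hc, n, hn, rfl⟩ := hdec v hv
    refine ⟨c, hc, ?_⟩
    rw [map_add, hCN w hw.2 n hn.2, add_zero] at hne
    exact hne
  · intro w hw hw0
    obtain ⟨v, hv, hne⟩ := hWnd w hw.1 hw0
    obtain ⟨c, hc, n, hn, rfl⟩ := hdec v hv
    refine ⟨n, hn, ?_⟩
    rw [map_add, hNC w hw.2 c hc.2, zero_add] at hne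
    exact hne
  · intro u hu v hv
    exact hCN u hu.2 v hv.2
  · rintro _ ⟨w, hw, rfl⟩
    exact ⟨hW' w hw.1, hNinv ⟨w, hw.2, rfl⟩⟩

end Cfsg.Agent.S5992P
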