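import Mathlib
import Cfsg.Prelude.Def_GeometricClasses
import Cfsg.Prelude.Def_ClassicalGeometry
import Cfsg.Agent.Helper27.S5975Defs

set_option autoImplicit false
open scoped MatrixGroups

/-! S5975 piece RESTRICT (helper8). -/

namespace Cfsg.Agent.S5975P

open Polynomial

namespace RESTRICT

variable {F L : Type*} [Field F] [Field L] [Algebra F L] {n ι : Type*}
  [Fintype n] [DecidableEq n] [Fintype ι] [DecidableEq ι]

set_option linter.unusedSectionVars false

/-- the `F`-linear map on `ι → F` induced by a matrix over `L` through `Φ` -/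
noncomputable def conjLin (Φ : (n → L) ≃ₗ[F] (ι → F)) (A : Matrix n n L) :
    (ι → F) →ₗ[F] (ι → F) :=
  Φ.toLinearMap ∘ₗ ((Matrix.toLin' A).restrictScalars F) ∘ₗ Φ.symm.toLinearMap

theorem conjLin_apply (Φ : (n → L) ≃ₗ[F] (ι → F)) (A : Matrix n n L) (v : ι → F) :
    conjLin Φ A v = Φ (A.mulVec (Φ.symm v)) := rfl

theorem conjLin_one (Φ : (n → L) ≃ₗ[F] (ι → F)) : conjLin Φ (1 : Matrix n n L) = LinearMap.id := by
  apply LinearMap.ext
  intro v
  rw [conjLin_apply, Matrix.one_mulVec, LinearEquiv.apply_symm_apply, LinearMap.id_apply]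

theorem conjLin_mul (Φ : (n → L) ≃ₗ[F] (ι → F)) (A B : Matrix n n L) :
    conjLin Φ (A * B) = conjLin Φ A ∘ₗ conjLin Φ B := by
  apply LinearMap.ext
  intro v
  rw [LinearMap.comp_apply, conjLin_apply, conjLin_apply, conjLin_apply,
    LinearEquiv.symm_apply_apply, Matrix.mulVec_mulVec]

theorem conjLin_injective (Φ : (n → L) ≃ₗ[F] (ι → F)) :
    Function.Injective (conjLin Φ : Matrix n n L → _) := by
  intro A B h
  have h1 : ∀ c : n → L, A.mulVec c = B.mulVec c := by
    intro c
    have := congrArg (fun T : (ι → F) →ₗ[F] (ι → F) => T (Φ c)) h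
    simp only [conjLin_apply, LinearEquiv.symm_apply_apply] at this
    exact Φ.injective this
  apply Matrix.toLin'.injective
  apply LinearMap.ext
  intro c
  exact h1 c

/-- the monoid hom on matrices -/
noncomputable def matHom (Φ : (n → L) ≃ₗ[F] (ι → F)) : Matrix n n L →* Matrix ι ι F where
  toFun A := LinearMap.toMatrix' (conjLin Φ A)
  map_one' := by rw [conjLin_one, LinearMap.toMatrix'_id]
  map_mul' A B := by rw [conjLin_mul, LinearMap.toMatrix'_comp]

theorem matHom_apply (Φ : (n → L) ≃ₗ[F] (ι → F)) (A : Matrix n n L) :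
    matHom Φ A = LinearMap.toMatrix' (conjLin Φ A) := rfl

theorem matHom_injective (Φ : (n → L) ≃ₗ[F] (ι → F)) : Function.Injective (matHom Φ) := by
  intro A B h
  rw [matHom_apply, matHom_apply] at h
  exact conjLin_injective Φ (LinearMap.toMatrix'.injective h)

theorem matHom_mulVec (Φ : (n → L) ≃ₗ[F] (ι → F)) (A : Matrix n n L) (c : n → L) :
    (matHom Φ A).mulVec (Φ c) = Φ (A.mulVec c) := by
  rw [matHom_apply, ← Matrix.toLin'_apply, Matrix.toLin'_toMatrix', conjLin_apply,
    LinearEquiv.symm_apply_apply]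

end RESTRICT

/-- RESTRICT -/
theorem exists_restrict_hom {F L : Type*} [Field F] [Field L] [Algebra F L] {n ι : Type*}
    [Fintype n] [DecidableEq n] [Fintype ι] [DecidableEq ι] (Φ : (n → L) ≃ₗ[F] (ι → F)) :
    ∃ ρ : GL n L →* GL ι F, Function.Injective ρ ∧
      ∀ (A : GL n L) (c : n → L),
        (ρ A : Matrix ι ι F).mulVec (Φ c) = Φ ((A : Matrix n n L).mulVec c) := by
  refine ⟨Units.map (RESTRICT.matHom Φ), Units.map_injective (RESTRICT.matHom_injective Φ), ?_⟩
  intro A c
  rw [Units.coe_map]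
  exact RESTRICT.matHom_mulVec Φ _ c

end Cfsg.Agent.S5975P
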