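import Mathlib
import Cfsg.Agent.Helper14.J3OA

set_option autoImplicit false

namespace Cfsg.Agent.Helper17.Fi22Out

open Cfsg.Agent.Helper14.J3Out

/-- ABSA: the class of `t` is invariant under all automorphisms. -/
theorem class_invariant {J : Type*} [Group J] [Finite J] (p m : ℕ) [hp : Fact p.Prime]
    (hp2 : p ≠ 2) (hcard : Nat.card J = p * m) (hpm : ¬ p ∣ m)
    (hZ : Subgroup.center J = ⊥)
    (x u t : J) (hgen : Subgroup.closure {x, u} = ⊤) (hu : orderOf u = p)
    (ht : orderOf t = 2) (htu : t * u = u * t)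
    (S : Finset J) (hS : S.card ≤ 2 * p)
    (hstab : ∀ φ : MulAut J, (∀ g : J, ∃ h : J, φ (g * t * g⁻¹) = h * t * h⁻¹) → φ u = u →
      φ x ∈ S) :
    ∀ (φ : MulAut J) (g : J), ∃ h : J, φ (g * t * g⁻¹) = h * t * h⁻¹ := by
  classical
  have hpp : p.Prime := hp.out
  have hpodd : Odd p := hpp.odd_of_ne_two hp2
  set C : Subgroup J := Subgroup.centralizer {u} with hC
  have hmemC : ∀ c : J, c ∈ C ↔ c * u = u * c := by
    intro c
    rw [hC, Subgroup.mem_centralizer_iff]
    constructor
    · intro h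
      exact (h u rfl).symm
    · intro h y hy
      rw [Set.mem_singleton_iff] at hy
      rw [hy]
      exact h.symm
  -- (1) |C| ≤ 2p
  have hCS : ∀ c ∈ C, c * x * c⁻¹ ∈ S := by
    intro c hc
    have h1 : ∀ g : J, ∃ h : J, (MulAut.conj c) (g * t * g⁻¹) = h * t * h⁻¹ := by
      intro g
      refine ⟨c * g, ?_⟩
      rw [MulAut.conj_apply]
      group
    have h2 : (MulAut.conj c) u = u := by
      rw [MulAut.conj_apply, (hmemC c).mp hc]
      group
    have := hstab (MulAut.conj c) h1 h2
    rwa [MulAut.conj_apply] at this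
  have hinj : Function.Injective (fun c : C => (⟨(c : J) * x * (c : J)⁻¹, hCS c c.2⟩ : S)) := by
    intro c c' h
    have h' : (c : J) * x * (c : J)⁻¹ = (c' : J) * x * (c' : J)⁻¹ := by
      have := congrArg (fun s : S => (s : J)) h
      exact this
    set d : J := (c' : J)⁻¹ * (c : J) with hd
    have hdx : d * x = x * d := by
      rw [hd]
      have : (c' : J)⁻¹ * ((c : J) * x * (c : J)⁻¹) * (c : J) = (c' : J)⁻¹ * ((c' : J) * x * (c' : J)⁻¹) * (c : J) := by
        rw [h']
      calc (c' : J)⁻¹ * (c : J) * x = (c' : J)⁻¹ * ((c : J) * x * (c : J)⁻¹) * (c : J) := by group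
        _ = (c' : J)⁻¹ * ((c' : J) * x * (c' : J)⁻¹) * (c : J) := this
        _ = x * ((c' : J)⁻¹ * (c : J)) := by group
    have hdu : d * u = u * d := by
      have hdC : d ∈ C := C.mul_mem (C.inv_mem c'.2) c.2
      exact (hmemC d).mp hdC
    have hdcen : d ∈ Subgroup.center J := by
      have hle : Subgroup.closure ({x, u} : Set J) ≤ Subgroup.centralizer {d} := by
        rw [Subgroup.closure_le]
        intro y hy
        rw [SetLike.mem_coe, Subgroup.mem_centralizer_iff]
        intro z hz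
        rw [Set.mem_singleton_iff] at hz
        rw [hz]
        rcases hy with rfl | hy
        · exact hdx
        · rw [Set.mem_singleton_iff] at hy
          rw [hy]
          exact hdu
      rw [hgen] at hle
      rw [Subgroup.mem_center_iff]
      intro y
      have := hle (Subgroup.mem_top y)
      rw [Subgroup.mem_centralizer_iff] at this
      exact (this d rfl).symm
    rw [hZ, Subgroup.mem_bot] at hdcen
    apply Subtype.ext
    have : (c : J) = (c' : J) := by
      have h3 : (c' : J) * d = (c : J) := by rw [hd]; group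
      rw [← h3, hdcen, mul_one]
    exact this
  have hCcard : Nat.card C ≤ 2 * p := by
    have h1 := Nat.card_le_card_of_injective _ hinj
    have h2 : Nat.card S = S.card := by
      rw [Nat.card_eq_fintype_card, Fintype.card_coe]
    omega
  -- (2) C = zpowers w
  set w : J := u * t with hw
  have hcomm : Commute u t := htu.symm
  have hcop : Nat.Coprime (orderOf u) (orderOf t) := by
    rw [hu, ht]
    exact (Nat.coprime_primes hpp Nat.prime_two).mpr hp2
  have hwo : orderOf w = 2 * p := by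
    rw [hw, hcomm.orderOf_mul_eq_mul_orderOf_of_coprime hcop, hu, ht, mul_comm]
  have hwC : Subgroup.zpowers w ≤ C := by
    rw [Subgroup.zpowers_le, hmemC, hw]
    calc u * t * u = u * (t * u) := by group
      _ = u * (u * t) := by rw [htu]
  have hCeq : Subgroup.zpowers w = C := by
    apply Subgroup.eq_of_le_of_card_ge hwC
    rw [Nat.card_zpowers, hwo]
    exact hCcard
  -- (3) involutions of C
  have hwp : w ^ p = t := by
    rw [hw, hcomm.mul_pow, ← hu, pow_orderOf_eq_one, one_mul, hu]
    obtain ⟨k, hk⟩ := hpodd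
    rw [hk, pow_succ, pow_mul, ← ht, pow_orderOf_eq_one, one_pow, one_mul]
  have hinv3 : ∀ c ∈ C, c ^ 2 = 1 → c ≠ 1 → c = t := by
    intro c hc hc2 hc1
    rw [← hCeq, Subgroup.mem_zpowers_iff] at hc
    obtain ⟨k, hk⟩ := hc
    -- w ^ (2k) = 1
    have h1 : w ^ (2 * k) = 1 := by
      rw [mul_comm, zpow_mul, hk]
      exact_mod_cast hc2
    have h2 : ((2 * p : ℕ) : ℤ) ∣ 2 * k := by
      rw [← hwo]
      exact orderOf_dvd_iff_zpow_eq_one.mpr h1
    have h3 : (p : ℤ) ∣ k := by
      push_cast at h2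
      exact (mul_dvd_mul_iff_left (by norm_num : (2 : ℤ) ≠ 0)).mp h2
    obtain ⟨k', hk'⟩ := h3
    have h4 : c = t ^ k' := by
      rw [← hk, hk', zpow_mul, zpow_natCast, hwp]
    have ht2n : t ^ 2 = 1 := by
      rw [← ht]
      exact pow_orderOf_eq_one t
    have ht2 : t ^ (2 : ℤ) = 1 := by
      exact_mod_cast ht2n
    rcases Int.even_or_odd k' with ⟨j, hj⟩ | ⟨j, hj⟩
    · exfalso
      apply hc1
      rw [h4, hj, ← two_mul, zpow_mul, ht2, one_zpow]
    · rw [h4, hj, zpow_add, zpow_mul, ht2, one_zpow, one_mul, zpow_one]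
  -- (4)
  intro φ g
  have hv : orderOf (φ u) = p := by
    rw [← hu]
    exact MulEquiv.orderOf_eq φ u
  obtain ⟨h, k, hk0, hkp, hφu⟩ := exists_conj_pow p m hcard hpm u (φ u) hu hv
  set c : J := h⁻¹ * φ t * h with hc
  have hφtu : φ t * φ u = φ u * φ t := by
    rw [← map_mul, ← map_mul, htu]
  have hcuk : c * u ^ k = u ^ k * c := by
    rw [hc]
    have h1 : φ t * (h * u ^ k * h⁻¹) = (h * u ^ k * h⁻¹) * φ t := by
      rw [← hφu]; exact hφtu
    calc h⁻¹ * φ t * h * u ^ k = h⁻¹ * (φ t * (h * u ^ k * h⁻¹)) * h := by group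
      _ = h⁻¹ * ((h * u ^ k * h⁻¹) * φ t) * h := by rw [h1]
      _ = u ^ k * (h⁻¹ * φ t * h) := by group
  -- u is a power of u ^ k
  have hkcop : Nat.Coprime k p := by
    rw [Nat.coprime_comm]
    exact (Nat.Prime.coprime_iff_not_dvd hpp).mpr (Nat.not_dvd_of_pos_of_lt hk0 hkp)
  have hupow : ∃ k' : ℕ, (u ^ k) ^ k' = u := by
    have hcop' : Nat.Coprime k (orderOf u) := by rw [hu]; exact hkcop
    have hmem : u ∈ Subgroup.zpowers (u ^ k) := by
      have hle : Subgroup.zpowers u ≤ Subgroup.zpowers (u ^ k) := by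
        apply le_of_eq
        symm
        apply Subgroup.eq_of_le_of_card_ge
        · rw [Subgroup.zpowers_le]
          exact Subgroup.pow_mem _ (Subgroup.mem_zpowers u) k
        · rw [Nat.card_zpowers, Nat.card_zpowers, orderOf_pow' u (Nat.pos_iff_ne_zero.mp hk0),
            Nat.Coprime.gcd_eq_one (Nat.Coprime.symm hcop'), Nat.div_one]
      exact hle (Subgroup.mem_zpowers u)
    have h := (mem_zpowers_iff_mem_range_orderOf (x := u ^ k) (y := u)).mp hmem
    rw [Finset.mem_image] at h
    obtain ⟨a, _, ha⟩ := h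
    exact ⟨a, ha⟩
  obtain ⟨k', hk'⟩ := hupow
  have hcu : c * u = u * c := by
    have h1 : Commute c (u ^ k) := hcuk
    have h2 : Commute c ((u ^ k) ^ k') := h1.pow_right k'
    rw [hk'] at h2
    exact h2
  have hcC : c ∈ C := (hmemC c).mpr hcu
  have hc2 : c ^ 2 = 1 := by
    rw [hc, pow_two]
    have : φ t * φ t = 1 := by
      rw [← map_mul, ← pow_two, ← ht, pow_orderOf_eq_one, map_one]
    calc h⁻¹ * φ t * h * (h⁻¹ * φ t * h) = h⁻¹ * (φ t * φ t) * h := by group
      _ = 1 := by rw [this]; group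
  have hc1 : c ≠ 1 := by
    intro h1
    have h2 : φ t = 1 := by
      have : φ t = h * c * h⁻¹ := by rw [hc]; group
      rw [this, h1]
      group
    have h3 : t = 1 := by
      have := (MulEquiv.map_eq_one_iff φ).mp h2
      exact this
    rw [h3, orderOf_one] at ht
    norm_num at ht
  have hct := hinv3 c hcC hc2 hc1
  have hφt : φ t = h * t * h⁻¹ := by
    have h5 : φ t = h * c * h⁻¹ := by rw [hc]; group
    rw [h5, hct]
  refine ⟨φ g * h, ?_⟩
  rw [map_mul, map_mul, map_inv, hφt]
  group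

end Cfsg.Agent.Helper17.Fi22Out
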