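import Mathlib
import Cfsg.Agent.S0002

set_option autoImplicit false

/-!
# S3913 piece NHALL

`F` an abelian normal Hall subgroup of `G`; two subgroups `A`, `B` with `A ⊔ F = B ⊔ F` and
`A ⊓ F = B ⊓ F` are conjugate.
-/

namespace Cfsg.Agent.S3913P

open Pointwise

/-- ambient Schur–Zassenhaus conjugacy for an abelian normal subgroup `F`: two subgroups `S`, `T` of equal
order prime to `|F|` with `T ≤ F ⊔ S` are conjugate under `F`. -/
theorem NHALL_aux_amb {G : Type*} [Group G] [Finite G] (F S T : Subgroup G) [F.Normal]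
    (hFab : ∀ a ∈ F, ∀ b ∈ F, a * b = b * a) (hcop : (Nat.card ↥S).Coprime (Nat.card ↥F))
    (hcard : Nat.card ↥T = Nat.card ↥S) (hTH : T ≤ F ⊔ S) :
    ∃ f ∈ F, T = S.map (MulAut.conj f).toMonoidHom := by
  classical
  set H : Subgroup G := F ⊔ S with hH
  have hFH : F ≤ H := le_sup_left
  have hSH : S ≤ H := le_sup_right
  set F' : Subgroup ↥H := F.subgroupOf H with hF'
  set S' : Subgroup ↥H := S.subgroupOf H with hS'
  set T' : Subgroup ↥H := T.subgroupOf H with hT'
  have : F'.Normal := by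
    rw [hF']; infer_instance
  have : IsMulCommutative ↥F' :=
    ⟨⟨fun a b => Subtype.ext (Subtype.ext (hFab _ a.2 _ b.2))⟩⟩
  have cF : Nat.card ↥F' = Nat.card ↥F :=
    Nat.card_congr (Subgroup.subgroupOfEquivOfLe hFH).toEquiv
  have cS : Nat.card ↥S' = Nat.card ↥S :=
    Nat.card_congr (Subgroup.subgroupOfEquivOfLe hSH).toEquiv
  have cT : Nat.card ↥T' = Nat.card ↥T :=
    Nat.card_congr (Subgroup.subgroupOfEquivOfLe hTH).toEquiv
  have hdisj : Disjoint F' S' := by
    apply Subgroup.disjoint_of_coprime_natCard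
    rw [cF, cS]; exact hcop.symm
  have hdisjT : Disjoint F' T' := by
    apply Subgroup.disjoint_of_coprime_natCard
    rw [cF, cT, hcard]; exact hcop.symm
  have hmul : (F' : Set ↥H) * (S' : Set ↥H) = Set.univ := by
    apply Set.eq_univ_of_forall
    intro x
    have hx : (x : G) ∈ (↑(F ⊔ S) : Set G) := x.2
    rw [Subgroup.normal_mul] at hx
    obtain ⟨a, ha, b, hb, hab⟩ := hx
    refine ⟨⟨a, hFH ha⟩, ?_, ⟨b, hSH hb⟩, ?_, ?_⟩
    · exact Subgroup.mem_subgroupOf.mpr ha
    · exact Subgroup.mem_subgroupOf.mpr hb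
    · exact Subtype.ext hab
  have hc1 : Subgroup.IsComplement' F' S' :=
    Subgroup.isComplement'_of_disjoint_and_mul_eq_univ hdisj hmul
  have hc2 : Subgroup.IsComplement' F' T' := by
    apply Subgroup.isComplement'_of_card_mul_and_disjoint _ hdisjT
    rw [cT, hcard, ← cS]; exact hc1.card_mul_card
  have hidx : (Nat.card ↥F').Coprime F'.index := by
    have h2 : F'.index = Nat.card ↥S' := hc1.symm.index_eq_card
    rw [h2, cF, cS]; exact hcop.symm
  obtain ⟨a, haF, ha⟩ := Cfsg.Agent.S0002.result F' hidx S' T' hc1 hc2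
  refine ⟨(a : G), Subgroup.mem_subgroupOf.mp haF, ?_⟩
  ext y
  constructor
  · intro hy
    have hyH : y ∈ H := hTH hy
    have hyT : (⟨y, hyH⟩ : ↥H) ∈ T' := Subgroup.mem_subgroupOf.mpr hy
    rw [← ha] at hyT
    obtain ⟨s, hs, hsy⟩ := hyT
    refine ⟨(s : G), Subgroup.mem_subgroupOf.mp hs, ?_⟩
    have := congrArg (fun z : ↥H => (z : G)) hsy
    simpa [MulAut.smul_def] using this
  · rintro ⟨s, hs, rfl⟩
    have hsS : (⟨s, hSH hs⟩ : ↥H) ∈ S' := Subgroup.mem_subgroupOf.mpr hs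
    have h1 : MulAut.conj a • (⟨s, hSH hs⟩ : ↥H) ∈ MulAut.conj a • S' :=
      Subgroup.smul_mem_pointwise_smul _ _ _ hsS
    rw [ha] at h1
    have h2 := Subgroup.mem_subgroupOf.mp h1
    simpa [MulAut.smul_def] using h2

/-- a complement of `A ⊓ F` in `A`, for a normal Hall subgroup `F`. -/
theorem NHALL_aux_compl {G : Type*} [Group G] [Finite G] (F : Subgroup G) [F.Normal]
    (hF : (Nat.card ↥F).Coprime F.index) (A : Subgroup G) :
    ∃ A₁ : Subgroup G, A₁ ≤ A ∧ (A ⊓ F) ⊔ A₁ = A ∧ Nat.card ↥A₁ = F.relIndex A := by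
  classical
  set N' : Subgroup ↥A := F.subgroupOf A with hN'
  have : N'.Normal := by
    rw [hN']; infer_instance
  have cN : Nat.card ↥N' ∣ Nat.card ↥F := by
    have h1 : Nat.card ↥N' = Nat.card ↥(F ⊓ A) := by
      rw [hN', ← Subgroup.inf_subgroupOf_right]
      exact Nat.card_congr (Subgroup.subgroupOfEquivOfLe inf_le_right).toEquiv
    rw [h1]
    exact Subgroup.card_dvd_of_le inf_le_left
  have iN : N'.index ∣ F.index := Subgroup.relIndex_dvd_index_of_normal F A
  have hcop : (Nat.card ↥N').Coprime N'.index :=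
    Nat.Coprime.coprime_dvd_left cN (Nat.Coprime.coprime_dvd_right iN hF)
  obtain ⟨C', hC'⟩ := Subgroup.exists_right_complement'_of_coprime hcop
  refine ⟨C'.map A.subtype, Subgroup.map_subtype_le C', ?_, ?_⟩
  · have h1 := hC'.sup_eq_top
    have h2 := congrArg (Subgroup.map A.subtype) h1
    rw [Subgroup.map_sup, hN', Subgroup.subgroupOf_map_subtype, ← MonoidHom.range_eq_map,
      Subgroup.range_subtype] at h2
    rw [inf_comm]
    exact h2
  · rw [Subgroup.card_map_of_injective A.subtype_injective]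
    exact hC'.symm.index_eq_card.symm

theorem NHALL {G : Type*} [Group G] [Finite G] (F : Subgroup G) [F.Normal]
    (hFab : ∀ a ∈ F, ∀ b ∈ F, a * b = b * a) (hF : (Nat.card ↥F).Coprime F.index)
    (A B : Subgroup G) (hsup : A ⊔ F = B ⊔ F) (hinf : A ⊓ F = B ⊓ F) :
    ∃ g : G, B = A.map (MulAut.conj g).toMonoidHom := by
  obtain ⟨A₁, hA₁A, hA₁sup, hA₁card⟩ := NHALL_aux_compl F hF A
  obtain ⟨B₁, hB₁B, hB₁sup, hB₁card⟩ := NHALL_aux_compl F hF B
  have hrel : F.relIndex B = F.relIndex A := by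
    rw [← Subgroup.relIndex_sup_right (H := B) (K := F), ← hsup, Subgroup.relIndex_sup_right]
  have hcard : Nat.card ↥B₁ = Nat.card ↥A₁ := by rw [hA₁card, hB₁card, hrel]
  have hcop : (Nat.card ↥A₁).Coprime (Nat.card ↥F) := by
    rw [hA₁card]
    exact (Nat.Coprime.coprime_dvd_right (Subgroup.relIndex_dvd_index_of_normal F A) hF).symm
  have hFA₁ : F ⊔ A₁ = A ⊔ F := by
    apply le_antisymm
    · exact sup_le le_sup_right (hA₁A.trans le_sup_left)
    · apply sup_le _ le_sup_left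
      rw [← hA₁sup]
      exact sup_le (inf_le_right.trans le_sup_left) le_sup_right
  have hTH : B₁ ≤ F ⊔ A₁ := by
    rw [hFA₁, hsup]
    exact hB₁B.trans le_sup_left
  obtain ⟨f, hf, hfB⟩ := NHALL_aux_amb F A₁ B₁ hFab hcop hcard hTH
  refine ⟨f, ?_⟩
  have hW : (A ⊓ F).map (MulAut.conj f).toMonoidHom = A ⊓ F := by
    ext y
    constructor
    · rintro ⟨x, hx, rfl⟩
      have : f * x * f⁻¹ = x := by
        rw [hFab f hf x hx.2, mul_inv_cancel_right]
      simpa [this] using hx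
    · intro hy
      refine ⟨y, hy, ?_⟩
      have : f * y * f⁻¹ = y := by
        rw [hFab f hf y hy.2, mul_inv_cancel_right]
      simpa using this
  calc B = (B ⊓ F) ⊔ B₁ := hB₁sup.symm
    _ = (A ⊓ F).map (MulAut.conj f).toMonoidHom ⊔ A₁.map (MulAut.conj f).toMonoidHom := by
        rw [hW, hinf, hfB]
    _ = ((A ⊓ F) ⊔ A₁).map (MulAut.conj f).toMonoidHom := (Subgroup.map_sup _ _ _).symm
    _ = A.map (MulAut.conj f).toMonoidHom := by rw [hA₁sup]

end Cfsg.Agent.S3913P
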