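import Mathlib
import Cfsg.Agent.Helper18.AutQ8

set_option autoImplicit false

/-!
# S3913 piece AQ

A subgroup `P` of odd order normalizing a quaternion group `Q ≅ Q₈`
acts on `Q` through a cyclic group (of order `1` or `3`): there is
`x ∈ P` such that every `y ∈ P` is, modulo `C(Q)`, a power of `x`.
-/

namespace Cfsg.Agent.S3913P

/-- the order of `Aut(Q₈)` is `24`. -/
theorem AQ_aux_card_aut {Q : Type*} [Group Q] (e : Q ≃* QuaternionGroup 2) :
    Nat.card (MulAut Q) = 24 := by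
  obtain ⟨f⟩ := Cfsg.Agent.Helper18.AutQ8.main
  have h1 : Nat.card (MulAut Q) = Nat.card (Equiv.Perm (Fin 4)) :=
    Nat.card_congr (((MulAut.congr e).trans f).toEquiv)
  rw [h1, Nat.card_eq_fintype_card, Fintype.card_perm, Fintype.card_fin]
  rfl

/-- a finite group whose order is odd and divides `24` is cyclic. -/
theorem AQ_aux_cyclic {H : Type*} [Group H] [Finite H] (hodd : Odd (Nat.card H))
    (hdvd : Nat.card H ∣ 24) : IsCyclic H := by
  have h3 : Nat.card H ∣ 3 := by
    have hcop : Nat.Coprime (Nat.card H) 8 := by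
      have : Nat.Coprime (Nat.card H) 2 := Odd.coprime_two_right hodd
      exact Nat.Coprime.pow_right 3 this
    have : Nat.card H ∣ 8 * 3 := by simpa using hdvd
    exact hcop.dvd_of_dvd_mul_left this
  have h13 : Nat.card H = 1 ∨ Nat.card H = 3 := by
    rcases (Nat.dvd_prime Nat.prime_three).1 h3 with h | h
    · exact Or.inl h
    · exact Or.inr h
  rcases h13 with h | h
  · have : Subsingleton H := (Nat.card_eq_one_iff_unique.1 h).1
    exact isCyclic_of_subsingleton
  · have : Fact (Nat.Prime 3) := ⟨Nat.prime_three⟩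
    exact isCyclic_of_prime_card h

theorem AQ {K : Type*} [Group K] [Finite K] (P Q : Subgroup K)
    (hPQ : P ≤ Subgroup.normalizer (Q : Set K))
    (e : ↥Q ≃* QuaternionGroup 2) (hodd : Odd (Nat.card ↥P)) :
    ∃ x ∈ P, ∀ y ∈ P, ∃ m : ℕ, y * x ^ m ∈ Subgroup.centralizer (Q : Set K) := by
  classical
  set φ : ↥P →* MulAut ↥Q := Q.normalizerMonoidHom.comp (Subgroup.inclusion hPQ) with hφ
  have : Finite (MulAut ↥Q) :=
    Nat.finite_of_card_ne_zero (by rw [AQ_aux_card_aut e]; norm_num)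
  have hcardR : Nat.card φ.range ∣ Nat.card ↥P := Subgroup.card_range_dvd φ
  have hoddR : Odd (Nat.card φ.range) := by
    obtain ⟨k, hk⟩ := hcardR
    rw [hk] at hodd
    exact (Nat.odd_mul.1 hodd).1
  have hdvdR : Nat.card φ.range ∣ 24 := by
    rw [← AQ_aux_card_aut e]
    exact Subgroup.card_subgroup_dvd_card _
  have hcyc : IsCyclic φ.range := AQ_aux_cyclic hoddR hdvdR
  obtain ⟨g, hg⟩ := hcyc.exists_generator
  obtain ⟨x, hx⟩ := g.2
  refine ⟨(x : K), x.2, ?_⟩
  intro y hy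
  -- (φ y)⁻¹ is a natural power of φ x
  have hmem : (⟨φ ⟨y, hy⟩, ⟨⟨y, hy⟩, rfl⟩⟩ : φ.range)⁻¹ ∈ Subgroup.zpowers g := hg _
  rw [← mem_powers_iff_mem_zpowers] at hmem
  obtain ⟨m, hm⟩ := hmem
  refine ⟨m, ?_⟩
  have hm' : (φ x) ^ m = (φ ⟨y, hy⟩)⁻¹ := by
    have := congrArg (Subtype.val) hm
    simpa [← hx] using this
  have hker : φ (⟨y, hy⟩ * x ^ m) = 1 := by
    rw [map_mul, map_pow, hm', mul_inv_cancel]
  -- unfold the kernel
  have hk2 : Subgroup.inclusion hPQ (⟨y, hy⟩ * x ^ m) ∈ Q.normalizerMonoidHom.ker := by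
    rw [MonoidHom.mem_ker]
    exact hker
  rw [Subgroup.normalizerMonoidHom_ker, Subgroup.mem_subgroupOf] at hk2
  simpa using hk2

end Cfsg.Agent.S3913P
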