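import Mathlib
import Cfsg.Agent.Helper26.S3911Defs
import Cfsg.Agent.Helper9.S3913HINT

set_option autoImplicit false

/-!
# S3913 piece WLOGW

`F` an abelian normal Hall subgroup of a group whose abelian subgroups of equal order are conjugate:
two subgroups `A`, `B` of equal order satisfy `A^g ⊓ F = B ⊓ F` for some `g`.
-/

namespace Cfsg.Agent.S3913P

open Cfsg.Agent.S3911P

theorem WLOGW {G : Type*} [Group G] [Finite G] (hB : BProp G) (F : Subgroup G) [F.Normal]
    (hFab : ∀ a ∈ F, ∀ b ∈ F, a * b = b * a) (hF : (Nat.card ↥F).Coprime F.index)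
    (A B : Subgroup G) (h : Nat.card ↥A = Nat.card ↥B) :
    ∃ g : G, A.map (MulAut.conj g).toMonoidHom ⊓ F = B ⊓ F := by
  have comm : ∀ C : Subgroup G, IsMulCommutative ↥(C ⊓ F) := fun C =>
    ⟨⟨fun x y => Subtype.ext (hFab x.1 x.2.2 y.1 y.2.2)⟩⟩
  have hcard : Nat.card ↥(A ⊓ F) = Nat.card ↥(B ⊓ F) := by
    rw [HINT F hF A, HINT F hF B, h]
  obtain ⟨g, hg⟩ := hB (A ⊓ F) (B ⊓ F) (comm A) (comm B) hcard
  refine ⟨g, ?_⟩
  have hinj : Function.Injective ((MulAut.conj g).toMonoidHom : G →* G) := (MulAut.conj g).injective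
  have hFg : F.map (MulAut.conj g).toMonoidHom = F := Subgroup.Normal.map_conj_eq F g
  rw [hg, Subgroup.map_inf _ _ _ hinj, hFg]

end Cfsg.Agent.S3913P
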