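import Mathlib

/-! S4057 piece MANTEL: a set of positions `a < b` in `Fin n × Fin n` containing no three positions
`(j, k), (k, l), (j, l)` has at most `n ^ 2 / 4` elements (Mantel's theorem). -/

set_option autoImplicit false

namespace Cfsg.Agent.S4057P

theorem MANTEL {n : ℕ} (T : Set (Fin n × Fin n)) (hlt : ∀ π ∈ T, π.1 < π.2)
    (htri : ∀ j k l : Fin n, (j, k) ∈ T → (k, l) ∈ T → (j, l) ∉ T) : T.ncard ≤ n ^ 2 / 4 := by
  classical
  let G : SimpleGraph (Fin n) := SimpleGraph.fromRel (fun a b => (a, b) ∈ T)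
  have hadj : ∀ a b, G.Adj a b ↔ a ≠ b ∧ ((a, b) ∈ T ∨ (b, a) ∈ T) :=
    fun a b => SimpleGraph.fromRel_adj _ a b
  have hcf : G.CliqueFree (2 + 1) := by
    intro s hs
    rw [SimpleGraph.is3Clique_iff] at hs
    obtain ⟨a, b, c, hab, hac, hbc, -⟩ := hs
    rw [hadj] at hab hac hbc
    obtain ⟨-, hab⟩ := hab
    obtain ⟨-, hac⟩ := hac
    obtain ⟨-, hbc⟩ := hbc
    rcases hab with h1 | h1 <;> rcases hac with h2 | h2 <;> rcases hbc with h3 | h3
    · exact htri a b c h1 h3 h2
    · exact htri a c b h2 h3 h1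
    · have e1 : a < b := hlt _ h1
      have e2 : c < a := hlt _ h2
      have e3 : b < c := hlt _ h3
      exact absurd (e1.trans (e3.trans e2)) (lt_irrefl _)
    · exact htri c a b h2 h1 h3
    · exact htri b a c h1 h2 h3
    · have e1 : b < a := hlt _ h1
      have e2 : a < c := hlt _ h2
      have e3 : c < b := hlt _ h3
      exact absurd (e1.trans (e2.trans e3)) (lt_irrefl _)
    · exact htri b c a h3 h2 h1
    · exact htri c b a h3 h1 h2
  have hbound := hcf.card_edgeFinset_le
  simp only [Fintype.card_fin] at hbound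
  have hle : T.ncard ≤ G.edgeFinset.card := by
    rw [Set.ncard_eq_toFinset_card']
    apply Finset.card_le_card_of_injOn (fun π => s(π.1, π.2))
    · intro π hπ
      have hπ' : π ∈ T := by simpa using hπ
      have : s(π.1, π.2) ∈ G.edgeFinset := by
        rw [SimpleGraph.mem_edgeFinset, SimpleGraph.mem_edgeSet, hadj]
        exact ⟨(hlt π hπ').ne, Or.inl hπ'⟩
      exact this
    · intro π hπ π' hπ' h
      have hπT : π ∈ T := by simpa using hπ
      have hπT' : π' ∈ T := by simpa using hπ'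
      have h' : s(π.1, π.2) = s(π'.1, π'.2) := h
      rw [Sym2.eq_iff] at h'
      rcases h' with ⟨h1, h2⟩ | ⟨h1, h2⟩
      · exact Prod.ext h1 h2
      · exfalso
        have e1 := hlt π hπT
        have e2 := hlt π' hπT'
        rw [h1, h2] at e1
        exact absurd (e1.trans e2) (lt_irrefl _)
  have hch : (n % 2).choose 2 = 0 := Nat.choose_eq_zero_of_lt (Nat.mod_lt _ (by norm_num))
  rw [hch, add_zero] at hbound
  have h2 : (n ^ 2 - (n % 2) ^ 2) * (2 - 1) / (2 * 2) ≤ n ^ 2 / 4 := by
    norm_num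
    exact Nat.div_le_div_right (Nat.sub_le _ _)
  exact hle.trans (hbound.trans h2)

end Cfsg.Agent.S4057P
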