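import Mathlib
import Cfsg.Agent.Helper26.S4395Defs

/-!
# S4395 piece FIBa (helper8): the fibre product subgroup of `P₁ × P₂`
-/

set_option autoImplicit false

namespace Cfsg.Agent.S4395P

open Cfsg

/-- aux: `lam 1 = 0` for normal form data. -/
theorem FIBa_aux_one {p q r : ℕ} {F : Type*} [Field F] {ζ : F}
    {X : Type*} [Group X] {P : Subgroup X} {y : X} {lam : X → F}
    (h : NFData p q r ζ P y lam) : lam 1 = 0 := by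
  have h1 := h.add 1 P.one_mem 1 P.one_mem
  rw [mul_one] at h1
  -- lam 1 = lam 1 + lam 1
  have : lam 1 + 0 = lam 1 + lam 1 := by rw [add_zero]; exact h1
  exact (add_left_cancel this).symm

/-- aux: `lam u⁻¹ = - lam u` for `u ∈ P`. -/
theorem FIBa_aux_inv {p q r : ℕ} {F : Type*} [Field F] {ζ : F}
    {X : Type*} [Group X] {P : Subgroup X} {y : X} {lam : X → F}
    (h : NFData p q r ζ P y lam) {u : X} (hu : u ∈ P) : lam u⁻¹ = - lam u := by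
  have h1 := h.add u hu u⁻¹ (P.inv_mem hu)
  rw [mul_inv_cancel, FIBa_aux_one h] at h1
  exact eq_neg_of_add_eq_zero_right h1.symm

/-- FIBa (M): the fibre product subgroup of `P₁ × P₂`. -/
theorem FIBa (p q r : ℕ) {F : Type*} [Field F] (ζ : F)
    {X₁ X₂ : Type*} [Group X₁] [Group X₂]
    (P₁ : Subgroup X₁) (y₁ : X₁) (lam₁ : X₁ → F) (h₁ : NFData p q r ζ P₁ y₁ lam₁)
    (P₂ : Subgroup X₂) (y₂ : X₂) (lam₂ : X₂ → F) (h₂ : NFData p q r ζ P₂ y₂ lam₂) :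
    ∃ Γ : Subgroup (X₁ × X₂), ∀ g : X₁ × X₂, g ∈ Γ ↔ g.1 ∈ P₁ ∧ g.2 ∈ P₂ ∧ lam₁ g.1 = lam₂ g.2 := by
  refine ⟨{ carrier := {g | g.1 ∈ P₁ ∧ g.2 ∈ P₂ ∧ lam₁ g.1 = lam₂ g.2}
            mul_mem' := ?_
            one_mem' := ?_
            inv_mem' := ?_ }, fun g => Iff.rfl⟩
  · rintro a b ⟨ha1, ha2, ha⟩ ⟨hb1, hb2, hb⟩
    refine ⟨P₁.mul_mem ha1 hb1, P₂.mul_mem ha2 hb2, ?_⟩
    show lam₁ (a.1 * b.1) = lam₂ (a.2 * b.2)
    rw [h₁.add _ ha1 _ hb1, h₂.add _ ha2 _ hb2, ha, hb]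
  · refine ⟨P₁.one_mem, P₂.one_mem, ?_⟩
    show lam₁ 1 = lam₂ 1
    rw [FIBa_aux_one h₁, FIBa_aux_one h₂]
  · rintro a ⟨ha1, ha2, ha⟩
    refine ⟨P₁.inv_mem ha1, P₂.inv_mem ha2, ?_⟩
    show lam₁ a.1⁻¹ = lam₂ a.2⁻¹
    rw [FIBa_aux_inv h₁ ha1, FIBa_aux_inv h₂ ha2, ha]

end Cfsg.Agent.S4395P
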