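import Mathlib
import Cfsg.Agent.Helper26.S4395Defs
import Cfsg.Agent.Helper20.S4394GSb
import Cfsg.Agent.Lead.Coprime3
import Cfsg.Agent.Helper8.S4395FIBa

/-!
# S4395 piece FIBc, core part (helper8)

`X₃ = [Γ, Y] ⟨Y⟩`: order, projections onto, central kernels - proved from the conclusions of FIBb
taken as hypotheses.
-/

set_option autoImplicit false

namespace Cfsg.Agent.S4395P

open Cfsg Cfsg.Agent.S4394P

/-- aux: `|KN| = |K| |N|` when `K` normalizes `N` and `N ∩ K = 1`. -/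
theorem FIBc_aux_card_sup {G : Type*} [Group G] [Finite G] {N K : Subgroup G}
    (hKN : K ≤ Subgroup.normalizer (N : Set G))
    (h : N ⊓ K = ⊥) : Nat.card ↥(K ⊔ N) = Nat.card K * Nat.card N := by
  have hrel : N.relIndex (K ⊔ N) = N.relIndex K := by
    haveI := Subgroup.normal_subgroupOf_of_le_normalizer hKN
    haveI := Subgroup.normal_subgroupOf_sup_of_le_normalizer hKN
    exact Nat.card_congr (QuotientGroup.quotientInfEquivProdNormalizerQuotient K N hKN).toEquiv.symm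
  have h1 : N.relIndex (K ⊔ N) * Nat.card N = Nat.card ↥(K ⊔ N) := by
    have := Subgroup.relIndex_mul_relIndex ⊥ N (K ⊔ N) bot_le le_sup_right
    rw [Subgroup.relIndex_bot_left, Subgroup.relIndex_bot_left] at this
    rw [mul_comm]; exact this
  rw [← h1, hrel, ← Subgroup.inf_relIndex_right, h, Subgroup.relIndex_bot_left]

/-- aux: a power of `y` lying in `P` is trivial. -/
theorem FIBc_aux_zpow_eq_one {p q r : ℕ} [Fact p.Prime] [Fact q.Prime] (hpq : p ≠ q)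
    {F : Type*} [Field F] {ζ : F}
    {X : Type*} [Group X] [Finite X] {P : Subgroup X} {y : X} {lam : X → F}
    (h : NFData p q r ζ P y lam) {i : ℤ} (hi : y ^ i ∈ P) : y ^ i = 1 := by
  have hp : p.Prime := Fact.out
  have hq : q.Prime := Fact.out
  have hd : Disjoint P (Subgroup.zpowers y) := by
    apply Subgroup.disjoint_of_coprime_natCard
    obtain ⟨n, hn⟩ := IsPGroup.iff_card.mp h.sch.pgrp
    rw [hn, Nat.card_zpowers, h.ord]
    exact Nat.Coprime.pow _ _ ((Nat.coprime_primes hp hq).mpr hpq)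
  have := Subgroup.disjoint_def.mp hd hi (Subgroup.zpow_mem_zpowers y i)
  exact this

/-- aux: an element of `P` killed by `lam` is central in `X`. -/
theorem FIBc_aux_central {p q r : ℕ} [Fact p.Prime]
    {F : Type*} [Field F] {ζ : F}
    {X : Type*} [Group X] [Finite X] {P : Subgroup X} {y : X} {lam : X → F}
    (h : NFData p q r ζ P y lam) {u : X} (hu : u ∈ P) (h0 : lam u = 0) (x : X) :
    u * x = x * u := by
  have hc : u ∈ Subgroup.centralizer ({y} : Set X) := (h.ker u hu).mp h0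
  have hy : y * u = u * y := (GSb_aux_mem_cent y u).mp hc
  have hC : u ∈ P ⊓ Subgroup.centralizer ({y} : Set X) := Subgroup.mem_inf.mpr ⟨hu, hc⟩
  obtain ⟨v, hv, i, rfl⟩ := h.gen x
  have h1 : u * v = v * u := (GSb h.sch).2.2.1 u hC v hv
  have h2 : u * y ^ i = y ^ i * u := by
    have : Commute u y := hy.symm
    exact (this.pow_right i).eq
  calc u * (v * y ^ i) = (u * v) * y ^ i := by group
    _ = (v * u) * y ^ i := by rw [h1]
    _ = v * (u * y ^ i) := by group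
    _ = v * (y ^ i * u) := by rw [h2]
    _ = v * y ^ i * u := by group

/-- aux: `P ⊔ zpowers y = ⊤`. -/
theorem FIBc_aux_sup_top {p q r : ℕ}
    {F : Type*} [Field F] {ζ : F}
    {X : Type*} [Group X] {P : Subgroup X} {y : X} {lam : X → F}
    (h : NFData p q r ζ P y lam) : P ⊔ Subgroup.zpowers y = ⊤ := by
  rw [eq_top_iff]
  intro x _
  obtain ⟨u, hu, i, rfl⟩ := h.gen x
  exact Subgroup.mul_mem_sup hu (Subgroup.pow_mem _ (Subgroup.mem_zpowers y) i)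

/-- FIBc, core: the same statement with the conclusions of FIBb as hypotheses. -/
theorem FIBc_core (p q r : ℕ) [Fact p.Prime] [Fact q.Prime] (hpq : p ≠ q) {F : Type*} [Field F] (ζ : F)
    {X₁ X₂ : Type*} [Group X₁] [Finite X₁] [Group X₂] [Finite X₂]
    (P₁ : Subgroup X₁) (y₁ : X₁) (lam₁ : X₁ → F) (h₁ : NFData p q r ζ P₁ y₁ lam₁)
    (P₂ : Subgroup X₂) (y₂ : X₂) (lam₂ : X₂ → F) (h₂ : NFData p q r ζ P₂ y₂ lam₂)
    (Γ : Subgroup (X₁ × X₂))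
    (hΓ : ∀ g : X₁ × X₂, g ∈ Γ ↔ g.1 ∈ P₁ ∧ g.2 ∈ P₂ ∧ lam₁ g.1 = lam₂ g.2)
    (hnorm : Subgroup.zpowers ((y₁, y₂) : X₁ × X₂) ≤ Subgroup.normalizer (Γ : Set (X₁ × X₂)))
    (hpg : IsPGroup p Γ)
    (hfst : (⁅Γ, Subgroup.zpowers ((y₁, y₂) : X₁ × X₂)⁆).map (MonoidHom.fst X₁ X₂) = P₁)
    (hsnd : (⁅Γ, Subgroup.zpowers ((y₁, y₂) : X₁ × X₂)⁆).map (MonoidHom.snd X₁ X₂) = P₂)
    (X₃ : Subgroup (X₁ × X₂))
    (hX₃ : X₃ = ⁅Γ, Subgroup.zpowers ((y₁, y₂) : X₁ × X₂)⁆ ⊔ Subgroup.zpowers ((y₁, y₂) : X₁ × X₂)) :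
    Nat.card X₃ = Nat.card ↥(⁅Γ, Subgroup.zpowers ((y₁, y₂) : X₁ × X₂)⁆) * q ^ r ∧
    (∃ t : ℕ, Nat.card ↥(⁅Γ, Subgroup.zpowers ((y₁, y₂) : X₁ × X₂)⁆) = p ^ t) ∧
    X₃.map (MonoidHom.fst X₁ X₂) = ⊤ ∧ X₃.map (MonoidHom.snd X₁ X₂) = ⊤ ∧
    (∀ g ∈ X₃, g.1 = 1 → ∀ x : X₁ × X₂, g * x = x * g) ∧
    (∀ g ∈ X₃, g.2 = 1 → ∀ x : X₁ × X₂, g * x = x * g) := by
  classical
  have hp : p.Prime := Fact.out
  have hq : q.Prime := Fact.out
  set Y : X₁ × X₂ := (y₁, y₂) with hY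
  set Z : Subgroup (X₁ × X₂) := Subgroup.zpowers Y with hZ
  set P₃ : Subgroup (X₁ × X₂) := ⁅Γ, Z⁆ with hP₃
  have hP₃Γ : P₃ ≤ Γ := Cfsg.Agent.Lead.commutator_le_of_le_normalizer hnorm
  have hP₃pg : IsPGroup p P₃ := hpg.to_le hP₃Γ
  obtain ⟨t, ht⟩ := IsPGroup.iff_card.mp hP₃pg
  have hordY : orderOf Y = q ^ r := by
    rw [Prod.orderOf]
    show (orderOf y₁).lcm (orderOf y₂) = q ^ r
    rw [h₁.ord, h₂.ord, Nat.lcm_self]
  have hcardZ : Nat.card Z = q ^ r := by rw [hZ, Nat.card_zpowers, hordY]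
  have hZN : Z ≤ Subgroup.normalizer (P₃ : Set (X₁ × X₂)) :=
    Cfsg.Agent.Lead.le_normalizer_commutator_right Γ Z
  have hdisj : P₃ ⊓ Z = ⊥ := by
    rw [← disjoint_iff]
    apply Subgroup.disjoint_of_coprime_natCard
    rw [ht, hcardZ]
    exact Nat.Coprime.pow _ _ ((Nat.coprime_primes hp hq).mpr hpq)
  have hcard : Nat.card X₃ = Nat.card P₃ * q ^ r := by
    rw [hX₃, sup_comm, FIBc_aux_card_sup hZN hdisj, hcardZ, mul_comm]
  -- decomposition of elements of X₃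
  have hdec : ∀ g ∈ X₃, ∃ h ∈ P₃, ∃ i : ℤ, g = h * Y ^ i := by
    intro g hg
    rw [hX₃, sup_comm] at hg
    have hg' : g ∈ ((Z ⊔ P₃ : Subgroup (X₁ × X₂)) : Set (X₁ × X₂)) := hg
    rw [Subgroup.coe_mul_of_left_le_normalizer_right Z P₃ hZN] at hg'
    obtain ⟨z, hz, h, hh, rfl⟩ := Set.mem_mul.mp hg'
    obtain ⟨i, rfl⟩ := Subgroup.mem_zpowers_iff.mp hz
    -- z * h = (z h z⁻¹) * z
    refine ⟨Y ^ i * h * (Y ^ i)⁻¹, ?_, i, by group⟩
    have := hZN (Subgroup.zpow_mem_zpowers Y i)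
    exact (Subgroup.mem_normalizer_iff.mp this h).mp hh
  have hfstY : ∀ i : ℤ, (Y ^ i).1 = y₁ ^ i := fun i => by rw [hY]; rfl
  have hsndY : ∀ i : ℤ, (Y ^ i).2 = y₂ ^ i := fun i => by rw [hY]; rfl
  have hmem : ∀ h ∈ P₃, h.1 ∈ P₁ ∧ h.2 ∈ P₂ ∧ lam₁ h.1 = lam₂ h.2 := fun h hh => (hΓ h).mp (hP₃Γ hh)
  -- orders
  have hpow₁ : ∀ i : ℤ, y₁ ^ i = 1 ↔ ((q ^ r : ℕ) : ℤ) ∣ i := by
    intro i; rw [← h₁.ord]; exact (orderOf_dvd_iff_zpow_eq_one).symm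
  have hpow₂ : ∀ i : ℤ, y₂ ^ i = 1 ↔ ((q ^ r : ℕ) : ℤ) ∣ i := by
    intro i; rw [← h₂.ord]; exact (orderOf_dvd_iff_zpow_eq_one).symm
  refine ⟨hcard, ⟨t, ht⟩, ?_, ?_, ?_, ?_⟩
  · rw [hX₃, Subgroup.map_sup, hfst, hZ, MonoidHom.map_zpowers]
    exact FIBc_aux_sup_top h₁
  · rw [hX₃, Subgroup.map_sup, hsnd, hZ, MonoidHom.map_zpowers]
    exact FIBc_aux_sup_top h₂
  · intro g hg hg1 x
    obtain ⟨h, hh, i, rfl⟩ := hdec g hg
    obtain ⟨hh1, hh2, hlam⟩ := hmem h hh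
    have e1 : h.1 * y₁ ^ i = 1 := by
      have : (h * Y ^ i).1 = h.1 * (Y ^ i).1 := rfl
      rw [this, hfstY] at hg1; exact hg1
    have hyi : y₁ ^ i ∈ P₁ := by
      have : y₁ ^ i = h.1⁻¹ := eq_inv_of_mul_eq_one_right e1
      rw [this]; exact P₁.inv_mem hh1
    have hyi1 : y₁ ^ i = 1 := FIBc_aux_zpow_eq_one hpq h₁ hyi
    have hyi2 : y₂ ^ i = 1 := (hpow₂ i).mpr ((hpow₁ i).mp hyi1)
    have hY1 : Y ^ i = 1 := Prod.ext (by rw [hfstY, hyi1]; rfl) (by rw [hsndY, hyi2]; rfl)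
    rw [hY1, mul_one]
    have hh1' : h.1 = 1 := by rw [hyi1, mul_one] at e1; exact e1
    have h0 : lam₂ h.2 = 0 := by rw [← hlam, hh1', FIBa_aux_one h₁]
    apply Prod.ext
    · show h.1 * x.1 = x.1 * h.1
      rw [hh1', one_mul, mul_one]
    · show h.2 * x.2 = x.2 * h.2
      exact FIBc_aux_central h₂ hh2 h0 x.2
  · intro g hg hg2 x
    obtain ⟨h, hh, i, rfl⟩ := hdec g hg
    obtain ⟨hh1, hh2, hlam⟩ := hmem h hh
    have e1 : h.2 * y₂ ^ i = 1 := by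
      have : (h * Y ^ i).2 = h.2 * (Y ^ i).2 := rfl
      rw [this, hsndY] at hg2; exact hg2
    have hyi : y₂ ^ i ∈ P₂ := by
      have : y₂ ^ i = h.2⁻¹ := eq_inv_of_mul_eq_one_right e1
      rw [this]; exact P₂.inv_mem hh2
    have hyi2 : y₂ ^ i = 1 := FIBc_aux_zpow_eq_one hpq h₂ hyi
    have hyi1 : y₁ ^ i = 1 := (hpow₁ i).mpr ((hpow₂ i).mp hyi2)
    have hY1 : Y ^ i = 1 := Prod.ext (by rw [hfstY, hyi1]; rfl) (by rw [hsndY, hyi2]; rfl)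
    rw [hY1, mul_one]
    have hh2' : h.2 = 1 := by rw [hyi2, mul_one] at e1; exact e1
    have h0 : lam₁ h.1 = 0 := by rw [hlam, hh2', FIBa_aux_one h₂]
    apply Prod.ext
    · show h.1 * x.1 = x.1 * h.1
      exact FIBc_aux_central h₁ hh1 h0 x.1
    · show h.2 * x.2 = x.2 * h.2
      rw [hh2', one_mul, mul_one]

end Cfsg.Agent.S4395P
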