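import Mathlib
import Cfsg.Agent.Helper26.S4395Defs
import Cfsg.Agent.Helper17.S4395FIBb
import Cfsg.Agent.Helper8.S4395FIBca

/-!
# S4395 piece FIBc (helper8): `X₃ = [Γ, Y] ⟨Y⟩`: order, projections onto, central kernels
-/

set_option autoImplicit false

namespace Cfsg.Agent.S4395P

open Cfsg Cfsg.Agent.S4394P

/-- FIBc (M/L): `X₃ = P₃ ⊔ ⟨Y⟩`: order, projections onto, central kernels. -/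
theorem FIBc (p q r : ℕ) [Fact p.Prime] [Fact q.Prime] (hpq : p ≠ q) {F : Type*} [Field F] (ζ : F)
    {X₁ X₂ : Type*} [Group X₁] [Finite X₁] [Group X₂] [Finite X₂]
    (P₁ : Subgroup X₁) (y₁ : X₁) (lam₁ : X₁ → F) (h₁ : NFData p q r ζ P₁ y₁ lam₁)
    (P₂ : Subgroup X₂) (y₂ : X₂) (lam₂ : X₂ → F) (h₂ : NFData p q r ζ P₂ y₂ lam₂)
    (Γ : Subgroup (X₁ × X₂))
    (hΓ : ∀ g : X₁ × X₂, g ∈ Γ ↔ g.1 ∈ P₁ ∧ g.2 ∈ P₂ ∧ lam₁ g.1 = lam₂ g.2)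
    (X₃ : Subgroup (X₁ × X₂))
    (hX₃ : X₃ = ⁅Γ, Subgroup.zpowers ((y₁, y₂) : X₁ × X₂)⁆ ⊔ Subgroup.zpowers ((y₁, y₂) : X₁ × X₂)) :
    Nat.card X₃ = Nat.card ↥(⁅Γ, Subgroup.zpowers ((y₁, y₂) : X₁ × X₂)⁆) * q ^ r ∧
    (∃ t : ℕ, Nat.card ↥(⁅Γ, Subgroup.zpowers ((y₁, y₂) : X₁ × X₂)⁆) = p ^ t) ∧
    X₃.map (MonoidHom.fst X₁ X₂) = ⊤ ∧ X₃.map (MonoidHom.snd X₁ X₂) = ⊤ ∧
    (∀ g ∈ X₃, g.1 = 1 → ∀ x : X₁ × X₂, g * x = x * g) ∧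
    (∀ g ∈ X₃, g.2 = 1 → ∀ x : X₁ × X₂, g * x = x * g) := by
  obtain ⟨hnorm, hpg, hfst, hsnd⟩ := FIBb p q r hpq ζ P₁ y₁ lam₁ h₁ P₂ y₂ lam₂ h₂ Γ hΓ
  exact FIBc_core p q r hpq ζ P₁ y₁ lam₁ h₁ P₂ y₂ lam₂ h₂ Γ hΓ hnorm hpg hfst hsnd X₃ hX₃

end Cfsg.Agent.S4395P
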