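import Mathlib
import Cfsg.Prelude.Def_GeometricClasses
import Cfsg.Agent.Helper20.S6000Defs
import Cfsg.Agent.Helper26.S6000QUAT
import Cfsg.Agent.Helper14.S6000TR0
import Cfsg.Agent.Helper4.S6000USP64

set_option autoImplicit false
open scoped MatrixGroups Matrix

/-! S6000 piece Y3 (driver helper20): elements of order 3 of `N(R)` with traces `1` and `-2`. -/

namespace Cfsg.Agent.S6000P

namespace Y3

section Ring
variable {S : Type*} [Ring S] {i j : S}

theorem ii_l (hii : i * i = -1) (x : S) : i * (i * x) = -x := by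
  rw [← mul_assoc, hii, neg_mul, one_mul]

theorem ji_l (hji : j * i = -(i * j)) (x : S) : j * (i * x) = -(i * (j * x)) := by
  rw [← mul_assoc, hji, neg_mul, mul_assoc]

end Ring

variable {F : Type*} [Field F]

/-- `U = (1+i)(1+j)` satisfies `U² = 2U - 4`. -/
theorem u_sq {i j : M4 F} (hii : i * i = -1) (hjj : j * j = -1) (hji : j * i = -(i * j)) :
    ((1 + i) * (1 + j)) * ((1 + i) * (1 + j)) = (2 : F) • ((1 + i) * (1 + j)) - (4 : F) • 1 := by
  simp only [mul_add, add_mul, mul_one, one_mul, mul_assoc, hii, hjj, hji, ii_l hii, ii_l hjj,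
    ji_l hji, mul_neg, neg_mul, neg_neg]
  module

theorem u_cube (U : M4 F) (hU : U * U = (2 : F) • U - (4 : F) • 1) : U * U * U = (-8 : F) • 1 := by
  calc U * U * U = ((2 : F) • U - (4 : F) • 1) * U := by rw [hU]
    _ = (2 : F) • (U * U) - (4 : F) • U := by
      rw [sub_mul, smul_mul_assoc, smul_mul_assoc, one_mul]
    _ = (2 : F) • ((2 : F) • U - (4 : F) • 1) - (4 : F) • U := by rw [hU]
    _ = (-8 : F) • 1 := by module

theorem y_cube (h2 : (2 : F) ≠ 0) (U : M4 F) (hU : U * U = (2 : F) • U - (4 : F) • 1) :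
    ((-2⁻¹ : F) • U) * ((-2⁻¹ : F) • U) * ((-2⁻¹ : F) • U) = 1 := by
  simp only [smul_mul_assoc, mul_smul_comm, smul_smul]
  rw [← mul_assoc, u_cube U hU, smul_smul]
  have : (-2⁻¹ * -2⁻¹ * -2⁻¹ * -8 : F) = 1 := by field_simp; norm_num
  rw [this, one_smul]

/-- an element of `R` anticommuting with some unit has trace zero -/
theorem tr0 {R : Subgroup (GL (Fin 4) F)} {ι : F} (h : Hyp64 R ι) (m g : GL (Fin 4) F)
    (hm : m ∈ R) (hanti : m * g = -(g * m)) : Matrix.trace (m : M4 F) = 0 := by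
  apply trace_eq_zero h m hm
  intro z hz
  have := gl_comm_of_scalar hz g
  rw [this] at hanti
  exact neg_ne_self h.two_ne (g * m) hanti.symm

theorem anti_mul {x x' g : GL (Fin 4) F} (hxg : x * g = -(g * x)) (hx'g : x' * g = g * x') :
    (x * x') * g = -(g * (x * x')) := by
  rw [mul_assoc, hx'g, ← mul_assoc, hxg, neg_mul, mul_assoc]

theorem comm_mul {x x' g : GL (Fin 4) F} (hxg : x * g = g * x) (hx'g : x' * g = g * x') :
    (x * x') * g = g * (x * x') := by
  rw [mul_assoc, hx'g, ← mul_assoc, hxg, mul_assoc]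

/-- the scalar unit `k • 1` -/
def scalarUnit (k : F) (hk : k ≠ 0) : GL (Fin 4) F :=
  ⟨k • 1, k⁻¹ • 1, by rw [smul_mul_smul_comm, mul_one, mul_inv_cancel₀ hk, one_smul],
    by rw [smul_mul_smul_comm, mul_one, inv_mul_cancel₀ hk, one_smul]⟩

theorem scalarUnit_val (k : F) (hk : k ≠ 0) : ((scalarUnit k hk : GL (Fin 4) F) : M4 F) = k • 1 := rfl

/-- the element `yB = -(1+s)(1+s')/2` for a quaternion pair `s, s'` of `R` -/
theorem exists_yB {R : Subgroup (GL (Fin 4) F)} {ι : F} (h : Hyp64 R ι) (s s' : GL (Fin 4) F)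
    (hs : s ∈ R) (hs' : s' ∈ R) (hss : s * s = -1) (hs's' : s' * s' = -1)
    (hanti : s * s' = -(s' * s)) :
    ∃ y : GL (Fin 4) F, y ∈ Cfsg.Geo.subgroupNormalizer R ∧ y ^ 3 = 1 ∧
      (y : M4 F) = (-2⁻¹ : F) • ((1 + (s : M4 F)) * (1 + (s' : M4 F))) := by
  have h2 := h.two_ne
  obtain ⟨u, hu, huN, -, -⟩ := one_add_props h s hs hss
  obtain ⟨u', hu', hu'N, -, -⟩ := one_add_props h s' hs' hs's'
  have hk : (-2⁻¹ : F) ≠ 0 := neg_ne_zero.mpr (inv_ne_zero h2)
  have hwN : scalarUnit (-2⁻¹ : F) hk ∈ Cfsg.Geo.subgroupNormalizer R :=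
    scalar_mem_normalizer R (scalarUnit_val _ hk)
  have hII : (s : M4 F) * (s : M4 F) = -1 := by rw [← Units.val_mul, hss]; rfl
  have hJJ : (s' : M4 F) * (s' : M4 F) = -1 := by rw [← Units.val_mul, hs's']; rfl
  have hJI : (s' : M4 F) * (s : M4 F) = -((s : M4 F) * (s' : M4 F)) := by
    rw [← Units.val_mul, ← Units.val_mul, hanti, coe_neg, neg_neg]
  have hval : ((scalarUnit (-2⁻¹ : F) hk * u * u' : GL (Fin 4) F) : M4 F)
      = (-2⁻¹ : F) • ((1 + (s : M4 F)) * (1 + (s' : M4 F))) := by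
    rw [Units.val_mul, Units.val_mul, scalarUnit_val, hu, hu', smul_mul_assoc, smul_mul_assoc,
      one_mul]
  refine ⟨scalarUnit (-2⁻¹ : F) hk * u * u', ?_, ?_, hval⟩
  · exact Subgroup.mul_mem _ (Subgroup.mul_mem _ hwN huN) hu'N
  · apply Units.ext
    rw [pow_succ, pow_succ, pow_one, Units.val_mul, Units.val_mul, hval]
    exact y_cube h2 _ (u_sq hII hJJ hJI)

end Y3

open Y3 in
/-- Y3 -/
theorem exists_y3 {F : Type*} [Field F] {R : Subgroup (GL (Fin 4) F)} {ι : F} (h : Hyp64 R ι) :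
    ∃ yA yB : GL (Fin 4) F, yA ∈ Cfsg.Geo.subgroupNormalizer R ∧
      yB ∈ Cfsg.Geo.subgroupNormalizer R ∧ yA ^ 3 = 1 ∧ yB ^ 3 = 1 ∧
      Matrix.trace (yA : M4 F) = 1 ∧ Matrix.trace (yB : M4 F) = -2 := by
  have h2 := h.two_ne
  obtain ⟨s, s', t, t', hs, hs', ht, ht', hss, hs's', htt, ht't', hanti, hantit, hst, hst', hs't,
    hs't'⟩ := exists_quat_pairs h
  obtain ⟨y1, hy1N, hy1c, hy1v⟩ := exists_yB h s s' hs hs' hss hs's' hanti
  obtain ⟨y2, hy2N, hy2c, hy2v⟩ := exists_yB h t t' ht ht' htt ht't' hantit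
  -- anticommutation facts
  have hanti' : s' * s = -(s * s') := by rw [hanti, neg_neg]
  have hantit' : t' * t = -(t * t') := by rw [hantit, neg_neg]
  have hk_s : (s * s') * s = -(s * (s * s')) := by
    rw [mul_assoc, hanti', mul_neg]
  have hk_t : (t * t') * t = -(t * (t * t')) := by
    rw [mul_assoc, hantit', mul_neg]
  -- single traces
  have tr_s : Matrix.trace (s : M4 F) = 0 := tr0 h s s' hs hanti
  have tr_s' : Matrix.trace (s' : M4 F) = 0 := tr0 h s' s hs' hanti'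
  have tr_k : Matrix.trace ((s : M4 F) * (s' : M4 F)) = 0 := by
    have := tr0 h (s * s') s (R.mul_mem hs hs') hk_s
    rwa [Units.val_mul] at this
  have tr_t : Matrix.trace (t : M4 F) = 0 := tr0 h t t' ht hantit
  have tr_t' : Matrix.trace (t' : M4 F) = 0 := tr0 h t' t ht' hantit'
  have tr_kt : Matrix.trace ((t : M4 F) * (t' : M4 F)) = 0 := by
    have := tr0 h (t * t') t (R.mul_mem ht ht') hk_t
    rwa [Units.val_mul] at this
  -- mixed traces
  have mixed : ∀ x' ∈ R, x' * s = s * x' → x' * s' = s' * x' →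
      Matrix.trace ((s : M4 F) * (x' : M4 F)) = 0 ∧ Matrix.trace ((s' : M4 F) * (x' : M4 F)) = 0 ∧
      Matrix.trace ((s : M4 F) * (s' : M4 F) * (x' : M4 F)) = 0 := by
    intro x' hx' hx's hx's'
    refine ⟨?_, ?_, ?_⟩
    · have := tr0 h (s * x') s' (R.mul_mem hs hx') (anti_mul hanti hx's')
      rwa [Units.val_mul] at this
    · have := tr0 h (s' * x') s (R.mul_mem hs' hx') (anti_mul hanti' hx's)
      rwa [Units.val_mul] at this
    · have := tr0 h (s * s' * x') s (R.mul_mem (R.mul_mem hs hs') hx') (anti_mul hk_s hx's)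
      rwa [Units.val_mul, Units.val_mul] at this
  obtain ⟨m1, m2, m3⟩ := mixed t ht hst.symm hs't.symm
  obtain ⟨m4, m5, m6⟩ := mixed t' ht' hst'.symm hs't'.symm
  obtain ⟨m7, m8, m9⟩ := mixed (t * t') (R.mul_mem ht ht') (comm_mul hst.symm hst'.symm)
    (comm_mul hs't.symm hs't'.symm)
  rw [Units.val_mul] at m7 m8 m9
  -- commutation of y1 and y2
  have hcomm : Commute y1 y2 := by
    apply Units.ext
    rw [Units.val_mul, Units.val_mul, hy1v, hy2v]
    have e1 : (s : M4 F) * (t : M4 F) = (t : M4 F) * (s : M4 F) := by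
      rw [← Units.val_mul, ← Units.val_mul, hst]
    have e2 : (s : M4 F) * (t' : M4 F) = (t' : M4 F) * (s : M4 F) := by
      rw [← Units.val_mul, ← Units.val_mul, hst']
    have e3 : (s' : M4 F) * (t : M4 F) = (t : M4 F) * (s' : M4 F) := by
      rw [← Units.val_mul, ← Units.val_mul, hs't]
    have e4 : (s' : M4 F) * (t' : M4 F) = (t' : M4 F) * (s' : M4 F) := by
      rw [← Units.val_mul, ← Units.val_mul, hs't']
    have c1 : Commute (1 + (s : M4 F)) (1 + (t : M4 F)) :=
      ((Commute.one_left _).add_left ((Commute.one_right _).add_right e1))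
    have c2 : Commute (1 + (s : M4 F)) (1 + (t' : M4 F)) :=
      ((Commute.one_left _).add_left ((Commute.one_right _).add_right e2))
    have c3 : Commute (1 + (s' : M4 F)) (1 + (t : M4 F)) :=
      ((Commute.one_left _).add_left ((Commute.one_right _).add_right e3))
    have c4 : Commute (1 + (s' : M4 F)) (1 + (t' : M4 F)) :=
      ((Commute.one_left _).add_left ((Commute.one_right _).add_right e4))
    have c5 : Commute ((1 + (s : M4 F)) * (1 + (s' : M4 F))) ((1 + (t : M4 F)) * (1 + (t' : M4 F))) :=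
      ((c1.mul_right c2).mul_left (c3.mul_right c4))
    rw [smul_mul_smul_comm, smul_mul_smul_comm, c5.eq]
  refine ⟨y1 * y2, y2, Subgroup.mul_mem _ hy1N hy2N, hy2N, ?_, hy2c, ?_, ?_⟩
  · rw [hcomm.mul_pow, hy1c, hy2c, one_mul]
  · rw [Units.val_mul, hy1v, hy2v, smul_mul_smul_comm, Matrix.trace_smul]
    have hexp : (1 + (s : M4 F)) * (1 + (s' : M4 F)) * ((1 + (t : M4 F)) * (1 + (t' : M4 F)))
        = 1 + (s : M4 F) + (s' : M4 F) + (s : M4 F) * (s' : M4 F)
          + (t : M4 F) + (t' : M4 F) + (t : M4 F) * (t' : M4 F)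
          + (s : M4 F) * (t : M4 F) + (s' : M4 F) * (t : M4 F) + (s : M4 F) * (s' : M4 F) * (t : M4 F)
          + (s : M4 F) * (t' : M4 F) + (s' : M4 F) * (t' : M4 F)
          + (s : M4 F) * (s' : M4 F) * (t' : M4 F)
          + (s : M4 F) * ((t : M4 F) * (t' : M4 F)) + (s' : M4 F) * ((t : M4 F) * (t' : M4 F))
          + (s : M4 F) * (s' : M4 F) * ((t : M4 F) * (t' : M4 F)) := by
      noncomm_ring
    rw [hexp]
    simp only [Matrix.trace_add]
    rw [tr_s, tr_s', tr_k, tr_t, tr_t', tr_kt, m1, m2, m3, m4, m5, m6, m7, m8, m9, Matrix.trace_one,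
      Fintype.card_fin, smul_eq_mul]
    push_cast
    field_simp
    norm_num
  · rw [hy2v, Matrix.trace_smul]
    have hexp : (1 + (t : M4 F)) * (1 + (t' : M4 F))
        = 1 + (t : M4 F) + (t' : M4 F) + (t : M4 F) * (t' : M4 F) := by
      noncomm_ring
    rw [hexp]
    simp only [Matrix.trace_add]
    rw [tr_t, tr_t', tr_kt, Matrix.trace_one, Fintype.card_fin, smul_eq_mul]
    push_cast
    field_simp
    norm_num

end Cfsg.Agent.S6000P
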