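import Mathlib
import Cfsg.Agent.Helper27.Suz2Defs
import Cfsg.Agent.Helper19.Suz2B0
import Cfsg.Agent.Helper18.Suz2F3
import Cfsg.Agent.Helper9.SUZ2SECLINE
import Cfsg.Agent.Helper20.SUZ2F4C
import Cfsg.Agent.Helper20.SUZ2F5

/-!
# SUZ2 board, piece F6INJ: `l ↦ m_l` is injective modulo `C`
-/

set_option autoImplicit false
set_option linter.style.haveILetI false
set_option linter.unusedSectionVars false

namespace Cfsg.Agent.SUZ2P

open Cfsg.Agent.Helper17.Suz2

universe u v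

variable {K : Type v} {P : Type u} [Group K] [Group P] [MulDistribMulAction K P]

/-- the fixed point is unique -/
theorem F6inj_aux_uniq (hsq : ∀ z ∈ Om P, ∃ t ∈ Z2 P, t * t = z) {x m₁ m₂ : P}
    (h1 : IsFix x m₁) (h2 : IsFix x m₂) : m₁ = m₂ := by
  obtain ⟨t, ht, htm⟩ := hsq m₁ h1.1
  have e1 : cm t x = t * t := (h1.2.2 t ht).mpr (Or.inr htm)
  rcases (h2.2.2 t ht).mp e1 with e2 | e2
  · exact absurd (htm ▸ e2) h1.2.1
  · rw [← htm, e2]

/-- `IsFix` is `K`-equivariant -/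
theorem F6inj_aux_smul (k : K) {l m : P} (h : IsFix l m) : IsFix (k • l) (k • m) := by
  refine ⟨B0_Om_inv k m h.1, fun h1 => h.2.1 ((smul_eq_one_iff k m).mp h1), ?_⟩
  intro t ht
  have ht₀ : k⁻¹ • t ∈ Z2 P := Z2_inv k⁻¹ t ht
  have e0 : t = k • (k⁻¹ • t) := by rw [smul_inv_smul]
  have e1 : cm t (k • l) = k • cm (k⁻¹ • t) l := by
    rw [cm_smul, smul_inv_smul]
  have e2 : t * t = k • ((k⁻¹ • t) * (k⁻¹ • t)) := by
    rw [smul_mul', smul_inv_smul]
  rw [e1, e2]
  have hinj : Function.Injective (fun x : P => k • x) := MulAction.injective k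
  constructor
  · intro h1
    rcases (h.2.2 _ ht₀).mp (hinj h1) with h2 | h2
    · left; rw [h2, smul_one]
    · right; rw [h2]
  · intro h1
    have h2 := (h.2.2 _ ht₀).mpr (by
      rcases h1 with h1 | h1
      · left
        exact (smul_eq_one_iff k _).mp h1
      · right
        exact hinj h1)
    rw [h2]

/-- `IsFix` depends only on the coset of `C` -/
theorem F6inj_aux_coset {l c m : P} (hc : c ∈ CT P) (h : IsFix (l * c) m) : IsFix l m := by
  refine ⟨h.1, h.2.1, ?_⟩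
  intro t ht
  have e1 : cm t (l * c) = cm t l := by
    have hc1 : cm t c = 1 := (cm_eq_one_iff _ _).mpr (mem_CT.mp hc t ht)
    rw [Cfsg.Agent.Helper17.Suz2.cm_mul_right (by rw [hc1]; exact one_mem _), hc1, mul_one]
  rw [← e1]
  exact h.2.2 t ht

theorem F6inj (h : MinCE K P) {L : Subgroup P} (hL : KMin K (CT P) L) {l l' : P} (hl : l ∈ L)
    (hlC : l ∉ CT P) (hl' : l' ∈ L) (hl'C : l' ∉ CT P) {m : P} (hml : IsFix l m)
    (hml' : IsFix l' m) : l⁻¹ * l' ∈ CT P := by
  have hS := h.star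
  obtain ⟨-, -, hTsq⟩ := T_props h
  obtain ⟨k, hk⟩ := sec_line hS hL (fun a _ => (F5ii a a).1) (fun a _ a' _ => (F5ii a a').2)
    l hl hlC l' hl' hl'C
  have hA : IsFix (k • l) (k • m) := F6inj_aux_smul k hml
  have hB : IsFix (k • l) m := by
    apply F6inj_aux_coset hk
    have : k • l * ((k • l)⁻¹ * l') = l' := by group
    rw [this]
    exact hml'
  have hkm : k • m = m := F6inj_aux_uniq hTsq hA hB
  obtain ⟨k', -, huniq⟩ := B0_reg hS hml.1 hml.2.1 hml.1 hml.2.1
  have hk1 : k = 1 := (huniq k hkm).trans (huniq 1 (one_smul K m)).symm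
  rw [hk1, one_smul] at hk
  exact hk

end Cfsg.Agent.SUZ2P
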