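import Mathlib
import Cfsg.Prelude.Def_LieExceptional
import Cfsg.Agent.Helper18.CTDefs

set_option autoImplicit false

/-!
# S5748 piece FIX: the two-point stabilizer fixes only its two points (second count)
-/

open Cfsg Cfsg.Agent.Helper18.CT MulAction

namespace Cfsg.Agent.Helper8.CT

variable {G : Type*} [Group G]

/-- A subgroup of `G_γ` meeting `K γ` trivially has at most `e` elements. -/
theorem Geo.card_le_of_inf_K_trivial [Finite G] {Ω : Type*} [MulAction G Ω]
    {K : Ω → Subgroup G} {e : ℕ}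
    (h : Geo Ω K e) (γ : Ω) (H : Subgroup G) (hH : H ≤ stabilizer G γ)
    (hHK : ∀ x ∈ H, x ∈ K γ → x = 1) : Nat.card H ≤ e := by
  have hK : 0 < Nat.card (K γ) := Nat.card_pos
  have hidx : Nat.card (K γ) * (K γ).relIndex (stabilizer G γ) = Nat.card (stabilizer G γ) := by
    have := Subgroup.relIndex_mul_relIndex (⊥ : Subgroup G) (K γ) (stabilizer G γ) bot_le (h.K_le γ)
    simpa [Subgroup.relIndex_bot_left] using this
  have hinj : Function.Injective (fun p : H × K γ =>
      (⟨(p.1 : G) * (p.2 : G), mul_mem (hH p.1.2) (h.K_le γ p.2.2)⟩ : stabilizer G γ)) := by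
    rintro ⟨⟨a, ha⟩, ⟨k, hk⟩⟩ ⟨⟨b, hb⟩, ⟨l, hl⟩⟩ hEq
    simp only [Subtype.mk.injEq] at hEq
    have h1 : b⁻¹ * a = l * k⁻¹ := by
      have : b⁻¹ * (a * k) * k⁻¹ = b⁻¹ * (b * l) * k⁻¹ := by rw [hEq]
      simpa [mul_assoc] using this
    have h2 : b⁻¹ * a = 1 :=
      hHK _ (H.mul_mem (H.inv_mem hb) ha) (h1 ▸ (K γ).mul_mem hl ((K γ).inv_mem hk))
    have hab : a = b := by
      have := congrArg (b * ·) h2
      simpa [mul_assoc] using this
    subst hab
    have hkl : k = l := mul_left_cancel hEq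
    subst hkl
    rfl
  have hle := Nat.card_le_card_of_injective _ hinj
  rw [Nat.card_prod, ← hidx, h.K_index γ, mul_comm (Nat.card (K γ))] at hle
  exact Nat.le_of_mul_le_mul_right hle hK

theorem Geo.fix_two [Finite G] {Ω : Type*} [MulAction G Ω] [Finite Ω] {K : Ω → Subgroup G} {e : ℕ}
    (h : Geo Ω K e) (hpair : ∀ α β : Ω, α ≠ β → PairOK G Ω e α β)
    (α β γ : Ω) (hab : α ≠ β)
    (hγ : ∀ d ∈ stabilizer G α ⊓ stabilizer G β, d • γ = γ) : γ = α ∨ γ = β := by
  classical
  by_contra hcon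
  push Not at hcon
  obtain ⟨hγα, hγβ⟩ := hcon
  letI : Fintype G := Fintype.ofFinite G
  letI : Fintype Ω := Fintype.ofFinite Ω
  have he3 : 3 ≤ e := h.e_ge
  have hepos : 0 < e := by omega
  obtain ⟨D, hD⟩ : ∃ D : Subgroup G, D = stabilizer G α ⊓ stabilizer G β := ⟨_, rfl⟩
  rw [← hD] at hγ
  have hDcard : Nat.card D = e := by rw [hD]; exact (hpair α β hab).1
  have hDα : ∀ d ∈ D, d • α = α := fun d hd => by
    rw [hD] at hd; exact hd.1
  have hDβ : ∀ d ∈ D, d • β = β := fun d hd => by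
    rw [hD] at hd; exact hd.2
  -- elements of `D` of order dividing 2 are trivial
  have hD2 : ∀ d ∈ D, d * d = 1 → d = 1 := by
    intro d hd hdd
    have h1 : orderOf d ∣ 2 := orderOf_dvd_of_pow_eq_one (by rw [pow_two]; exact hdd)
    have h2 : orderOf d ∣ e := by
      have := orderOf_dvd_natCard (⟨d, hd⟩ : D)
      rwa [hDcard, Subgroup.orderOf_mk] at this
    have h3 : orderOf d ∣ Nat.gcd 2 e := Nat.dvd_gcd h1 h2
    have h4 : Nat.gcd 2 e = 1 := by
      obtain ⟨k, hk⟩ := h.e_odd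
      rw [hk]; simp
    rw [h4, Nat.dvd_one, orderOf_eq_one_iff] at h3
    exact h3
  -- `D` is non-trivial
  obtain ⟨d₀, hd₀, hd₀1⟩ : ∃ d ∈ D, d ≠ 1 := by
    by_contra hno
    push Not at hno
    have : D = ⊥ := (Subgroup.eq_bot_iff_forall D).2 hno
    rw [this] at hDcard
    simp at hDcard
    omega
  -- the fixed point set of `D`
  set Δ : Finset Ω := Finset.univ.filter (fun δ => ∀ d ∈ D, d • δ = δ) with hΔ
  have hmemΔ : ∀ δ, δ ∈ Δ ↔ ∀ d ∈ D, d • δ = δ := fun δ => by simp [hΔ]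
  have hαΔ : α ∈ Δ := (hmemΔ α).2 hDα
  have hβΔ : β ∈ Δ := (hmemΔ β).2 hDβ
  have hγΔ : γ ∈ Δ := (hmemΔ γ).2 hγ
  have hf3 : 3 ≤ Δ.card := by
    have hsub : ({α, β, γ} : Finset Ω) ⊆ Δ := by
      intro x hx
      simp only [Finset.mem_insert, Finset.mem_singleton] at hx
      rcases hx with rfl | rfl | rfl <;> assumption
    have hc : ({α, β, γ} : Finset Ω).card = 3 := by
      rw [Finset.card_insert_of_notMem, Finset.card_insert_of_notMem, Finset.card_singleton]
      · simpa using hγβ.symm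
      · simp only [Finset.mem_insert, Finset.mem_singleton, not_or]
        exact ⟨hab, hγα.symm⟩
    calc 3 = ({α, β, γ} : Finset Ω).card := hc.symm
      _ ≤ Δ.card := Finset.card_le_card hsub
  -- (a) two-point stabilizers inside `Δ` equal `D`
  have hDeq : ∀ δ ∈ Δ, δ ≠ α → stabilizer G α ⊓ stabilizer G δ = D := by
    intro δ hδ hδα
    have hle : D ≤ stabilizer G α ⊓ stabilizer G δ := by
      intro d hd
      exact ⟨hDα d hd, (hmemΔ δ).1 hδ d hd⟩
    have hc : Nat.card ↥(stabilizer G α ⊓ stabilizer G δ) = e := (hpair α δ hδα.symm).1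
    exact (Subgroup.eq_of_le_of_card_ge hle (by rw [hc, hDcard])).symm
  -- (c) involutions moving `α` inside `Δ` invert `D`
  have hJ : ∀ u : G, orderOf u = 2 → u • α ∈ Δ → u • α ≠ α → ∀ d ∈ D, u * d * u⁻¹ = d⁻¹ := by
    intro u hu huΔ huα d hd
    have := (hpair α (u • α) huα.symm).2.2 u hu rfl d
    rw [hDeq _ huΔ huα] at this
    exact this hd
  -- the set `𝒥'`
  set J : Finset G := Finset.univ.filter (fun u => orderOf u = 2 ∧ u • α ∈ Δ ∧ u • α ≠ α) with hJdef
  have hmemJ : ∀ u, u ∈ J ↔ orderOf u = 2 ∧ u • α ∈ Δ ∧ u • α ≠ α := fun u => by simp [hJdef]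
  have hJcard : e * (Δ.card - 1) ≤ J.card := by
    have hmaps : ∀ u ∈ J, (fun u : G => u • α) u ∈ Δ.erase α := by
      intro u hu
      obtain ⟨_, h2, h3⟩ := (hmemJ u).1 hu
      exact Finset.mem_erase.2 ⟨h3, h2⟩
    have := Finset.mul_card_image_le_card_of_maps_to hmaps e (by
      intro δ hδ
      obtain ⟨hδα, hδΔ⟩ := Finset.mem_erase.1 hδ
      have hc : Nat.card {u : G // orderOf u = 2 ∧ u • α = δ} = e := (hpair α δ hδα.symm).2.1
      rw [Nat.card_eq_fintype_card, Fintype.card_subtype] at hc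
      rw [← hc]
      apply Finset.card_le_card
      intro u hu
      obtain ⟨_, hu1, hu2⟩ := Finset.mem_filter.1 hu
      refine Finset.mem_filter.2 ⟨(hmemJ u).2 ⟨hu1, ?_, ?_⟩, hu2⟩
      · rw [hu2]; exact hδΔ
      · rw [hu2]; exact hδα)
    rwa [Finset.card_erase_of_mem hαΔ] at this
  -- the normalizer `W` of `D`
  set W : Subgroup G := Subgroup.normalizer (D : Set G) with hWdef
  have hWΔ : ∀ x ∈ W, ∀ δ ∈ Δ, x • δ ∈ Δ := by
    intro x hx δ hδ
    rw [hmemΔ]
    intro d hd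
    have h1 : x⁻¹ * d * x ∈ D := (Subgroup.mem_normalizer_iff''.1 hx d).1 hd
    have h2 := (hmemΔ δ).1 hδ _ h1
    calc d • x • δ = x • (x⁻¹ * d * x) • δ := by simp [mul_smul]
      _ = x • δ := by rw [h2]
  -- `D ⊓ K α = ⊥`
  have hDK : ∀ d ∈ D, d ∈ K α → d = 1 := by
    intro d hd hdK
    by_contra hne
    exact hab (h.K_free α d hdK hne β (hDβ d hd)).symm
  -- `W ⊓ G_α` has at most `e` elements
  have hWα : Nat.card ↥(W ⊓ stabilizer G α) ≤ e := by
    apply Geo.card_le_of_inf_K_trivial h α _ inf_le_right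
    intro a ha haK
    by_contra hane
    have haW : a ∈ W := ha.1
    -- `a` centralizes `D`
    have hcomm : ∀ d ∈ D, d * a = a * d := by
      intro d hd
      have h1 : a * d * a⁻¹ ∈ D := (Subgroup.mem_normalizer_iff.1 haW d).1 hd
      have h2 : a * d * a⁻¹ * d⁻¹ ∈ D := D.mul_mem h1 (D.inv_mem hd)
      have h3 : d * a⁻¹ * d⁻¹ ∈ K α :=
        h.K_norm α d (hDα d hd) a⁻¹ ((K α).inv_mem haK)
      have h4 : a * d * a⁻¹ * d⁻¹ ∈ K α := by
        have : a * (d * a⁻¹ * d⁻¹) ∈ K α := (K α).mul_mem haK h3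
        simpa [mul_assoc] using this
      have h5 := hDK _ h2 h4
      have h6 : a * d * a⁻¹ = d := by
        have := congrArg (· * d) h5
        simpa [mul_assoc] using this
      have h7 : a * d = d * a := by
        have := congrArg (· * a) h6
        simpa [mul_assoc] using this
      exact h7.symm
    have hd₀K : d₀ ∈ K α := h.K_cent α a haK hane d₀ (hcomm d₀ hd₀)
    exact hd₀1 (hDK d₀ hd₀ hd₀K)
  -- `|W| ≤ e * |Δ|`
  set Wf : Finset G := Finset.univ.filter (fun x => x ∈ W) with hWfdef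
  have hmemWf : ∀ x, x ∈ Wf ↔ x ∈ W := fun x => by simp [hWfdef]
  have hWcard : Wf.card ≤ e * Δ.card := by
    apply Finset.card_le_mul_card_image_of_maps_to (f := fun x : G => x • α)
    · intro x hx
      exact hWΔ x ((hmemWf x).1 hx) α hαΔ
    · intro δ _
      by_cases hne : (Wf.filter (fun x => x • α = δ)).Nonempty
      · obtain ⟨x₀, hx₀⟩ := hne
        obtain ⟨hx₀W, hx₀δ⟩ := Finset.mem_filter.1 hx₀
        rw [hmemWf] at hx₀W
        have hc : Nat.card ↥(W ⊓ stabilizer G α) =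
            (Finset.univ.filter (fun x : G => x ∈ W ⊓ stabilizer G α)).card := by
          rw [Nat.card_eq_fintype_card, Fintype.card_subtype]
        rw [hc] at hWα
        refine le_trans ?_ hWα
        apply Finset.card_le_card_of_injOn (fun x => x₀⁻¹ * x)
        · intro x hx
          obtain ⟨hxW, hxδ⟩ := Finset.mem_filter.1 hx
          rw [hmemWf] at hxW
          refine Finset.mem_coe.2 (Finset.mem_filter.2 ⟨Finset.mem_univ _,
            W.mul_mem (W.inv_mem hx₀W) hxW, ?_⟩)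
          show x₀⁻¹ * x ∈ stabilizer G α
          rw [mem_stabilizer_iff, mul_smul, hxδ, ← hx₀δ, inv_smul_smul]
        · intro x _ y _ hxy
          exact mul_left_cancel hxy
      · rw [Finset.not_nonempty_iff_eq_empty] at hne
        rw [hne]; simp
  -- `2 * |J| ≤ |W|`
  obtain ⟨u₀, hu₀⟩ : ∃ u₀, u₀ ∈ J := by
    have : 0 < J.card := by
      have : 0 < e * (Δ.card - 1) := Nat.mul_pos hepos (by omega)
      omega
    exact Finset.card_pos.1 this
  obtain ⟨hu₀2, hu₀Δ, hu₀α⟩ := (hmemJ u₀).1 hu₀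
  have hinvW : ∀ u : G, orderOf u = 2 → (∀ d ∈ D, u * d * u⁻¹ = d⁻¹) → u ∈ W := by
    intro u hu2 hu
    have h3 : u * u = 1 := by
      have h1 : u ^ 2 = 1 := by rw [← hu2]; exact pow_orderOf_eq_one u
      rwa [pow_two] at h1
    have huu : u⁻¹ = u := inv_eq_of_mul_eq_one_left h3
    rw [hWdef, Subgroup.mem_normalizer_iff]
    intro d
    constructor
    · intro hd
      rw [hu d hd]; exact D.inv_mem hd
    · intro hd
      have h1 := hu _ hd
      have h2 : u * (u * d * u⁻¹) * u⁻¹ = d := by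
        rw [huu]
        calc u * (u * d * u) * u = (u * u) * d * (u * u) := by simp [mul_assoc]
          _ = d := by rw [h3]; simp
      rw [h2] at h1
      have : d⁻¹ ∈ D := by rw [h1, inv_inv]; exact hd
      simpa using D.inv_mem this
  have hJinv : ∀ w ∈ J, ∀ d ∈ D, w * d * w⁻¹ = d⁻¹ := by
    intro w hw
    obtain ⟨h1, h2, h3⟩ := (hmemJ w).1 hw
    exact hJ w h1 h2 h3
  have hJW : ∀ w ∈ J, w ∈ W := by
    intro w hw
    exact hinvW w ((hmemJ w).1 hw).1 (hJinv w hw)
  have hu₀W : u₀ ∈ W := hJW u₀ hu₀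
  have hcentral : ∀ w ∈ J, ∀ d ∈ D, (u₀ * w) * d * (u₀ * w)⁻¹ = d := by
    intro w hw d hd
    have h1 := hJinv w hw d hd
    have h2 := hJinv u₀ hu₀ d⁻¹ (D.inv_mem hd)
    calc (u₀ * w) * d * (u₀ * w)⁻¹ = u₀ * (w * d * w⁻¹) * u₀⁻¹ := by simp [mul_assoc]
      _ = d := by rw [h1, h2, inv_inv]
  have h2J : 2 * J.card ≤ Wf.card := by
    have hdisj : Disjoint J (J.image (fun w => u₀ * w)) := by
      rw [Finset.disjoint_left]
      intro w hw hw'
      obtain ⟨w', hw'J, rfl⟩ := Finset.mem_image.1 hw'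
      have h1 := hJinv _ hw d₀ hd₀
      have h2 := hcentral w' hw'J d₀ hd₀
      rw [h2] at h1
      have h3 : d₀ * d₀ = 1 := by
        have := congrArg (d₀ * ·) h1
        simpa using this
      exact hd₀1 (hD2 d₀ hd₀ h3)
    have hsub : J ∪ J.image (fun w => u₀ * w) ⊆ Wf := by
      intro x hx
      rcases Finset.mem_union.1 hx with hx | hx
      · exact (hmemWf x).2 (hJW x hx)
      · obtain ⟨w', hw'J, rfl⟩ := Finset.mem_image.1 hx
        exact (hmemWf _).2 (W.mul_mem hu₀W (hJW w' hw'J))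
    have hcardimg : (J.image (fun w => u₀ * w)).card = J.card :=
      Finset.card_image_of_injective _ (mul_right_injective u₀)
    have := Finset.card_le_card hsub
    rw [Finset.card_union_of_disjoint hdisj, hcardimg] at this
    omega
  -- arithmetic
  have hfin : e * (2 * (Δ.card - 1)) ≤ e * Δ.card := by
    calc e * (2 * (Δ.card - 1)) = 2 * (e * (Δ.card - 1)) := by ring
      _ ≤ 2 * J.card := Nat.mul_le_mul_left 2 hJcard
      _ ≤ Wf.card := h2J
      _ ≤ e * Δ.card := hWcard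
  have := Nat.le_of_mul_le_mul_left hfin hepos
  omega

end Cfsg.Agent.Helper8.CT
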