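import Mathlib

set_option autoImplicit false

/-! S0983 piece CONJP: an element of `N(P) ∖ C(P)`, `|P| = p`, has at least `p` conjugates in `N(P)`. -/

namespace Cfsg.Agent.S0983P

namespace CONJP

/-- in a subgroup of prime order every element is a power of any nonidentity element -/
theorem mem_zpowers_of_prime_card {G : Type*} [Group G] (p : ℕ) [Fact p.Prime] (P : Subgroup G)
    (hP : Nat.card ↥P = p) {x : G} (hx : x ∈ P) (hx1 : x ≠ 1) {y : G} (hy : y ∈ P) :
    y ∈ Subgroup.zpowers x := by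
  have hne : (⟨x, hx⟩ : ↥P) ≠ 1 := fun h => hx1 (congrArg Subtype.val h)
  have htop := zpowers_eq_top_of_prime_card hP hne
  have hmem : (⟨y, hy⟩ : ↥P) ∈ Subgroup.zpowers (⟨x, hx⟩ : ↥P) := by rw [htop]; trivial
  obtain ⟨k, hk⟩ := Subgroup.mem_zpowers_iff.mp hmem
  refine Subgroup.mem_zpowers_iff.mpr ⟨k, ?_⟩
  have := congrArg Subtype.val hk
  simpa using this

/-- an element commuting with a nonidentity element of a subgroup of prime order centralizes it -/
theorem mem_centralizer_of_commute {G : Type*} [Group G] (p : ℕ) [Fact p.Prime] (P : Subgroup G)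
    (hP : Nat.card ↥P = p) {x : G} (hx : x ∈ P) (hx1 : x ≠ 1) {t : G} (ht : Commute t x) :
    t ∈ Subgroup.centralizer (P : Set G) := by
  rw [Subgroup.mem_centralizer_iff]
  intro y hy
  obtain ⟨k, rfl⟩ := Subgroup.mem_zpowers_iff.mp (mem_zpowers_of_prime_card p P hP hx hx1 hy)
  exact ((ht.zpow_right k).eq).symm

end CONJP

/-- CONJP (generic, Mathlib only): an element of `N(P) ∖ C(P)`, `|P| = p`, has at least `p`
conjugates inside `N(P)` -/
theorem le_card_conj_in_normalizer {G : Type*} [Group G] [Finite G] (p : ℕ) [Fact p.Prime]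
    (P : Sylow p G) (hP : Nat.card ↥(P : Subgroup G) = p) (v : G)
    (hvN : v ∈ Subgroup.normalizer ((P : Subgroup G) : Set G))
    (hvC : v ∉ Subgroup.centralizer ((P : Subgroup G) : Set G)) :
    p ≤ Nat.card {g : G // IsConj v g ∧ g ∈ Subgroup.normalizer ((P : Subgroup G) : Set G)} := by
  have hPN : (P : Subgroup G) ≤ Subgroup.normalizer ((P : Subgroup G) : Set G) :=
    Subgroup.le_normalizer
  let f : ↥(P : Subgroup G) →
      {g : G // IsConj v g ∧ g ∈ Subgroup.normalizer ((P : Subgroup G) : Set G)} :=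
    fun y => ⟨(y : G) * v * (y : G)⁻¹, isConj_iff.mpr ⟨y, rfl⟩,
      Subgroup.mul_mem _ (Subgroup.mul_mem _ (hPN y.2) hvN) (Subgroup.inv_mem _ (hPN y.2))⟩
  have hf : Function.Injective f := by
    intro y z hyz
    have h : (y : G) * v * (y : G)⁻¹ = (z : G) * v * (z : G)⁻¹ := congrArg Subtype.val hyz
    by_contra hne
    apply hvC
    have hw : ((z : G)⁻¹ * (y : G)) ∈ (P : Subgroup G) :=
      Subgroup.mul_mem _ (Subgroup.inv_mem _ z.2) y.2
    have hw1 : ((z : G)⁻¹ * (y : G)) ≠ 1 := by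
      intro h1
      apply hne
      apply Subtype.ext
      have := eq_of_inv_mul_eq_one h1
      exact this.symm
    refine CONJP.mem_centralizer_of_commute p (P : Subgroup G) hP hw hw1 ?_
    -- v commutes with z⁻¹ y
    show v * ((z : G)⁻¹ * (y : G)) = ((z : G)⁻¹ * (y : G)) * v
    have h2 : (z : G)⁻¹ * ((y : G) * v * (y : G)⁻¹) * (y : G) =
        (z : G)⁻¹ * ((z : G) * v * (z : G)⁻¹) * (y : G) := by rw [h]
    have h3 : (z : G)⁻¹ * ((y : G) * v * (y : G)⁻¹) * (y : G) = ((z : G)⁻¹ * (y : G)) * v := by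
      group
    have h4 : (z : G)⁻¹ * ((z : G) * v * (z : G)⁻¹) * (y : G) = v * ((z : G)⁻¹ * (y : G)) := by
      group
    rw [← h3, ← h4, h2]
  have := Nat.card_le_card_of_injective f hf
  rwa [hP] at this

end Cfsg.Agent.S0983P
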