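import Mathlib

set_option autoImplicit false
set_option linter.unusedVariables false

/-! S0983 piece INVOL: a Klein four-group normalizing a subgroup of prime order contains a
nonidentity element centralizing it. -/

namespace Cfsg.Agent.S0983P

namespace INVOL

/-- in a subgroup of prime order every element is a power of any nonidentity element -/
theorem mem_zpowers_of_prime_card {G : Type*} [Group G] (p : ℕ) [Fact p.Prime] (P : Subgroup G)
    (hP : Nat.card ↥P = p) {x : G} (hx : x ∈ P) (hx1 : x ≠ 1) {y : G} (hy : y ∈ P) :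
    y ∈ Subgroup.zpowers x := by
  have hne : (⟨x, hx⟩ : ↥P) ≠ 1 := fun h => hx1 (congrArg Subtype.val h)
  have htop := zpowers_eq_top_of_prime_card hP hne
  have hmem : (⟨y, hy⟩ : ↥P) ∈ Subgroup.zpowers (⟨x, hx⟩ : ↥P) := by rw [htop]; trivial
  obtain ⟨k, hk⟩ := Subgroup.mem_zpowers_iff.mp hmem
  refine Subgroup.mem_zpowers_iff.mpr ⟨k, ?_⟩
  have := congrArg Subtype.val hk
  simpa using this

/-- an element commuting with a nonidentity element of a subgroup of prime order centralizes it -/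
theorem mem_centralizer_of_commute {G : Type*} [Group G] (p : ℕ) [Fact p.Prime] (P : Subgroup G)
    (hP : Nat.card ↥P = p) {x : G} (hx : x ∈ P) (hx1 : x ≠ 1) {t : G} (ht : Commute t x) :
    t ∈ Subgroup.centralizer (P : Set G) := by
  rw [Subgroup.mem_centralizer_iff]
  intro y hy
  obtain ⟨k, rfl⟩ := Subgroup.mem_zpowers_iff.mp (mem_zpowers_of_prime_card p P hP hx hx1 hy)
  exact ((ht.zpow_right k).eq).symm

/-- an involution normalizing `P` of prime order centralizes `P` or inverts the generator `x` -/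
theorem centralizes_or_inverts {G : Type*} [Group G] (p : ℕ) [Fact p.Prime] (P : Subgroup G)
    (hP : Nat.card ↥P = p) {x : G} (hx : x ∈ P) (hx1 : x ≠ 1) {t : G} (ht2 : t * t = 1)
    (htN : t ∈ Subgroup.normalizer (P : Set G)) :
    t ∈ Subgroup.centralizer (P : Set G) ∨ t * x * t⁻¹ = x⁻¹ := by
  have hy : t * x * t⁻¹ ∈ P := (Subgroup.mem_normalizer_iff.mp htN x).mp hx
  by_cases hu : x * (t * x * t⁻¹) = 1
  · right
    exact (eq_inv_of_mul_eq_one_right hu)
  · left
    have huP : x * (t * x * t⁻¹) ∈ P := P.mul_mem hx hy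
    refine mem_centralizer_of_commute p P hP huP hu ?_
    -- `t * x * t⁻¹` commutes with `x`
    obtain ⟨k, hk⟩ := Subgroup.mem_zpowers_iff.mp (mem_zpowers_of_prime_card p P hP hx hx1 hy)
    have hcomm : x * (t * x * t⁻¹) = (t * x * t⁻¹) * x := by
      rw [← hk]
      exact ((Commute.refl x).zpow_right k).eq
    have htinv : t⁻¹ = t := inv_eq_of_mul_eq_one_right ht2
    show t * (x * (t * x * t⁻¹)) = (x * (t * x * t⁻¹)) * t
    have e1 : t * (x * (t * x * t⁻¹)) = (t * x * t⁻¹) * (t * t) * x * t⁻¹ := by group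
    rw [e1, ht2, mul_one, ← hcomm, htinv]

end INVOL

/-- INVOL (generic, Mathlib only): a Klein four-subgroup `T` normalizing a subgroup `P` of odd
prime order contains a nonidentity element centralizing `P` -/
theorem exists_mem_centralizer_of_klein {G : Type*} [Group G] (p : ℕ) [Fact p.Prime] (hp2 : p ≠ 2)
    (P T : Subgroup G) (hP : Nat.card ↥P = p) (hT : IsKleinFour ↥T)
    (hTN : T ≤ Subgroup.normalizer (P : Set G)) :
    ∃ t ∈ T, t ≠ 1 ∧ t ∈ Subgroup.centralizer (P : Set G) := by
  classical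
  -- a generator of `P`
  have hp : p.Prime := Fact.out
  have : Finite ↥P := Nat.finite_of_card_ne_zero (by rw [hP]; exact hp.ne_zero)
  have hnt : Nontrivial ↥P := by
    rw [← Finite.one_lt_card_iff_nontrivial, hP]; exact hp.one_lt
  obtain ⟨⟨x, hx⟩, hx1'⟩ := exists_ne (1 : ↥P)
  have hx1 : x ≠ 1 := fun h => hx1' (Subtype.ext h)
  -- three distinct elements of `T`
  have : Finite ↥T := IsKleinFour.instFinite
  have : Fintype ↥T := Fintype.ofFinite _
  have hc4 : Fintype.card ↥T = 4 := by rw [← Nat.card_eq_fintype_card]; exact hT.card_four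
  obtain ⟨a, b, c, hab, hac, hbc⟩ := Fintype.two_lt_card_iff.mp (by rw [hc4]; norm_num)
  have hsq : ∀ t : ↥T, (t : G) * (t : G) = 1 := fun t => by
    have := IsKleinFour.mul_self t
    exact congrArg Subtype.val this
  -- two distinct nonidentity elements
  obtain ⟨a, b, ha1, hb1, hab⟩ : ∃ a b : ↥T, a ≠ 1 ∧ b ≠ 1 ∧ a ≠ b := by
    by_cases ha : a = 1
    · exact ⟨b, c, fun h => hab (ha.trans h.symm), fun h => hac (ha.trans h.symm), hbc⟩
    · by_cases hb : b = 1
      · exact ⟨a, c, ha, fun h => hbc (hb.trans h.symm), hac⟩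
      · exact ⟨a, b, ha, hb, hab⟩
  have key : ∀ t : ↥T, (t : G) ∈ Subgroup.centralizer (P : Set G) ∨
      (t : G) * x * (t : G)⁻¹ = x⁻¹ := fun t =>
    INVOL.centralizes_or_inverts p P hP hx hx1 (hsq t) (hTN t.2)
  rcases key a with ha | ha
  · exact ⟨a, a.2, fun h => ha1 (Subtype.ext h), ha⟩
  rcases key b with hb | hb
  · exact ⟨b, b.2, fun h => hb1 (Subtype.ext h), hb⟩
  refine ⟨(a : G) * (b : G), T.mul_mem a.2 b.2, ?_, ?_⟩
  · intro h
    apply hab
    apply Subtype.ext
    have h1 : (a : G) = (b : G)⁻¹ := eq_inv_of_mul_eq_one_left h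
    have h2 : (b : G)⁻¹ = (b : G) := inv_eq_of_mul_eq_one_right (hsq b)
    rw [h1, h2]
  · refine INVOL.mem_centralizer_of_commute p P hP hx hx1 ?_
    show (a : G) * (b : G) * x = x * ((a : G) * (b : G))
    have e : (a : G) * (b : G) * x =
        (a : G) * ((b : G) * x * (b : G)⁻¹) * (a : G)⁻¹ * ((a : G) * (b : G)) := by group
    rw [e, hb]
    have e2 : (a : G) * x⁻¹ * (a : G)⁻¹ = ((a : G) * x * (a : G)⁻¹)⁻¹ := by group
    rw [e2, ha, inv_inv]

end Cfsg.Agent.S0983P
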