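import Mathlib
import Cfsg.Prelude.Def_GeometricClasses
import Cfsg.Agent.Helper18.S5707.Defs

/-! S5707 piece ARITH -/

set_option autoImplicit false

namespace Cfsg.Agent.S5707P

open Matrix

variable {F : Type*} [Field F] {k t : ℕ}

/-- piece ARITH (S): the shape of `(k, t)`. -/
theorem ARITH.cases {n : ℕ} (hn : 13 ≤ n) (heven : Even n) (k t : ℕ) (ht : 2 ≤ t) (hk : k ≤ 4)
    (e : Fin n ≃ (Fin t → Fin k)) : (k = 2 ∧ 4 ≤ t) ∨ (k = 4 ∧ 2 ≤ t) := by
  have hcard : n = k ^ t := by
    have := Fintype.card_congr e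
    simpa using this
  interval_cases k
  · exfalso
    rw [zero_pow (by omega)] at hcard
    omega
  · exfalso
    rw [one_pow] at hcard
    omega
  · left
    refine ⟨rfl, ?_⟩
    by_contra h
    push Not at h
    have : 2 ^ t ≤ 2 ^ 3 := Nat.pow_le_pow_right (by norm_num) (by omega)
    omega
  · exfalso
    have hodd : Odd (3 ^ t) := Odd.pow (by decide)
    rw [← hcard] at hodd
    exact (Nat.not_even_iff_odd.2 hodd) heven
  · right
    exact ⟨rfl, ht⟩

end Cfsg.Agent.S5707P
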