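import Mathlib
import Cfsg.Prelude.Def_GeometricClasses
import Cfsg.Agent.Helper18.S5707.Defs

/-! S5707 piece GRAM2 -/

set_option autoImplicit false

namespace Cfsg.Agent.S5707P

open Matrix

variable {F : Type*} [Field F] {k t : ℕ}

/-- piece GRAM2 (S): in characteristic 2 the Gram matrix of a symplectic form on `F^2` is `lam • J2`. -/
theorem GRAM2.gram [CharP F 2] (f₁ : (Fin 2 → F) → (Fin 2 → F) → F) (hf₁ : Cfsg.Geo.IsSymplecticForm f₁) :
    ∃ lam : F, lam ≠ 0 ∧ Cfsg.Geo.gramMatrix f₁ = lam • (J2 : Matrix (Fin 2) (Fin 2) F) := by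
  set e0 : Fin 2 → F := Pi.single 0 1 with he0
  set e1 : Fin 2 → F := Pi.single 1 1 with he1
  have h10 : f₁ e1 e0 = f₁ e0 e1 := by
    rw [hf₁.skew e1 e0]
    exact CharTwo.neg_eq _
  have hdecomp : ∀ x : Fin 2 → F, x = x 0 • e0 + x 1 • e1 := by
    intro x
    funext i
    fin_cases i <;> simp [he0, he1]
  refine ⟨f₁ e0 e1, ?_, ?_⟩
  · intro h0
    have hne : e0 ≠ 0 := by
      intro h
      have := congrFun h 0
      simp [he0] at this
    obtain ⟨⟨x, hx⟩, _⟩ := hf₁.nondegenerate e0 hne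
    apply hx
    rw [hdecomp x, hf₁.bilinear.add_left, hf₁.bilinear.smul_left, hf₁.bilinear.smul_left,
      hf₁.alternating, h10, h0]
    simp
  · ext a b
    fin_cases a <;> fin_cases b
    · simp [Cfsg.Geo.gramMatrix, J2, hf₁.alternating]
    · simp [Cfsg.Geo.gramMatrix, J2, he0, he1]
    · simp only [Cfsg.Geo.gramMatrix, J2]
      simpa [he0, he1] using h10
    · simp [Cfsg.Geo.gramMatrix, J2, hf₁.alternating]

end Cfsg.Agent.S5707P
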