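import Mathlib
import Cfsg.Prelude.Def_Classical
import Cfsg.Agent.Helper23.S5953Defs
import Cfsg.Agent.Helper28.HermCount

set_option autoImplicit false
open scoped MatrixGroups Matrix

/-! S5953 piece SDNTA (helper8). -/

universe u

namespace Cfsg.Agent.S5953P

open Polynomial Cfsg.Agent.S5955P Cfsg.Agent.Helper28.HW Cfsg.Agent.Helper28.HermFrame

namespace SDNTA

variable {F V : Type*} [Field F] [AddCommGroup V] [Module F V] {σ : F →+* F}

theorem adjoint_pow (B : V →ₛₗ[σ] V →ₗ[F] F) (y : Module.End F V) (r : ℕ) (hr : 0 < r)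
    (hiso : ∀ u v, B (y u) (y v) = B u v) (hpow : y ^ r = 1) (n : ℕ) (u v : V) :
    B ((y ^ n) u) v = B u (((y ^ (r - 1)) ^ n) v) := by
  have h1 : y * y ^ (r - 1) = 1 := by
    rw [← pow_succ', Nat.sub_add_cancel hr, hpow]
  induction n generalizing u v with
  | zero => rw [pow_zero, pow_zero, Module.End.one_apply, Module.End.one_apply]
  | succ n ih =>
    rw [pow_succ', Module.End.mul_apply, pow_succ, Module.End.mul_apply]
    have h2 : v = y ((y ^ (r - 1)) v) := by
      rw [← Module.End.mul_apply, h1, Module.End.one_apply]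
    conv_lhs => rw [h2]
    rw [hiso, ih]

end SDNTA

/-- SDNTA: the adjoint of a polynomial in `y` -/
theorem adjoint_aeval_u {F V : Type*} [Field F] [Fintype F] [AddCommGroup V] [Module F V]
    [FiniteDimensional F V] {q : ℕ} (r : ℕ) (hr : 0 < r) {σ : F →+* F}
    (B : V →ₛₗ[σ] V →ₗ[F] F) (y : Module.End F V) (h : IsYU q B y r) (P : F[X]) (u v : V) :
    B (aeval y P u) v = B u (aeval (y ^ (r - 1)) (P.map σ) v) := by
  induction P using Polynomial.induction_on' with
  | add P Q hP hQ =>
    rw [map_add, LinearMap.add_apply, map_add, LinearMap.add_apply, hP, hQ, Polynomial.map_add,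
      map_add, LinearMap.add_apply, map_add]
  | monomial n a =>
    rw [Polynomial.map_monomial, Polynomial.aeval_monomial, Polynomial.aeval_monomial,
      Module.End.mul_apply, Module.End.mul_apply, Module.algebraMap_end_apply,
      Module.algebraMap_end_apply, map_smulₛₗ, LinearMap.smul_apply, map_smul,
      SDNTA.adjoint_pow B y r hr h.isom h.pow n u v]

end Cfsg.Agent.S5953P
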