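import Mathlib

set_option autoImplicit false

/-! S5982 pieces NTROOT and the shared root-extraction lemma for finite fields. -/

namespace Cfsg.Agent.S5982P

namespace NTROOT

/-- In a finite field with `N = |F| - 1`, a nonzero `z` with `z ^ (N / gcd n N) = 1` is an `n`-th power. -/
theorem exists_pow_eq_of_pow_div_gcd {F : Type*} [Field F] [Fintype F] (n : ℕ) (z : F) (hz0 : z ≠ 0)
    (hz : z ^ ((Fintype.card F - 1) / Nat.gcd n (Fintype.card F - 1)) = 1) :
    ∃ d : F, d ^ n = z := by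
  classical
  obtain ⟨γ, hγ⟩ := IsCyclic.exists_generator (α := Fˣ)
  have hordγ : orderOf γ = Fintype.card F - 1 := by
    rw [orderOf_eq_card_of_forall_mem_zpowers hγ, Nat.card_eq_fintype_card, Fintype.card_units]
  set N := Fintype.card F - 1 with hN
  have hN0 : 0 < N := by rw [← hordγ]; exact orderOf_pos γ
  set g := Nat.gcd n N with hg
  have hgN : g ∣ N := Nat.gcd_dvd_right n N
  obtain ⟨m, hm⟩ := hgN
  have hg0 : 0 < g := Nat.gcd_pos_of_pos_right n hN0
  have hm0 : 0 < m := by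
    rcases Nat.eq_zero_or_pos m with h | h
    · rw [h, mul_zero] at hm; omega
    · exact h
  have hdiv : N / g = m := by rw [hm, Nat.mul_div_cancel_left m hg0]
  rw [hdiv] at hz
  have hzmem : Units.mk0 z hz0 ∈ Submonoid.powers γ := by
    rw [mem_powers_iff_mem_zpowers]
    exact hγ _
  obtain ⟨t, ht⟩ := hzmem
  have ht : γ ^ t = Units.mk0 z hz0 := ht
  have htm : γ ^ (t * m) = 1 := by
    rw [pow_mul, ht]
    apply Units.ext
    simp [hz]
  have hdvd : g * m ∣ t * m := by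
    rw [← hm, ← hordγ]
    exact orderOf_dvd_of_pow_eq_one htm
  have hgt : g ∣ t := Nat.dvd_of_mul_dvd_mul_right hm0 hdvd
  obtain ⟨t', ht'⟩ := hgt
  -- Bezout
  have hbez : (g : ℤ) = n * Nat.gcdA n N + N * Nat.gcdB n N := Nat.gcd_eq_gcd_ab n N
  have hγN : γ ^ (N : ℤ) = 1 := by
    rw [zpow_natCast, ← hordγ, pow_orderOf_eq_one]
  have hkey : (γ ^ (Nat.gcdA n N * t')) ^ (n : ℤ) = γ ^ (t : ℤ) := by
    have e : (t : ℤ) = (n : ℤ) * (Nat.gcdA n N * t') + (N : ℤ) * (Nat.gcdB n N * t') := by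
      rw [ht', Nat.cast_mul, hbez]; ring
    rw [e, zpow_add, zpow_mul γ (N : ℤ), hγN, one_zpow, mul_one, ← zpow_mul]
    congr 1
    ring
  refine ⟨((γ ^ (Nat.gcdA n N * t') : Fˣ) : F), ?_⟩
  rw [zpow_natCast, zpow_natCast, ht] at hkey
  have := congrArg (fun u : Fˣ => (u : F)) hkey
  simpa using this

end NTROOT

/-- NTROOT: `ξ⁻¹` is an `n`-th power when `v_r(n) < v_r(q - 1)` -/
theorem exists_mu {F : Type*} [Field F] [Fintype F] (r : ℕ) [Fact r.Prime] (n : ℕ) (hn : 1 ≤ n)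
    (hv : padicValNat r n < padicValNat r (Fintype.card F - 1)) (ξ : F) (hξ : orderOf ξ = r) :
    ∃ μ : F, μ ^ n * ξ = 1 := by
  classical
  have hr : r.Prime := Fact.out
  have hξ0 : ξ ≠ 0 := by
    rintro rfl
    rw [orderOf_zero] at hξ
    · exact hr.ne_zero hξ.symm
  have hξr : ξ ^ r = 1 := by rw [← hξ]; exact pow_orderOf_eq_one ξ
  set N := Fintype.card F - 1 with hN
  have hN0 : N ≠ 0 := by
    intro h
    rw [h] at hv
    simp at hv
  set g := Nat.gcd n N with hg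
  have hgN : g ∣ N := Nat.gcd_dvd_right n N
  have hgn : g ∣ n := Nat.gcd_dvd_left n N
  have hg0 : g ≠ 0 := Nat.gcd_ne_zero_right hN0
  have hvg : padicValNat r g ≤ padicValNat r n :=
    (padicValNat_dvd_iff_le (by omega)).mp (dvd_trans pow_padicValNat_dvd hgn)
  have hrdiv : r ∣ N / g := by
    apply dvd_of_one_le_padicValNat
    rw [padicValNat.div_of_dvd hgN]
    omega
  obtain ⟨k, hk⟩ := hrdiv
  have hpow : (ξ⁻¹) ^ (N / g) = 1 := by
    rw [hk, pow_mul, inv_pow, hξr, inv_one, one_pow]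
  obtain ⟨d, hd⟩ := NTROOT.exists_pow_eq_of_pow_div_gcd n ξ⁻¹ (inv_ne_zero hξ0) hpow
  exact ⟨d, by rw [hd, inv_mul_cancel₀ hξ0]⟩

end Cfsg.Agent.S5982P
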