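import Mathlib
import Cfsg.Agent.Helper8.S5982NTROOT

set_option autoImplicit false
set_option linter.unusedVariables false

/-! S5984 pieces NTREFL, SQRT, NTPAR (number theory). -/

namespace Cfsg.Agent.S5984P

namespace NTREFL

theorem two_le_of_card {F : Type*} [Field F] [Fintype F] {q : ℕ} (hF : Fintype.card F = q ^ 2) :
    2 ≤ q := by
  have h1 : 1 < Fintype.card F := Fintype.one_lt_card
  rw [hF] at h1
  by_contra hlt
  have : q = 0 ∨ q = 1 := by omega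
  rcases this with h | h <;> simp [h] at h1

theorem card_sub_one {F : Type*} [Field F] [Fintype F] {q : ℕ} (hF : Fintype.card F = q ^ 2) :
    Fintype.card F - 1 = (q - 1) * (q + 1) := by
  have hq := two_le_of_card hF
  rw [hF]
  obtain ⟨k, rfl⟩ : ∃ k, q = k + 1 := ⟨q - 1, by omega⟩
  simp only [Nat.add_sub_cancel]
  have : (k + 1) ^ 2 = k * (k + 1 + 1) + 1 := by ring
  omega

end NTREFL

/-- NTREFL: a norm-one `μ` with `μ ^ n = -1` -/
theorem exists_norm_one_pow_eq_neg_one {F : Type*} [Field F] [Fintype F] {q n : ℕ}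
    (hF : Fintype.card F = q ^ 2) (hq : Odd q) (hn : 0 < n)
    (hv : padicValNat 2 n < padicValNat 2 (q + 1)) : ∃ μ : F, μ ^ (q + 1) = 1 ∧ μ ^ n = -1 := by
  classical
  have : Fact (Nat.Prime 2) := ⟨Nat.prime_two⟩
  have hq2 := NTREFL.two_le_of_card hF
  have hN := NTREFL.card_sub_one hF
  have hq1 : 0 < q - 1 := by omega
  set g := Nat.gcd n (q + 1) with hg
  have hg0 : g ≠ 0 := Nat.gcd_ne_zero_left hn.ne'
  have hgn : g ∣ n := Nat.gcd_dvd_left n (q + 1)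
  have hgq : g ∣ q + 1 := Nat.gcd_dvd_right n (q + 1)
  have hvg : padicValNat 2 g ≤ padicValNat 2 n :=
    (padicValNat_dvd_iff_le hn.ne').mp (dvd_trans pow_padicValNat_dvd hgn)
  have heven : 2 ∣ (q + 1) / g := by
    apply dvd_of_one_le_padicValNat
    rw [padicValNat.div_of_dvd hgq]
    omega
  have hdiv : (Fintype.card F - 1) / Nat.gcd ((q - 1) * n) (Fintype.card F - 1) = (q + 1) / g := by
    rw [hN, Nat.gcd_mul_left, Nat.mul_div_mul_left _ _ hq1]
  have hpow : (-1 : F) ^ ((Fintype.card F - 1) / Nat.gcd ((q - 1) * n) (Fintype.card F - 1)) = 1 := by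
    rw [hdiv]
    obtain ⟨k, hk⟩ := heven
    rw [hk, pow_mul, neg_one_sq, one_pow]
  obtain ⟨ν, hν⟩ := Cfsg.Agent.S5982P.NTROOT.exists_pow_eq_of_pow_div_gcd ((q - 1) * n) (-1 : F)
    (neg_ne_zero.mpr one_ne_zero) hpow
  have hν0 : ν ≠ 0 := by
    rintro rfl
    rw [zero_pow (Nat.mul_ne_zero hq1.ne' hn.ne')] at hν
    exact (neg_ne_zero.mpr one_ne_zero) hν.symm
  refine ⟨ν ^ (q - 1), ?_, ?_⟩
  · rw [← pow_mul, ← hN]
    exact FiniteField.pow_card_sub_one_eq_one ν hν0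
  · rw [← pow_mul, hν]

/-- SQRT: norm-one elements are squares when `q` is odd -/
theorem exists_sqrt_of_norm_one {F : Type*} [Field F] [Fintype F] {q : ℕ}
    (hF : Fintype.card F = q ^ 2) (hq : Odd q) (z : F) (hz : z ^ (q + 1) = 1) :
    ∃ ν : F, ν ^ 2 = z ∧ (ν ^ (q + 1) = 1 ∨ ν ^ (q + 1) = -1) := by
  classical
  have hq2 := NTREFL.two_le_of_card hF
  have hN := NTREFL.card_sub_one hF
  have hz0 : z ≠ 0 := by
    rintro rfl
    rw [zero_pow (by omega)] at hz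
    exact zero_ne_one hz
  obtain ⟨k, hk⟩ := hq
  have hq1 : q - 1 = 2 * k := by omega
  have hgcd : Nat.gcd 2 (Fintype.card F - 1) = 2 :=
    Nat.gcd_eq_left (by rw [hN, hq1]; exact ⟨k * (q + 1), by ring⟩)
  have hdiv : (Fintype.card F - 1) / Nat.gcd 2 (Fintype.card F - 1) = (q + 1) * k := by
    rw [hgcd, hN, hq1]
    have : 2 * k * (q + 1) = 2 * ((q + 1) * k) := by ring
    rw [this, Nat.mul_div_cancel_left _ (by norm_num)]
  have hpow : z ^ ((Fintype.card F - 1) / Nat.gcd 2 (Fintype.card F - 1)) = 1 := by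
    rw [hdiv, pow_mul, hz, one_pow]
  obtain ⟨ν, hν⟩ := Cfsg.Agent.S5982P.NTROOT.exists_pow_eq_of_pow_div_gcd 2 z hz0 hpow
  refine ⟨ν, hν, ?_⟩
  apply mul_self_eq_one_iff.mp
  rw [← pow_two, ← pow_mul, mul_comm, pow_mul, hν, hz]

/-- NTPAR: `μ^(q+1) = 1`, `μ^n = -1` forces `v₂(n) < v₂(q+1)` -/
theorem padic_lt_of_pow_eq_neg_one {F : Type*} [Field F] (h2 : (2 : F) ≠ 0) {q n : ℕ} (hn : n ≠ 0)
    (μ : F) (hμ : μ ^ (q + 1) = 1) (hμn : μ ^ n = -1) : padicValNat 2 n < padicValNat 2 (q + 1) := by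
  have : Fact (Nat.Prime 2) := ⟨Nat.prime_two⟩
  by_contra hcon
  have hle : padicValNat 2 (q + 1) ≤ padicValNat 2 n := by omega
  set o := orderOf μ with ho
  have ho1 : o ∣ q + 1 := orderOf_dvd_of_pow_eq_one hμ
  have ho2 : o ∣ 2 * n := by
    apply orderOf_dvd_of_pow_eq_one
    rw [mul_comm, pow_mul, hμn, neg_one_sq]
  have ho0 : o ≠ 0 := fun h => by rw [h, zero_dvd_iff] at ho1; omega
  -- `o ∣ n`
  obtain ⟨a, o', ho', hoo⟩ := Nat.exists_eq_two_pow_mul_odd ho0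
  have h2o' : ¬ 2 ∣ o' := fun h => (Nat.not_even_iff_odd.mpr ho') (even_iff_two_dvd.mpr h)
  have hc2 : Nat.Coprime 2 o' := (Nat.Prime.coprime_iff_not_dvd Nat.prime_two).mpr h2o'
  have hcop : Nat.Coprime (2 ^ a) o' := Nat.Coprime.pow_left a hc2
  have ha : 2 ^ a ∣ q + 1 := dvd_trans (hoo ▸ dvd_mul_right _ _) ho1
  have ha' : a ≤ padicValNat 2 (q + 1) := (padicValNat_dvd_iff_le (by omega)).mp ha
  have h2a : 2 ^ a ∣ n := (padicValNat_dvd_iff_le hn).mpr (by omega)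
  have ho'n : o' ∣ n := by
    have h1 : o' ∣ 2 * n := dvd_trans (hoo ▸ dvd_mul_left _ _) ho2
    have hc : Nat.Coprime o' 2 := hc2.symm
    exact hc.dvd_of_dvd_mul_left h1
  have hon : o ∣ n := by
    rw [hoo]
    exact hcop.mul_dvd_of_dvd_of_dvd h2a ho'n
  have : μ ^ n = 1 := orderOf_dvd_iff_pow_eq_one.mp hon
  rw [this] at hμn
  apply h2
  have : (1 : F) + 1 = 0 := by
    nth_rewrite 1 [hμn]
    ring
  rw [← one_add_one_eq_two]
  exact this

end Cfsg.Agent.S5984P
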