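import Mathlib

set_option autoImplicit false
set_option linter.unusedSectionVars false
set_option linter.unusedVariables false

/-! S5075 piece SPORBIT: symplectic transvections are transitive on the nonzero vectors (closure form). -/

namespace Cfsg.Agent.S5075P

variable {p : ℕ} [Fact p.Prime] {V : Type*} [AddCommGroup V] [Module (ZMod p) V]

/-- one move: from `x` with `B m' (π x) ≠ 0` reach `x - π x + m'` -/
theorem SPORBIT_step {π : V →ₗ[ZMod p] V} {B : LinearMap.BilinForm (ZMod p) V}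
    (halt : B.IsAlt) (hBπ : ∀ x y, B (π x) y = B x y) (S : Set V)
    (hS : ∀ x ∈ S, ∀ m, π m = m → ∀ c : ZMod p, x + (c * B m x) • m ∈ S)
    {x : V} (hx : x ∈ S) {m' : V} (hm' : π m' = m') (hpp : π (π x) = π x)
    (hne : B m' (π x) ≠ 0) : x - π x + m' ∈ S := by
  have hBr : ∀ a b, B a (π b) = B a b := by
    intro a b
    rw [← halt.neg_eq, hBπ, halt.neg_eq]
  have hm : π (m' - π x) = m' - π x := by rw [map_sub, hm', hpp]
  have h1 := hS x hx (m' - π x) hm (B m' (π x))⁻¹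
  have h2 : B (m' - π x) x = B m' (π x) := by
    rw [map_sub, LinearMap.sub_apply, ← hBr m' x, ← hBr (π x) x, halt.self_eq_zero, sub_zero]
  rw [h2, inv_mul_cancel₀ hne, one_smul] at h1
  have h3 : x + (m' - π x) = x - π x + m' := by abel
  rw [← h3]
  exact h1

theorem sp_orbit [Finite V] {π : V →ₗ[ZMod p] V} {B : LinearMap.BilinForm (ZMod p) V}
    (hidem : π ∘ₗ π = π) (halt : B.IsAlt) (hBπ : ∀ x y, B (π x) y = B x y)
    (hnd : ∀ m, π m = m → (∀ y, B m y = 0) → m = 0) (S : Set V)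
    (hS : ∀ x ∈ S, ∀ m, π m = m → ∀ c : ZMod p, x + (c * B m x) • m ∈ S)
    {x : V} (hx : x ∈ S) (hx0 : π x ≠ 0) {m' : V} (hm' : π m' = m') (hm'0 : m' ≠ 0) :
    x - π x + m' ∈ S := by
  have hpp : ∀ y, π (π y) = π y := fun y => by
    have := congrArg (fun f : V →ₗ[ZMod p] V => f y) hidem
    simpa using this
  have hBr : ∀ a b, B a (π b) = B a b := by
    intro a b
    rw [← halt.neg_eq, hBπ, halt.neg_eq]
  by_cases hne : B m' (π x) ≠ 0
  · exact SPORBIT_step halt hBπ S hS hx hm' (hpp x) hne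
  · rw [not_not] at hne
    -- `m₁ ∈ M` with `B m₁ (π x) ≠ 0`, `m₂ ∈ M` with `B m' m₂ ≠ 0`
    obtain ⟨y₁, hy₁⟩ : ∃ y, B (π x) y ≠ 0 := by
      by_contra hcon
      push Not at hcon
      exact hx0 (hnd (π x) (hpp x) hcon)
    obtain ⟨y₂, hy₂⟩ : ∃ y, B m' y ≠ 0 := by
      by_contra hcon
      push Not at hcon
      exact hm'0 (hnd m' hm' hcon)
    have h1 : B (π y₁) (π x) ≠ 0 := by
      rw [← halt.neg_eq, hBr]
      exact neg_ne_zero.mpr hy₁
    have h2 : B m' (π y₂) ≠ 0 := by rw [hBr]; exact hy₂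
    -- choose `m''`
    obtain ⟨m'', hm'', hA, hB'⟩ : ∃ m'', π m'' = m'' ∧ B m'' (π x) ≠ 0 ∧ B m' m'' ≠ 0 := by
      by_cases c1 : B m' (π y₁) ≠ 0
      · exact ⟨π y₁, hpp y₁, h1, c1⟩
      · rw [not_not] at c1
        by_cases c2 : B (π y₂) (π x) ≠ 0
        · exact ⟨π y₂, hpp y₂, c2, h2⟩
        · rw [not_not] at c2
          refine ⟨π y₁ + π y₂, by rw [map_add, hpp, hpp], ?_, ?_⟩
          · rw [map_add, LinearMap.add_apply, c2, add_zero]; exact h1
          · rw [map_add, c1, zero_add]; exact h2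
    -- first move
    have s1 : x - π x + m'' ∈ S := SPORBIT_step halt hBπ S hS hx hm'' (hpp x) hA
    -- second move
    have hπ1 : π (x - π x + m'') = m'' := by
      rw [map_add, map_sub, hpp, sub_self, zero_add, hm'']
    have s2 := SPORBIT_step halt hBπ S hS s1 hm' (by rw [hπ1, hm'']) (by rw [hπ1]; exact hB')
    rw [hπ1] at s2
    have h3 : x - π x + m'' - m'' + m' = x - π x + m' := by abel
    rw [← h3]
    exact s2

end Cfsg.Agent.S5075P
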