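import Mathlib
import Cfsg.Prelude.Def_GeometricClasses
import Cfsg.Agent.Helper19.Mono.Defs

/-! S5634 (monomial half, driver helper19), piece ALLNZ: all block entries of a non-monomial `A`-supported `g ∈ H`
are non-zero. -/

set_option autoImplicit false
set_option linter.unusedSectionVars false

namespace Cfsg.Agent.MonoP

open Matrix

variable {ι : Type} [Fintype ι] [DecidableEq ι] {K : Type*} [Field K] [Fintype K]

namespace ALLNZ

/-- the diagonal entries of `d1 k η` -/
def f1 (k : ι) (η : Kˣ) : ι → Kˣ := Function.update (fun _ => (1 : Kˣ)) k η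

theorem f1_same (k : ι) (η : Kˣ) : f1 k η k = η := by
  unfold f1
  rw [Function.update_self]

theorem f1_other (k : ι) (η : Kˣ) (i : ι) (hik : i ≠ k) : f1 k η i = 1 := by
  unfold f1
  rw [Function.update_of_ne hik]

theorem d1_val (k : ι) (η : Kˣ) :
    ((d1 k η : GL ι K) : Matrix ι ι K) = Matrix.diagonal (fun i => ((f1 k η i : Kˣ) : K)) := rfl

theorem d1_mem (H : Subgroup (GL ι K)) (hmon : MonoLE H) (k : ι) (η : Kˣ) : d1 k η ∈ H := by
  apply hmon
  refine ⟨1, fun i j hij => ?_⟩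
  rw [d1_val]
  exact Matrix.diagonal_apply_ne _ hij

theorem suppOn_d1 (A : Finset ι) (k : ι) (hk : k ∈ A) (η : Kˣ) :
    SuppOn A ((d1 k η : GL ι K) : Matrix ι ι K) := by
  intro i j hij
  rw [d1_val]
  by_cases h : i = j
  · subst h
    rw [Matrix.diagonal_apply_eq, Matrix.one_apply_eq]
    have : i ≠ k := by
      rintro rfl
      rcases hij with h | h <;> exact h hk
    rw [f1_other k η i this, Units.val_one]
  · rw [Matrix.diagonal_apply_ne _ h, Matrix.one_apply_ne h]

/-- products of `A`-supported matrices -/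
theorem suppOn_mul (A : Finset ι) {x y : Matrix ι ι K} (hx : SuppOn A x) (hy : SuppOn A y) :
    SuppOn A (x * y) := by
  intro i j hij
  rw [Matrix.mul_apply]
  by_cases hi : i ∉ A
  · have : ∀ l, x i l * y l j = (1 : Matrix ι ι K) i l * y l j := by
      intro l
      rw [hx i l (Or.inl hi)]
    simp only [this]
    rw [← Matrix.mul_apply, Matrix.one_mul]
    exact hy i j hij
  · have hj : j ∉ A := hij.resolve_left hi
    have : ∀ l, x i l * y l j = x i l * (1 : Matrix ι ι K) l j := by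
      intro l
      rw [hy l j (Or.inr hj)]
    simp only [this]
    rw [← Matrix.mul_apply, Matrix.mul_one]
    exact hx i j hij

/-- the inverse of an `A`-supported matrix -/
theorem suppOn_inv (A : Finset ι) (g : GL ι K) (hg : SuppOn A (g : Matrix ι ι K)) :
    SuppOn A ((g⁻¹ : GL ι K) : Matrix ι ι K) := by
  have h1 : ((g⁻¹ : GL ι K) : Matrix ι ι K) * (g : Matrix ι ι K) = 1 := by
    rw [← Units.val_mul, inv_mul_cancel, Units.val_one]
  have h2 : (g : Matrix ι ι K) * ((g⁻¹ : GL ι K) : Matrix ι ι K) = 1 := by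
    rw [← Units.val_mul, mul_inv_cancel, Units.val_one]
  intro i j hij
  by_cases hj : j ∉ A
  · have := congrFun (congrFun h1 i) j
    rw [Matrix.mul_apply] at this
    rw [← this]
    have h3 : ∀ l, ((g⁻¹ : GL ι K) : Matrix ι ι K) i l * (g : Matrix ι ι K) l j =
        ((g⁻¹ : GL ι K) : Matrix ι ι K) i l * (1 : Matrix ι ι K) l j := by
      intro l; rw [hg l j (Or.inr hj)]
    simp only [h3]
    rw [← Matrix.mul_apply, Matrix.mul_one]
  · have hi : i ∉ A := hij.resolve_right hj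
    have := congrFun (congrFun h2 i) j
    rw [Matrix.mul_apply] at this
    rw [← this]
    have h3 : ∀ l, (g : Matrix ι ι K) i l * ((g⁻¹ : GL ι K) : Matrix ι ι K) l j =
        (1 : Matrix ι ι K) i l * ((g⁻¹ : GL ι K) : Matrix ι ι K) l j := by
      intro l; rw [hg i l (Or.inl hi)]
    simp only [h3]
    rw [← Matrix.mul_apply, Matrix.one_mul]

/-- key step: if `g i₀ j = 0` then, for every unit `η`, `d1 i₀ η` maps column `k'` of `g` to a multiple of a column
of `g`. -/
theorem key (H : Subgroup (GL ι K)) (hmon : MonoLE H) (A : Finset ι)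
    (hB : ∀ y : GL ι K, y ∈ H → SuppOn A (y : Matrix ι ι K) →
      (∃ k ∈ A, ∃ k' : ι, ∀ i, i ≠ k' → (y : Matrix ι ι K) i k = 0) → IsMono (y : Matrix ι ι K))
    (g : GL ι K) (hg : g ∈ H) (hA : SuppOn A (g : Matrix ι ι K)) (j k' i₀ : ι) (hjA : j ∈ A) (hiA : i₀ ∈ A)
    (hj0 : (g : Matrix ι ι K) i₀ j = 0) (η : Kˣ) :
    ∃ (m : ι) (c : K), ∀ i, ((f1 i₀ η i : Kˣ) : K) * (g : Matrix ι ι K) i k' =
      (g : Matrix ι ι K) i m * c := by
  have ht : d1 i₀ η ∈ H := d1_mem H hmon i₀ η
  have hy : g⁻¹ * d1 i₀ η * g ∈ H := H.mul_mem (H.mul_mem (H.inv_mem hg) ht) hg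
  have hyv : ((g⁻¹ * d1 i₀ η * g : GL ι K) : Matrix ι ι K) =
      ((g⁻¹ : GL ι K) : Matrix ι ι K) *
        (Matrix.diagonal (fun i => ((f1 i₀ η i : Kˣ) : K)) * (g : Matrix ι ι K)) := by
    rw [Units.val_mul, Units.val_mul, d1_val, Matrix.mul_assoc]
  have hyA : SuppOn A ((g⁻¹ * d1 i₀ η * g : GL ι K) : Matrix ι ι K) := by
    rw [Units.val_mul, Units.val_mul]
    exact suppOn_mul A (suppOn_mul A (suppOn_inv A g hA) (suppOn_d1 A i₀ hiA η)) hA
  -- column `j` of `y` is `e_j`
  have hcolj : ∀ i, ((g⁻¹ * d1 i₀ η * g : GL ι K) : Matrix ι ι K) i j = (1 : Matrix ι ι K) i j := by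
    intro i
    have h1 : ((g⁻¹ : GL ι K) : Matrix ι ι K) * (g : Matrix ι ι K) = 1 := by
      rw [← Units.val_mul, inv_mul_cancel, Units.val_one]
    rw [hyv, ← h1, Matrix.mul_apply, Matrix.mul_apply]
    refine Finset.sum_congr rfl fun r _ => ?_
    rw [Matrix.diagonal_mul]
    by_cases hr0 : r = i₀
    · subst hr0; rw [hj0, mul_zero]
    rw [f1_other i₀ η r hr0, Units.val_one, one_mul]
  have hcm : ∃ k ∈ A, ∃ k' : ι, ∀ i, i ≠ k' →
      ((g⁻¹ * d1 i₀ η * g : GL ι K) : Matrix ι ι K) i k = 0 := by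
    refine ⟨j, hjA, j, fun i hi => ?_⟩
    rw [hcolj i, Matrix.one_apply_ne hi]
  obtain ⟨σ, hσ⟩ := hB _ hy hyA hcm
  refine ⟨σ k', ((g⁻¹ * d1 i₀ η * g : GL ι K) : Matrix ι ι K) (σ k') k', fun i => ?_⟩
  -- `g * y = t * g`
  have hgy : (g : Matrix ι ι K) * ((g⁻¹ * d1 i₀ η * g : GL ι K) : Matrix ι ι K) =
      Matrix.diagonal (fun i => ((f1 i₀ η i : Kˣ) : K)) * (g : Matrix ι ι K) := by
    rw [← Units.val_mul, ← d1_val, ← Units.val_mul]
    congr 1
    group
  have := congrFun (congrFun hgy i) k'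
  rw [Matrix.diagonal_mul, Matrix.mul_apply] at this
  rw [← this]
  rw [Finset.sum_eq_single (σ k')]
  · intro r _ hr
    rw [hσ r k' hr, mul_zero]
  · intro h; exact absurd (Finset.mem_univ _) h

/-- the core configuration is contradictory -/
theorem core (hK : 4 ≤ Fintype.card K) (H : Subgroup (GL ι K)) (hmon : MonoLE H) (A : Finset ι)
    (hB : ∀ y : GL ι K, y ∈ H → SuppOn A (y : Matrix ι ι K) →
      (∃ k ∈ A, ∃ k' : ι, ∀ i, i ≠ k' → (y : Matrix ι ι K) i k = 0) → IsMono (y : Matrix ι ι K))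
    (g : GL ι K) (hg : g ∈ H) (hA : SuppOn A (g : Matrix ι ι K)) (j k' i₀ i₁ : ι) (hjA : j ∈ A) (hiA : i₀ ∈ A)
    (h10 : i₁ ≠ i₀) (hj0 : (g : Matrix ι ι K) i₀ j = 0)
    (hk0 : (g : Matrix ι ι K) i₀ k' ≠ 0) (hk1 : (g : Matrix ι ι K) i₁ k' ≠ 0) : False := by
  classical
  -- three distinct units
  have hcard : Fintype.card (Fin 3) ≤ Fintype.card Kˣ := by
    rw [Fintype.card_units, Fintype.card_fin]; omega
  obtain ⟨η⟩ := Function.Embedding.nonempty_of_card_le hcard
  choose m c hmc using fun a : Fin 3 => key H hmon A hB g hg hA j k' i₀ hjA hiA hj0 (η a)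
  have hc1 : ∀ a, (g : Matrix ι ι K) i₁ k' = (g : Matrix ι ι K) i₁ (m a) * c a := by
    intro a
    have := hmc a i₁
    rwa [f1_other i₀ (η a) i₁ h10, Units.val_one, one_mul] at this
  have hc0 : ∀ a, ((η a : Kˣ) : K) * (g : Matrix ι ι K) i₀ k' = (g : Matrix ι ι K) i₀ (m a) * c a := by
    intro a
    have := hmc a i₀
    rwa [f1_same i₀ (η a)] at this
  have hcne : ∀ a, c a ≠ 0 := by
    intro a h
    apply hk1
    rw [hc1 a, h, mul_zero]
  have hminj : Function.Injective m := by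
    intro a b hab
    have h1 := hc1 a
    have h2 := hc1 b
    rw [hab] at h1
    have hne : (g : Matrix ι ι K) i₁ (m b) ≠ 0 := by
      intro h; apply hk1; rw [h2, h, zero_mul]
    have hcc : c a = c b := mul_left_cancel₀ hne (h1.symm.trans h2)
    have h3 := hc0 a
    have h4 := hc0 b
    rw [hab, hcc] at h3
    have : ((η a : Kˣ) : K) = ((η b : Kˣ) : K) := mul_right_cancel₀ hk0 (h3.trans h4.symm)
    exact η.injective (Units.ext this)
  -- linear independence of the three scaled columns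
  have hunit : IsUnit (g : Matrix ι ι K) := ⟨g, rfl⟩
  have hli0 : LinearIndependent K (g : Matrix ι ι K).col :=
    Matrix.linearIndependent_cols_iff_isUnit.2 hunit
  have hli1 : LinearIndependent K (fun a : Fin 3 => (g : Matrix ι ι K).col (m a)) :=
    hli0.comp m hminj
  have hli2 : LinearIndependent K (fun a : Fin 3 => (Units.mk0 (c a) (hcne a)) • (g : Matrix ι ι K).col (m a)) :=
    hli1.units_smul (fun a => Units.mk0 (c a) (hcne a))
  -- they lie in a space of dimension at most two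
  let u : ι → K := fun i => (g : Matrix ι ι K) i k'
  let b2 : Fin 2 → (ι → K) := ![u, Pi.single i₀ 1]
  have hmem : ∀ a : Fin 3, (Units.mk0 (c a) (hcne a)) • (g : Matrix ι ι K).col (m a) ∈
      Submodule.span K (Set.range b2) := by
    intro a
    have hEq : (Units.mk0 (c a) (hcne a)) • (g : Matrix ι ι K).col (m a) =
        u + ((((η a : Kˣ) : K) - 1) * (g : Matrix ι ι K) i₀ k') • (Pi.single i₀ 1 : ι → K) := by
      funext i
      have hh := hmc a i
      simp only [Units.smul_def, Units.val_mk0, Pi.smul_apply, Pi.add_apply, smul_eq_mul, Matrix.col_apply, u]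
      rw [mul_comm (c a), ← hh]
      by_cases hi0 : i = i₀
      · subst hi0
        rw [f1_same i (η a), Pi.single_eq_same]
        ring
      rw [f1_other i₀ (η a) i hi0, Pi.single_eq_of_ne hi0, Units.val_one]
      ring
    rw [hEq]
    have hb0 : u ∈ Submodule.span K (Set.range b2) := Submodule.subset_span ⟨0, rfl⟩
    have hb1 : (Pi.single i₀ 1 : ι → K) ∈ Submodule.span K (Set.range b2) := Submodule.subset_span ⟨1, rfl⟩
    exact Submodule.add_mem _ hb0 (Submodule.smul_mem _ _ hb1)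
  have h4 : Module.finrank K (Submodule.span K (Set.range
      (fun a : Fin 3 => (Units.mk0 (c a) (hcne a)) • (g : Matrix ι ι K).col (m a)))) = 3 := by
    rw [finrank_span_eq_card hli2, Fintype.card_fin]
  have hle : Submodule.span K (Set.range
      (fun a : Fin 3 => (Units.mk0 (c a) (hcne a)) • (g : Matrix ι ι K).col (m a))) ≤
      Submodule.span K (Set.range b2) := by
    rw [Submodule.span_le]
    rintro _ ⟨a, rfl⟩
    exact hmem a
  have h3 : Module.finrank K (Submodule.span K (Set.range b2)) ≤ 2 := by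
    have := finrank_range_le_card (R := K) b2
    rwa [Fintype.card_fin] at this
  have := Submodule.finrank_mono hle
  omega

end ALLNZ

theorem ALLNZ.ne_zero (hK : 4 ≤ Fintype.card K) (H : Subgroup (GL ι K)) (hmon : MonoLE H) (A : Finset ι)
    (hB : ∀ y : GL ι K, y ∈ H → SuppOn A (y : Matrix ι ι K) →
      (∃ k ∈ A, ∃ k' : ι, ∀ i, i ≠ k' → (y : Matrix ι ι K) i k = 0) → IsMono (y : Matrix ι ι K))
    (g : GL ι K) (hg : g ∈ H) (hA : SuppOn A (g : Matrix ι ι K)) (hnm : ¬ IsMono (g : Matrix ι ι K)) :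
    ∀ i ∈ A, ∀ k ∈ A, (g : Matrix ι ι K) i k ≠ 0 := by
  classical
  intro i hi k hk h0
  -- row `i` of `g` is non-zero
  have hrow : ∃ k', (g : Matrix ι ι K) i k' ≠ 0 := by
    by_contra hcon
    push Not at hcon
    have h1' : (g : Matrix ι ι K) * ((g⁻¹ : GL ι K) : Matrix ι ι K) = 1 := by
      rw [← Units.val_mul, mul_inv_cancel, Units.val_one]
    have := congrFun (congrFun h1' i) i
    rw [Matrix.mul_apply, Matrix.one_apply_eq] at this
    rw [Finset.sum_eq_zero (fun r _ => by rw [hcon r, zero_mul])] at this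
    exact zero_ne_one this
  obtain ⟨k', hk'⟩ := hrow
  have hk'A : k' ∈ A := by
    by_contra hnot
    have := hA i k' (Or.inr hnot)
    rw [this, Matrix.one_apply_ne (by rintro rfl; exact hnot hi)] at hk'
    exact hk' rfl
  -- a second non-zero entry in column `k'`
  have hsec : ∃ i₁, i₁ ≠ i ∧ (g : Matrix ι ι K) i₁ k' ≠ 0 := by
    by_contra hcon
    push Not at hcon
    exact hnm (hB g hg hA ⟨k', hk'A, i, hcon⟩)
  obtain ⟨i₁, hi₁, hne₁⟩ := hsec
  exact ALLNZ.core hK H hmon A hB g hg hA k k' i i₁ hk hi hi₁ h0 hk' hne₁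

end Cfsg.Agent.MonoP
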