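import Mathlib
import Cfsg.Prelude.Def_GeometricClasses
import Cfsg.Agent.Helper19.Mono.Defs

/-! S5634 (monomial half, driver helper19), piece SUPP: no column of a non-monomial `g ∈ M` has two zeros. -/

set_option autoImplicit false
set_option linter.unusedSectionVars false

namespace Cfsg.Agent.MonoP

open Matrix

variable {ι : Type} [Fintype ι] [DecidableEq ι] {K : Type*} [Field K] [Fintype K]

namespace SUPP

/-- the diagonal entries of `d2 k l η` -/
def ff (k l : ι) (η : Kˣ) : ι → Kˣ :=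
  Function.update (Function.update (fun _ => (1 : Kˣ)) k η) l η⁻¹

theorem ff_left (k l : ι) (hkl : k ≠ l) (η : Kˣ) : ff k l η k = η := by
  unfold ff
  rw [Function.update_of_ne hkl, Function.update_self]

theorem ff_right (k l : ι) (η : Kˣ) : ff k l η l = η⁻¹ := by
  unfold ff
  rw [Function.update_self]

theorem ff_other (k l : ι) (η : Kˣ) (i : ι) (hik : i ≠ k) (hil : i ≠ l) : ff k l η i = 1 := by
  unfold ff
  rw [Function.update_of_ne hil, Function.update_of_ne hik]

theorem d2_val (k l : ι) (η : Kˣ) :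
    ((d2 k l η : GL ι K) : Matrix ι ι K) = Matrix.diagonal (fun i => ((ff k l η i : Kˣ) : K)) := rfl

theorem ff_prod (k l : ι) (hkl : k ≠ l) (η : Kˣ) : ∏ i, ff k l η i = 1 := by
  unfold ff
  rw [Finset.prod_update_of_mem (Finset.mem_univ l),
    Finset.prod_update_of_mem (by simp [hkl] : k ∈ Finset.univ \ {l})]
  simp

/-- `d2 k l η` is monomial of determinant one -/
theorem d2_mem (M : Subgroup (GL ι K)) (hmon : MonoSLE M) (k l : ι) (hkl : k ≠ l) (η : Kˣ) :
    d2 k l η ∈ M := by
  apply hmon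
  · refine ⟨1, fun i j hij => ?_⟩
    rw [d2_val]
    exact Matrix.diagonal_apply_ne _ hij
  · rw [d2_val, Matrix.det_diagonal, ← Units.coe_prod, ff_prod k l hkl η, Units.val_one]

/-- key step: if column `j` of `g` vanishes at `i₀, i'` then, for every unit `η`, `d2 i₀ i' η` maps column `k'` of `g`
to a multiple of a column of `g`. -/
theorem key (M : Subgroup (GL ι K)) (hmon : MonoSLE M)
    (hB : ∀ y : GL ι K, y ∈ M → ColMono (y : Matrix ι ι K) → IsMono (y : Matrix ι ι K))
    (g : GL ι K) (hg : g ∈ M) (j k' i₀ i' : ι) (h0' : i₀ ≠ i')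
    (hj0 : (g : Matrix ι ι K) i₀ j = 0) (hj' : (g : Matrix ι ι K) i' j = 0) (η : Kˣ) :
    ∃ (m : ι) (c : K), ∀ i, ((ff i₀ i' η i : Kˣ) : K) * (g : Matrix ι ι K) i k' =
      (g : Matrix ι ι K) i m * c := by
  have ht : d2 i₀ i' η ∈ M := d2_mem M hmon i₀ i' h0' η
  have hy : g⁻¹ * d2 i₀ i' η * g ∈ M := M.mul_mem (M.mul_mem (M.inv_mem hg) ht) hg
  have hyv : ((g⁻¹ * d2 i₀ i' η * g : GL ι K) : Matrix ι ι K) =
      ((g⁻¹ : GL ι K) : Matrix ι ι K) *
        (Matrix.diagonal (fun i => ((ff i₀ i' η i : Kˣ) : K)) * (g : Matrix ι ι K)) := by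
    rw [Units.val_mul, Units.val_mul, d2_val, Matrix.mul_assoc]
  -- column `j` of `y` is `e_j`
  have hcolj : ∀ i, ((g⁻¹ * d2 i₀ i' η * g : GL ι K) : Matrix ι ι K) i j = (1 : Matrix ι ι K) i j := by
    intro i
    have h1 : ((g⁻¹ : GL ι K) : Matrix ι ι K) * (g : Matrix ι ι K) = 1 := by
      rw [← Units.val_mul, inv_mul_cancel, Units.val_one]
    rw [hyv, ← h1, Matrix.mul_apply, Matrix.mul_apply]
    refine Finset.sum_congr rfl fun r _ => ?_
    rw [Matrix.diagonal_mul]
    by_cases hr0 : r = i₀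
    · subst hr0; rw [hj0, mul_zero]
    by_cases hr' : r = i'
    · subst hr'; rw [hj', mul_zero]
    rw [ff_other i₀ i' η r hr0 hr', Units.val_one, one_mul]
  have hcm : ColMono ((g⁻¹ * d2 i₀ i' η * g : GL ι K) : Matrix ι ι K) := by
    refine ⟨j, j, fun i hi => ?_⟩
    rw [hcolj i, Matrix.one_apply_ne hi]
  obtain ⟨σ, hσ⟩ := hB _ hy hcm
  refine ⟨σ k', ((g⁻¹ * d2 i₀ i' η * g : GL ι K) : Matrix ι ι K) (σ k') k', fun i => ?_⟩
  -- `g * y = t * g`
  have hgy : (g : Matrix ι ι K) * ((g⁻¹ * d2 i₀ i' η * g : GL ι K) : Matrix ι ι K) =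
      Matrix.diagonal (fun i => ((ff i₀ i' η i : Kˣ) : K)) * (g : Matrix ι ι K) := by
    rw [← Units.val_mul, ← d2_val, ← Units.val_mul]
    congr 1
    group
  have := congrFun (congrFun hgy i) k'
  rw [Matrix.diagonal_mul, Matrix.mul_apply] at this
  rw [← this]
  rw [Finset.sum_eq_single (σ k')]
  · intro r _ hr
    rw [hσ r k' hr, mul_zero]
  · intro h; exact absurd (Finset.mem_univ _) h

/-- the core configuration is contradictory -/
theorem core (hK : 5 ≤ Fintype.card K) (M : Subgroup (GL ι K)) (hmon : MonoSLE M)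
    (hB : ∀ y : GL ι K, y ∈ M → ColMono (y : Matrix ι ι K) → IsMono (y : Matrix ι ι K))
    (g : GL ι K) (hg : g ∈ M) (j k' i₀ i' i'' : ι) (h0' : i₀ ≠ i') (h0 : i'' ≠ i₀) (h' : i'' ≠ i')
    (hj0 : (g : Matrix ι ι K) i₀ j = 0) (hj' : (g : Matrix ι ι K) i' j = 0)
    (hk0 : (g : Matrix ι ι K) i₀ k' ≠ 0) (hk'' : (g : Matrix ι ι K) i'' k' ≠ 0) : False := by
  classical
  -- four distinct units
  have hcard : Fintype.card (Fin 4) ≤ Fintype.card Kˣ := by
    rw [Fintype.card_units, Fintype.card_fin]; omega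
  obtain ⟨η⟩ := Function.Embedding.nonempty_of_card_le hcard
  choose m c hmc using fun a : Fin 4 => key M hmon hB g hg j k' i₀ i' h0' hj0 hj' (η a)
  have hc'' : ∀ a, (g : Matrix ι ι K) i'' k' = (g : Matrix ι ι K) i'' (m a) * c a := by
    intro a
    have := hmc a i''
    rwa [ff_other i₀ i' (η a) i'' h0 h', Units.val_one, one_mul] at this
  have hc0 : ∀ a, ((η a : Kˣ) : K) * (g : Matrix ι ι K) i₀ k' = (g : Matrix ι ι K) i₀ (m a) * c a := by
    intro a
    have := hmc a i₀
    rwa [ff_left i₀ i' h0' (η a)] at this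
  have hcne : ∀ a, c a ≠ 0 := by
    intro a h
    apply hk''
    rw [hc'' a, h, mul_zero]
  have hminj : Function.Injective m := by
    intro a b hab
    have h1 := hc'' a
    have h2 := hc'' b
    rw [hab] at h1
    have hne : (g : Matrix ι ι K) i'' (m b) ≠ 0 := by
      intro h; apply hk''; rw [h2, h, zero_mul]
    have hcc : c a = c b := mul_left_cancel₀ hne (h1.symm.trans h2)
    have h3 := hc0 a
    have h4 := hc0 b
    rw [hab, hcc] at h3
    have : ((η a : Kˣ) : K) = ((η b : Kˣ) : K) := mul_right_cancel₀ hk0 (h3.trans h4.symm)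
    exact η.injective (Units.ext this)
  -- linear independence of the four scaled columns
  have hunit : IsUnit (g : Matrix ι ι K) := ⟨g, rfl⟩
  have hli0 : LinearIndependent K (g : Matrix ι ι K).col :=
    Matrix.linearIndependent_cols_iff_isUnit.2 hunit
  have hli1 : LinearIndependent K (fun a : Fin 4 => (g : Matrix ι ι K).col (m a)) :=
    hli0.comp m hminj
  have hli2 : LinearIndependent K (fun a : Fin 4 => (Units.mk0 (c a) (hcne a)) • (g : Matrix ι ι K).col (m a)) :=
    hli1.units_smul (fun a => Units.mk0 (c a) (hcne a))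
  -- they lie in a space of dimension at most three
  let u : ι → K := fun i => (g : Matrix ι ι K) i k'
  let b3 : Fin 3 → (ι → K) := ![u, Pi.single i₀ 1, Pi.single i' 1]
  have hmem : ∀ a : Fin 4, (Units.mk0 (c a) (hcne a)) • (g : Matrix ι ι K).col (m a) ∈
      Submodule.span K (Set.range b3) := by
    intro a
    have hEq : (Units.mk0 (c a) (hcne a)) • (g : Matrix ι ι K).col (m a) =
        u + ((((η a : Kˣ) : K) - 1) * (g : Matrix ι ι K) i₀ k') • (Pi.single i₀ 1 : ι → K) +
          (((((η a)⁻¹ : Kˣ) : K) - 1) * (g : Matrix ι ι K) i' k') • (Pi.single i' 1 : ι → K) := by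
      funext i
      have hh := hmc a i
      simp only [Units.smul_def, Units.val_mk0, Pi.smul_apply, Pi.add_apply, smul_eq_mul, Matrix.col_apply, u]
      rw [mul_comm (c a), ← hh]
      by_cases hi0 : i = i₀
      · subst hi0
        rw [ff_left i i' h0' (η a), Pi.single_eq_same, Pi.single_eq_of_ne h0']
        ring
      by_cases hi' : i = i'
      · subst hi'
        rw [ff_right i₀ i (η a), Pi.single_eq_same, Pi.single_eq_of_ne hi0]
        ring
      rw [ff_other i₀ i' (η a) i hi0 hi', Pi.single_eq_of_ne hi0, Pi.single_eq_of_ne hi', Units.val_one]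
      ring
    rw [hEq]
    have hb0 : u ∈ Submodule.span K (Set.range b3) := Submodule.subset_span ⟨0, rfl⟩
    have hb1 : (Pi.single i₀ 1 : ι → K) ∈ Submodule.span K (Set.range b3) := Submodule.subset_span ⟨1, rfl⟩
    have hb2 : (Pi.single i' 1 : ι → K) ∈ Submodule.span K (Set.range b3) := Submodule.subset_span ⟨2, rfl⟩
    exact Submodule.add_mem _ (Submodule.add_mem _ hb0 (Submodule.smul_mem _ _ hb1)) (Submodule.smul_mem _ _ hb2)
  have h4 : Module.finrank K (Submodule.span K (Set.range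
      (fun a : Fin 4 => (Units.mk0 (c a) (hcne a)) • (g : Matrix ι ι K).col (m a)))) = 4 := by
    rw [finrank_span_eq_card hli2, Fintype.card_fin]
  have hle : Submodule.span K (Set.range
      (fun a : Fin 4 => (Units.mk0 (c a) (hcne a)) • (g : Matrix ι ι K).col (m a))) ≤
      Submodule.span K (Set.range b3) := by
    rw [Submodule.span_le]
    rintro _ ⟨a, rfl⟩
    exact hmem a
  have h3 : Module.finrank K (Submodule.span K (Set.range b3)) ≤ 3 := by
    have := finrank_range_le_card (R := K) b3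
    rwa [Fintype.card_fin] at this
  have := Submodule.finrank_mono hle
  omega

end SUPP

theorem SUPP.col (hK : 5 ≤ Fintype.card K) (hι : 6 ≤ Fintype.card ι) (M : Subgroup (GL ι K)) (hmon : MonoSLE M)
    (hB : ∀ y : GL ι K, y ∈ M → ColMono (y : Matrix ι ι K) → IsMono (y : Matrix ι ι K))
    (g : GL ι K) (hg : g ∈ M) (hnm : ¬ IsMono (g : Matrix ι ι K)) (k i₁ i₂ : ι) (h12 : i₁ ≠ i₂)
    (h1 : (g : Matrix ι ι K) i₁ k = 0) (h2 : (g : Matrix ι ι K) i₂ k = 0) : False := by
  classical
  -- every column has a non-zero entry off any given row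
  have htwo : ∀ k' r : ι, ∃ i, i ≠ r ∧ (g : Matrix ι ι K) i k' ≠ 0 := by
    intro k' r
    by_contra hcon
    push Not at hcon
    exact hnm (hB g hg ⟨k', r, hcon⟩)
  -- row `i₁` of `g` vanishes
  have hrow : ∀ k', (g : Matrix ι ι K) i₁ k' = 0 := by
    intro k'
    by_contra hne
    by_cases hA : ∃ i'', i'' ≠ i₁ ∧ i'' ≠ i₂ ∧ (g : Matrix ι ι K) i'' k' ≠ 0
    · obtain ⟨i'', ha, hb, hc⟩ := hA
      exact SUPP.core hK M hmon hB g hg k k' i₁ i₂ i'' h12 ha hb h1 h2 hne hc
    push Not at hA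
    obtain ⟨i, hi1, hi⟩ := htwo k' i₁
    have hi2 : i = i₂ := by
      by_contra hh
      exact hi (hA i hi1 hh)
    subst hi2
    by_cases hZ : ∃ z, z ≠ i₁ ∧ z ≠ i ∧ (g : Matrix ι ι K) z k = 0
    · obtain ⟨z, hz1, hz2, hz⟩ := hZ
      exact SUPP.core hK M hmon hB g hg k k' i₁ z i hz1.symm hi1 (Ne.symm hz2) h1 hz hne hi
    push Not at hZ
    -- three further rows
    have hcard : 2 < (Finset.univ \ {i₁, i} : Finset ι).card := by
      have h1' : (Finset.univ \ {i₁, i} : Finset ι).card = Fintype.card ι - ({i₁, i} : Finset ι).card := by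
        rw [Finset.card_sdiff_of_subset (Finset.subset_univ _), Finset.card_univ]
      have h2' : ({i₁, i} : Finset ι).card ≤ 2 := Finset.card_le_two
      omega
    obtain ⟨a, ha, b, hb, c, hc, hab, hac, hbc⟩ := Finset.two_lt_card.1 hcard
    simp only [Finset.mem_sdiff, Finset.mem_univ, Finset.mem_insert, Finset.mem_singleton, true_and,
      not_or] at ha hb hc
    exact SUPP.core hK M hmon hB g hg k' k a b c hab (Ne.symm hac) (Ne.symm hbc)
      (hA a ha.1 ha.2) (hA b hb.1 hb.2) (hZ a ha.1 ha.2) (hZ c hc.1 hc.2)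
  -- contradiction with invertibility
  have h1' : (g : Matrix ι ι K) * ((g⁻¹ : GL ι K) : Matrix ι ι K) = 1 := by
    rw [← Units.val_mul, mul_inv_cancel, Units.val_one]
  have := congrFun (congrFun h1' i₁) i₁
  rw [Matrix.mul_apply, Matrix.one_apply_eq] at this
  rw [Finset.sum_eq_zero (fun r _ => by rw [hrow r, zero_mul])] at this
  exact zero_ne_one this

end Cfsg.Agent.MonoP
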