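import Cfsg.Agent.Helper27.S5634BDefs
import Cfsg.Agent.Lead.S5634BEE1
import Cfsg.Agent.Lead.S5634BEE2
import Cfsg.Agent.Helper24.S5634BCMP
import Cfsg.Agent.Helper25.S5634BDUAL1
import Cfsg.Agent.Helper25.S5634BDUAL2

set_option autoImplicit false
set_option linter.unusedSectionVars false
set_option linter.unusedVariables false

/-! # S5634, half `m ≥ 2` (driver helper27): pieces B_ALL1 (`ALL.pure_center`) and B_ALL2 (`ALL.mem`). -/

namespace Cfsg.Agent.S5634P

open Matrix Cfsg.Agent.Helper28.SLMax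
open scoped MatrixGroups

variable {F : Type*} [Field F] {n t m : ℕ} {D : Fin t → Submodule F (Fin n → F)}

namespace ALL

/-- products over a finset of axes with a common centre -/
theorem sum_axis_mem (M : Subgroup (GL (Fin n) F)) (x : Fin n → F) (f : Fin t → (Fin n → F))
    (h0 : ∀ d, f d ⬝ᵥ x = 0) (hM : ∀ d, EE x (f d) ∈ M) (s : Finset (Fin t)) :
    EE x (∑ d ∈ s, f d) ∈ M := by
  classical
  induction s using Finset.induction_on with
  | empty => rw [Finset.sum_empty, EE.zero_right]; exact M.one_mem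
  | insert a s ha ih =>
    rw [Finset.sum_insert ha]
    have hs : (∑ d ∈ s, f d) ⬝ᵥ x = 0 := by
      rw [sum_dotProduct]
      exact Finset.sum_eq_zero fun d _ => h0 d
    rw [← EE.mul_axis (h0 a) hs]
    exact M.mul_mem (hM a) ih

end ALL

/-- pure centre, any axis: `ψ = ∑ f d` (`DUAL.decomp`), `f d x = 0` for all `d`, `EE.mul_axis` -/
theorem ALL.pure_center (hD : Cfsg.Geo.IsMDecomposition m D) (M : Subgroup (GL (Fin n) F))
    (hpure : ∀ c d, ∀ x ∈ D c, ∀ χ ∈ Dl D d, χ ⬝ᵥ x = 0 → EE x χ ∈ M) {c : Fin t} {x ψ : Fin n → F}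
    (hx : x ∈ D c) (hψx : ψ ⬝ᵥ x = 0) : EE x ψ ∈ M := by
  classical
  obtain ⟨f, hf, hsum⟩ := DUAL.decomp hD ψ
  have h0ne : ∀ d, d ≠ c → f d ⬝ᵥ x = 0 := fun d hd =>
    DUAL.dot_of_mem_ne hD (hf d) hx (Ne.symm hd)
  have h0c : f c ⬝ᵥ x = 0 := by
    have h1 : (∑ d, f d) ⬝ᵥ x = 0 := by rw [hsum]; exact hψx
    rw [sum_dotProduct, Finset.sum_eq_single c (fun d _ hd => h0ne d hd)
      (fun h => absurd (Finset.mem_univ _) h)] at h1
    exact h1
  have h0 : ∀ d, f d ⬝ᵥ x = 0 := by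
    intro d
    by_cases hd : d = c
    · rw [hd]; exact h0c
    · exact h0ne d hd
  have := ALL.sum_axis_mem M x f h0 (fun d => hpure c d x hx (f d) (hf d) (h0 d)) Finset.univ
  rwa [hsum] at this

namespace ALL

open Classical in
/-- the induction: on the number of non-zero components of `w` -/
theorem mem_aux (hD : Cfsg.Geo.IsMDecomposition m D) (M : Subgroup (GL (Fin n) F))
    (hpure : ∀ c d, ∀ x ∈ D c, ∀ χ ∈ Dl D d, χ ⬝ᵥ x = 0 → EE x χ ∈ M) :
    ∀ N : ℕ, ∀ w ψ : Fin n → F,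
      (Finset.univ.filter (fun d : Fin t => cmp D d w ≠ 0)).card = N → ψ ⬝ᵥ w = 0 → EE w ψ ∈ M := by
  classical
  intro N
  induction N using Nat.strong_induction_on with
  | _ N ih =>
  intro w ψ hN hψw
  by_cases htwo : ∃ a b : Fin t, a ≠ b ∧ cmp D a w ≠ 0 ∧ cmp D b w ≠ 0
  · obtain ⟨a, b, hab, ha, hb⟩ := htwo
    -- a functional on the block `b` with value one at `w_b`
    have hnot : cmp D b w ∉ Submodule.span F {(0 : Fin n → F)} := by
      rw [Submodule.span_zero_singleton, Submodule.mem_bot]; exact hb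
    obtain ⟨χ, hχ, -, hχ1⟩ := DUAL.exists_one hD (CMP.mem hD b w) (D b).zero_mem hnot
    have hχa : χ ⬝ᵥ (-(cmp D a w)) = 0 := by
      rw [dotProduct_neg, DUAL.dot_of_mem_ne hD hχ (CMP.mem hD a w) hab, neg_zero]
    have hτ : EE (-(cmp D a w)) χ ∈ M :=
      hpure a b _ ((D a).neg_mem (CMP.mem hD a w)) χ hχ hχa
    have hχw : χ ⬝ᵥ w = 1 := by rw [DUAL.dot_cmp hD hχ w, hχ1]
    have hτw : ((EE (-(cmp D a w)) χ : GL (Fin n) F) : Matrix (Fin n) (Fin n) F) *ᵥ w =
        w - cmp D a w := by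
      rw [EE_mulVec0 hχa, hχw, one_smul, sub_eq_add_neg]
    -- the components of `τ w`
    have hcmpa : cmp D a (w - cmp D a w) = 0 := by
      rw [map_sub, CMP.of_mem hD (CMP.mem hD a w), sub_self]
    have hcmpd : ∀ d, d ≠ a → cmp D d (w - cmp D a w) = cmp D d w := by
      intro d hd
      rw [map_sub, CMP.of_mem_ne hD (CMP.mem hD a w) (Ne.symm hd), sub_zero]
    have hlt : (Finset.univ.filter (fun d : Fin t => cmp D d (w - cmp D a w) ≠ 0)).card < N := by
      rw [← hN]
      apply Finset.card_lt_card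
      rw [Finset.ssubset_iff_of_subset]
      · refine ⟨a, ?_, ?_⟩
        · simp only [Finset.mem_filter, Finset.mem_univ, true_and]; exact ha
        · simp only [Finset.mem_filter, Finset.mem_univ, true_and, not_not]; exact hcmpa
      · intro d hd
        simp only [Finset.mem_filter, Finset.mem_univ, true_and] at hd ⊢
        by_cases hda : d = a
        · subst hda; exact absurd hcmpa hd
        · rwa [hcmpd d hda] at hd
    have hψ' : dact (EE (-(cmp D a w)) χ) ψ ⬝ᵥ (w - cmp D a w) = 0 := by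
      rw [← hτw, dact_dot_mulVec, hψw]
    have hmem := ih _ hlt (w - cmp D a w) (dact (EE (-(cmp D a w)) χ) ψ) rfl hψ'
    -- conjugate back
    have hconj := EE.conj (EE (-(cmp D a w)) χ) w ψ
    rw [hτw] at hconj
    have : EE w ψ = (EE (-(cmp D a w)) χ)⁻¹ *
        (EE (w - cmp D a w) (dact (EE (-(cmp D a w)) χ) ψ)) * EE (-(cmp D a w)) χ := by
      rw [← hconj]; group
    rw [this]
    exact M.mul_mem (M.mul_mem (M.inv_mem hτ) hmem) hτ
  · push Not at htwo
    by_cases hex : ∃ a : Fin t, cmp D a w ≠ 0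
    · obtain ⟨a, ha⟩ := hex
      have hw : w = cmp D a w := by
        conv_lhs => rw [← CMP.sum hD w]
        rw [Finset.sum_eq_single a]
        · intro d _ hd
          by_contra hne
          exact ha (htwo d a hd hne)
        · intro h; exact absurd (Finset.mem_univ _) h
      have hwa : w ∈ D a := by rw [hw]; exact CMP.mem hD a w
      exact ALL.pure_center hD M hpure hwa hψw
    · push Not at hex
      have hw : w = 0 := by
        rw [← CMP.sum hD w]
        exact Finset.sum_eq_zero fun d _ => hex d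
      rw [hw, EE.zero_left]
      exact M.one_mem

end ALL

/-- induction on the number of non-zero components of `w`: with `w_a, w_b ≠ 0`, `χ ∈ Dl D b`, `χ w_b = 1`,
`τ = T(-w_a, χ) ∈ M` maps `w` to `w - w_a`, and `T(w, ψ) = τ⁻¹ T(τ w, ψ ∘ τ⁻¹) τ` (`EE.conj`) -/
theorem ALL.mem (hD : Cfsg.Geo.IsMDecomposition m D) (M : Subgroup (GL (Fin n) F))
    (hpure : ∀ c d, ∀ x ∈ D c, ∀ χ ∈ Dl D d, χ ⬝ᵥ x = 0 → EE x χ ∈ M) :
    ∀ w ψ : Fin n → F, ψ ⬝ᵥ w = 0 → EE w ψ ∈ M := by
  intro w ψ h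
  exact ALL.mem_aux hD M hpure _ w ψ rfl h

end Cfsg.Agent.S5634P
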