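import Cfsg.Agent.Helper27.S5634BDefs
import Cfsg.Agent.Lead.S5634BEE1
import Cfsg.Agent.Lead.S5634BEE2
import Cfsg.Agent.Helper24.S5634BCMP
import Cfsg.Agent.Helper25.S5634BDUAL1
import Cfsg.Agent.Helper25.S5634BDUAL2
import Cfsg.Agent.Helper11.S5634BHMEM
import Cfsg.Agent.Helper11.S5634BLCLA

set_option autoImplicit false
set_option linter.unusedSectionVars false
set_option linter.unusedVariables false

/-! # S5634, half `m ≥ 2` (driver helper27): piece B_OFFB (`OFFB.off`), the bad case. -/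

namespace Cfsg.Agent.S5634P

open Matrix Cfsg.Agent.Helper28.SLMax
open scoped MatrixGroups

variable {F : Type*} [Field F] {n t m : ℕ} {D : Fin t → Submodule F (Fin n → F)}

namespace OFFB

/-- conjugating `T(v, ψ)` by an element of `M` fixing `ψ`: `T(h v - v, ψ) ∈ M` -/
theorem conj_step (M : Subgroup (GL (Fin n) F)) {h : GL (Fin n) F} (hh : h ∈ M) {v ψ : Fin n → F}
    (hfix : dact h ψ = ψ) (hT : EE v ψ ∈ M) (hψv : ψ ⬝ᵥ v = 0) :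
    EE ((h : Matrix (Fin n) (Fin n) F) *ᵥ v - v) ψ ∈ M := by
  have h1 : h * EE v ψ * h⁻¹ ∈ M := M.mul_mem (M.mul_mem hh hT) (M.inv_mem hh)
  rw [EE.conj, hfix] at h1
  have hψhv : ψ ⬝ᵥ ((h : Matrix (Fin n) (Fin n) F) *ᵥ v) = 0 := by
    conv_lhs => rw [← hfix]
    rw [dact_dot_mulVec, hψv]
  have h2 : (EE v ψ)⁻¹ ∈ M := M.inv_mem hT
  rw [EE.inv hψv] at h2
  have hneg : ψ ⬝ᵥ (-v) = 0 := by rw [dotProduct_neg, hψv, neg_zero]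
  have := M.mul_mem h1 h2
  rwa [EE.mul_center hψhv hneg, ← sub_eq_add_neg] at this

/-- a product of two rank one updates with `ψ`-isotropic centres fixes `ψ` -/
theorem two_fix {v φ v' φ' ψ : Fin n → F} (h : ψ ⬝ᵥ v = 0) (h' : ψ ⬝ᵥ v' = 0) :
    dact (EE v φ * EE v' φ') ψ = ψ := by
  rw [EE.dact_mul, EE.dact_fix h', EE.dact_fix h]

/-- the action of a product of two rank one updates -/
theorem two_mulVec {v φ v' φ' : Fin n → F} (h : 1 + φ ⬝ᵥ v ≠ 0) (h' : 1 + φ' ⬝ᵥ v' ≠ 0) (x : Fin n → F) :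
    ((EE v φ * EE v' φ' : GL (Fin n) F) : Matrix (Fin n) (Fin n) F) *ᵥ x =
      (x + (φ' ⬝ᵥ x) • v') + (φ ⬝ᵥ (x + (φ' ⬝ᵥ x) • v')) • v := by
  rw [Units.val_mul, ← Matrix.mulVec_mulVec, EE_mulVec h', EE_mulVec h]

end OFFB

theorem OFFB.off (hD : Cfsg.Geo.IsMDecomposition m D) (hm : 2 ≤ m) (hF : ∃ μ : F, μ ≠ 0 ∧ μ ≠ 1)
    (ht : 3 ≤ t) (M : Subgroup (GL (Fin n) F)) (hHM : HH D ≤ M) {w ψ : Fin n → F} (hT : EE w ψ ∈ M)
    (hψw : ψ ⬝ᵥ w = 0) {a b : Fin t} (hab : a ≠ b) (ha : cmp D a w ≠ 0) (hb : cmp D b w ≠ 0)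
    (hψa : ψ ⬝ᵥ cmp D a w = 0) (hψb : ψ ⬝ᵥ cmp D b w = 0) {za zb : Fin n → F} (hza : za ∈ D a)
    (hzb : zb ∈ D b) (hψza : ψ ⬝ᵥ za = 1) (hψzb : ψ ⬝ᵥ zb = 1) : OffIn D M := by
  classical
  obtain ⟨μ, hμ0, hμ1⟩ := hF
  have hμi0 : μ⁻¹ ≠ 0 := inv_ne_zero hμ0
  have hμm : μ - 1 ≠ 0 := sub_ne_zero.2 hμ1
  have hwa : cmp D a w ∈ D a := CMP.mem hD a w
  have hwb : cmp D b w ∈ D b := CMP.mem hD b w
  -- the functionals `ω_a`, `ω_b`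
  have hnota : cmp D a w ∉ Submodule.span F {(0 : Fin n → F)} := by
    rw [Submodule.span_zero_singleton, Submodule.mem_bot]; exact ha
  have hnotb : cmp D b w ∉ Submodule.span F {(0 : Fin n → F)} := by
    rw [Submodule.span_zero_singleton, Submodule.mem_bot]; exact hb
  obtain ⟨ωa, hωa, -, hωa1⟩ := DUAL.exists_one hD hwa (D a).zero_mem hnota
  obtain ⟨ωb, hωb, -, hωb1⟩ := DUAL.exists_one hD hwb (D b).zero_mem hnotb
  have hωaw : ωa ⬝ᵥ w = 1 := by rw [DUAL.dot_cmp hD hωa w, hωa1]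
  have hωbw : ωb ⬝ᵥ w = 1 := by rw [DUAL.dot_cmp hD hωb w, hωb1]
  have hωawb : ωa ⬝ᵥ cmp D b w = 0 := DUAL.dot_of_mem_ne hD hωa hwb (Ne.symm hab)
  have hωbwa : ωb ⬝ᵥ cmp D a w = 0 := DUAL.dot_of_mem_ne hD hωb hwa hab
  -- a third block
  obtain ⟨e, -, he⟩ : ∃ e ∈ (Finset.univ : Finset (Fin t)), e ∉ ({a, b} : Finset (Fin t)) := by
    apply Finset.exists_mem_notMem_of_card_lt_card
    rw [Finset.card_univ, Fintype.card_fin]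
    exact lt_of_le_of_lt Finset.card_le_two (by omega)
  simp only [Finset.mem_insert, Finset.mem_singleton, not_or] at he
  obtain ⟨hea, heb⟩ := he
  obtain ⟨k, hk, hk0, hψk⟩ := DUAL.exists_ker hD hm e ψ
  have hnotk : k ∉ Submodule.span F {(0 : Fin n → F)} := by
    rw [Submodule.span_zero_singleton, Submodule.mem_bot]; exact hk0
  obtain ⟨χe, hχe, -, hχe1⟩ := DUAL.exists_one hD hk (D e).zero_mem hnotk
  have hωe : (μ⁻¹ - 1) • χe ∈ Dl D e := (Dl D e).smul_mem _ hχe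
  have hωek : ((μ⁻¹ - 1) • χe) ⬝ᵥ k = μ⁻¹ - 1 := by
    rw [smul_dotProduct, hχe1, smul_eq_mul, mul_one]
  have hωewa : ((μ⁻¹ - 1) • χe) ⬝ᵥ cmp D a w = 0 := DUAL.dot_of_mem_ne hD hωe hwa (Ne.symm hea)
  have hωewb : ((μ⁻¹ - 1) • χe) ⬝ᵥ cmp D b w = 0 := DUAL.dot_of_mem_ne hD hωe hwb (Ne.symm heb)
  -- the determinants
  have hda : 1 + ωa ⬝ᵥ ((μ - 1) • cmp D a w) = μ := by
    rw [dotProduct_smul, hωa1, smul_eq_mul, mul_one]; ring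
  have hdb : 1 + ωb ⬝ᵥ ((μ⁻¹ - 1) • cmp D b w) = μ⁻¹ := by
    rw [dotProduct_smul, hωb1, smul_eq_mul, mul_one]; ring
  have hde : 1 + ((μ⁻¹ - 1) • χe) ⬝ᵥ k = μ⁻¹ := by
    rw [hωek]; ring
  have hψva : ψ ⬝ᵥ ((μ - 1) • cmp D a w) = 0 := by rw [dotProduct_smul, hψa, smul_zero]
  have hψvb : ψ ⬝ᵥ ((μ⁻¹ - 1) • cmp D b w) = 0 := by rw [dotProduct_smul, hψb, smul_zero]
  -- step 1: `T(w¹, ψ) ∈ M`, `w¹ = (μ-1) w_a + (μ⁻¹-1) w_b`
  have hh : EE ((μ - 1) • cmp D a w) ωa * EE ((μ⁻¹ - 1) • cmp D b w) ωb ∈ M := by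
    apply hHM
    apply HMEM.EE_mul_mem_HH hD ((D a).smul_mem _ hwa) hωa ((D b).smul_mem _ hwb) hωb
    rw [hda, hdb, mul_inv_cancel₀ hμ0]
  have hw1 : ((EE ((μ - 1) • cmp D a w) ωa * EE ((μ⁻¹ - 1) • cmp D b w) ωb : GL (Fin n) F) :
      Matrix (Fin n) (Fin n) F) *ᵥ w - w = (μ - 1) • cmp D a w + (μ⁻¹ - 1) • cmp D b w := by
    rw [OFFB.two_mulVec (by rw [hda]; exact hμ0) (by rw [hdb]; exact hμi0), hωbw, one_smul,
      dotProduct_add, hωaw, dotProduct_smul, hωawb, smul_zero, add_zero, one_smul]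
    abel
  have hT1 := OFFB.conj_step M hh (OFFB.two_fix hψva hψvb) hT hψw
  rw [hw1] at hT1
  have hψw1 : ψ ⬝ᵥ ((μ - 1) • cmp D a w + (μ⁻¹ - 1) • cmp D b w) = 0 := by
    rw [dotProduct_add, hψva, hψvb, add_zero]
  -- step 2: `T((μ-1)² w_a, ψ) ∈ M`
  have hh' : EE ((μ - 1) • cmp D a w) ωa * EE k ((μ⁻¹ - 1) • χe) ∈ M := by
    apply hHM
    apply HMEM.EE_mul_mem_HH hD ((D a).smul_mem _ hwa) hωa hk hωe
    rw [hda, hde, mul_inv_cancel₀ hμ0]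
  have hw2 : ((EE ((μ - 1) • cmp D a w) ωa * EE k ((μ⁻¹ - 1) • χe) : GL (Fin n) F) :
      Matrix (Fin n) (Fin n) F) *ᵥ ((μ - 1) • cmp D a w + (μ⁻¹ - 1) • cmp D b w) -
        ((μ - 1) • cmp D a w + (μ⁻¹ - 1) • cmp D b w) = ((μ - 1) * (μ - 1)) • cmp D a w := by
    have he0 : ((μ⁻¹ - 1) • χe) ⬝ᵥ ((μ - 1) • cmp D a w + (μ⁻¹ - 1) • cmp D b w) = 0 := by
      rw [dotProduct_add, dotProduct_smul, dotProduct_smul, hωewa, hωewb, smul_zero, smul_zero, add_zero]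
    have ha0 : ωa ⬝ᵥ ((μ - 1) • cmp D a w + (μ⁻¹ - 1) • cmp D b w) = μ - 1 := by
      rw [dotProduct_add, dotProduct_smul, dotProduct_smul, hωa1, hωawb, smul_zero, add_zero, smul_eq_mul,
        mul_one]
    rw [OFFB.two_mulVec (by rw [hda]; exact hμ0) (by rw [hde]; exact hμi0), he0, zero_smul, add_zero, ha0,
      smul_smul]
    abel
  have hT2 := OFFB.conj_step M hh' (OFFB.two_fix hψva hψk) hT1 hψw1
  rw [hw2] at hT2
  -- step 3: `LA` in the block `b`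
  obtain ⟨χ, hχ, hχ0, hχzb⟩ := DUAL.exists_ne hD hm b hzb
  have hva : ((μ - 1) * (μ - 1)) • cmp D a w ∈ D a := (D a).smul_mem _ hwa
  have hψv : ψ ⬝ᵥ (((μ - 1) * (μ - 1)) • cmp D a w) = 0 := by rw [dotProduct_smul, hψa, smul_zero]
  have hχv : χ ⬝ᵥ (((μ - 1) * (μ - 1)) • cmp D a w) = 0 := DUAL.dot_of_mem_ne hD hχ hva hab
  have hfin := LA hD M hHM hT2 hψv hzb hχ hχzb hχv
  rw [hψzb, one_smul] at hfin
  refine ⟨a, b, ((μ - 1) * (μ - 1)) • cmp D a w, χ, hab, hva, ?_, hχ, hχ0, hfin⟩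
  exact smul_ne_zero (mul_ne_zero hμm hμm) ha

end Cfsg.Agent.S5634P
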