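import Mathlib
import Cfsg.Agent.Helper4.S3353INVOL

/-! Row CONJ of the board `s1906pieces` (blueprint `departures/helper8_S1906_blueprint.md`). -/

set_option autoImplicit false

namespace Cfsg.Agent.S1906P

variable {F : Type*} [Field F]

theorem CONJ_aux_iota1 : ((Cfsg.Agent.S3353P.iota1 (-1 : Cfsg.Agent.S3353P.SL2 F) : Cfsg.Agent.S3353P.SL3 F) :
    Matrix (Fin 3) (Fin 3) F) = !![-1, 0, 0; 0, -1, 0; 0, 0, 1] := by
  rw [Cfsg.Agent.S3353P.iota1_coe]
  ext i j
  fin_cases i <;> fin_cases j <;> simp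

theorem CONJ_aux_iota2 : ((Cfsg.Agent.S3353P.iota2 (-1 : Cfsg.Agent.S3353P.SL2 F) : Cfsg.Agent.S3353P.SL3 F) :
    Matrix (Fin 3) (Fin 3) F) = !![1, 0, 0; 0, -1, 0; 0, 0, -1] := by
  rw [Cfsg.Agent.S3353P.iota2_coe]
  ext i j
  fin_cases i <;> fin_cases j <;> simp

/-- an element of `GL` of determinant one as an element of `SL` -/
def CONJ_aux_toSL (a : GL (Fin 3) F) (hda : Matrix.GeneralLinearGroup.det a = 1) :
    Cfsg.Agent.S3353P.SL3 F :=
  ⟨(a : Matrix (Fin 3) (Fin 3) F), by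
    have := congrArg Units.val hda
    rwa [Matrix.GeneralLinearGroup.val_det_apply] at this⟩

theorem CONJ_aux_toSL_inj (a b : GL (Fin 3) F) (hda : Matrix.GeneralLinearGroup.det a = 1)
    (hdb : Matrix.GeneralLinearGroup.det b = 1) (h : CONJ_aux_toSL a hda = CONJ_aux_toSL b hdb) : a = b := by
  apply Units.ext
  exact congrArg (fun x : Cfsg.Agent.S3353P.SL3 F => (x : Matrix (Fin 3) (Fin 3) F)) h

/-- CONJ: two distinct commuting involutions of determinant 1 in `GL₃(F)` are simultaneously conjugate to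
`diag(-1,-1,1)`, `diag(1,-1,-1)` (= landed `Cfsg.Agent.S3353P.exists_conj_involutions`, restated in `GL`). -/
theorem CONJ (h2 : (2 : F) ≠ 0) (a b : GL (Fin 3) F) (ha : a * a = 1) (hb : b * b = 1)
    (ha1 : a ≠ 1) (hb1 : b ≠ 1) (hab : a ≠ b) (hcomm : a * b = b * a)
    (hda : Matrix.GeneralLinearGroup.det a = 1) (hdb : Matrix.GeneralLinearGroup.det b = 1) :
    ∃ g : GL (Fin 3) F,
      ((g⁻¹ * a * g : GL (Fin 3) F) : Matrix (Fin 3) (Fin 3) F) = !![-1, 0, 0; 0, -1, 0; 0, 0, 1] ∧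
      ((g⁻¹ * b * g : GL (Fin 3) F) : Matrix (Fin 3) (Fin 3) F) = !![1, 0, 0; 0, -1, 0; 0, 0, -1] := by
  obtain ⟨a', hac⟩ : ∃ a' : Cfsg.Agent.S3353P.SL3 F,
      (a' : Matrix (Fin 3) (Fin 3) F) = (a : Matrix (Fin 3) (Fin 3) F) := ⟨CONJ_aux_toSL a hda, rfl⟩
  obtain ⟨b', hbc⟩ : ∃ b' : Cfsg.Agent.S3353P.SL3 F,
      (b' : Matrix (Fin 3) (Fin 3) F) = (b : Matrix (Fin 3) (Fin 3) F) := ⟨CONJ_aux_toSL b hdb, rfl⟩
  have e1 : a' * a' = 1 := by
    apply Subtype.ext
    have := congrArg Units.val ha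
    rw [Units.val_mul, Units.val_one] at this
    rw [Matrix.SpecialLinearGroup.coe_mul, hac, this]; rfl
  have e2 : b' * b' = 1 := by
    apply Subtype.ext
    have := congrArg Units.val hb
    rw [Units.val_mul, Units.val_one] at this
    rw [Matrix.SpecialLinearGroup.coe_mul, hbc, this]; rfl
  have e3 : a' ≠ 1 := by
    intro h
    apply ha1
    apply Units.ext
    rw [← hac, h]; rfl
  have e4 : b' ≠ 1 := by
    intro h
    apply hb1
    apply Units.ext
    rw [← hbc, h]; rfl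
  have e5 : a' ≠ b' := by
    intro h
    apply hab
    apply Units.ext
    rw [← hac, ← hbc, h]
  have e6 : a' * b' = b' * a' := by
    apply Subtype.ext
    have := congrArg Units.val hcomm
    rw [Units.val_mul, Units.val_mul] at this
    rw [Matrix.SpecialLinearGroup.coe_mul, Matrix.SpecialLinearGroup.coe_mul, hac, hbc, this]
  obtain ⟨g, hg1, hg2⟩ := Cfsg.Agent.S3353P.exists_conj_involutions h2 a' b' e1 e2 e3 e4 e5 e6
  refine ⟨g, ?_, ?_⟩
  · have h := congrArg (fun x : Cfsg.Agent.S3353P.SL3 F => (x : Matrix (Fin 3) (Fin 3) F)) hg1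
    have h' : (g : Matrix (Fin 3) (Fin 3) F) * !![-1, 0, 0; 0, -1, 0; 0, 0, 1] *
        ((g⁻¹ : GL (Fin 3) F) : Matrix (Fin 3) (Fin 3) F) = (a : Matrix (Fin 3) (Fin 3) F) := by
      rw [← CONJ_aux_iota1, ← hac]; exact h
    rw [Units.val_mul, Units.val_mul, ← h']
    simp only [Matrix.mul_assoc]
    rw [← Units.val_mul, inv_mul_cancel, Units.val_one, Matrix.mul_one, ← Matrix.mul_assoc,
      ← Units.val_mul, inv_mul_cancel, Units.val_one, Matrix.one_mul]
  · have h := congrArg (fun x : Cfsg.Agent.S3353P.SL3 F => (x : Matrix (Fin 3) (Fin 3) F)) hg2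
    have h' : (g : Matrix (Fin 3) (Fin 3) F) * !![1, 0, 0; 0, -1, 0; 0, 0, -1] *
        ((g⁻¹ : GL (Fin 3) F) : Matrix (Fin 3) (Fin 3) F) = (b : Matrix (Fin 3) (Fin 3) F) := by
      rw [← CONJ_aux_iota2, ← hbc]; exact h
    rw [Units.val_mul, Units.val_mul, ← h']
    simp only [Matrix.mul_assoc]
    rw [← Units.val_mul, inv_mul_cancel, Units.val_one, Matrix.mul_one, ← Matrix.mul_assoc,
      ← Units.val_mul, inv_mul_cancel, Units.val_one, Matrix.one_mul]

end Cfsg.Agent.S1906P
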