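import Mathlib
import Cfsg.Agent.Helper2.S2096.Defs
import Cfsg.Agent.Helper2.S2096.DefsC
import Cfsg.Agent.Helper8.S3352MODEL

set_option autoImplicit false
set_option linter.unusedSectionVars false
set_option linter.unusedVariables false

/-! S2096/S2097 part C, piece CLCAR (driver helper2): the Clifford algebra of `Σ x_i y_i` carries a
family satisfying the canonical anticommutation relations. -/

namespace Cfsg.Agent.S2096P

open Cfsg.Agent.S3352P Cfsg.Agent.S3351P

universe u

/-- CLCAR -/
theorem exists_car (n : ℕ) (F : Type u) [Field F] (h2 : (2 : F) ≠ 0) :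
    ∃ (A : Type u) (_ : Ring A) (_ : Algebra F A) (ψ : J n → A), Nontrivial A ∧ CAR ψ := by
  classical
  have : Invertible (2 : F) := invertibleOfNonzero h2
  set Q := Cfsg.Agent.Helper28.Spin.QfPlus n F with hQ
  refine ⟨CliffordAlgebra Q, inferInstance, inferInstance,
    fun a => CliffordAlgebra.ι Q (Pi.single a 1), inferInstance, ?_⟩
  have hpol : ∀ a b : J n, QuadraticMap.polar Q (Pi.single a (1 : F)) (Pi.single b 1) =
      if b = ng a then 1 else 0 := by
    intro a b
    have := Cfsg.Agent.S3352P.MODEL.B_single (F := F) a (Pi.single b (1 : F))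
    rw [Pi.single_apply] at this
    have h3 : QuadraticMap.polar Q (Pi.single a (1 : F)) (Pi.single b 1) =
        Cfsg.Agent.Helper28.Sg.B (Cfsg.Agent.Helper28.Spin.QfPlus n F) (Pi.single a 1) (Pi.single b 1) := rfl
    rw [h3, this]
    by_cases h : b = ng a
    · rw [if_pos h, if_pos h.symm]
    · rw [if_neg h, if_neg (fun e => h e.symm)]
  refine ⟨?_, ?_, ?_⟩
  · intro a
    show CliffordAlgebra.ι Q (Pi.single a 1) * CliffordAlgebra.ι Q (Pi.single a 1) = 0
    rw [CliffordAlgebra.ι_sq_scalar, Cfsg.Agent.S3352P.MODEL.Q_single, map_zero]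
  · intro a b hb
    show CliffordAlgebra.ι Q (Pi.single a 1) * CliffordAlgebra.ι Q (Pi.single b 1) =
      -(CliffordAlgebra.ι Q (Pi.single b 1) * CliffordAlgebra.ι Q (Pi.single a 1))
    have := CliffordAlgebra.ι_mul_ι_add_swap (Q := Q) (Pi.single a (1 : F)) (Pi.single b 1)
    rw [hpol, if_neg hb, map_zero] at this
    exact eq_neg_of_add_eq_zero_left this
  · intro a
    show CliffordAlgebra.ι Q (Pi.single a 1) * CliffordAlgebra.ι Q (Pi.single (ng a) 1) +
      CliffordAlgebra.ι Q (Pi.single (ng a) 1) * CliffordAlgebra.ι Q (Pi.single a 1) = 1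
    have := CliffordAlgebra.ι_mul_ι_add_swap (Q := Q) (Pi.single a (1 : F)) (Pi.single (ng a) 1)
    rw [hpol, if_pos rfl, map_one] at this
    exact this

end Cfsg.Agent.S2096P
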