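import Mathlib
import Cfsg.Agent.Helper2.S2096.Defs
import Cfsg.Agent.Helper11.S2096CREL1

set_option autoImplicit false
set_option linter.unusedSectionVars false
set_option linter.unusedVariables false

/-! S2096/S2097 part B, piece CSFORM (driver helper2): normal form of the elements of `CS o ⊔ Ĥ`. -/

namespace Cfsg.Agent.S2096P

open Matrix Cfsg.Agent.S3352P Cfsg.Agent.S3351P Cfsg.Agent.S2086P

variable {n : ℕ} {F : Type*} [Field F] [Fintype F] {M : Type*} [Group M] {X : J n → J n → F → M}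

namespace CSFORM

theorem cS_mem_Nh {o j : Fin n} (hjo : j ≠ o) : cS X o j ∈ Nh X := by
  unfold cS
  have h1 : IsRoot (Sum.inl o : J n) (Sum.inl j) := by
    refine ⟨fun h => hjo (Sum.inl_injective h).symm, fun h => ?_⟩
    rw [ng_inl] at h
    exact Sum.inl_ne_inr h
  have h2 : IsRoot (Sum.inl o : J n) (Sum.inr j) := by
    refine ⟨Sum.inl_ne_inr, fun h => ?_⟩
    rw [ng_inr] at h
    exact hjo (Sum.inl_injective h).symm
  exact Subgroup.mul_mem _ (Subgroup.subset_closure ⟨_, _, 1, h1, one_ne_zero, rfl⟩)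
    (Subgroup.subset_closure ⟨_, _, 1, h2, one_ne_zero, rfl⟩)

theorem prod_mem_Nh {o : Fin n} (l : List (Fin n)) (hl : o ∉ l) :
    (l.map (cS X o)).prod ∈ Nh X := by
  induction l with
  | nil => simp
  | cons a l ih =>
    rw [List.map_cons, List.prod_cons]
    rw [List.mem_cons, not_or] at hl
    exact Subgroup.mul_mem _ (cS_mem_Nh (Ne.symm hl.1)) (ih hl.2)

/-- move an element of `Ĥ` to the right of an element of `N̂` -/
theorem swap_H (π : M →* Matrix (J n) (J n) F)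
    (hπ : ∀ a b, IsRoot a b → ∀ t : F, π (X a b t) = xm a b t) (hn : 3 ≤ n) (hX : DRel X)
    {g h : M} (hg : g ∈ Nh X) (hh : h ∈ Hh X) : ∃ h' ∈ Hh X, h * g = g * h' := by
  refine ⟨g⁻¹ * h * g, ?_, by group⟩
  have := CREL1.Hh_conj_mem' π hπ hn hX (Subgroup.inv_mem _ hg) hh
  rwa [inv_inv] at this

/-- the main step: multiply a normal form by `cS X o j` on the left -/
theorem step (π : M →* Matrix (J n) (J n) F)
    (hπ : ∀ a b, IsRoot a b → ∀ t : F, π (X a b t) = xm a b t) (hn : 3 ≤ n) (hX : DRel X)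
    (o : Fin n) (l : List (Fin n)) (hnd : l.Nodup) (hl : o ∉ l) {j : Fin n} (hjo : j ≠ o) :
    ∃ l' : List (Fin n), l'.Nodup ∧ o ∉ l' ∧ (∀ x ∈ l', x = j ∨ x ∈ l) ∧ ∃ h ∈ Hh X,
      cS X o j * (l.map (cS X o)).prod = (l'.map (cS X o)).prod * h := by
  induction l with
  | nil =>
    refine ⟨[j], List.nodup_singleton j, ?_, ?_, 1, Subgroup.one_mem _, ?_⟩
    · rw [List.mem_singleton]; exact fun h => hjo h.symm
    · intro x hx; left; exact List.mem_singleton.mp hx
    · simp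
  | cons a l ih =>
    rw [List.nodup_cons] at hnd
    rw [List.mem_cons, not_or] at hl
    have hao : a ≠ o := Ne.symm hl.1
    rw [List.map_cons, List.prod_cons]
    by_cases hja : j = a
    · subst hja
      obtain ⟨h', hh', e⟩ := swap_H π hπ hn hX (prod_mem_Nh l hl.2) (cS_sq_mem π hπ hn hX hjo)
      refine ⟨l, hnd.2, hl.2, fun x hx => Or.inr (List.mem_cons_of_mem _ hx), h', hh', ?_⟩
      rw [← mul_assoc, e]
    · obtain ⟨l₁, hnd₁, hl₁, hsub₁, h₂, hh₂, e₂⟩ := ih hnd.2 hl.2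
      -- `c_j c_a = h₀ c_a c_j`
      have h0 : cS X o j * cS X o a * (cS X o j)⁻¹ * (cS X o a)⁻¹ ∈ Hh X :=
        cS_comm_mem π hπ hn hX hjo hao hja
      have hNa : cS X o a * (cS X o j * (l.map (cS X o)).prod) ∈ Nh X :=
        Subgroup.mul_mem _ (cS_mem_Nh hao)
          (Subgroup.mul_mem _ (cS_mem_Nh hjo) (prod_mem_Nh l hl.2))
      obtain ⟨h', hh', e⟩ := swap_H π hπ hn hX hNa h0
      have hal₁ : a ∉ l₁ := by
        intro ha
        rcases hsub₁ a ha with h | h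
        · exact hja h.symm
        · exact hnd.1 h
      refine ⟨a :: l₁, List.nodup_cons.mpr ⟨hal₁, hnd₁⟩, ?_, ?_, h₂ * h', Subgroup.mul_mem _ hh₂ hh', ?_⟩
      · rw [List.mem_cons, not_or]; exact ⟨hl.1, hl₁⟩
      · intro x hx
        rcases List.mem_cons.mp hx with rfl | hx
        · right; exact List.mem_cons_self
        · rcases hsub₁ x hx with h | h
          · left; exact h
          · right; exact List.mem_cons_of_mem _ h
      · have e1 : cS X o j * (cS X o a * (l.map (cS X o)).prod) =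
            (cS X o j * cS X o a * (cS X o j)⁻¹ * (cS X o a)⁻¹) *
              (cS X o a * (cS X o j * (l.map (cS X o)).prod)) := by group
        rw [e1, e, e₂, List.map_cons, List.prod_cons]
        group

end CSFORM

open CSFORM

/-- CSFORM -/
theorem exists_list_of_mem_CS (π : M →* Matrix (J n) (J n) F)
    (hπ : ∀ a b, IsRoot a b → ∀ t : F, π (X a b t) = xm a b t) (hn : 3 ≤ n) (hX : DRel X) (o : Fin n) {y : M}
    (hy : y ∈ CS X o ⊔ Hh X) :
    ∃ l : List (Fin n), l.Nodup ∧ o ∉ l ∧ ∃ h ∈ Hh X, y = (l.map (cS X o)).prod * h := by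
  -- left multiplication by an element of `Ĥ`
  have hleftH : ∀ {y : M}, (∃ l : List (Fin n), l.Nodup ∧ o ∉ l ∧ ∃ h ∈ Hh X,
      y = (l.map (cS X o)).prod * h) → ∀ h₀ ∈ Hh X, ∃ l : List (Fin n), l.Nodup ∧ o ∉ l ∧
      ∃ h ∈ Hh X, h₀ * y = (l.map (cS X o)).prod * h := by
    rintro y ⟨l, hnd, hl, h, hh, rfl⟩ h₀ hh₀
    obtain ⟨h', hh', e⟩ := swap_H π hπ hn hX (prod_mem_Nh l hl) hh₀
    exact ⟨l, hnd, hl, h' * h, Subgroup.mul_mem _ hh' hh, by rw [← mul_assoc, e, mul_assoc]⟩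
  have hleftC : ∀ {y : M}, (∃ l : List (Fin n), l.Nodup ∧ o ∉ l ∧ ∃ h ∈ Hh X,
      y = (l.map (cS X o)).prod * h) → ∀ j : Fin n, j ≠ o → ∃ l : List (Fin n), l.Nodup ∧ o ∉ l ∧
      ∃ h ∈ Hh X, cS X o j * y = (l.map (cS X o)).prod * h := by
    rintro y ⟨l, hnd, hl, h, hh, rfl⟩ j hjo
    obtain ⟨l', hnd', hl', -, h', hh', e⟩ := step π hπ hn hX o l hnd hl hjo
    exact ⟨l', hnd', hl', h' * h, Subgroup.mul_mem _ hh' hh, by rw [← mul_assoc, e, mul_assoc]⟩
  have hy' : y ∈ Subgroup.closure ({g | ∃ j : Fin n, j ≠ o ∧ g = cS X o j} ∪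
      {g | ∃ a b, ∃ t : F, IsRoot a b ∧ t ≠ 0 ∧ g = tX X a b t}) := by
    rw [Subgroup.closure_union]
    exact hy
  clear hy
  induction hy' using Subgroup.closure_induction_left with
  | one => exact ⟨[], List.nodup_nil, List.not_mem_nil, 1, Subgroup.one_mem _, by simp⟩
  | mul_left x hx y _ ih =>
    rcases hx with ⟨j, hjo, rfl⟩ | hx
    · exact hleftC ih j hjo
    · exact hleftH ih x (Subgroup.subset_closure hx)
  | inv_mul_cancel x hx y _ ih =>
    rcases hx with ⟨j, hjo, rfl⟩ | hx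
    · have e : (cS X o j)⁻¹ * y = cS X o j * ((cS X o j * cS X o j)⁻¹ * y) := by group
      rw [e]
      exact hleftC (hleftH ih _ (Subgroup.inv_mem _ (cS_sq_mem π hπ hn hX hjo))) j hjo
    · exact hleftH ih x⁻¹ (Subgroup.inv_mem _ (Subgroup.subset_closure hx))

end Cfsg.Agent.S2096P
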