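import Mathlib
import Cfsg.Agent.Helper2.S2096.Defs
import Cfsg.Agent.Helper25.S2096WXID
import Cfsg.Agent.Helper5.S2096TXID
import Cfsg.Agent.Helper25.S2096WXCONJW
import Cfsg.Agent.Helper10.S2096NACONJ

set_option autoImplicit false
set_option linter.unusedSectionVars false
set_option linter.unusedVariables false

/-! S2096/S2097 part B, piece NGEN (driver helper2): `N̂ = NA · (CS o ⊔ Ĥ)`. -/

namespace Cfsg.Agent.S2096P

open Matrix Cfsg.Agent.S3352P Cfsg.Agent.S3351P Cfsg.Agent.S2086P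

variable {n : ℕ} {F : Type*} [Field F] [Fintype F] {M : Type*} [Group M] {X : J n → J n → F → M}

namespace NGEN

/-- the product set `NA · (CS o ⊔ Ĥ)` -/
def InP (X : J n → J n → F → M) (o : Fin n) (m : M) : Prop :=
  ∃ ν ∈ NA X, ∃ y ∈ CS X o ⊔ Hh X, m = ν * y

theorem inP_of_NA {o : Fin n} {ν : M} (hν : ν ∈ NA X) : InP X o ν :=
  ⟨ν, hν, 1, Subgroup.one_mem _, (mul_one ν).symm⟩

theorem inP_of_Y {o : Fin n} {y : M} (hy : y ∈ CS X o ⊔ Hh X) : InP X o y :=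
  ⟨1, Subgroup.one_mem _, y, hy, (one_mul y).symm⟩

theorem inP_of_Hh {o : Fin n} {y : M} (hy : y ∈ Hh X) : InP X o y :=
  inP_of_Y ((le_sup_right : Hh X ≤ CS X o ⊔ Hh X) hy)

theorem inP_mul (π : M →* Matrix (J n) (J n) F)
    (hπ : ∀ a b, IsRoot a b → ∀ t : F, π (X a b t) = xm a b t) (hn : 3 ≤ n) (hX : DRel X)
    {o : Fin n} {m₁ m₂ : M} (h₁ : InP X o m₁) (h₂ : InP X o m₂) : InP X o (m₁ * m₂) := by
  obtain ⟨ν₁, hν₁, y₁, hy₁, rfl⟩ := h₁
  obtain ⟨ν₂, hν₂, y₂, hy₂, rfl⟩ := h₂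
  refine ⟨ν₁ * ν₂, Subgroup.mul_mem _ hν₁ hν₂, (ν₂⁻¹ * y₁ * ν₂) * y₂, Subgroup.mul_mem _ ?_ hy₂,
    by group⟩
  have := NA_conj_mem π hπ hn hX o (Subgroup.inv_mem _ hν₂) hy₁
  rwa [inv_inv] at this

theorem inP_inv (π : M →* Matrix (J n) (J n) F)
    (hπ : ∀ a b, IsRoot a b → ∀ t : F, π (X a b t) = xm a b t) (hn : 3 ≤ n) (hX : DRel X)
    {o : Fin n} {m : M} (h : InP X o m) : InP X o m⁻¹ := by
  obtain ⟨ν, hν, y, hy, rfl⟩ := h
  refine ⟨ν⁻¹, Subgroup.inv_mem _ hν, ν * y⁻¹ * ν⁻¹, ?_, by group⟩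
  exact NA_conj_mem π hπ hn hX o hν (Subgroup.inv_mem _ hy)

theorem isRoot_ll {i j : Fin n} (h : i ≠ j) : IsRoot (Sum.inl i : J n) (Sum.inl j) := by
  refine ⟨fun e => h (Sum.inl_injective e), fun e => ?_⟩
  rw [ng_inl] at e
  exact Sum.inl_ne_inr e

theorem isRoot_lr {i j : Fin n} (h : i ≠ j) : IsRoot (Sum.inl i : J n) (Sum.inr j) := by
  refine ⟨Sum.inl_ne_inr, fun e => ?_⟩
  rw [ng_inr] at e
  exact h (Sum.inl_injective e)

theorem ne_of_isRoot_ll {i j : Fin n} (h : IsRoot (Sum.inl i : J n) (Sum.inl j)) : i ≠ j :=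
  fun e => h.1 (by rw [e])

theorem ne_of_isRoot_lr {i j : Fin n} (h : IsRoot (Sum.inl i : J n) (Sum.inr j)) : i ≠ j :=
  fun e => h.2 (by rw [e, ng_inr])

theorem wX_ll_mem {i j : Fin n} (h : i ≠ j) {t : F} (ht : t ≠ 0) :
    wX X (Sum.inl i) (Sum.inl j) t ∈ NA X :=
  Subgroup.subset_closure ⟨i, j, t, h, ht, rfl⟩

/-- the mixed Weyl elements with first index `e_o` -/
theorem inP_base (π : M →* Matrix (J n) (J n) F)
    (hπ : ∀ a b, IsRoot a b → ∀ t : F, π (X a b t) = xm a b t) (hn : 3 ≤ n) (hX : DRel X)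
    {o j : Fin n} (hoj : o ≠ j) {t : F} (ht : t ≠ 0) :
    InP X o (wX X (Sum.inl o) (Sum.inr j) t) := by
  rw [wX_eq_tX_mul hX (isRoot_lr hoj) t]
  refine inP_mul π hπ hn hX (inP_of_Hh (Subgroup.subset_closure ⟨_, _, t, isRoot_lr hoj, ht, rfl⟩)) ?_
  refine ⟨(wX X (Sum.inl o) (Sum.inl j) 1)⁻¹, Subgroup.inv_mem _ (wX_ll_mem hoj one_ne_zero),
    cS X o j, ?_, ?_⟩
  · exact (le_sup_left : CS X o ≤ CS X o ⊔ Hh X) (Subgroup.subset_closure ⟨j, Ne.symm hoj, rfl⟩)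
  · unfold cS
    group

/-- all mixed Weyl elements -/
theorem inP_lr (π : M →* Matrix (J n) (J n) F)
    (hπ : ∀ a b, IsRoot a b → ∀ t : F, π (X a b t) = xm a b t) (hn : 3 ≤ n) (hX : DRel X)
    (o : Fin n) {i j : Fin n} (hij : i ≠ j) {t : F} (ht : t ≠ 0) :
    InP X o (wX X (Sum.inl i) (Sum.inr j) t) := by
  by_cases hio : i = o
  · subst hio
    exact inP_base π hπ hn hX hij ht
  by_cases hjo : j = o
  · subst hjo
    have h1 := wX_flip hX (isRoot_lr (Ne.symm hij)) t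
    rw [ng_inr, ng_inl] at h1
    rw [h1]
    exact inP_base π hπ hn hX (Ne.symm hij) (neg_ne_zero.mpr ht)
  · obtain ⟨η, hη, hconj⟩ := wX_conj_wX π hπ hn hX (isRoot_ll hio) (one_ne_zero (α := F))
      (isRoot_lr (Ne.symm hjo))
    have h1 := hconj (η⁻¹ * t) (mul_ne_zero (inv_ne_zero hη) ht)
    rw [← mul_assoc, mul_inv_cancel₀ hη, one_mul] at h1
    have e1 : sw (Sum.inl i : J n) (Sum.inl o) (Sum.inl o) = Sum.inl i := by
      unfold sw
      rw [Equiv.Perm.mul_apply, ng_inl, ng_inl,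
        Equiv.swap_apply_of_ne_of_ne (a := (Sum.inr i : J n)) (b := Sum.inr o) (x := Sum.inl o)
          (by simp) (by simp), Equiv.swap_apply_right]
    have e2 : sw (Sum.inl i : J n) (Sum.inl o) (Sum.inr j) = Sum.inr j := by
      unfold sw
      rw [Equiv.Perm.mul_apply, ng_inl, ng_inl,
        Equiv.swap_apply_of_ne_of_ne (a := (Sum.inr i : J n)) (b := Sum.inr o) (x := Sum.inr j)
          (fun e => hij (Sum.inr_injective e).symm) (fun e => hjo (Sum.inr_injective e)),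
        Equiv.swap_apply_of_ne_of_ne (a := (Sum.inl i : J n)) (b := Sum.inl o) (x := Sum.inr j)
          (by simp) (by simp)]
    rw [e1, e2] at h1
    rw [← h1]
    have hν : InP X o (wX X (Sum.inl i) (Sum.inl o) 1) := inP_of_NA (wX_ll_mem hio one_ne_zero)
    exact inP_mul π hπ hn hX (inP_mul π hπ hn hX hν
      (inP_base π hπ hn hX (Ne.symm hjo) (mul_ne_zero (inv_ne_zero hη) ht)))
      (inP_inv π hπ hn hX hν)

end NGEN

open NGEN

/-- NGEN -/
theorem exists_of_mem_Nh (π : M →* Matrix (J n) (J n) F)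
    (hπ : ∀ a b, IsRoot a b → ∀ t : F, π (X a b t) = xm a b t) (hn : 3 ≤ n) (hX : DRel X) (o : Fin n) {m : M} (hm : m ∈ Nh X) :
    ∃ ν ∈ NA X, ∃ y ∈ CS X o ⊔ Hh X, m = ν * y := by
  change InP X o m
  unfold Nh at hm
  induction hm using Subgroup.closure_induction with
  | mem x hx =>
    obtain ⟨a, b, t, hab, ht, rfl⟩ := hx
    rcases a with i | i <;> rcases b with j | j
    · exact inP_of_NA (wX_ll_mem (ne_of_isRoot_ll hab) ht)
    · exact inP_lr π hπ hn hX o (ne_of_isRoot_lr hab) ht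
    · have hji : j ≠ i := fun e => hab.2 (by rw [e, ng_inl])
      rw [wX_swap hn hX (isRoot_lr hji) ht]
      exact inP_lr π hπ hn hX o hji (neg_ne_zero.mpr (inv_ne_zero ht))
    · have hji : j ≠ i := fun e => hab.1 (by rw [e])
      have h1 := wX_flip hX (isRoot_ll hji) t
      rw [ng_inl, ng_inl] at h1
      rw [h1]
      exact inP_of_NA (wX_ll_mem hji (neg_ne_zero.mpr ht))
  | one => exact inP_of_NA (Subgroup.one_mem _)
  | mul x y _ _ hx hy => exact inP_mul π hπ hn hX hx hy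
  | inv x _ hx => exact inP_inv π hπ hn hX hx

end Cfsg.Agent.S2096P
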