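import Mathlib
import Cfsg.Agent.Helper2.S2099.DefsR
import Cfsg.Agent.Helper2.S2099.DefsN
import Cfsg.Agent.Helper2.S2099.DefsZ
import Cfsg.Agent.Helper2.S2096.Defs
import Cfsg.Agent.Helper23.S2099CONJSS2Q
import Cfsg.Agent.S2426

set_option autoImplicit false
set_option linter.unusedSectionVars false
set_option linter.unusedVariables false

/-! S2099 chapter Z, piece SL2HOM (driver helper2): the rank one subgroup of a short root is an image of
`SL₂(K)`, `K = QK a b`, through the Steinberg presentation S2426. -/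

namespace Cfsg.Agent.S2099P

open Matrix Cfsg.Agent.S3352P Cfsg.Agent.S3351P Cfsg.Agent.S2096P Cfsg.Agent.S2086P Cfsg.Agent.RGD
  Cfsg.Agent.Helper2
open Cfsg.Agent.S2094P (RB RootB sc NgEquivariant mapB reflB MD XD XD_coe isRoot_ng_right'
  isRoot_ng_left' sw_ngEquivariant sc_ngEquivariant)

section field

variable {n : ℕ} {F : Type*} [Field F] {a b : F} [Aniso a b] {M : Type*} [Group M]
  {X : J n → J n → F → M} {Ys : J n → (Fin 2 → F) → M}

namespace SL2HOM

theorem toP_sub (x y : QK a b) : QK.toP (x - y) = QK.toP x - QK.toP y := by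
  rw [sub_eq_add_neg, QK.toP_add, QK.toP_neg, ← sub_eq_add_neg]

theorem nrm_ne_zero {t : QK a b} (ht : t ≠ 0) : QK.nrm t ≠ 0 :=
  fun h => ht (QK.nrm_eq_zero h)

theorem conj_ne_zero {t : QK a b} (ht : t ≠ 0) : QK.conj t ≠ 0 := by
  intro h
  apply ht
  rw [← QK.conj_conj t, h]
  ext <;> simp

/-- `(conj t)⁻¹ = (nrm t)⁻¹ • t` -/
theorem conj_inv (t : QK a b) : (QK.conj t)⁻¹ = (QK.nrm t)⁻¹ • t := by
  rw [QK.inv_def, QK.nrm_conj, QK.conj_conj]

/-- the trace form -/
theorem polar_eq (u t : QK a b) :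
    algebraMap F (QK a b) (QuadraticMap.polar (qf2 a b) (QK.toP u) (QK.toP t)) =
      u * QK.conj t + QK.conj u * t := by
  rw [QK.polar_toP]
  ext
  · simp only [QK.algebraMap_re, QK.mul_re, QK.conj_re, QK.conj_im, QK.add_re]
    ring
  · simp only [QK.algebraMap_im, QK.mul_im, QK.conj_re, QK.conj_im, QK.add_im]
    ring

/-- the reflection in terms of the field -/
theorem rfl0_eq {t : QK a b} (ht : t ≠ 0) (u : QK a b) :
    rfl0 (qf2 a b) (QK.toP t) (QK.toP u) = QK.toP (-(QK.conj u * t * (QK.conj t)⁻¹)) := by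
  have hn : QK.nrm t ≠ 0 := nrm_ne_zero ht
  have hc : QK.conj t ≠ 0 := conj_ne_zero ht
  unfold rfl0
  rw [QK.qf2_toP, ← QK.toP_smul, ← toP_sub]
  congr 1
  -- an identity in the field `QK a b`
  have h1 : (QuadraticMap.polar (qf2 a b) (QK.toP u) (QK.toP t) * (QK.nrm t)⁻¹) • t =
      (u * QK.conj t + QK.conj u * t) * (QK.conj t)⁻¹ := by
    rw [← polar_eq, conj_inv, Algebra.smul_def, Algebra.smul_def, map_mul]
    ring
  rw [h1]
  field_simp
  ring

/-- the Weyl element of the presentation -/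
theorem wY_eq {t : QK a b} (ht : t ≠ 0) (c : J n) :
    Ys c (QK.toP t) * Ys (ng c) (QK.toP (QK.conj t)⁻¹) * Ys c (QK.toP t) =
      wY (qf2 a b) Ys c (QK.toP t) := by
  unfold wY
  rw [QK.qf2_toP, ← QK.toP_smul, conj_inv]

/-- the key relation -/
theorem key (hn : 3 ≤ n) (hB : QRel (qf2 a b) X Ys) (c : J n) {t : QK a b} (ht : t ≠ 0)
    (u : QK a b) :
    wY (qf2 a b) Ys c (QK.toP t) * Ys c (QK.toP u) * (wY (qf2 a b) Ys c (QK.toP t))⁻¹ =
      Ys (ng c) (QK.toP (QK.conj u * ((QK.conj t)⁻¹) ^ 2)) := by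
  have hw : qf2 a b (QK.toP t) ≠ 0 := by
    rw [QK.qf2_toP]; exact nrm_ne_zero ht
  rw [wY_conj_Ys_self hn hB c hw, rfl0_eq ht, QK.qf2_toP, ← QK.toP_smul, ← QK.toP_neg]
  congr 2
  rw [smul_neg, neg_neg, pow_two, conj_inv, Algebra.smul_def, Algebra.smul_def]
  ring

/-- the images of the generators -/
def gen (Ys : J n → (Fin 2 → F) → M) (c : J n) : Bool × QK a b → M
  | (true, t) => Ys c (QK.toP t)
  | (false, t) => Ys (ng c) (-QK.toP (QK.conj t))

theorem gen_true (c : J n) (t : QK a b) : gen Ys c (true, t) = Ys c (QK.toP t) := rfl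

theorem gen_false (c : J n) (t : QK a b) :
    gen Ys c (false, t) = Ys (ng c) (QK.toP (-QK.conj t)) := by
  rw [QK.toP_neg]
  rfl

theorem conj_neg (t : QK a b) : QK.conj (-t) = -QK.conj t := by
  ext <;> simp <;> ring

theorem conj_inv' (t : QK a b) : QK.conj t⁻¹ = (QK.conj t)⁻¹ := by
  by_cases ht : t = 0
  · subst ht
    have : QK.conj (0 : QK a b) = 0 := by ext <;> simp
    rw [_root_.inv_zero, this, _root_.inv_zero]
  · have h1 : QK.conj t⁻¹ * QK.conj t = 1 := by
      rw [← QK.conj_mul, inv_mul_cancel₀ ht]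
      ext <;> simp
    exact eq_inv_of_mul_eq_one_left h1

/-- the relations hold -/
theorem rels_hold (hn : 3 ≤ n) (hB : QRel (qf2 a b) X Ys) (c : J n) :
    ∀ r ∈ ({g : FreeGroup (Bool × QK a b) | ∃ (b' : Bool) (t u : QK a b),
        g = FreeGroup.of (b', t) * FreeGroup.of (b', u) * (FreeGroup.of (b', t + u))⁻¹} ∪
      {g | ∃ (b' : Bool) (t u : QK a b), t ≠ 0 ∧
        g = (FreeGroup.of (b', t) * FreeGroup.of (!b', -t⁻¹) * FreeGroup.of (b', t)) *
              FreeGroup.of (b', u) *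
              (FreeGroup.of (b', t) * FreeGroup.of (!b', -t⁻¹) * FreeGroup.of (b', t))⁻¹ *
              (FreeGroup.of (!b', -(t⁻¹ ^ 2 * u)))⁻¹}),
      FreeGroup.lift (gen Ys c) r = 1 := by
  rintro r (⟨b', t, u, rfl⟩ | ⟨b', t, u, ht, rfl⟩)
  · simp only [map_mul, map_inv, FreeGroup.lift_apply_of]
    rw [mul_inv_eq_one]
    cases b'
    · rw [gen_false, gen_false, gen_false, ← hB.yadd, ← QK.toP_add, QK.conj_add, neg_add]
    · rw [gen_true, gen_true, gen_true, ← hB.yadd, ← QK.toP_add]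
  · simp only [map_mul, map_inv, FreeGroup.lift_apply_of]
    rw [mul_inv_eq_one]
    cases b'
    · -- `b' = false`
      simp only [Bool.not_false]
      rw [gen_false, gen_false, gen_true, gen_true]
      have hs : -QK.conj t ≠ 0 := neg_ne_zero.mpr (conj_ne_zero ht)
      have e1 : QK.toP (-t⁻¹) = QK.toP (QK.conj (-QK.conj t))⁻¹ := by
        rw [conj_neg, QK.conj_conj, inv_neg]
      have W := wY_eq (Ys := Ys) hs (ng c)
      rw [ng_ng, ← e1] at W
      have K := key hn hB (ng c) hs (-QK.conj u)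
      rw [ng_ng] at K
      rw [W, K]
      congr 2
      rw [conj_neg, QK.conj_conj, conj_neg, QK.conj_conj]
      field_simp
    · -- `b' = true`
      simp only [Bool.not_true]
      rw [gen_true, gen_true, gen_false, gen_false]
      have e1 : QK.toP (-QK.conj (-t⁻¹)) = QK.toP (QK.conj t)⁻¹ := by
        rw [conj_neg, neg_neg, conj_inv']
      rw [e1, wY_eq ht c, key hn hB c ht]
      congr 2
      rw [conj_neg, neg_neg, QK.conj_mul, mul_comm]
      congr 1
      rw [← conj_inv', pow_two, pow_two, QK.conj_mul]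

end SL2HOM

/-! ### SL2HOM: the rank one subgroup of a short root is an image of `SL₂(K)` -/

theorem exists_sl2_hom [Finite F] (hn : 3 ≤ n) (hB : QRel (qf2 a b) X Ys) (c : J n) :
    ∃ φ : Matrix.SpecialLinearGroup (Fin 2) (QK a b) →* M,
      (∀ (g : Matrix.SpecialLinearGroup (Fin 2) (QK a b)) (t : QK a b),
        (g : Matrix (Fin 2) (Fin 2) (QK a b)) = !![1, t; 0, 1] → φ g = Ys c (QK.toP t)) ∧
      ∀ (g : Matrix.SpecialLinearGroup (Fin 2) (QK a b)) (t : QK a b),
        (g : Matrix (Fin 2) (Fin 2) (QK a b)) = !![1, 0; t, 1] →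
          φ g = Ys (ng c) (-QK.toP (QK.conj t)) := by
  obtain ⟨e, he1, he2⟩ := Cfsg.Agent.S2426.result (K := QK a b)
  refine ⟨(PresentedGroup.toGroup (SL2HOM.rels_hold hn hB c)).comp e.symm.toMonoidHom, ?_, ?_⟩
  · intro g t hg
    have hge : g = e (PresentedGroup.of (true, t)) := by
      apply Subtype.ext
      rw [hg]
      exact (he1 t).symm
    rw [hge]
    simp only [MonoidHom.coe_comp, MulEquiv.coe_toMonoidHom, Function.comp_apply,
      MulEquiv.symm_apply_apply, PresentedGroup.toGroup.of]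
    rfl
  · intro g t hg
    have hge : g = e (PresentedGroup.of (false, t)) := by
      apply Subtype.ext
      rw [hg]
      exact (he2 t).symm
    rw [hge]
    simp only [MonoidHom.coe_comp, MulEquiv.coe_toMonoidHom, Function.comp_apply,
      MulEquiv.symm_apply_apply, PresentedGroup.toGroup.of]
    rfl

end field

end Cfsg.Agent.S2099P
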