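import Mathlib
import Cfsg.Agent.Helper2.S2099.DefsA
import Cfsg.Agent.Helper2.S2099.DefsN
import Cfsg.Agent.Helper2.S2099.DefsZ
import Cfsg.Agent.Helper19.S2099TORUSQ
import Cfsg.Agent.Helper15.S2099KREFL
import Cfsg.Agent.Helper8.S2099SL2HOM
import Cfsg.Agent.Helper18.S2099NORM1

set_option autoImplicit false
set_option linter.unusedSectionVars false
set_option linter.unusedVariables false

/-! S2099 chapter A, piece ROTK (driver helper2): a rotating torus element `h₀ = tK Ys c₀ l`, `l` of norm one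
with `l² ≠ 1`. -/

namespace Cfsg.Agent.S2099P

open Matrix Cfsg.Agent.S3352P Cfsg.Agent.S3351P Cfsg.Agent.S2096P Cfsg.Agent.S2086P
open Cfsg.Agent.S2094P (LongOK isRoot_ng_right' isRoot_ng_left')
open scoped commutatorElement

section field

variable {n : ℕ} {F : Type*} [Field F] [Fintype F] {a b : F} {G : Type*} [Group G]
  {X : J n → J n → F → G} {Ys : J n → (Fin 2 → F) → G}

namespace ROTK

theorem ofP_add (w v : Fin 2 → F) : (QK.ofP (w + v) : QK a b) = QK.ofP w + QK.ofP v := by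
  ext <;> simp

theorem ofP_sub (w v : Fin 2 → F) : (QK.ofP (w - v) : QK a b) = QK.ofP w - QK.ofP v := by
  ext <;> simp

theorem ofP_smul (c : F) (w : Fin 2 → F) : (QK.ofP (c • w) : QK a b) = c • QK.ofP w := by
  ext <;> simp

/-- multiplication by `k` on the plane -/
def mulL (k : QK a b) : (Fin 2 → F) →ₗ[F] (Fin 2 → F) where
  toFun w := QK.toP (k * QK.ofP w)
  map_add' w v := by
    rw [ofP_add, mul_add, QK.toP_add]
  map_smul' c w := by
    rw [ofP_smul, mul_smul_comm, QK.toP_smul, RingHom.id_apply]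

theorem mulL_apply (k : QK a b) (w : Fin 2 → F) : mulL k w = QK.toP (k * QK.ofP w) := rfl

/-- the rotation -/
def rotL (a b : F) (l : QK a b) : (Fin 2 → F) →ₗ[F] (Fin 2 → F) :=
  (rfl0L (qf2 a b) (QK.toP l)).comp (rfl0L (qf2 a b) e1)

theorem rotL_apply' (l : QK a b) (w : Fin 2 → F) :
    rotL a b l w = rfl0 (qf2 a b) (QK.toP l) (rfl0 (qf2 a b) e1 w) := rfl

theorem rotL_apply [Aniso a b] {l : QK a b} (hl : QK.nrm l = 1) (w : Fin 2 → F) :
    rotL a b l w = QK.toP (l * l * QK.ofP w) := by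
  have hl0 : l ≠ 0 := by
    intro h
    rw [h] at hl
    simp [QK.nrm] at hl
  rw [rotL_apply']
  have := rot_toP hl0 (QK.ofP w : QK a b)
  rw [QK.toP_ofP] at this
  rw [this, SL2HOM.conj_inv, hl, inv_one, one_smul]

/-- from a conjugation formula to a commutation -/
theorem comm_of_conj {g x : G} (h : g * x * g⁻¹ = x) : g * x = x * g := by
  rw [mul_inv_eq_iff_eq_mul] at h
  exact h

theorem isRoot_ng_of {c y : J n} (h : IsRoot (ng c) y) : IsRoot (ng y) c := by
  refine ⟨?_, ?_⟩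
  · intro h1
    apply h.1
    rw [← h1, ng_ng]
  · intro h1
    exact h.2 h1.symm

theorem isRoot_of_ng {x c : J n} (h : IsRoot x (ng c)) : IsRoot c (ng x) := by
  refine ⟨?_, ?_⟩
  · intro h1
    apply h.1
    rw [h1, ng_ng]
  · intro h1
    apply h.2
    rw [ng_ng] at h1 ⊢
    exact h1.symm

end ROTK

open ROTK

/-- ROTK: a rotating torus element -/
theorem exists_rot [Aniso a b] (hn : 3 ≤ n) (hB : QRel (qf2 a b) X Ys) :
    ∃ (h₀ : G) (R D : (Fin 2 → F) →ₗ[F] (Fin 2 → F)), Rot (qf2 a b) X Ys h₀ R D := by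
  obtain ⟨l, hl, hl2⟩ := exists_nrm_one (a := a) (b := b)
  have hk : l * l - 1 ≠ 0 := sub_ne_zero.mpr hl2
  obtain ⟨c₀⟩ : Nonempty (J n) := ⟨Sum.inl ⟨0, by omega⟩⟩
  have he₁ : qf2 a b (e1 : Fin 2 → F) = 1 := qf2_e1 a b
  have hq : qf2 a b (QK.toP l) = 1 := by rw [QK.qf2_toP, hl]
  have hw : qf2 a b (QK.toP l) ≠ 0 := by rw [hq]; exact one_ne_zero
  refine ⟨tK Ys c₀ l, rotL a b l, mulL (l * l - 1)⁻¹, ?_, ?_, ?_, ?_, ?_⟩
  · -- commX
    intro x y hxy t
    apply comm_of_conj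
    unfold tK
    by_cases h1 : x = c₀
    · subst h1
      rw [tY_conj_X_fst hB he₁ hxy hw, hq, one_mul]
    by_cases h2 : y = c₀
    · subst h2
      rw [tY_conj_X_snd hB he₁ hxy hw, hq, inv_one, one_mul]
    by_cases h3 : x = ng c₀
    · subst h3
      have hr := isRoot_ng_of hxy
      have hf := hB.dX.flip (ng y) c₀ hr t
      rw [ng_ng] at hf
      rw [hf, tY_conj_X_snd hB he₁ hr hw, hq, inv_one, one_mul]
    by_cases h4 : y = ng c₀
    · subst h4
      have hr := isRoot_of_ng hxy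
      have hf := hB.dX.flip c₀ (ng x) hr t
      rw [ng_ng] at hf
      rw [hf, tY_conj_X_fst hB he₁ hr hw, hq, one_mul]
    exact tY_conj_X_of_ne hB e1 c₀ (QK.toP l) hxy h1 h3 h2 h4 t
  · -- conjY
    intro x w
    unfold tK
    by_cases h1 : x = c₀
    · subst h1
      rw [tY_conj_Ys_self hn hB he₁ x hw, hq, one_smul, rotL_apply']
    by_cases h2 : x = ng c₀
    · subst h2
      rw [tY_conj_Ys_ng hn hB he₁ c₀ hw, hq, inv_one, one_smul, rotL_apply']
    have hr : IsRoot c₀ x := ⟨fun h => h1 h.symm, fun h => h2 (by rw [h, ng_ng])⟩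
    rw [tY_conj_Ys_of_ne hB he₁ hr hw, rotL_apply']
  · -- isom
    intro w
    rw [rotL_apply', Q0_rfl0 _ _ hw, Q0_rfl0 _ _ (by rw [he₁]; exact one_ne_zero)]
  · -- inv₁
    intro w
    rw [rotL_apply hl, mulL_apply, QK.ofP_toP, ← KREFL.toP_sub]
    have : l * l * ((l * l - 1)⁻¹ * QK.ofP w) - (l * l - 1)⁻¹ * QK.ofP w = QK.ofP w := by
      calc l * l * ((l * l - 1)⁻¹ * QK.ofP w) - (l * l - 1)⁻¹ * QK.ofP w
          = ((l * l - 1) * (l * l - 1)⁻¹) * QK.ofP w := by ring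
        _ = QK.ofP w := by rw [mul_inv_cancel₀ hk, one_mul]
    rw [this, QK.toP_ofP]
  · -- inv₂
    intro w
    rw [mulL_apply, ofP_sub, rotL_apply hl, QK.ofP_toP]
    have : (l * l - 1)⁻¹ * (l * l * QK.ofP w - QK.ofP w) = QK.ofP w := by
      calc (l * l - 1)⁻¹ * (l * l * QK.ofP w - QK.ofP w)
          = ((l * l - 1) * (l * l - 1)⁻¹) * QK.ofP w := by ring
        _ = QK.ofP w := by rw [mul_inv_cancel₀ hk, one_mul]
    rw [this, QK.toP_ofP]

end field

end Cfsg.Agent.S2099P
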