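import Mathlib
import Cfsg.Agent.Helper2.S2099.DefsR
import Cfsg.Agent.Helper2.S2099.DefsN
import Cfsg.Agent.Helper2.S2099.DefsZ
import Cfsg.Agent.Helper2.S2096.Defs
import Cfsg.Agent.Helper23.S2099WYIDQ
import Cfsg.Agent.Helper8.S2099SL2HOM

set_option autoImplicit false
set_option linter.unusedSectionVars false
set_option linter.unusedVariables false

/-! S2099 chapter Z, piece TKMUL (driver helper2): rank one identities of the short torus elements, from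
the homomorphism `SL₂(K) → M` of SL2HOM. -/

namespace Cfsg.Agent.S2099P

open Matrix Cfsg.Agent.S3352P Cfsg.Agent.S3351P Cfsg.Agent.S2096P Cfsg.Agent.S2086P Cfsg.Agent.RGD
  Cfsg.Agent.Helper2
open Cfsg.Agent.S2094P (RB RootB sc NgEquivariant mapB reflB MD XD XD_coe isRoot_ng_right'
  isRoot_ng_left' sw_ngEquivariant sc_ngEquivariant)

namespace TKMUL

section mats

variable {K : Type*} [Field K]

/-- `x(t)` -/
def xm (t : K) : Matrix.SpecialLinearGroup (Fin 2) K :=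
  ⟨!![1, t; 0, 1], by simp [Matrix.det_fin_two]⟩

/-- `y(t)` -/
def ym (t : K) : Matrix.SpecialLinearGroup (Fin 2) K :=
  ⟨!![1, 0; t, 1], by simp [Matrix.det_fin_two]⟩

/-- `w(l)` -/
def wm (l : K) (hl : l ≠ 0) : Matrix.SpecialLinearGroup (Fin 2) K :=
  ⟨!![0, l; -l⁻¹, 0], by simp [Matrix.det_fin_two, hl]⟩

/-- `diag (l, l⁻¹)` -/
def dm (l : K) (hl : l ≠ 0) : Matrix.SpecialLinearGroup (Fin 2) K :=
  ⟨!![l, 0; 0, l⁻¹], by simp [Matrix.det_fin_two, hl]⟩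

theorem wm_eq (l : K) (hl : l ≠ 0) : wm l hl = xm l * ym (-l⁻¹) * xm l := by
  apply Subtype.ext
  show !![0, l; -l⁻¹, 0] = !![1, l; 0, 1] * !![1, 0; -l⁻¹, 1] * !![1, l; 0, 1]
  ext i j
  fin_cases i <;> fin_cases j <;> simp [Matrix.mul_apply, Fin.sum_univ_two, hl]

theorem wm_mul_wm_neg (l m : K) (hl : l ≠ 0) (hm : m ≠ 0) :
    wm l hl * wm (-m) (neg_ne_zero.mpr hm) = dm (l * m⁻¹) (mul_ne_zero hl (inv_ne_zero hm)) := by
  apply Subtype.ext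
  show !![0, l; -l⁻¹, 0] * !![0, -m; -(-m)⁻¹, 0] = !![l * m⁻¹, 0; 0, (l * m⁻¹)⁻¹]
  ext i j
  fin_cases i <;> fin_cases j <;> simp [Matrix.mul_apply, Fin.sum_univ_two, hl, hm, inv_neg]
  field_simp

theorem wm_inv (m : K) (hm : m ≠ 0) : (wm m hm)⁻¹ = wm (-m) (neg_ne_zero.mpr hm) := by
  symm
  apply eq_inv_of_mul_eq_one_right
  have := wm_mul_wm_neg m m hm hm
  rw [this]
  apply Subtype.ext
  show !![m * m⁻¹, 0; 0, (m * m⁻¹)⁻¹] = (1 : Matrix (Fin 2) (Fin 2) K)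
  ext i j
  fin_cases i <;> fin_cases j <;> simp [hm]

theorem dm_mul (l m : K) (hl : l ≠ 0) (hm : m ≠ 0) :
    dm (l * m) (mul_ne_zero hl hm) = dm l hl * dm m hm := by
  apply Subtype.ext
  show !![l * m, 0; 0, (l * m)⁻¹] = !![l, 0; 0, l⁻¹] * !![m, 0; 0, m⁻¹]
  ext i j
  fin_cases i <;> fin_cases j <;> simp [Matrix.mul_apply, Fin.sum_univ_two, mul_comm]

end mats

section field

variable {n : ℕ} {F : Type*} [Field F] {a b : F} [Aniso a b] {M : Type*} [Group M]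
  {X : J n → J n → F → M} {Ys : J n → (Fin 2 → F) → M}

/-- the Weyl elements are the images of `w(l)` -/
theorem phi_wm (c : J n) (φ : Matrix.SpecialLinearGroup (Fin 2) (QK a b) →* M)
    (h1 : ∀ (g : Matrix.SpecialLinearGroup (Fin 2) (QK a b)) (t : QK a b),
        (g : Matrix (Fin 2) (Fin 2) (QK a b)) = !![1, t; 0, 1] → φ g = Ys c (QK.toP t))
    (h2 : ∀ (g : Matrix.SpecialLinearGroup (Fin 2) (QK a b)) (t : QK a b),
        (g : Matrix (Fin 2) (Fin 2) (QK a b)) = !![1, 0; t, 1] →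
          φ g = Ys (ng c) (-QK.toP (QK.conj t)))
    {l : QK a b} (hl : l ≠ 0) : φ (wm l hl) = wY (qf2 a b) Ys c (QK.toP l) := by
  rw [wm_eq, map_mul, map_mul, h1 (xm l) l rfl, h2 (ym (-l⁻¹)) (-l⁻¹) rfl, ← SL2HOM.wY_eq hl c,
    ← QK.toP_neg, SL2HOM.conj_neg, neg_neg, SL2HOM.conj_inv']

theorem phi_dm (c : J n) (φ : Matrix.SpecialLinearGroup (Fin 2) (QK a b) →* M)
    (h1 : ∀ (g : Matrix.SpecialLinearGroup (Fin 2) (QK a b)) (t : QK a b),
        (g : Matrix (Fin 2) (Fin 2) (QK a b)) = !![1, t; 0, 1] → φ g = Ys c (QK.toP t))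
    (h2 : ∀ (g : Matrix.SpecialLinearGroup (Fin 2) (QK a b)) (t : QK a b),
        (g : Matrix (Fin 2) (Fin 2) (QK a b)) = !![1, 0; t, 1] →
          φ g = Ys (ng c) (-QK.toP (QK.conj t)))
    {l m : QK a b} (hl : l ≠ 0) (hm : m ≠ 0) :
    wY (qf2 a b) Ys c (QK.toP l) * (wY (qf2 a b) Ys c (QK.toP m))⁻¹ =
      φ (dm (l * m⁻¹) (mul_ne_zero hl (inv_ne_zero hm))) := by
  rw [← phi_wm c φ h1 h2 hl, ← phi_wm c φ h1 h2 hm, ← map_inv, ← map_mul, wm_inv m hm,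
    wm_mul_wm_neg l m hl hm]

theorem tK_eq (c : J n) (φ : Matrix.SpecialLinearGroup (Fin 2) (QK a b) →* M)
    (h1 : ∀ (g : Matrix.SpecialLinearGroup (Fin 2) (QK a b)) (t : QK a b),
        (g : Matrix (Fin 2) (Fin 2) (QK a b)) = !![1, t; 0, 1] → φ g = Ys c (QK.toP t))
    (h2 : ∀ (g : Matrix.SpecialLinearGroup (Fin 2) (QK a b)) (t : QK a b),
        (g : Matrix (Fin 2) (Fin 2) (QK a b)) = !![1, 0; t, 1] →
          φ g = Ys (ng c) (-QK.toP (QK.conj t)))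
    {l : QK a b} (hl : l ≠ 0) : tK Ys c l = φ (dm l hl) := by
  unfold tK tY
  rw [← QK.toP_one, phi_dm c φ h1 h2 hl one_ne_zero]
  congr 2
  rw [inv_one, mul_one]

end field

end TKMUL

section field

variable {n : ℕ} {F : Type*} [Field F] {a b : F} [Aniso a b] {M : Type*} [Group M]
  {X : J n → J n → F → M} {Ys : J n → (Fin 2 → F) → M}

/-! ### TKMUL: rank one identities of the short torus elements -/

theorem wY_mul_wY_inv [Finite F] (hn : 3 ≤ n) (hB : QRel (qf2 a b) X Ys) (c : J n)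
    {l m : QK a b} (hl : l ≠ 0) (hm : m ≠ 0) :
    wY (qf2 a b) Ys c (QK.toP l) * (wY (qf2 a b) Ys c (QK.toP m))⁻¹ = tK Ys c (l * m⁻¹) := by
  obtain ⟨φ, h1, h2⟩ := exists_sl2_hom hn hB c
  rw [TKMUL.phi_dm c φ h1 h2 hl hm, TKMUL.tK_eq c φ h1 h2 (mul_ne_zero hl (inv_ne_zero hm))]

theorem tK_mul [Finite F] (hn : 3 ≤ n) (hB : QRel (qf2 a b) X Ys) (c : J n)
    {l m : QK a b} (hl : l ≠ 0) (hm : m ≠ 0) :
    tK Ys c (l * m) = tK Ys c l * tK Ys c m := by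
  obtain ⟨φ, h1, h2⟩ := exists_sl2_hom hn hB c
  rw [TKMUL.tK_eq c φ h1 h2 (mul_ne_zero hl hm), TKMUL.tK_eq c φ h1 h2 hl,
    TKMUL.tK_eq c φ h1 h2 hm, TKMUL.dm_mul, map_mul]

theorem tK_one (c : J n) : tK Ys c (1 : QK a b) = 1 := by
  unfold tK tY
  rw [QK.toP_one, mul_inv_cancel]

theorem tK_ng [Finite F] (hn : 3 ≤ n) (hB : QRel (qf2 a b) X Ys) (c : J n)
    {l : QK a b} (hl : l ≠ 0) :
    tK Ys (ng c) l = tK Ys c (QK.conj l)⁻¹ := by
  unfold tK tY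
  have hw : qf2 a b (QK.toP l) ≠ 0 := by
    rw [QK.qf2_toP]; exact SL2HOM.nrm_ne_zero hl
  have he : qf2 a b (e1 : Fin 2 → F) ≠ 0 := by
    rw [qf2_e1]; exact one_ne_zero
  rw [wY_swap hn hB c hw, wY_swap hn hB c he, qf2_e1, inv_one, one_smul, QK.qf2_toP,
    ← QK.toP_smul, ← SL2HOM.conj_inv]

end field

end Cfsg.Agent.S2099P
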