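import Mathlib
import Cfsg.Prelude.Def_GeometricClasses
import Cfsg.Agent.Helper2.S5886.Defs
import Cfsg.Agent.Helper4.S5886SYLGENA
import Cfsg.Agent.Helper6.S5886KTVLE
import Cfsg.Agent.Helper23.S5886KTVP
import Cfsg.Agent.Helper11.S5886SYLH1
import Cfsg.Agent.Helper1.S5886SPECIAL

/-! # S5886 piece C2 (helper8) -/

set_option autoImplicit false

namespace Cfsg.Agent.S5886P

variable {F K V : Type*} [Field F] [Field K] [Algebra F K]
  [AddCommGroup V] [Module F V] [Module K V] [IsScalarTower F K V]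

namespace C2

theorem mem_Kline' {v x : V} : x ∈ Kline (F := F) (K := K) v ↔ ∃ c : K, c • v = x := by
  unfold Kline
  rw [Submodule.restrictScalars_mem, Submodule.mem_span_singleton]

/-- the cyclic group generated by an element of `p`-power order is a `p`-group -/
theorem isPGroup_zpowers {G : Type*} [Group G] (p : ℕ) {x : G} {N : ℕ} (hx : x ^ (p ^ N) = 1) :
    IsPGroup p (Subgroup.zpowers x) := by
  rintro ⟨y, hy⟩
  refine ⟨N, ?_⟩
  obtain ⟨j, rfl⟩ := Subgroup.mem_zpowers_iff.1 hy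
  apply Subtype.ext
  rw [Subgroup.coe_pow, Subgroup.coe_one, ← zpow_natCast, ← zpow_mul, mul_comm, zpow_mul,
    zpow_natCast, hx, one_zpow]

/-- conjugating a power -/
theorem conj_pow_inv {G : Type*} [Group G] (a b : G) (n : ℕ) :
    (a⁻¹ * b * a) ^ n = a⁻¹ * b ^ n * a := by
  have h := conj_pow (a := a⁻¹) (b := b) (i := n)
  rwa [inv_inv] at h

/-- the span of two vectors has dimension at most two -/
theorem finrank_span_pair_le (x y : V) :
    Module.finrank F (Submodule.span F (Set.range ![x, y])) ≤ 2 := by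
  have h := finrank_range_le_card (R := F) (b := ![x, y])
  rw [Fintype.card_fin] at h
  exact h

end C2

open C2 in
/-- C2 : the case `r = p ≥ 3`. -/
theorem C2 [Finite F] [Finite K] [Finite V] (p : ℕ) [Fact p.Prime] [CharP F p]
    (hm : 2 ≤ Module.finrank K V) (hrp : Module.finrank F K = p) (h3 : 3 ≤ p)
    (M : Subgroup (V ≃ₗ[F] V)) (hN : Nrm F K V ⊓ DetIn (⊥ : Subgroup Fˣ) ≤ M)
    (v : V) (k : K) (h : V ≃ₗ[F] V) (hv : v ≠ 0)
    (hh : h ∈ M) (hhv : h v = v) (hhk : h (k • v) ∉ Kline (F := F) (K := K) v)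
    (S1 : ∀ g ∈ M, (∀ x ∈ Kline (F := F) (K := K) v, g x ∈ Kline (F := F) (K := K) v) → g v = v →
      ∃ σ : K ≃ₐ[F] K, ∀ c : K, g (c • v) = σ c • v) : False := by
  have hp : p.Prime := Fact.out
  have _ := hm
  have hKTV : KTV F K V ≤ M := KTVLE.trans hN
  -- `k ∉ F`
  have hk : k ∉ Set.range (algebraMap F K) := by
    rintro ⟨c, rfl⟩
    apply hhk
    rw [algebraMap_smul, map_smul, hhv]
    exact mem_Kline'.2 ⟨algebraMap F K c, by rw [algebraMap_smul]⟩
  -- the independent pair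
  have hwv : ∀ a : K, a • v ≠ h (k • v) := fun a ha => hhk (mem_Kline'.2 ⟨a, ha⟩)
  have he : LinearIndependent K ![v, h (k • v)] := (LinearIndependent.pair_iff' hv).2 hwv
  obtain ⟨g0, hg0N, hg0fix, ⟨N, hg0pow⟩, hg0Fix⟩ := SPECIAL p hrp 2 (by norm_num) _ he
  have hg0M : g0 ∈ M := hN hg0N
  have hg0v : g0 v = v := by simpa using hg0fix 0
  have hg0w : g0 (h (k • v)) = h (k • v) := by simpa using hg0fix 1
  -- the conjugate `x0 = h⁻¹ g0 h` fixes `v` and `k • v`
  have hhiv : h⁻¹ v = v := by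
    apply h.injective
    rw [hhv]
    simp
  have hx0H1 : h⁻¹ * g0 * h ∈ Stab2 M v (k • v) := by
    refine ⟨M.mul_mem (M.mul_mem (M.inv_mem hh) hg0M) hh, ?_, ?_⟩
    · rw [LinearEquiv.mul_apply, LinearEquiv.mul_apply, hhv, hg0v, hhiv]
    · rw [LinearEquiv.mul_apply, LinearEquiv.mul_apply, hg0w]
      simp
  have hx0pow : (h⁻¹ * g0 * h) ^ (p ^ N) = 1 := by
    rw [conj_pow_inv, hg0pow, mul_one, inv_mul_cancel]
  -- Sylow subgroups
  obtain ⟨Q0, hQ0, -⟩ := SYLGEN.exists_le p (StabPt M (Kline (F := F) (K := K) v)) ⊥ bot_le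
    IsPGroup.of_bot
  have hQ0' : IsSylIn p (Stab2 M v (k • v)) Q0 :=
    SYLH1 p (by rw [hrp]; exact hp) M hKTV v hv k hk S1 Q0 hQ0
  obtain ⟨P, hP, hxP⟩ := SYLGEN.exists_le p (Stab2 M v (k • v)) (Subgroup.zpowers (h⁻¹ * g0 * h))
    (by rw [Subgroup.zpowers_le]; exact hx0H1) (isPGroup_zpowers p hx0pow)
  obtain ⟨c, hcH, hc⟩ := SYLGEN.conj p (Stab2 M v (k • v)) Q0 P hQ0' hP
  have hxc : c⁻¹ * (h⁻¹ * g0 * h) * c ∈ Q0 :=
    (hc _).1 (hxP (Subgroup.mem_zpowers _))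
  have hxcfix : ∀ y ∈ Kline (F := F) (K := K) v, (c⁻¹ * (h⁻¹ * g0 * h) * c) y = y :=
    (hQ0.1 hxc).2
  -- `g0` fixes `(h * c) y` for `y` in the `K`-line
  have hg0fixL : ∀ y ∈ Kline (F := F) (K := K) v, g0 ((h * c) y) = (h * c) y := by
    intro y hy
    have h1 := hxcfix y hy
    have h2 : (h * c) ((c⁻¹ * (h⁻¹ * g0 * h) * c) y) = g0 ((h * c) y) := by
      simp only [LinearEquiv.mul_apply]
      simp
    rw [← h2, h1]
  have hle : (Kline (F := F) (K := K) v).map (((h * c : V ≃ₗ[F] V)) : V →ₗ[F] V) ≤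
      Submodule.span F (Set.range ![v, h (k • v)]) := by
    rintro _ ⟨y, hy, rfl⟩
    exact hg0Fix _ (hg0fixL y hy)
  have hfin1 : Module.finrank F ((Kline (F := F) (K := K) v).map
      (((h * c : V ≃ₗ[F] V)) : V →ₗ[F] V)) = p := by
    rw [LinearEquiv.finrank_map_eq, KLINEDIM v hv, hrp]
  have hfin2 := finrank_span_pair_le (F := F) v (h (k • v))
  have hmono := Submodule.finrank_mono hle
  omega

end Cfsg.Agent.S5886P
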