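import Mathlib
import Cfsg.Agent.Helper28.BTDefs

set_option autoImplicit false
set_option linter.unusedSectionVars false
set_option linter.unusedVariables false
set_option linter.unusedSimpArgs false

/-!
# Borel–Tits (S2154), piece WACT: the monomial group acts on real weight vectors

`lev_refl`, `simple_Tr`, `qf_refl`, `monomial_Tr`.
-/

namespace Cfsg.Agent.Helper8.BT

open Cfsg.Lie Cfsg.Agent.Helper6 Cfsg.Agent.Helper28.BT

variable {D : ChevalleyDatum} {F : Type*} [Field F]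

theorem cartan_wR (Δ : BNData D F) (i : Fin D.rank) {r : ℕ} (hr : r < D.nroots) (k : ℕ)
    (hk : k < D.rank) :
    D.cartan k (wR D (D.simple i.val) r) =
      D.cartan k r - D.cartan k (D.simple i.val) * D.cartan i.val r := by
  have hA := Δ.hAll i.val i.isLt
  have hw := wR_lt Δ.hB hA.hS.1 hA.hR hr
  have h := hA.hC.cart k hk _ hw
  rw [wR_wR Δ.hB hA hr] at h
  exact h

theorem lev_refl (Δ : BNData D F) (i : Fin D.rank) (μ : Fin D.rank → ℝ) {r : ℕ}
    (hr : r < D.nroots) :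
    lev D (Helper28.BT.refl D i μ) r = lev D μ (wR D (D.simple i.val) r) := by
  have h1 : lev D μ (wR D (D.simple i.val) r) =
      ((1 : ℤ) : ℝ) * lev D μ r + ((-(D.cartan i.val r) : ℤ) : ℝ) * lev D μ (D.simple i.val) :=
    lev_lin μ (fun k hk => by rw [cartan_wR Δ i hr k hk]; ring)
  rw [h1]
  have h2 : lev D (Helper28.BT.refl D i μ) r =
      lev D μ r - lev D μ (D.simple i.val) * ((D.cartan i.val r : ℤ) : ℝ) := by
    unfold Helper28.BT.refl
    conv_lhs => unfold lev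
    simp only [sub_mul, Finset.sum_sub_distrib, ite_mul, zero_mul, Finset.sum_ite_eq',
      Finset.mem_univ, if_true]
    rfl
  rw [h2]
  push_cast
  ring

/-- the shape of `n_i` and of its inverse: the Cartan part is preserved and `e_s` goes to a
multiple of `e_{w_i s}` -/
def ShapeP (D : ChevalleyDatum) {F : Type*} [Field F] (i : ℕ) (M : Matrix D.Idx D.Idx F) : Prop :=
  ∀ a b, M a b ≠ 0 → (∃ j j' : Fin D.rank, a = Sum.inl j ∧ b = Sum.inl j') ∨
    ∃ s s' : Fin D.nroots, a = Sum.inr s' ∧ b = Sum.inr s ∧ s'.val = wR D (D.simple i) s.val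

theorem shape_nMat (Δ : BNData D F) {i : ℕ} (hi : i < D.rank) :
    ShapeP D i (D.nMat F (D.simple i) 1) := by
  have hA := Δ.hAll i hi
  intro a b hab
  rw [nMat_simple_eq Δ.hB hi hA.hS hA.hR hA.hE] at hab
  rcases a with j' | s' <;> rcases b with j | s
  · exact Or.inl ⟨j', j, rfl, rfl⟩
  · simp at hab
  · simp at hab
  · right
    refine ⟨s, s', rfl, rfl, ?_⟩
    simp only [Matrix.of_apply, Sum.elim_inr] at hab
    by_contra hne
    rw [← reflectRoot_eq_wR Δ.hB hA.hS s.isLt] at hne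
    rw [if_neg hne] at hab
    exact hab rfl

theorem ShapeP.torMat_mul {i : ℕ} {M : Matrix D.Idx D.Idx F} (h : ShapeP D i M) (c : ℕ → F) :
    ShapeP D i (torMat D F c * M) := by
  intro a b hab
  apply h a b
  unfold torMat dMat at hab
  rw [Matrix.diagonal_mul] at hab
  exact right_ne_zero_of_mul hab

theorem ShapeP.tr (Δ : BNData D F) (i : Fin D.rank) {M : Matrix D.Idx D.Idx F}
    (h : ShapeP D i.val M) (μ : Fin D.rank → ℝ) :
    (∀ a b, M a b ≠ 0 → degI D (Helper28.BT.refl D i μ) a = degI D μ b) ∧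
      (∀ a b, M a b ≠ 0 → degI D μ a = degI D (Helper28.BT.refl D i μ) b) := by
  have hA := Δ.hAll i.val i.isLt
  refine ⟨fun a b hab => ?_, fun a b hab => ?_⟩
  · rcases h a b hab with ⟨j, j', rfl, rfl⟩ | ⟨s, s', rfl, rfl, hs⟩
    · rfl
    · show lev D (Helper28.BT.refl D i μ) s'.val = lev D μ s.val
      rw [lev_refl Δ i μ s'.isLt, hs, wR_wR Δ.hB hA s.isLt]
  · rcases h a b hab with ⟨j, j', rfl, rfl⟩ | ⟨s, s', rfl, rfl, hs⟩
    · rfl
    · show lev D μ s'.val = lev D (Helper28.BT.refl D i μ) s.val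
      rw [lev_refl Δ i μ s.isLt, hs]

theorem shape_nMat_inv (Δ : BNData D F) {i : ℕ} (hi : i < D.rank) :
    ShapeP D i (D.nMat F (D.simple i) (-1)) := by
  have hA := Δ.hAll i hi
  rw [nMat_eq_hMat_mul Δ.hB, hMat_eq_torMat (Δ.hH _ hA.hS.1) (neg_ne_zero.2 one_ne_zero)]
  exact (shape_nMat Δ hi).torMat_mul _

theorem simple_Tr (Δ : BNData D F) (i : Fin D.rank) (μ : Fin D.rank → ℝ) :
    Tr (nU Δ.hB (D.simple i.val) (one_ne_zero (α := F))) (degI D μ) (degI D (Helper28.BT.refl D i μ)) := by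
  have e : ((nU Δ.hB (D.simple i.val) (one_ne_zero (α := F)))⁻¹ : GL D.Idx F).val =
      D.nMat F (D.simple i.val) (-1) := rfl
  refine ⟨fun a b hab => ?_, fun a b hab => ?_⟩
  · rw [nU_val] at hab
    exact ((shape_nMat Δ i.isLt).tr Δ i μ).1 a b hab
  · rw [e] at hab
    exact ((shape_nMat_inv Δ i.isLt).tr Δ i μ).2 a b hab

/-- the inverse of `n_i` carries `μ` to the reflected weight as well -/
theorem simple_inv_Tr (Δ : BNData D F) (i : Fin D.rank) (μ : Fin D.rank → ℝ) :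
    Tr (nU Δ.hB (D.simple i.val) (one_ne_zero (α := F)))⁻¹ (degI D μ) (degI D (Helper28.BT.refl D i μ)) := by
  have e : ((nU Δ.hB (D.simple i.val) (one_ne_zero (α := F)))⁻¹ : GL D.Idx F).val =
      D.nMat F (D.simple i.val) (-1) := rfl
  refine ⟨fun a b hab => ?_, fun a b hab => ?_⟩
  · rw [e] at hab
    exact ((shape_nMat_inv Δ i.isLt).tr Δ i μ).1 a b hab
  · rw [inv_inv, nU_val] at hab
    exact ((shape_nMat Δ i.isLt).tr Δ i μ).2 a b hab

theorem qf_refl (Δ : BNData D F) (i : Fin D.rank) (μ : Fin D.rank → ℝ) :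
    qf D (Helper28.BT.refl D i μ) = qf D μ := by
  have hA := Δ.hAll i.val i.isLt
  unfold qf
  let σ : Fin D.nroots → Fin D.nroots := fun r =>
    ⟨wR D (D.simple i.val) r.val, wR_lt Δ.hB hA.hS.1 hA.hR r.isLt⟩
  have hσ : Function.Involutive σ := fun r => Fin.ext (wR_wR Δ.hB hA r.isLt)
  rw [← Equiv.sum_comp hσ.toPerm (fun r => (lev D μ r.val) ^ 2)]
  apply Finset.sum_congr rfl
  intro r _
  rw [lev_refl Δ i μ r.isLt]
  rfl

/-- diagonal elements preserve every grading -/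
theorem diagonal_Tr (Δ : BNData D F) {h : GL D.Idx F} (hh : h ∈ D.diagonalSubgroup F)
    (d : D.Idx → ℝ) : Tr h d d := by
  have key : ∀ h ∈ D.diagonalSubgroup F, ∀ a b, (h : Matrix D.Idx D.Idx F) a b ≠ 0 → d a = d b := by
    intro h hh a b hab
    obtain ⟨c, _, hv⟩ := exists_torMat_of_mem_diagonal Δ.hB Δ.hH hh
    rw [hv] at hab
    unfold torMat dMat at hab
    by_cases e : a = b
    · rw [e]
    · rw [Matrix.diagonal_apply_ne _ e] at hab
      exact absurd rfl hab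
  exact ⟨key h hh, key h⁻¹ (Subgroup.inv_mem _ hh)⟩

/-- the elements of `GL` that, together with their inverses, carry every weight grading to a
weight grading of the same norm -/
def TrSub (D : ChevalleyDatum) (F : Type*) [Field F] : Subgroup (GL D.Idx F) where
  carrier := {g | (∀ μ : Fin D.rank → ℝ, ∃ μ' : Fin D.rank → ℝ,
      Tr g (degI D μ) (degI D μ') ∧ qf D μ' = qf D μ) ∧
    (∀ μ : Fin D.rank → ℝ, ∃ μ' : Fin D.rank → ℝ,
      Tr g⁻¹ (degI D μ) (degI D μ') ∧ qf D μ' = qf D μ)}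
  one_mem' := by
    refine ⟨fun μ => ⟨μ, Tr.one _, rfl⟩, fun μ => ⟨μ, ?_, rfl⟩⟩
    rw [inv_one]; exact Tr.one _
  mul_mem' := by
    rintro g h ⟨g1, g2⟩ ⟨h1, h2⟩
    refine ⟨fun μ => ?_, fun μ => ?_⟩
    · obtain ⟨μ', t1, q1⟩ := h1 μ
      obtain ⟨μ'', t2, q2⟩ := g1 μ'
      exact ⟨μ'', t1.mul t2, q2.trans q1⟩
    · obtain ⟨μ', t1, q1⟩ := g2 μ
      obtain ⟨μ'', t2, q2⟩ := h2 μ'
      refine ⟨μ'', ?_, q2.trans q1⟩
      rw [mul_inv_rev]
      exact t1.mul t2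
  inv_mem' := by
    rintro g ⟨g1, g2⟩
    refine ⟨g2, ?_⟩
    rw [inv_inv]; exact g1

theorem monomial_le_TrSub (Δ : BNData D F) : D.monomialSubgroup F ≤ TrSub D F := by
  apply monomial_le_of Δ.hB Δ.hAll Δ.hReach
  · intro h hh
    refine ⟨fun μ => ⟨μ, diagonal_Tr Δ hh _, rfl⟩, fun μ => ⟨μ, ?_, rfl⟩⟩
    exact diagonal_Tr Δ (Subgroup.inv_mem _ hh) _
  · intro i hi
    refine ⟨fun μ => ⟨Helper28.BT.refl D ⟨i, hi⟩ μ, simple_Tr Δ ⟨i, hi⟩ μ, qf_refl Δ ⟨i, hi⟩ μ⟩,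
      fun μ => ⟨Helper28.BT.refl D ⟨i, hi⟩ μ, simple_inv_Tr Δ ⟨i, hi⟩ μ, qf_refl Δ ⟨i, hi⟩ μ⟩⟩

theorem monomial_Tr (Δ : BNData D F) {n : GL D.Idx F} (hn : n ∈ D.monomialSubgroup F)
    (μ : Fin D.rank → ℝ) :
    ∃ μ' : Fin D.rank → ℝ, Tr n (degI D μ) (degI D μ') ∧ qf D μ' = qf D μ :=
  (monomial_le_TrSub Δ hn).1 μ

end Cfsg.Agent.Helper8.BT
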