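import Cfsg.Agent.Helper21.S2287DEFS
import Cfsg.Agent.Helper21.S2286FIN
import Cfsg.Agent.Helper19.S2287TORUS
import Cfsg.Agent.Helper25.S2287ROOTS
import Cfsg.Agent.Helper3.S2287NACT

/-! S2287 piece BOREL (driver helper21): the Borel set `X₀₁ X₁₂ X₀₂ T` is a subgroup; splittings. -/

set_option linter.unusedVariables false

namespace Cfsg.Agent.Helper21.S2287

open Multiplicative Cfsg.Agent.Helper21.S2286

variable {F : Type*} [Field F] {P : Type*} [Group P] (D : A2Data F P)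

namespace A2Data

namespace BOREL

variable {F : Type*} [Field F] {P : Type*} [Group P] (D : A2Data F P)

/-- the unipotent part `X₀₁ X₁₂ X₀₂` -/
def IsU (g : P) : Prop := ∃ a b d : F, g = D.xr 0 1 a * D.xr 1 2 b * D.xr 0 2 d

theorem isU_x01 (a : F) : IsU D (D.xr 0 1 a) :=
  ⟨a, 0, 0, by rw [D.xr_zero, D.xr_zero, mul_one, mul_one]⟩

theorem isU_x12 (b : F) : IsU D (D.xr 1 2 b) :=
  ⟨0, b, 0, by rw [D.xr_zero, D.xr_zero, mul_one, one_mul]⟩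

theorem isU_x02 (d : F) : IsU D (D.xr 0 2 d) :=
  ⟨0, 0, d, by rw [D.xr_zero, D.xr_zero, one_mul, one_mul]⟩

theorem isU_one : IsU D (1 : P) :=
  ⟨0, 0, 0, by rw [D.xr_zero, D.xr_zero, D.xr_zero, mul_one, mul_one]⟩

/-- `x₁₂(b) x₀₁(a) = x₀₂(-ab) x₀₁(a) x₁₂(b)` -/
theorem swap12 (hC : D.Comm) (a b : F) :
    D.xr 1 2 b * D.xr 0 1 a = D.xr 0 2 (-(a * b)) * D.xr 0 1 a * D.xr 1 2 b := by
  have h := hC.comm_all a b
  rw [D.xr_neg, ← h]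
  group

theorem isU_mul (hC : D.Comm) {g g' : P} (hg : IsU D g) (hg' : IsU D g') : IsU D (g * g') := by
  obtain ⟨a, b, d, rfl⟩ := hg
  obtain ⟨a', b', d', rfl⟩ := hg'
  refine ⟨a + a', b + b', d + d' + -(a' * b), ?_⟩
  have c1 := (hC.comm_13 a' d).eq
  have c2 := (hC.comm_23 b' d).eq
  have c3 := (hC.comm_13 a' (-(a' * b))).eq
  have c4 := (hC.comm_23 b (-(a' * b))).eq
  have c5 := (hC.comm_23 b' (-(a' * b))).eq
  have c6 := (hC.comm_23 b' d').eq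
  have c7 := (hC.comm_23 b d).eq
  calc D.xr 0 1 a * D.xr 1 2 b * D.xr 0 2 d * (D.xr 0 1 a' * D.xr 1 2 b' * D.xr 0 2 d')
      = D.xr 0 1 a * D.xr 1 2 b * (D.xr 0 2 d * D.xr 0 1 a') * D.xr 1 2 b' * D.xr 0 2 d' := by group
    _ = D.xr 0 1 a * (D.xr 1 2 b * D.xr 0 1 a') * (D.xr 0 2 d * D.xr 1 2 b') * D.xr 0 2 d' := by
        rw [← c1]; group
    _ = D.xr 0 1 a * (D.xr 0 2 (-(a' * b)) * D.xr 0 1 a' * D.xr 1 2 b) * (D.xr 1 2 b' * D.xr 0 2 d) *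
          D.xr 0 2 d' := by rw [swap12 D hC, ← c2]
    _ = D.xr 0 1 a * (D.xr 0 1 a' * D.xr 0 2 (-(a' * b))) * D.xr 1 2 b * D.xr 1 2 b' * D.xr 0 2 d *
          D.xr 0 2 d' := by rw [c3]; group
    _ = D.xr 0 1 a * D.xr 0 1 a' * (D.xr 0 2 (-(a' * b)) * D.xr 1 2 b) * D.xr 1 2 b' * D.xr 0 2 d *
          D.xr 0 2 d' := by group
    _ = D.xr 0 1 a * D.xr 0 1 a' * (D.xr 1 2 b * D.xr 0 2 (-(a' * b))) * D.xr 1 2 b' * D.xr 0 2 d *
          D.xr 0 2 d' := by rw [c4]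
    _ = D.xr 0 1 a * D.xr 0 1 a' * D.xr 1 2 b * (D.xr 0 2 (-(a' * b)) * D.xr 1 2 b') * D.xr 0 2 d *
          D.xr 0 2 d' := by group
    _ = D.xr 0 1 a * D.xr 0 1 a' * D.xr 1 2 b * (D.xr 1 2 b' * D.xr 0 2 (-(a' * b))) * D.xr 0 2 d *
          D.xr 0 2 d' := by rw [c5]
    _ = (D.xr 0 1 a * D.xr 0 1 a') * (D.xr 1 2 b * D.xr 1 2 b') *
          (D.xr 0 2 (-(a' * b)) * D.xr 0 2 d * D.xr 0 2 d') := by group
    _ = D.xr 0 1 (a + a') * D.xr 1 2 (b + b') * D.xr 0 2 (d + d' + -(a' * b)) := by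
        rw [← D.xr_add, ← D.xr_add, ← D.xr_add, ← D.xr_add]
        congr 2
        ring

theorem isU_inv (hC : D.Comm) {g : P} (hg : IsU D g) : IsU D g⁻¹ := by
  obtain ⟨a, b, d, rfl⟩ := hg
  rw [mul_inv_rev, mul_inv_rev, ← D.xr_neg, ← D.xr_neg, ← D.xr_neg, ← mul_assoc]
  exact isU_mul D hC (isU_mul D hC (isU_x02 D _) (isU_x12 D _)) (isU_x01 D _)

theorem isU_conj_tor {g : P} (hg : IsU D g) (i j : ℤ) :
    IsU D (D.tor i j * g * (D.tor i j)⁻¹) := by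
  obtain ⟨a, b, d, rfl⟩ := hg
  refine ⟨(D.ω : F) ^ (ee i j 0 - ee i j 1) * a, (D.ω : F) ^ (ee i j 1 - ee i j 2) * b,
    (D.ω : F) ^ (ee i j 0 - ee i j 2) * d, ?_⟩
  rw [← D.tor_xr i j 0 1 a, ← D.tor_xr i j 1 2 b, ← D.tor_xr i j 0 2 d]
  group

theorem mem_borel_iff (g : P) :
    g ∈ D.borelSet ↔ ∃ u, IsU D u ∧ ∃ i j : ℤ, g = u * D.tor i j := by
  constructor
  · rintro ⟨a, b, d, i, j, rfl⟩
    exact ⟨_, ⟨a, b, d, rfl⟩, i, j, rfl⟩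
  · rintro ⟨u, ⟨a, b, d, rfl⟩, i, j, rfl⟩
    exact ⟨a, b, d, i, j, rfl⟩

/-- `t⁻¹ * tor i j * t` -/
theorem t_inv_tor (i j : ℤ) : D.t⁻¹ * D.tor i j * D.t = D.tor (-i - j) j := by
  have h := D.t_tor (-i - j) j
  have e : -(-i - j) - j = i := by ring
  rw [e] at h
  rw [← h]
  group

/-- `n2⁻¹ * tor i j * n2` -/
theorem n2_inv_tor (i j : ℤ) : D.n2⁻¹ * D.tor i j * D.n2 = D.tor i (-i - j) := by
  -- `n2 * tor i (-i-j) * n2⁻¹ = tor i j`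
  have h1 : D.c⁻¹ * D.tor i (-i - j) * D.c = D.tor j i := by
    have h := D.c_tor j i
    have e : -j - i = -i - j := by ring
    rw [e] at h
    rw [← h]
    group
  have h2 : D.t * D.tor j i * D.t⁻¹ = D.tor (-j - i) i := D.t_tor j i
  have h3 : D.c * D.tor (-j - i) i * D.c⁻¹ = D.tor i j := by
    have h := D.c_tor (-j - i) i
    have e : -(-j - i) - i = j := by ring
    rw [e] at h
    exact h
  have h4 : D.n2 * D.tor i (-i - j) * D.n2⁻¹ = D.tor i j := by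
    unfold n2
    calc D.c * D.t * D.c⁻¹ * D.tor i (-i - j) * (D.c * D.t * D.c⁻¹)⁻¹
        = D.c * (D.t * (D.c⁻¹ * D.tor i (-i - j) * D.c) * D.t⁻¹) * D.c⁻¹ := by group
      _ = D.tor i j := by rw [h1, h2, h3]
  rw [← h4]
  group

end BOREL

open BOREL

/-! ## piece BOREL -/
theorem borel_one : (1 : P) ∈ D.borelSet :=
  ⟨0, 0, 0, 0, 0, by rw [D.xr_zero, D.xr_zero, D.xr_zero, D.tor_zero, mul_one, mul_one, mul_one]⟩

theorem borel_mul (hC : D.Comm) {g g' : P} (hg : g ∈ D.borelSet) (hg' : g' ∈ D.borelSet) :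
    g * g' ∈ D.borelSet := by
  rw [mem_borel_iff] at hg hg' ⊢
  obtain ⟨u, hu, i, j, rfl⟩ := hg
  obtain ⟨u', hu', i', j', rfl⟩ := hg'
  refine ⟨u * (D.tor i j * u' * (D.tor i j)⁻¹), isU_mul D hC hu (isU_conj_tor D hu' i j),
    i + i', j + j', ?_⟩
  rw [← D.tor_mul]
  group

theorem borel_inv (hC : D.Comm) {g : P} (hg : g ∈ D.borelSet) : g⁻¹ ∈ D.borelSet := by
  rw [mem_borel_iff] at hg ⊢
  obtain ⟨u, hu, i, j, rfl⟩ := hg
  refine ⟨D.tor (-i) (-j) * u⁻¹ * (D.tor (-i) (-j))⁻¹, isU_conj_tor D (isU_inv D hC hu) _ _,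
    -i, -j, ?_⟩
  rw [← D.tor_inv]
  group

theorem xr_mem_borel (k l : Fin 3) (hkl : k < l) (a : F) : D.xr k l a ∈ D.borelSet := by
  rw [mem_borel_iff]
  refine ⟨D.xr k l a, ?_, 0, 0, by rw [D.tor_zero, mul_one]⟩
  fin_cases k <;> fin_cases l <;> simp at hkl
  · exact isU_x01 D a
  · exact isU_x02 D a
  · exact isU_x12 D a

theorem tor_mem_borel (i j : ℤ) : D.tor i j ∈ D.borelSet :=
  ⟨0, 0, 0, i, j, by rw [D.xr_zero, D.xr_zero, D.xr_zero, mul_one, mul_one, one_mul]⟩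

theorem borel_split_t (hC : D.Comm) {g : P} (hg : g ∈ D.borelSet) :
    ∃ (a : F) (g' : P), g' ∈ D.borelSet ∧ g = D.xr 0 1 a * g' ∧ D.t⁻¹ * g' * D.t ∈ D.borelSet := by
  obtain ⟨a, b, d, i, j, rfl⟩ := hg
  refine ⟨a, D.xr 1 2 b * D.xr 0 2 d * D.tor i j, ?_, by group, ?_⟩
  · exact ⟨0, b, d, i, j, by rw [D.xr_zero, one_mul]⟩
  · obtain ⟨b', hb'⟩ := D.t_xr_inv 1 2 b
    obtain ⟨d', hd'⟩ := D.t_xr_inv 0 2 d
    have e1 : (Equiv.swap (0 : Fin 3) 1) 1 = 0 := Equiv.swap_apply_right _ _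
    have e2 : (Equiv.swap (0 : Fin 3) 1) 2 = 2 := by decide
    have e0 : (Equiv.swap (0 : Fin 3) 1) 0 = 1 := Equiv.swap_apply_left _ _
    rw [e1, e2] at hb'
    rw [e0, e2] at hd'
    have : D.t⁻¹ * (D.xr 1 2 b * D.xr 0 2 d * D.tor i j) * D.t =
        (D.t⁻¹ * D.xr 1 2 b * D.t) * (D.t⁻¹ * D.xr 0 2 d * D.t) * (D.t⁻¹ * D.tor i j * D.t) := by
      group
    rw [this, hb', hd', t_inv_tor, ← (hC.comm_23 d' b').eq]
    exact ⟨0, d', b', _, _, by rw [D.xr_zero, one_mul]⟩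

theorem borel_split_n2 (hC : D.Comm) {g : P} (hg : g ∈ D.borelSet) :
    ∃ (b : F) (g' : P), g' ∈ D.borelSet ∧ g = D.xr 1 2 b * g' ∧
      D.n2⁻¹ * g' * D.n2 ∈ D.borelSet := by
  obtain ⟨a, b, d, i, j, rfl⟩ := hg
  refine ⟨b, D.xr 0 1 a * D.xr 0 2 (a * b + d) * D.tor i j, ?_, ?_, ?_⟩
  · exact ⟨a, 0, a * b + d, i, j, by rw [D.xr_zero, mul_one]⟩
  · have h := hC.comm_all a b
    have c1 := (hC.comm_23 b (a * b)).eq
    have c2 := (hC.comm_13 a (a * b)).eq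
    have h' : D.xr 0 1 a * D.xr 1 2 b = D.xr 0 2 (a * b) * D.xr 1 2 b * D.xr 0 1 a := by
      rw [← h]; group
    calc D.xr 0 1 a * D.xr 1 2 b * D.xr 0 2 d * D.tor i j
        = (D.xr 0 1 a * D.xr 1 2 b) * D.xr 0 2 d * D.tor i j := by group
      _ = D.xr 0 2 (a * b) * D.xr 1 2 b * D.xr 0 1 a * D.xr 0 2 d * D.tor i j := by rw [h']
      _ = (D.xr 1 2 b * D.xr 0 2 (a * b)) * D.xr 0 1 a * D.xr 0 2 d * D.tor i j := by rw [c1]
      _ = D.xr 1 2 b * (D.xr 0 2 (a * b) * D.xr 0 1 a) * D.xr 0 2 d * D.tor i j := by group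
      _ = D.xr 1 2 b * (D.xr 0 1 a * D.xr 0 2 (a * b)) * D.xr 0 2 d * D.tor i j := by rw [c2]
      _ = D.xr 1 2 b * (D.xr 0 1 a * D.xr 0 2 (a * b + d) * D.tor i j) := by
          rw [D.xr_add]; group
  · obtain ⟨a', ha'⟩ := D.n2_xr_inv 0 1 a
    obtain ⟨d', hd'⟩ := D.n2_xr_inv 0 2 (a * b + d)
    have e1 : (Equiv.swap (1 : Fin 3) 2) 1 = 2 := Equiv.swap_apply_left _ _
    have e2 : (Equiv.swap (1 : Fin 3) 2) 2 = 1 := Equiv.swap_apply_right _ _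
    have e0 : (Equiv.swap (1 : Fin 3) 2) 0 = 0 := by decide
    rw [e0, e1] at ha'
    rw [e0, e2] at hd'
    have : D.n2⁻¹ * (D.xr 0 1 a * D.xr 0 2 (a * b + d) * D.tor i j) * D.n2 =
        (D.n2⁻¹ * D.xr 0 1 a * D.n2) * (D.n2⁻¹ * D.xr 0 2 (a * b + d) * D.n2) *
          (D.n2⁻¹ * D.tor i j * D.n2) := by
      group
    rw [this, ha', hd', n2_inv_tor, ← (hC.comm_13 d' a').eq]
    exact ⟨d', 0, a', _, _, by rw [D.xr_zero, mul_one]⟩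

end A2Data

end Cfsg.Agent.Helper21.S2287
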