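import Mathlib
import Cfsg.Prelude.Def_GeometricClasses
import Cfsg.Agent.Helper20.S6000Defs
import Cfsg.Agent.Helper26.S6000FIVE
import Cfsg.Agent.Helper14.S6000TR0

set_option autoImplicit false
open scoped MatrixGroups Matrix

/-! S6000 piece REFL (driver helper20): the reflection `ρ = (1 - a - b - ab)/2` in `N(R)`. -/

namespace Cfsg.Agent.S6000P

namespace REFL

section Ring
variable {S : Type*} [Ring S] {a b : S}

theorem aa_l (haa : a * a = 1) (x : S) : a * (a * x) = x := by rw [← mul_assoc, haa, one_mul]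

theorem ba_l (hba : b * a = a * b) (x : S) : b * (a * x) = a * (b * x) := by
  rw [← mul_assoc, hba, mul_assoc]

/-- `Q = 1 - a - b - ab` squares to `4`. -/
theorem q_sq (haa : a * a = 1) (hbb : b * b = 1) (hba : b * a = a * b) :
    (1 - a - b - a * b) * (1 - a - b - a * b) = 4 := by
  simp only [mul_add, add_mul, mul_sub, sub_mul, mul_one, one_mul, mul_assoc, haa, hbb, hba,
    aa_l haa, aa_l hbb, ba_l hba]
  abel_nf
  norm_num

/-- `(1 + a - b + ab) (1 - a - b - ab) = -4 b`. -/
theorem q_pm (haa : a * a = 1) (hbb : b * b = 1) (hba : b * a = a * b) :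
    (1 + a - b + a * b) * (1 - a - b - a * b) = -(4 * b) := by
  simp only [mul_add, add_mul, mul_sub, sub_mul, mul_one, one_mul, mul_assoc, haa, hbb, hba,
    aa_l haa, aa_l hbb, ba_l hba]
  abel_nf
  noncomm_ring

/-- `(1 - a + b + ab) (1 - a - b - ab) = -4 a`. -/
theorem q_mp (haa : a * a = 1) (hbb : b * b = 1) (hba : b * a = a * b) :
    (1 - a + b + a * b) * (1 - a - b - a * b) = -(4 * a) := by
  simp only [mul_add, add_mul, mul_sub, sub_mul, mul_one, one_mul, mul_assoc, haa, hbb, hba,
    aa_l haa, aa_l hbb, ba_l hba]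
  abel_nf
  noncomm_ring

/-- `(1 + a + b - ab) (1 - a - b - ab) = -4 ab`. -/
theorem q_mm (haa : a * a = 1) (hbb : b * b = 1) (hba : b * a = a * b) :
    (1 + a + b - a * b) * (1 - a - b - a * b) = -(4 * (a * b)) := by
  simp only [mul_add, add_mul, mul_sub, sub_mul, mul_one, one_mul, mul_assoc, haa, hbb, hba,
    aa_l haa, aa_l hbb, ba_l hba]
  abel_nf
  noncomm_ring

variable {c : S}

theorem ca_l (hca : c * a = -(a * c)) (x : S) : c * (a * x) = -(a * (c * x)) := by
  rw [← mul_assoc, hca, neg_mul, mul_assoc]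

theorem cc_l (hca : c * a = a * c) (x : S) : c * (a * x) = a * (c * x) := by
  rw [← mul_assoc, hca, mul_assoc]

theorem conj_pp (hca : c * a = a * c) (hcb : c * b = b * c) :
    (1 - a - b - a * b) * c = c * (1 - a - b - a * b) := by
  simp only [mul_sub, sub_mul, mul_one, one_mul, mul_assoc, hca, hcb, cc_l hca, cc_l hcb]

theorem conj_mp (hca : c * a = -(a * c)) (hcb : c * b = b * c) :
    (1 - a - b - a * b) * c = c * (1 + a - b + a * b) := by
  simp only [mul_sub, sub_mul, mul_add, add_mul, mul_one, one_mul, mul_assoc, hca, hcb, ca_l hca,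
    cc_l hcb]
  abel

theorem conj_pm (hca : c * a = a * c) (hcb : c * b = -(b * c)) :
    (1 - a - b - a * b) * c = c * (1 - a + b + a * b) := by
  simp only [mul_sub, sub_mul, mul_add, add_mul, mul_one, one_mul, mul_assoc, hca, hcb, ca_l hcb,
    cc_l hca, mul_neg]
  abel

theorem conj_mm (hca : c * a = -(a * c)) (hcb : c * b = -(b * c)) :
    (1 - a - b - a * b) * c = c * (1 + a + b - a * b) := by
  simp only [mul_sub, sub_mul, mul_add, add_mul, mul_one, one_mul, mul_assoc, hca, hcb, ca_l hcb,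
    ca_l hca, mul_neg, neg_neg]
  abel

/-- `(1 + a + b + ab)(1 - a) = 0`. -/
theorem t_mul (haa : a * a = 1) (hba : b * a = a * b) :
    (1 + a + b + a * b) * (1 - a) = 0 := by
  simp only [mul_sub, add_mul, mul_one, one_mul, mul_assoc, haa, hba, aa_l haa, ba_l hba]
  abel

end Ring

variable {F : Type*} [Field F]

theorem four_eq : (4 : M4 F) = (4 : F) • (1 : M4 F) := by
  rw [Algebra.smul_def, mul_one, map_ofNat]

theorem neg_one_mem {R : Subgroup (GL (Fin 4) F)} {ι : F} (h : Hyp64 R ι) :
    (-1 : GL (Fin 4) F) ∈ R := by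
  obtain ⟨c, hc, hcv⟩ := h.iota_mem
  have : c * c = -1 := by
    apply Units.ext
    rw [Units.val_mul, hcv, coe_neg_one, Matrix.smul_mul, Matrix.one_mul, smul_smul, h.iota_sq,
      neg_smul, one_smul]
  rw [← this]
  exact R.mul_mem hc hc

theorem neg_mem {R : Subgroup (GL (Fin 4) F)} {ι : F} (h : Hyp64 R ι) {x : GL (Fin 4) F}
    (hx : x ∈ R) : -x ∈ R := by
  have : -x = (-1) * x := by rw [neg_one_mul]
  rw [this]
  exact R.mul_mem (neg_one_mem h) hx

/-- the conjugation formula at the matrix level -/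
theorem conj_calc (h2 : (2 : F) ≠ 0) (Q C Q' X : M4 F) (h1 : Q * C = C * Q')
    (h3 : Q' * Q = -(4 * X)) :
    ((2⁻¹ : F) • Q) * C * ((2⁻¹ : F) • Q) = -(C * X) := by
  rw [Matrix.smul_mul, Matrix.smul_mul, Matrix.mul_smul, smul_smul, h1, mul_assoc, h3, four_eq,
    Matrix.smul_mul, one_mul, mul_neg, Matrix.mul_smul, smul_neg, smul_smul]
  have : (2⁻¹ * 2⁻¹ * 4 : F) = 1 := by field_simp; norm_num
  rw [this, one_smul]

end REFL

open REFL in
/-- REFL -/
theorem exists_refl {F : Type*} [Field F] {R : Subgroup (GL (Fin 4) F)} {ι : F} (h : Hyp64 R ι) :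
    ∃ ρ ∈ Cfsg.Geo.subgroupNormalizer R, ρ * ρ = 1 ∧ Matrix.trace (ρ : M4 F) = 2 ∧
      ∀ z : F, (ρ : M4 F) ≠ z • (1 : M4 F) := by
  obtain ⟨a, b, ha, hb, haa, hbb, hab, hans, hbns, habns⟩ := exists_comm_invol h
  have h2 := h.two_ne
  have hAA : (a : M4 F) * (a : M4 F) = 1 := by rw [← Units.val_mul, haa]; rfl
  have hBB : (b : M4 F) * (b : M4 F) = 1 := by rw [← Units.val_mul, hbb]; rfl
  have hBA : (b : M4 F) * (a : M4 F) = (a : M4 F) * (b : M4 F) := by
    rw [← Units.val_mul, ← Units.val_mul, hab]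
  have hta : Matrix.trace (a : M4 F) = 0 := trace_eq_zero h a ha hans
  have htb : Matrix.trace (b : M4 F) = 0 := trace_eq_zero h b hb hbns
  have htab : Matrix.trace ((a : M4 F) * (b : M4 F)) = 0 := by
    have := trace_eq_zero h (a * b) (R.mul_mem ha hb) habns
    rwa [Units.val_mul] at this
  have hPP : ((2⁻¹ : F) • (1 - (a : M4 F) - (b : M4 F) - (a : M4 F) * (b : M4 F))) *
      ((2⁻¹ : F) • (1 - (a : M4 F) - (b : M4 F) - (a : M4 F) * (b : M4 F))) = 1 := by
    rw [Matrix.smul_mul, Matrix.mul_smul, smul_smul, q_sq hAA hBB hBA, four_eq, smul_smul]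
    have : (2⁻¹ * 2⁻¹ * 4 : F) = 1 := by field_simp; norm_num
    rw [this, one_smul]
  let ρ : GL (Fin 4) F := ⟨_, _, hPP, hPP⟩
  have hρv : (ρ : M4 F) = (2⁻¹ : F) • (1 - (a : M4 F) - (b : M4 F) - (a : M4 F) * (b : M4 F)) := rfl
  have hρρ : ρ * ρ = 1 := Units.ext hPP
  have hρinv : ρ⁻¹ = ρ := inv_eq_of_mul_eq_one_right hρρ
  have hconj : ∀ c ∈ R, ρ * c * ρ⁻¹ ∈ R := by
    intro c hc
    rw [hρinv]
    rcases h.comm c hc a ha with h1 | h1 <;> rcases h.comm c hc b hb with h3 | h3
    · have e : ρ * c * ρ = c := by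
        have : ρ * c = c * ρ := by
          apply Units.ext
          rw [Units.val_mul, Units.val_mul, hρv, Matrix.smul_mul, Matrix.mul_smul]
          congr 1
          apply conj_pp
          · rw [← Units.val_mul, ← Units.val_mul, h1]
          · rw [← Units.val_mul, ← Units.val_mul, h3]
        rw [this, mul_assoc, hρρ, mul_one]
      rw [e]; exact hc
    · -- commutes with a, anticommutes with b
      have e : ρ * c * ρ = -(c * a) := by
        apply Units.ext
        rw [Units.val_mul, Units.val_mul, hρv, coe_neg, Units.val_mul]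
        apply conj_calc h2 _ _ _ _ (conj_pm _ _) (q_mp hAA hBB hBA)
        · rw [← Units.val_mul, ← Units.val_mul, h1]
        · rw [← Units.val_mul, ← Units.val_mul, h3, coe_neg]
      rw [e]; exact neg_mem h (R.mul_mem hc ha)
    · have e : ρ * c * ρ = -(c * b) := by
        apply Units.ext
        rw [Units.val_mul, Units.val_mul, hρv, coe_neg, Units.val_mul]
        apply conj_calc h2 _ _ _ _ (conj_mp _ _) (q_pm hAA hBB hBA)
        · rw [← Units.val_mul, ← Units.val_mul, h1, coe_neg]
        · rw [← Units.val_mul, ← Units.val_mul, h3]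
      rw [e]; exact neg_mem h (R.mul_mem hc hb)
    · have e : ρ * c * ρ = -(c * (a * b)) := by
        apply Units.ext
        rw [Units.val_mul, Units.val_mul, hρv, coe_neg, Units.val_mul, Units.val_mul]
        apply conj_calc h2 _ _ _ _ (conj_mm _ _) (q_mm hAA hBB hBA)
        · rw [← Units.val_mul, ← Units.val_mul, h1, coe_neg]
        · rw [← Units.val_mul, ← Units.val_mul, h3, coe_neg]
      rw [e]; exact neg_mem h (R.mul_mem hc (R.mul_mem ha hb))
  refine ⟨ρ, ?_, hρρ, ?_, ?_⟩
  · rw [mem_normalizer_iff']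
    intro c
    constructor
    · exact hconj c
    · intro hc'
      have := hconj _ hc'
      rw [hρinv] at this
      have e : ρ * (ρ * c * ρ) * ρ = (ρ * ρ) * c * (ρ * ρ) := by simp only [mul_assoc]
      rw [e, hρρ, one_mul, mul_one] at this
      exact this
  · rw [hρv, Matrix.trace_smul, Matrix.trace_sub, Matrix.trace_sub, Matrix.trace_sub, hta, htb,
      htab, Matrix.trace_one, Fintype.card_fin, smul_eq_mul]
    push_cast
    field_simp
    norm_num
  · intro z hz
    rw [hρv] at hz
    -- T = 1 + A + B + AB = (2 - 2z) • 1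
    have hT : (1 + (a : M4 F) + (b : M4 F) + (a : M4 F) * (b : M4 F)) = (2 - 2 * z) • (1 : M4 F) := by
      have h4 : (1 - (a : M4 F) - (b : M4 F) - (a : M4 F) * (b : M4 F)) = (2 * z) • (1 : M4 F) := by
        have := congrArg (fun M => (2 : F) • M) hz
        simp only [smul_smul] at this
        rw [mul_inv_cancel₀ h2, one_smul] at this
        exact this
      have e : (1 + (a : M4 F) + (b : M4 F) + (a : M4 F) * (b : M4 F))
          = (2 : F) • (1 : M4 F) - (1 - (a : M4 F) - (b : M4 F) - (a : M4 F) * (b : M4 F)) := by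
        rw [two_smul]; abel
      rw [e, h4, ← sub_smul]
    have h0 := t_mul hAA hBA
    rw [hT, Matrix.smul_mul, one_mul] at h0
    rcases smul_eq_zero.mp h0 with h5 | h5
    · -- T = 0, trace gives 4 = 0
      rw [h5, zero_smul] at hT
      have := congrArg Matrix.trace hT
      rw [Matrix.trace_add, Matrix.trace_add, Matrix.trace_add, hta, htb, htab, Matrix.trace_one,
        Fintype.card_fin, Matrix.trace_zero] at this
      push_cast at this
      apply h2
      have h4 : (2 : F) * 2 = 0 := by linear_combination this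
      rcases mul_self_eq_zero.mp h4 with h6
      exact h6
    · apply hans 1
      rw [one_smul]
      exact (sub_eq_zero.mp h5).symm

end Cfsg.Agent.S6000P
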