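import Mathlib
import Cfsg.Prelude.Def_Classical
import Cfsg.Prelude.Def_ClassicalGeometry
import Cfsg.Prelude.Def_Characters
import Cfsg.Prelude.Def_LieExceptional
import Cfsg.Agent.Helper8.MatBNDefs
import Cfsg.Agent.Helper8.CharComp
import Cfsg.Agent.Helper12.SpBNL
import Cfsg.Agent.Helper12.PSL2Char
import Cfsg.Agent.Helper24.DefectZero
import Cfsg.Agent.Helper24.DegreeRatio
import Cfsg.Agent.Helper24.OddIndexReal
import Cfsg.Agent.Helper24.SylowInduced
import Cfsg.Agent.Helper24.Abelian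
import Cfsg.Agent.Helper25.S2546GFINA
import Cfsg.Agent.Helper25.S2546GFINB
import Cfsg.Agent.Helper25.S2546GFINC
import Cfsg.Agent.Helper25.S2546MBFINAL

set_option autoImplicit false
open scoped Matrix

/-!
# The Steinberg character of `N / Z(N)` for a normal subgroup `N ⊇ U` of a split (B,N)-pair (helper8)

Generalisation of `Cfsg.Agent.MatBN.exists_steinberg_of_split` (Helper25.S2546GFINC, the case `N = ⊤`):
if `N` is a normal subgroup of `G` containing the unipotent radical `U` (a Sylow `p`-subgroup), the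
Steinberg character of `G` restricts irreducibly to `N` (Clifford: `χ(1) = e ϑ(1)` with
`e ∣ |G : N|` prime to `p`), it is trivial on `Z(N)` (all `G`-conjugates of `Z(N)` centralise `U`, so lie in
`N_G(U) = B`), and so gives the Steinberg character of `N / Z(N)`.
Intended use (S2547-S2549): `G = ⟨B, s_j⟩ ≤ O(Q)`, `N = Ω(Q)`.
-/

namespace Cfsg.Agent.MatBN

section Abstract

open Cfsg Cfsg.Agent.Helper24

universe u

/-- restriction to a normal subgroup containing a Sylow `p`-subgroup of an irreducible character whose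
degree is the order of that Sylow subgroup is irreducible -/
theorem isIrrCharacter_restrict_of_sylow {G : Type u} [Group G] [Fintype G] (N : Subgroup G)
    [N.Normal] (p : ℕ) [Fact p.Prime] (Q₀ : Sylow p G) (hQ₀ : (Q₀ : Subgroup G) ≤ N) {χ : G → ℂ}
    (hχ : IsIrrCharacter G χ) (hcard : χ 1 = Nat.card Q₀) :
    IsIrrCharacter N (fun n : N => χ n) := by
  classical
  let _ : Fintype N := Fintype.ofFinite _
  let _ : Fintype (IrrCharacter N) := Fintype.ofFinite _
  obtain ⟨ϑ, hϑ⟩ := exists_constituent_restrict N ⟨χ, hχ⟩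
  obtain ⟨e, he1, he2⟩ := degree_ratio_dvd_index N χ hχ (ϑ : N → ℂ) ϑ.2 hϑ
  obtain ⟨a, ha⟩ := (Q₀.2).exists_card_eq
  have hdeg := irrDeg_spec ϑ
  have hnat : p ^ a = e * irrDeg ϑ := by
    have h1 : ((p ^ a : ℕ) : ℂ) = ((e * irrDeg ϑ : ℕ) : ℂ) := by
      rw [← ha, ← hcard, he1, hdeg]; push_cast; ring
    exact_mod_cast h1
  have hidx : ¬ p ∣ N.index := by
    intro hdvd
    have h1 : (Q₀ : Subgroup G).index = (Q₀ : Subgroup G).relIndex N * N.index :=
      (Subgroup.relIndex_mul_index hQ₀).symm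
    have h2 : ¬ p ∣ (Q₀ : Subgroup G).index := Q₀.not_dvd_index
    exact h2 (h1 ▸ Dvd.dvd.mul_left hdvd _)
  have he : e = 1 := by
    have h1 : e ∣ p ^ a := ⟨irrDeg ϑ, hnat⟩
    obtain ⟨k, -, hk⟩ := (Nat.dvd_prime_pow (Fact.out : p.Prime)).mp h1
    rcases Nat.eq_zero_or_pos k with h0 | hpos
    · rw [hk, h0, pow_zero]
    · exfalso
      apply hidx
      have : p ∣ e := by rw [hk]; exact dvd_pow_self p hpos.ne'
      exact this.trans he2
  have hres : IsCharacter N (fun n : N => χ n) :=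
    Cfsg.Agent.Helper8.isCharacter_restrict N (IsIrrCharacter.isCharacter hχ)
  have h1 : (fun n : N => χ n) 1 = (ϑ : N → ℂ) 1 := by
    show χ ((1 : N) : G) = _
    rw [Subgroup.coe_one, he1, he, Nat.cast_one, one_mul]
  rw [IsCharacter.eq_irr_of_constituent_of_deg hres ϑ hϑ h1]
  exact ϑ.2

/-- a permutation character is trivial on an element all of whose conjugates lie in the point
stabiliser -/
theorem fixedPointCharacter_of_conj_mem {G : Type*} [Group G] (H : Subgroup G) {z : G}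
    (hz : ∀ y : G, y⁻¹ * z * y ∈ H) :
    fixedPointCharacter H z = fixedPointCharacter H 1 := by
  unfold fixedPointCharacter
  have e : MulAction.fixedBy (G ⧸ H) z = MulAction.fixedBy (G ⧸ H) (1 : G) := by
    ext c
    rw [MulAction.mem_fixedBy, MulAction.mem_fixedBy, one_smul]
    constructor
    · intro _; trivial
    · intro _
      induction c using QuotientGroup.induction_on with
      | H y =>
        rw [MulAction.Quotient.smul_mk, QuotientGroup.eq, smul_eq_mul]
        have h1 := H.inv_mem (hz y)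
        have h2 : (y⁻¹ * z * y)⁻¹ = (z * y)⁻¹ * y := by group
        rwa [h2] at h1
  rw [e]

variable {G : Type u} [Group G]

open Cfsg.Agent.Helper2 Cfsg.Agent.Helper14.ExchCox Cfsg.Agent.Helper12.BNSt in
/-- the Steinberg character of `N / Z(N)` for a normal subgroup `N ⊇ U` -/
theorem exists_steinberg_of_split_normal [Finite G] (p : ℕ) [Fact p.Prime] (P : Cfsg.BNPair G)
    (U : Subgroup G) (hUB : U ≤ P.B) (hUn : ∀ b ∈ P.B, ∀ u ∈ U, b * u * b⁻¹ ∈ U)
    (hBUH : ∀ b ∈ P.B, ∃ u ∈ U, ∃ h ∈ P.B ⊓ P.N, b = u * h)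
    (hUH : U ⊓ (P.B ⊓ P.N) = ⊥)
    (hUp : IsPGroup p U) (hHp : ¬ p ∣ Nat.card (P.B ⊓ P.N : Subgroup G))
    (hS : ∀ s ∈ P.S, ∃ x ∈ U, s * x * s⁻¹ ∉ P.B)
    (n₀ : G) (hn₀ : n₀ ∈ P.N)
    (hdesc : ∀ s ∈ P.S, ∃ x ∈ P.B, ∃ b₁ ∈ P.B, ∃ y : G, s * x = b₁ * y ∧ n₀ * y⁻¹ * n₀⁻¹ ∈ P.B)
    (h9 : ∀ x ∈ U, n₀⁻¹ * x * n₀ ∈ P.B → x = 1)
    (N : Subgroup G) [hNn : N.Normal] (hUN : U ≤ N) :
    ∃ χ : N ⧸ Subgroup.center N → ℂ, Cfsg.IsIrrCharacter (N ⧸ Subgroup.center N) χ ∧
      ∀ Q : Sylow p (N ⧸ Subgroup.center N), χ 1 = Nat.card Q ∧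
        ∀ x : N ⧸ Subgroup.center N, x ∈ Q → x ≠ 1 → χ x = 0 := by
  classical
  have hp : p.Prime := Fact.out
  let _ : Fintype G := Fintype.ofFinite _
  let _ : Fintype P.S := Fintype.ofFinite _
  have hN : ((P.B ⊓ P.N).subgroupOf P.N).Normal := Cfsg.Agent.Helper12.BNCnt.normalH_bn P
  have hNU := normalizer_eq_B P U hUB hUn hS
  obtain ⟨⟨Q₀, hQ₀⟩, -, -⟩ := sylow_and_center p P U hUB hUn hBUH hUH hUp hHp hNU n₀ h9
  have hkey : ∀ x ∈ P.B, ∀ k : ℕ, x ^ (p ^ k) = 1 → x ∈ U := fun x hx k hxk =>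
    GFINB.mem_of_pow_eq_one p P.B (P.B ⊓ P.N) U hUn inf_le_left hBUH hUH hHp x hx k hxk
  -- the Steinberg character of `G`
  have hirr : IsIrrCharacter G (altSum P) := isIrrCharacter_altSum P
  have hdescW : ∀ j : P.S, len (sgen P) ((QuotientGroup.mk ⟨n₀, hn₀⟩ : Wq P) * sgen P j) <
      len (sgen P) (QuotientGroup.mk ⟨n₀, hn₀⟩ : Wq P) := by
    intro j
    obtain ⟨x, hx, b₁, hb₁, y, e, hy⟩ := hdesc j.1 j.2
    exact Cfsg.Agent.Helper12.SpBN.desc_of_rank_one P hn₀ j hx hb₁ e hy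
  have hone : altSum P 1 = (Nat.card U : ℂ) := by
    have h := Cfsg.Agent.Helper12.BNCnt.altSum_one_mul P U ⊥ hUB hUn hBUH hUH bot_le inferInstance
      hn₀ hdescW
      (fun x hx h => by
        rw [Subgroup.mem_bot]
        exact h9 x hx h)
    rw [Nat.card_unique, Nat.cast_one, mul_one] at h
    exact h
  -- restriction to `N`
  have hQN : (Q₀ : Subgroup G) ≤ N := by rw [hQ₀]; exact hUN
  have hirrN : IsIrrCharacter N (fun n : N => altSum P n) :=
    isIrrCharacter_restrict_of_sylow N p Q₀ hQN hirr (by rw [hone, ← hQ₀])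
  -- the conjugates of central elements of `N` lie in `B`
  have hZB : ∀ z : N, z ∈ Subgroup.center N → ∀ y : G, y⁻¹ * (z : G) * y ∈ P.B := by
    intro z hz y
    rw [← hNU, Subgroup.mem_normalizer_iff]
    intro h
    have hzc : ∀ w : G, w ∈ N → (z : G) * w = w * z := by
      intro w hw
      have := Subgroup.mem_center_iff.mp hz ⟨w, hw⟩
      have h' := congrArg Subtype.val this
      simp only [Subgroup.coe_mul] at h'
      exact h'.symm
    have hcomm : ∀ w ∈ U, y⁻¹ * (z : G) * y * w * (y⁻¹ * (z : G) * y)⁻¹ = w := by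
      intro w hw
      have hwN : y * w * y⁻¹ ∈ N := hNn.conj_mem w (hUN hw) y
      have h1 := hzc _ hwN
      have h2 : y⁻¹ * (z : G) * y * w * (y⁻¹ * (z : G) * y)⁻¹ =
          y⁻¹ * ((z : G) * (y * w * y⁻¹)) * (z : G)⁻¹ * y := by group
      rw [h2, h1]; group
    constructor
    · intro hh
      rw [hcomm h hh]; exact hh
    · intro hh
      have h3 : h = (y⁻¹ * (z : G) * y)⁻¹ * (y⁻¹ * (z : G) * y * h * (y⁻¹ * (z : G) * y)⁻¹) *
          (y⁻¹ * (z : G) * y) := by group
      have hz' : ∀ w ∈ U, (y⁻¹ * (z : G) * y)⁻¹ * w * (y⁻¹ * (z : G) * y) = w := by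
        intro w hw
        have := hcomm w hw
        calc (y⁻¹ * (z : G) * y)⁻¹ * w * (y⁻¹ * (z : G) * y)
            = (y⁻¹ * (z : G) * y)⁻¹ * (y⁻¹ * (z : G) * y * w * (y⁻¹ * (z : G) * y)⁻¹) *
              (y⁻¹ * (z : G) * y) := by rw [this]
          _ = w := by group
      rw [h3, hz' _ hh]; exact hh
  have hcentral : ∀ z ∈ Subgroup.center N, (fun n : N => altSum P n) z =
      (fun n : N => altSum P n) 1 := by
    intro z hz
    show altSum P (z : G) = altSum P ((1 : N) : G)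
    rw [Subgroup.coe_one]
    unfold altSum
    apply Finset.sum_congr rfl
    intro K _
    have hpar : ∀ y : G, y⁻¹ * (z : G) * y ∈ P.parabolic (Subtype.val '' (K : Set P.S)) :=
      fun y => (le_sup_left : P.B ≤ P.B ⊔ _) (hZB z hz y)
    rw [fixedPointCharacter_of_conj_mem _ hpar]
  -- `Z(N)` is a `p'`-group
  have hZp : ¬ p ∣ Nat.card (Subgroup.center N) := by
    intro hdvd
    obtain ⟨z, hz⟩ := exists_prime_orderOf_dvd_card' (G := Subgroup.center N) p hdvd
    have hz1 : ((z : N) : G) ^ (p ^ 1) = 1 := by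
      rw [pow_one, ← hz]
      have h0 := pow_orderOf_eq_one z
      have h' := congrArg (fun w : Subgroup.center N => ((w : N) : G)) h0
      simp only [Subgroup.coe_pow, Subgroup.coe_one] at h'
      exact h'
    have hzB : ((z : N) : G) ∈ P.B := by
      have := hZB (z : N) z.2 1
      simpa using this
    have hzU : ((z : N) : G) ∈ U := hkey _ hzB 1 hz1
    have hz1' : ((z : N) : G) = 1 := h9 _ hzU (hZB (z : N) z.2 n₀)
    have : z = 1 := Subtype.ext (Subtype.ext hz1')
    rw [this, orderOf_one] at hz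
    exact hp.one_lt.ne' hz.symm
  obtain ⟨ψ, hψ⟩ := Cfsg.Agent.Helper12.exists_irr_quotient' (Subgroup.center N)
    (⟨_, hirrN⟩ : IrrCharacter N) hcentral
  refine ⟨ψ.1, ψ.2, ?_⟩
  intro Q
  have hdeg : ψ.1 1 = ((Nat.card U : ℕ) : ℂ) := by
    have h1 := hψ 1
    rw [map_one] at h1
    rw [h1]
    show altSum P ((1 : N) : G) = _
    rw [Subgroup.coe_one]
    exact hone
  have hU : Nat.card U = p ^ (Nat.card G).factorization p := by
    rw [← hQ₀]
    exact Sylow.card_eq_multiplicity Q₀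
  -- the `p`-parts of `|G|`, `|N|`, `|N / Z(N)|` agree
  have hfacN : (Nat.card G).factorization p = (Nat.card N).factorization p := by
    apply le_antisymm
    · have h1 : Nat.card U ∣ Nat.card N := Subgroup.card_dvd_of_le hUN
      rw [hU] at h1
      exact (hp.pow_dvd_iff_le_factorization Nat.card_pos.ne').mp h1
    · exact (Nat.factorization_le_iff_dvd Nat.card_pos.ne' Nat.card_pos.ne').mpr
        (Subgroup.card_subgroup_dvd_card N) p
  have hfac : (Nat.card N).factorization p =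
      (Nat.card (N ⧸ Subgroup.center N)).factorization p := by
    rw [Subgroup.card_eq_card_quotient_mul_card_subgroup (Subgroup.center N),
      Nat.factorization_mul Nat.card_pos.ne' Nat.card_pos.ne', Finsupp.add_apply,
      Nat.factorization_eq_zero_of_not_dvd hZp, add_zero]
  have hcard : Nat.card Q = Nat.card U := by
    rw [hU, hfacN, hfac]
    exact Sylow.card_eq_multiplicity Q
  refine ⟨by rw [hdeg, hcard], ?_⟩
  intro x hx hx1
  have : Fintype (N ⧸ Subgroup.center N) := Fintype.ofFinite _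
  have : Fintype (IrrCharacter (N ⧸ Subgroup.center N)) := Fintype.ofFinite _
  apply Cfsg.Agent.Helper24.irr_eq_zero_of_defect_zero ψ p
    ((Nat.card (N ⧸ Subgroup.center N)).factorization p)
    (Nat.card U) hp (Nat.ordProj_dvd _ _)
    (Nat.pow_succ_factorization_not_dvd Nat.card_pos.ne' hp) hdeg
    (by rw [hU, hfacN, hfac]) x
  obtain ⟨k, hk⟩ := (IsPGroup.iff_orderOf.mp Q.2) ⟨x, hx⟩
  rw [Subgroup.orderOf_mk] at hk
  rw [hk]
  apply dvd_pow_self
  rintro rfl
  rw [pow_zero, orderOf_eq_one_iff] at hk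
  exact hx1 hk

end Abstract

variable {K : Type*} [Field K] {n : ℕ}

/-- the Steinberg character of `N / Z(N)` for a normal subgroup `N` containing the unipotent radical
of a `Data` (the case `N = ⊤` is `Data.exists_steinberg`, Helper25.S2546MBFINAL) -/
theorem Data.exists_steinberg_normal {G : Type*} [Group G] {m : ℕ} (D : Data G K n m) [Finite K]
    (p : ℕ) [Fact p.Prime] [CharP K p] (N : Subgroup G) [N.Normal] (hUN : D.uni ≤ N) :
    ∃ χ : N ⧸ Subgroup.center N → ℂ, Cfsg.IsIrrCharacter (N ⧸ Subgroup.center N) χ ∧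
      ∀ Q : Sylow p (N ⧸ Subgroup.center N), χ 1 = Nat.card Q ∧
        ∀ x : N ⧸ Subgroup.center N, x ∈ Q → x ≠ 1 → χ x = 0 := by
  have : Finite G := D.finite
  obtain ⟨P, hB, hN, hS⟩ := D.exists_bnPair
  have hH : P.B ⊓ P.N = D.torus := by rw [hB, hN]; exact D.borel_inf_Nsub
  apply exists_steinberg_of_split_normal p P D.uni
  · rw [hB]; exact D.uni_le_borel
  · intro b hb u hu
    rw [hB] at hb
    exact D.conj_uni_mem hb hu
  · intro b hb
    rw [hB] at hb
    rw [hH]
    exact D.borel_eq_mul hb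
  · rw [hH]; exact D.uni_inf_torus
  · exact D.isPGroup_uni p
  · rw [hH]; exact D.not_dvd_card_torus p
  · intro s hs
    rw [hS] at hs
    obtain ⟨j, rfl⟩ := hs
    rw [hB]
    exact D.exists_conj_not_mem j
  · show D.n₀ ∈ P.N
    rw [hN]; exact D.n₀_mem_Nsub
  · intro s hs
    rw [hS] at hs
    obtain ⟨j, rfl⟩ := hs
    rw [hB]
    exact D.n₀_desc j
  · intro x hx h
    rw [hB] at h
    exact D.n₀_opp hx h
  · exact hUN

end Cfsg.Agent.MatBN
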