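import Cfsg.Agent.Helper21.S2286DEFS

/-! S2286 piece BRUHAT (driver helper21): in a group generated by `φ 1`, `h`, `t` with the torus, Weyl and
centre relations every element has one of the two Bruhat forms. -/

namespace Cfsg.Agent.Helper21.S2286

open Polynomial Multiplicative

namespace BRUHAT

variable {F : Type*} [Field F] {P : Type*} [Group P]

/-- the two Bruhat forms -/
def S (φ : Multiplicative F →* P) (h t : P) (g : P) : Prop :=
  (∃ (a : F) (j : ℤ), g = φ (ofAdd a) * h ^ j) ∨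
    (∃ (a : F) (j : ℤ) (b : F), g = φ (ofAdd a) * h ^ j * t * φ (ofAdd b))

theorem x_add (φ : Multiplicative F →* P) (a b : F) :
    φ (ofAdd a) * φ (ofAdd b) = φ (ofAdd (a + b)) := by
  rw [← map_mul, ← ofAdd_add]

theorem x_zero (φ : Multiplicative F →* P) : φ (ofAdd (0 : F)) = 1 := by
  rw [ofAdd_zero, map_one]

theorem conj_z (φ : Multiplicative F →* P) (h : P) (lam : F) (hlam : lam ≠ 0)
    (hconj : ∀ a : F, h * φ (ofAdd a) * h⁻¹ = φ (ofAdd (lam * a))) (j : ℤ) (a : F) :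
    h ^ j * φ (ofAdd a) = φ (ofAdd (lam ^ j * a)) * h ^ j := by
  induction j using Int.induction_on generalizing a with
  | zero => simp
  | succ j ih =>
    have h1 : h * φ (ofAdd a) = φ (ofAdd (lam * a)) * h := by
      rw [← hconj]
      group
    rw [zpow_add_one, zpow_add_one₀ hlam, mul_assoc, mul_assoc, h1, ← mul_assoc, ih, mul_assoc]
  | pred j ih =>
    have h1 : h⁻¹ * φ (ofAdd a) = φ (ofAdd (lam⁻¹ * a)) * h⁻¹ := by
      have := hconj (lam⁻¹ * a)
      rw [← mul_assoc, mul_inv_cancel₀ hlam, one_mul] at this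
      rw [← this]
      group
    rw [zpow_sub_one, zpow_sub_one₀ hlam, mul_assoc, h1, ← mul_assoc, ih, mul_assoc, mul_assoc]

theorem t_h_z (h t : P) (hth : t * h * t⁻¹ = h⁻¹) (j : ℤ) : t * h ^ j = h ^ (-j) * t := by
  have h1 : t * h ^ j * t⁻¹ = h ^ (-j) := by
    rw [← conj_zpow, hth, inv_zpow, zpow_neg]
  rw [← h1]
  group

theorem S_mul_x {φ : Multiplicative F →* P} {h t : P} {lam : F} (hlam : lam ≠ 0)
    (hconj : ∀ a : F, h * φ (ofAdd a) * h⁻¹ = φ (ofAdd (lam * a))) {g : P} (hg : S φ h t g)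
    (c : F) : S φ h t (g * φ (ofAdd c)) := by
  rcases hg with ⟨a, j, rfl⟩ | ⟨a, j, b, rfl⟩
  · left
    refine ⟨a + lam ^ j * c, j, ?_⟩
    rw [mul_assoc, conj_z φ h lam hlam hconj, ← mul_assoc, x_add]
  · right
    refine ⟨a, j, b + c, ?_⟩
    rw [mul_assoc, x_add]

theorem S_mul_h {φ : Multiplicative F →* P} {h t : P} {lam : F} (hlam : lam ≠ 0)
    (hconj : ∀ a : F, h * φ (ofAdd a) * h⁻¹ = φ (ofAdd (lam * a)))
    (hth : t * h * t⁻¹ = h⁻¹) {g : P} (hg : S φ h t g)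
    (e : ℤ) : S φ h t (g * h ^ e) := by
  rcases hg with ⟨a, j, rfl⟩ | ⟨a, j, b, rfl⟩
  · left
    refine ⟨a, j + e, ?_⟩
    rw [mul_assoc, ← zpow_add]
  · right
    refine ⟨a, j - e, lam ^ (-e) * b, ?_⟩
    have h1 : φ (ofAdd b) * h ^ e = h ^ e * φ (ofAdd (lam ^ (-e) * b)) := by
      rw [conj_z φ h lam hlam hconj, ← mul_assoc, ← zpow_add₀ hlam, add_neg_cancel, zpow_zero, one_mul]
    rw [mul_assoc, h1, ← mul_assoc, mul_assoc (φ (ofAdd a) * h ^ j), t_h_z h t hth, ← mul_assoc,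
      mul_assoc (φ (ofAdd a)), ← zpow_add, sub_eq_add_neg]

theorem S_mul_t {φ : Multiplicative F →* P} {h t : P} {lam : F} (hlam : lam ≠ 0)
    (hconj : ∀ a : F, h * φ (ofAdd a) * h⁻¹ = φ (ofAdd (lam * a)))
    (hw : ∀ a : F, a ≠ 0 → ∃ (a' : F) (j : ℤ) (b' : F),
      t * φ (ofAdd a) * t⁻¹ = φ (ofAdd a') * h ^ j * t * φ (ofAdd b'))
    (M : ℤ) (hz : t * t = h ^ M) (hzc : ∀ a : F, Commute (h ^ M) (φ (ofAdd a)))
    {g : P} (hg : S φ h t g) : S φ h t (g * t) := by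
  rcases hg with ⟨a, j, rfl⟩ | ⟨a, j, b, rfl⟩
  · right
    refine ⟨a, j, 0, ?_⟩
    rw [x_zero, mul_one]
  · by_cases hb : b = 0
    · left
      refine ⟨a, j + M, ?_⟩
      rw [hb, x_zero, mul_one, mul_assoc, hz, mul_assoc, ← zpow_add]
    · right
      obtain ⟨a', j', b', hw'⟩ := hw b hb
      have htM : t * h ^ M = h ^ M * t := by rw [← hz, mul_assoc]
      have h1 : t * φ (ofAdd b) * t = φ (ofAdd a') * h ^ (j' + M) * t * φ (ofAdd b') := by
        have : t * φ (ofAdd b) * t = (t * φ (ofAdd b) * t⁻¹) * (t * t) := by group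
        rw [this, hw', hz, mul_assoc, ← (hzc b').eq, ← mul_assoc, mul_assoc (φ (ofAdd a') * h ^ j'),
          htM, ← mul_assoc, mul_assoc (φ (ofAdd a')), ← zpow_add]
      refine ⟨a + lam ^ j * a', j + (j' + M), b', ?_⟩
      have : φ (ofAdd a) * h ^ j * t * φ (ofAdd b) * t =
          φ (ofAdd a) * h ^ j * (t * φ (ofAdd b) * t) := by group
      rw [this, h1]
      have h2 : φ (ofAdd a) * h ^ j * (φ (ofAdd a') * h ^ (j' + M) * t * φ (ofAdd b')) =
          φ (ofAdd a) * (h ^ j * φ (ofAdd a')) * h ^ (j' + M) * t * φ (ofAdd b') := by group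
      rw [h2, conj_z φ h lam hlam hconj, ← mul_assoc, x_add, mul_assoc (φ (ofAdd (a + lam ^ j * a'))),
        ← zpow_add]

end BRUHAT

open BRUHAT

/-! ## piece BRUHAT -/
theorem bruhat {F : Type*} [Field F] {P : Type*} [Group P] (φ : Multiplicative F →* P) (h t : P)
    (lam : F) (hlam : lam ≠ 0)
    (hconj : ∀ a : F, h * φ (ofAdd a) * h⁻¹ = φ (ofAdd (lam * a)))
    (hth : t * h * t⁻¹ = h⁻¹)
    (hw : ∀ a : F, a ≠ 0 → ∃ (a' : F) (j : ℤ) (b' : F),
      t * φ (ofAdd a) * t⁻¹ = φ (ofAdd a') * h ^ j * t * φ (ofAdd b'))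
    (M : ℤ) (hz : t * t = h ^ M) (hzc : ∀ a : F, Commute (h ^ M) (φ (ofAdd a)))
    (hgen : Subgroup.closure ({φ (ofAdd 1), h, t} : Set P) = ⊤) (g : P) :
    (∃ (a : F) (j : ℤ), g = φ (ofAdd a) * h ^ j) ∨
    (∃ (a : F) (j : ℤ) (b : F), g = φ (ofAdd a) * h ^ j * t * φ (ofAdd b)) := by
  have hg : g ∈ Subgroup.closure ({φ (ofAdd 1), h, t} : Set P) := by rw [hgen]; trivial
  change S φ h t g
  induction hg using Subgroup.closure_induction_right with
  | one =>
    left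
    exact ⟨0, 0, by rw [x_zero, zpow_zero, mul_one]⟩
  | mul_right x hx y hy ih =>
    rcases hy with rfl | rfl | rfl
    · exact S_mul_x hlam hconj ih 1
    · have := S_mul_h hlam hconj hth ih 1
      rwa [zpow_one] at this
    · exact S_mul_t hlam hconj hw M hz hzc ih
  | mul_inv_cancel x hx y hy ih =>
    rcases hy with rfl | rfl | rfl
    · have := S_mul_x hlam hconj ih (-1)
      rwa [ofAdd_neg, map_inv] at this
    · have := S_mul_h hlam hconj hth ih (-1)
      rwa [zpow_neg_one] at this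
    · have h1 := S_mul_h hlam hconj hth (S_mul_t hlam hconj hw M hz hzc ih) (-M)
      have h2 : x * y * h ^ (-M) = x * y⁻¹ := by
        rw [zpow_neg, ← hz]
        group
      rwa [h2] at h1

end Cfsg.Agent.Helper21.S2286
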