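import Cfsg.Agent.Helper21.S2287DEFS
import Cfsg.Agent.Helper21.S2286FIN
import Cfsg.Agent.Helper19.S2287TORUS
import Cfsg.Agent.Helper19.S2287WEYL3
import Cfsg.Agent.Helper25.S2287ROOTS
import Cfsg.Agent.Helper3.S2287NACT

/-! S2287 piece NSTR (driver helper21): the monomial set `T c^m t^e` is a subgroup and permutes the root
groups. -/

set_option linter.unusedVariables false

namespace Cfsg.Agent.Helper21.S2287

open Multiplicative Cfsg.Agent.Helper21.S2286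

variable {F : Type*} [Field F] {P : Type*} [Group P] (D : A2Data F P)

namespace A2Data

namespace NSTR

variable {F : Type*} [Field F] {P : Type*} [Group P] (D : A2Data F P)

/-- the torus as a set -/
def IsT (g : P) : Prop := ∃ i j : ℤ, g = D.tor i j

theorem isT_mul {g g' : P} (hg : IsT D g) (hg' : IsT D g') : IsT D (g * g') := by
  obtain ⟨i, j, rfl⟩ := hg
  obtain ⟨i', j', rfl⟩ := hg'
  exact ⟨_, _, D.tor_mul i j i' j'⟩

theorem isT_inv {g : P} (hg : IsT D g) : IsT D g⁻¹ := by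
  obtain ⟨i, j, rfl⟩ := hg
  exact ⟨_, _, D.tor_inv i j⟩

theorem isT_one : IsT D (1 : P) := ⟨0, 0, D.tor_zero.symm⟩

theorem isT_conj_c {g : P} (hg : IsT D g) : IsT D (D.c * g * D.c⁻¹) := by
  obtain ⟨i, j, rfl⟩ := hg
  exact ⟨_, _, D.c_tor i j⟩

theorem isT_conj_t {g : P} (hg : IsT D g) : IsT D (D.t * g * D.t⁻¹) := by
  obtain ⟨i, j, rfl⟩ := hg
  exact ⟨_, _, D.t_tor i j⟩

theorem isT_conj_c_pow {g : P} (hg : IsT D g) (m : ℕ) : IsT D (D.c ^ m * g * (D.c ^ m)⁻¹) := by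
  induction m with
  | zero => simpa using hg
  | succ m ih =>
    have : D.c ^ (m + 1) * g * (D.c ^ (m + 1))⁻¹ = D.c * (D.c ^ m * g * (D.c ^ m)⁻¹) * D.c⁻¹ := by
      rw [pow_succ']; group
    rw [this]
    exact isT_conj_c D ih

/-- the reduced monomial set: `T c^m t^e` with `e ≤ 1` -/
def IsN (g : P) : Prop := ∃ τ : P, IsT D τ ∧ ∃ m : ℕ, g = τ * D.c ^ m ∨ g = τ * D.c ^ m * D.t

theorem isN_one : IsN D (1 : P) := ⟨1, isT_one D, 0, Or.inl (by simp)⟩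

theorem isN_mul_tor {g : P} (hg : IsN D g) {τ' : P} (hτ' : IsT D τ') : IsN D (g * τ') := by
  obtain ⟨τ, hτ, m, rfl | rfl⟩ := hg
  · refine ⟨τ * (D.c ^ m * τ' * (D.c ^ m)⁻¹), isT_mul D hτ (isT_conj_c_pow D hτ' m), m, Or.inl ?_⟩
    group
  · refine ⟨τ * (D.c ^ m * (D.t * τ' * D.t⁻¹) * (D.c ^ m)⁻¹),
      isT_mul D hτ (isT_conj_c_pow D (isT_conj_t D hτ') m), m, Or.inr ?_⟩
    group

theorem isN_mul_t (M : ℤ) (hM : D.ω ^ M = -1) {g : P} (hg : IsN D g) : IsN D (g * D.t) := by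
  obtain ⟨τ, hτ, m, rfl | rfl⟩ := hg
  · exact ⟨τ, hτ, m, Or.inr rfl⟩
  · have h := D.t_sq M hM
    have : τ * D.c ^ m * D.t * D.t = τ * D.c ^ m * (D.t * D.t) := by group
    rw [this, h]
    have := isN_mul_tor D (g := τ * D.c ^ m) ⟨τ, hτ, m, Or.inl rfl⟩ (τ' := D.tor (-M) 0) ⟨_, _, rfl⟩
    exact this

/-- `t * c = tor (-M) 0 * c² * t` -/
theorem t_mul_c (M : ℤ) (hM : D.ω ^ M = -1) : D.t * D.c = D.tor (-M) 0 * D.c ^ 2 * D.t := by
  have h := D.t_sq M hM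
  have htc := D.tc
  have hc3 := D.c3
  -- `t⁻¹ c = c⁻¹ t`
  have h1 : D.t⁻¹ * D.c = D.c⁻¹ * D.t := by
    have h0 : D.c⁻¹ * D.t * D.c⁻¹ * D.t = 1 := by
      have : D.c⁻¹ * D.t * D.c⁻¹ * D.t = D.t⁻¹ * (D.t * D.c⁻¹ * D.t * D.c⁻¹) * D.t := by group
      rw [this, htc]; group
    have : D.t⁻¹ = D.c⁻¹ * D.t * D.c⁻¹ := by
      rw [eq_comm, ← mul_eq_one_iff_eq_inv]
      exact h0
    rw [this]; group
  have hc2 : D.c ^ 2 = D.c⁻¹ := by
    rw [eq_comm, inv_eq_iff_mul_eq_one, pow_two, ← hc3]; group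
  calc D.t * D.c = (D.t * D.t) * (D.t⁻¹ * D.c) := by group
    _ = D.tor (-M) 0 * D.c ^ 2 * D.t := by rw [h, h1, hc2]; group

theorem isN_mul_c (M : ℤ) (hM : D.ω ^ M = -1) {g : P} (hg : IsN D g) : IsN D (g * D.c) := by
  obtain ⟨τ, hτ, m, rfl | rfl⟩ := hg
  · exact ⟨τ, hτ, m + 1, Or.inl (by rw [pow_succ]; group)⟩
  · refine ⟨τ * (D.c ^ m * D.tor (-M) 0 * (D.c ^ m)⁻¹),
      isT_mul D hτ (isT_conj_c_pow D ⟨_, _, rfl⟩ m), m + 2, Or.inr ?_⟩
    have : τ * D.c ^ m * D.t * D.c = τ * D.c ^ m * (D.t * D.c) := by group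
    rw [this, t_mul_c D M hM, pow_add]
    group

theorem isN_mul_c_pow (M : ℤ) (hM : D.ω ^ M = -1) {g : P} (hg : IsN D g) (m : ℕ) :
    IsN D (g * D.c ^ m) := by
  induction m with
  | zero => simpa using hg
  | succ m ih =>
    rw [pow_succ, ← mul_assoc]
    exact isN_mul_c D M hM ih

theorem isN_mul_t_pow (M : ℤ) (hM : D.ω ^ M = -1) {g : P} (hg : IsN D g) (e : ℕ) :
    IsN D (g * D.t ^ e) := by
  induction e with
  | zero => simpa using hg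
  | succ e ih =>
    rw [pow_succ, ← mul_assoc]
    exact isN_mul_t D M hM ih

theorem isN_of_normSet (M : ℤ) (hM : D.ω ^ M = -1) {g : P} (hg : g ∈ D.normSet) : IsN D g := by
  obtain ⟨i, j, m, e, rfl⟩ := hg
  exact isN_mul_t_pow D M hM (isN_mul_c_pow D M hM
    (by simpa using isN_mul_tor D (isN_one D) (τ' := D.tor i j) ⟨i, j, rfl⟩) m) e

theorem normSet_of_isN {g : P} (hg : IsN D g) : g ∈ D.normSet := by
  obtain ⟨τ, ⟨i, j, rfl⟩, m, rfl | rfl⟩ := hg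
  · exact ⟨i, j, m, 0, by simp⟩
  · exact ⟨i, j, m, 1, by simp⟩

theorem isN_mul (M : ℤ) (hM : D.ω ^ M = -1) {g g' : P} (hg : IsN D g) (hg' : g' ∈ D.normSet) :
    IsN D (g * g') := by
  obtain ⟨i, j, m, e, rfl⟩ := hg'
  have := isN_mul_t_pow D M hM (isN_mul_c_pow D M hM
    (isN_mul_tor D hg (τ' := D.tor i j) ⟨i, j, rfl⟩) m) e
  have e1 : g * (D.tor i j * D.c ^ m * D.t ^ e) = g * D.tor i j * D.c ^ m * D.t ^ e := by group
  rw [e1]
  exact this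

/-- `n` permutes the root groups -/
def PermP (n : P) : Prop :=
  ∃ σ : Equiv.Perm (Fin 3), ∀ (k l : Fin 3) (a : F), ∃ a' : F,
    n * D.xr k l a * n⁻¹ = D.xr (σ k) (σ l) a'

theorem permP_one : PermP D (1 : P) := ⟨1, fun k l a => ⟨a, by simp⟩⟩

theorem permP_mul {n n' : P} (h : PermP D n) (h' : PermP D n') : PermP D (n * n') := by
  obtain ⟨σ, hσ⟩ := h
  obtain ⟨σ', hσ'⟩ := h'
  refine ⟨σ * σ', fun k l a => ?_⟩
  obtain ⟨a', ha'⟩ := hσ' k l a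
  obtain ⟨a'', ha''⟩ := hσ (σ' k) (σ' l) a'
  refine ⟨a'', ?_⟩
  rw [Equiv.Perm.mul_apply, Equiv.Perm.mul_apply, ← ha'', ← ha']
  group

theorem permP_pow {n : P} (h : PermP D n) (m : ℕ) : PermP D (n ^ m) := by
  induction m with
  | zero => simpa using permP_one D
  | succ m ih =>
    rw [pow_succ]
    exact permP_mul D ih h

theorem permP_tor (i j : ℤ) : PermP D (D.tor i j) :=
  ⟨1, fun k l a => ⟨_, D.tor_xr i j k l a⟩⟩

theorem permP_c : PermP D D.c :=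
  ⟨⟨fun k => k + 1, fun k => k - 1, fun k => by simp, fun k => by simp⟩,
    fun k l a => ⟨a, D.c_xr k l a⟩⟩

theorem permP_t : PermP D D.t :=
  ⟨Equiv.swap 0 1, fun k l a => D.t_xr k l a⟩

end NSTR

open NSTR

/-! ## piece NSTR -/
theorem norm_one : (1 : P) ∈ D.normSet := ⟨0, 0, 0, 0, by simp [D.tor_zero]⟩

theorem norm_mul (M : ℤ) (hM : D.ω ^ M = -1) {g g' : P} (hg : g ∈ D.normSet)
    (hg' : g' ∈ D.normSet) : g * g' ∈ D.normSet :=
  normSet_of_isN D (isN_mul D M hM (isN_of_normSet D M hM hg) hg')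

theorem tor_mem_norm (i j : ℤ) : D.tor i j ∈ D.normSet := ⟨i, j, 0, 0, by simp⟩

theorem t_mem_norm : D.t ∈ D.normSet := ⟨0, 0, 0, 1, by simp [D.tor_zero]⟩

theorem c_mem_norm : D.c ∈ D.normSet := ⟨0, 0, 1, 0, by simp [D.tor_zero]⟩

theorem norm_inv (M : ℤ) (hM : D.ω ^ M = -1) {g : P} (hg : g ∈ D.normSet) :
    g⁻¹ ∈ D.normSet := by
  obtain ⟨i, j, m, e, rfl⟩ := hg
  -- `t⁻¹ = t * tor M 0`, `c⁻¹ = c²`
  have ht : D.t⁻¹ = D.t * D.tor M 0 := by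
    have h := D.t_sq M hM
    have h2 : D.tor (-M) 0 * D.tor M 0 = 1 := by
      rw [D.tor_mul, neg_add_cancel, add_zero, D.tor_zero]
    rw [inv_eq_iff_mul_eq_one, ← mul_assoc, h, h2]
  have hc : D.c⁻¹ = D.c ^ 2 := by
    rw [inv_eq_iff_mul_eq_one, pow_two, ← mul_assoc]; exact D.c3
  have htinv : D.t⁻¹ ∈ D.normSet := by
    rw [ht]
    exact norm_mul D M hM (t_mem_norm D) (tor_mem_norm D M 0)
  have hcinv : D.c⁻¹ ∈ D.normSet := by
    rw [hc, pow_two]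
    exact norm_mul D M hM (c_mem_norm D) (c_mem_norm D)
  have hpow : ∀ (x : P), x ∈ D.normSet → ∀ k : ℕ, x ^ k ∈ D.normSet := by
    intro x hx k
    induction k with
    | zero => rw [pow_zero]; exact norm_one D
    | succ k ih => rw [pow_succ]; exact norm_mul D M hM ih hx
  rw [mul_inv_rev, mul_inv_rev, ← inv_pow, ← inv_pow, D.tor_inv]
  exact norm_mul D M hM (hpow _ htinv e) (norm_mul D M hM (hpow _ hcinv m) (tor_mem_norm D _ _))

theorem norm_perm {n : P} (hn : n ∈ D.normSet) :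
    ∃ σ : Equiv.Perm (Fin 3), ∀ (k l : Fin 3) (a : F), ∃ a' : F,
      n * D.xr k l a * n⁻¹ = D.xr (σ k) (σ l) a' := by
  obtain ⟨i, j, m, e, rfl⟩ := hn
  exact permP_mul D (permP_mul D (permP_tor D i j) (permP_pow D (permP_c D) m))
    (permP_pow D (permP_t D) e)

end A2Data

end Cfsg.Agent.Helper21.S2287
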