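import Cfsg.Agent.Helper21.S2286DEFS

/-! S2286 piece TRI (driver helper21): the abstract triangle lemma (Baumslag trick). -/

namespace Cfsg.Agent.Helper21.S2286

open Polynomial Multiplicative

variable {G : Type*} [Group G]

namespace TRI

/-- the set of differences `d` such that `C n` and `C (n + d)` always commute -/
def D (C : ℤ → G) (d : ℤ) : Prop := ∀ n, Commute (C n) (C (n + d))

theorem D_neg {C : ℤ → G} {d : ℤ} (hd : D C d) : D C (-d) := by
  intro n
  have h := hd (n + -d)
  rw [show n + -d + d = n by ring] at h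
  exact h.symm

theorem D_zero (C : ℤ → G) : D C 0 := by
  intro n
  rw [add_zero]

theorem ruleA {C : ℤ → G} {s K : ℤ} (hrel : ∀ n, C n * C (n + s) = C (n + K)) {j : ℤ}
    (h1 : D C j) (h2 : D C (j + s)) : D C (j + K) := by
  intro n
  have h := hrel (n + j)
  rw [show n + (j + K) = n + j + K by ring, ← h]
  refine (h1 n).mul_right ?_
  have h3 := h2 n
  rwa [show n + (j + s) = n + j + s by ring] at h3

theorem ruleB {C : ℤ → G} {s K : ℤ} (hrel : ∀ n, C n * C (n + s) = C (n + K)) {j : ℤ}
    (h1 : D C (j + s)) (h2 : D C (j + K)) : D C j := by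
  intro n
  have h := hrel (n + j)
  have e : C (n + j) = C (n + j + K) * (C (n + j + s))⁻¹ := by rw [← h]; group
  rw [e]
  have h3 := h1 n
  have h4 := h2 n
  rw [show n + (j + s) = n + j + s by ring] at h3
  rw [show n + (j + K) = n + j + K by ring] at h4
  exact h4.mul_right h3.inv_right

theorem ruleC {C : ℤ → G} {s K : ℤ} (hrel : ∀ n, C n * C (n + s) = C (n + K)) {j : ℤ}
    (h1 : D C j) (h2 : D C (j + K)) : D C (j + s) := by
  intro n
  have h := hrel (n + j)
  have e : C (n + j + s) = (C (n + j))⁻¹ * C (n + j + K) := by rw [← h]; group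
  rw [show n + (j + s) = n + j + s by ring, e]
  have h4 := h2 n
  rw [show n + (j + K) = n + j + K by ring] at h4
  exact (h1 n).inv_right.mul_right h4

theorem D_of_eq {C : ℤ → G} {d d' : ℤ} (h : d = d') (hd : D C d) : D C d' := h ▸ hd

end TRI

open TRI

/-! ## piece TRI -/
theorem tri (C : ℤ → G) (s K : ℤ) (hrel : ∀ n, C n * C (n + s) = C (n + K))
    (hseed : ∀ n, Commute (C n) (C (n + s))) :
    ∀ n x y : ℤ, Commute (C n) (C (n + s * x + K * y)) := by
  have hs : D C s := hseed
  have hK : D C K := by
    have := ruleA hrel (D_zero C) (D_of_eq (zero_add s).symm hs)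
    exact D_of_eq (zero_add K) this
  -- step 1
  have step1 : ∀ x : ℕ, D C (s * x) ∧ D C (s * x + -K) := by
    intro x
    induction x with
    | zero =>
      refine ⟨D_of_eq (by simp) (D_zero C), D_of_eq (by simp) (D_neg hK)⟩
    | succ x ih =>
      obtain ⟨h1, h2⟩ := ih
      have h3 : D C (s * ((x + 1 : ℕ) : ℤ) + -K) := by
        have := ruleC hrel h2 (D_of_eq (by ring) h1)
        exact D_of_eq (by push_cast; ring) this
      refine ⟨?_, h3⟩
      have h4 : D C (-(s * ((x + 1 : ℕ) : ℤ))) := by
        refine ruleB hrel (D_of_eq (by push_cast; ring) (D_neg h1))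
          (D_of_eq (by push_cast; ring) (D_neg h3))
      exact D_of_eq (by ring) (D_neg h4)
  -- step 2
  have step2 : ∀ x : ℤ, D C (s * x) := by
    intro x
    obtain ⟨m, rfl | rfl⟩ := Int.eq_nat_or_neg x
    · exact (step1 m).1
    · exact D_of_eq (by ring) (D_neg (step1 m).1)
  -- step 3
  have step3 : ∀ (y : ℕ) (x : ℤ), D C (s * x + K * y) := by
    intro y
    induction y with
    | zero =>
      intro x
      exact D_of_eq (by simp) (step2 x)
    | succ y ih =>
      intro x
      have := ruleA hrel (ih x) (D_of_eq (by ring) (ih (x + 1)))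
      exact D_of_eq (by push_cast; ring) this
  intro n x y
  have hfin : D C (s * x + K * y) := by
    obtain ⟨m, rfl | rfl⟩ := Int.eq_nat_or_neg y
    · exact step3 m x
    · exact D_of_eq (by ring) (D_neg (step3 m (-x)))
  have := hfin n
  rwa [show n + (s * x + K * y) = n + s * x + K * y by ring] at this

end Cfsg.Agent.Helper21.S2286
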