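import Cfsg.Agent.Helper21.S2286DEFS
import Cfsg.Agent.Helper8.S2286TRI

/-! S2286 piece DARG (driver helper21): in the four cases of the presentation all conjugates
`cj h u i = h^i u h^-i` commute. -/

namespace Cfsg.Agent.Helper21.S2286

open Polynomial Multiplicative

variable {G : Type*} [Group G]

namespace DARG

theorem cj_mul (h a b : G) (n : ℤ) : cj h (a * b) n = cj h a n * cj h b n := by
  simp only [cj]; group

theorem cj_commute (h : G) {a b : G} (hab : Commute a b) (n : ℤ) :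
    Commute (cj h a n) (cj h b n) := by
  unfold Commute SemiconjBy
  rw [← cj_mul, ← cj_mul, hab.eq]

theorem cj_pow (h a : G) (n : ℤ) (m : ℕ) : cj h a n ^ m = cj h (a ^ m) n := by
  induction m with
  | zero => simp [cj]
  | succ m ih => rw [pow_succ, pow_succ, ih, cj_mul]

theorem cj_one' (h : G) (n : ℤ) : cj h (1 : G) n = 1 := by simp [cj]

/-- two involutions whose product is an involution commute -/
theorem commute_of_sq {a b : G} (ha : a ^ 2 = 1) (hb : b ^ 2 = 1) (hab : (a * b) ^ 2 = 1) :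
    Commute a b := by
  have ha' : a⁻¹ = a := by
    rw [inv_eq_iff_mul_eq_one, ← pow_two, ha]
  have hb' : b⁻¹ = b := by
    rw [inv_eq_iff_mul_eq_one, ← pow_two, hb]
  have h1 : (a * b)⁻¹ = a * b := by
    rw [inv_eq_iff_mul_eq_one, ← pow_two, hab]
  rw [mul_inv_rev, ha', hb'] at h1
  exact h1.symm

end DARG

open DARG

/-! ## piece DARG -/
theorem comm_S (h u : G) (k : ℤ) (h01 : Commute u (cj h u 1)) (hk : cj h u k = u * cj h u 1) :
    ∀ i j : ℤ, Commute (cj h u i) (cj h u j) := by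
  have hrel : ∀ n : ℤ, cj h u n * cj h u (n + 1) = cj h u (n + k) := by
    intro n
    rw [← cj_add h u k n, hk, cj_mul, cj_add]
  have hseed : ∀ n : ℤ, Commute (cj h u n) (cj h u (n + 1)) := by
    intro n
    have := cj_commute h h01 n
    rwa [cj_add] at this
  intro i j
  have := tri (cj h u) 1 k hrel hseed i (j - i) 0
  rwa [show i + 1 * (j - i) + k * 0 = j by ring] at this

theorem comm_S2 (h u : G) (k : ℤ) (hu2 : u ^ 2 = 1) (hk : cj h u k = u * cj h u 1) :
    ∀ i j : ℤ, Commute (cj h u i) (cj h u j) := by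
  have hsq : ∀ n : ℤ, cj h u n ^ 2 = 1 := by
    intro n
    rw [cj_pow, hu2, cj_one']
  have h01 : Commute u (cj h u 1) := by
    refine commute_of_sq hu2 (hsq 1) ?_
    rw [← hk]
    exact hsq k
  exact comm_S h u k h01 hk

theorem comm_NS (h u : G) (k : ℤ) (h01 : Commute u (cj h u 1))
    (h02 : Commute (u * cj h u 1) (cj h u 1 * cj h u 2))
    (hk : cj h u (2 * k - 1) = (u * cj h u 1) * (cj h u 1 * cj h u 2)) :
    ∀ i j : ℤ, Commute (cj h u i) (cj h u j) := by
  set B : G := u * cj h u 1 with hB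
  have hB1 : cj h B 1 = cj h u 1 * cj h u 2 := by
    rw [hB, cj_mul, cj_add]
    norm_num
  set C : ℤ → G := fun n => if n % 2 = 0 then cj h u (n / 2) else cj h B ((n + 1) / 2 - k) with hC
  have hC0 : ∀ i : ℤ, C (2 * i) = cj h u i := by
    intro i
    have h1 : (2 * i) % 2 = 0 := by omega
    have h2 : (2 * i) / 2 = i := by omega
    simp only [hC, h1, h2, if_true]
  have hC1 : ∀ i : ℤ, C (2 * i + 1) = cj h B (i + 1 - k) := by
    intro i
    have h1 : ¬ (2 * i + 1) % 2 = 0 := by omega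
    have h2 : (2 * i + 1 + 1) / 2 = i + 1 := by omega
    simp only [hC, h1, h2, if_false]
  have hrel : ∀ n : ℤ, C n * C (n + 2) = C (n + (2 * k - 1)) := by
    intro n
    obtain ⟨i, rfl | rfl⟩ := Int.even_or_odd' n
    · rw [show 2 * i + 2 = 2 * (i + 1) by ring, show 2 * i + (2 * k - 1) = 2 * (i + k - 1) + 1 by ring,
        hC0, hC0, hC1, show i + k - 1 + 1 - k = i by ring, hB, cj_mul, cj_add]
    · rw [show 2 * i + 1 + 2 = 2 * (i + 1) + 1 by ring,
        show 2 * i + 1 + (2 * k - 1) = 2 * (i + k) by ring, hC0, hC1, hC1,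
        show i + 1 + 1 - k = (i + 1 - k) + 1 by ring, ← cj_add h B 1 (i + 1 - k), ← cj_mul, hB1, ← hk,
        cj_add]
      congr 1
      ring
  have hseed : ∀ n : ℤ, Commute (C n) (C (n + 2)) := by
    intro n
    obtain ⟨i, rfl | rfl⟩ := Int.even_or_odd' n
    · rw [show 2 * i + 2 = 2 * (i + 1) by ring, hC0, hC0]
      have := cj_commute h h01 i
      rwa [cj_add] at this
    · rw [show 2 * i + 1 + 2 = 2 * (i + 1) + 1 by ring, hC1, hC1,
        show i + 1 + 1 - k = (i + 1 - k) + 1 by ring, ← cj_add h B 1 (i + 1 - k)]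
      refine cj_commute h ?_ _
      rw [hB1]
      exact h02
  intro i j
  have := tri C 2 (2 * k - 1) hrel hseed (2 * i) ((2 * j - 2 * i) * (1 - k)) (2 * j - 2 * i)
  rw [show 2 * i + 2 * ((2 * j - 2 * i) * (1 - k)) + (2 * k - 1) * (2 * j - 2 * i) = 2 * j by ring,
    hC0, hC0] at this
  exact this

theorem comm_P (h u : G) (hfin : IsOfFinOrder u) (hn : h * u * h⁻¹ ∈ Subgroup.zpowers u) :
    ∀ i j : ℤ, Commute (cj h u i) (cj h u j) := by
  set Z := Subgroup.zpowers u with hZ
  have : Finite Z := Finite.of_equiv _ (finEquivZPowers hfin)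
  have hconj : ∀ z ∈ Z, h * z * h⁻¹ ∈ Z := by
    intro z hz
    obtain ⟨m, rfl⟩ := Subgroup.mem_zpowers_iff.mp hz
    have : h * u ^ m * h⁻¹ = (h * u * h⁻¹) ^ m := by
      rw [conj_zpow]
    rw [this]
    exact Z.zpow_mem hn m
  let f : Z → Z := fun z => ⟨h * z.1 * h⁻¹, hconj z.1 z.2⟩
  have hinj : Function.Injective f := by
    intro a b hab
    have h1 : h * a.1 * h⁻¹ = h * b.1 * h⁻¹ := congrArg Subtype.val hab
    apply Subtype.ext
    exact mul_left_cancel (mul_right_cancel h1)
  have hsurj : Function.Surjective f := Finite.injective_iff_surjective.mp hinj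
  have hconj' : ∀ z ∈ Z, h⁻¹ * z * h ∈ Z := by
    intro z hz
    obtain ⟨w, hw⟩ := hsurj ⟨z, hz⟩
    have h1 : h * w.1 * h⁻¹ = z := congrArg Subtype.val hw
    rw [← h1]
    have : h⁻¹ * (h * w.1 * h⁻¹) * h = w.1 := by group
    rw [this]
    exact w.2
  have hmem : ∀ i : ℤ, cj h u i ∈ Z := by
    intro i
    induction i using Int.induction_on with
    | zero => rw [cj_zero]; exact Subgroup.mem_zpowers u
    | succ i ih =>
      rw [← conj_cj]
      exact hconj _ ih
    | pred i ih =>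
      have : cj h u (-(i : ℤ) - 1) = h⁻¹ * cj h u (-(i : ℤ)) * h := by
        have h1 := conj_cj h u (-(i : ℤ) - 1)
        rw [sub_add_cancel] at h1
        rw [← h1]
        group
      rw [this]
      exact hconj' _ ih
  intro i j
  obtain ⟨a, ha⟩ := Subgroup.mem_zpowers_iff.mp (hmem i)
  obtain ⟨b, hb⟩ := Subgroup.mem_zpowers_iff.mp (hmem j)
  rw [← ha, ← hb]
  exact (Commute.refl u).zpow_zpow a b

end Cfsg.Agent.Helper21.S2286
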