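import Mathlib
import Cfsg.Agent.Helper21.S2286DEFS
import Cfsg.Agent.Helper19.S2286PW
import Cfsg.Agent.Helper18.S2286PHI

/-! S2289 piece ABBLOCK (driver helper21): `ab_block`, `ab_block_card`: the abelian block generated by the
conjugates `cj h u i` is a quotient of `F_p[lam]`. -/

set_option autoImplicit false

namespace Cfsg.Agent.Helper21.S2289

open Cfsg.Agent.Helper21.S2286 Polynomial Multiplicative

/-! ## piece ABBLOCK -/
theorem ab_block (p : ℕ) [Fact p.Prime] {F : Type*} [Field F] [Finite F] [CharP F p] (lam : F)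
    {G : Type*} [Group G] (h u : G) (hup : u ^ p = 1)
    (hcomm : ∀ i j : ℤ, Commute (cj h u i) (cj h u j))
    (hm : prodA h u (mcoef p lam) (mdeg p lam + 1) = 1) :
    letI := ZMod.algebra F p
    ∃ ψ : Multiplicative (ZMod p)[X] →* G,
      ψ (ofAdd 1) = u ∧
      (∀ f : (ZMod p)[X], ψ (ofAdd (X * f)) = h * ψ (ofAdd f) * h⁻¹) ∧
      (∀ (c : ℕ → ℕ) (n : ℕ),
        ψ (ofAdd (∑ i ∈ Finset.range n, C (c i : ZMod p) * X ^ i)) = prodA h u c n) ∧
      (∀ f g : (ZMod p)[X], aeval lam f = aeval lam g → ψ (ofAdd f) = ψ (ofAdd g)) := by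
  letI := ZMod.algebra F p
  obtain ⟨ψ, hψ1, hψX, hψc, hψk⟩ := exists_pw p h u hup hcomm
  refine ⟨ψ, hψ1, hψX, hψc, ?_⟩
  have hmin : ψ (ofAdd (minpoly (ZMod p) lam)) = 1 := by
    rw [PHI.poly_eq_sum p (minpoly (ZMod p) lam), hψc]
    exact hm
  intro f g hfg
  have h0 : aeval lam (f - g) = 0 := by
    rw [map_sub, hfg, sub_self]
  obtain ⟨k, hk⟩ := minpoly.dvd (ZMod p) lam h0
  have h1 := hψk _ k hmin
  rw [mul_comm, ← hk] at h1
  have h2 : ofAdd f = ofAdd (f - g) * ofAdd g := by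
    rw [← ofAdd_add, sub_add_cancel]
  rw [h2, map_mul, h1, one_mul]

namespace ABBLOCK

theorem aeval_sum {p : ℕ} [Fact p.Prime] {F : Type*} [Field F] [Finite F] [CharP F p] (lam : F)
    (c : ℕ → ℕ) (n : ℕ) :
    letI := ZMod.algebra F p
    aeval lam (∑ i ∈ Finset.range n, C (c i : ZMod p) * X ^ i) = ev lam c n := by
  letI := ZMod.algebra F p
  unfold ev
  rw [map_sum]
  apply Finset.sum_congr rfl
  intro i _
  rw [map_mul, map_pow, aeval_X, aeval_C, map_natCast]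

theorem cj_emod {G : Type*} [Group G] (h u : G) (N : ℕ) (hhN : h ^ N = 1) (i : ℤ) :
    cj h u i = cj h u (i % (N : ℤ)) := by
  unfold cj
  rw [zpow_eq_zpow_emod' i hhN]

end ABBLOCK

theorem ab_block_card (p : ℕ) [Fact p.Prime] {F : Type*} [Field F] [Finite F] [CharP F p] (lam : F)
    {G : Type*} [Group G] (h u : G) (hup : u ^ p = 1)
    (hcomm : ∀ i j : ℤ, Commute (cj h u i) (cj h u j))
    (hm : prodA h u (mcoef p lam) (mdeg p lam + 1) = 1) (N : ℕ) (hN : 0 < N) (hhN : h ^ N = 1)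
    (A : Set F) (hA : ∀ (c : ℕ → ℕ) (n : ℕ), ev lam c n ∈ A) :
    Finite (Subgroup.closure {g : G | ∃ i : ℤ, g = cj h u i}) ∧
    Nat.card (Subgroup.closure {g : G | ∃ i : ℤ, g = cj h u i}) ≤ Nat.card A ∧
    (∀ g ∈ Subgroup.closure {g : G | ∃ i : ℤ, g = cj h u i}, ∃ (c : ℕ → ℕ) (n : ℕ), g = prodA h u c n) ∧
    (∀ (c : ℕ → ℕ) (n : ℕ) (c' : ℕ → ℕ) (n' : ℕ), ev lam c n = ev lam c' n' →
      prodA h u c n = prodA h u c' n') := by
  letI := ZMod.algebra F p
  obtain ⟨ψ, hψ1, hψX, hψc, hψe⟩ := ab_block p lam h u hup hcomm hm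
  -- the fourth claim
  have h4 : ∀ (c : ℕ → ℕ) (n : ℕ) (c' : ℕ → ℕ) (n' : ℕ), ev lam c n = ev lam c' n' →
      prodA h u c n = prodA h u c' n' := by
    intro c n c' n' he
    rw [← hψc c n, ← hψc c' n']
    apply hψe
    rw [ABBLOCK.aeval_sum, ABBLOCK.aeval_sum, he]
  -- `ψ (X ^ n) = cj h u n`
  have hXn : ∀ n : ℕ, ψ (ofAdd (X ^ n)) = cj h u (n : ℤ) := by
    intro n
    induction n with
    | zero => simpa using hψ1
    | succ n ih =>
      rw [pow_succ', hψX, ih, conj_cj]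
      push_cast
      rfl
  have hle : Subgroup.closure {g : G | ∃ i : ℤ, g = cj h u i} ≤ ψ.range := by
    rw [Subgroup.closure_le]
    rintro g ⟨i, rfl⟩
    rw [ABBLOCK.cj_emod h u N hhN i]
    have hpos : 0 ≤ i % (N : ℤ) := Int.emod_nonneg _ (by exact_mod_cast hN.ne')
    obtain ⟨n, hn⟩ := Int.eq_ofNat_of_zero_le hpos
    rw [hn]
    exact ⟨ofAdd (X ^ n), hXn n⟩
  -- the third claim
  have h3 : ∀ g ∈ Subgroup.closure {g : G | ∃ i : ℤ, g = cj h u i},
      ∃ (c : ℕ → ℕ) (n : ℕ), g = prodA h u c n := by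
    intro g hg
    obtain ⟨f, rfl⟩ := hle hg
    refine ⟨fun i => ((toAdd f).coeff i).val, (toAdd f).natDegree + 1, ?_⟩
    rw [← hψc, ← PHI.poly_eq_sum p (toAdd f), ofAdd_toAdd]
  -- the injection into `A`
  choose cc nn hcn using h3
  let φ : Subgroup.closure {g : G | ∃ i : ℤ, g = cj h u i} → A :=
    fun g => ⟨ev lam (cc g.1 g.2) (nn g.1 g.2), hA _ _⟩
  have hφ : Function.Injective φ := by
    intro g g' hgg
    have he : ev lam (cc g.1 g.2) (nn g.1 g.2) = ev lam (cc g'.1 g'.2) (nn g'.1 g'.2) :=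
      congrArg Subtype.val hgg
    apply Subtype.ext
    rw [hcn g.1 g.2, hcn g'.1 g'.2]
    exact h4 _ _ _ _ he
  haveI : Finite A := Finite.of_injective (fun a : A => a.1) Subtype.val_injective
  refine ⟨Finite.of_injective φ hφ, Nat.card_le_card_of_injective φ hφ, ?_, h4⟩
  intro g hg
  exact ⟨cc g hg, nn g hg, hcn g hg⟩

end Cfsg.Agent.Helper21.S2289
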