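import Mathlib
import Cfsg.Agent.Helper21.S2286DEFS
import Cfsg.Agent.Helper8.S2286TRI
import Cfsg.Agent.Helper8.S2286DARG

/-! S2289 piece TRI3 (driver helper21): `comm_NS3`, the three-sequence variant of the Baumslag trick
(generalises `comm_NS` of `Helper8.S2286DARG` from `s = 2` to `s = 3`). -/

set_option autoImplicit false

namespace Cfsg.Agent.Helper21.S2289

open Cfsg.Agent.Helper21.S2286 Polynomial Multiplicative

namespace TRI3

/-- three interleaved sequences -/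
theorem three_seq {G : Type*} [Group G] (A B D : ℤ → G) (j : ℤ) (hj : ¬ (3 : ℤ) ∣ j)
    (hAB : ∀ i, A i * A (i + 1) = B i) (hBD : ∀ i, B i * B (i + 1) = D i)
    (hDA : ∀ i, D i * D (i + 1) = A (i + j))
    (cA : ∀ i, Commute (A i) (A (i + 1))) (cB : ∀ i, Commute (B i) (B (i + 1)))
    (cD : ∀ i, Commute (D i) (D (i + 1))) :
    ∀ i i' : ℤ, Commute (A i) (A i') := by
  have hj3 : j % 3 = 1 ∨ j % 3 = 2 := by omega
  obtain ⟨C, hC⟩ : ∃ C : ℤ → G, C = fun n =>
    if n % 3 = 0 then A (n / 3)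
    else if (n - j) % 3 = 0 then B ((n - j) / 3) else D ((n - 2 * j) / 3) := ⟨_, rfl⟩
  have hC0 : ∀ i : ℤ, C (3 * i) = A i := by
    intro i
    have h1 : (3 * i) % 3 = 0 := by omega
    have h2 : (3 * i) / 3 = i := by omega
    simp only [hC, h1, h2, if_true]
  have hC1 : ∀ i : ℤ, C (3 * i + j) = B i := by
    intro i
    have h1 : ¬ (3 * i + j) % 3 = 0 := by omega
    have h2 : (3 * i + j - j) % 3 = 0 := by omega
    have h3 : (3 * i + j - j) / 3 = i := by omega
    simp only [hC, h1, h2, h3, if_true, if_false]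
  have hC2 : ∀ i : ℤ, C (3 * i + 2 * j) = D i := by
    intro i
    have h1 : ¬ (3 * i + 2 * j) % 3 = 0 := by omega
    have h2 : ¬ (3 * i + 2 * j - j) % 3 = 0 := by omega
    have h3 : (3 * i + 2 * j - 2 * j) / 3 = i := by omega
    simp only [hC, h1, h2, h3, if_false]
  have hcases : ∀ n : ℤ, ∃ i : ℤ, n = 3 * i ∨ n = 3 * i + j ∨ n = 3 * i + 2 * j := by
    intro n
    have hn3 : n % 3 = 0 ∨ n % 3 = 1 ∨ n % 3 = 2 := by omega
    have h : n % 3 = 0 ∨ (n - j) % 3 = 0 ∨ (n - 2 * j) % 3 = 0 := by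
      rcases hj3 with h1 | h1 <;> rcases hn3 with h2 | h2 | h2 <;> omega
    rcases h with h | h | h
    · exact ⟨n / 3, Or.inl (by omega)⟩
    · exact ⟨(n - j) / 3, Or.inr (Or.inl (by omega))⟩
    · exact ⟨(n - 2 * j) / 3, Or.inr (Or.inr (by omega))⟩
  have hrel : ∀ n : ℤ, C n * C (n + 3) = C (n + j) := by
    intro n
    obtain ⟨i, rfl | rfl | rfl⟩ := hcases n
    · rw [show 3 * i + 3 = 3 * (i + 1) by ring, hC0, hC0, hC1, hAB]
    · rw [show 3 * i + j + 3 = 3 * (i + 1) + j by ring,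
        show 3 * i + j + j = 3 * i + 2 * j by ring, hC1, hC1, hC2, hBD]
    · rw [show 3 * i + 2 * j + 3 = 3 * (i + 1) + 2 * j by ring,
        show 3 * i + 2 * j + j = 3 * (i + j) by ring, hC2, hC2, hC0, hDA]
  have hseed : ∀ n : ℤ, Commute (C n) (C (n + 3)) := by
    intro n
    obtain ⟨i, rfl | rfl | rfl⟩ := hcases n
    · rw [show 3 * i + 3 = 3 * (i + 1) by ring, hC0, hC0]
      exact cA i
    · rw [show 3 * i + j + 3 = 3 * (i + 1) + j by ring, hC1, hC1]
      exact cB i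
    · rw [show 3 * i + 2 * j + 3 = 3 * (i + 1) + 2 * j by ring, hC2, hC2]
      exact cD i
  intro i i'
  have := tri C 3 j hrel hseed (3 * i) (i' - i) 0
  rw [show 3 * i + 3 * (i' - i) + j * 0 = 3 * i' by ring, hC0, hC0] at this
  exact this

theorem cj_succ_mul {G : Type*} [Group G] (h a : G) (i : ℤ) :
    cj h a i * cj h a (i + 1) = cj h (a * cj h a 1) i := by
  rw [DARG.cj_mul, cj_add]

theorem cj_succ_commute {G : Type*} [Group G] (h a : G) (hc : Commute a (cj h a 1)) (i : ℤ) :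
    Commute (cj h a i) (cj h a (i + 1)) := by
  have := DARG.cj_commute h hc i
  rwa [cj_add] at this

end TRI3

/-! ## piece TRI3 -/
theorem comm_NS3 {G : Type*} [Group G] (h u : G) (j : ℤ) (hj : ¬ (3 : ℤ) ∣ j)
    (h01 : Commute u (cj h u 1))
    (h02 : Commute (u * cj h u 1) (cj h u 1 * cj h u 2))
    (h03 : Commute (u * cj h u 1 * (cj h u 1 * cj h u 2))
      (cj h u 1 * cj h u 2 * (cj h u 2 * cj h u 3)))
    (hk : cj h u j = (u * cj h u 1 * (cj h u 1 * cj h u 2)) *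
      (cj h u 1 * cj h u 2 * (cj h u 2 * cj h u 3))) :
    ∀ i i' : ℤ, Commute (cj h u i) (cj h u i') := by
  have hB1 : cj h (u * cj h u 1) 1 = cj h u 1 * cj h u 2 := by
    rw [DARG.cj_mul, cj_add]
    norm_num
  have hB2 : cj h (u * cj h u 1) 2 = cj h u 2 * cj h u 3 := by
    rw [DARG.cj_mul, cj_add]
    norm_num
  have hD1 : cj h (u * cj h u 1 * (cj h u 1 * cj h u 2)) 1 =
      cj h u 1 * cj h u 2 * (cj h u 2 * cj h u 3) := by
    rw [DARG.cj_mul, hB1, ← hB1, cj_add, hB1]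
    norm_num
    exact hB2
  refine TRI3.three_seq (fun i => cj h u i) (fun i => cj h (u * cj h u 1) i)
    (fun i => cj h (u * cj h u 1 * (cj h u 1 * cj h u 2)) i) j hj ?_ ?_ ?_ ?_ ?_ ?_
  · intro i
    exact TRI3.cj_succ_mul h u i
  · intro i
    show cj h (u * cj h u 1) i * cj h (u * cj h u 1) (i + 1) = _
    rw [TRI3.cj_succ_mul, hB1]
  · intro i
    show cj h (u * cj h u 1 * (cj h u 1 * cj h u 2)) i *
      cj h (u * cj h u 1 * (cj h u 1 * cj h u 2)) (i + 1) = cj h u (i + j)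
    rw [TRI3.cj_succ_mul, hD1, ← hk, cj_add]
  · intro i
    exact TRI3.cj_succ_commute h u h01 i
  · intro i
    refine TRI3.cj_succ_commute h _ ?_ i
    rw [hB1]
    exact h02
  · intro i
    refine TRI3.cj_succ_commute h _ ?_ i
    rw [hD1]
    exact h03

end Cfsg.Agent.Helper21.S2289
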