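import Mathlib
import Cfsg.Agent.Helper21.S2286DEFS

/-! S2289 piece CENTRAL (driver helper21): `central_of`, the abstract closure / centraliser argument. -/

set_option autoImplicit false

namespace Cfsg.Agent.Helper21.S2289

open Cfsg.Agent.Helper21.S2286 Polynomial Multiplicative

namespace CENTRAL

variable {Γ : Type*} [Group Γ]

theorem conj_mem_closure {S : Set Γ} (g : Γ)
    (hS : ∀ s ∈ S, g * s * g⁻¹ ∈ Subgroup.closure S) :
    ∀ y ∈ Subgroup.closure S, g * y * g⁻¹ ∈ Subgroup.closure S := by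
  intro y hy
  induction hy using Subgroup.closure_induction with
  | mem x hx => exact hS x hx
  | one => simp
  | mul x y _ _ hx hy =>
    have : g * (x * y) * g⁻¹ = (g * x * g⁻¹) * (g * y * g⁻¹) := by group
    rw [this]; exact Subgroup.mul_mem _ hx hy
  | inv x _ hx =>
    have : g * x⁻¹ * g⁻¹ = (g * x * g⁻¹)⁻¹ := by group
    rw [this]; exact Subgroup.inv_mem _ hx

theorem commute_closure {S : Set Γ} (a : Γ) (hS : ∀ s ∈ S, Commute a s) :
    ∀ y ∈ Subgroup.closure S, Commute a y := by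
  intro y hy
  induction hy using Subgroup.closure_induction with
  | mem x hx => exact hS x hx
  | one => exact Commute.one_right a
  | mul x y _ _ hx hy => exact hx.mul_right hy
  | inv x _ hx => exact hx.inv_right

/-- conjugation by `g` of a `cj` -/
theorem conj_cj_of_commute {g c : Γ} (hgc : Commute g c) (a : Γ) (i : ℤ) :
    g * cj c a i * g⁻¹ = cj c (g * a * g⁻¹) i := by
  unfold cj
  have h1 : Commute g (c ^ i) := hgc.zpow_right i
  have h2 : Commute g (c ^ i)⁻¹ := h1.inv_right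
  calc g * (c ^ i * a * (c ^ i)⁻¹) * g⁻¹ = (g * c ^ i) * a * ((c ^ i)⁻¹ * g⁻¹) := by group
    _ = (c ^ i * g) * a * (g⁻¹ * (c ^ i)⁻¹) := by
        rw [h1.eq, (h2.inv_left).eq]
    _ = c ^ i * (g * a * g⁻¹) * (c ^ i)⁻¹ := by group

theorem commute_cj_of_commute {c a z : Γ} (hcz : Commute c z) (haz : Commute a z) (i : ℤ) :
    Commute (cj c a i) z := by
  unfold cj
  have h1 : Commute (c ^ i) z := hcz.zpow_left i
  exact (h1.mul_left haz).mul_left h1.inv_left

theorem cj_succ_self (c a : Γ) (i : ℤ) : c * cj c a i * c⁻¹ = cj c a (i + 1) := conj_cj c a i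

theorem cj_pred_self (c a : Γ) (i : ℤ) : c⁻¹ * cj c a i * c⁻¹⁻¹ = cj c a (i - 1) := by
  have h1 := conj_cj c a (i - 1)
  rw [sub_add_cancel] at h1
  rw [← h1]
  group

theorem cj_emod (h u : Γ) (N : ℕ) (hhN : h ^ N = 1) (i : ℤ) : cj h u i = cj h u (i % (N : ℤ)) := by
  unfold cj
  rw [zpow_eq_zpow_emod' i hhN]

theorem cj_shift (h a : Γ) (i k : ℤ) : cj h a i = cj h (cj h a (i - k)) k := by
  rw [cj_add]
  congr 1
  ring

end CENTRAL

open CENTRAL

/-! ## piece CENTRAL -/
theorem central_of {Γ : Type*} [Group Γ] (h u : Γ) (N : ℕ) (hN : 0 < N) (hhN : h ^ N = 1)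
    (m : ℕ) (z : Γ) (Zs : Subgroup Γ)
    (hZgen : Zs = Subgroup.closure {g : Γ | ∃ i : ℤ, g = cj h z i})
    (hZab : ∀ x ∈ Zs, ∀ y ∈ Zs, Commute x y)
    (hcz : ∀ x ∈ Zs, Commute (h ^ m) x)
    (r : ℕ) (hr : ∀ l : ℕ, l < r → Commute (cj h u l) z)
    (hAr : cj h u r ∈ Subgroup.closure
      ({g : Γ | ∃ (l : ℕ) (i : ℤ), l < r ∧ g = cj (h ^ m) (cj h u l) i} ∪ (Zs : Set Γ))) :
    ∀ i : ℤ, ∀ x ∈ Zs, Commute (cj h u i) x := by
  obtain ⟨S₀, hS₀⟩ : ∃ S₀ : Set Γ, S₀ =
      {g : Γ | ∃ (l : ℕ) (i : ℤ), l < r ∧ g = cj (h ^ m) (cj h u l) i} ∪ (Zs : Set Γ) := ⟨_, rfl⟩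
  rw [← hS₀] at hAr
  have hzZ : z ∈ Zs := by
    rw [hZgen]
    exact Subgroup.subset_closure ⟨0, (cj_zero h z).symm⟩
  have hhc : Commute h (h ^ m) := (Commute.refl h).pow_right m
  have hZsub : (Zs : Set Γ) ⊆ S₀ := by
    rw [hS₀]; exact Set.subset_union_right
  -- `Zs` is `h`-stable
  have hZh : ∀ x ∈ Zs, h * x * h⁻¹ ∈ Zs := by
    intro x hx
    rw [hZgen] at hx ⊢
    refine conj_mem_closure h ?_ x hx
    rintro s ⟨i, rfl⟩
    rw [conj_cj]
    exact Subgroup.subset_closure ⟨i + 1, rfl⟩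
  -- Claim 1: every element of `Y` commutes with `z`
  have hY1 : ∀ y ∈ Subgroup.closure S₀, Commute y z := by
    intro y hy
    refine (commute_closure z ?_ y hy).symm
    intro s hs
    rw [hS₀] at hs
    rcases hs with ⟨l, i, hl, rfl⟩ | hs
    · exact (commute_cj_of_commute (hcz z hzZ) (hr l hl) i).symm
    · exact hZab z hzZ s hs
  -- Claim 3: `Y` is stable under `c` and `c⁻¹`
  have hYc : ∀ y ∈ Subgroup.closure S₀, h ^ m * y * (h ^ m)⁻¹ ∈ Subgroup.closure S₀ := by
    refine conj_mem_closure _ ?_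
    intro s hs
    rw [hS₀] at hs
    rcases hs with ⟨l, i, hl, rfl⟩ | hs
    · rw [cj_succ_self]
      refine Subgroup.subset_closure ?_
      rw [hS₀]
      exact Or.inl ⟨l, i + 1, hl, rfl⟩
    · have := (hcz s hs).eq
      rw [this, mul_inv_cancel_right]
      exact Subgroup.subset_closure (hZsub hs)
  have hYc' : ∀ y ∈ Subgroup.closure S₀, (h ^ m)⁻¹ * y * (h ^ m)⁻¹⁻¹ ∈ Subgroup.closure S₀ := by
    refine conj_mem_closure _ ?_
    intro s hs
    rw [hS₀] at hs
    rcases hs with ⟨l, i, hl, rfl⟩ | hs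
    · rw [cj_pred_self]
      refine Subgroup.subset_closure ?_
      rw [hS₀]
      exact Or.inl ⟨l, i - 1, hl, rfl⟩
    · have := ((hcz s hs).inv_left).eq
      rw [this, mul_inv_cancel_right]
      exact Subgroup.subset_closure (hZsub hs)
  have hYci : ∀ (i : ℤ), ∀ y ∈ Subgroup.closure S₀, cj (h ^ m) y i ∈ Subgroup.closure S₀ := by
    intro i
    induction i using Int.induction_on with
    | zero => intro y hy; rw [cj_zero]; exact hy
    | succ i ih =>
      intro y hy
      rw [← cj_succ_self]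
      exact hYc _ (ih y hy)
    | pred i ih =>
      intro y hy
      rw [← cj_pred_self]
      exact hYc' _ (ih y hy)
  -- Claim 2: `Y` is `h`-stable
  have hYh : ∀ y ∈ Subgroup.closure S₀, h * y * h⁻¹ ∈ Subgroup.closure S₀ := by
    refine conj_mem_closure _ ?_
    intro s hs
    rw [hS₀] at hs
    rcases hs with ⟨l, i, hl, rfl⟩ | hs
    · rw [conj_cj_of_commute hhc, conj_cj]
      by_cases hl' : l + 1 < r
      · refine Subgroup.subset_closure ?_
        rw [hS₀]
        refine Or.inl ⟨l + 1, i, hl', ?_⟩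
        push_cast
        rfl
      · have hlr : l + 1 = r := by omega
        have : ((l : ℤ) + 1) = (r : ℤ) := by exact_mod_cast hlr
        rw [this]
        exact hYci i _ hAr
    · exact Subgroup.subset_closure (hZsub (hZh s hs))
  -- `u ∈ Y`
  have hu : u ∈ Subgroup.closure S₀ := by
    by_cases hr0 : 0 < r
    · refine Subgroup.subset_closure ?_
      rw [hS₀]
      refine Or.inl ⟨0, 0, hr0, ?_⟩
      simp
    · have : r = 0 := by omega
      subst this
      simpa using hAr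
  have hnat : ∀ n : ℕ, cj h u (n : ℤ) ∈ Subgroup.closure S₀ := by
    intro n
    induction n with
    | zero => simpa using hu
    | succ n ih =>
      have := hYh _ ih
      rw [conj_cj] at this
      exact_mod_cast this
  have hall : ∀ i : ℤ, cj h u i ∈ Subgroup.closure S₀ := by
    intro i
    rw [cj_emod h u N hhN i]
    have hpos : 0 ≤ i % (N : ℤ) := Int.emod_nonneg _ (by exact_mod_cast hN.ne')
    obtain ⟨n, hn⟩ := Int.eq_ofNat_of_zero_le hpos
    rw [hn]
    exact hnat n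
  intro i x hx
  rw [hZgen] at hx
  refine commute_closure _ ?_ x hx
  rintro s ⟨k, rfl⟩
  rw [cj_shift h u i k]
  unfold cj
  have h1 : Commute (cj h u (i - k)) z := hY1 _ (hall (i - k))
  have : Commute (h ^ k * cj h u (i - k) * (h ^ k)⁻¹) (h ^ k * z * (h ^ k)⁻¹) := by
    unfold Commute SemiconjBy
    have e1 : h ^ k * cj h u (i - k) * (h ^ k)⁻¹ * (h ^ k * z * (h ^ k)⁻¹) =
        h ^ k * (cj h u (i - k) * z) * (h ^ k)⁻¹ := by group
    have e2 : h ^ k * z * (h ^ k)⁻¹ * (h ^ k * cj h u (i - k) * (h ^ k)⁻¹) =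
        h ^ k * (z * cj h u (i - k)) * (h ^ k)⁻¹ := by group
    rw [e1, e2, h1.eq]
  exact this

end Cfsg.Agent.Helper21.S2289
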