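import Mathlib
import Cfsg.Prelude.Def_Classical
import Cfsg.Agent.Helper21.S2289DEFS
import Cfsg.Agent.Helper21.S2289MDEFS
import Cfsg.Agent.Helper2.HermCount
import Cfsg.Agent.Helper2.UnitaryForm
import Cfsg.Agent.Helper2.UnitarySU
import Cfsg.Agent.Helper28.GU
import Cfsg.Agent.Helper6.S2289MODELP
import Cfsg.Agent.Lead.S2289MODELMAT

/-! S2289 piece MODELSU (driver helper21): the `U3Data` on `Cfsg.SU 3 F q`, from the matrix model with respect to
`antidiag(1,1,1)` and the base change `P` of MODELP. -/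

set_option autoImplicit false
set_option linter.unusedSectionVars false
set_option linter.unusedVariables false

namespace Cfsg.Agent.Helper21.S2289

namespace MODELSU

open Matrix Cfsg.Agent.Helper2.Herm

variable {F : Type*} [Field F] [Fintype F] {q : ℕ}

theorem map_inv_eq (σ : F →+* F) {P : Matrix (Fin 3) (Fin 3) F} (hPdet : P.det ≠ 0) :
    (P⁻¹).map σ = (P.map σ)⁻¹ := by
  symm
  apply Matrix.inv_eq_right_inv
  rw [← Matrix.map_mul, Matrix.mul_nonsing_inv _ (isUnit_iff_ne_zero.mpr hPdet)]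
  exact Matrix.map_one σ (map_zero σ) (map_one σ)

theorem det_map_ne (σ : F →+* F) {P : Matrix (Fin 3) (Fin 3) F} (hPdet : P.det ≠ 0) :
    (P.map σ).det ≠ 0 := by
  have : (P.map σ).det = σ P.det := by
    rw [RingHom.map_det]
    rfl
  rw [this]
  exact (map_ne_zero σ).mpr hPdet

/-- conjugating a `J`-unitary matrix by the base change gives a unitary matrix -/
theorem unitary_conj (hF : Fintype.card F = q ^ 2) {P : Matrix (Fin 3) (Fin 3) F}
    (hPdet : P.det ≠ 0) (hP : Pᵀ * P.map (· ^ q) = Jm) {A : Matrix (Fin 3) (Fin 3) F}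
    (hA : IsJU q A) :
    (P * A * P⁻¹)ᵀ * (P * A * P⁻¹).map (cj hF) = 1 := by
  have hP' : Pᵀ * P.map (cj hF) = Jm := hP
  have hA' : Aᵀ * Jm * A.map (cj hF) = Jm := hA
  have hu : IsUnit P.det := isUnit_iff_ne_zero.mpr hPdet
  have hu' : IsUnit (P.map (cj hF)).det := isUnit_iff_ne_zero.mpr (det_map_ne _ hPdet)
  rw [Matrix.map_mul, Matrix.map_mul, map_inv_eq _ hPdet, Matrix.transpose_mul,
    Matrix.transpose_mul]
  calc (P⁻¹)ᵀ * (Aᵀ * Pᵀ) * (P.map (cj hF) * A.map (cj hF) * (P.map (cj hF))⁻¹)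
      = (P⁻¹)ᵀ * (Aᵀ * (Pᵀ * P.map (cj hF)) * A.map (cj hF)) * (P.map (cj hF))⁻¹ := by
        simp only [Matrix.mul_assoc]
    _ = (P⁻¹)ᵀ * (Pᵀ * P.map (cj hF)) * (P.map (cj hF))⁻¹ := by rw [hP', hA']
    _ = ((P⁻¹)ᵀ * Pᵀ) * (P.map (cj hF) * (P.map (cj hF))⁻¹) := by
        simp only [Matrix.mul_assoc]
    _ = 1 := by
        rw [← Matrix.transpose_mul, Matrix.mul_nonsing_inv _ hu, Matrix.mul_nonsing_inv _ hu',
          Matrix.transpose_one, Matrix.one_mul]

theorem det_conj {P : Matrix (Fin 3) (Fin 3) F} (hPdet : P.det ≠ 0)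
    {A : Matrix (Fin 3) (Fin 3) F} (hdet : A.det = 1) : (P * A * P⁻¹).det = 1 := by
  rw [Matrix.det_mul, Matrix.det_mul, hdet, mul_one, ← Matrix.det_mul,
    Matrix.mul_nonsing_inv _ (isUnit_iff_ne_zero.mpr hPdet), Matrix.det_one]

/-- the element of `SU₃` given by a `J`-unitary matrix of determinant one -/
noncomputable def mk (hF : Fintype.card F = q ^ 2) {P : Matrix (Fin 3) (Fin 3) F}
    (hPdet : P.det ≠ 0) (hP : Pᵀ * P.map (· ^ q) = Jm) (A : Matrix (Fin 3) (Fin 3) F)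
    (hdet : A.det = 1) (hA : IsJU q A) : ↥(Cfsg.SU 3 F q) :=
  ⟨⟨P * A * P⁻¹, det_conj hPdet hdet⟩,
    (Cfsg.Agent.Helper28.GUlib.preserves_iff (cj hF) (cj_apply hF) _).mpr
      (unitary_conj hF hPdet hP hA)⟩

theorem mk_val (hF : Fintype.card F = q ^ 2) {P : Matrix (Fin 3) (Fin 3) F}
    (hPdet : P.det ≠ 0) (hP : Pᵀ * P.map (· ^ q) = Jm) (A : Matrix (Fin 3) (Fin 3) F)
    (hdet : A.det = 1) (hA : IsJU q A) :
    ((mk hF hPdet hP A hdet hA : ↥(Cfsg.SU 3 F q)) : Matrix.SpecialLinearGroup (Fin 3) F).1 =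
      P * A * P⁻¹ := rfl

theorem mk_eq_iff (hF : Fintype.card F = q ^ 2) {P : Matrix (Fin 3) (Fin 3) F}
    (hPdet : P.det ≠ 0) (hP : Pᵀ * P.map (· ^ q) = Jm) {A B : Matrix (Fin 3) (Fin 3) F}
    (hdA : A.det = 1) (hA : IsJU q A) (hdB : B.det = 1) (hB : IsJU q B) :
    mk hF hPdet hP A hdA hA = mk hF hPdet hP B hdB hB ↔ A = B := by
  constructor
  · intro h
    have h1 : P * A * P⁻¹ = P * B * P⁻¹ := by
      have := congrArg (fun x : ↥(Cfsg.SU 3 F q) =>
        ((x : Matrix.SpecialLinearGroup (Fin 3) F).1)) h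
      exact this
    have hu : IsUnit P.det := isUnit_iff_ne_zero.mpr hPdet
    calc A = P⁻¹ * (P * A * P⁻¹) * P := by
          simp only [Matrix.mul_assoc]
          rw [Matrix.nonsing_inv_mul _ hu, Matrix.mul_one, ← Matrix.mul_assoc,
            Matrix.nonsing_inv_mul _ hu, Matrix.one_mul]
      _ = P⁻¹ * (P * B * P⁻¹) * P := by rw [h1]
      _ = B := by
          simp only [Matrix.mul_assoc]
          rw [Matrix.nonsing_inv_mul _ hu, Matrix.mul_one, ← Matrix.mul_assoc,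
            Matrix.nonsing_inv_mul _ hu, Matrix.one_mul]
  · intro h
    subst h
    rfl

theorem mk_mul (hF : Fintype.card F = q ^ 2) {P : Matrix (Fin 3) (Fin 3) F}
    (hPdet : P.det ≠ 0) (hP : Pᵀ * P.map (· ^ q) = Jm) {A B C : Matrix (Fin 3) (Fin 3) F}
    (hdA : A.det = 1) (hA : IsJU q A) (hdB : B.det = 1) (hB : IsJU q B)
    (hdC : C.det = 1) (hC : IsJU q C) (h : A * B = C) :
    mk hF hPdet hP A hdA hA * mk hF hPdet hP B hdB hB = mk hF hPdet hP C hdC hC := by
  apply Subtype.ext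
  apply Subtype.ext
  show (P * A * P⁻¹) * (P * B * P⁻¹) = P * C * P⁻¹
  have hu : IsUnit P.det := isUnit_iff_ne_zero.mpr hPdet
  rw [← h]
  calc (P * A * P⁻¹) * (P * B * P⁻¹) = P * A * (P⁻¹ * P) * B * P⁻¹ := by
        simp only [Matrix.mul_assoc]
    _ = P * (A * B) * P⁻¹ := by
        rw [Matrix.nonsing_inv_mul _ hu, Matrix.mul_one]
        simp only [Matrix.mul_assoc]

theorem mk_one (hF : Fintype.card F = q ^ 2) {P : Matrix (Fin 3) (Fin 3) F}
    (hPdet : P.det ≠ 0) (hP : Pᵀ * P.map (· ^ q) = Jm)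
    (hd1 : (1 : Matrix (Fin 3) (Fin 3) F).det = 1) (h1 : IsJU q (1 : Matrix (Fin 3) (Fin 3) F)) :
    mk hF hPdet hP 1 hd1 h1 = 1 := by
  apply Subtype.ext
  apply Subtype.ext
  show P * 1 * P⁻¹ = 1
  rw [Matrix.mul_one, Matrix.mul_nonsing_inv _ (isUnit_iff_ne_zero.mpr hPdet)]

/-! ### valid pairs -/

theorem val_iff (hF : Fintype.card F = q ^ 2) (a b : F) :
    Val q a b ↔ b + cj hF b + a * cj hF a = 0 := by
  unfold Val
  rw [cj_apply, cj_apply, pow_succ, mul_comm (a ^ q) a]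

theorem val_zero (hF : Fintype.card F = q ^ 2) : Val q (0 : F) 0 := by
  rw [val_iff hF]
  simp

theorem val_mul' (hF : Fintype.card F = q ^ 2) {a b a' b' : F} (h : Val q a b)
    (h' : Val q a' b') : Val q (a + a') (b + b' - a * a' ^ q) := by
  rw [val_iff hF] at h h' ⊢
  rw [← cj_apply hF a']
  simp only [map_add, map_sub, map_mul, cj_cj]
  linear_combination h + h'

theorem val_hact' (hF : Fintype.card F = q ^ 2) {t a b : F} (ht : t ≠ 0) (h : Val q a b) :
    Val q (a * t ^ 2 / t ^ q) (b * t ^ (q + 1)) := by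
  rw [val_iff hF] at h ⊢
  have e1 : t ^ (q + 1) = t * cj hF t := by
    rw [cj_apply, pow_succ, mul_comm]
  rw [← cj_apply hF t, e1]
  have ht' : cj hF t ≠ 0 := (map_ne_zero (cj hF)).mpr ht
  simp only [map_mul, map_div₀, map_pow, cj_cj]
  field_simp
  linear_combination (t * cj hF t) * h

theorem cj_neg (hF : Fintype.card F = q ^ 2) (x : F) : cj hF (-x) = -cj hF x := map_neg _ x

theorem val_n1 (hF : Fintype.card F = q ^ 2) {a b : F} (h : Val q a b) (hb : b ≠ 0) :
    Val q (-a / b ^ q) (1 / b) := by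
  rw [val_iff hF] at h ⊢
  rw [← cj_apply hF b]
  have hb' : cj hF b ≠ 0 := (map_ne_zero (cj hF)).mpr hb
  simp only [map_div₀, map_one, map_neg, cj_cj]
  field_simp
  linear_combination h

theorem val_n2 (hF : Fintype.card F = q ^ 2) {a b : F} (h : Val q a b) (hb : b ≠ 0) :
    Val q (-a / b) (1 / b) := by
  rw [val_iff hF] at h ⊢
  have hb' : cj hF b ≠ 0 := (map_ne_zero (cj hF)).mpr hb
  simp only [map_div₀, map_one, map_neg]
  field_simp
  linear_combination h

/-! ### products of `J`-unitary matrices -/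

theorem isJU_mul (hF : Fintype.card F = q ^ 2) {A B : Matrix (Fin 3) (Fin 3) F} (hA : IsJU q A)
    (hB : IsJU q B) : IsJU q (A * B) := by
  have hA' : Aᵀ * Jm * A.map (cj hF) = Jm := hA
  have hB' : Bᵀ * Jm * B.map (cj hF) = Jm := hB
  show (A * B)ᵀ * Jm * (A * B).map (cj hF) = Jm
  rw [Matrix.map_mul, Matrix.transpose_mul]
  calc Bᵀ * Aᵀ * Jm * (A.map (cj hF) * B.map (cj hF))
      = Bᵀ * (Aᵀ * Jm * A.map (cj hF)) * B.map (cj hF) := by simp only [Matrix.mul_assoc]
    _ = Jm := by rw [hA', hB']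

theorem det_mul_one {A B : Matrix (Fin 3) (Fin 3) F} (hA : A.det = 1) (hB : B.det = 1) :
    (A * B).det = 1 := by
  rw [Matrix.det_mul, hA, hB, mul_one]

/-! ### entries -/

theorem uh_00 (a b t : F) : (um q a b * hm q t) 0 0 = t := by
  simp [um, hm, Matrix.mul_apply, Fin.sum_univ_three]

theorem uh_01 (a b t : F) : (um q a b * hm q t) 0 1 = a * (t ^ q / t) := by
  simp [um, hm, Matrix.mul_apply, Fin.sum_univ_three]

theorem uh_02 (a b t : F) : (um q a b * hm q t) 0 2 = b * (1 / t ^ q) := by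
  simp [um, hm, Matrix.mul_apply, Fin.sum_univ_three]

theorem uh_20 (a b t : F) : (um q a b * hm q t) 2 0 = 0 := by
  simp [um, hm, Matrix.mul_apply, Fin.sum_univ_three]

theorem uhnu_20 (a b t c d : F) : ((um q a b * hm q t * nm * um q c d : Matrix (Fin 3) (Fin 3) F)) 2 0 = 1 / t ^ q := by
  simp [um, hm, nm, Matrix.mul_apply, Fin.sum_univ_three]

theorem uhnu_21 (a b t c d : F) : ((um q a b * hm q t * nm * um q c d : Matrix (Fin 3) (Fin 3) F)) 2 1 = 1 / t ^ q * c := by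
  simp [um, hm, nm, Matrix.mul_apply, Fin.sum_univ_three]

theorem uhnu_22 (a b t c d : F) : ((um q a b * hm q t * nm * um q c d : Matrix (Fin 3) (Fin 3) F)) 2 2 = 1 / t ^ q * d := by
  simp [um, hm, nm, Matrix.mul_apply, Fin.sum_univ_three]

theorem pow_q_inj (hF : Fintype.card F = q ^ 2) {x y : F} (h : x ^ q = y ^ q) : x = y := by
  have := congrArg (cj hF) h
  rwa [← cj_apply hF, ← cj_apply hF, cj_cj, cj_cj] at this

theorem inj_B_mat {a b t a' b' t' : F} (ht : t ≠ 0) (ht' : t' ≠ 0)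
    (h : um q a b * hm q t = um q a' b' * hm q t') : a = a' ∧ b = b' ∧ t = t' := by
  have h0 : t = t' := by
    have := congrFun (congrFun h 0) 0
    rwa [uh_00, uh_00] at this
  subst h0
  have htq : t ^ q ≠ 0 := pow_ne_zero _ ht
  refine ⟨?_, ?_, rfl⟩
  · have := congrFun (congrFun h 0) 1
    rw [uh_01, uh_01] at this
    exact mul_right_cancel₀ (div_ne_zero htq ht) this
  · have := congrFun (congrFun h 0) 2
    rw [uh_02, uh_02] at this
    exact mul_right_cancel₀ (one_div_ne_zero htq) this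

theorem inj_N_mat (hF : Fintype.card F = q ^ 2) {a b t c d a' b' t' c' d' : F} (ht : t ≠ 0)
    (ht' : t' ≠ 0)
    (h : um q a b * hm q t * nm * um q c d = um q a' b' * hm q t' * nm * um q c' d') :
    t = t' ∧ c = c' ∧ d = d' := by
  have h0 : t = t' := by
    have := congrFun (congrFun h 2) 0
    rw [uhnu_20, uhnu_20] at this
    have h1 : t ^ q = t' ^ q := by
      have h2 := congrArg (fun x => x⁻¹) this
      simpa using h2
    exact pow_q_inj hF h1
  subst h0
  have htq : (1 : F) / t ^ q ≠ 0 := one_div_ne_zero (pow_ne_zero _ ht)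
  refine ⟨rfl, ?_, ?_⟩
  · have := congrFun (congrFun h 2) 1
    rw [uhnu_21, uhnu_21] at this
    exact mul_left_cancel₀ htq this
  · have := congrFun (congrFun h 2) 2
    rw [uhnu_22, uhnu_22] at this
    exact mul_left_cancel₀ htq this

theorem disj_mat {a b t a' b' t' c' d' : F} (ht' : t' ≠ 0) :
    um q a b * hm q t ≠ um q a' b' * hm q t' * nm * um q c' d' := by
  intro h
  have := congrFun (congrFun h 2) 0
  rw [uh_20, uhnu_20] at this
  exact one_div_ne_zero (pow_ne_zero _ ht') this.symm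

/-! ### the order -/

theorem card_SU3 (hF : Fintype.card F = q ^ 2) :
    Nat.card (Cfsg.SU 3 F q) = q ^ 3 * (q ^ 2 - 1) * (q ^ 3 + 1) := by
  have h := card_SU_closed hF 3 (by norm_num)
  have e : q ^ (3 * (3 - 1) / 2) *
      ∏ i ∈ Finset.range 3, (if Even i then q ^ (i + 1) + 1 else q ^ (i + 1) - 1) =
      (q + 1) * (q ^ 3 * (q ^ 2 - 1) * (q ^ 3 + 1)) := by
    have e1 : 3 * (3 - 1) / 2 = 3 := by norm_num
    rw [e1]
    simp only [Finset.prod_range_succ, Finset.prod_range_zero, one_mul]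
    have h0 : Even 0 := ⟨0, rfl⟩
    have h1 : ¬ Even 1 := Nat.not_even_one
    have h2 : Even 2 := ⟨1, rfl⟩
    simp only [h0, h1, h2, if_true, if_false]
    ring
  rw [e] at h
  exact Nat.eq_of_mul_eq_mul_left (Nat.succ_pos q) h


/-! ### the submonoid of `J`-unitary matrices of determinant one and its embedding into `SU₃` -/

theorem isJU_one (hF : Fintype.card F = q ^ 2) : IsJU q (1 : Matrix (Fin 3) (Fin 3) F) := by
  have hq0 : q ≠ 0 := by have := two_le_q hF; omega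
  show (1 : Matrix (Fin 3) (Fin 3) F)ᵀ * Jm * (1 : Matrix (Fin 3) (Fin 3) F).map (· ^ q) = Jm
  have h1 : (1 : Matrix (Fin 3) (Fin 3) F).map (fun x : F => x ^ q) = 1 :=
    Matrix.map_one (fun x : F => x ^ q) (zero_pow hq0) (one_pow q)
  rw [Matrix.transpose_one, Matrix.one_mul, h1, Matrix.mul_one]

/-- the `J`-unitary matrices of determinant one -/
def JS (hF : Fintype.card F = q ^ 2) : Submonoid (Matrix (Fin 3) (Fin 3) F) where
  carrier := {A | A.det = 1 ∧ IsJU q A}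
  one_mem' := ⟨Matrix.det_one, isJU_one hF⟩
  mul_mem' := fun h1 h2 => ⟨det_mul_one h1.1 h2.1, isJU_mul hF h1.2 h2.2⟩

/-- the embedding into `SU₃` -/
noncomputable def Phi (hF : Fintype.card F = q ^ 2) {P : Matrix (Fin 3) (Fin 3) F}
    (hPdet : P.det ≠ 0) (hP : Pᵀ * P.map (· ^ q) = Jm) : JS hF →* ↥(Cfsg.SU 3 F q) where
  toFun A := mk hF hPdet hP A.1 A.2.1 A.2.2
  map_one' := mk_one hF hPdet hP _ _
  map_mul' := fun A B => (mk_mul hF hPdet hP A.2.1 A.2.2 B.2.1 B.2.2 _ _ rfl).symm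

theorem Phi_injective (hF : Fintype.card F = q ^ 2) {P : Matrix (Fin 3) (Fin 3) F}
    (hPdet : P.det ≠ 0) (hP : Pᵀ * P.map (· ^ q) = Jm) :
    Function.Injective (Phi hF hPdet hP) := fun A B h =>
  Subtype.ext ((mk_eq_iff hF hPdet hP A.2.1 A.2.2 B.2.1 B.2.2).mp h)

/-- `u(a,b)` in `JS` -/
def uS (hF : Fintype.card F = q ^ 2) (a b : F) (h : Val q a b) : JS hF :=
  ⟨um q a b, det_um a b, isJU_um hF a b h⟩

/-- `h(t)` in `JS` -/
def hS (hF : Fintype.card F = q ^ 2) (t : F) (ht : t ≠ 0) : JS hF :=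
  ⟨hm q t, det_hm t ht, isJU_hm hF t ht⟩

/-- `n` in `JS` -/
def nS (hF : Fintype.card F = q ^ 2) : JS hF := ⟨nm, det_nm, isJU_nm hF⟩

/-- the `u(a,b)` of the data -/
noncomputable def uG (hF : Fintype.card F = q ^ 2) {P : Matrix (Fin 3) (Fin 3) F}
    (hPdet : P.det ≠ 0) (hP : Pᵀ * P.map (· ^ q) = Jm) (a b : F) : ↥(Cfsg.SU 3 F q) :=
  @dite _ (Val q a b) (Classical.propDecidable _) (fun h => Phi hF hPdet hP (uS hF a b h))
    (fun _ => 1)

/-- the `h(t)` of the data -/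
noncomputable def hG (hF : Fintype.card F = q ^ 2) {P : Matrix (Fin 3) (Fin 3) F}
    (hPdet : P.det ≠ 0) (hP : Pᵀ * P.map (· ^ q) = Jm) (t : F) : ↥(Cfsg.SU 3 F q) :=
  @dite _ (t ≠ 0) (Classical.propDecidable _) (fun h => Phi hF hPdet hP (hS hF t h))
    (fun _ => 1)

theorem uG_pos (hF : Fintype.card F = q ^ 2) {P : Matrix (Fin 3) (Fin 3) F}
    (hPdet : P.det ≠ 0) (hP : Pᵀ * P.map (· ^ q) = Jm) {a b : F} (h : Val q a b) :
    uG hF hPdet hP a b = Phi hF hPdet hP (uS hF a b h) := by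
  unfold uG
  exact dif_pos h

theorem hG_pos (hF : Fintype.card F = q ^ 2) {P : Matrix (Fin 3) (Fin 3) F}
    (hPdet : P.det ≠ 0) (hP : Pᵀ * P.map (· ^ q) = Jm) {t : F} (h : t ≠ 0) :
    hG hF hPdet hP t = Phi hF hPdet hP (hS hF t h) := by
  unfold hG
  exact dif_pos h

theorem one_div_pow_ne (t : F) (ht : t ≠ 0) : (1 : F) / t ^ q ≠ 0 :=
  one_div_ne_zero (pow_ne_zero _ ht)

theorem nS_sq (hF : Fintype.card F = q ^ 2) : nS hF * nS hF = 1 :=
  Subtype.ext nm_sq

end MODELSU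

open MODELSU Matrix

/-! ## piece MODELSU -/
theorem exists_suData {F : Type*} [Field F] [Fintype F] {q : ℕ} (hF : Fintype.card F = q ^ 2) :
    Nonempty (U3Data F q (Cfsg.SU 3 F q)) := by
  obtain ⟨P, hPdet, hP⟩ := exists_base_change hF
  have hP' : Pᵀ * P.map (· ^ q) = Jm := hP
  have hnn : Phi hF hPdet hP' (nS hF) * Phi hF hPdet hP' (nS hF) = 1 := by
    rw [← map_mul, nS_sq, map_one]
  have hninv : (Phi hF hPdet hP' (nS hF))⁻¹ = Phi hF hPdet hP' (nS hF) :=
    inv_eq_of_mul_eq_one_right hnn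
  refine ⟨{
    uG := uG hF hPdet hP'
    hG := hG hF hPdet hP'
    nG := Phi hF hPdet hP' (nS hF)
    u_zero := ?_
    u_mul := ?_
    h_one := ?_
    h_mul := ?_
    h_u := ?_
    n_sq := hnn
    n_h := ?_
    n_u := ?_
    inj_B := ?_
    inj_N := ?_
    disj := ?_
    card_le := (card_SU3 hF).le }⟩
  · -- u_zero
    rw [uG_pos hF hPdet hP' (val_zero hF)]
    have : uS hF 0 0 (val_zero hF) = 1 := Subtype.ext (um_zero hF)
    rw [this, map_one]
  · -- u_mul
    intro a b a' b' h h'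
    rw [uG_pos hF hPdet hP' h, uG_pos hF hPdet hP' h', uG_pos hF hPdet hP' (val_mul' hF h h'),
      ← map_mul]
    congr 1
    exact Subtype.ext (um_mul hF a b a' b')
  · -- h_one
    rw [hG_pos hF hPdet hP' one_ne_zero]
    have : hS hF 1 one_ne_zero = 1 := Subtype.ext (hm_one hF)
    rw [this, map_one]
  · -- h_mul
    intro s t hs ht
    rw [hG_pos hF hPdet hP' hs, hG_pos hF hPdet hP' ht, hG_pos hF hPdet hP' (mul_ne_zero hs ht),
      ← map_mul]
    congr 1
    exact Subtype.ext (hm_mul hF s t hs ht)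
  · -- h_u
    intro t a b ht h
    rw [mul_inv_eq_iff_eq_mul, hG_pos hF hPdet hP' ht, uG_pos hF hPdet hP' h,
      uG_pos hF hPdet hP' (val_hact' hF ht h), ← map_mul, ← map_mul]
    congr 1
    exact Subtype.ext (hm_um hF t a b ht)
  · -- n_h
    intro t ht
    rw [mul_inv_eq_iff_eq_mul, hG_pos hF hPdet hP' ht,
      hG_pos hF hPdet hP' (one_div_pow_ne t ht), ← map_mul, ← map_mul]
    congr 1
    exact Subtype.ext (nm_hm hF t ht)
  · -- n_u
    intro a b h hb
    rw [hninv, uG_pos hF hPdet hP' h, uG_pos hF hPdet hP' (val_n1 hF h hb),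
      uG_pos hF hPdet hP' (val_n2 hF h hb), hG_pos hF hPdet hP' (one_div_pow_ne b hb),
      ← map_mul, ← map_mul, ← map_mul, ← map_mul, ← map_mul]
    congr 1
    exact Subtype.ext (nm_um hF a b h hb)
  · -- inj_B
    intro a b t a' b' t' h h' ht ht' he
    rw [uG_pos hF hPdet hP' h, uG_pos hF hPdet hP' h', hG_pos hF hPdet hP' ht,
      hG_pos hF hPdet hP' ht', ← map_mul, ← map_mul] at he
    have := congrArg Subtype.val (Phi_injective hF hPdet hP' he)
    exact inj_B_mat ht ht' this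
  · -- inj_N
    intro a b t c d a' b' t' c' d' h h' hc hc' ht ht' he
    have he' := he
    rw [uG_pos hF hPdet hP' h, uG_pos hF hPdet hP' h', uG_pos hF hPdet hP' hc,
      uG_pos hF hPdet hP' hc', hG_pos hF hPdet hP' ht,
      hG_pos hF hPdet hP' ht', ← map_mul, ← map_mul, ← map_mul, ← map_mul, ← map_mul,
      ← map_mul] at he'
    have hm := congrArg Subtype.val (Phi_injective hF hPdet hP' he')
    obtain ⟨h1, h2, h3⟩ := inj_N_mat hF ht ht' hm
    subst h1 h2 h3
    have he2 := mul_right_cancel (mul_right_cancel he)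
    rw [uG_pos hF hPdet hP' h, uG_pos hF hPdet hP' h', hG_pos hF hPdet hP' ht,
      ← map_mul, ← map_mul] at he2
    have hm2 := congrArg Subtype.val (Phi_injective hF hPdet hP' he2)
    obtain ⟨h4, h5, -⟩ := inj_B_mat ht ht hm2
    exact ⟨h4, h5, rfl, rfl, rfl⟩
  · -- disj
    intro a b t a' b' t' c' d' h h' hc' ht ht' he
    rw [uG_pos hF hPdet hP' h, uG_pos hF hPdet hP' h', uG_pos hF hPdet hP' hc',
      hG_pos hF hPdet hP' ht, hG_pos hF hPdet hP' ht', ← map_mul, ← map_mul, ← map_mul,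
      ← map_mul] at he
    have hm := congrArg Subtype.val (Phi_injective hF hPdet hP' he)
    exact disj_mat ht' hm

end Cfsg.Agent.Helper21.S2289
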