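import Cfsg.Agent.Helper21.S2293DEFS
import Cfsg.Agent.Helper21.S2286FIN
import Cfsg.Agent.Helper19.S2293ROOTS4

/-! S2293 piece COMMA (driver helper21): the four commuting relations among the positive root groups of
type `C₂` for all parameters, from one instance each (torus orbits + additivity + sums of squares). -/

set_option linter.unusedVariables false

namespace Cfsg.Agent.Helper21.S2293

open Multiplicative Cfsg.Agent.Helper21.S2286

variable {F : Type*} [Field F] {P : Type*} [Group P] (D : C2Data F P)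

namespace C2Data

namespace COMMA

theorem exists_zpow {F : Type*} [Field F] {P : Type*} [Group P] (D : C2Data F P) {b : F}
    (hb : b ≠ 0) : ∃ β : ℤ, (D.ω : F) ^ β = b := by
  obtain ⟨β, hβ⟩ := Subgroup.mem_zpowers_iff.mp (D.hω (Units.mk0 b hb))
  refine ⟨β, ?_⟩
  have := congrArg (fun u : Fˣ => (u : F)) hβ
  simpa using this

/-- conjugating a commuting pair -/
theorem conj_commute {P : Type*} [Group P] (T x y : P) (h : Commute x y) :
    Commute (T * x * T⁻¹) (T * y * T⁻¹) := by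
  show _ * _ = _ * _
  have := h.eq
  calc T * x * T⁻¹ * (T * y * T⁻¹) = T * (x * y) * T⁻¹ := by group
    _ = T * (y * x) * T⁻¹ := by rw [this]
    _ = _ := by group

/-- the nonzero elements span additively -/
theorem nonzero_span {F : Type*} [Field F] (a : F) :
    a ∈ AddSubgroup.closure {z : F | z ≠ 0} := by
  by_cases ha : a = 0
  · rw [ha]; exact AddSubgroup.zero_mem _
  · exact AddSubgroup.subset_closure ha

/-- two additive one-parameter families that commute on additively spanning sets commute. -/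
theorem commute_of_span {F : Type*} [Field F] {P : Type*} [Group P] (X Y : F → P)
    (hX0 : X 0 = 1) (hXa : ∀ a b, X (a + b) = X a * X b) (hXn : ∀ a, X (-a) = (X a)⁻¹)
    (hY0 : Y 0 = 1) (hYa : ∀ a b, Y (a + b) = Y a * Y b) (hYn : ∀ a, Y (-a) = (Y a)⁻¹)
    (S₁ S₂ : Set F) (h1 : ∀ a : F, a ∈ AddSubgroup.closure S₁)
    (h2 : ∀ a : F, a ∈ AddSubgroup.closure S₂)
    (h : ∀ s ∈ S₁, ∀ t ∈ S₂, Commute (X s) (Y t)) (a b : F) : Commute (X a) (Y b) := by
  -- first: all `a`, `t ∈ S₂`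
  have step1 : ∀ t ∈ S₂, ∀ a : F, Commute (X a) (Y t) := by
    intro t ht a
    let S : AddSubgroup F :=
      { carrier := {z | Commute (X z) (Y t)}
        zero_mem' := by
          show Commute (X 0) (Y t)
          rw [hX0]; exact Commute.one_left _
        add_mem' := by
          intro z z' hz hz'
          show Commute (X (z + z')) (Y t)
          rw [hXa]; exact Commute.mul_left hz hz'
        neg_mem' := by
          intro z hz
          show Commute (X (-z)) (Y t)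
          rw [hXn]; exact Commute.inv_left hz }
    have hS : S₁ ⊆ S := fun s hs => h s hs t ht
    exact (AddSubgroup.closure_le S).mpr hS (h1 a)
  let S : AddSubgroup F :=
    { carrier := {z | Commute (X a) (Y z)}
      zero_mem' := by
        show Commute (X a) (Y 0)
        rw [hY0]; exact Commute.one_right _
      add_mem' := by
        intro z z' hz hz'
        show Commute (X a) (Y (z + z'))
        rw [hYa]; exact Commute.mul_right hz hz'
      neg_mem' := by
        intro z hz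
        show Commute (X a) (Y (-z))
        rw [hYn]; exact Commute.inv_right hz }
  have hS : S₂ ⊆ S := fun t ht => step1 t ht a
  exact (AddSubgroup.closure_le S).mpr hS (h2 b)

theorem es0 (i j : ℤ) : es i j 0 = i - j := rfl
theorem es1 (i j : ℤ) : es i j 1 = i + j := rfl
theorem el0 (i j : ℤ) : el i j 0 = 2 * j := rfl
theorem el3 (i j : ℤ) : el i j 3 = 2 * i := rfl

theorem zpow_two_mul {F : Type*} [Field F] (w : F) (υ : ℤ) : w ^ (2 * υ) = (w ^ υ) ^ 2 := by
  rw [mul_comm, zpow_mul]; norm_cast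

end COMMA

open COMMA

/-! ## piece COMMA (the four commuting relations from their seeds) -/
theorem comm_l0l3_of (hQ : ∀ a : F, a ∈ AddSubgroup.closure {z : F | ∃ y : F, y ≠ 0 ∧ z = y ^ 2})
    (seed : Commute (D.xl 0 1) (D.xl 3 1)) (a b : F) : Commute (D.xl 0 a) (D.xl 3 b) := by
  refine commute_of_span (D.xl 0) (D.xl 3) (D.xl_zero 0) (D.xl_add 0) (D.xl_neg 0)
    (D.xl_zero 3) (D.xl_add 3) (D.xl_neg 3) _ _ hQ hQ ?_ a b
  rintro s ⟨y, hy0, rfl⟩ t ⟨z, hz0, rfl⟩
  obtain ⟨υ, hυ⟩ := exists_zpow D hy0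
  obtain ⟨ζ, hζ⟩ := exists_zpow D hz0
  have key := conj_commute (D.tor ζ υ) _ _ seed
  rw [D.tor_xl, D.tor_xl, el0, el3, zpow_two_mul, zpow_two_mul, hυ, hζ, mul_one, mul_one] at key
  exact key

theorem comm_l0s1_of (hQ : ∀ a : F, a ∈ AddSubgroup.closure {z : F | ∃ y : F, y ≠ 0 ∧ z = y ^ 2})
    (seed : Commute (D.xl 0 1) (D.xs 1 1)) (a b : F) : Commute (D.xl 0 a) (D.xs 1 b) := by
  refine commute_of_span (D.xl 0) (D.xs 1) (D.xl_zero 0) (D.xl_add 0) (D.xl_neg 0)
    (D.xs_zero 1) (D.xs_add 1) (D.xs_neg 1) _ _ hQ nonzero_span ?_ a b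
  rintro s ⟨y, hy0, rfl⟩ t (ht : t ≠ 0)
  obtain ⟨υ, hυ⟩ := exists_zpow D hy0
  obtain ⟨τ, hτ⟩ := exists_zpow D ht
  have key := conj_commute (D.tor (τ - υ) υ) _ _ seed
  rw [D.tor_xl, D.tor_xs, el0, es1, zpow_two_mul, hυ, mul_one, mul_one] at key
  have e : τ - υ + υ = τ := by ring
  rw [e, hτ] at key
  exact key

theorem comm_s0l3_of (hQ : ∀ a : F, a ∈ AddSubgroup.closure {z : F | ∃ y : F, y ≠ 0 ∧ z = y ^ 2})
    (seed : Commute (D.xs 0 1) (D.xl 3 1)) (a b : F) : Commute (D.xs 0 a) (D.xl 3 b) := by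
  refine commute_of_span (D.xs 0) (D.xl 3) (D.xs_zero 0) (D.xs_add 0) (D.xs_neg 0)
    (D.xl_zero 3) (D.xl_add 3) (D.xl_neg 3) _ _ nonzero_span hQ ?_ a b
  rintro s (hs : s ≠ 0) t ⟨z, hz0, rfl⟩
  obtain ⟨σ, hσ⟩ := exists_zpow D hs
  obtain ⟨ζ, hζ⟩ := exists_zpow D hz0
  have key := conj_commute (D.tor ζ (ζ - σ)) _ _ seed
  rw [D.tor_xs, D.tor_xl, es0, el3, zpow_two_mul, hζ, mul_one, mul_one] at key
  have e : ζ - (ζ - σ) = σ := by ring
  rw [e, hσ] at key
  exact key

theorem comm_s1l3_of (hQ : ∀ a : F, a ∈ AddSubgroup.closure {z : F | ∃ y : F, y ≠ 0 ∧ z = y ^ 2})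
    (seed : Commute (D.xs 1 1) (D.xl 3 1)) (a b : F) : Commute (D.xs 1 a) (D.xl 3 b) := by
  refine commute_of_span (D.xs 1) (D.xl 3) (D.xs_zero 1) (D.xs_add 1) (D.xs_neg 1)
    (D.xl_zero 3) (D.xl_add 3) (D.xl_neg 3) _ _ nonzero_span hQ ?_ a b
  rintro s (hs : s ≠ 0) t ⟨z, hz0, rfl⟩
  obtain ⟨σ, hσ⟩ := exists_zpow D hs
  obtain ⟨ζ, hζ⟩ := exists_zpow D hz0
  have key := conj_commute (D.tor ζ (σ - ζ)) _ _ seed
  rw [D.tor_xs, D.tor_xl, es1, el3, zpow_two_mul, hζ, mul_one, mul_one] at key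
  have e : ζ + (σ - ζ) = σ := by ring
  rw [e, hσ] at key
  exact key

end C2Data

end Cfsg.Agent.Helper21.S2293
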