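import Cfsg.Agent.Helper21.S2293DEFS
import Cfsg.Agent.Helper21.S2286FIN
import Cfsg.Agent.Helper19.S2293ROOTS4

/-! S2293 piece COMMB (driver helper21): the two non-trivial Chevalley commutator relations of type
`C₂` for all parameters from one instance each (torus orbits + additivity + sums of squares). -/

set_option linter.unusedVariables false

namespace Cfsg.Agent.Helper21.S2293

open Multiplicative Cfsg.Agent.Helper21.S2286

variable {F : Type*} [Field F] {P : Type*} [Group P] (D : C2Data F P)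

namespace C2Data

namespace COMMB

theorem exists_zpow {F : Type*} [Field F] {P : Type*} [Group P] (D : C2Data F P) {b : F}
    (hb : b ≠ 0) : ∃ β : ℤ, (D.ω : F) ^ β = b := by
  obtain ⟨β, hβ⟩ := Subgroup.mem_zpowers_iff.mp (D.hω (Units.mk0 b hb))
  refine ⟨β, ?_⟩
  have := congrArg (fun u : Fˣ => (u : F)) hβ
  simpa using this

/-- conjugating a commutator identity -/
theorem conj_comm {P : Type*} [Group P] (T x y z : P) (h : x * y * x⁻¹ * y⁻¹ = z) :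
    (T * x * T⁻¹) * (T * y * T⁻¹) * (T * x * T⁻¹)⁻¹ * (T * y * T⁻¹)⁻¹ = T * z * T⁻¹ := by
  rw [← h]; group

theorem comm_prod' {P : Type*} [Group P] (x y y' : P) :
    x * (y * y') * x⁻¹ * (y * y')⁻¹ = (x * y * x⁻¹ * y⁻¹) * (y * (x * y' * x⁻¹ * y'⁻¹) * y⁻¹) := by
  group

/-- `[x, y⁻¹] = y⁻¹ [x,y]⁻¹ y` -/
theorem comm_inv' {P : Type*} [Group P] (x y : P) :
    x * y⁻¹ * x⁻¹ * y⁻¹⁻¹ = y⁻¹ * (x * y * x⁻¹ * y⁻¹)⁻¹ * y := by
  group

theorem es0 (i j : ℤ) : es i j 0 = i - j := rfl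
theorem es1 (i j : ℤ) : es i j 1 = i + j := rfl
theorem el0 (i j : ℤ) : el i j 0 = 2 * j := rfl
theorem el3 (i j : ℤ) : el i j 3 = 2 * i := rfl

theorem zpow_two_mul {F : Type*} [Field F] (w : F) (υ : ℤ) : w ^ (2 * υ) = (w ^ υ) ^ 2 := by
  rw [mul_comm, zpow_mul]; norm_cast

/-- multiplying the generating set of squares by a nonzero scalar still spans. -/
theorem scaled_span {F : Type*} [Field F]
    (hQ : ∀ a : F, a ∈ AddSubgroup.closure {z : F | ∃ y : F, y ≠ 0 ∧ z = y ^ 2})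
    (S : AddSubgroup F) (s : F) (hs : s ≠ 0)
    (hS : ∀ y : F, y ≠ 0 → s⁻¹ * y ^ 2 ∈ S) (b : F) : b ∈ S := by
  -- the preimage of `S` under `z ↦ s⁻¹ z`
  let S' : AddSubgroup F :=
    { carrier := {z | s⁻¹ * z ∈ S}
      zero_mem' := by
        show s⁻¹ * 0 ∈ S
        rw [mul_zero]; exact S.zero_mem
      add_mem' := by
        intro z z' hz hz'
        show s⁻¹ * (z + z') ∈ S
        rw [mul_add]; exact S.add_mem hz hz'
      neg_mem' := by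
        intro z hz
        show s⁻¹ * (-z) ∈ S
        rw [mul_neg]; exact S.neg_mem hz }
  have hsub : {z : F | ∃ y : F, y ≠ 0 ∧ z = y ^ 2} ⊆ S' := by
    rintro z ⟨y, hy0, rfl⟩
    exact hS y hy0
  have : s * b ∈ S' := (AddSubgroup.closure_le S').mpr hsub (hQ (s * b))
  have h2 : s⁻¹ * (s * b) ∈ S := this
  rwa [← mul_assoc, inv_mul_cancel₀ hs, one_mul] at h2

end COMMB

open COMMB

/-! ## piece COMMB (the two non-trivial commutator relations from their seeds) -/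
theorem comm_aab_of (hQ : ∀ a : F, a ∈ AddSubgroup.closure {z : F | ∃ y : F, y ≠ 0 ∧ z = y ^ 2})
    (h03 : ∀ a b : F, Commute (D.xs 0 a) (D.xl 3 b))
    (h13 : ∀ a b : F, Commute (D.xs 1 a) (D.xl 3 b))
    (seed : D.xs 0 1 * D.xs 1 1 * (D.xs 0 1)⁻¹ * (D.xs 1 1)⁻¹ = D.xl 3 2) (a b : F) :
    D.xs 0 a * D.xs 1 b * (D.xs 0 a)⁻¹ * (D.xs 1 b)⁻¹ = D.xl 3 (2 * a * b) := by
  by_cases ha : a = 0
  · rw [ha, D.xs_zero, mul_zero, zero_mul, D.xl_zero]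
    group
  have hω0 : (D.ω : F) ≠ 0 := D.ω.ne_zero
  obtain ⟨σ, hσ⟩ := exists_zpow D ha
  let S : AddSubgroup F :=
    { carrier := {z | D.xs 0 a * D.xs 1 z * (D.xs 0 a)⁻¹ * (D.xs 1 z)⁻¹ = D.xl 3 (2 * a * z)}
      zero_mem' := by
        show D.xs 0 a * D.xs 1 0 * (D.xs 0 a)⁻¹ * (D.xs 1 0)⁻¹ = D.xl 3 (2 * a * 0)
        rw [mul_zero, D.xs_zero, D.xl_zero]
        group
      add_mem' := by
        intro z z' hz hz'
        show D.xs 0 a * D.xs 1 (z + z') * (D.xs 0 a)⁻¹ * (D.xs 1 (z + z'))⁻¹ =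
          D.xl 3 (2 * a * (z + z'))
        have hz1 : D.xs 0 a * D.xs 1 z * (D.xs 0 a)⁻¹ * (D.xs 1 z)⁻¹ = D.xl 3 (2 * a * z) := hz
        have hz2 : D.xs 0 a * D.xs 1 z' * (D.xs 0 a)⁻¹ * (D.xs 1 z')⁻¹ = D.xl 3 (2 * a * z') := hz'
        rw [D.xs_add, comm_prod', hz1, hz2, mul_add, D.xl_add]
        have hc := (h13 z (2 * a * z')).eq
        rw [hc, mul_assoc (D.xl 3 (2 * a * z')), mul_inv_cancel, mul_one]
      neg_mem' := by
        intro z hz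
        show D.xs 0 a * D.xs 1 (-z) * (D.xs 0 a)⁻¹ * (D.xs 1 (-z))⁻¹ = D.xl 3 (2 * a * -z)
        have hz1 : D.xs 0 a * D.xs 1 z * (D.xs 0 a)⁻¹ * (D.xs 1 z)⁻¹ = D.xl 3 (2 * a * z) := hz
        rw [D.xs_neg, comm_inv', hz1, mul_neg, D.xl_neg]
        have hc := (h13 z (2 * a * z)).eq
        have hc' : (D.xs 1 z)⁻¹ * (D.xl 3 (2 * a * z))⁻¹ = (D.xl 3 (2 * a * z))⁻¹ * (D.xs 1 z)⁻¹ := by
          rw [← mul_inv_rev, ← mul_inv_rev, hc]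
        rw [hc', mul_assoc, inv_mul_cancel, mul_one] }
  have hS : ∀ y : F, y ≠ 0 → a⁻¹ * y ^ 2 ∈ S := by
    intro y hy0
    show D.xs 0 a * D.xs 1 (a⁻¹ * y ^ 2) * (D.xs 0 a)⁻¹ * (D.xs 1 (a⁻¹ * y ^ 2))⁻¹ =
      D.xl 3 (2 * a * (a⁻¹ * y ^ 2))
    obtain ⟨υ, hυ⟩ := exists_zpow D hy0
    -- conjugate the seed by `tor υ (υ - σ)`
    have key := conj_comm (D.tor υ (υ - σ)) _ _ _ seed
    rw [D.tor_xs, D.tor_xs, D.tor_xl, es0, es1, el3] at key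
    have e1 : (D.ω : F) ^ (υ - (υ - σ)) * 1 = a := by
      have : υ - (υ - σ) = σ := by ring
      rw [this, hσ, mul_one]
    have e2 : (D.ω : F) ^ (υ + (υ - σ)) * 1 = a⁻¹ * y ^ 2 := by
      have : υ + (υ - σ) = -σ + 2 * υ := by ring
      rw [this, zpow_add₀ hω0, zpow_neg, hσ, zpow_two_mul, hυ, mul_one]
    have e3 : (D.ω : F) ^ (2 * υ) * 2 = 2 * a * (a⁻¹ * y ^ 2) := by
      rw [zpow_two_mul, hυ]
      field_simp
    rw [e1, e2, e3] at key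
    exact key
  exact scaled_span hQ S a ha hS b

theorem comm_ab_of (hQ : ∀ a : F, a ∈ AddSubgroup.closure {z : F | ∃ y : F, y ≠ 0 ∧ z = y ^ 2})
    (hl0l3 : ∀ a b : F, Commute (D.xl 0 a) (D.xl 3 b))
    (hl0s1 : ∀ a b : F, Commute (D.xl 0 a) (D.xs 1 b))
    (hs1l3 : ∀ a b : F, Commute (D.xs 1 a) (D.xl 3 b))
    (seed : D.xs 0 1 * D.xl 0 1 * (D.xs 0 1)⁻¹ * (D.xl 0 1)⁻¹ = D.xs 1 1 * D.xl 3 1) (a b : F) :
    D.xs 0 a * D.xl 0 b * (D.xs 0 a)⁻¹ * (D.xl 0 b)⁻¹ = D.xs 1 (a * b) * D.xl 3 (a ^ 2 * b) := by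
  by_cases ha : a = 0
  · rw [ha, D.xs_zero, zero_mul, D.xs_zero]
    have : (0 : F) ^ 2 * b = 0 := by ring
    rw [this, D.xl_zero]
    group
  have hω0 : (D.ω : F) ≠ 0 := D.ω.ne_zero
  obtain ⟨σ, hσ⟩ := exists_zpow D ha
  let S : AddSubgroup F :=
    { carrier := {z | D.xs 0 a * D.xl 0 z * (D.xs 0 a)⁻¹ * (D.xl 0 z)⁻¹ =
        D.xs 1 (a * z) * D.xl 3 (a ^ 2 * z)}
      zero_mem' := by
        show D.xs 0 a * D.xl 0 0 * (D.xs 0 a)⁻¹ * (D.xl 0 0)⁻¹ =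
          D.xs 1 (a * 0) * D.xl 3 (a ^ 2 * 0)
        rw [mul_zero, mul_zero, D.xs_zero, D.xl_zero, D.xl_zero]
        group
      add_mem' := by
        intro z z' hz hz'
        show D.xs 0 a * D.xl 0 (z + z') * (D.xs 0 a)⁻¹ * (D.xl 0 (z + z'))⁻¹ =
          D.xs 1 (a * (z + z')) * D.xl 3 (a ^ 2 * (z + z'))
        have hz1 : D.xs 0 a * D.xl 0 z * (D.xs 0 a)⁻¹ * (D.xl 0 z)⁻¹ =
          D.xs 1 (a * z) * D.xl 3 (a ^ 2 * z) := hz
        have hz2 : D.xs 0 a * D.xl 0 z' * (D.xs 0 a)⁻¹ * (D.xl 0 z')⁻¹ =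
          D.xs 1 (a * z') * D.xl 3 (a ^ 2 * z') := hz'
        rw [D.xl_add, comm_prod', hz1, hz2, mul_add, mul_add, D.xs_add, D.xl_add]
        have c1 := (hl0s1 z (a * z')).eq
        have c2 := (hl0l3 z (a ^ 2 * z')).eq
        have c3 := (hs1l3 (a * z') (a ^ 2 * z)).eq
        calc D.xs 1 (a * z) * D.xl 3 (a ^ 2 * z) *
              (D.xl 0 z * (D.xs 1 (a * z') * D.xl 3 (a ^ 2 * z')) * (D.xl 0 z)⁻¹)
            = D.xs 1 (a * z) * D.xl 3 (a ^ 2 * z) *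
              ((D.xl 0 z * D.xs 1 (a * z')) * D.xl 3 (a ^ 2 * z') * (D.xl 0 z)⁻¹) := by group
          _ = D.xs 1 (a * z) * D.xl 3 (a ^ 2 * z) *
              (D.xs 1 (a * z') * (D.xl 0 z * D.xl 3 (a ^ 2 * z')) * (D.xl 0 z)⁻¹) := by
              rw [c1]; group
          _ = D.xs 1 (a * z) * D.xl 3 (a ^ 2 * z) *
              (D.xs 1 (a * z') * (D.xl 3 (a ^ 2 * z') * D.xl 0 z) * (D.xl 0 z)⁻¹) := by rw [c2]
          _ = D.xs 1 (a * z) * (D.xl 3 (a ^ 2 * z) * D.xs 1 (a * z')) * D.xl 3 (a ^ 2 * z') := by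
              group
          _ = D.xs 1 (a * z) * (D.xs 1 (a * z') * D.xl 3 (a ^ 2 * z)) * D.xl 3 (a ^ 2 * z') := by
              rw [c3]
          _ = D.xs 1 (a * z) * D.xs 1 (a * z') * (D.xl 3 (a ^ 2 * z) * D.xl 3 (a ^ 2 * z')) := by
              group
      neg_mem' := by
        intro z hz
        show D.xs 0 a * D.xl 0 (-z) * (D.xs 0 a)⁻¹ * (D.xl 0 (-z))⁻¹ =
          D.xs 1 (a * -z) * D.xl 3 (a ^ 2 * -z)
        have hz1 : D.xs 0 a * D.xl 0 z * (D.xs 0 a)⁻¹ * (D.xl 0 z)⁻¹ =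
          D.xs 1 (a * z) * D.xl 3 (a ^ 2 * z) := hz
        rw [D.xl_neg, comm_inv', hz1, mul_neg, mul_neg, D.xs_neg, D.xl_neg]
        have c1 := (hl0s1 z (a * z)).eq
        have c2 := (hl0l3 z (a ^ 2 * z)).eq
        have c3 := (hs1l3 (a * z) (a ^ 2 * z)).eq
        -- `y⁻¹ (s l)⁻¹ y = (s l)⁻¹ = s⁻¹ l⁻¹`
        have hy : D.xl 0 z * (D.xs 1 (a * z) * D.xl 3 (a ^ 2 * z)) =
            (D.xs 1 (a * z) * D.xl 3 (a ^ 2 * z)) * D.xl 0 z := by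
          calc D.xl 0 z * (D.xs 1 (a * z) * D.xl 3 (a ^ 2 * z))
              = (D.xl 0 z * D.xs 1 (a * z)) * D.xl 3 (a ^ 2 * z) := by group
            _ = D.xs 1 (a * z) * (D.xl 0 z * D.xl 3 (a ^ 2 * z)) := by rw [c1]; group
            _ = D.xs 1 (a * z) * (D.xl 3 (a ^ 2 * z) * D.xl 0 z) := by rw [c2]
            _ = _ := by group
        have hy' : (D.xl 0 z)⁻¹ * (D.xs 1 (a * z) * D.xl 3 (a ^ 2 * z))⁻¹ =
            (D.xs 1 (a * z) * D.xl 3 (a ^ 2 * z))⁻¹ * (D.xl 0 z)⁻¹ := by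
          rw [← mul_inv_rev, ← mul_inv_rev, hy]
        rw [hy', mul_assoc, inv_mul_cancel, mul_one, c3, mul_inv_rev] }
  have hS : ∀ y : F, y ≠ 0 → y ^ 2 ∈ S := by
    intro y hy0
    show D.xs 0 a * D.xl 0 (y ^ 2) * (D.xs 0 a)⁻¹ * (D.xl 0 (y ^ 2))⁻¹ =
      D.xs 1 (a * y ^ 2) * D.xl 3 (a ^ 2 * y ^ 2)
    obtain ⟨υ, hυ⟩ := exists_zpow D hy0
    -- conjugate the seed by `tor (σ + υ) υ`
    have key := conj_comm (D.tor (σ + υ) υ) _ _ _ seed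
    have split : D.tor (σ + υ) υ * (D.xs 1 1 * D.xl 3 1) * (D.tor (σ + υ) υ)⁻¹ =
        (D.tor (σ + υ) υ * D.xs 1 1 * (D.tor (σ + υ) υ)⁻¹) *
          (D.tor (σ + υ) υ * D.xl 3 1 * (D.tor (σ + υ) υ)⁻¹) := by group
    rw [split, D.tor_xs, D.tor_xl, D.tor_xs, D.tor_xl, es0, es1, el0, el3] at key
    have e1 : (D.ω : F) ^ (σ + υ - υ) * 1 = a := by
      have : σ + υ - υ = σ := by ring
      rw [this, hσ, mul_one]
    have e2 : (D.ω : F) ^ (2 * υ) * 1 = y ^ 2 := by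
      rw [zpow_two_mul, hυ, mul_one]
    have e3 : (D.ω : F) ^ (σ + υ + υ) * 1 = a * y ^ 2 := by
      have : σ + υ + υ = σ + 2 * υ := by ring
      rw [this, zpow_add₀ hω0, hσ, zpow_two_mul, hυ, mul_one]
    have e4 : (D.ω : F) ^ (2 * (σ + υ)) * 1 = a ^ 2 * y ^ 2 := by
      rw [zpow_two_mul, zpow_add₀ hω0, hσ, hυ, mul_one]
      ring
    rw [e1, e2, e3, e4] at key
    exact key
  have hsub : {z : F | ∃ y : F, y ≠ 0 ∧ z = y ^ 2} ⊆ S := by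
    rintro z ⟨y, hy0, rfl⟩
    exact hS y hy0
  exact (AddSubgroup.closure_le S).mpr hsub (hQ b)

end C2Data

end Cfsg.Agent.Helper21.S2293
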