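import Mathlib
import Cfsg.Agent.Helper21.S2549Defs
import Cfsg.Agent.Helper18.S2549PRESJ

set_option autoImplicit false
open scoped Matrix

namespace Cfsg.Agent.S2549P

open Cfsg.Agent.MatBN

variable {K : Type*} [Field K]

namespace DIAGCASE

theorem mul_pMat_apply (n : ℕ) (M : Matrix (Fin n) (Fin n) K) (π : Equiv.Perm (Fin n)) (a c : Fin n) :
    (M * (Cfsg.Agent.S2546P.pMat n π : Matrix _ _ K)) a c = M a (π c) := by
  rw [Matrix.mul_apply]
  rw [Finset.sum_eq_single (π c)]
  · simp [Cfsg.Agent.S2546P.pMat]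
  · intro j _ hj
    simp [Cfsg.Agent.S2546P.pMat, hj]
  · intro h; exact absurd (Finset.mem_univ _) h

end DIAGCASE

open DIAGCASE in
theorem diag_cases (m : ℕ) (M : Matrix (Fin (2 * m + 2)) (Fin (2 * m + 2)) K)
    (hP : PresQ (2 * m + 2) M)
    (hcol : ∀ c : Fin (2 * m + 2), ¬ (m ≤ c.val ∧ c.val ≤ m + 1) → ∀ r, r ≠ c → M r c = 0) :
    IsDg M ∨ IsDg (M * Cfsg.Agent.S2546P.pMat (2 * m + 2) (swapM m)) := by
  obtain ⟨hJ, hQ⟩ := (presQ_iff m M).1 hP
  -- the two middle positions
  set pm : Fin (2 * m + 2) := ⟨m, by omega⟩ with hpm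
  set pm1 : Fin (2 * m + 2) := ⟨m + 1, by omega⟩ with hpm1
  have hne : pm ≠ pm1 := by
    intro h; have := congrArg Fin.val h; simp [hpm, hpm1] at this
  have hrev : pm.rev = pm1 := by
    apply Fin.ext; simp [hpm, hpm1, Fin.rev]; omega
  have hrev1 : pm1.rev = pm := by
    apply Fin.ext; simp [hpm, hpm1, Fin.rev]; omega
  have hmid : ∀ c : Fin (2 * m + 2), (m ≤ c.val ∧ c.val ≤ m + 1) → c = pm ∨ c = pm1 := by
    intro c hc
    rcases Nat.lt_or_ge c.val (m + 1) with h | h
    · left; apply Fin.ext; simp [hpm]; omega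
    · right; apply Fin.ext; simp [hpm1]; omega
  have hnmid_rev : ∀ c : Fin (2 * m + 2), ¬ (m ≤ c.val ∧ c.val ≤ m + 1) →
      ¬ (m ≤ c.rev.val ∧ c.rev.val ≤ m + 1) := by
    intro c hc
    have := c.2
    simp only [Fin.val_rev]
    omega
  -- Step 1: diagonal entries outside the middle are nonzero
  have h1 : ∀ c : Fin (2 * m + 2), ¬ (m ≤ c.val ∧ c.val ≤ m + 1) → M c c * M c.rev c.rev = 1 := by
    intro c hc
    have h := hJ c c.rev
    rw [if_pos rfl] at h
    rw [Finset.sum_eq_single c] at h
    · exact h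
    · intro i _ hi
      rw [hcol c hc i hi, zero_mul]
    · intro h; exact absurd (Finset.mem_univ _) h
  -- Step 2: the middle columns vanish outside the middle rows
  have h2 : ∀ r k : Fin (2 * m + 2), ¬ (m ≤ r.val ∧ r.val ≤ m + 1) → (m ≤ k.val ∧ k.val ≤ m + 1) →
      M r k = 0 := by
    intro r k hr hk
    have hr' := hnmid_rev r hr
    have h := hJ r.rev k
    have hkr : ¬ (k = r.rev.rev) := by
      rw [Fin.rev_rev]; rintro rfl; exact hr hk
    rw [if_neg hkr] at h
    rw [Finset.sum_eq_single r.rev] at h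
    · rw [Fin.rev_rev] at h
      have hd := h1 r.rev hr'
      have hd' : M r.rev r.rev ≠ 0 := by
        intro h0; rw [h0, zero_mul] at hd; exact zero_ne_one hd
      exact (mul_eq_zero.1 h).resolve_left hd'
    · intro i _ hi
      rw [hcol r.rev hr' i hi, zero_mul]
    · intro h; exact absurd (Finset.mem_univ _) h
  have hpm_mid : m ≤ pm.val ∧ pm.val ≤ m + 1 := by simp [hpm]
  have hpm1_mid : m ≤ pm1.val ∧ pm1.val ≤ m + 1 := by simp [hpm1]
  -- Step 3: the quadratic conditions
  have h3 : ∀ k : Fin (2 * m + 2), (m ≤ k.val ∧ k.val ≤ m + 1) → M pm k * M pm1 k = 0 := by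
    intro k hk
    have h := hQ k
    rw [Finset.sum_eq_single pm] at h
    · rw [if_pos (by simp [hpm]), hrev] at h
      exact h
    · intro i _ hi
      split_ifs with hlt
      · have : ¬ (m ≤ i.val ∧ i.val ≤ m + 1) := by
          intro hh
          rcases hmid i hh with h' | h'
          · exact hi h'
          · rw [h'] at hlt; simp [hpm1] at hlt
        rw [h2 i k this hk, zero_mul]
      · rfl
    · intro h; exact absurd (Finset.mem_univ _) h
  -- Step 4
  have h4 : M pm pm * M pm1 pm1 + M pm1 pm * M pm pm1 = 1 := by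
    have h := hJ pm pm1
    rw [if_pos hrev.symm] at h
    rw [Finset.sum_eq_add pm pm1 hne] at h
    · rw [hrev, hrev1] at h; exact h
    · intro i _ hi
      have : ¬ (m ≤ i.val ∧ i.val ≤ m + 1) := by
        intro hh
        rcases hmid i hh with h' | h'
        · exact hi.1 h'
        · exact hi.2 h'
      rw [h2 i pm this hpm_mid, zero_mul]
    · intro h; exact absurd (Finset.mem_univ _) h
    · intro h; exact absurd (Finset.mem_univ _) h
  have hα := h3 pm hpm_mid
  have hγ := h3 pm1 hpm1_mid
  by_cases hβ : M pm1 pm = 0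
  · left
    rw [hβ, zero_mul, add_zero] at h4
    have hδ : M pm1 pm1 ≠ 0 := by
      intro h0; rw [h0, mul_zero] at h4; exact zero_ne_one h4
    have hγ0 : M pm pm1 = 0 := (mul_eq_zero.1 hγ).resolve_right hδ
    intro a c hac
    by_cases hc : (m ≤ c.val ∧ c.val ≤ m + 1)
    · by_cases ha : (m ≤ a.val ∧ a.val ≤ m + 1)
      · rcases hmid a ha with rfl | rfl <;> rcases hmid c hc with rfl | rfl
        · exact absurd rfl hac
        · exact hγ0
        · exact hβ
        · exact absurd rfl hac
      · exact h2 a c ha hc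
    · exact hcol c hc a hac
  · right
    have hα0 : M pm pm = 0 := (mul_eq_zero.1 hα).resolve_right hβ
    rw [hα0, zero_mul, zero_add] at h4
    have hγ' : M pm pm1 ≠ 0 := by
      intro h0; rw [h0, mul_zero] at h4; exact zero_ne_one h4
    have hδ0 : M pm1 pm1 = 0 := (mul_eq_zero.1 hγ).resolve_left hγ'
    intro a c hac
    rw [mul_pMat_apply]
    by_cases hc : (m ≤ c.val ∧ c.val ≤ m + 1)
    · rcases hmid c hc with rfl | rfl
      · have hs : swapM m pm = pm1 := by
          simp [swapM, hpm, hpm1]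
        rw [hs]
        by_cases ha : (m ≤ a.val ∧ a.val ≤ m + 1)
        · rcases hmid a ha with rfl | rfl
          · exact absurd rfl hac
          · exact hδ0
        · exact h2 a pm1 ha hpm1_mid
      · have hs : swapM m pm1 = pm := by
          simp [swapM, hpm, hpm1]
        rw [hs]
        by_cases ha : (m ≤ a.val ∧ a.val ≤ m + 1)
        · rcases hmid a ha with rfl | rfl
          · exact hα0
          · exact absurd rfl hac
        · exact h2 a pm ha hpm_mid
    · have hs : swapM m c = c := by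
        unfold swapM
        apply Equiv.swap_apply_of_ne_of_ne
        · intro h; apply hc; rw [h]; simp
        · intro h; apply hc; rw [h]; simp
      rw [hs]
      exact hcol c hc a hac

end Cfsg.Agent.S2549P
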