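import Cfsg.Agent.Helper29.S5677.Defs
import Cfsg.Agent.Helper20.S5677CMP2

set_option autoImplicit false
set_option linter.unusedSectionVars false
set_option linter.unusedVariables false

/-! S5677 piece PARTNER (driver helper29): a singular vector with a nonsingular component has another
nonsingular component. -/

namespace Cfsg.Agent.S5677P

open Matrix Cfsg.Agent.Helper28.Sg Cfsg.Agent.Helper28.Spin Cfsg.Agent.Helper12.OrthGen
  Cfsg.Agent.S2614 Cfsg.Agent.S5683P Cfsg.Agent.Helper28.NDM

variable {F : Type*} [Field F] {m t k : ℕ} {D : Fin t → Submodule F (Idx m → F)}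
  {M : Subgroup (OG m F)}

/-- a singular vector with a nonsingular component has another nonsingular component
(CMP2.Q_sum) -/
theorem PARTNER.exists (hD : HD k D) {v : Idx m → F} (hQv : QfOdd m F v = 0) {c : Fin t}
    (hQ : QfOdd m F (cmp D c v) ≠ 0) : ∃ c', c' ≠ c ∧ QfOdd m F (cmp D c' v) ≠ 0 := by
  by_contra hcon
  push Not at hcon
  apply hQ
  have h1 := CMP2.Q_sum hD v
  rw [hQv] at h1
  rw [Finset.sum_eq_single c] at h1
  · exact h1.symm
  · intro b _ hb
    exact hcon b hb
  · intro hc
    exact absurd (Finset.mem_univ c) hc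

end Cfsg.Agent.S5677P
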