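import Cfsg.Agent.Helper29.S5677.Defs

set_option autoImplicit false
set_option linter.unusedSectionVars false
set_option linter.unusedVariables false
set_option linter.style.haveILetI false

/-! S5677 piece UNIV (driver helper29): a nondegenerate binary quadratic form over a finite field of odd order is
universal. -/

namespace Cfsg.Agent.S5677P

open Matrix Cfsg.Agent.Helper28.Sg Cfsg.Agent.Helper28.Spin Cfsg.Agent.Helper12.OrthGen
  Cfsg.Agent.S2614 Cfsg.Agent.S5683P Cfsg.Agent.Helper28.NDM

variable {F : Type*} [Field F] {m t k : ℕ} {D : Fin t → Submodule F (Idx m → F)}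
  {M : Subgroup (OG m F)}

namespace UNIV

theorem card_odd [Fintype F] (h2 : (2 : F) ≠ 0) : Fintype.card F % 2 = 1 := by
  rcases Nat.mod_two_eq_zero_or_one (Fintype.card F) with h | h
  · exfalso
    apply h2
    have hd : 2 ∣ Fintype.card F := Nat.dvd_of_mod_eq_zero h
    obtain ⟨p, hp⟩ := CharP.exists F
    haveI := hp
    haveI : Fact p.Prime := ⟨CharP.char_is_prime F p⟩
    obtain ⟨n, _, hn⟩ := FiniteField.card F p
    rw [hn] at hd
    have h2p : 2 ∣ p := (Nat.Prime.dvd_of_dvd_pow Nat.prime_two hd)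
    have hp2 : p = 2 := ((Nat.prime_dvd_prime_iff_eq Nat.prime_two (Fact.out)).1 h2p).symm
    subst hp2
    exact CharTwo.two_eq_zero
  · exact h

end UNIV

/-- a nondegenerate binary quadratic form over a finite field of odd order is universal -/
theorem UNIV.exists [Fintype F] (h2 : (2 : F) ≠ 0) {α β : F} (hα : α ≠ 0) (hβ : β ≠ 0) (γ : F) :
    ∃ x y : F, α * x ^ 2 + β * y ^ 2 = γ := by
  open Polynomial in
  have hf : (Polynomial.C α * Polynomial.X ^ 2 : F[X]).degree = 2 := by
    rw [Polynomial.degree_C_mul_X_pow 2 hα]; rfl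
  have hg : (Polynomial.C β * Polynomial.X ^ 2 - Polynomial.C γ : F[X]).degree = 2 := by
    rw [Polynomial.degree_sub_eq_left_of_degree_lt]
    · rw [Polynomial.degree_C_mul_X_pow 2 hβ]; rfl
    · rw [Polynomial.degree_C_mul_X_pow 2 hβ]
      exact lt_of_le_of_lt Polynomial.degree_C_le (by decide)
  obtain ⟨x, y, hxy⟩ := FiniteField.exists_root_sum_quadratic hf hg (UNIV.card_odd h2)
  refine ⟨x, y, ?_⟩
  simp only [Polynomial.eval_mul, Polynomial.eval_C, Polynomial.eval_pow, Polynomial.eval_X,
    Polynomial.eval_sub] at hxy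
  linear_combination hxy

end Cfsg.Agent.S5677P
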