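import Mathlib
import Cfsg.Prelude.Def_Classical
import Cfsg.Agent.Helper28.S3589Defs

/-! S3589 piece TRCOUNT (driver helper28): the number of nonzero singular vectors of the trace form
`Tr ∘ Q₀` of an anisotropic plane `Q₀` over `F_{q^d}`, `q` even, is `(q^d + 1)(q^(d-1) - 1)`. -/

set_option autoImplicit false

namespace Cfsg.Agent.S3589P

open Module Polynomial
open Cfsg.Agent.S5973P
open scoped Classical

namespace TRCOUNT

/-- the kernel of the trace of a finite field extension of degree `d` has `q^(d-1)` elements -/
theorem card_ker_trace {F K : Type*} [Field F] [Fintype F] [Field K] [Fintype K] [Algebra F K]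
    (d : ℕ) (hd : 1 ≤ d) (hK : Fintype.card K = Fintype.card F ^ d) :
    (Finset.univ.filter (fun c : K => Algebra.trace F K c = 0)).card = Fintype.card F ^ (d - 1) := by
  have : FiniteDimensional F K := Module.Finite.of_finite
  have : Algebra.IsSeparable F K := inferInstance
  have hsurj := Algebra.trace_surjective F K
  set S := LinearMap.ker (Algebra.trace F K) with hS
  have h1 := Submodule.card_eq_card_quotient_mul_card S
  have e := (Algebra.trace F K).quotKerEquivOfSurjective hsurj
  have h2 : Nat.card (K ⧸ S) = Nat.card F := Nat.card_congr e.toEquiv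
  rw [h2, Nat.card_eq_fintype_card, hK] at h1
  rw [Nat.card_eq_fintype_card (α := F)] at h1
  have hq : 0 < Fintype.card F := Fintype.card_pos
  have h3 : Nat.card S = Fintype.card F ^ (d - 1) := by
    have : Fintype.card F ^ d = Fintype.card F ^ (d - 1) * Fintype.card F := by
      rw [← pow_succ]; congr 1; omega
    rw [this] at h1
    exact (Nat.eq_of_mul_eq_mul_right hq h1).symm
  rw [← h3, Nat.card_eq_fintype_card, Fintype.card_subtype]
  congr 1

/-- all nonzero fibres of an anisotropic form over a finite field of characteristic 2 have the same size -/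
theorem card_fibre {K W : Type*} [Field K] [Fintype K] [CharP K 2] [AddCommGroup W] [Module K W]
    [Fintype W] (Q₀ : QuadraticForm K W) (c : K) (hc : c ≠ 0) :
    (Finset.univ.filter (fun v : W => Q₀ v = c)).card =
      (Finset.univ.filter (fun v : W => Q₀ v = 1)).card := by
  -- `c = s ^ 2`
  obtain ⟨s, hs⟩ : ∃ s : K, s ^ 2 = c := by
    have hbij : Function.Bijective (frobenius K 2) :=
      (Finite.injective_iff_bijective).mp (frobenius_inj K 2)
    obtain ⟨s, hs⟩ := hbij.2 c
    exact ⟨s, by simpa [frobenius_def] using hs⟩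
  have hs0 : s ≠ 0 := by
    rintro rfl
    apply hc
    rw [← hs]; ring
  symm
  refine Finset.card_bij' (fun v _ => s • v) (fun v _ => s⁻¹ • v) ?_ ?_ ?_ ?_
  · intro v hv
    simp only [Finset.mem_filter, Finset.mem_univ, true_and] at hv ⊢
    rw [QuadraticMap.map_smul, hv, smul_eq_mul, mul_one, ← hs]; ring
  · intro v hv
    simp only [Finset.mem_filter, Finset.mem_univ, true_and] at hv ⊢
    rw [QuadraticMap.map_smul, hv, smul_eq_mul, ← hs]
    field_simp
  · intro v _
    rw [smul_smul, inv_mul_cancel₀ hs0, one_smul]
  · intro v _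
    rw [smul_smul, mul_inv_cancel₀ hs0, one_smul]

end TRCOUNT

theorem card_singular_trQ {F : Type*} [Field F] [Fintype F] [CharP F 2] {K W : Type*} [Field K]
    [Fintype K] [Algebra F K] [AddCommGroup W] [Module K W] [Module F W] [IsScalarTower F K W]
    [FiniteDimensional K W] (Q₀ : QuadraticForm K W) (hW : finrank K W = 2)
    (han : ∀ v, Q₀ v = 0 → v = 0) (d : ℕ) (hd : 1 ≤ d)
    (hK : Fintype.card K = Fintype.card F ^ d) :
    Nat.card {v : W // v ≠ 0 ∧ trQ F Q₀ v = 0} =
      (Fintype.card F ^ d + 1) * (Fintype.card F ^ (d - 1) - 1) := by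
  have hcharK : CharP K 2 := charP_of_injective_algebraMap (algebraMap F K).injective 2
  have hfinW : Finite W := Module.finite_of_finite K
  let _ : Fintype W := Fintype.ofFinite W
  set N1 := (Finset.univ.filter (fun v : W => Q₀ v = 1)).card with hN1
  have hq2 : 2 ≤ Fintype.card F := Fintype.one_lt_card
  have hx2 : 2 ≤ Fintype.card F ^ d := by
    calc 2 ≤ Fintype.card F := hq2
      _ = Fintype.card F ^ 1 := (pow_one _).symm
      _ ≤ Fintype.card F ^ d := Nat.pow_le_pow_right (by omega) hd
  -- the number of vectors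
  have hcardW : Fintype.card W = (Fintype.card F ^ d) ^ 2 := by
    rw [Module.card_eq_pow_finrank (K := K) (V := W), hW, hK]
  -- the zero fibre
  have hzero : (Finset.univ.filter (fun v : W => Q₀ v = 0)).card = 1 := by
    rw [Finset.card_eq_one]
    refine ⟨0, ?_⟩
    ext v
    simp only [Finset.mem_filter, Finset.mem_univ, true_and, Finset.mem_singleton]
    exact ⟨han v, fun h => by rw [h, map_zero]⟩
  -- fibre decomposition of `W`
  have hsum : Fintype.card W = ∑ c : K, (Finset.univ.filter (fun v : W => Q₀ v = c)).card := by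
    rw [← Finset.card_univ]
    exact Finset.card_eq_sum_card_fiberwise (fun v _ => Finset.mem_univ _)
  have hsum2 : ∑ c : K, (Finset.univ.filter (fun v : W => Q₀ v = c)).card =
      1 + (Fintype.card F ^ d - 1) * N1 := by
    rw [← Finset.add_sum_erase Finset.univ _ (Finset.mem_univ (0 : K)), hzero]
    congr 1
    rw [Finset.sum_const_nat (m := N1)]
    · rw [Finset.card_erase_of_mem (Finset.mem_univ _), Finset.card_univ, hK]
    · intro c hc
      exact TRCOUNT.card_fibre Q₀ c (Finset.ne_of_mem_erase hc)
  have hN : N1 = Fintype.card F ^ d + 1 := by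
    have h := hcardW.symm.trans (hsum.trans hsum2)
    obtain ⟨y, hy⟩ : ∃ y, Fintype.card F ^ d = y + 2 := ⟨Fintype.card F ^ d - 2, by omega⟩
    rw [hy] at h ⊢
    have h' : (y + 1) * (y + 3) = (y + 1) * N1 := by
      have : y + 2 - 1 = y + 1 := by omega
      rw [this] at h
      nlinarith
    have := Nat.eq_of_mul_eq_mul_left (by omega : 0 < y + 1) h'
    omega
  -- the trace-zero nonzero values
  set T := Finset.univ.filter (fun c : K => c ≠ 0 ∧ Algebra.trace F K c = 0) with hT
  have hTcard : T.card = Fintype.card F ^ (d - 1) - 1 := by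
    rw [← TRCOUNT.card_ker_trace (F := F) (K := K) d hd hK]
    have : T = (Finset.univ.filter (fun c : K => Algebra.trace F K c = 0)).erase 0 := by
      ext c
      simp only [hT, Finset.mem_filter, Finset.mem_univ, true_and, Finset.mem_erase]
    rw [this, Finset.card_erase_of_mem]
    simp
  -- the count
  rw [Nat.card_eq_fintype_card, Fintype.card_subtype]
  have hfib := Finset.card_eq_sum_card_fiberwise
    (s := Finset.univ.filter (fun v : W => v ≠ 0 ∧ trQ F Q₀ v = 0)) (t := T) (f := fun v => Q₀ v)
    (by
      intro v hv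
      simp only [Finset.coe_filter, Finset.mem_univ, true_and, Set.mem_ofPred_eq] at hv
      simp only [hT, Finset.coe_filter, Finset.mem_univ, true_and, Set.mem_ofPred_eq]
      exact ⟨fun h => hv.1 (han v h), hv.2⟩)
  rw [hfib, Finset.sum_const_nat (m := N1), hTcard, hN, mul_comm]
  intro c hc
  rw [hN1]
  rw [← TRCOUNT.card_fibre Q₀ c (by
    simp only [hT, Finset.mem_filter] at hc
    exact hc.2.1)]
  congr 1
  ext v
  simp only [hT, Finset.mem_filter, Finset.mem_univ, true_and] at hc ⊢
  constructor
  · rintro ⟨_, h⟩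
    exact h
  · intro h
    refine ⟨⟨?_, ?_⟩, h⟩
    · rintro rfl
      rw [map_zero] at h
      exact hc.1 h.symm
    · rw [trQ_apply, h]
      exact hc.2

end Cfsg.Agent.S3589P
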