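import Mathlib
import Cfsg.Prelude.Def_Classical
import Cfsg.Agent.Helper28.S3589Defs

/-! S3589 piece TRQ (driver helper28): restriction of scalars `Tr ∘ Q₀` of a nondegenerate quadratic form
over a finite extension of finite fields stays nondegenerate. -/

set_option autoImplicit false

namespace Cfsg.Agent.S3589P

open Module Polynomial
open Cfsg.Agent.S5973P
open scoped Classical

namespace TRQ

/-- finite fields: the trace form separates points -/
theorem trace_sep {F K : Type*} [Field F] [Fintype F] [Field K] [Fintype K] [Algebra F K] (x : K)
    (h : ∀ c : K, Algebra.trace F K (c * x) = 0) : x = 0 := by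
  have : FiniteDimensional F K := Module.Finite.of_finite
  have : Algebra.IsSeparable F K := inferInstance
  have hnd := traceForm_nondegenerate F K
  exact hnd.2 x (fun c => by
    show Algebra.trace F K (c * x) = 0
    exact h c)

end TRQ

/-- TRQ: restriction of scalars preserves nondegeneracy. -/
theorem nd_trQ {F : Type*} [Field F] [Fintype F] {K W : Type*} [Field K] [Fintype K] [Algebra F K]
    [AddCommGroup W] [Module K W] [Module F W] [IsScalarTower F K W] (Q₀ : QuadraticForm K W)
    (h : ND Q₀) : ND (trQ F Q₀) := by
  have key : ∀ u : W, (∀ v : W, QuadraticMap.polar (trQ F Q₀) u v = 0) → u = 0 := by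
    intro u hu
    apply h.1 u
    intro v
    show QuadraticMap.polar Q₀ u v = 0
    apply TRQ.trace_sep (F := F)
    intro c
    have := hu (c • v)
    unfold trQ at this
    rw [LinearMap.compQuadraticMap_polar, QuadraticMap.polar_smul_right] at this
    simpa using this
  refine ⟨fun v hv => key v hv, fun v hv => key v fun w => ?_⟩
  rw [QuadraticMap.polar_comm]; exact hv w

end Cfsg.Agent.S3589P
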