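import Mathlib
import Cfsg.Prelude.Def_Classical
import Cfsg.Agent.Helper28.S3589Defs
import Cfsg.Agent.Helper22.S3589TRANSP
import Cfsg.Agent.Helper8.S3589TRQ
import Cfsg.Agent.Helper8.S3589TRCOUNT
import Cfsg.Agent.Helper1.S5973STD
import Cfsg.Agent.Helper28.Spin6
import Cfsg.Agent.Helper28.LocBal23
import Cfsg.Agent.Helper2.GO2Minus

/-! S3589 piece TMINUS (driver helper28): the nonsplit torus block: the trace form of an anisotropic plane
over `F_{q^d}` is a minus-type space of dimension `2d` over `F_q` with an isometry of order `q^d + 1`. -/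

set_option autoImplicit false

namespace Cfsg.Agent.S3589P

open Module Polynomial
open Cfsg.Agent.S5973P
open scoped Classical

namespace TMINUS

/-- powers of the restriction of scalars of a matrix map -/
theorem restrict_pow {F K : Type*} [Field F] [Field K] [Algebra F K] {ι : Type} [Fintype ι]
    [DecidableEq ι] (M : Matrix ι ι K) (j : ℕ) (v : ι → K) :
    (((Matrix.toLin' M).restrictScalars F : Module.End F (ι → K)) ^ j) v = (M ^ j).mulVec v := by
  induction j generalizing v with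
  | zero => simp
  | succ j ih =>
    rw [pow_succ, Module.End.mul_apply, ih, pow_succ]
    show (M ^ j).mulVec (M.mulVec v) = _
    rw [Matrix.mulVec_mulVec]

theorem restrict_pow_eq_one_iff {F K : Type*} [Field F] [Field K] [Algebra F K] {ι : Type}
    [Fintype ι] [DecidableEq ι] (M : Matrix ι ι K) (j : ℕ) :
    ((Matrix.toLin' M).restrictScalars F : Module.End F (ι → K)) ^ j = 1 ↔ M ^ j = 1 := by
  constructor
  · intro h
    apply Matrix.toLin'.injective
    apply LinearMap.ext
    intro v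
    have := congrArg (fun f : Module.End F (ι → K) => f v) h
    simp only [restrict_pow, Module.End.one_apply] at this
    rw [Matrix.toLin'_apply, this, Matrix.toLin'_one, LinearMap.id_apply]
  · intro h
    apply LinearMap.ext
    intro v
    rw [restrict_pow, h, Matrix.one_mulVec, Module.End.one_apply]

end TMINUS

/-- TMINUS: the nonsplit torus. -/
theorem hasBlock_torus_minus {F : Type*} [Field F] [Fintype F] [CharP F 2] (d : ℕ) (hd : 1 ≤ d) :
    HasBlock F d false (Fintype.card F ^ d + 1) := by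
  have : NeZero d := ⟨by omega⟩
  have : Fact (Nat.Prime 2) := ⟨Nat.prime_two⟩
  let K := FiniteField.Extension F 2 d
  let _ : Fintype K := Fintype.ofFinite K
  have hcardK : Fintype.card K = Fintype.card F ^ d := by
    have := FiniteField.natCard_extension F 2 d
    rwa [Nat.card_eq_fintype_card, Nat.card_eq_fintype_card] at this
  obtain ⟨a', b', hab⟩ := Cfsg.Agent.Helper28.LB.exists_aniso_binary (K := K)
  let Q₀ : QuadraticForm K ((Fin 0 ⊕ Fin 0) ⊕ Fin 2 → K) := Cfsg.Agent.Helper28.Spin.QfMinus 0 K a' b'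
  have hstd := std_minus 0 a' b' hab
  have hQ₀ : ∀ v, Q₀ v = v (.inr 0) ^ 2 + a' * v (.inr 0) * v (.inr 1) + b' * v (.inr 1) ^ 2 := by
    intro v
    show Cfsg.quadFormMinus 0 K a' b' v = _
    unfold Cfsg.quadFormMinus
    simp
  -- anisotropic
  have han : ∀ v, Q₀ v = 0 → v = 0 := by
    intro v hv
    rw [hQ₀] at hv
    obtain ⟨h0, h1⟩ := hab _ _ hv
    funext i
    rcases i with (i | i) | i
    · exact i.elim0
    · exact i.elim0
    · fin_cases i
      · exact h0
      · exact h1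
  have hWK : finrank K ((Fin 0 ⊕ Fin 0) ⊕ Fin 2 → K) = 2 := by
    rw [Module.finrank_fintype_fun_eq_card]
    simp
  have hfin : finrank F ((Fin 0 ⊕ Fin 0) ⊕ Fin 2 → K) = 2 * d := by
    rw [← Module.finrank_mul_finrank F K ((Fin 0 ⊕ Fin 0) ⊕ Fin 2 → K), hWK,
      FiniteField.finrank_extension, mul_comm]
  have hND : ND (trQ F Q₀) := nd_trQ Q₀ hstd.1
  have hq2 : 2 ≤ Fintype.card F := Fintype.one_lt_card
  -- not hyperbolic
  have hnot : ¬ IsHyp (trQ F Q₀) := by
    intro hH
    have h1 := card_singular (trQ F Q₀) hND d hfin true (by simp [hH])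
    have h2 := card_singular_trQ (F := F) Q₀ hWK han d hd hcardK
    rw [h1] at h2
    simp only [nsing, if_true] at h2
    obtain ⟨e, rfl⟩ : ∃ e, d = e + 1 := ⟨d - 1, by omega⟩
    simp only [Nat.add_sub_cancel] at h2
    have hx : 1 ≤ Fintype.card F ^ e := Nat.one_le_pow _ _ (by omega)
    rw [pow_succ] at h2
    obtain ⟨x, hx'⟩ : ∃ x, Fintype.card F ^ e = x + 1 := ⟨Fintype.card F ^ e - 1, by omega⟩
    obtain ⟨q', hq'⟩ : ∃ q', Fintype.card F = q' + 2 := ⟨Fintype.card F - 2, by omega⟩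
    rw [hx', hq'] at h2
    have e1 : (x + 1) * (q' + 2) - 1 = x * q' + 2 * x + q' + 1 := by
      have : (x + 1) * (q' + 2) = x * q' + 2 * x + q' + 2 := by ring
      omega
    have e2 : x + 1 - 1 = x := by omega
    rw [e1, e2] at h2
    nlinarith
  -- the isometry
  obtain ⟨e⟩ := Cfsg.Agent.Helper2.GO2Minus.nonempty_mulEquiv (F := K) (q := Fintype.card K) rfl a' b' hab
  let ρ := e.symm (DihedralGroup.r 1)
  have hρord : orderOf ρ = Fintype.card K + 1 := by
    rw [MulEquiv.orderOf_eq, DihedralGroup.orderOf_r_one]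
  let M : Matrix ((Fin 0 ⊕ Fin 0) ⊕ Fin 2) ((Fin 0 ⊕ Fin 0) ⊕ Fin 2) K :=
    ((ρ : Matrix.GeneralLinearGroup ((Fin 0 ⊕ Fin 0) ⊕ Fin 2) K) :
      Matrix ((Fin 0 ⊕ Fin 0) ⊕ Fin 2) ((Fin 0 ⊕ Fin 0) ⊕ Fin 2) K)
  let y : Module.End F ((Fin 0 ⊕ Fin 0) ⊕ Fin 2 → K) := (Matrix.toLin' M).restrictScalars F
  have hiso : ∀ v, trQ F Q₀ (y v) = trQ F Q₀ v := by
    intro v
    rw [trQ_apply, trQ_apply]
    congr 1
    exact ρ.2 v v
  have hord : ∀ j : ℕ, y ^ j = 1 ↔ (Fintype.card F ^ d + 1) ∣ j := by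
    intro j
    rw [TMINUS.restrict_pow_eq_one_iff, ← hcardK, ← hρord, orderOf_dvd_iff_pow_eq_one]
    constructor
    · intro h
      apply Subtype.ext
      apply Units.ext
      simpa [M] using h
    · intro h
      have := congrArg (fun g : ↥(Cfsg.isometryGroup K (Cfsg.quadFormMinus 0 K a' b')) =>
        ((g : Matrix.GeneralLinearGroup ((Fin 0 ⊕ Fin 0) ⊕ Fin 2) K) :
          Matrix ((Fin 0 ⊕ Fin 0) ⊕ Fin 2) ((Fin 0 ⊕ Fin 0) ⊕ Fin 2) K)) h
      simpa [M] using this
  exact hasBlock_of_space (trQ F Q₀) y d false _ hND hfin (by simp [hnot]) hiso hord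

end Cfsg.Agent.S3589P
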