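import Mathlib
import Cfsg.Prelude.Def_RootSubgroups
import Cfsg.Agent.Helper25.RootInvA

set_option autoImplicit false

/-!
# S5046 piece Z2: odd partners of the product of a four-group in `D`
-/

namespace Cfsg.Agent.S5046P

variable {G : Type*} [Group G] {D : Set G}

/-- if `(a*y)^4 = 1` for involutions `a`, `y` then `(y*a)^2 = (a*y)^2`. -/
theorem Z2_aux_sq_swap {a y : G} (ha : a * a = 1) (hy : y * y = 1) (h4 : (a * y) ^ 4 = 1) :
    y * a * (y * a) = a * y * (a * y) := by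
  have hinv : (a * y)⁻¹ = y * a := by
    rw [mul_inv_rev, inv_eq_of_mul_eq_one_left ha, inv_eq_of_mul_eq_one_left hy]
  have h : (a * y) ^ 2 * (a * y) ^ 2 = 1 := by rw [← pow_add]; exact h4
  have h2 : ((a * y) ^ 2)⁻¹ = (a * y) ^ 2 := inv_eq_of_mul_eq_one_left h
  calc y * a * (y * a) = ((a * y)⁻¹) ^ 2 := by rw [hinv, pow_two]
    _ = ((a * y) ^ 2)⁻¹ := by rw [inv_pow]
    _ = (a * y) ^ 2 := h2
    _ = a * y * (a * y) := pow_two _

/-- for involutions `a`, `y` with `(a*y)^4 = 1`: `y` commutes with `(a*y)^2`. -/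
theorem Z2_aux_comm {a y : G} (ha : a * a = 1) (hy : y * y = 1) (h4 : (a * y) ^ 4 = 1) :
    y * (a * y) ^ 2 = (a * y) ^ 2 * y := by
  have h := Z2_aux_sq_swap ha hy h4
  calc y * (a * y) ^ 2 = y * (a * y * (a * y)) := by rw [pow_two]
    _ = y * a * (y * a) * y := by simp only [mul_assoc]
    _ = a * y * (a * y) * y := by rw [h]
    _ = (a * y) ^ 2 * y := by rw [pow_two]

/-- for involutions `a`, `y` with `(a*y)^4 = 1`: `y * (a*y)^2 = a * y * a⁻¹`. -/
theorem Z2_aux_conj {a y : G} (ha : a * a = 1) (hy : y * y = 1) (h4 : (a * y) ^ 4 = 1) :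
    y * (a * y) ^ 2 = a * y * a⁻¹ := by
  have hai : a⁻¹ = a := inv_eq_of_mul_eq_one_left ha
  rw [Z2_aux_comm ha hy h4, pow_two, hai]
  calc a * y * (a * y) * y = a * y * a * (y * y) := by simp only [mul_assoc]
    _ = a * y * a := by rw [hy, mul_one]

/-- the key conjugation identity. -/
theorem Z2_aux_key {b b' y : G} (hb : b * b = 1) (hy : y * y = 1)
    (hcomm : b * b' = b' * b) (h4' : (b' * y) ^ 4 = 1) (hb' : b' * b' = 1) :
    b * (y * (b * b')) ^ 2 * b⁻¹ = (b * y) ^ 2 * (b' * y) ^ 2 := by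
  have hbi : b⁻¹ = b := inv_eq_of_mul_eq_one_left hb
  have h := Z2_aux_sq_swap hb' hy h4'
  have e1 : b * b' * b = b' := by rw [hcomm, mul_assoc, hb, mul_one]
  have e2 : b' * y * b' = y * (b' * y * (b' * y)) := by
    rw [← h]
    calc b' * y * b' = (y * y) * b' * y * b' := by rw [hy, one_mul]
      _ = y * (y * b' * (y * b')) := by simp only [mul_assoc]
  calc b * (y * (b * b')) ^ 2 * b⁻¹ = b * y * b * (b' * y * (b * b' * b)) := by
        rw [pow_two, hbi]; simp only [mul_assoc]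
    _ = b * y * b * (b' * y * b') := by rw [e1]
    _ = b * y * b * (y * (b' * y * (b' * y))) := by rw [e2]
    _ = (b * y) ^ 2 * (b' * y) ^ 2 := by rw [pow_two, pow_two]; simp only [mul_assoc]

/-- Z2: four-group {b, b', bb'} ⊆ D: every odd partner of bb' is an odd partner of b or of b'. -/
theorem Z2 (hD : Cfsg.IsRootInvolutionSet D) {b b' y : G} (hb : b ∈ D) (hb' : b' ∈ D)
    (hcomm : b * b' = b' * b) (hz : b * b' ∈ D) (hy : y ∈ Cfsg.oddPartners D (b * b')) :
    y ∈ Cfsg.oddPartners D b ∨ y ∈ Cfsg.oddPartners D b' := by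
  obtain ⟨hyD, hyne, hyodd⟩ := hy
  have hbb := Cfsg.Agent.Helper25.RootInv.sq_one hD hb
  have hbb' := Cfsg.Agent.Helper25.RootInv.sq_one hD hb'
  have hyy := Cfsg.Agent.Helper25.RootInv.sq_one hD hyD
  have hzz := Cfsg.Agent.Helper25.RootInv.sq_one hD hz
  -- `y` commutes with neither `b` nor `b'`
  have e1 : b * (b * b') = b' := by rw [← mul_assoc, hbb, one_mul]
  have e1' : b * (b * b') = (b * b') * b := by
    rw [e1, hcomm, mul_assoc, hbb, mul_one]
  have e2 : b' * (b * b') = b := by rw [hcomm, ← mul_assoc, hbb', one_mul]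
  have e2' : b' * (b * b') = (b * b') * b' := by
    rw [e2, mul_assoc, hbb', mul_one]
  have hnb : y * b ≠ b * y :=
    Cfsg.Agent.Helper25.RootInv.not_commute_of_odd hD hyD hb hz e1' (by rw [e1]; exact hb') hyodd hyne
  have hnb' : y * b' ≠ b' * y :=
    Cfsg.Agent.Helper25.RootInv.not_commute_of_odd hD hyD hb' hz e2' (by rw [e2]; exact hb) hyodd hyne
  have hyb : y ≠ b := fun h => hnb (by rw [h])
  have hyb' : y ≠ b' := fun h => hnb' (by rw [h])
  rcases hD.pair b hb y hyD with h1 | h1 | ⟨h1, hu⟩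
  · exact absurd h1.symm hnb
  · exact Or.inl ⟨hyD, hyb, h1⟩
  rcases hD.pair b' hb' y hyD with h2 | h2 | ⟨h2, hu'⟩
  · exact absurd h2.symm hnb'
  · exact Or.inr ⟨hyD, hyb', h2⟩
  exfalso
  have h4 : (b * y) ^ 4 = 1 := by rw [← h1]; exact pow_orderOf_eq_one _
  have h4' : (b' * y) ^ 4 = 1 := by rw [← h2]; exact pow_orderOf_eq_one _
  have hkey := Z2_aux_key hbb hyy hcomm h4' hbb'
  -- `σ = (y z)^2` has odd order and is not 1
  have hoddyz : Odd (orderOf (y * (b * b'))) := by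
    rw [Cfsg.Agent.Helper25.RootInv.orderOf_mul_comm']; exact hyodd
  have hoddσ : Odd (orderOf ((y * (b * b')) ^ 2)) := by
    have hdvd : orderOf ((y * (b * b')) ^ 2) ∣ orderOf (y * (b * b')) := orderOf_pow_dvd 2
    exact Odd.of_dvd_nat hoddyz hdvd
  have hodduu : Odd (orderOf ((b * y) ^ 2 * (b' * y) ^ 2)) := by
    rw [← hkey, Cfsg.Agent.Helper25.RootInv.orderOf_conj']; exact hoddσ
  have hne : (b' * y) ^ 2 ≠ (b * y) ^ 2 := by
    intro h
    have h1' : (b * y) ^ 2 * (b' * y) ^ 2 = 1 := by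
      rw [h, ← pow_add]; exact h4
    rw [h1'] at hkey
    have hσ : (y * (b * b')) ^ 2 = 1 := by
      have := congrArg (fun x => b⁻¹ * x * b) hkey
      simpa [mul_assoc] using this
    have hyz : y * (b * b') = 1 :=
      Cfsg.Agent.Helper25.RootInv.eq_one_of_odd_of_pow (k := 1) hoddyz (by simpa using hσ)
    apply hyne
    have : y = (b * b')⁻¹ := eq_inv_of_mul_eq_one_left hyz
    rw [this, Cfsg.Agent.Helper25.RootInv.inv_eq hD hz]
  -- `u'` commutes with `y`; `{y, u, y u}` is a four-group in `D`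
  have hcu : y * (b * y) ^ 2 = (b * y) ^ 2 * y := Z2_aux_comm hbb hyy h4
  have hcu' : y * (b' * y) ^ 2 = (b' * y) ^ 2 * y := Z2_aux_comm hbb' hyy h4'
  have hyu : y * (b * y) ^ 2 ∈ D := by
    rw [Z2_aux_conj hbb hyy h4]; exact hD.conj_mem y hyD b
  exact Cfsg.Agent.Helper25.RootInv.not_commute_of_odd hD hu' hyD hu hcu hyu hodduu hne hcu'.symm

end Cfsg.Agent.S5046P
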