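import Mathlib
import Cfsg.Prelude.Def_Characters
import Cfsg.Agent.Helper23.AVDefs

/-!
# S4560 piece O31: a 4-transitive group has 3 orbits on `(Fin 2 ↪ Ω) × Ω`
-/

set_option autoImplicit false

namespace Cfsg.Agent.Helper23.AV

open MulAction

universe u v

variable {G : Type u} [Group G] {Ω : Type v} [MulAction G Ω]

theorem o31_exists4 [Finite Ω] (h : 4 ≤ Nat.card Ω) :
    ∃ a b c d : Ω, a ≠ b ∧ a ≠ c ∧ a ≠ d ∧ b ≠ c ∧ b ≠ d ∧ c ≠ d := by
  have := Fintype.ofFinite Ω
  rw [Nat.card_eq_fintype_card] at h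
  obtain ⟨e⟩ := Function.Embedding.nonempty_of_card_le (α := Fin 4) (β := Ω)
    (by rwa [Fintype.card_fin])
  exact ⟨e 0, e 1, e 2, e 3, e.injective.ne (by decide), e.injective.ne (by decide),
    e.injective.ne (by decide), e.injective.ne (by decide), e.injective.ne (by decide),
    e.injective.ne (by decide)⟩

/-- the embedding `Fin 2 ↪ Ω` with values `a ≠ b` -/
def o31_emb (a b : Ω) (h : a ≠ b) : Fin 2 ↪ Ω :=
  ⟨![a, b], by
    intro i j hij
    fin_cases i <;> fin_cases j <;> simp_all⟩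

@[simp] theorem o31_emb_zero (a b : Ω) (h : a ≠ b) : o31_emb a b h 0 = a := rfl

@[simp] theorem o31_emb_one (a b : Ω) (h : a ≠ b) : o31_emb a b h 1 = b := rfl

theorem o31_smul_eq {g : G} {f f' : Fin 2 ↪ Ω} (h0 : g • f 0 = f' 0) (h1 : g • f 1 = f' 1) :
    g • f = f' := by
  ext i
  rw [Function.Embedding.smul_apply]
  fin_cases i
  · exact h0
  · exact h1

open Classical in
/-- the classifier of the orbits on `(Fin 2 ↪ Ω) × Ω` -/
noncomputable def o31_c (p : (Fin 2 ↪ Ω) × Ω) : Fin 3 :=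
  if p.2 = p.1 0 then 0 else if p.2 = p.1 1 then 1 else 2

theorem card_orbits_31 [Finite Ω] (T : Trans4 G Ω) :
    Nat.card (orbitRel.Quotient G ((Fin 2 ↪ Ω) × Ω)) = 3 := by
  classical
  obtain ⟨a, b, c, d, hab, hac, had, hbc, hbd, hcd⟩ := o31_exists4 T.card_le
  apply card_orbits_eq_of_classifier (G := G) (o31_c (Ω := Ω))
  · rintro g ⟨f, x⟩
    unfold o31_c
    simp only [Prod.smul_mk, Function.Embedding.smul_apply, smul_left_cancel_iff]
  · intro i
    fin_cases i
    · exact ⟨(o31_emb a b hab, a), by simp [o31_c]⟩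
    · exact ⟨(o31_emb a b hab, b), by simp [o31_c, hab.symm]⟩
    · exact ⟨(o31_emb a b hab, c), by simp [o31_c, hac.symm, hbc.symm]⟩
  · rintro ⟨f, x⟩ ⟨f', x'⟩ h
    have hf : f 0 ≠ f 1 := f.injective.ne (by decide)
    have hf' : f' 0 ≠ f' 1 := f'.injective.ne (by decide)
    unfold o31_c at h
    simp only at h
    by_cases h1 : x = f 0
    · rw [if_pos h1] at h
      by_cases h1' : x' = f' 0
      · obtain ⟨g, hg0, hg1⟩ := T.t2 (f 0) (f 1) (f' 0) (f' 1) hf hf'
        refine ⟨g, ?_⟩
        rw [Prod.smul_mk, o31_smul_eq hg0 hg1, h1, hg0, h1']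
      · rw [if_neg h1'] at h
        by_cases h2' : x' = f' 1
        · rw [if_pos h2'] at h; exact absurd h (by decide)
        · rw [if_neg h2'] at h; exact absurd h (by decide)
    · rw [if_neg h1] at h
      by_cases h2 : x = f 1
      · rw [if_pos h2] at h
        by_cases h1' : x' = f' 0
        · rw [if_pos h1'] at h; exact absurd h (by decide)
        · rw [if_neg h1'] at h
          by_cases h2' : x' = f' 1
          · obtain ⟨g, hg0, hg1⟩ := T.t2 (f 0) (f 1) (f' 0) (f' 1) hf hf'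
            refine ⟨g, ?_⟩
            rw [Prod.smul_mk, o31_smul_eq hg0 hg1, h2, hg1, h2']
          · rw [if_neg h2'] at h; exact absurd h (by decide)
      · rw [if_neg h2] at h
        by_cases h1' : x' = f' 0
        · rw [if_pos h1'] at h; exact absurd h (by decide)
        · rw [if_neg h1'] at h
          by_cases h2' : x' = f' 1
          · rw [if_pos h2'] at h; exact absurd h (by decide)
          · obtain ⟨g, hg0, hg1, hg2⟩ := T.t3 (f 0) (f 1) x (f' 0) (f' 1) x' hf (Ne.symm h1)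
              (Ne.symm h2) hf' (Ne.symm h1') (Ne.symm h2')
            refine ⟨g, ?_⟩
            rw [Prod.smul_mk, o31_smul_eq hg0 hg1, hg2]

end Cfsg.Agent.Helper23.AV
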