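import Mathlib
import Cfsg.Prelude.Def_Characters
import Cfsg.Agent.Helper23.AVDefs
import Cfsg.Agent.Helper8.AVO31

/-!
# S4560 piece O32: a 4-transitive group has 4 orbits on `(Fin 2 ↪ Ω) × (2-subsets of Ω)`
-/

set_option autoImplicit false

namespace Cfsg.Agent.Helper23.AV

open MulAction
open scoped Pointwise

universe u v

variable {G : Type u} [Group G] {Ω : Type v} [MulAction G Ω]

/-- the 2-subset `{a, b}` -/
def o32_pair [DecidableEq Ω] (a b : Ω) (h : a ≠ b) : Set.powersetCard Ω 2 :=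
  ⟨{a, b}, Finset.card_pair h⟩

@[simp] theorem o32_pair_coe [DecidableEq Ω] (a b : Ω) (h : a ≠ b) :
    ((o32_pair a b h : Set.powersetCard Ω 2) : Finset Ω) = {a, b} := rfl

theorem o32_smul_eq [DecidableEq Ω] {g : G} {s s' : Set.powersetCard Ω 2} {a b a' b' : Ω}
    (hs : (s : Finset Ω) = {a, b}) (hs' : (s' : Finset Ω) = {a', b'})
    (ha : g • a = a') (hb : g • b = b') : g • s = s' := by
  apply Subtype.ext
  rw [Set.powersetCard.coe_smul, hs, hs', Finset.smul_finset_insert, Finset.smul_finset_singleton,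
    ha, hb]

theorem o32_card [DecidableEq Ω] (s : Set.powersetCard Ω 2) : (s : Finset Ω).card = 2 := s.2

/-- both points in `s` -/
theorem o32_both [DecidableEq Ω] (s : Set.powersetCard Ω 2) {x y : Ω} (hxy : x ≠ y)
    (hx : x ∈ (s : Finset Ω)) (hy : y ∈ (s : Finset Ω)) : (s : Finset Ω) = {x, y} := by
  symm
  apply Finset.eq_of_subset_of_card_le
  · intro z hz
    rw [Finset.mem_insert, Finset.mem_singleton] at hz
    rcases hz with rfl | rfl
    · exact hx
    · exact hy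
  · rw [o32_card, Finset.card_pair hxy]

/-- exactly one of the points in `s` -/
theorem o32_one [DecidableEq Ω] (s : Set.powersetCard Ω 2) {x : Ω}
    (hx : x ∈ (s : Finset Ω)) : ∃ c, c ≠ x ∧ (s : Finset Ω) = {x, c} := by
  obtain ⟨u, v, huv, hs⟩ := Finset.card_eq_two.1 (o32_card s)
  rw [hs, Finset.mem_insert, Finset.mem_singleton] at hx
  rcases hx with rfl | rfl
  · exact ⟨v, huv.symm, hs⟩
  · exact ⟨u, huv, by rw [hs, Finset.pair_comm]⟩

open Classical in
/-- the classifier of the orbits on `(Fin 2 ↪ Ω) × (2-subsets)` -/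
noncomputable def o32_c [DecidableEq Ω] (p : (Fin 2 ↪ Ω) × Set.powersetCard Ω 2) : Fin 4 :=
  if p.1 0 ∈ (p.2 : Finset Ω) then (if p.1 1 ∈ (p.2 : Finset Ω) then 0 else 1)
  else (if p.1 1 ∈ (p.2 : Finset Ω) then 2 else 3)

theorem card_orbits_32 [Finite Ω] [DecidableEq Ω] (T : Trans4 G Ω) :
    Nat.card (orbitRel.Quotient G ((Fin 2 ↪ Ω) × Set.powersetCard Ω 2)) = 4 := by
  obtain ⟨a, b, c, d, hab, hac, had, hbc, hbd, hcd⟩ := o31_exists4 T.card_le
  apply card_orbits_eq_of_classifier (G := G) (o32_c (Ω := Ω))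
  · rintro g ⟨f, s⟩
    unfold o32_c
    simp only [Prod.smul_mk, Function.Embedding.smul_apply, Set.powersetCard.coe_smul,
      Finset.smul_mem_smul_finset_iff]
  · intro i
    fin_cases i
    · exact ⟨(o31_emb a b hab, o32_pair a b hab), by simp [o32_c]⟩
    · exact ⟨(o31_emb a b hab, o32_pair a c hac), by simp [o32_c, hab.symm, hbc]⟩
    · exact ⟨(o31_emb a b hab, o32_pair b c hbc), by simp [o32_c, hab, hac]⟩
    · exact ⟨(o31_emb a b hab, o32_pair c d hcd), by simp [o32_c, hac, had, hbc, hbd]⟩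
  · rintro ⟨f, s⟩ ⟨f', s'⟩ h
    have hf : f 0 ≠ f 1 := f.injective.ne (by decide)
    have hf' : f' 0 ≠ f' 1 := f'.injective.ne (by decide)
    unfold o32_c at h
    simp only at h
    by_cases h0 : f 0 ∈ (s : Finset Ω) <;> by_cases h1 : f 1 ∈ (s : Finset Ω) <;>
      by_cases h0' : f' 0 ∈ (s' : Finset Ω) <;> by_cases h1' : f' 1 ∈ (s' : Finset Ω) <;>
      simp only [h0, h1, h0', h1', if_true, if_false] at h <;>
      try (exact absurd h (by decide))
    · -- both
      obtain ⟨g, hg0, hg1⟩ := T.t2 (f 0) (f 1) (f' 0) (f' 1) hf hf'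
      refine ⟨g, ?_⟩
      rw [Prod.smul_mk, o31_smul_eq hg0 hg1,
        o32_smul_eq (o32_both s hf h0 h1) (o32_both s' hf' h0' h1') hg0 hg1]
    · -- only `f 0`
      obtain ⟨c, hc, hs⟩ := o32_one s h0
      obtain ⟨c', hc', hs'⟩ := o32_one s' h0'
      have hc1 : f 1 ≠ c := by
        rintro rfl
        apply h1; rw [hs]; simp
      have hc1' : f' 1 ≠ c' := by
        rintro rfl
        apply h1'; rw [hs']; simp
      obtain ⟨g, hg0, hg1, hg2⟩ := T.t3 (f 0) (f 1) c (f' 0) (f' 1) c' hf hc.symm hc1 hf'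
        hc'.symm hc1'
      refine ⟨g, ?_⟩
      rw [Prod.smul_mk, o31_smul_eq hg0 hg1, o32_smul_eq hs hs' hg0 hg2]
    · -- only `f 1`
      obtain ⟨c, hc, hs⟩ := o32_one s h1
      obtain ⟨c', hc', hs'⟩ := o32_one s' h1'
      have hc0 : f 0 ≠ c := by
        rintro rfl
        apply h0; rw [hs]; simp
      have hc0' : f' 0 ≠ c' := by
        rintro rfl
        apply h0'; rw [hs']; simp
      obtain ⟨g, hg0, hg1, hg2⟩ := T.t3 (f 0) (f 1) c (f' 0) (f' 1) c' hf hc0 hc.symm hf'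
        hc0' hc'.symm
      refine ⟨g, ?_⟩
      rw [Prod.smul_mk, o31_smul_eq hg0 hg1, o32_smul_eq hs hs' hg1 hg2]
    · -- none
      obtain ⟨u, v, huv, hs⟩ := Finset.card_eq_two.1 (o32_card s)
      obtain ⟨u', v', huv', hs'⟩ := Finset.card_eq_two.1 (o32_card s')
      have e0u : f 0 ≠ u := by rintro rfl; apply h0; rw [hs]; simp
      have e0v : f 0 ≠ v := by rintro rfl; apply h0; rw [hs]; simp
      have e1u : f 1 ≠ u := by rintro rfl; apply h1; rw [hs]; simp
      have e1v : f 1 ≠ v := by rintro rfl; apply h1; rw [hs]; simp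
      have e0u' : f' 0 ≠ u' := by rintro rfl; apply h0'; rw [hs']; simp
      have e0v' : f' 0 ≠ v' := by rintro rfl; apply h0'; rw [hs']; simp
      have e1u' : f' 1 ≠ u' := by rintro rfl; apply h1'; rw [hs']; simp
      have e1v' : f' 1 ≠ v' := by rintro rfl; apply h1'; rw [hs']; simp
      obtain ⟨g, hg0, hg1, hg2, hg3⟩ := T.t4 (f 0) (f 1) u v (f' 0) (f' 1) u' v' hf e0u e0v e1u e1v
        huv hf' e0u' e0v' e1u' e1v' huv'
      refine ⟨g, ?_⟩
      rw [Prod.smul_mk, o31_smul_eq hg0 hg1, o32_smul_eq hs hs' hg2 hg3]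

end Cfsg.Agent.Helper23.AV
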