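import Mathlib
import Cfsg.Prelude.Def_Blocks
import Cfsg.Agent.Helper8.HeightZeroInner
import Cfsg.Agent.Helper8.InducedHeight
import Cfsg.Agent.Helper5.ThirdMain

/-!
# The restriction criterion for induced blocks

For `b^G = B₀`, `ψ ∈ b` and `χ ∈ Irr(G)`: `[ |H|_p (χ|_H)~ , ψ ] / ψ(1)` is in the local ideal if
`χ ∉ B₀`, and is a local unit if `χ ∈ B₀` has height zero.
-/

namespace Cfsg.Agent.Helper8.IndRes

open Cfsg Cfsg.Agent.Helper24 Cfsg.Agent.Helper5.CC Cfsg.Agent.Helper5.Loc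
open Cfsg.Agent.Helper8.HZI

variable {G : Type*} [Group G] [Fintype G] {M : Ideal AlgInt}

/-- The inner product of the truncated restriction with `ψ`, through `act`. -/
theorem classInner_restrict_eq (p : ℕ) [hp : Fact p.Prime] (H : Subgroup G) [Fintype H]
    (χ : IrrCharacter G) (ψ : IrrCharacter H) :
    classInner (fun h : H => if p ∣ orderOf h then (0 : ℂ) else
        ((p ^ (Nat.card H).factorization p : ℕ) : ℂ) * (χ : G → ℂ) h) (ψ : H → ℂ) / (ψ : H → ℂ) 1 =
      ((mm H p : ℂ))⁻¹ * act (fun k : H => cfun p χ (k : G)) ψ := by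
  classical
  have hH : (Nat.card H : ℂ) ≠ 0 := Nat.cast_ne_zero.mpr Nat.card_pos.ne'
  have hmm : (p ^ (Nat.card H).factorization p : ℕ) * mm H p = Nat.card H :=
    Nat.ordProj_mul_ordCompl_eq_self (Nat.card H) p
  have hmm0 : (mm H p : ℂ) ≠ 0 := by
    have : mm H p ≠ 0 := fun h0 => (not_dvd_mm (G := H) p) (h0 ▸ dvd_zero p)
    exact_mod_cast this
  have hpa0 : ((p ^ (Nat.card H).factorization p : ℕ) : ℂ) ≠ 0 := by
    have : p ^ (Nat.card H).factorization p ≠ 0 := pow_ne_zero _ hp.out.pos.ne'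
    exact_mod_cast this
  have hψ1 : (ψ : H → ℂ) 1 ≠ 0 := irr_one_ne_zero ψ
  have hsum : ∑ h : H, (if p ∣ orderOf h then (0 : ℂ) else
        ((p ^ (Nat.card H).factorization p : ℕ) : ℂ) * (χ : G → ℂ) h) *
        (starRingEnd ℂ) ((ψ : H → ℂ) h) =
      ((p ^ (Nat.card H).factorization p : ℕ) : ℂ) *
        ∑ k : H, cfun p χ (k : G) * (ψ : H → ℂ) k := by
    rw [Finset.mul_sum]
    refine Fintype.sum_equiv (Equiv.inv H) _ _ fun h => ?_
    simp only [Equiv.inv_apply]
    rw [irr_inv ψ h, cfun, InvMemClass.coe_inv, irr_inv χ (h : G), Complex.conj_conj]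
    by_cases hd : p ∣ orderOf h
    · have hd' : p ∣ orderOf ((h : G)⁻¹) := by rwa [orderOf_inv, Subgroup.orderOf_coe]
      rw [if_pos hd, regInd_of_dvd hd']
      ring
    · have hd' : ¬ p ∣ orderOf ((h : G)⁻¹) := by rwa [orderOf_inv, Subgroup.orderOf_coe]
      rw [if_neg hd, regInd_of_not_dvd hd']
      ring
  rw [classInner, hsum, act]
  have hc : (Nat.card H : ℂ) = ((p ^ (Nat.card H).factorization p : ℕ) : ℂ) * (mm H p : ℂ) := by
    rw [← Nat.cast_mul, hmm]
  rw [hc]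
  field_simp

/-- **The criterion**. -/
theorem main [Fintype (IrrCharacter G)] {p : ℕ} [hp : Fact p.Prime] (hM : IsPModular p M)
    (H : Subgroup G) [Fintype H]
    {b : Set (IrrCharacter H)} {B₀ : Set (IrrCharacter G)} (hind : IsInducedBlock M H b B₀)
    (χ : IrrCharacter G) (ψ : IrrCharacter H) (hψ : ψ ∈ b) :
    (χ ∉ B₀ → MemLocalIdeal M (((mm H p : ℂ))⁻¹ * act (fun k : H => cfun p χ (k : G)) ψ)) ∧
    (χ ∈ B₀ → (∀ ξ ∈ B₀, (irrDeg χ).factorization p ≤ (irrDeg ξ).factorization p) →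
      ¬ MemLocalIdeal M (((mm H p : ℂ))⁻¹ * act (fun k : H => cfun p χ (k : G)) ψ)) := by
  classical
  haveI : Fintype (ConjClasses G) := Fintype.ofFinite _
  have hMp := isPrime_of_isPModular hM
  obtain ⟨χ₀, hχ₀⟩ : ∃ χ₀, χ₀ ∈ B₀ := IsPBlock.nonempty hMp hind.2.1
  have hcong := act_restrict_sub_act hMp H hind (isClassFunction_cfun p χ)
    (fun t => lr_cfun hMp p χ t) ψ hψ χ₀ hχ₀
  have hinv : MemLocalRing M ((mm H p : ℂ))⁻¹ := memLocalRing_inv_natCast hM (not_dvd_mm (G := H) p)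
  have hmm0 : (mm H p : ℂ) ≠ 0 := by
    have : mm H p ≠ 0 := fun h0 => (not_dvd_mm (G := H) p) (h0 ▸ dvd_zero p)
    exact_mod_cast this
  constructor
  · intro hχ
    have hN : N p χ χ₀ = 0 := by
      rw [N_symm]; exact N_eq_zero hM hind.2.1 hχ₀ hχ
    have hact : act (cfun p χ) χ₀ = 0 := by
      have h1 := N_mul p χ χ₀
      rw [hN, Int.cast_zero, zero_mul] at h1
      rcases mul_eq_zero.mp h1.symm with h | h
      · exact absurd h (irr_one_ne_zero χ₀)
      · exact h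
    rw [hact, sub_zero] at hcong
    exact li_mul_left hMp hinv hcong
  · intro hχ hmin hli
    have hgood := good_of_minimal hM hind.2.1 hχ hmin χ₀ hχ₀
    have hnot := (good_iff hM χ χ₀).mp hgood
    apply hnot
    have h1 : MemLocalIdeal M (act (fun k : H => cfun p χ (k : G)) ψ) := by
      have := li_mul_left hMp (memLocalRing_natCast hMp (mm H p)) hli
      rwa [← mul_assoc, mul_inv_cancel₀ hmm0, one_mul] at this
    have := li_sub hMp h1 hcong
    rwa [sub_sub_cancel] at this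

end Cfsg.Agent.Helper8.IndRes
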