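import Mathlib
import Cfsg.Agent.Helper9.GrossB
import Cfsg.Agent.Helper5.HHModH

/-!
# Base change for the module theorems of S3795 (Gross, `p = 2`)

Generic base change (`fixed_of_alg_field`, `fixed_of_field_group`) and the group forms
`abelian_group` (U1), `abelian_group'` (U1') of `Helper9.Gross.abelian_alg`.
-/

set_option autoImplicit false

universe uΓ uk uM

namespace Cfsg.Agent.Helper8.GrossBC

open Module Subgroup Cfsg.Agent.Helper5.FrobMod Cfsg.Agent.Helper5.HHMod TensorProduct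

/-- nonzero natural numbers stay nonzero in the algebraic closure -/
theorem natCast_algClosure_ne_zero {k : Type*} [Field k] (n : ℕ) (hn : (n : k) ≠ 0) :
    (n : AlgebraicClosure k) ≠ 0 := by
  rw [← map_natCast (algebraMap k (AlgebraicClosure k))]
  exact fun h => hn ((map_eq_zero_iff _ (algebraMap k (AlgebraicClosure k)).injective).mp h)

/-- generic base change: a fixed-vector theorem over the algebraic closure descends to the field -/
theorem fixed_of_alg_field {Γ : Type uΓ} [Group Γ] {k : Type uk} [Field k]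
    {M : Type uM} [AddCommGroup M] [Module k M] [FiniteDimensional k M]
    (Q : Subgroup Γ) (s : Γ) (ρ : Representation k Γ M) (hfaith : ∀ g ∈ Q, ρ g = 1 → g = 1)
    (halg : ∀ (M' : Type (max uk uM)) [AddCommGroup M'] [Module (AlgebraicClosure k) M']
      [FiniteDimensional (AlgebraicClosure k) M'] (ρ' : Representation (AlgebraicClosure k) Γ M'),
      (∀ g ∈ Q, ρ' g = 1 → g = 1) → ∃ m : M', m ≠ 0 ∧ ρ' s m = m) :
    ∃ m : M, m ≠ 0 ∧ ρ s m = m := by
  let K := AlgebraicClosure k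
  have hfaith' : ∀ g ∈ Q, baseChangeRep ρ K g = 1 → g = 1 := by
    intro g hg h1
    apply hfaith g hg
    have h2 : LinearMap.ker ((ρ g - 1).baseChange K) = ⊤ := by
      rw [baseChangeRep_sub_one, LinearMap.ker_eq_top, h1]
      exact sub_self (1 : Module.End K (K ⊗[k] M))
    have h3 := finrank_ker_baseChange K (ρ g - 1)
    rw [h2, finrank_top, Module.finrank_baseChange] at h3
    have h4 : LinearMap.ker (ρ g - 1) = ⊤ := Submodule.eq_top_of_finrank_eq h3.symm
    have h5 : ρ g - 1 = 0 := LinearMap.ker_eq_top.mp h4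
    exact sub_eq_zero.mp h5
  obtain ⟨m, hm0, hm⟩ := halg (K ⊗[k] M) (baseChangeRep ρ K) hfaith'
  have h2 : LinearMap.ker ((ρ s - 1).baseChange K) ≠ ⊥ := by
    intro hbot
    apply hm0
    have : m ∈ LinearMap.ker ((ρ s - 1).baseChange K) := by
      rw [LinearMap.mem_ker, baseChangeRep_sub_one, LinearMap.sub_apply, hm, Module.End.one_apply, sub_self]
    rw [hbot, Submodule.mem_bot] at this
    exact this
  have h3 := finrank_ker_baseChange K (ρ s - 1)
  have h4 : LinearMap.ker (ρ s - 1) ≠ ⊥ := by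
    intro hbot
    rw [hbot, finrank_bot] at h3
    exact h2 (Submodule.finrank_eq_zero.mp h3)
  obtain ⟨m0, hm0mem, hm00⟩ := (Submodule.ne_bot_iff _).mp h4
  refine ⟨m0, hm00, ?_⟩
  rw [LinearMap.mem_ker, LinearMap.sub_apply, Module.End.one_apply, sub_eq_zero] at hm0mem
  exact hm0mem

/-- generic passage from `ZMod r`-representations to actions on an elementary abelian `r`-group -/
theorem fixed_of_field_group {Γ : Type uΓ} [Group Γ] {V : Type uM} [CommGroup V] [Finite V]
    {r : ℕ} [hrF : Fact r.Prime] [Module (ZMod r) (Additive V)]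
    (Q : Subgroup Γ) (s : Γ) (φ : Γ →* MulAut V) (hfaith : ∀ g ∈ Q, φ g = 1 → g = 1)
    (hfield : ∀ ρ : Representation (ZMod r) Γ (Additive V),
      (∀ g ∈ Q, ρ g = 1 → g = 1) → ∃ m, m ≠ 0 ∧ ρ s m = m) :
    ∃ v : V, v ≠ 1 ∧ φ s v = v := by
  classical
  let φ' : Γ →* Monoid.End V :=
    { toFun := fun g => (φ g).toMonoidHom
      map_one' := by
        rw [map_one]; rfl
      map_mul' := fun a b => by
        rw [map_mul]; rfl }
  set ρ0 : Representation (ZMod r) Γ (Additive V) := endRep r φ' with hρ0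
  have hρ : ∀ (a : Γ) (v : V), ρ0 a (Additive.ofMul v) = Additive.ofMul (φ a v) := fun a v => rfl
  have hfaith' : ∀ g ∈ Q, ρ0 g = 1 → g = 1 := by
    intro g hg h1
    apply hfaith g hg
    ext v
    have h2 := congrArg (fun f : Module.End (ZMod r) (Additive V) => f (Additive.ofMul v)) h1
    simp only [Module.End.one_apply] at h2
    rw [hρ] at h2
    exact Additive.ofMul.injective h2
  obtain ⟨m, hm0, hm⟩ := hfield ρ0 hfaith'
  induction m using Additive.rec with
  | ofMul v =>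
    rw [hρ] at hm
    refine ⟨v, fun h1 => hm0 ?_, Additive.ofMul.injective hm⟩
    rw [h1]; rfl

/-- the two steps combined -/
theorem fixed_of_alg {Γ : Type uΓ} [Group Γ] {V : Type uM} [CommGroup V] [Finite V]
    {r : ℕ} [hrF : Fact r.Prime] [Module (ZMod r) (Additive V)]
    (Q : Subgroup Γ) (s : Γ) (φ : Γ →* MulAut V) (hfaith : ∀ g ∈ Q, φ g = 1 → g = 1)
    (halg : ∀ (M' : Type uM) [AddCommGroup M'] [Module (AlgebraicClosure (ZMod r)) M']
      [FiniteDimensional (AlgebraicClosure (ZMod r)) M']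
      (ρ' : Representation (AlgebraicClosure (ZMod r)) Γ M'),
      (∀ g ∈ Q, ρ' g = 1 → g = 1) → ∃ m : M', m ≠ 0 ∧ ρ' s m = m) :
    ∃ v : V, v ≠ 1 ∧ φ s v = v := by
  haveI : Finite (Additive V) := ‹Finite V›
  haveI : Module.Finite (ZMod r) (Additive V) := Module.Finite.of_finite
  exact fixed_of_field_group Q s φ hfaith
    (fun ρ hρ => fixed_of_alg_field Q s ρ hρ halg)

/-- a prime different from `r` is nonzero in the algebraic closure of `ZMod r` -/
theorem prime_ne_zero {r : ℕ} [hrF : Fact r.Prime] {p : ℕ} (hp : p.Prime) (hrp : r ≠ p) :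
    (p : AlgebraicClosure (ZMod r)) ≠ 0 := by
  apply natCast_algClosure_ne_zero
  rw [Ne, ZMod.natCast_eq_zero_iff]
  intro hdvd
  exact hrp ((Nat.prime_dvd_prime_iff_eq hrF.out hp).mp hdvd)

/-- the `ZMod r`-module structure on an elementary abelian `r`-group -/
@[reducible] noncomputable def zmodModule {V : Type*} [CommGroup V] {r : ℕ}
    (hV : ∀ v : V, v ^ r = 1) : Module (ZMod r) (Additive V) :=
  AddCommGroup.zmodModule (n := r) (fun y => by
    induction y using Additive.rec with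
    | ofMul v => rw [← ofMul_pow, hV]; rfl)

/-- (U1) the abelian case, group form -/
theorem abelian_group {Γ : Type*} [Group Γ] [Finite Γ] {V : Type*} [CommGroup V] [Finite V]
    {p q r n : ℕ} (hp : p.Prime) (hq : q.Prime) (hr : r.Prime) (hrp : r ≠ p) (hrq : r ≠ q)
    (hn : 0 < n) (hV : ∀ v : V, v ^ r = 1) (A : Subgroup Γ) (hA : IsPGroup q A)
    (hab : ∀ a ∈ A, ∀ b ∈ A, a * b = b * a) (s : Γ) (hsA : s ∈ normalizer (A : Set Γ))
    (hs : s ^ (p ^ n) = 1)
    (hnt : ∃ g ∈ A, s ^ (p ^ (n - 1)) * g * (s ^ (p ^ (n - 1)))⁻¹ ≠ g)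
    (φ : Γ →* MulAut V) (hfaith : ∀ g ∈ A, φ g = 1 → g = 1) : ∃ v : V, v ≠ 1 ∧ φ s v = v := by
  haveI : Fact r.Prime := ⟨hr⟩
  letI : Module (ZMod r) (Additive V) := zmodModule hV
  apply fixed_of_alg (r := r) A s φ hfaith
  intro M' _ _ _ ρ' hρ'
  exact Cfsg.Agent.Helper9.Gross.abelian_alg hp hq hn ρ' (prime_ne_zero hq hrq)
      A hA hab s hsA hs hnt hρ'

/-- (U1') the abelian case, contrapositive form for a possibly non-faithful action -/
theorem abelian_group' {Γ : Type*} [Group Γ] [Finite Γ] {V : Type*} [CommGroup V] [Finite V]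
    {p q r n : ℕ} (hp : p.Prime) (hq : q.Prime) (hr : r.Prime) (hrp : r ≠ p) (hrq : r ≠ q)
    (hn : 0 < n) (hV : ∀ v : V, v ^ r = 1) (A : Subgroup Γ) (hA : IsPGroup q A)
    (φ : Γ →* MulAut V) (hab : ∀ a ∈ A, ∀ b ∈ A, φ (a * b) = φ (b * a)) (s : Γ)
    (hsA : s ∈ normalizer (A : Set Γ)) (hs : s ^ (p ^ n) = 1)
    (hfpfV : ∀ v : V, φ s v = v → v = 1) :
    ∀ g ∈ A, φ (s ^ (p ^ (n - 1)) * g * (s ^ (p ^ (n - 1)))⁻¹) = φ g := by
  intro g hg
  by_contra hne
  haveI : Finite (MulAut V) := Finite.of_injective (fun e : MulAut V => (e : V → V))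
    (fun a b h => MulEquiv.ext (congrFun h))
  have hA' : IsPGroup q (A.map φ) := hA.map φ
  have hab' : ∀ a ∈ A.map φ, ∀ b ∈ A.map φ, a * b = b * a := by
    rintro _ ⟨a, ha, rfl⟩ _ ⟨b, hb, rfl⟩
    rw [← map_mul, ← map_mul]
    exact hab a ha b hb
  have hsA' : φ s ∈ normalizer ((A.map φ : Subgroup (MulAut V)) : Set (MulAut V)) :=
    Subgroup.le_normalizer_map φ ⟨s, hsA, rfl⟩
  have hs' : (φ s) ^ (p ^ n) = 1 := by rw [← map_pow, hs, map_one]
  have hnt' : ∃ g' ∈ A.map φ, (φ s) ^ (p ^ (n - 1)) * g' * ((φ s) ^ (p ^ (n - 1)))⁻¹ ≠ g' := by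
    refine ⟨φ g, ⟨g, hg, rfl⟩, ?_⟩
    rw [← map_pow, ← map_inv, ← map_mul, ← map_mul]
    exact hne
  obtain ⟨v, hv1, hv⟩ := abelian_group hp hq hr hrp hrq hn hV (A.map φ) hA' hab' (φ s) hsA' hs'
    hnt' (MonoidHom.id (MulAut V)) (fun g _ h => h)
  exact hv1 (hfpfV v hv)

end Cfsg.Agent.Helper8.GrossBC
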