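import Mathlib
import Cfsg.Prelude.Def_Characters
import Cfsg.Agent.Helper8.FixedClasses
import Cfsg.Agent.Helper8.Brauer
import Cfsg.Agent.Helper24.BrauerPerm
import Cfsg.Agent.Helper24.Abelian

/-!
The inertia subgroup of a function on a normal subgroup; counting invariant irreducible
characters under a coprime element.
-/

set_option autoImplicit false

namespace Cfsg.Agent.Helper8

variable {G : Type*} [Group G]

/-- the inertia subgroup of a function on a normal subgroup -/
def inertia (H : Subgroup G) [hN : H.Normal] (θ : H → ℂ) : Subgroup G where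
  carrier := {g | ∀ h : H, θ ⟨g * h * g⁻¹, hN.conj_mem h h.2 g⟩ = θ h}
  one_mem' := by
    intro h
    congr 1
    exact Subtype.ext (by simp)
  mul_mem' := by
    intro a b ha hb h
    have : (⟨a * b * (h : G) * (a * b)⁻¹, hN.conj_mem h h.2 (a * b)⟩ : H)
        = ⟨a * ((⟨b * h * b⁻¹, hN.conj_mem h h.2 b⟩ : H) : G) * a⁻¹,
            hN.conj_mem _ (hN.conj_mem h h.2 b) a⟩ := Subtype.ext (by simp; group)
    rw [this, ha, hb]
  inv_mem' := by
    intro a ha h
    have h1 := ha ⟨a⁻¹ * h * a⁻¹⁻¹, hN.conj_mem h h.2 a⁻¹⟩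
    have : (⟨a * ((⟨a⁻¹ * h * a⁻¹⁻¹, hN.conj_mem h h.2 a⁻¹⟩ : H) : G) * a⁻¹,
        hN.conj_mem _ (hN.conj_mem h h.2 a⁻¹) a⟩ : H) = h := Subtype.ext (by simp; group)
    rw [this] at h1
    exact h1.symm

theorem mem_inertia (H : Subgroup G) [hN : H.Normal] (θ : H → ℂ) (g : G) :
    g ∈ inertia H θ ↔ ∀ h : H, θ ⟨g * h * g⁻¹, hN.conj_mem h h.2 g⟩ = θ h := Iff.rfl

theorem mem_inertia_iff_fun (H : Subgroup G) [hN : H.Normal] (θ : H → ℂ) (g : G) :
    g ∈ inertia H θ ↔ (fun h : H => θ ⟨g * h * g⁻¹, hN.conj_mem h h.2 g⟩) = θ := by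
  rw [mem_inertia]
  exact ⟨fun h => funext h, fun h x => congrFun h x⟩

theorem le_inertia (H : Subgroup G) [H.Normal] (θ : H → ℂ) (hθ : Cfsg.IsClassFunction H θ) :
    H ≤ inertia H θ := by
  intro g hg h
  exact hθ h ⟨g, hg⟩

/-- the number of irreducible characters of the normal subgroup `K` fixed by an element `x` of
order coprime to `|K|` is the class number of `C_K(x)` -/
theorem card_fixed_irr_coprime [Finite G] (K : Subgroup G) [hK : K.Normal] (x : G)
    (hcop : (orderOf x).Coprime (Nat.card K)) :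
    Nat.card {θ : Cfsg.IrrCharacter K // x ∈ inertia K (θ : K → ℂ)}
      = Nat.card (ConjClasses ↥(K ⊓ Subgroup.centralizer ({x} : Set G))) := by
  rw [← card_fixed_conjClasses_coprime K x hcop,
    Cfsg.Agent.Helper24.card_fixed_conjClasses_eq_card_fixed_irr (MulAut.conjNormal x : K ≃* K)]
  apply Nat.card_congr
  apply Equiv.subtypeEquivRight
  intro θ
  rw [mem_inertia_iff_fun]
  have : ((θ : K → ℂ) ∘ (MulAut.conjNormal x : K ≃* K))
      = (fun h : K => (θ : K → ℂ) ⟨x * h * x⁻¹, hK.conj_mem h h.2 x⟩) := by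
    funext h
    simp only [Function.comp_apply]
    congr 1
  rw [this]

end Cfsg.Agent.Helper8
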