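import Mathlib
import Cfsg.Prelude.Def_Characters
import Cfsg.Agent.Helper8.CliffordAb
import Cfsg.Agent.Helper8.IndTrans
import Cfsg.Agent.S1489

/-!
Clifford theory for an irreducible character of a normal subgroup whose inertia group has abelian
quotient: statement inside the ambient group.
-/

set_option autoImplicit false

namespace Cfsg.Agent.Helper8

variable {G : Type*} [Group G] [Fintype G]

theorem clifford_abelian_inertia (H T : Subgroup G) [hN : H.Normal] (θ : H → ℂ)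
    (hθ : Cfsg.IsIrrCharacter H θ)
    (hT : ∀ g : G, g ∈ T ↔ ∀ h : H, θ ⟨g * h * g⁻¹, hN.conj_mem h h.2 g⟩ = θ h)
    (hab : ∀ x ∈ T, ∀ y ∈ T, x * y * x⁻¹ * y⁻¹ ∈ H) :
    ∃ (e : ℕ) (C : Finset (G → ℂ)), 0 < e ∧ (∀ χ ∈ C, Cfsg.IsIrrCharacter G χ) ∧
      e ^ 2 * C.card * Nat.card H = Nat.card T ∧ Cfsg.indFun H θ = (e : ℂ) • ∑ χ ∈ C, χ ∧
      (∀ χ ∈ C, χ 1 = (T.index : ℂ) * e * θ 1) ∧
      (Nat.Coprime (Nat.card H) (H.relIndex T) → e = 1) := by
  classical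
  have fT : Fintype T := Fintype.ofFinite T
  have hθc : Cfsg.IsClassFunction H θ :=
    Cfsg.Agent.Helper24.IsCharacter.isClassFunction (Cfsg.Agent.Helper24.IsIrrCharacter.isCharacter hθ)
  have hHT : H ≤ T := by
    intro g hg
    rw [hT g]
    intro h
    exact hθc h ⟨g, hg⟩
  have hKn : (H.subgroupOf T).Normal := inferInstance
  have hθTirr : Cfsg.IsIrrCharacter (H.subgroupOf T) (toSubgroupOf H T θ) :=
    isIrrCharacter_comp_surjective
      (Subgroup.subgroupOfEquivOfLe hHT).toMonoidHom (Subgroup.subgroupOfEquivOfLe hHT).surjective hθ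
  have hinvT : ∀ (t : T) (k : H.subgroupOf T),
      toSubgroupOf H T θ ⟨t * k * t⁻¹, hKn.conj_mem k k.2 t⟩ = toSubgroupOf H T θ k := by
    intro t k
    exact ((hT (t : G)).mp t.2) ⟨((k : T) : G), Subgroup.mem_subgroupOf.mp k.2⟩
  have habT : ∀ x y : T, x * y * x⁻¹ * y⁻¹ ∈ H.subgroupOf T := by
    intro x y
    rw [Subgroup.mem_subgroupOf]
    exact hab x x.2 y y.2
  obtain ⟨e, CT, he, hCTirr, hCTne, hCTres, hCTsum, hCTcard⟩ :=
    clifford_abelian_quotient (H.subgroupOf T) (toSubgroupOf H T θ) hθTirr hinvT habT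
  have hcorr : ∀ ψ ∈ CT, ∀ ψ' ∈ CT, Cfsg.IsIrrCharacter G (Cfsg.indFun T ψ) ∧
      (Cfsg.indFun T ψ = Cfsg.indFun T ψ' → ψ = ψ') := by
    intro ψ hψ ψ' hψ'
    exact Cfsg.Agent.S1489.result H T θ hθ hT hHT ψ ψ' (hCTirr ψ hψ) (hCTirr ψ' hψ')
      (hCTne ψ hψ) (hCTne ψ' hψ')
  have hinj : Set.InjOn (Cfsg.indFun T) (CT : Set (T → ℂ)) := by
    intro ψ hψ ψ' hψ' heq
    exact (hcorr ψ hψ ψ' hψ').2 heq
  refine ⟨e, CT.image (Cfsg.indFun T), he, ?_, ?_, ?_, ?_, ?_⟩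
  · intro χ hχ
    obtain ⟨ψ, hψ, rfl⟩ := Finset.mem_image.mp hχ
    exact (hcorr ψ hψ ψ hψ).1
  · rw [Finset.card_image_of_injOn hinj, ← card_subgroupOf_of_le hHT]
    exact hCTcard
  · rw [Finset.sum_image hinj, ← indFun_trans H T hHT θ, hCTsum, indFun_smul, indFun_sum]
  · intro χ hχ
    obtain ⟨ψ, hψ, rfl⟩ := Finset.mem_image.mp hχ
    rw [Cfsg.Agent.Helper5.indFun_apply_one]
    have h1 := hCTres ψ hψ 1
    have h2 : toSubgroupOf H T θ 1 = θ 1 := rfl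
    rw [h2] at h1
    have h3 : ψ 1 = (e : ℂ) * θ 1 := h1
    rw [h3]
    ring
  · intro hcop
    apply ramification_eq_one_of_coprime (H.subgroupOf T) (toSubgroupOf H T θ) hθTirr e CT hCTirr
      hCTsum hCTcard
    rw [card_subgroupOf_of_le hHT]
    exact hcop

end Cfsg.Agent.Helper8
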