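import Mathlib
import Cfsg.Agent.Helper1.S3401Defs
import Cfsg.Agent.Helper26.S3401MAIN

/-! S3401 piece TWOT: `M` is 2-transitive (from transitivity and MAIN). -/

set_option autoImplicit false

namespace Cfsg.Agent.S3401P

variable {G : Type*} [Group G] [Finite G] {Ω : Type*} [Fintype Ω] [MulAction G Ω]

/-- TWOT: `M` is 2-transitive. -/
theorem TWOT {M : Subgroup G} (h : Hyp Ω M) : MulAction.IsMultiplyPretransitive ↥M Ω 2 := by
  rw [MulAction.is_two_pretransitive_iff]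
  intro a b c d hab hcd
  obtain ⟨m₁, hm₁, h1⟩ := h.htr a c
  have hb' : m₁ • b ≠ c := by
    intro hbc
    apply hab
    have : m₁ • b = m₁ • a := by rw [hbc, h1]
    exact (MulAction.injective m₁ this).symm
  obtain ⟨m₂, hm₂, h2, h3⟩ := MAIN h c (m₁ • b) d hb' (Ne.symm hcd)
  refine ⟨⟨m₂ * m₁, M.mul_mem hm₂ hm₁⟩, ?_, ?_⟩
  · change (m₂ * m₁) • a = c
    rw [mul_smul, h1, h2]
  · change (m₂ * m₁) • b = d
    rw [mul_smul, h3]

end Cfsg.Agent.S3401P
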