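import Mathlib
import Cfsg.Agent.Helper28.S5751Defs
import Cfsg.Agent.Helper28.BTStab3
import Cfsg.Agent.Helper28.S5751ADD
import Cfsg.Agent.Helper6.S5751XENT
import Cfsg.Agent.Helper28.S5751SLA
import Cfsg.Agent.Helper7.S5751SLB
import Cfsg.Agent.Helper8.BTWACT
import Cfsg.Agent.Helper18.BTLEV

set_option autoImplicit false
set_option linter.unusedSectionVars false
set_option linter.unusedVariables false

/-!
# S5751, pieces KEY1 / KEY2: descent and transport of the coordinates of level `m`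
-/

namespace Cfsg.Agent.Helper8.S5751KEY

open Cfsg.Lie Cfsg.Agent.Helper6 Cfsg.Agent.Helper28.BT Cfsg.Agent.Helper2.Levi Cfsg.Agent.S5751P

variable {D : ChevalleyDatum} {F : Type*} [Field F]

/-- a sum over a duplicate-free list with a single non-zero term -/
theorem sum_map_single {L : List ℕ} (hL : L.Nodup) {r : ℕ} (hr : r ∈ L) (f : ℕ → F)
    (h0 : ∀ x ∈ L, x ≠ r → f x = 0) : (L.map f).sum = f r := by
  induction L with
  | nil => simp at hr
  | cons x L ih =>
    rw [List.nodup_cons] at hL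
    rw [List.map_cons, List.sum_cons]
    rcases List.mem_cons.1 hr with rfl | hr'
    · have h1 : (L.map f).sum = 0 := by
        apply List.sum_eq_zero
        intro y hy
        obtain ⟨z, hz, rfl⟩ := List.mem_map.1 hy
        apply h0 z (List.mem_cons_of_mem _ hz)
        rintro rfl
        exact hL.1 hz
      rw [h1, add_zero]
    · have hx : x ≠ r := by
        rintro rfl
        exact hL.1 hr'
      rw [h0 x List.mem_cons_self hx, zero_add]
      exact ih hL.2 hr' (fun y hy => h0 y (List.mem_cons_of_mem _ hy))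

/-- the level of a reflected root -/
theorem lev_wR' (Δ : BNData D F) (i : Fin D.rank) (μ : Fin D.rank → ℝ) {r : ℕ}
    (hr : r < D.nroots) :
    lev D μ (wR D (D.simple i.val) r) =
      lev D μ r - ((D.cartan i.val r : ℤ) : ℝ) * lev D μ (D.simple i.val) := by
  have h1 : lev D μ (wR D (D.simple i.val) r) =
      ((1 : ℤ) : ℝ) * lev D μ r + ((-(D.cartan i.val r) : ℤ) : ℝ) * lev D μ (D.simple i.val) :=
    lev_lin μ (fun k hk => by rw [Cfsg.Agent.Helper8.BT.cartan_wR Δ i hr k hk]; ring)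
  rw [h1]; push_cast; ring

theorem wR_lt' (Δ : BNData D F) (i : Fin D.rank) {s : ℕ} (hs : s < D.nroots) :
    wR D (D.simple i.val) s < D.nroots :=
  wR_lt Δ.hB (Δ.hAll i.val i.isLt).hS.1 (Δ.hAll i.val i.isLt).hR hs

/-- the positive roots are the entries of the list underlying `posWord` -/
theorem mem_range'_iff (Δ : BNData D F) (r : ℕ) :
    r ∈ List.range' (D.nroots / 2) (D.nroots / 2) ↔ D.IsPosRoot r := by
  rw [List.mem_range'_1]
  have he := Δ.even
  constructor
  · rintro ⟨h1, h2⟩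
    have hr : r < D.nroots := by omega
    exact (Δ.hsign' r hr).2 h1
  · intro h
    have h1 := (Δ.hsign' r h.1).1 h
    have := h.1
    omega

/-- the entries of degree `k` of the conjugate by `n_i` of an ordered word, all of whose
conjugated factors lie in `GrFil(μ, k)` -/
theorem conj_entry (Δ : BNData D F) {μ : Fin D.rank → ℝ} (i : Fin D.rank) {k : ℝ} (hk : 0 < k)
    (t : ℕ → F)
    (hfac : ∀ r', D.IsPosRoot r' → t r' ≠ 0 → k ≤ lev D μ (wR D (D.simple i.val) r'))
    {r : ℕ} (hr : D.IsPosRoot r) (hlev : lev D μ (wR D (D.simple i.val) r) = k)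
    (a : Fin D.rank) :
    ((nU Δ.hB (D.simple i.val) (one_ne_zero (α := F)) * wordU Δ.hB (posWord D t) *
        (nU Δ.hB (D.simple i.val) (one_ne_zero (α := F)))⁻¹ : GL D.Idx F) :
          Matrix D.Idx D.Idx F)
        (Sum.inr ⟨wR D (D.simple i.val) r, wR_lt' Δ i hr.1⟩) (Sum.inl a) =
      -(((D.cartan a.val (wR D (D.simple i.val) r) : ℤ) : F)) *
        (((etaR D (D.simple i.val) r : ℤ) : F) * t r) := by
  have hmemlt : ∀ p ∈ posWord D t, p.1 < D.nroots := by
    intro p hp
    unfold posWord at hp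
    obtain ⟨r', hr', rfl⟩ := List.mem_map.1 hp
    exact ((mem_range'_iff Δ r').1 hr').1
  rw [conj_wordU Δ i (posWord D t) hmemlt]
  unfold wordU
  rw [entry_list_prod (degI D μ) hk _ _ _ _ (by
    show lev D μ (wR D (D.simple i.val) r) - 0 = k
    rw [hlev, sub_zero])]
  · unfold posWord
    rw [List.map_map, List.map_map, List.map_map]
    rw [sum_map_single (List.nodup_range' (step := 1) (by norm_num))
      ((mem_range'_iff Δ r).2 hr)]
    · show (D.x F (wR D (D.simple i.val) r) (((etaR D (D.simple i.val) r : ℤ) : F) * t r))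
        (Sum.inr ⟨wR D (D.simple i.val) r, wR_lt' Δ i hr.1⟩) (Sum.inl a) = _
      rw [x_entry Δ.hB (wR_lt' Δ i hr.1), if_pos rfl]
    · intro r' hr' hne
      have hr'pos := (mem_range'_iff Δ r').1 hr'
      show (D.x F (wR D (D.simple i.val) r') (((etaR D (D.simple i.val) r' : ℤ) : F) * t r'))
        (Sum.inr ⟨wR D (D.simple i.val) r, wR_lt' Δ i hr.1⟩) (Sum.inl a) = 0
      rw [x_entry Δ.hB (wR_lt' Δ i hr'pos.1), if_neg]
      intro h
      apply hne
      exact (wR_inj Δ.hB (Δ.hAll i.val i.isLt) hr.1 hr'pos.1 h).symm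
  · intro g hg
    rw [List.map_map] at hg
    obtain ⟨p, hp, rfl⟩ := List.mem_map.1 hg
    unfold posWord at hp
    obtain ⟨r', hr', rfl⟩ := List.mem_map.1 hp
    have hr'pos := (mem_range'_iff Δ r').1 hr'
    show xU Δ.hB (wR D (D.simple i.val) r') (((etaR D (D.simple i.val) r' : ℤ) : F) * t r') ∈
      GrFil (degI D μ) k
    by_cases ht : t r' = 0
    · rw [ht, mul_zero]
      rw [xU_zero]
      exact Subgroup.one_mem _
    · have hle := hfac r' hr'pos ht
      have h0 : 0 ≤ lev D μ (wR D (D.simple i.val) r') := hk.le.trans hle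
      exact GrFil_mono _ hk.le hle
        (Cfsg.Agent.Helper18.BT.xU_mem_GrFil Δ μ (wR_lt' Δ i hr'pos.1) h0 _)

/-- extraction of the coefficient -/
theorem coef_zero_of_entries (Δ : BNData D F)
    (hodd : ∀ r < D.nroots, ∃ i : Fin D.rank, ((D.cartan i.val r : ℤ) : F) ≠ 0)
    (i : Fin D.rank) {r : ℕ} (hr : r < D.nroots) (c : F)
    (h : ∀ a : Fin D.rank, -(((D.cartan a.val (wR D (D.simple i.val) r) : ℤ) : F)) *
        (((etaR D (D.simple i.val) r : ℤ) : F) * c) = 0) : c = 0 := by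
  obtain ⟨a, ha⟩ := hodd _ (wR_lt' Δ i hr)
  have h1 := h a
  have hη : ((etaR D (D.simple i.val) r : ℤ) : F) ≠ 0 := by
    intro h0
    have := etaR_sq (F := F) Δ.hB (Δ.hAll i.val i.isLt) hr
    rw [h0, mul_zero] at this
    exact zero_ne_one this
  rcases mul_eq_zero.1 h1 with h2 | h2
  · exact absurd (neg_eq_zero.1 h2) ha
  · rcases mul_eq_zero.1 h2 with h3 | h3
    · exact absurd h3 hη
    · exact h3

end Cfsg.Agent.Helper8.S5751KEY

namespace Cfsg.Agent.S5751P

open Cfsg.Lie Cfsg.Agent.Helper6 Cfsg.Agent.Helper28.BT Cfsg.Agent.Helper2.Levi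
open Cfsg.Agent.Helper8.S5751KEY

variable {D : ChevalleyDatum} {F : Type*} [Field F]

theorem descent (hD : IsTabulated D)
    (hodd : ∀ r < D.nroots, ∃ i : Fin D.rank, ((D.cartan i.val r : ℤ) : F) ≠ 0)
    {μ : Fin D.rank → ℝ} (hdom : Dominant D μ) (i : Fin D.rank) {m : ℝ} (hm : 1 < m)
    (hstep : ∀ r, D.IsPosRoot r → m ≤ lev D μ r → D.IsPosRoot (wR D (D.simple i.val) r) ∧
      m - 1 ≤ lev D μ (wR D (D.simple i.val) r))
    {y : GL D.Idx F} (hy : y ∈ QF D F μ m)
    (hz : nU (basicOK_of_tabulated hD) (D.simple i.val) (one_ne_zero (α := F)) * y *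
      (nU (basicOK_of_tabulated hD) (D.simple i.val) (one_ne_zero (α := F)))⁻¹ ∈ GrFil (degI D μ) m)
    {r : ℕ} (hr : D.IsPosRoot r) (hlr : lev D μ r = m)
    (hdrop : lev D μ (wR D (D.simple i.val) r) = m - 1) (a : Fin D.rank) :
    (y : Matrix D.Idx D.Idx F) (Sum.inr ⟨r, hr.1⟩) (Sum.inl a) = 0 := by
  have Δ : BNData D F := bnData_of_tabulated F hD
  have hm0 : 0 < m := by linarith
  have hk : 0 < m - 1 := by linarith
  obtain ⟨t, rfl, ht⟩ := exists_posWord hD hodd hdom hm0 hy
  rw [entry_posWord hD hdom hm0 t ht hr hlr a]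
  have hfac : ∀ r', D.IsPosRoot r' → t r' ≠ 0 → m - 1 ≤ lev D μ (wR D (D.simple i.val) r') := by
    intro r' hr' htr'
    have hle : m ≤ lev D μ r' := by
      by_contra hlt
      exact htr' (ht r' hr' (not_le.1 hlt))
    exact (hstep r' hr' hle).2
  have hent := conj_entry Δ i hk t hfac hr hdrop
  have htr : t r = 0 := by
    apply coef_zero_of_entries Δ hodd i hr.1
    intro a'
    rw [← hent a']
    apply entry_eq_zero_of_mem_GrFil (degI D μ) hm0.le hz (by simp)
    show lev D μ (wR D (D.simple i.val) r) - 0 < m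
    rw [hdrop]
    linarith
  rw [htr, mul_zero]

theorem move (hD : IsTabulated D)
    (hodd : ∀ r < D.nroots, ∃ i : Fin D.rank, ((D.cartan i.val r : ℤ) : F) ≠ 0)
    {μ : Fin D.rank → ℝ} (hdom : Dominant D μ) (i : Fin D.rank)
    (hi : lev D μ (D.simple i.val) = 0) {m : ℝ} (hm : 0 < m)
    {y : GL D.Idx F} (hy : y ∈ QF D F μ m) {r : ℕ} (hr : D.IsPosRoot r) (hlr : lev D μ r = m)
    (hr' : D.IsPosRoot (wR D (D.simple i.val) r))
    (h0 : ∀ a : Fin D.rank,
      ((nU (basicOK_of_tabulated hD) (D.simple i.val) (one_ne_zero (α := F)) * y *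
        (nU (basicOK_of_tabulated hD) (D.simple i.val) (one_ne_zero (α := F)))⁻¹ : GL D.Idx F) :
          Matrix D.Idx D.Idx F) (Sum.inr ⟨wR D (D.simple i.val) r, hr'.1⟩) (Sum.inl a) = 0)
    (a : Fin D.rank) : (y : Matrix D.Idx D.Idx F) (Sum.inr ⟨r, hr.1⟩) (Sum.inl a) = 0 := by
  have Δ : BNData D F := bnData_of_tabulated F hD
  obtain ⟨t, rfl, ht⟩ := exists_posWord hD hodd hdom hm hy
  rw [entry_posWord hD hdom hm t ht hr hlr a]
  have hlevw : ∀ r', r' < D.nroots → lev D μ (wR D (D.simple i.val) r') = lev D μ r' := by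
    intro r' hr'
    rw [lev_wR' Δ i μ hr', hi, mul_zero, sub_zero]
  have hfac : ∀ r', D.IsPosRoot r' → t r' ≠ 0 → m ≤ lev D μ (wR D (D.simple i.val) r') := by
    intro r' hr' htr'
    rw [hlevw r' hr'.1]
    by_contra hlt
    exact htr' (ht r' hr' (not_le.1 hlt))
  have hent := conj_entry Δ i hm t hfac hr (by rw [hlevw r hr.1, hlr])
  have htr : t r = 0 := by
    apply coef_zero_of_entries Δ hodd i hr.1
    intro a'
    rw [← hent a']
    exact h0 a'
  rw [htr, mul_zero]

end Cfsg.Agent.S5751P
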