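import Mathlib
import Cfsg.Prelude.Def_Characters
import Cfsg.Prelude.Def_OddOrderLocal
import Cfsg.Agent.Helper8.Ind
import Cfsg.Agent.Helper8.DualGroup
import Cfsg.Agent.Helper23.Cyclic

set_option autoImplicit false

namespace Cfsg.Agent.Helper8

open scoped ComplexConjugate

variable {G : Type*} [Group G]

/-- a homomorphism on `W₁ ⊔ W₂` that is trivial on both factors is trivial -/
theorem hom_eq_one_of_trivial (W₁ W₂ : Subgroup G) {N : Type*} [Group N]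
    (ω : ↥(W₁ ⊔ W₂) →* N)
    (h₁ : ∀ w : ↥(W₁ ⊔ W₂), (w : G) ∈ W₁ → ω w = 1)
    (h₂ : ∀ w : ↥(W₁ ⊔ W₂), (w : G) ∈ W₂ → ω w = 1) : ω = 1 := by
  have hle : W₁ ⊔ W₂ ≤ (ω.ker).map (W₁ ⊔ W₂).subtype := by
    apply sup_le
    · intro a ha
      exact ⟨⟨a, (le_sup_left : W₁ ≤ W₁ ⊔ W₂) ha⟩, MonoidHom.mem_ker.mpr (h₁ _ ha), rfl⟩
    · intro a ha
      exact ⟨⟨a, (le_sup_right : W₂ ≤ W₁ ⊔ W₂) ha⟩, MonoidHom.mem_ker.mpr (h₂ _ ha), rfl⟩
  apply MonoidHom.ext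
  intro w
  obtain ⟨k, hk, e⟩ := hle w.2
  have : k = w := Subtype.ext e
  rw [← this]
  exact MonoidHom.mem_ker.mp hk

/-- commutativity of the cyclic group `W₁ ⊔ W₂` -/
theorem snc_comm {W₁ W₂ : Subgroup G} (hW : Cfsg.IsSelfNormalizingCyclic W₁ W₂) :
    ∀ a b : ↥(W₁ ⊔ W₂), a * b = b * a := by
  obtain ⟨_, _, _, _, hcyc, _⟩ := hW
  have hi : IsMulCommutative ↥(W₁ ⊔ W₂) := IsCyclic.isMulCommutative
  exact fun a b => mul_comm' a b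

/-- In a self-normalising cyclic configuration the normaliser of a point of
`W ∖ (W₁ ∪ W₂)` is `W`. -/
theorem snc_mem_iff {W₁ W₂ : Subgroup G} (hW : Cfsg.IsSelfNormalizingCyclic W₁ W₂) {w : G}
    (hw : w ∈ W₁ ⊔ W₂) (hw₁ : w ∉ W₁) (hw₂ : w ∉ W₂) (y : G) :
    y ∈ W₁ ⊔ W₂ ↔ y * w * y⁻¹ = w := by
  obtain ⟨_, _, _, _, _, hN⟩ := hW
  have h := hN {w} (by
    intro z hz
    rw [Set.mem_singleton_iff] at hz
    subst hz
    exact ⟨hw, fun h => h.elim hw₁ hw₂⟩) ⟨w, rfl⟩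
  rw [← h, Subgroup.mem_set_normalizer_iff]
  constructor
  · intro h1
    exact (h1 w).mp rfl
  · intro h1 z
    simp only [Set.mem_singleton_iff]
    constructor
    · rintro rfl; exact h1
    · intro h2
      have : y * z * y⁻¹ = y * w * y⁻¹ := by rw [h1, h2]
      simpa using this

/-- The trivial-intersection property of `W ∖ (W₁ ∪ W₂)`. -/
theorem snc_ti [Finite G] {W₁ W₂ : Subgroup G} (hW : Cfsg.IsSelfNormalizingCyclic W₁ W₂) {w x : G}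
    (hw : w ∈ W₁ ⊔ W₂) (hw₁ : w ∉ W₁) (hw₂ : w ∉ W₂)
    (hx : x⁻¹ * w * x ∈ W₁ ⊔ W₂) (hx₁ : x⁻¹ * w * x ∉ W₁) (hx₂ : x⁻¹ * w * x ∉ W₂) :
    x ∈ W₁ ⊔ W₂ := by
  have hC := snc_mem_iff hW hw hw₁ hw₂
  have hC' := snc_mem_iff hW hx hx₁ hx₂
  obtain ⟨_, _, _, _, hcyc, hN⟩ := hW
  -- conjugation by `x` preserves `W`
  have hB1 : ∀ y ∈ W₁ ⊔ W₂, x⁻¹ * y * x ∈ W₁ ⊔ W₂ := by
    intro y hy
    rw [hC']
    have := (hC y).mp hy
    calc x⁻¹ * y * x * (x⁻¹ * w * x) * (x⁻¹ * y * x)⁻¹ = x⁻¹ * (y * w * y⁻¹) * x := by group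
      _ = x⁻¹ * w * x := by rw [this]
  have hB2 : ∀ y ∈ W₁ ⊔ W₂, x * y * x⁻¹ ∈ W₁ ⊔ W₂ := by
    intro y hy
    rw [hC]
    have := (hC' y).mp hy
    calc x * y * x⁻¹ * w * (x * y * x⁻¹)⁻¹ = x * (y * (x⁻¹ * w * x) * y⁻¹) * x⁻¹ := by group
      _ = x * (x⁻¹ * w * x) * x⁻¹ := by rw [this]
      _ = w := by group
  -- conjugation by `x` preserves each subgroup of `W`
  have hsub : ∀ Z : Subgroup G, Z ≤ W₁ ⊔ W₂ → ∀ h : G, h ∈ Z ↔ x * h * x⁻¹ ∈ Z := by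
    intro Z hZ
    have hmap : Z.map (MulAut.conj x).toMonoidHom = Z := by
      apply Cfsg.Agent.Helper23.eq_of_card_eq_of_isCyclic (W₁ ⊔ W₂) hcyc _ _ _ hZ
      · exact Subgroup.card_map_of_injective (MulAut.conj x).injective
      · rintro _ ⟨a, ha, rfl⟩
        exact hB2 a (hZ ha)
    intro h
    constructor
    · intro hh
      rw [← hmap]
      exact ⟨h, hh, rfl⟩
    · intro hh
      rw [← hmap] at hh
      obtain ⟨a, ha, e⟩ := hh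
      have : a = h := by
        have e' : x * a * x⁻¹ = x * h * x⁻¹ := e
        simpa using e'
      rw [← this]; exact ha
  have hxN : x ∈ Subgroup.normalizer ((↑(W₁ ⊔ W₂) : Set G) \ (↑W₁ ∪ ↑W₂)) := by
    rw [Subgroup.mem_set_normalizer_iff]
    intro h
    simp only [Set.mem_sdiff, SetLike.mem_coe, Set.mem_union, not_or]
    rw [← hsub W₁ le_sup_left h, ← hsub W₂ le_sup_right h, ← hsub (W₁ ⊔ W₂) le_rfl h]
  rw [hN _ (subset_refl _) ⟨w, hw, fun h => h.elim hw₁ hw₂⟩] at hxN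
  exact hxN

/-- On `W ∖ (W₁ ∪ W₂)` the function induced from a function on `W` vanishing on `W₁ ∪ W₂`
agrees with the function. -/
theorem snc_indFun_apply [Fintype G] {W₁ W₂ : Subgroup G}
    (hW : Cfsg.IsSelfNormalizingCyclic W₁ W₂) (f : ↥(W₁ ⊔ W₂) → ℂ)
    (hf : ∀ w : ↥(W₁ ⊔ W₂), ((w : G) ∈ W₁ ∨ (w : G) ∈ W₂) → f w = 0)
    (w : ↥(W₁ ⊔ W₂)) (hw₁ : (w : G) ∉ W₁) (hw₂ : (w : G) ∉ W₂) :
    Cfsg.indFun (W₁ ⊔ W₂) f (w : G) = f w := by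
  classical
  have : Fintype ↥(W₁ ⊔ W₂) := Fintype.ofFinite _
  rw [indFun_def]
  have h1 : ∀ x : G, Cfsg.extendByZero (W₁ ⊔ W₂) f (x⁻¹ * (w : G) * x)
      = Cfsg.extendByZero (W₁ ⊔ W₂) (fun _ => f w) x * 1 := by
    intro x
    rw [mul_one]
    by_cases hx : x ∈ W₁ ⊔ W₂
    · rw [ebz_mem _ _ hx]
      have hcomm := snc_comm hW ⟨x, hx⟩⁻¹ w
      have e : x⁻¹ * (w : G) * x = w := by
        have := congrArg Subtype.val hcomm
        simp only [Subgroup.coe_mul, Subgroup.coe_inv] at this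
        rw [this]; group
      rw [e, ebz_coe]
    · rw [ebz_not_mem _ _ hx]
      by_cases h2 : x⁻¹ * (w : G) * x ∈ W₁ ⊔ W₂
      · rw [ebz_mem _ _ h2]
        apply hf
        by_contra h3
        push Not at h3
        exact hx (snc_ti hW w.2 hw₁ hw₂ h2 h3.1 h3.2)
      · rw [ebz_not_mem _ _ h2]
  rw [Finset.sum_congr rfl (fun x _ => h1 x), sum_ebz_mul]
  simp only [mul_one, Finset.sum_const, Finset.card_univ, nsmul_eq_mul]
  rw [← Nat.card_eq_fintype_card]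
  have hne : (Nat.card ↥(W₁ ⊔ W₂) : ℂ) ≠ 0 := Nat.cast_ne_zero.mpr Nat.card_pos.ne'
  field_simp

end Cfsg.Agent.Helper8
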