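import Mathlib
import Cfsg.Prelude.Def_Characters
import Cfsg.Agent.Helper8.Inertia
import Cfsg.Agent.Helper8.CliffordAb

/-!
Characters of `L = K ⋊ W₁` with `W₁` a cyclic Hall subgroup all of whose nonidentity elements
have the same centralizer `W₂` in `K`.
-/

set_option autoImplicit false

namespace Cfsg.Agent.Helper8

variable {L : Type*} [Group L]

theorem isComplement'_of_normal_inf_sup (K W : Subgroup L) [hK : K.Normal] (hinf : K ⊓ W = ⊥)
    (hsup : K ⊔ W = ⊤) : Subgroup.IsComplement' K W := by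
  apply Subgroup.isComplement'_of_disjoint_and_mul_eq_univ
  · rw [disjoint_iff]; exact hinf
  · rw [← Subgroup.normal_mul, hsup]; rfl

theorem exists_mul_of_normal_sup (K W : Subgroup L) [hK : K.Normal] (hsup : K ⊔ W = ⊤) (g : L) :
    ∃ k ∈ K, ∃ w ∈ W, g = k * w := by
  have hg : g ∈ (↑(K ⊔ W) : Set L) := by rw [hsup]; exact Set.mem_univ g
  rw [Subgroup.normal_mul] at hg
  obtain ⟨k, hk, w, hw, hkw⟩ := hg
  exact ⟨k, hk, w, hw, hkw.symm⟩

/-- the quotient by a normal subgroup with a commutative supplement is commutative -/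
theorem commutator_mem_of_comm_supplement (K W : Subgroup L) [hK : K.Normal] (hsup : K ⊔ W = ⊤)
    (hcomm : ∀ a ∈ W, ∀ b ∈ W, a * b = b * a) (x y : L) : x * y * x⁻¹ * y⁻¹ ∈ K := by
  obtain ⟨k₁, hk₁, w₁, hw₁, rfl⟩ := exists_mul_of_normal_sup K W hsup x
  obtain ⟨k₂, hk₂, w₂, hw₂, rfl⟩ := exists_mul_of_normal_sup K W hsup y
  rw [← QuotientGroup.eq_one_iff]
  have h1 : ((k₁ : L) : L ⧸ K) = 1 := (QuotientGroup.eq_one_iff k₁).mpr hk₁
  have h2 : ((k₂ : L) : L ⧸ K) = 1 := (QuotientGroup.eq_one_iff k₂).mpr hk₂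
  simp only [QuotientGroup.mk_mul, QuotientGroup.mk_inv, h1, h2, one_mul]
  rw [← QuotientGroup.mk_mul, hcomm w₁ hw₁ w₂ hw₂, QuotientGroup.mk_mul]
  group

section Counting

variable [Finite L]

/-- number of irreducible characters of `K` fixed by a nonidentity element of `W₁` -/
theorem card_fixed_irr_of_centralizer (K W₁ W₂ : Subgroup L) [hK : K.Normal]
    (hcop : (Nat.card W₁).Coprime (Nat.card K))
    (hW₂comm : ∀ a b : W₂, a * b = b * a)
    (hC : ∀ x ∈ W₁, x ≠ 1 → K ⊓ Subgroup.centralizer ({x} : Set L) = W₂)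
    (x : L) (hx : x ∈ W₁) (hx1 : x ≠ 1) :
    Nat.card {θ : Cfsg.IrrCharacter K // x ∈ inertia K (θ : K → ℂ)} = Nat.card W₂ := by
  have hcopx : (orderOf x).Coprime (Nat.card K) :=
    Nat.Coprime.coprime_dvd_left (Subgroup.orderOf_dvd_natCard W₁ hx) hcop
  rw [card_fixed_irr_coprime K x hcopx, hC x hx hx1]
  exact Cfsg.Agent.Helper24.card_conjClasses_eq_card_of_comm hW₂comm

/-- an irreducible character of `K` fixed by some nonidentity element of `W₁` is fixed by all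
of `W₁` -/
theorem le_inertia_of_exists_fixed (K W₁ W₂ : Subgroup L) [hK : K.Normal] (hW₁c : IsCyclic W₁)
    (hcop : (Nat.card W₁).Coprime (Nat.card K))
    (hW₂comm : ∀ a b : W₂, a * b = b * a)
    (hC : ∀ x ∈ W₁, x ≠ 1 → K ⊓ Subgroup.centralizer ({x} : Set L) = W₂)
    (θ : K → ℂ) (hθ : Cfsg.IsIrrCharacter K θ)
    (hex : ∃ y ∈ W₁, y ≠ 1 ∧ y ∈ inertia K θ) : W₁ ≤ inertia K θ := by
  classical
  obtain ⟨y, hy, hy1, hyθ⟩ := hex
  obtain ⟨w, hw⟩ := IsCyclic.exists_generator (α := W₁)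
  have hwgen : ∀ z ∈ W₁, z ∈ Subgroup.zpowers (w : L) := by
    intro z hz
    obtain ⟨n, hn⟩ := Subgroup.mem_zpowers_iff.mp (hw ⟨z, hz⟩)
    rw [Subgroup.mem_zpowers_iff]
    refine ⟨n, ?_⟩
    have := congrArg Subtype.val hn
    simpa using this
  have hw1 : (w : L) ≠ 1 := by
    intro h
    apply hy1
    have := hwgen y hy
    rw [h, Subgroup.zpowers_one_eq_bot, Subgroup.mem_bot] at this
    exact this
  have hsub : {θ' : Cfsg.IrrCharacter K | (w : L) ∈ inertia K (θ' : K → ℂ)}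
      ⊆ {θ' : Cfsg.IrrCharacter K | y ∈ inertia K (θ' : K → ℂ)} := by
    intro θ' hθ'
    have hθ'' : (w : L) ∈ inertia K (θ' : K → ℂ) := hθ'
    exact (Subgroup.zpowers_le.mpr hθ'') (hwgen y hy)
  have hcard1 := card_fixed_irr_of_centralizer K W₁ W₂ hcop hW₂comm hC (w : L) w.2 hw1
  have hcard2 := card_fixed_irr_of_centralizer K W₁ W₂ hcop hW₂comm hC y hy hy1
  have hfin : {θ' : Cfsg.IrrCharacter K | y ∈ inertia K (θ' : K → ℂ)}.Finite :=
    Set.toFinite _
  have heq := Set.eq_of_subset_of_ncard_le hsub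
    (by
      rw [← Nat.card_coe_set_eq, ← Nat.card_coe_set_eq]
      exact le_of_eq (hcard2.trans hcard1.symm)) hfin
  have hθw : (⟨θ, hθ⟩ : Cfsg.IrrCharacter K) ∈
      {θ' : Cfsg.IrrCharacter K | (w : L) ∈ inertia K (θ' : K → ℂ)} := by
    rw [heq]
    exact hyθ
  have hθw' : (w : L) ∈ inertia K θ := hθw
  intro z hz
  exact (Subgroup.zpowers_le.mpr hθw') (hwgen z hz)

end Counting

/-- an irreducible character of a normal subgroup whose inertia group is the subgroup itself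
induces irreducibly -/
theorem isIrrCharacter_indFun_of_inertia_eq [Fintype L] (K : Subgroup L) [hK : K.Normal]
    (θ : K → ℂ) (hθ : Cfsg.IsIrrCharacter K θ) (hI : inertia K θ = K) :
    Cfsg.IsIrrCharacter L (Cfsg.indFun K θ) := by
  have fI : Fintype (Cfsg.IrrCharacter L) := Fintype.ofFinite _
  rw [Cfsg.Agent.Helper24.isIrrCharacter_iff_classInner_self]
  refine ⟨Cfsg.Agent.Helper24.isCharacter_indFun K
    (Cfsg.Agent.Helper24.IsIrrCharacter.isCharacter hθ), ?_⟩
  have h1 := card_mul_classInner_indFun_self K θ hθ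
  have h2 : Nat.card {g : L // ∀ h : K, θ ⟨g * h * g⁻¹, hK.conj_mem h h.2 g⟩ = θ h}
      = Nat.card K := by
    have : Nat.card {g : L // ∀ h : K, θ ⟨g * h * g⁻¹, hK.conj_mem h h.2 g⟩ = θ h}
        = Nat.card (inertia K θ) := rfl
    rw [this, hI]
  rw [h2] at h1
  have hK0 : (Nat.card K : ℂ) ≠ 0 := Nat.cast_ne_zero.mpr Nat.card_pos.ne'
  have h3 : (Nat.card K : ℂ) * Cfsg.classInner (Cfsg.indFun K θ) (Cfsg.indFun K θ)
      = (Nat.card K : ℂ) * 1 := by rw [h1, mul_one]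
  exact mul_left_cancel₀ hK0 h3

theorem inertia_eq_of_inf_eq_bot (K W : Subgroup L) [hK : K.Normal] (hsup : K ⊔ W = ⊤)
    (θ : K → ℂ) (hθ : Cfsg.IsClassFunction K θ) (hI : inertia K θ ⊓ W = ⊥) :
    inertia K θ = K := by
  apply le_antisymm
  · intro g hg
    obtain ⟨k, hk, w, hw, rfl⟩ := exists_mul_of_normal_sup K W hsup g
    have hkI : k ∈ inertia K θ := le_inertia K θ hθ hk
    have hwI : w ∈ inertia K θ := by
      have := (inertia K θ).mul_mem ((inertia K θ).inv_mem hkI) hg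
      simpa using this
    have : w ∈ inertia K θ ⊓ W := ⟨hwI, hw⟩
    rw [hI, Subgroup.mem_bot] at this
    rw [this, mul_one]
    exact hk
  · exact le_inertia K θ hθ

end Cfsg.Agent.Helper8
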