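import Mathlib
import Cfsg.Prelude.Def_Characters
import Cfsg.Prelude.Def_OddOrderLocal
import Cfsg.Agent.Helper8.CyclicTI
import Cfsg.Agent.Helper8.SemiCyclic
import Cfsg.Agent.Helper8.IndTrans

/-!
The dual group of a self-normalising cyclic `W = W₁ × W₂` splits as the product of the
annihilators of `W₂` and of `W₁`.
-/

set_option autoImplicit false

namespace Cfsg.Agent.Helper8

/-- the annihilator of `H` in the dual group has `|W : H|` elements -/
theorem card_annihilator_mul {W : Type*} [Group W] [Finite W] (hc : ∀ a b : W, a * b = b * a)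
    (H : Subgroup W) :
    Nat.card {φ : W →* ℂˣ // ∀ y ∈ H, φ y = 1} * Nat.card H = Nat.card W := by
  let _ : CommGroup W := { ‹Group W› with mul_comm := hc }
  have hN : H.Normal := inferInstance
  have := hasEnoughRootsOfUnity_exponent (W ⧸ H)
  have h := CommGroup.card_monoidHom_of_hasEnoughRootsOfUnity (W ⧸ H) ℂ
  have e : {φ : W →* ℂˣ // ∀ y ∈ H, φ y = 1} ≃ ((W ⧸ H) →* ℂˣ) :=
    { toFun := fun φ => QuotientGroup.lift H φ.1 (fun y hy => φ.2 y hy)
      invFun := fun ψ => ⟨ψ.comp (QuotientGroup.mk' H), fun y hy => by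
        rw [MonoidHom.comp_apply, QuotientGroup.mk'_apply, (QuotientGroup.eq_one_iff y).mpr hy,
          map_one]⟩
      left_inv := fun φ => by
        apply Subtype.ext
        apply MonoidHom.ext
        intro y
        rfl
      right_inv := fun ψ => by
        apply MonoidHom.ext
        intro y
        induction y using QuotientGroup.induction_on
        rfl }
  rw [Nat.card_congr e, h, Subgroup.card_eq_card_quotient_mul_card_subgroup H]

variable {G : Type*} [Group G]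

theorem snc_card [Finite G] {W₁ W₂ : Subgroup G} (hW : Cfsg.IsSelfNormalizingCyclic W₁ W₂) :
    Nat.card ↥(W₁ ⊔ W₂) = Nat.card W₁ * Nat.card W₂ := by
  have hcm := snc_comm hW
  obtain ⟨_, _, hinf, hcomm, hcyc, _⟩ := hW
  let _ : CommGroup ↥(W₁ ⊔ W₂) :=
    { (inferInstance : Group ↥(W₁ ⊔ W₂)) with mul_comm := hcm }
  have hN : (W₁.subgroupOf (W₁ ⊔ W₂)).Normal := inferInstance
  have hc := isComplement'_of_normal_inf_sup (W₁.subgroupOf (W₁ ⊔ W₂))
    (W₂.subgroupOf (W₁ ⊔ W₂)) (by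
      ext ⟨w, hw⟩
      simp only [Subgroup.mem_inf, Subgroup.mem_subgroupOf, Subgroup.mem_bot]
      constructor
      · rintro ⟨h1, h2⟩
        have : w ∈ W₁ ⊓ W₂ := ⟨h1, h2⟩
        rw [hinf, Subgroup.mem_bot] at this
        exact Subtype.ext this
      · intro h
        have : w = 1 := congrArg Subtype.val h
        subst this
        exact ⟨W₁.one_mem, W₂.one_mem⟩) (by
      rw [← Subgroup.subgroupOf_sup le_sup_left le_sup_right, Subgroup.subgroupOf_self])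
  rw [← hc.card_mul_card, card_subgroupOf_of_le le_sup_left, card_subgroupOf_of_le le_sup_right]

theorem snc_card_annihilator₂ [Finite G] {W₁ W₂ : Subgroup G}
    (hW : Cfsg.IsSelfNormalizingCyclic W₁ W₂) :
    Nat.card {φ : ↥(W₁ ⊔ W₂) →* ℂˣ // ∀ w : ↥(W₁ ⊔ W₂), (w : G) ∈ W₂ → φ w = 1}
      = Nat.card W₁ := by
  have h := card_annihilator_mul (snc_comm hW) (W₂.subgroupOf (W₁ ⊔ W₂))
  rw [card_subgroupOf_of_le le_sup_right, snc_card hW] at h
  have hpos : 0 < Nat.card W₂ := Nat.card_pos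
  exact Nat.eq_of_mul_eq_mul_right hpos h

theorem snc_card_annihilator₁ [Finite G] {W₁ W₂ : Subgroup G}
    (hW : Cfsg.IsSelfNormalizingCyclic W₁ W₂) :
    Nat.card {ψ : ↥(W₁ ⊔ W₂) →* ℂˣ // ∀ w : ↥(W₁ ⊔ W₂), (w : G) ∈ W₁ → ψ w = 1}
      = Nat.card W₂ := by
  have h := card_annihilator_mul (snc_comm hW) (W₁.subgroupOf (W₁ ⊔ W₂))
  rw [card_subgroupOf_of_le le_sup_left, snc_card hW, mul_comm (Nat.card W₁)] at h
  have hpos : 0 < Nat.card W₁ := Nat.card_pos
  exact Nat.eq_of_mul_eq_mul_right hpos h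

/-- multiplication from the product of the two annihilators onto the dual group is bijective -/
theorem snc_dual_mul_bijective [Finite G] {W₁ W₂ : Subgroup G}
    (hW : Cfsg.IsSelfNormalizingCyclic W₁ W₂) :
    Function.Bijective
      (fun p : {φ : ↥(W₁ ⊔ W₂) →* ℂˣ // ∀ w : ↥(W₁ ⊔ W₂), (w : G) ∈ W₂ → φ w = 1} ×
        {ψ : ↥(W₁ ⊔ W₂) →* ℂˣ // ∀ w : ↥(W₁ ⊔ W₂), (w : G) ∈ W₁ → ψ w = 1} =>
        (p.1.1 * p.2.1 : ↥(W₁ ⊔ W₂) →* ℂˣ)) := by
  have hfin : Finite (↥(W₁ ⊔ W₂) →* ℂˣ) := finite_hom_units (snc_comm hW)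
  have hinj : Function.Injective
      (fun p : {φ : ↥(W₁ ⊔ W₂) →* ℂˣ // ∀ w : ↥(W₁ ⊔ W₂), (w : G) ∈ W₂ → φ w = 1} ×
        {ψ : ↥(W₁ ⊔ W₂) →* ℂˣ // ∀ w : ↥(W₁ ⊔ W₂), (w : G) ∈ W₁ → ψ w = 1} =>
        (p.1.1 * p.2.1 : ↥(W₁ ⊔ W₂) →* ℂˣ)) := by
    rintro ⟨⟨φ, hφ⟩, ⟨ψ, hψ⟩⟩ ⟨⟨φ', hφ'⟩, ⟨ψ', hψ'⟩⟩ h
    simp only at h
    -- `φ'⁻¹ * φ = ψ' * ψ⁻¹` is trivial on both factors
    have hval : ∀ w, φ w * ψ w = φ' w * ψ' w := fun w => by
      have := DFunLike.congr_fun h w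
      simpa using this
    have h1 : φ * φ'⁻¹ = 1 := by
      apply hom_eq_one_of_trivial W₁ W₂
      · intro w hw
        have := hval w
        rw [hψ w hw, hψ' w hw, mul_one, mul_one] at this
        rw [MonoidHom.mul_apply, MonoidHom.inv_apply, this, mul_inv_cancel]
      · intro w hw
        rw [MonoidHom.mul_apply, MonoidHom.inv_apply, hφ w hw, hφ' w hw, inv_one, mul_one]
    have h2 : φ = φ' := mul_inv_eq_one.mp h1
    subst h2
    have h3 : ψ = ψ' := mul_left_cancel h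
    subst h3
    rfl
  apply hinj.bijective_of_nat_card_le
  rw [Nat.card_prod, snc_card_annihilator₂ hW, snc_card_annihilator₁ hW]
  let _ : CommGroup ↥(W₁ ⊔ W₂) :=
    { (inferInstance : Group ↥(W₁ ⊔ W₂)) with mul_comm := snc_comm hW }
  have := hasEnoughRootsOfUnity_exponent ↥(W₁ ⊔ W₂)
  rw [CommGroup.card_monoidHom_of_hasEnoughRootsOfUnity ↥(W₁ ⊔ W₂) ℂ, snc_card hW]

end Cfsg.Agent.Helper8
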