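import Mathlib
import Cfsg.Prelude.Def_Characters
import Cfsg.Agent.Helper8.Inner
import Cfsg.Agent.Helper8.Virtual

/-!
Signed irreducible characters and a uniqueness principle for orthonormal signed families.
-/

set_option autoImplicit false

namespace Cfsg.Agent.Helper8

variable {G : Type*} [Group G] [Fintype G]

/-- inner products of signed irreducible characters -/
theorem signedIrr_classInner_cases {α β : G → ℂ}
    (hα : Cfsg.IsIrrCharacter G α ∨ Cfsg.IsIrrCharacter G (-α))
    (hβ : Cfsg.IsIrrCharacter G β ∨ Cfsg.IsIrrCharacter G (-β)) :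
    Cfsg.classInner α β = 0 ∨ (Cfsg.classInner α β = 1 ∧ α = β) ∨
      (Cfsg.classInner α β = -1 ∧ α = -β) := by
  rcases hα with hα | hα <;> rcases hβ with hβ | hβ
  · have h := Cfsg.Agent.Helper23.classInner_irrCharacter α β hα hβ
    by_cases e : α = β
    · rw [if_pos e] at h; exact Or.inr (Or.inl ⟨h, e⟩)
    · rw [if_neg e] at h; exact Or.inl h
  · have h := Cfsg.Agent.Helper23.classInner_irrCharacter α (-β) hα hβ
    rw [classInner_neg_right] at h
    by_cases e : α = -β
    · rw [if_pos e] at h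
      exact Or.inr (Or.inr ⟨by linear_combination -h, e⟩)
    · rw [if_neg e] at h
      exact Or.inl (by linear_combination -h)
  · have h := Cfsg.Agent.Helper23.classInner_irrCharacter (-α) β hα hβ
    rw [classInner_neg_left] at h
    by_cases e : -α = β
    · rw [if_pos e] at h
      exact Or.inr (Or.inr ⟨by linear_combination -h, by rw [← e, neg_neg]⟩)
    · rw [if_neg e] at h
      exact Or.inl (by linear_combination -h)
  · have h := Cfsg.Agent.Helper23.classInner_irrCharacter (-α) (-β) hα hβ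
    rw [classInner_neg_left, classInner_neg_right, neg_neg] at h
    by_cases e : -α = -β
    · rw [if_pos e] at h; exact Or.inr (Or.inl ⟨h, neg_injective e⟩)
    · rw [if_neg e] at h; exact Or.inl h

theorem signedIrr_eq_of_classInner_eq_one {α β : G → ℂ}
    (hα : Cfsg.IsIrrCharacter G α ∨ Cfsg.IsIrrCharacter G (-α))
    (hβ : Cfsg.IsIrrCharacter G β ∨ Cfsg.IsIrrCharacter G (-β))
    (h : Cfsg.classInner α β = 1) : α = β := by
  rcases signedIrr_classInner_cases hα hβ with h0 | ⟨_, e⟩ | ⟨h1, _⟩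
  · rw [h] at h0; exact absurd h0 one_ne_zero
  · exact e
  · rw [h] at h1
    norm_num at h1

theorem signedIrr_classInner_self {α : G → ℂ}
    (hα : Cfsg.IsIrrCharacter G α ∨ Cfsg.IsIrrCharacter G (-α)) :
    Cfsg.classInner α α = 1 := by
  rcases hα with hα | hα
  · have h := Cfsg.Agent.Helper23.classInner_irrCharacter α α hα hα
    rw [if_pos rfl] at h; exact h
  · have h := Cfsg.Agent.Helper23.classInner_irrCharacter (-α) (-α) hα hα
    rw [if_pos rfl, classInner_neg_left, classInner_neg_right, neg_neg] at h; exact h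

/-- In a family of signed irreducible characters, orthonormal for distinct indices, at most one
member is not orthogonal to a given signed irreducible character. -/
theorem signedFamily_unique_index {Ω : Type*} {η : Ω → G → ℂ}
    (hirr : ∀ ω, Cfsg.IsIrrCharacter G (η ω) ∨ Cfsg.IsIrrCharacter G (-η ω))
    (horth : ∀ ω ω', ω ≠ ω' → Cfsg.classInner (η ω) (η ω') = 0)
    {ξ : G → ℂ} (hξ : Cfsg.IsIrrCharacter G ξ ∨ Cfsg.IsIrrCharacter G (-ξ))
    {ω ω' : Ω} (h : Cfsg.classInner (η ω) ξ ≠ 0) (h' : Cfsg.classInner (η ω') ξ ≠ 0) :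
    ω = ω' := by
  by_contra hne
  have h0 := horth ω ω' hne
  have hs := signedIrr_classInner_self hξ
  rcases signedIrr_classInner_cases (hirr ω) hξ with a | ⟨_, a⟩ | ⟨_, a⟩
  · exact h a
  all_goals
    rcases signedIrr_classInner_cases (hirr ω') hξ with b | ⟨_, b⟩ | ⟨_, b⟩
    · exact h' b
    all_goals
      rw [a, b] at h0
      simp only [classInner_neg_left, classInner_neg_right, neg_neg, hs] at h0
      norm_num at h0

/-- The combinatorial core of the uniqueness of the characters attached to a cyclic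
trivial-intersection configuration. -/
theorem signedFamily_core {Ω : Type*} {η η' : Ω → G → ℂ}
    (hirr : ∀ ω, Cfsg.IsIrrCharacter G (η ω) ∨ Cfsg.IsIrrCharacter G (-η ω))
    (horth : ∀ ω ω', ω ≠ ω' → Cfsg.classInner (η ω) (η ω') = 0)
    (hirr' : ∀ ω, Cfsg.IsIrrCharacter G (η' ω) ∨ Cfsg.IsIrrCharacter G (-η' ω))
    (horth' : ∀ ω ω', ω ≠ ω' → Cfsg.classInner (η' ω) (η' ω') = 0)
    {a b₁ c₁ b₂ c₂ : Ω} (hab₁ : a ≠ b₁) (hac₁ : a ≠ c₁) (hab₂ : a ≠ b₂) (hac₂ : a ≠ c₂)
    (hb : b₁ ≠ b₂) (hbc : b₁ ≠ c₂) (hcb : c₁ ≠ b₂) (hc : c₁ ≠ c₂)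
    (E₁ : η c₁ - η a - η b₁ = η' c₁ - η' a - η' b₁)
    (E₂ : η c₂ - η a - η b₂ = η' c₂ - η' a - η' b₂) : η a = η' a := by
  have hξ := hirr' a
  have hs := signedIrr_classInner_self hξ
  have e₁ : Cfsg.classInner (η c₁) (η' a) - Cfsg.classInner (η a) (η' a)
      - Cfsg.classInner (η b₁) (η' a) = -1 := by
    have := congrArg (fun f => Cfsg.classInner f (η' a)) E₁
    simp only [classInner_sub_left] at this
    rw [this, horth' c₁ a (Ne.symm hac₁), horth' b₁ a (Ne.symm hab₁), hs]
    ring
  have e₂ : Cfsg.classInner (η c₂) (η' a) - Cfsg.classInner (η a) (η' a)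
      - Cfsg.classInner (η b₂) (η' a) = -1 := by
    have := congrArg (fun f => Cfsg.classInner f (η' a)) E₂
    simp only [classInner_sub_left] at this
    rw [this, horth' c₂ a (Ne.symm hac₂), horth' b₂ a (Ne.symm hab₂), hs]
    ring
  have huniq := fun (ω ω' : Ω) => signedFamily_unique_index (ω := ω) (ω' := ω') hirr horth hξ
  by_cases h0 : Cfsg.classInner (η a) (η' a) = 0
  · exfalso
    rw [h0, sub_zero] at e₁ e₂
    -- some index among `b₁, c₁` and some index among `b₂, c₂`
    have h1 : Cfsg.classInner (η c₁) (η' a) ≠ 0 ∨ Cfsg.classInner (η b₁) (η' a) ≠ 0 := by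
      by_contra hcon
      push Not at hcon
      rw [hcon.1, hcon.2] at e₁
      norm_num at e₁
    have h2 : Cfsg.classInner (η c₂) (η' a) ≠ 0 ∨ Cfsg.classInner (η b₂) (η' a) ≠ 0 := by
      by_contra hcon
      push Not at hcon
      rw [hcon.1, hcon.2] at e₂
      norm_num at e₂
    rcases h1 with h1 | h1 <;> rcases h2 with h2 | h2
    · exact hc (huniq _ _ h1 h2)
    · exact hcb (huniq _ _ h1 h2)
    · exact hbc (huniq _ _ h1 h2)
    · exact hb (huniq _ _ h1 h2)
  · have hc0 : Cfsg.classInner (η c₁) (η' a) = 0 := by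
      by_contra hne
      exact hac₁ (huniq _ _ h0 hne)
    have hb0 : Cfsg.classInner (η b₁) (η' a) = 0 := by
      by_contra hne
      exact hab₁ (huniq _ _ h0 hne)
    rw [hc0, hb0] at e₁
    apply signedIrr_eq_of_classInner_eq_one (hirr a) hξ
    linear_combination -e₁

end Cfsg.Agent.Helper8
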