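import Mathlib
import Cfsg.Prelude.Def_Characters
import Cfsg.Prelude.Def_OddOrderChar
import Cfsg.Prelude.Def_OddOrderLocal
import Cfsg.Agent.Helper8.SignedIrr
import Cfsg.Agent.Helper8.DualSplit

/-!
Uniqueness of the family of characters attached to a cyclic trivial-intersection configuration
of odd order.
-/

set_option autoImplicit false

namespace Cfsg.Agent.Helper8

theorem exists_two_ne {α : Type*} [Finite α] (h : 3 ≤ Nat.card α) (x : α) :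
    ∃ a b : α, a ≠ x ∧ b ≠ x ∧ a ≠ b := by
  have : Fintype α := Fintype.ofFinite α
  rw [Nat.card_eq_fintype_card] at h
  obtain ⟨a, b, c, hab, hac, hbc⟩ := Fintype.two_lt_card_iff.mp (by omega : 2 < Fintype.card α)
  by_cases ha : a = x
  · exact ⟨b, c, fun e => hab (ha.trans e.symm), fun e => hac (ha.trans e.symm), hbc⟩
  · by_cases hb : b = x
    · exact ⟨a, c, ha, fun e => hbc (hb.trans e.symm), hac⟩
    · exact ⟨a, b, ha, hb, hab⟩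

variable {G : Type*} [Group G]

/-- unique factorisation in the dual group -/
theorem snc_dual_mul_inj [Finite G] {W₁ W₂ : Subgroup G}
    (hW : Cfsg.IsSelfNormalizingCyclic W₁ W₂) {φ φ' ψ ψ' : ↥(W₁ ⊔ W₂) →* ℂˣ}
    (hφ : ∀ w : ↥(W₁ ⊔ W₂), (w : G) ∈ W₂ → φ w = 1)
    (hφ' : ∀ w : ↥(W₁ ⊔ W₂), (w : G) ∈ W₂ → φ' w = 1)
    (hψ : ∀ w : ↥(W₁ ⊔ W₂), (w : G) ∈ W₁ → ψ w = 1)
    (hψ' : ∀ w : ↥(W₁ ⊔ W₂), (w : G) ∈ W₁ → ψ' w = 1)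
    (h : φ * ψ = φ' * ψ') : φ = φ' ∧ ψ = ψ' := by
  have := (snc_dual_mul_bijective hW).1 (a₁ := (⟨φ, hφ⟩, ⟨ψ, hψ⟩)) (a₂ := (⟨φ', hφ'⟩, ⟨ψ', hψ'⟩)) h
  rw [Prod.mk.injEq] at this
  exact ⟨congrArg Subtype.val this.1, congrArg Subtype.val this.2⟩

theorem snc_card_ge_three [Finite G] {W₁ W₂ : Subgroup G}
    (hW : Cfsg.IsSelfNormalizingCyclic W₁ W₂) (hodd : Odd (Nat.card ↥(W₁ ⊔ W₂))) :
    3 ≤ Nat.card W₁ ∧ 3 ≤ Nat.card W₂ := by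
  have hcard := snc_card hW
  obtain ⟨h1, h2, _⟩ := hW
  rw [hcard, Nat.odd_mul] at hodd
  obtain ⟨⟨k₁, hk₁⟩, ⟨k₂, hk₂⟩⟩ := hodd
  have e1 : Nat.card W₁ ≠ 1 := fun e => h1 (Subgroup.card_eq_one.mp e)
  have e2 : Nat.card W₂ ≠ 1 := fun e => h2 (Subgroup.card_eq_one.mp e)
  omega

/-- **Uniqueness** of the characters attached to a cyclic trivial-intersection configuration. -/
theorem cyclicTIFamily_unique [Fintype G] {W₁ W₂ : Subgroup G}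
    (hW : Cfsg.IsSelfNormalizingCyclic W₁ W₂) (hodd : Odd (Nat.card ↥(W₁ ⊔ W₂)))
    {χ χ' : (↥(W₁ ⊔ W₂) →* ℂˣ) → (G → ℂ)} (hχ : Cfsg.IsCyclicTIFamily W₁ W₂ χ)
    (hχ' : Cfsg.IsCyclicTIFamily W₁ W₂ χ') : χ = χ' := by
  classical
  have hbij := snc_dual_mul_bijective hW
  obtain ⟨h3₁, h3₂⟩ := snc_card_ge_three hW hodd
  have hfinW : Finite (↥(W₁ ⊔ W₂) →* ℂˣ) := finite_hom_units (snc_comm hW)
  have horth : ∀ ω ω', ω ≠ ω' → Cfsg.classInner (χ ω) (χ ω') = 0 := fun ω ω' hne => by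
    rw [hχ.orthonormal, if_neg hne]
  have horth' : ∀ ω ω', ω ≠ ω' → Cfsg.classInner (χ' ω) (χ' ω') = 0 := fun ω ω' hne => by
    rw [hχ'.orthonormal, if_neg hne]
  -- the basic equation
  have hE : ∀ φ ψ : ↥(W₁ ⊔ W₂) →* ℂˣ, φ ≠ 1 → ψ ≠ 1 →
      (∀ w : ↥(W₁ ⊔ W₂), (w : G) ∈ W₂ → φ w = 1) → (∀ w : ↥(W₁ ⊔ W₂), (w : G) ∈ W₁ → ψ w = 1) →
      χ (φ * ψ) - χ φ - χ ψ = χ' (φ * ψ) - χ' φ - χ' ψ := by
    intro φ ψ hφ1 hψ1 hφ hψ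
    have h1 := hχ.induced_eq φ ψ hφ1 hψ1 hφ hψ
    have h2 := hχ'.induced_eq φ ψ hφ1 hψ1 hφ hψ
    rw [h1] at h2
    funext g
    have := congrFun h2 g
    simp only [Pi.sub_apply]
    linear_combination this
  have h1triv₂ : ∀ w : ↥(W₁ ⊔ W₂), (w : G) ∈ W₂ → (1 : ↥(W₁ ⊔ W₂) →* ℂˣ) w = 1 := fun _ _ => rfl
  have h1triv₁ : ∀ w : ↥(W₁ ⊔ W₂), (w : G) ∈ W₁ → (1 : ↥(W₁ ⊔ W₂) →* ℂˣ) w = 1 := fun _ _ => rfl
  have hm1 : ∀ φ : ↥(W₁ ⊔ W₂) →* ℂˣ, φ * 1 = φ := fun φ => by ext w; simp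
  have h1m : ∀ φ : ↥(W₁ ⊔ W₂) →* ℂˣ, 1 * φ = φ := fun φ => by ext w; simp
  -- two distinct nontrivial elements on each side
  obtain ⟨⟨ψ₁, hψ₁⟩, ⟨ψ₂, hψ₂⟩, hψ₁1, hψ₂1, hψ12⟩ :=
    exists_two_ne (α := {ψ : ↥(W₁ ⊔ W₂) →* ℂˣ // ∀ w : ↥(W₁ ⊔ W₂), (w : G) ∈ W₁ → ψ w = 1})
      (by rw [snc_card_annihilator₁ hW]; exact h3₂) ⟨1, h1triv₁⟩
  obtain ⟨⟨φ₁, hφ₁⟩, ⟨φ₂, hφ₂⟩, hφ₁1, hφ₂1, hφ12⟩ :=
    exists_two_ne (α := {φ : ↥(W₁ ⊔ W₂) →* ℂˣ // ∀ w : ↥(W₁ ⊔ W₂), (w : G) ∈ W₂ → φ w = 1})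
      (by rw [snc_card_annihilator₂ hW]; exact h3₁) ⟨1, h1triv₂⟩
  have hψ₁1' : ψ₁ ≠ 1 := fun e => hψ₁1 (Subtype.ext e)
  have hψ₂1' : ψ₂ ≠ 1 := fun e => hψ₂1 (Subtype.ext e)
  have hψ12' : ψ₁ ≠ ψ₂ := fun e => hψ12 (Subtype.ext e)
  have hφ₁1' : φ₁ ≠ 1 := fun e => hφ₁1 (Subtype.ext e)
  have hφ₂1' : φ₂ ≠ 1 := fun e => hφ₂1 (Subtype.ext e)
  have hφ12' : φ₁ ≠ φ₂ := fun e => hφ12 (Subtype.ext e)
  -- step 1
  have hstep1 : ∀ φ : ↥(W₁ ⊔ W₂) →* ℂˣ, φ ≠ 1 →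
      (∀ w : ↥(W₁ ⊔ W₂), (w : G) ∈ W₂ → φ w = 1) → χ φ = χ' φ := by
    intro φ hφ1 hφ
    refine signedFamily_core hχ.irr_or_neg horth hχ'.irr_or_neg horth'
      (a := φ) (b₁ := ψ₁) (c₁ := φ * ψ₁) (b₂ := ψ₂) (c₂ := φ * ψ₂) ?_ ?_ ?_ ?_ ?_ ?_ ?_ ?_
      (hE φ ψ₁ hφ1 hψ₁1' hφ hψ₁) (hE φ ψ₂ hφ1 hψ₂1' hφ hψ₂)
    · intro e
      have := snc_dual_mul_inj hW hφ h1triv₂ h1triv₁ hψ₁ (by rw [hm1, h1m]; exact e)
      exact hφ1 this.1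
    · intro e
      have := snc_dual_mul_inj hW hφ hφ h1triv₁ hψ₁ (by rw [hm1]; exact e)
      exact hψ₁1' this.2.symm
    · intro e
      have := snc_dual_mul_inj hW hφ h1triv₂ h1triv₁ hψ₂ (by rw [hm1, h1m]; exact e)
      exact hφ1 this.1
    · intro e
      have := snc_dual_mul_inj hW hφ hφ h1triv₁ hψ₂ (by rw [hm1]; exact e)
      exact hψ₂1' this.2.symm
    · exact hψ12'
    · intro e
      have := snc_dual_mul_inj hW h1triv₂ hφ hψ₁ hψ₂ (by rw [h1m]; exact e)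
      exact hφ1 this.1.symm
    · intro e
      have := snc_dual_mul_inj hW hφ h1triv₂ hψ₁ hψ₂ (by rw [h1m]; exact e)
      exact hφ1 this.1
    · intro e
      have := snc_dual_mul_inj hW hφ hφ hψ₁ hψ₂ e
      exact hψ12' this.2
  -- step 2
  have hstep2 : ∀ ψ : ↥(W₁ ⊔ W₂) →* ℂˣ, ψ ≠ 1 →
      (∀ w : ↥(W₁ ⊔ W₂), (w : G) ∈ W₁ → ψ w = 1) → χ ψ = χ' ψ := by
    intro ψ hψ1 hψ
    refine signedFamily_core hχ.irr_or_neg horth hχ'.irr_or_neg horth'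
      (a := ψ) (b₁ := φ₁) (c₁ := φ₁ * ψ) (b₂ := φ₂) (c₂ := φ₂ * ψ) ?_ ?_ ?_ ?_ ?_ ?_ ?_ ?_
      (by have := hE φ₁ ψ hφ₁1' hψ1 hφ₁ hψ; rw [sub_right_comm, this, sub_right_comm])
      (by have := hE φ₂ ψ hφ₂1' hψ1 hφ₂ hψ; rw [sub_right_comm, this, sub_right_comm])
    · intro e
      have := snc_dual_mul_inj hW h1triv₂ hφ₁ hψ h1triv₁ (by rw [hm1, h1m]; exact e)
      exact hψ1 this.2
    · intro e
      have := snc_dual_mul_inj hW h1triv₂ hφ₁ hψ hψ (by rw [h1m]; exact e)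
      exact hφ₁1' this.1.symm
    · intro e
      have := snc_dual_mul_inj hW h1triv₂ hφ₂ hψ h1triv₁ (by rw [hm1, h1m]; exact e)
      exact hψ1 this.2
    · intro e
      have := snc_dual_mul_inj hW h1triv₂ hφ₂ hψ hψ (by rw [h1m]; exact e)
      exact hφ₂1' this.1.symm
    · exact hφ12'
    · intro e
      have := snc_dual_mul_inj hW hφ₁ hφ₂ h1triv₁ hψ (by rw [hm1]; exact e)
      exact hψ1 this.2.symm
    · intro e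
      have := snc_dual_mul_inj hW hφ₁ hφ₂ hψ h1triv₁ (by rw [hm1]; exact e)
      exact hψ1 this.2
    · intro e
      have := snc_dual_mul_inj hW hφ₁ hφ₂ hψ hψ e
      exact hφ12' this.1
  -- conclusion
  funext ω
  obtain ⟨⟨⟨φ, hφ⟩, ⟨ψ, hψ⟩⟩, hp⟩ := hbij.2 ω
  simp only at hp
  rw [← hp]
  by_cases hφ1 : φ = 1
  · by_cases hψ1 : ψ = 1
    · rw [hφ1, hψ1, hm1, hχ.map_one, hχ'.map_one]
    · rw [hφ1, h1m]
      exact hstep2 ψ hψ1 hψ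
  · by_cases hψ1 : ψ = 1
    · rw [hψ1, hm1]
      exact hstep1 φ hφ1 hφ
    · have := hE φ ψ hφ1 hψ1 hφ hψ
      rw [hstep1 φ hφ1 hφ, hstep2 ψ hψ1 hψ] at this
      exact sub_left_injective (sub_left_injective this)

end Cfsg.Agent.Helper8
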