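import Cfsg.Agent.Helper24.S5637.Defs

set_option autoImplicit false
set_option linter.unusedSectionVars false
set_option linter.unusedVariables false

/-! # S5637, piece ALGQ -/

namespace Cfsg.Agent.S5637P

open Matrix Kronecker Cfsg.Agent.Helper28.SLMax Cfsg.Agent.S5634P
open scoped MatrixGroups

variable {F : Type*} [Field F] {n a b : ℕ} (e : Fin n ≃ Fin a × Fin b)

namespace ALGQ

/-- the conjugate of `A` by the transvection `E (c • u) μ`, when `μ (A u) = 1` -/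
theorem conj_eq (A : Matrix (Fin a) (Fin a) F) (u μ : Fin a → F) (h1 : μ ⬝ᵥ (A *ᵥ u) = 1) (c : F) :
    E (c • u) μ * A * E (-(c • u)) μ =
      A + c • (vecMulVec u (μ ᵥ* A) - vecMulVec (A *ᵥ u) μ) - (c * c) • vecMulVec u μ := by
  have h2 : (μ ᵥ* A) ⬝ᵥ u = 1 := by rw [← Matrix.dotProduct_mulVec]; exact h1
  unfold E
  rw [Matrix.add_mul, Matrix.one_mul, Matrix.add_mul, Matrix.mul_add, Matrix.mul_add, Matrix.mul_one,
    Matrix.mul_one, Matrix.vecMulVec_mul, Matrix.mul_vecMulVec, Matrix.vecMulVec_mul_vecMulVec]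
  have h3 : (μ ᵥ* A) ⬝ᵥ (-(c • u)) = -c := by
    rw [dotProduct_neg, dotProduct_smul, h2, smul_eq_mul, mul_one]
  rw [h3]
  simp only [Matrix.smul_vecMulVec, Matrix.neg_vecMulVec, Matrix.mulVec_neg, Matrix.mulVec_smul,
    Matrix.vecMulVec_smul]
  module

end ALGQ

/-- ALGQ (M). `|F| ≥ 3`. -/
theorem ALGQ [Fintype F] (hq : 3 ≤ Fintype.card F) (𝔄 : Submodule F (Matrix (Fin a) (Fin a) F))
    (hconj : ∀ A ∈ 𝔄, ∀ u μ : Fin a → F, μ ⬝ᵥ u = 0 → E u μ * A * E (-u) μ ∈ 𝔄)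
    (A : Matrix (Fin a) (Fin a) F) (hA : A ∈ 𝔄) (u : Fin a → F)
    (hu : A *ᵥ u ∉ Submodule.span F {u}) :
    ∃ u μ : Fin a → F, u ≠ 0 ∧ μ ≠ 0 ∧ μ ⬝ᵥ u = 0 ∧ vecMulVec u μ ∈ 𝔄 := by
  classical
  obtain ⟨μ, hμ1, hμ0⟩ := exists_dual_pair (A *ᵥ u) u hu
  have hu0 : u ≠ 0 := by
    rintro rfl
    apply hu
    rw [Matrix.mulVec_zero]
    exact Submodule.zero_mem _
  have hμne : μ ≠ 0 := by
    rintro rfl
    rw [zero_dotProduct] at hμ1
    exact zero_ne_one hμ1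
  -- an element different from 0 and 1
  obtain ⟨c, hc0, hc1⟩ : ∃ c : F, c ≠ 0 ∧ c ≠ 1 := by
    by_contra hcon
    push Not at hcon
    have hsub : (Finset.univ : Finset F) ⊆ {0, 1} := by
      intro x _
      by_cases hx : x = 0
      · simp [hx]
      · simp [hcon x hx]
    have := Finset.card_le_card hsub
    have h2 : ({0, 1} : Finset F).card ≤ 2 := Finset.card_le_two
    rw [Finset.card_univ] at this
    omega
  set P : Matrix (Fin a) (Fin a) F := vecMulVec u (μ ᵥ* A) - vecMulVec (A *ᵥ u) μ with hP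
  set Q : Matrix (Fin a) (Fin a) F := vecMulVec u μ with hQ
  have hf : ∀ d : F, d • P - (d * d) • Q ∈ 𝔄 := by
    intro d
    have h1 : μ ⬝ᵥ (d • u) = 0 := by rw [dotProduct_smul, hμ0, smul_zero]
    have h2 := hconj A hA (d • u) μ h1
    rw [ALGQ.conj_eq A u μ hμ1 d] at h2
    have h3 := 𝔄.sub_mem h2 hA
    have h4 : A + d • P - (d * d) • Q - A = d • P - (d * d) • Q := by abel
    rw [h4] at h3
    exact h3
  have hQmem : (c - c * c) • Q ∈ 𝔄 := by
    have h1 := 𝔄.sub_mem (hf c) (𝔄.smul_mem c (hf 1))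
    have h2 : c • P - (c * c) • Q - c • ((1 : F) • P - ((1 : F) * 1) • Q) = (c - c * c) • Q := by
      module
    rw [h2] at h1
    exact h1
  have hne : c - c * c ≠ 0 := by
    have : c - c * c = c * (1 - c) := by ring
    rw [this]
    exact mul_ne_zero hc0 (sub_ne_zero.2 (Ne.symm hc1))
  refine ⟨u, μ, hu0, hμne, hμ0, ?_⟩
  have := 𝔄.smul_mem (c - c * c)⁻¹ hQmem
  rwa [smul_smul, inv_mul_cancel₀ hne, one_smul] at this

end Cfsg.Agent.S5637P
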