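import Cfsg.Agent.Helper24.S5637.Defs

set_option autoImplicit false
set_option linter.unusedSectionVars false
set_option linter.unusedVariables false

/-! # S5637, piece NONSC -/

namespace Cfsg.Agent.S5637P

open Matrix Kronecker Cfsg.Agent.Helper28.SLMax Cfsg.Agent.S5634P
open scoped MatrixGroups

variable {F : Type*} [Field F] {n a b : ℕ} (e : Fin n ≃ Fin a × Fin b)

/-- NONSC (S). A non-scalar matrix moves some vector off its line. -/
theorem NONSC {m : ℕ} (A : Matrix (Fin m) (Fin m) F)
    (hns : ¬ ∃ c : F, A = c • (1 : Matrix (Fin m) (Fin m) F)) :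
    ∃ u : Fin m → F, A *ᵥ u ∉ Submodule.span F {u} := by
  by_contra hcon
  push Not at hcon
  apply hns
  have hc : ∀ u : Fin m → F, ∃ c : F, c • u = A *ᵥ u :=
    fun u => Submodule.mem_span_singleton.1 (hcon u)
  choose c hc using hc
  -- columns
  have hcol : ∀ i k : Fin m, A k i = if k = i then c (Pi.single i 1) else 0 := by
    intro i k
    have h1 := congrFun (hc (Pi.single i 1)) k
    rw [Matrix.mulVec_single_one] at h1
    simp only [Pi.smul_apply, smul_eq_mul, Matrix.col_apply] at h1
    rw [← h1]
    by_cases hki : k = i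
    · subst hki; simp
    · simp [hki]
  -- all the `c (single i 1)` agree
  have heq : ∀ i j : Fin m, c (Pi.single i 1) = c (Pi.single j 1) := by
    intro i j
    by_cases hij : i = j
    · rw [hij]
    have h1 := hc (Pi.single i 1 + Pi.single j 1)
    rw [Matrix.mulVec_add, Matrix.mulVec_single_one, Matrix.mulVec_single_one] at h1
    have hi := congrFun h1 i
    have hj := congrFun h1 j
    simp only [Pi.smul_apply, Pi.add_apply, smul_eq_mul, Matrix.col_apply, Pi.single_eq_same] at hi hj
    rw [hcol i i, hcol j i, if_pos rfl, if_neg hij, Pi.single_eq_of_ne hij] at hi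
    rw [hcol i j, hcol j j, if_pos rfl, if_neg (Ne.symm hij), Pi.single_eq_of_ne (Ne.symm hij)] at hj
    have e1 : c (Pi.single i 1 + Pi.single j 1) = c (Pi.single i 1) := by simpa using hi
    have e2 : c (Pi.single i 1 + Pi.single j 1) = c (Pi.single j 1) := by simpa using hj
    rw [← e1, e2]
  rcases Nat.eq_zero_or_pos m with hm | hm
  · subst hm
    exact ⟨0, by ext i; exact i.elim0⟩
  · refine ⟨c (Pi.single ⟨0, hm⟩ 1), ?_⟩
    ext k i
    rw [hcol i k, Matrix.smul_apply, Matrix.one_apply, heq i ⟨0, hm⟩]
    by_cases hki : k = i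
    · simp [hki]
    · simp [hki]

end Cfsg.Agent.S5637P
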