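import Cfsg.Agent.Helper24.S5637.Defs
import Cfsg.Agent.Helper8.S5637NONSC

set_option autoImplicit false
set_option linter.unusedSectionVars false
set_option linter.unusedVariables false

/-! # S5637, piece CLASSIFA -/

namespace Cfsg.Agent.S5637P

open Matrix Kronecker Cfsg.Agent.Helper28.SLMax Cfsg.Agent.S5634P
open scoped MatrixGroups

variable {F : Type*} [Field F] {n a b : ℕ} (e : Fin n ≃ Fin a × Fin b)

/-- CLASSIFA (M, uses NONSC). -/
theorem CLASSIFA (hab : a < b) (A : GL (Fin a) F) (B : GL (Fin b) F)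
    (S : Submodule F (Fin n → F)) (hS : Module.finrank F S ≤ a)
    (hy : ∀ x : Fin n → F, ((krg e A B : GL (Fin n) F) : Matrix (Fin n) (Fin n) F) *ᵥ x - x ∈ S) :
    ∃ c : F, (A : Matrix (Fin a) (Fin a) F) = c • (1 : Matrix (Fin a) (Fin a) F) := by
  by_contra hns
  obtain ⟨u, hu⟩ := NONSC (A : Matrix (Fin a) (Fin a) F) hns
  obtain ⟨μ, hμ1, hμ0⟩ := exists_dual_pair ((A : Matrix (Fin a) (Fin a) F) *ᵥ u) u hu
  -- the linear map `w' ↦ (A ⊗ B - 1)(u ⊗ w')` into `S`
  let L : (Fin b → F) →ₗ[F] S :=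
    { toFun := fun w' =>
        ⟨((krg e A B : GL (Fin n) F) : Matrix (Fin n) (Fin n) F) *ᵥ tn e u w' - tn e u w', hy _⟩
      map_add' := by
        intro w₁ w₂
        apply Subtype.ext
        simp only [Submodule.coe_add, tn_add_right, Matrix.mulVec_add]
        abel
      map_smul' := by
        intro c w₁
        apply Subtype.ext
        simp only [Submodule.coe_smul, tn_smul_right, Matrix.mulVec_smul, RingHom.id_apply, smul_sub] }
  have hinj : Function.Injective L := by
    rw [← LinearMap.ker_eq_bot, LinearMap.ker_eq_bot']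
    intro w' hw'
    have h0 : ((krg e A B : GL (Fin n) F) : Matrix (Fin n) (Fin n) F) *ᵥ tn e u w' - tn e u w' = 0 :=
      congrArg Subtype.val hw'
    rw [krg_mulVec_tn] at h0
    have hB : (B : Matrix (Fin b) (Fin b) F) *ᵥ w' = 0 := by
      funext j
      have h1 := congrArg (fun x => tn e μ (Pi.single j 1) ⬝ᵥ x) h0
      simp only [dotProduct_sub, tn_dot, hμ1, hμ0, dotProduct_zero, zero_mul, sub_zero, one_mul,
        single_dotProduct] at h1
      simpa using h1
    have h2 : ((B⁻¹ : GL (Fin b) F) : Matrix (Fin b) (Fin b) F) *ᵥ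
        ((B : Matrix (Fin b) (Fin b) F) *ᵥ w') = w' := by
      rw [Matrix.mulVec_mulVec, ← Units.val_mul, inv_mul_cancel, Units.val_one, Matrix.one_mulVec]
    rw [← h2, hB, Matrix.mulVec_zero]
  have h1 := LinearMap.finrank_le_finrank_of_injective hinj
  rw [Module.finrank_fin_fun] at h1
  omega

end Cfsg.Agent.S5637P
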