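import Mathlib
import Cfsg.Agent.Helper25.S5165.Defs
import Cfsg.Agent.Helper24.S5165LIBA
import Cfsg.Agent.Helper24.S5165LIBB
import Cfsg.Agent.Helper24.S5165TRANSP
import Cfsg.Agent.Helper29.S5165NBASE
import Cfsg.Agent.Helper7.S5165SIGNS

set_option autoImplicit false
set_option linter.unusedSectionVars false
set_option linter.unusedVariables false

/-! # S5165 piece NORM2 (driver helper25): for `p = 2` the normalizer of `SQ r Q ⊓ A` lies in `SQ r Q`
(`Q` self-normalizing, `3 ≤ |I|`, `r ≤ 1`). -/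

namespace Cfsg.Agent.S5165P

open Equiv

section chapC

variable {p : ℕ} [Fact p.Prime] {I : Type} [Fintype I] [DecidableEq I] {r : ℕ}

namespace NORM2

/-- `SQ r Q` normalizes `SQ r Q ⊓ A` -/
theorem SQ_le_normalizer (Q : Subgroup (Perm I)) :
    SQ r Q ≤ Subgroup.normalizer
      ((SQ r Q ⊓ alternatingGroup (X p I r) : Subgroup (Perm (X p I r))) : Set (Perm (X p I r))) := by
  intro g hg
  rw [Subgroup.mem_normalizer_iff]
  intro h
  constructor
  · rintro ⟨h1, h2⟩
    refine ⟨(SQ r Q).mul_mem ((SQ r Q).mul_mem hg h1) ((SQ r Q).inv_mem hg), ?_⟩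
    exact (alternatingGroup.normal (α := X p I r)).conj_mem h h2 g
  · rintro ⟨h1, h2⟩
    refine ⟨?_, ?_⟩
    · have := (SQ r Q).mul_mem ((SQ r Q).mul_mem ((SQ r Q).inv_mem hg) h1) hg
      simpa [mul_assoc] using this
    · have := (alternatingGroup.normal (α := X p I r)).conj_mem _ h2 g⁻¹
      simpa [mul_assoc] using this

/-- conjugation by an element of the normalizer maps the `cyc i` to some `cyc j` -/
theorem conj_cyc (hp : p = 2) (hI : 3 ≤ Fintype.card I) (hr : r ≤ 1) (Q : Subgroup (Perm I))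
    {g : Perm (X p I r)}
    (hg : g ∈ Subgroup.normalizer
      ((SQ r Q ⊓ alternatingGroup (X p I r) : Subgroup (Perm (X p I r))) : Set (Perm (X p I r))))
    (i : I) : ∃ j : I, g * cyc i * g⁻¹ = cyc j := by
  apply TRANSP.eq_cyc hp hI hr Q
  · have hsw : (cyc (p := p) (r := r) i).IsSwap := by
      rw [TRANSP.cyc_eq_swap hp i 0]
      refine ⟨_, _, ?_, rfl⟩
      intro h
      have h2 := (Prod.mk.inj (Sum.inl_injective h)).2
      subst hp
      exact TRANSP.zmod2_ne 0 h2.symm
    obtain ⟨x, y, hxy, hc⟩ := hsw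
    refine ⟨g x, g y, fun h => hxy (g.injective h), ?_⟩
    rw [hc]
    ext z
    simp only [Perm.coe_mul, Function.comp_apply]
    rw [Equiv.swap_apply_apply]
    simp [Perm.mul_def]
  · have hc : cyc (p := p) (r := r) i ∈ Subgroup.normalizer
        ((SQ r Q ⊓ alternatingGroup (X p I r) : Subgroup (Perm (X p I r))) :
          Set (Perm (X p I r))) :=
      SQ_le_normalizer Q (LIBB.Bsub_le_SQ Q (mem_Bsub.mpr ⟨_, rfl⟩))
    exact Subgroup.mul_mem _ (Subgroup.mul_mem _ hg hc) (Subgroup.inv_mem _ hg)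

theorem conj_mem_Bsub (hp : p = 2) (hI : 3 ≤ Fintype.card I) (hr : r ≤ 1) (Q : Subgroup (Perm I))
    {g : Perm (X p I r)}
    (hg : g ∈ Subgroup.normalizer
      ((SQ r Q ⊓ alternatingGroup (X p I r) : Subgroup (Perm (X p I r))) : Set (Perm (X p I r))))
    {h : Perm (X p I r)} (hh : h ∈ Bsub p I r) : g * h * g⁻¹ ∈ Bsub p I r := by
  rw [LIBB.Bsub_eq_closure] at hh ⊢
  induction hh using Subgroup.closure_induction with
  | mem x hx =>
    obtain ⟨i, rfl⟩ := hx
    obtain ⟨j, hj⟩ := conj_cyc hp hI hr Q hg i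
    rw [hj]
    exact Subgroup.subset_closure ⟨j, rfl⟩
  | one => simp
  | mul x y _ _ hx hy =>
    have : g * (x * y) * g⁻¹ = (g * x * g⁻¹) * (g * y * g⁻¹) := by group
    rw [this]
    exact Subgroup.mul_mem _ hx hy
  | inv x _ hx =>
    have : g * x⁻¹ * g⁻¹ = (g * x * g⁻¹)⁻¹ := by group
    rw [this]
    exact Subgroup.inv_mem _ hx

theorem mem_normalizer_Bsub (hp : p = 2) (hI : 3 ≤ Fintype.card I) (hr : r ≤ 1)
    (Q : Subgroup (Perm I)) {g : Perm (X p I r)}
    (hg : g ∈ Subgroup.normalizer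
      ((SQ r Q ⊓ alternatingGroup (X p I r) : Subgroup (Perm (X p I r))) : Set (Perm (X p I r)))) :
    g ∈ Subgroup.normalizer ((Bsub p I r : Subgroup (Perm (X p I r))) : Set (Perm (X p I r))) := by
  rw [Subgroup.mem_normalizer_iff]
  intro h
  constructor
  · intro hh
    exact conj_mem_Bsub hp hI hr Q hg hh
  · intro hh
    have := conj_mem_Bsub hp hI hr Q (Subgroup.inv_mem _ hg) hh
    simpa [mul_assoc] using this

theorem torus_eq_one (hp : p = 2) (a : I → (ZMod p)ˣ) : torus (r := r) a = 1 := by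
  subst hp
  have : a = 1 := by
    funext i
    exact Subsingleton.elim _ _
  rw [this, LIBA.torus_one]

/-- `lift q` is even for `p = 2` -/
theorem lift_mem_alt (hp : p = 2) (q : Perm I) :
    lift (p := p) (r := r) q ∈ alternatingGroup (X p I r) := by
  rw [Equiv.Perm.mem_alternatingGroup, SIGNS.sign_lift, hp]
  rcases Int.units_eq_one_or (Perm.sign q) with h | h <;> rw [h] <;> rfl

theorem conj_mem_Q (hp : p = 2) (Q : Subgroup (Perm I)) {σ : Perm I}
    (hσ : lift (p := p) (r := r) σ ∈ Subgroup.normalizer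
      ((SQ r Q ⊓ alternatingGroup (X p I r) : Subgroup (Perm (X p I r))) : Set (Perm (X p I r))))
    {q : Perm I} (hq : q ∈ Q) : σ * q * σ⁻¹ ∈ Q := by
  have h1 : lift (p := p) (r := r) q ∈ SQ r Q ⊓ alternatingGroup (X p I r) :=
    ⟨(LIBB.lift_mem_SQ_iff Q q).mpr hq, lift_mem_alt hp q⟩
  have h2 := (Subgroup.mem_normalizer_iff.mp hσ _).mp h1
  have h3 : lift (p := p) (r := r) σ * lift q * (lift σ)⁻¹ = lift (σ * q * σ⁻¹) := by
    rw [map_mul, map_mul, map_inv]
  rw [h3] at h2
  exact (LIBB.lift_mem_SQ_iff Q _).mp h2.1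

end NORM2

theorem NORM2.normalizer_le (hp : p = 2) (hI : 3 ≤ Fintype.card I) (hr : r ≤ 1)
    (Q : Subgroup (Perm I))
    (hQ : Subgroup.normalizer ((Q : Subgroup (Perm I)) : Set (Perm I)) ≤ Q) :
    Subgroup.normalizer
      ((SQ r Q ⊓ alternatingGroup (X p I r) : Subgroup (Perm (X p I r))) : Set (Perm (X p I r))) ≤
      SQ r Q := by
  intro g hg
  obtain ⟨f, a, σ, hnf⟩ := NBASE.exists_nf hr g (NORM2.mem_normalizer_Bsub hp hI hr Q hg)
  rw [NORM2.torus_eq_one hp, mul_one] at hnf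
  have hb : base (r := r) f ∈ Subgroup.normalizer
      ((SQ r Q ⊓ alternatingGroup (X p I r) : Subgroup (Perm (X p I r))) :
        Set (Perm (X p I r))) :=
    NORM2.SQ_le_normalizer Q (LIBB.Bsub_le_SQ Q (mem_Bsub.mpr ⟨f, rfl⟩))
  have hl : lift (p := p) (r := r) σ ∈ Subgroup.normalizer
      ((SQ r Q ⊓ alternatingGroup (X p I r) : Subgroup (Perm (X p I r))) :
        Set (Perm (X p I r))) := by
    have : lift (p := p) (r := r) σ = (base f)⁻¹ * g := by
      rw [hnf]; group
    rw [this]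
    exact Subgroup.mul_mem _ (Subgroup.inv_mem _ hb) hg
  have hσ : σ ∈ Q := by
    apply hQ
    rw [Subgroup.mem_normalizer_iff]
    intro q
    constructor
    · intro hq
      exact NORM2.conj_mem_Q hp Q hl hq
    · intro hq
      have hl' : lift (p := p) (r := r) σ⁻¹ ∈ Subgroup.normalizer
          ((SQ r Q ⊓ alternatingGroup (X p I r) : Subgroup (Perm (X p I r))) :
            Set (Perm (X p I r))) := by
        rw [map_inv]
        exact Subgroup.inv_mem _ hl
      have := NORM2.conj_mem_Q hp Q hl' hq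
      simpa [mul_assoc] using this
  rw [hnf]
  exact (LIBB.base_mul_lift_mem_SQ_iff Q f σ).mpr hσ

end chapC

end Cfsg.Agent.S5165P
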