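import Mathlib
import Cfsg.Prelude.Def_GeometricClasses
import Cfsg.Prelude.Def_Classical
import Cfsg.Prelude.Def_LieClassical
import Cfsg.Agent.Helper6.S5992Defs
import Cfsg.Agent.Helper23.S5961STRUCT
import Cfsg.Agent.Helper25.S5992ALTTRICK

/-! S5992 piece DVDC (helper8). -/

set_option autoImplicit false
open scoped MatrixGroups
universe u

namespace Cfsg.Agent.S5992P

open Cfsg.Agent.Helper2.SympInvol Cfsg.Agent.Helper2.SympUnits Cfsg.Agent.S5961P Cfsg.Agent.S2614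
  Cfsg.Agent.S5955P

/-- DVDC -/
theorem cc_dvd_of_fpf {F V : Type*} [Field F] [Fintype F] [AddCommGroup V] [Module F V]
    [FiniteDimensional F V] {p : ℕ} [Fact p.Prime] [CharP F p] (r : ℕ) [Fact r.Prime]
    (hr2 : r ≠ 2) (hrp : r ≠ p) (h2 : (2 : F) ≠ 0) (Q : QuadraticForm F V)
    (y : Module.End F V) (hY : IsYO Q y r) (M : Submodule F V) (hM : M.map y ≤ M)
    (hMnd : Nondeg (PB Q) M) (hfix : M ⊓ LinearMap.ker (y - 1) = ⊥) :
    cc F r ∣ Module.finrank F M := by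
  have hrpr : r.Prime := Fact.out
  have hodd : Odd r := hrpr.odd_of_ne_two hr2
  obtain ⟨halt, hiso, hprops⟩ := altOf_props h2 Q y r hodd hY
  obtain ⟨hnd, -, -⟩ := hprops M hM hfix
  have h := sp_dvd (p := p) r hr2 hrp (altOf Q y) halt y hiso hY.pow M hM (hnd.mpr hMnd)
  rw [hfix, finrank_bot, Nat.sub_zero] at h
  exact h

end Cfsg.Agent.S5992P
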