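import Mathlib

/-!
# Coprime automorphism of a finite abelian group; class-2 groups with an automorphism
(group-theoretic part of the Hall–Higman step (HH) for S4306)
-/

set_option autoImplicit false

namespace Cfsg.Agent.Helper8.PqHH

section abelian

variable {W : Type*} [CommGroup W]

/-- `w ↦ φ w / w` as a homomorphism. -/
def delta (φ : MulAut W) : W →* W where
  toFun w := φ w / w
  map_one' := by simp
  map_mul' a b := by
    rw [map_mul]
    exact mul_div_mul_comm _ _ _ _

theorem delta_apply (φ : MulAut W) (w : W) : delta φ w = φ w / w := rfl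

/-- the norm map `w ↦ ∏_{i<p} φ^i w` -/
def normHom (φ : MulAut W) (p : ℕ) : W →* W where
  toFun w := ∏ i ∈ Finset.range p, (φ ^ i) w
  map_one' := by simp
  map_mul' a b := by
    rw [← Finset.prod_mul_distrib]
    exact Finset.prod_congr rfl fun i _ => map_mul _ _ _

theorem normHom_apply (φ : MulAut W) (p : ℕ) (w : W) :
    normHom φ p w = ∏ i ∈ Finset.range p, (φ ^ i) w := rfl

theorem normHom_phi (φ : MulAut W) (p : ℕ) (hφ : φ ^ p = 1) (w : W) :
    normHom φ p (φ w) = normHom φ p w := by
  rw [normHom_apply, normHom_apply]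
  have h1 : ∀ i : ℕ, (φ ^ i) (φ w) = (φ ^ (i + 1)) w := by
    intro i
    rw [pow_succ, MulAut.mul_apply]
  simp only [h1]
  have h2 := Finset.prod_range_succ' (fun j => (φ ^ j) w) p
  have h3 := Finset.prod_range_succ (fun j => (φ ^ j) w) p
  rw [h3, hφ] at h2
  simp only [pow_zero] at h2
  exact (mul_right_cancel h2).symm

theorem normHom_of_fixed (φ : MulAut W) (p : ℕ) (w : W) (hw : φ w = w) :
    normHom φ p w = w ^ p := by
  rw [normHom_apply]
  have h1 : ∀ i : ℕ, (φ ^ i) w = w := by
    intro i
    induction i with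
    | zero => simp
    | succ n ih => rw [pow_succ, MulAut.mul_apply, hw, ih]
  rw [Finset.prod_congr rfl (fun i _ => h1 i), Finset.prod_const, Finset.card_range]

theorem ker_inf_range_delta [Finite W] (φ : MulAut W) (p : ℕ) (hφ : φ ^ p = 1)
    (hcop : (Nat.card W).Coprime p) : (delta φ).ker ⊓ (delta φ).range = ⊥ := by
  rw [eq_bot_iff]
  rintro w ⟨hk, ⟨v, rfl⟩⟩
  rw [Subgroup.mem_bot]
  have hfix : φ (delta φ v) = delta φ v := by
    have := MonoidHom.mem_ker.mp hk
    rw [delta_apply, div_eq_one] at this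
    exact this
  have h1 : normHom φ p (delta φ v) = 1 := by
    rw [delta_apply, map_div, normHom_phi φ p hφ, div_self']
  rw [normHom_of_fixed φ p _ hfix] at h1
  have h2 : orderOf (delta φ v) ∣ p := orderOf_dvd_of_pow_eq_one h1
  have h3 : orderOf (delta φ v) ∣ Nat.card W := orderOf_dvd_natCard _
  have h4 : orderOf (delta φ v) ∣ Nat.gcd (Nat.card W) p := Nat.dvd_gcd h3 h2
  rw [hcop, Nat.dvd_one, orderOf_eq_one_iff] at h4
  exact h4

theorem isComplement_ker_range_delta [Finite W] (φ : MulAut W) (p : ℕ) (hφ : φ ^ p = 1)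
    (hcop : (Nat.card W).Coprime p) : Subgroup.IsComplement' (delta φ).ker (delta φ).range := by
  have hdisj : Disjoint (delta φ).ker (delta φ).range := by
    rw [disjoint_iff]; exact ker_inf_range_delta φ p hφ hcop
  apply Subgroup.isComplement'_of_card_mul_and_disjoint _ hdisj
  rw [← Subgroup.index_ker, Subgroup.card_mul_index]

/-- every element is (fixed mod nothing) a product of an element of `ker δ` and a value of `δ` -/
theorem exists_ker_mul_delta [Finite W] (φ : MulAut W) (p : ℕ) (hφ : φ ^ p = 1)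
    (hcop : (Nat.card W).Coprime p) (w : W) :
    ∃ c v : W, φ c = c ∧ w = c * (φ v / v) := by
  have h := isComplement_ker_range_delta φ p hφ hcop
  obtain ⟨⟨⟨c, hc⟩, ⟨d, hd⟩⟩, hcd⟩ := h.2 w
  obtain ⟨v, rfl⟩ := hd
  refine ⟨c, v, ?_, ?_⟩
  · have := MonoidHom.mem_ker.mp hc
    rw [delta_apply, div_eq_one] at this
    exact this
  · exact hcd.symm

end abelian

end Cfsg.Agent.Helper8.PqHH
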