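import Mathlib
import Cfsg.Agent.Helper8.PqHHa

/-!
# A finite group of class ≤ 2 with a coprime automorphism fixing the centre pointwise
(group-theoretic part of the Hall–Higman step (HH) for S4306)

`G/Z(G) = C_{G/Z}(σ) × [G/Z, σ]`; `Ct` and `Qs` are the preimages of the two factors.
-/

set_option autoImplicit false

namespace Cfsg.Agent.Helper8.PqHH

open Subgroup

section classTwo

variable {G : Type*} [Group G]

/-- bimultiplicativity of commutators when they are central -/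
theorem comm_mul_left (hcl : ∀ g h : G, g * h * g⁻¹ * h⁻¹ ∈ center G) (a b c : G) :
    (a * b) * c * (a * b)⁻¹ * c⁻¹ = (a * c * a⁻¹ * c⁻¹) * (b * c * b⁻¹ * c⁻¹) := by
  have hz := hcl b c
  rw [mem_center_iff] at hz
  calc (a * b) * c * (a * b)⁻¹ * c⁻¹ = a * (b * c * b⁻¹ * c⁻¹) * (c * a⁻¹ * c⁻¹) := by group
    _ = (b * c * b⁻¹ * c⁻¹) * a * (c * a⁻¹ * c⁻¹) := by rw [hz a]
    _ = (b * c * b⁻¹ * c⁻¹) * (a * c * a⁻¹ * c⁻¹) := by group
    _ = (a * c * a⁻¹ * c⁻¹) * (b * c * b⁻¹ * c⁻¹) := (hz _).symm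

theorem comm_mul_right (hcl : ∀ g h : G, g * h * g⁻¹ * h⁻¹ ∈ center G) (a b c : G) :
    a * (b * c) * a⁻¹ * (b * c)⁻¹ = (a * b * a⁻¹ * b⁻¹) * (a * c * a⁻¹ * c⁻¹) := by
  have hz := hcl a c
  rw [mem_center_iff] at hz
  have h1 : a * (b * c) * a⁻¹ * (b * c)⁻¹ = a * b * a⁻¹ * (a * c * a⁻¹ * c⁻¹) * b⁻¹ := by group
  rw [h1, mul_assoc (a * b * a⁻¹), ← hz b⁻¹]
  group

theorem comm_central_left {z : G} (hz : z ∈ center G) (c : G) : z * c * z⁻¹ * c⁻¹ = 1 := by
  rw [mem_center_iff] at hz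
  rw [← hz c]; group

theorem comm_central_right {z : G} (hz : z ∈ center G) (a : G) : a * z * a⁻¹ * z⁻¹ = 1 := by
  rw [mem_center_iff] at hz
  rw [hz a]; group

/-- the commutative group structure on `G ⧸ Z(G)` for `G` of class ≤ 2 -/
@[reducible] def quotCommGroup (hcl : ∀ g h : G, g * h * g⁻¹ * h⁻¹ ∈ center G) :
    CommGroup (G ⧸ center G) :=
  { (inferInstance : Group (G ⧸ center G)) with
    mul_comm := fun a b => by
      induction a using QuotientGroup.induction_on with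
      | H g =>
      induction b using QuotientGroup.induction_on with
      | H h =>
      rw [← QuotientGroup.mk_mul, ← QuotientGroup.mk_mul, QuotientGroup.eq]
      have := hcl h⁻¹ g⁻¹
      have e : (g * h)⁻¹ * (h * g) = h⁻¹ * g⁻¹ * h⁻¹⁻¹ * g⁻¹⁻¹ := by group
      rw [e]; exact this }

theorem map_center (σ : MulAut G) : (center G).map (σ : G ≃* G).toMonoidHom = center G :=
  characteristic_iff_map_eq.mp inferInstance σ

/-- the automorphism of `G ⧸ Z(G)` induced by `σ` -/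
noncomputable def quotAut (σ : MulAut G) : MulAut (G ⧸ center G) :=
  QuotientGroup.congr (center G) (center G) σ (map_center σ)

theorem quotAut_mk (σ : MulAut G) (g : G) :
    quotAut σ (QuotientGroup.mk g) = QuotientGroup.mk (σ g) :=
  QuotientGroup.congr_mk _ _ _ _ g

theorem quotAut_pow_mk (σ : MulAut G) (n : ℕ) (g : G) :
    (quotAut σ ^ n) (QuotientGroup.mk g) = QuotientGroup.mk ((σ ^ n) g) := by
  induction n generalizing g with
  | zero => simp
  | succ n ih =>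
    rw [pow_succ, MulAut.mul_apply, quotAut_mk, ih, pow_succ, MulAut.mul_apply]

theorem quotAut_pow_eq_one (σ : MulAut G) (p : ℕ) (hσ : σ ^ p = 1) : quotAut σ ^ p = 1 := by
  ext w
  induction w using QuotientGroup.induction_on with
  | H g => rw [quotAut_pow_mk, hσ]; rfl

/-- `mk a = mk b` in `G ⧸ Z(G)` iff `a * b⁻¹` is central -/
theorem mk_eq_mk_iff (a b : G) :
    (QuotientGroup.mk a : G ⧸ center G) = QuotientGroup.mk b ↔ a * b⁻¹ ∈ center G := by
  rw [QuotientGroup.eq]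
  constructor
  · intro h
    have h2 := (center G).inv_mem h
    have hz := mem_center_iff.mp h2
    have e : a * b⁻¹ = (a⁻¹ * b)⁻¹ := by
      have := hz a
      calc a * b⁻¹ = a * (a⁻¹ * b)⁻¹ * a⁻¹ := by group
        _ = (a⁻¹ * b)⁻¹ * a * a⁻¹ := by rw [this]
        _ = (a⁻¹ * b)⁻¹ := by group
    rw [e]; exact h2
  · intro h
    have h2 := (center G).inv_mem h
    have hz := mem_center_iff.mp h2
    have e : a⁻¹ * b = (a * b⁻¹)⁻¹ := by
      have := hz a⁻¹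
      calc a⁻¹ * b = a⁻¹ * (a * b⁻¹)⁻¹ * a := by group
        _ = (a * b⁻¹)⁻¹ * a⁻¹ * a := by rw [this]
        _ = (a * b⁻¹)⁻¹ := by group
    rw [e]; exact h2

variable (hcl : ∀ g h : G, g * h * g⁻¹ * h⁻¹ ∈ center G) (σ : MulAut G)

/-- preimage of `C_{G/Z}(σ)` -/
noncomputable def Ct : Subgroup G :=
  letI := quotCommGroup hcl
  (delta (quotAut σ)).ker.comap (QuotientGroup.mk' (center G))

/-- preimage of `[G/Z, σ]` -/
noncomputable def Qs : Subgroup G :=
  letI := quotCommGroup hcl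
  (delta (quotAut σ)).range.comap (QuotientGroup.mk' (center G))

theorem mem_Ct (g : G) : g ∈ Ct hcl σ ↔ σ g * g⁻¹ ∈ center G := by
  letI := quotCommGroup hcl
  unfold Ct
  rw [mem_comap, MonoidHom.mem_ker, QuotientGroup.mk'_apply, delta_apply, quotAut_mk, div_eq_one,
    mk_eq_mk_iff]

theorem mem_Qs (g : G) : g ∈ Qs hcl σ ↔ ∃ v : G, g * (σ v * v⁻¹)⁻¹ ∈ center G := by
  letI := quotCommGroup hcl
  unfold Qs
  rw [mem_comap, MonoidHom.mem_range, QuotientGroup.mk'_apply]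
  constructor
  · rintro ⟨w, hw⟩
    induction w using QuotientGroup.induction_on with
    | H v =>
    refine ⟨v, ?_⟩
    rw [delta_apply, quotAut_mk, div_eq_mul_inv, ← QuotientGroup.mk_inv, ← QuotientGroup.mk_mul] at hw
    exact (mk_eq_mk_iff _ _).mp hw.symm
  · rintro ⟨v, hv⟩
    refine ⟨QuotientGroup.mk v, ?_⟩
    rw [delta_apply, quotAut_mk, div_eq_mul_inv, ← QuotientGroup.mk_inv, ← QuotientGroup.mk_mul]
    exact ((mk_eq_mk_iff _ _).mpr hv).symm

theorem center_le_Ct (hσZ : ∀ z ∈ center G, σ z = z) : center G ≤ Ct hcl σ := by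
  intro z hz
  rw [mem_Ct, hσZ z hz, mul_inv_cancel]
  exact one_mem _

theorem center_le_Qs : center G ≤ Qs hcl σ := by
  intro z hz
  rw [mem_Qs]
  refine ⟨1, ?_⟩
  simpa using hz

theorem delta_mem_Qs (v : G) : σ v * v⁻¹ ∈ Qs hcl σ := by
  rw [mem_Qs]
  exact ⟨v, by rw [mul_inv_cancel]; exact one_mem _⟩

/-- `σ` preserves `Qs` -/
theorem sigma_mem_Qs {q : G} (hq : q ∈ Qs hcl σ) : σ q ∈ Qs hcl σ := by
  rw [mem_Qs] at hq ⊢
  obtain ⟨v, hv⟩ := hq
  refine ⟨σ v, ?_⟩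
  have h1 : σ q * (σ (σ v) * (σ v)⁻¹)⁻¹ = σ (q * (σ v * v⁻¹)⁻¹) := by
    simp only [map_mul, map_inv]
  rw [h1]
  have hmap := map_center σ
  rw [← hmap]
  exact ⟨_, hv, rfl⟩

theorem sigma_symm_mem_Qs {q : G} (hq : q ∈ Qs hcl σ) : σ.symm q ∈ Qs hcl σ := by
  rw [mem_Qs] at hq ⊢
  obtain ⟨v, hv⟩ := hq
  refine ⟨σ.symm v, ?_⟩
  have h1 : σ.symm q * (σ (σ.symm v) * (σ.symm v)⁻¹)⁻¹ = σ.symm (q * (σ v * v⁻¹)⁻¹) := by
    simp only [map_mul, map_inv, MulEquiv.apply_symm_apply, MulEquiv.symm_apply_apply]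
  rw [h1]
  have hmap := map_center (σ⁻¹ : MulAut G)
  rw [← hmap]
  exact ⟨_, hv, rfl⟩

/-- `Ct` and `Qs` commute elementwise -/
theorem commute_Ct_Qs (hσZ : ∀ z ∈ center G, σ z = z) {c q : G} (hc : c ∈ Ct hcl σ)
    (hq : q ∈ Qs hcl σ) : c * q = q * c := by
  rw [mem_Ct] at hc
  rw [mem_Qs] at hq
  obtain ⟨v, hv⟩ := hq
  -- β(a, b) := a b a⁻¹ b⁻¹ ; β(c, q) = β(c, σ v v⁻¹) = β(c, σ v) β(c, v)⁻¹
  set z := q * (σ v * v⁻¹)⁻¹ with hz
  have hq' : q = z * (σ v * v⁻¹) := by rw [hz]; group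
  -- β(c, σ v) = β(c, v)
  have hβ : c * σ v * c⁻¹ * (σ v)⁻¹ = c * v * c⁻¹ * v⁻¹ := by
    -- σ (β(c,v)) = β(σ c, σ v) = β(c, σ v) since σ c = c z'
    have h1 : σ (c * v * c⁻¹ * v⁻¹) = c * v * c⁻¹ * v⁻¹ := hσZ _ (hcl c v)
    have h2 : σ (c * v * c⁻¹ * v⁻¹) = σ c * σ v * (σ c)⁻¹ * (σ v)⁻¹ := by
      simp only [map_mul, map_inv]
    set z' := σ c * c⁻¹ with hz'
    have hc' : σ c = z' * c := by rw [hz']; group
    rw [h2, hc', comm_mul_left hcl, comm_central_left hc, one_mul] at h1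
    exact h1
  -- β(c, σ v v⁻¹) = 1
  have h3 : c * (σ v * v⁻¹) * c⁻¹ * (σ v * v⁻¹)⁻¹ = 1 := by
    rw [comm_mul_right hcl, hβ]
    -- β(c, v) β(c, v⁻¹) = β(c, 1) = 1
    rw [← comm_mul_right hcl, mul_inv_cancel]
    group
  have h4 : c * q * c⁻¹ * q⁻¹ = 1 := by
    rw [hq', comm_mul_right hcl, comm_central_right hv, one_mul, h3]
  calc c * q = (c * q * c⁻¹ * q⁻¹) * (q * c) := by group
    _ = q * c := by rw [h4, one_mul]

section finite

variable [Finite G]

theorem coprime_quot {p : ℕ} (hcop : (Nat.card G).Coprime p) :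
    (Nat.card (G ⧸ center G)).Coprime p := by
  have h1 : Nat.card (G ⧸ center G) ∣ Nat.card G := by
    rw [← Subgroup.index_eq_card]
    exact Subgroup.index_dvd_card _
  exact Nat.Coprime.coprime_dvd_left h1 hcop

/-- `G = Ct · Qs` -/
theorem exists_Ct_mul_Qs (p : ℕ) (hσp : σ ^ p = 1) (hcop : (Nat.card G).Coprime p) (g : G) :
    ∃ c ∈ Ct hcl σ, ∃ q ∈ Qs hcl σ, g = c * q := by
  letI := quotCommGroup hcl
  obtain ⟨c', v', hc', hg⟩ := exists_ker_mul_delta (quotAut σ) p (quotAut_pow_eq_one σ p hσp)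
    (coprime_quot hcop) (QuotientGroup.mk g : G ⧸ center G)
  induction c' using QuotientGroup.induction_on with
  | H c =>
  refine ⟨c, ?_, c⁻¹ * g, ?_, by group⟩
  · rw [mem_Ct, ← mk_eq_mk_iff, ← quotAut_mk]
    exact hc'
  · unfold Qs
    rw [mem_comap, MonoidHom.mem_range]
    refine ⟨v', ?_⟩
    rw [QuotientGroup.mk'_apply, QuotientGroup.mk_mul, QuotientGroup.mk_inv, hg, delta_apply]
    group

/-- `Ct ⊓ Qs = Z(G)` -/
theorem Ct_inf_Qs (p : ℕ) (hσp : σ ^ p = 1) (hcop : (Nat.card G).Coprime p)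
    (hσZ : ∀ z ∈ center G, σ z = z) : Ct hcl σ ⊓ Qs hcl σ = center G := by
  letI := quotCommGroup hcl
  apply le_antisymm
  · intro g hg
    have h1 : (QuotientGroup.mk g : G ⧸ center G) ∈ (delta (quotAut σ)).ker ⊓ (delta (quotAut σ)).range :=
      ⟨hg.1, hg.2⟩
    rw [ker_inf_range_delta (quotAut σ) p (quotAut_pow_eq_one σ p hσp) (coprime_quot hcop),
      Subgroup.mem_bot, QuotientGroup.eq_one_iff] at h1
    exact h1
  · exact le_inf (center_le_Ct hcl σ hσZ) (center_le_Qs hcl σ)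

/-- `|Qs : Z(G)| = |G : Ct|` -/
theorem relIndex_center_Qs : (center G).relIndex (Qs hcl σ) = (Ct hcl σ).index := by
  letI := quotCommGroup hcl
  have hsurj : Function.Surjective (QuotientGroup.mk' (center G)) := QuotientGroup.mk'_surjective _
  have h1 : (Ct hcl σ).index = Nat.card (delta (quotAut σ)).range := by
    unfold Ct
    rw [Subgroup.index_comap_of_surjective _ hsurj, Subgroup.index_ker]
  have h2 : (center G).relIndex (Qs hcl σ) = Nat.card (delta (quotAut σ)).range := by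
    have hk : center G = (⊥ : Subgroup (G ⧸ center G)).comap (QuotientGroup.mk' (center G)) := by
      rw [MonoidHom.comap_bot, QuotientGroup.ker_mk']
    have h3 := Subgroup.relIndex_comap (H := (⊥ : Subgroup (G ⧸ center G)))
      (QuotientGroup.mk' (center G)) (Qs hcl σ)
    rw [← hk] at h3
    rw [h3]
    unfold Qs
    rw [Subgroup.map_comap_eq_self_of_surjective hsurj, Subgroup.relIndex_bot_left]
  rw [h1, h2]

/-- the commutator pairing is nondegenerate on `Qs` modulo the centre -/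
theorem exists_not_commute_Qs (p : ℕ) (hσp : σ ^ p = 1) (hcop : (Nat.card G).Coprime p)
    (hσZ : ∀ z ∈ center G, σ z = z) {q : G} (hq : q ∈ Qs hcl σ) (hqZ : q ∉ center G) :
    ∃ q' ∈ Qs hcl σ, q * q' ≠ q' * q := by
  rw [mem_center_iff] at hqZ
  push Not at hqZ
  obtain ⟨h, hh⟩ := hqZ
  obtain ⟨c, hc, q', hq', rfl⟩ := exists_Ct_mul_Qs hcl σ p hσp hcop h
  refine ⟨q', hq', fun hcomm => hh ?_⟩
  have h1 := commute_Ct_Qs hcl σ hσZ hc hq
  calc c * q' * q = c * (q' * q) := by group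
    _ = c * (q * q') := by rw [hcomm]
    _ = (c * q) * q' := by group
    _ = (q * c) * q' := by rw [h1]
    _ = q * (c * q') := by group

/-- if `[G/Z, σ] = 1` then `σ = 1` -/
theorem sigma_eq_of_Qs_le (p : ℕ) (hσp : σ ^ p = 1) (hcop : (Nat.card G).Coprime p)
    (hσZ : ∀ z ∈ center G, σ z = z) (hQ : Qs hcl σ ≤ center G) (g : G) : σ g = g := by
  have hd : σ g * g⁻¹ ∈ center G := hQ (delta_mem_Qs hcl σ g)
  have hpow : ∀ i : ℕ, (σ ^ i) g = (σ g * g⁻¹) ^ i * g := by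
    intro i
    induction i with
    | zero => simp
    | succ n ih =>
      rw [pow_succ', MulAut.mul_apply, ih, map_mul, map_pow, hσZ _ hd, pow_succ]
      group
  have h1 := hpow p
  rw [hσp, MulAut.one_apply] at h1
  have h2 : (σ g * g⁻¹) ^ p = 1 := by
    have : (σ g * g⁻¹) ^ p * g = 1 * g := by rw [← h1, one_mul]
    exact mul_right_cancel this
  have h3 : orderOf (σ g * g⁻¹) ∣ p := orderOf_dvd_of_pow_eq_one h2
  have h4 : orderOf (σ g * g⁻¹) ∣ Nat.card G := orderOf_dvd_natCard _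
  have h5 : orderOf (σ g * g⁻¹) ∣ Nat.gcd (Nat.card G) p := Nat.dvd_gcd h4 h3
  rw [hcop, Nat.dvd_one, orderOf_eq_one_iff] at h5
  calc σ g = (σ g * g⁻¹) * g := by group
    _ = g := by rw [h5, one_mul]

end finite

end classTwo

end Cfsg.Agent.Helper8.PqHH
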