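import Mathlib
import Cfsg.Agent.Helper5.HHModG

/-!
# Heisenberg-type data from subgroups of an ambient group with scalar commutators
(linear part of the Hall–Higman step (HH) for S4306)
-/

set_option autoImplicit false

universe u v w

namespace Cfsg.Agent.Helper8.PqHH

open Module Cfsg.Agent.Helper5.FrobMod Cfsg.Agent.Helper5.HHMod

variable {K : Type u} [Field K] [IsAlgClosed K] {M : Type v} [AddCommGroup M] [Module K M]
  [FiniteDimensional K M]
variable {A : Type w} [Group A]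

/-- a simple `Qs`-submodule carrying a Heisenberg structure -/
theorem exists_heis [Nontrivial M] (ρA : Representation K A M) (Qs Zs : Subgroup A) [Finite Qs]
    (hZQ : Zs ≤ Qs) (hZc : ∀ z ∈ Zs, ∀ g ∈ Qs, z * g = g * z)
    (hcomm : ∀ g ∈ Qs, ∀ h ∈ Qs, g * h * g⁻¹ * h⁻¹ ∈ Zs)
    (hnd : ∀ g ∈ Qs, g ∉ Zs → ∃ h ∈ Qs, ∃ c : K, c ≠ 1 ∧ ρA (g * h * g⁻¹ * h⁻¹) = c • 1)
    (hcop : (Nat.card Qs : K) ≠ 0) :
    ∃ (Ys : Submodule K M) (hinv : Inv ρA Qs Ys), Ys ≠ ⊥ ∧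
      Heis (subRep ρA Qs Ys hinv) (Zs.subgroupOf Qs) := by
  classical
  have htop0 : (⊤ : Submodule K M) ≠ ⊥ := top_ne_bot
  have htopinv : Inv ρA Qs ⊤ := fun _ _ _ _ => Submodule.mem_top
  obtain ⟨Ys, -, hYne, hYinv, hYsimple⟩ := exists_simple_sub ρA Qs ⊤ htop0 htopinv
  haveI : Nontrivial Ys := Submodule.nontrivial_iff_ne_bot.mpr hYne
  refine ⟨Ys, hYinv, hYne, ?_⟩
  set ρ : Representation K Qs Ys := subRep ρA Qs Ys hYinv with hρ
  exact
    { irr := by
        intro W' hW'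
        have hinv' : Inv ρA Qs (W'.map Ys.subtype) := by
          rintro g hg _ ⟨w, hw, rfl⟩
          exact ⟨ρ ⟨g, hg⟩ w, hW' ⟨g, hg⟩ w hw, rfl⟩
        have hle' : W'.map Ys.subtype ≤ Ys := by
          rintro _ ⟨w, _, rfl⟩
          exact w.2
        rcases hYsimple _ hle' hinv' with h | h
        · left
          rw [eq_bot_iff]
          intro w hw
          have : (w : M) ∈ W'.map Ys.subtype := ⟨w, hw, rfl⟩
          rw [h, Submodule.mem_bot] at this
          rw [Submodule.mem_bot]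
          exact Subtype.ext this
        · right
          rw [eq_top_iff]
          intro w _
          have : (w : M) ∈ W'.map Ys.subtype := by rw [h]; exact w.2
          obtain ⟨w', hw', hww'⟩ := this
          have : w' = w := Subtype.ext hww'
          rw [← this]; exact hw'
      central := by
        intro z hz
        rw [Subgroup.mem_center_iff]
        intro g
        apply Subtype.ext
        exact (hZc z (Subgroup.mem_subgroupOf.mp hz) g g.2).symm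
      comm := by
        intro g h
        rw [Subgroup.mem_subgroupOf]
        exact hcomm g g.2 h h.2
      nondeg := by
        intro g hg
        have hg' : (g : A) ∉ Zs := fun h => hg (Subgroup.mem_subgroupOf.mpr h)
        obtain ⟨h, hh, c, hc1, hc⟩ := hnd g g.2 hg'
        refine ⟨⟨h, hh⟩, fun h1 => hc1 ?_⟩
        obtain ⟨y, hy⟩ := exists_ne (0 : Ys)
        have h2 := congrArg (fun f : Module.End K Ys => ((f y : Ys) : M)) h1
        simp only [Module.End.one_apply] at h2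
        rw [hρ, subRep_apply] at h2
        have h3 : ((g * ⟨h, hh⟩ * g⁻¹ * (⟨h, hh⟩ : Qs)⁻¹ : Qs) : A) = (g : A) * h * (g : A)⁻¹ * h⁻¹ := rfl
        rw [h3, hc, LinearMap.smul_apply, Module.End.one_apply] at h2
        have h4 : (c - 1) • (y : M) = 0 := by rw [sub_smul, h2, one_smul, sub_self]
        rcases smul_eq_zero.mp h4 with h5 | h5
        · exact sub_eq_zero.mp h5
        · exact absurd (Subtype.ext h5) hy
      card_ne := hcop }

/-- the index of the "centre" is a square -/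
theorem exists_sq_eq_relIndex [Nontrivial M] (ρA : Representation K A M) (Qs Zs : Subgroup A)
    [Finite Qs] (hZQ : Zs ≤ Qs) (hZc : ∀ z ∈ Zs, ∀ g ∈ Qs, z * g = g * z)
    (hcomm : ∀ g ∈ Qs, ∀ h ∈ Qs, g * h * g⁻¹ * h⁻¹ ∈ Zs)
    (hnd : ∀ g ∈ Qs, g ∉ Zs → ∃ h ∈ Qs, ∃ c : K, c ≠ 1 ∧ ρA (g * h * g⁻¹ * h⁻¹) = c • 1)
    (hcop : (Nat.card Qs : K) ≠ 0) : ∃ n : ℕ, n ^ 2 = Zs.relIndex Qs := by
  obtain ⟨Ys, hinv, hYne, H⟩ := exists_heis ρA Qs Zs hZQ hZc hcomm hnd hcop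
  haveI : Nontrivial Ys := Submodule.nontrivial_iff_ne_bot.mpr hYne
  exact ⟨finrank K Ys, by rw [H.finrank_sq]; rfl⟩

/-- variant of `Helper5.HHMod.fixed_or_eq_sub` with nondegeneracy stated through the representation -/
theorem fixed_or_eq_sub' [Nontrivial M] (ρA : Representation K A M) (Qs Zs : Subgroup A) [Finite Qs]
    (x : A) (r : ℕ) (hr : r.Prime) (hrK : (r : K) ≠ 0)
    (hxQ : x ∈ Subgroup.normalizer (Qs : Set A)) (hxr : x ^ r = 1)
    (hZQ : Zs ≤ Qs) (hZc : ∀ z ∈ Zs, ∀ g ∈ Qs, z * g = g * z)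
    (hcomm : ∀ g ∈ Qs, ∀ h ∈ Qs, g * h * g⁻¹ * h⁻¹ ∈ Zs)
    (hxZ : ∀ z ∈ Zs, x * z * x⁻¹ = z)
    (hfpf : ∀ k ∈ Qs, x * k * x⁻¹ * k⁻¹ ∈ Zs → k ∈ Zs)
    (hZne : Zs ≠ Qs)
    (hnd : ∀ g ∈ Qs, g ∉ Zs → ∃ h ∈ Qs, ∃ c : K, c ≠ 1 ∧ ρA (g * h * g⁻¹ * h⁻¹) = c • 1)
    (hcop : (Nat.card Qs : K) ≠ 0) :
    (∃ m : M, m ≠ 0 ∧ ρA x m = m) ∨ ∃ N : ℕ, r = N + 1 ∧ N ^ 2 = Zs.relIndex Qs := by
  classical
  obtain ⟨Ys, hYinv, hYne, H⟩ := exists_heis ρA Qs Zs hZQ hZc hcomm hnd hcop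
  haveI : Nontrivial Ys := Submodule.nontrivial_iff_ne_bot.mpr hYne
  set Z : Subgroup Qs := Zs.subgroupOf Qs with hZdef
  have hZtop : Z ≠ ⊤ := by
    intro h
    apply hZne
    apply le_antisymm hZQ
    intro g hg
    have : (⟨g, hg⟩ : Qs) ∈ Z := by rw [h]; trivial
    exact Subgroup.mem_subgroupOf.mp this
  set σ : MulAut Qs := conjAut Qs x hxQ with hσ
  have hσr : σ ^ r = 1 := by
    ext g
    rw [conjAut_pow_apply, hxr]
    simp
  have hσZ : ∀ z ∈ Z, σ z = z := by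
    intro z hz
    apply Subtype.ext
    rw [conjAut_apply]
    exact hxZ z (Subgroup.mem_subgroupOf.mp hz)
  have hfpf' : ∀ k, σ k * k⁻¹ ∈ Z → k ∈ Z := by
    intro k hk
    rw [hZdef, Subgroup.mem_subgroupOf] at hk ⊢
    exact hfpf k k.2 hk
  have hι0 : Ys.subtype ≠ 0 := by
    intro h0
    apply hYne
    rw [eq_bot_iff]
    intro y hy
    have := congrArg (fun f : Ys →ₗ[K] M => f ⟨y, hy⟩) h0
    rw [Submodule.mem_bot]
    exact this
  rcases fixed_or_eq ρA H hZtop σ r hr hrK hσr hσZ hfpf' Qs.subtype x (fun g => rfl) hxr Ys.subtype hι0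
    (fun g => rfl) with h | h
  · left; exact h
  · right
    refine ⟨finrank K Ys, h, ?_⟩
    rw [H.finrank_sq]
    rfl

end Cfsg.Agent.Helper8.PqHH
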