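import Mathlib
import Cfsg.Agent.Helper8.PqHHb
import Cfsg.Agent.Helper8.PqHHc

/-!
# The Hall–Higman step (HH) for S4306: a finite subgroup `E` of an ambient group `A` acting
faithfully with scalar commutators, normalised by `X` of prime order `p` acting without
nonzero fixed points.
-/

set_option autoImplicit false

universe u v w

namespace Cfsg.Agent.Helper8.PqHH

open Module Cfsg.Agent.Helper5.FrobMod Cfsg.Agent.Helper5.HHMod

variable {K : Type u} [Field K] [IsAlgClosed K] {M : Type v} [AddCommGroup M] [Module K M]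
  [FiniteDimensional K M]
variable {A : Type w} [Group A]

omit [IsAlgClosed K] [FiniteDimensional K M] in
/-- an element acting as a scalar commutes with `E`, by faithfulness -/
theorem commute_of_scalar (ρA : Representation K A M) (E : Subgroup A)
    (hfaith : ∀ g ∈ E, ρA g = 1 → g = 1) {w k : A} (hw : w ∈ E) (hk : k ∈ E) {c : K}
    (hc : ρA w = c • 1) : w * k = k * w := by
  have h1 : ρA (w * k) = ρA (k * w) := by
    rw [map_mul, map_mul, hc, smul_mul_assoc, one_mul, mul_smul_comm, mul_one]
  have h2 : ρA (w * k * (k * w)⁻¹) = 1 := by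
    rw [map_mul, h1, ← map_mul, mul_inv_cancel, map_one]
  have h3 := hfaith _ (E.mul_mem (E.mul_mem hw hk) (E.inv_mem (E.mul_mem hk hw))) h2
  exact mul_inv_eq_one.mp h3

omit [IsAlgClosed K] [FiniteDimensional K M] in
/-- class two from scalar commutators and faithfulness -/
theorem classTwo_of_scalar (ρA : Representation K A M) (E : Subgroup A)
    (hsc : ∀ u ∈ E, ∀ v ∈ E, ∃ c : K, ρA (u * v * u⁻¹ * v⁻¹) = c • 1)
    (hfaith : ∀ g ∈ E, ρA g = 1 → g = 1) (g h : E) :
    g * h * g⁻¹ * h⁻¹ ∈ Subgroup.center E := by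
  rw [Subgroup.mem_center_iff]
  intro k
  obtain ⟨c, hc⟩ := hsc g g.2 h h.2
  apply Subtype.ext
  have hwE : (g : A) * h * (g : A)⁻¹ * (h : A)⁻¹ ∈ E := (g * h * g⁻¹ * h⁻¹ : E).2
  exact (commute_of_scalar ρA E hfaith hwE k.2 hc).symm

/-- the core Hall–Higman step in an ambient group -/
theorem hh_core [Nontrivial M] (ρA : Representation K A M) (E : Subgroup A) [Finite E] (X : A)
    (p : ℕ) (hp : p.Prime) (hpK : (p : K) ≠ 0)
    (hXE : X ∈ Subgroup.normalizer (E : Set A)) (hXp : X ^ p = 1)
    (hcop : (Nat.card E).Coprime p) (hEK : (Nat.card E : K) ≠ 0)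
    (hsc : ∀ u ∈ E, ∀ v ∈ E, ∃ c : K, ρA (u * v * u⁻¹ * v⁻¹) = c • 1)
    (hfaith : ∀ g ∈ E, ρA g = 1 → g = 1)
    (hfix : ∀ m : M, ρA X m = m → m = 0)
    (hL1 : ∀ z ∈ E, (∀ g ∈ E, z * g = g * z) → X * z * X⁻¹ = z) :
    (∃ n : ℕ, n ^ 2 = (Subgroup.center E).index) ∧
    ((∀ g ∈ E, X * g * X⁻¹ = g) ∨
      ∃ N : ℕ, 1 < N ∧ p = N + 1 ∧ ∀ Ct' : Subgroup E,
        (∀ g : E, g ∈ Ct' ↔ conjAut E X hXE g * g⁻¹ ∈ Subgroup.center E) → N ^ 2 = Ct'.index) := by
  classical
  have hcl : ∀ g h : E, g * h * g⁻¹ * h⁻¹ ∈ Subgroup.center E :=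
    classTwo_of_scalar ρA E hsc hfaith
  set σ : MulAut E := conjAut E X hXE with hσ
  have hσp : σ ^ p = 1 := by
    ext g
    rw [conjAut_pow_apply, hXp]
    simp
  have hσZ : ∀ z ∈ Subgroup.center E, σ z = z := by
    intro z hz
    apply Subtype.ext
    rw [conjAut_apply]
    apply hL1 z z.2
    intro g hg
    have := Subgroup.mem_center_iff.mp hz ⟨g, hg⟩
    exact (congrArg Subtype.val this).symm
  set ZA : Subgroup A := (Subgroup.center E).map E.subtype with hZA
  have hZA_mem : ∀ a : A, a ∈ ZA ↔ ∃ h : a ∈ E, (⟨a, h⟩ : E) ∈ Subgroup.center E := by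
    intro a
    constructor
    · rintro ⟨z, hz, rfl⟩
      exact ⟨z.2, hz⟩
    · rintro ⟨h, hz⟩
      exact ⟨⟨a, h⟩, hz, rfl⟩
  have hZE : ZA ≤ E := by
    intro a ha
    exact ((hZA_mem a).mp ha).1
  -- nondegeneracy on `E`
  have hndE : ∀ g ∈ E, ∀ h ∈ E, g * h ≠ h * g →
      ∃ c : K, c ≠ 1 ∧ ρA (g * h * g⁻¹ * h⁻¹) = c • 1 := by
    intro g hg h hh hne
    obtain ⟨c, hc⟩ := hsc g hg h hh
    refine ⟨c, ?_, hc⟩
    rintro rfl
    rw [one_smul] at hc
    have hE : g * h * g⁻¹ * h⁻¹ ∈ E := E.mul_mem (E.mul_mem (E.mul_mem hg hh) (E.inv_mem hg)) (E.inv_mem hh)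
    have h1 := hfaith _ hE hc
    apply hne
    calc g * h = (g * h * g⁻¹ * h⁻¹) * (h * g) := by group
      _ = h * g := by rw [h1, one_mul]
  refine ⟨?_, ?_⟩
  · -- first conjunct
    have h1 := exists_sq_eq_relIndex ρA E ZA hZE
      (by
        intro z hz g hg
        obtain ⟨hzE, hzc⟩ := (hZA_mem z).mp hz
        have := Subgroup.mem_center_iff.mp hzc ⟨g, hg⟩
        exact (congrArg Subtype.val this).symm)
      (by
        intro g hg h hh
        exact (hZA_mem _).mpr ⟨_, hcl ⟨g, hg⟩ ⟨h, hh⟩⟩)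
      (by
        intro g hg hgZ
        have hgc : (⟨g, hg⟩ : E) ∉ Subgroup.center E := fun h => hgZ ((hZA_mem g).mpr ⟨hg, h⟩)
        rw [Subgroup.mem_center_iff] at hgc
        push Not at hgc
        obtain ⟨h, hh⟩ := hgc
        have hne : g * (h : A) ≠ (h : A) * g := by
          intro e
          apply hh
          apply Subtype.ext
          exact e.symm
        obtain ⟨c, hc1, hc⟩ := hndE g hg h h.2 hne
        exact ⟨h, h.2, c, hc1, hc⟩)
      hEK
    obtain ⟨n, hn⟩ := h1
    refine ⟨n, ?_⟩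
    rw [hn]
    have e1 : E = (⊤ : Subgroup E).map E.subtype := by
      rw [← MonoidHom.range_eq_map, Subgroup.range_subtype]
    conv_lhs => rw [e1, hZA]
    rw [Subgroup.relIndex_map_map_of_injective _ _ E.subtype_injective, Subgroup.relIndex_top_right]
  · -- second conjunct
    by_cases hQ : Qs hcl σ ≤ Subgroup.center E
    · left
      intro g hg
      have := sigma_eq_of_Qs_le hcl σ p hσp hcop hσZ hQ ⟨g, hg⟩
      have h2 := congrArg Subtype.val this
      rw [hσ, conjAut_apply] at h2
      exact h2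
    · right
      set QA : Subgroup A := (Qs hcl σ).map E.subtype with hQA
      have hQA_mem : ∀ a : A, a ∈ QA ↔ ∃ h : a ∈ E, (⟨a, h⟩ : E) ∈ Qs hcl σ := by
        intro a
        constructor
        · rintro ⟨z, hz, rfl⟩
          exact ⟨z.2, hz⟩
        · rintro ⟨h, hz⟩
          exact ⟨⟨a, h⟩, hz, rfl⟩
      have hQE : QA ≤ E := by
        intro a ha
        exact ((hQA_mem a).mp ha).1
      haveI : Finite QA := Finite.of_injective (fun a : QA => (⟨a.1, hQE a.2⟩ : E))
        (fun a b h => Subtype.ext (congrArg (fun e : E => (e : A)) h))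
      have hZQ : ZA ≤ QA := Subgroup.map_mono (center_le_Qs hcl σ)
      have hXE' : ∀ g : A, g ∈ E → X * g * X⁻¹ ∈ E := fun g hg =>
        (Subgroup.mem_normalizer_iff.mp hXE g).mp hg
      have hXE'' : ∀ g : A, g ∈ E → X⁻¹ * g * X ∈ E := by
        intro g hg
        have h1 := (Subgroup.mem_normalizer_iff.mp (Subgroup.inv_mem _ hXE) g).mp hg
        rwa [inv_inv] at h1
      have hXQ : X ∈ Subgroup.normalizer (QA : Set A) := by
        rw [Subgroup.mem_normalizer_iff]
        intro g
        constructor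
        · intro hg
          obtain ⟨hgE, hgQ⟩ := (hQA_mem g).mp hg
          exact (hQA_mem _).mpr ⟨hXE' g hgE, sigma_mem_Qs hcl σ hgQ⟩
        · intro hg
          obtain ⟨hgE, hgQ⟩ := (hQA_mem _).mp hg
          have h1 := sigma_symm_mem_Qs hcl σ hgQ
          have h2 : ((σ.symm ⟨X * g * X⁻¹, hgE⟩ : E) : A) = g := by
            have h3 : σ.symm ⟨X * g * X⁻¹, hgE⟩ = ⟨g, by
                have := hXE'' _ hgE
                have e : X⁻¹ * (X * g * X⁻¹) * X = g := by group
                rwa [e] at this⟩ := by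
              rw [MulEquiv.symm_apply_eq]
              apply Subtype.ext
              rw [hσ, conjAut_apply]
            rw [h3]
          rw [hQA_mem]
          refine ⟨by rw [← h2]; exact (σ.symm _).2, ?_⟩
          convert h1 using 1
          exact Subtype.ext h2.symm
      have hZne : ZA ≠ QA := by
        intro h
        apply hQ
        intro g hg
        have h1 : (g : A) ∈ QA := (hQA_mem _).mpr ⟨g.2, hg⟩
        rw [← h] at h1
        exact ((hZA_mem _).mp h1).2
      have hQK : (Nat.card QA : K) ≠ 0 := by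
        have hdvd : Nat.card QA ∣ Nat.card E := by
          have h1 : Nat.card QA = Nat.card (QA.subgroupOf E) :=
            (Nat.card_congr (Subgroup.subgroupOfEquivOfLe hQE).toEquiv).symm
          rw [h1]
          exact Subgroup.card_subgroup_dvd_card _
        obtain ⟨k, hk⟩ := hdvd
        intro h0
        apply hEK
        rw [hk, Nat.cast_mul, h0, zero_mul]
      have hmain := fixed_or_eq_sub' ρA QA ZA X p hp hpK hXQ hXp hZQ
        (by
          intro z hz g hg
          obtain ⟨hzE, hzc⟩ := (hZA_mem z).mp hz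
          have := Subgroup.mem_center_iff.mp hzc ⟨g, hQE hg⟩
          exact (congrArg Subtype.val this).symm)
        (by
          intro g hg h hh
          exact (hZA_mem _).mpr ⟨_, hcl ⟨g, hQE hg⟩ ⟨h, hQE hh⟩⟩)
        (by
          intro z hz
          obtain ⟨hzE, hzc⟩ := (hZA_mem z).mp hz
          have h1 := hσZ _ hzc
          have h2 := congrArg Subtype.val h1
          rw [hσ, conjAut_apply] at h2
          exact h2)
        (by
          intro k hk hkZ
          obtain ⟨hkE, hkQ⟩ := (hQA_mem k).mp hk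
          obtain ⟨hcE, hcZ⟩ := (hZA_mem _).mp hkZ
          have h1 : (⟨k, hkE⟩ : E) ∈ Ct hcl σ := by
            rw [mem_Ct]
            convert hcZ using 1
            apply Subtype.ext
            rfl
          have h2 : (⟨k, hkE⟩ : E) ∈ Ct hcl σ ⊓ Qs hcl σ := ⟨h1, hkQ⟩
          rw [Ct_inf_Qs hcl σ p hσp hcop hσZ] at h2
          exact (hZA_mem k).mpr ⟨hkE, h2⟩)
        hZne
        (by
          intro g hg hgZ
          obtain ⟨hgE, hgQ⟩ := (hQA_mem g).mp hg
          have hgc : (⟨g, hgE⟩ : E) ∉ Subgroup.center E := fun h => hgZ ((hZA_mem g).mpr ⟨hgE, h⟩)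
          obtain ⟨q', hq', hne⟩ := exists_not_commute_Qs hcl σ p hσp hcop hσZ hgQ hgc
          have hne' : g * (q' : A) ≠ (q' : A) * g := by
            intro e
            apply hne
            apply Subtype.ext
            exact e
          obtain ⟨c, hc1, hc⟩ := hndE g hgE q' q'.2 hne'
          exact ⟨q', (hQA_mem _).mpr ⟨q'.2, hq'⟩, c, hc1, hc⟩)
        hQK
      rcases hmain with ⟨m, hm0, hm⟩ | ⟨N, hpN, hN⟩
      · exact absurd (hfix m hm) hm0
      · have hrel : ZA.relIndex QA = (Ct hcl σ).index := by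
          rw [hZA, hQA, Subgroup.relIndex_map_map_of_injective _ _ E.subtype_injective,
            relIndex_center_Qs]
        have hrel0 : ZA.relIndex QA ≠ 0 := by
          have h1 : ZA.relIndex QA = (ZA.subgroupOf QA).index := rfl
          rw [h1]
          exact Subgroup.index_ne_zero_of_finite
        have hrel1 : ZA.relIndex QA ≠ 1 := by
          intro h1
          rw [Subgroup.relIndex_eq_one] at h1
          exact hZne (le_antisymm hZQ h1)
        refine ⟨N, ?_, hpN, ?_⟩
        · rcases Nat.lt_or_ge 1 N with h | h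
          · exact h
          · exfalso
            interval_cases N
            · apply hrel0; rw [← hN]; norm_num
            · apply hrel1; rw [← hN]; norm_num
        · intro Ct' hCt'
          have : Ct' = Ct hcl σ := by
            ext g
            rw [hCt', mem_Ct]
          rw [this, hN, hrel]

end Cfsg.Agent.Helper8.PqHH
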