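import Mathlib
import Cfsg.Agent.Helper8.PqHHd

/-!
# Restriction to an invariant subspace as a homomorphism into the units of `End K U`
(for the Hall–Higman step (HH) of S4306)
-/

set_option autoImplicit false

universe u v w

namespace Cfsg.Agent.Helper8.PqHH

open Module

variable {Γ : Type u} [Group Γ] {K : Type v} [Field K] {M : Type w} [AddCommGroup M] [Module K M]

/-- the stabiliser of a subspace -/
def stab (ρ : Representation K Γ M) (U : Submodule K M) : Subgroup Γ where
  carrier := {g | (∀ m ∈ U, ρ g m ∈ U) ∧ (∀ m ∈ U, ρ g⁻¹ m ∈ U)}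
  mul_mem' := by
    rintro a b ⟨ha1, ha2⟩ ⟨hb1, hb2⟩
    refine ⟨fun m hm => ?_, fun m hm => ?_⟩
    · rw [map_mul]; exact ha1 _ (hb1 m hm)
    · rw [mul_inv_rev, map_mul]; exact hb2 _ (ha2 m hm)
  one_mem' := by
    refine ⟨fun m hm => ?_, fun m hm => ?_⟩
    · rw [map_one]; exact hm
    · rw [inv_one, map_one]; exact hm
  inv_mem' := by
    rintro a ⟨ha1, ha2⟩
    refine ⟨ha2, fun m hm => ?_⟩
    rw [inv_inv]; exact ha1 m hm

theorem mem_stab (ρ : Representation K Γ M) (U : Submodule K M) (g : Γ) :
    g ∈ stab ρ U ↔ (∀ m ∈ U, ρ g m ∈ U) ∧ (∀ m ∈ U, ρ g⁻¹ m ∈ U) := Iff.rfl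

/-- the restricted representation of the stabiliser -/
def resRep (ρ : Representation K Γ M) (U : Submodule K M) : Representation K (stab ρ U) U where
  toFun g := (ρ (g : Γ)).restrict g.2.1
  map_one' := by
    ext m
    simp
  map_mul' := by
    intro a b
    ext m
    simp

theorem resRep_apply (ρ : Representation K Γ M) (U : Submodule K M) (g : stab ρ U) (m : U) :
    ((resRep ρ U g m : U) : M) = ρ (g : Γ) (m : M) := rfl

/-- the restriction homomorphism into the units -/
def resHom (ρ : Representation K Γ M) (U : Submodule K M) : stab ρ U →* (Module.End K U)ˣ :=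
  (resRep ρ U).toHomUnits

theorem resHom_apply (ρ : Representation K Γ M) (U : Submodule K M) (g : stab ρ U) (m : U) :
    ((((resHom ρ U g : (Module.End K U)ˣ) : Module.End K U) m : U) : M) = ρ (g : Γ) (m : M) := rfl

/-- `resHom g = 1` iff `g` acts trivially on `U` -/
theorem resHom_eq_one_iff (ρ : Representation K Γ M) (U : Submodule K M) (g : stab ρ U) :
    resHom ρ U g = 1 ↔ ∀ m ∈ U, ρ (g : Γ) m = m := by
  constructor
  · intro h m hm
    have h1 := resHom_apply ρ U g ⟨m, hm⟩
    rw [h] at h1
    exact h1.symm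
  · intro h
    apply Units.ext
    ext m
    rw [resHom_apply]
    exact h m m.2

/-- the tautological representation of the units of `End K U` -/
def tautRep (U : Type*) [AddCommGroup U] [Module K U] : Representation K (Module.End K U)ˣ U :=
  Units.coeHom (Module.End K U)

theorem tautRep_apply (U : Type*) [AddCommGroup U] [Module K U] (g : (Module.End K U)ˣ) :
    tautRep (K := K) U g = (g : Module.End K U) := rfl

end Cfsg.Agent.Helper8.PqHH
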