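import Mathlib
import Cfsg.Agent.Helper8.PqHHe
import Cfsg.Agent.Helper27.PqL1

/-!
# (HH) the Hall–Higman step on an invariant subspace (tool lemma for S4306)
-/

set_option autoImplicit false

namespace Cfsg.Agent.Helper8.PqHH

open Module Cfsg.Agent.Helper5.HHMod

/-- conjugation by powers of `x` preserves `S` -/
theorem conj_pow_mem {Γ : Type*} [Group Γ] (S : Subgroup Γ) (x : Γ)
    (hxS : ∀ u ∈ S, x * u * x⁻¹ ∈ S) (n : ℕ) : ∀ u ∈ S, x ^ n * u * (x ^ n)⁻¹ ∈ S := by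
  induction n with
  | zero => intro u hu; simpa using hu
  | succ n ih =>
    intro u hu
    have h1 := hxS _ (ih u hu)
    have e : x ^ (n + 1) * u * (x ^ (n + 1))⁻¹ = x * (x ^ n * u * (x ^ n)⁻¹) * x⁻¹ := by
      rw [pow_succ']; group
    rw [e]; exact h1

/-- conjugation by `x⁻¹` preserves `S` when `x` has finite order -/
theorem conj_inv_mem {Γ : Type*} [Group Γ] (S : Subgroup Γ) (x : Γ) (p : ℕ) (hp : 0 < p)
    (hxp : x ^ p = 1) (hxS : ∀ u ∈ S, x * u * x⁻¹ ∈ S) : ∀ u ∈ S, x⁻¹ * u * x ∈ S := by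
  intro u hu
  have h1 := conj_pow_mem S x hxS (p - 1) u hu
  have e : x ^ (p - 1) = x⁻¹ := by
    have : x ^ (p - 1) * x = 1 := by rw [← pow_succ, Nat.sub_add_cancel hp, hxp]
    exact eq_inv_of_mul_eq_one_left this
  rw [e, inv_inv] at h1
  exact h1

section tau

variable {Γ : Type*} [Group Γ] {K : Type*} [Field K] {M : Type*} [AddCommGroup M] [Module K M]

theorem le_stab (ρ : Representation K Γ M) (S : Subgroup Γ) (U : Submodule K M)
    (hUS : ∀ u ∈ S, ∀ m ∈ U, ρ u m ∈ U) : S ≤ stab ρ U :=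
  fun u hu => ⟨hUS u hu, hUS u⁻¹ (S.inv_mem hu)⟩

/-- the action of `S` on `U` as a homomorphism into the units of `End K U` -/
def tau0 (ρ : Representation K Γ M) (S : Subgroup Γ) (U : Submodule K M)
    (hUS : ∀ u ∈ S, ∀ m ∈ U, ρ u m ∈ U) : S →* (Module.End K U)ˣ :=
  (resHom ρ U).comp (Subgroup.inclusion (le_stab ρ S U hUS))

theorem tau0_apply (ρ : Representation K Γ M) (S : Subgroup Γ) (U : Submodule K M)
    (hUS : ∀ u ∈ S, ∀ m ∈ U, ρ u m ∈ U) (s : S) (m : U) :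
    ((((tau0 ρ S U hUS s : (Module.End K U)ˣ) : Module.End K U) m : U) : M) = ρ (s : Γ) (m : M) :=
  rfl

theorem tau0_eq_one_iff (ρ : Representation K Γ M) (S : Subgroup Γ) (U : Submodule K M)
    (hUS : ∀ u ∈ S, ∀ m ∈ U, ρ u m ∈ U) (s : S) :
    tau0 ρ S U hUS s = 1 ↔ ∀ m ∈ U, ρ (s : Γ) m = m :=
  resHom_eq_one_iff ρ U _

theorem tau0_commute_iff (ρ : Representation K Γ M) (S : Subgroup Γ) (U : Submodule K M)
    (hUS : ∀ u ∈ S, ∀ m ∈ U, ρ u m ∈ U) (s t : S) :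
    tau0 ρ S U hUS s * tau0 ρ S U hUS t = tau0 ρ S U hUS t * tau0 ρ S U hUS s ↔
      ∀ m ∈ U, ρ ((s : Γ) * t * (s : Γ)⁻¹ * (t : Γ)⁻¹) m = m := by
  have h1 := tau0_eq_one_iff ρ S U hUS (s * t * s⁻¹ * t⁻¹)
  have e : ((s * t * s⁻¹ * t⁻¹ : S) : Γ) = (s : Γ) * t * (s : Γ)⁻¹ * (t : Γ)⁻¹ := rfl
  rw [e] at h1
  rw [← h1, map_mul, map_mul, map_mul, map_inv, map_inv]
  constructor
  · intro h
    rw [h]; group
  · intro h
    have h2 : tau0 ρ S U hUS s * tau0 ρ S U hUS t =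
        (tau0 ρ S U hUS s * tau0 ρ S U hUS t * (tau0 ρ S U hUS s)⁻¹ * (tau0 ρ S U hUS t)⁻¹) *
          (tau0 ρ S U hUS t * tau0 ρ S U hUS s) := by group
    rw [h2, h, one_mul]

/-- conjugating by the image of `x` -/
theorem tau0_conj (ρ : Representation K Γ M) (S : Subgroup Γ) (U : Submodule K M)
    (hUS : ∀ u ∈ S, ∀ m ∈ U, ρ u m ∈ U) (x : Γ) (hx : x ∈ stab ρ U) (s : S)
    (hxs : x * (s : Γ) * x⁻¹ ∈ S) :
    resHom ρ U ⟨x, hx⟩ * tau0 ρ S U hUS s * (resHom ρ U ⟨x, hx⟩)⁻¹ =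
      tau0 ρ S U hUS ⟨x * (s : Γ) * x⁻¹, hxs⟩ := by
  unfold tau0
  rw [MonoidHom.comp_apply, MonoidHom.comp_apply, ← map_inv, ← map_mul, ← map_mul]
  rfl

end tau

/-- (HH) the Hall–Higman step on an invariant subspace. -/
theorem hall_higman_step {Γ : Type*} [Group Γ] {K : Type*} [Field K] [IsAlgClosed K] {M : Type*}
    [AddCommGroup M] [Module K M] [FiniteDimensional K M]
    (ρ : Representation K Γ M) (S : Subgroup Γ) [Finite S] (x : Γ) (p : ℕ) (hp : p.Prime)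
    (hSK : (Nat.card S : K) ≠ 0) (hpK : (p : K) ≠ 0) (hpS : ¬ p ∣ Nat.card S)
    (hxS : ∀ u ∈ S, x * u * x⁻¹ ∈ S) (hxp : x ^ p = 1)
    (U : Submodule K M) (hUS : ∀ u ∈ S, ∀ m ∈ U, ρ u m ∈ U) (hUx : ∀ m ∈ U, ρ x m ∈ U)
    (hsc : ∀ u ∈ S, ∀ v ∈ S, ∃ c : K, ∀ m ∈ U, ρ (u * v * u⁻¹ * v⁻¹) m = c • m)
    (hfix : ∀ m ∈ U, ρ x m = m → m = 0)
    (R C : Subgroup Γ)
    (hR : ∀ u, u ∈ R ↔ u ∈ S ∧ ∀ v ∈ S, ∀ m ∈ U, ρ (u * v * u⁻¹ * v⁻¹) m = m)
    (hC : ∀ u, u ∈ C ↔ u ∈ S ∧ x * u * x⁻¹ * u⁻¹ ∈ R) :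
    (∃ n : ℕ, n ^ 2 = R.relIndex S) ∧
    ((∀ u ∈ S, ∀ m ∈ U, ρ (x * u * x⁻¹ * u⁻¹) m = m) ∨
      ∃ N : ℕ, 1 < N ∧ p = N + 1 ∧ N ^ 2 = C.relIndex S) := by
  classical
  by_cases hU : U = ⊥
  · subst hU
    have hm0 : ∀ m ∈ (⊥ : Submodule K M), m = 0 := fun m hm => (Submodule.mem_bot K).mp hm
    refine ⟨⟨1, ?_⟩, Or.inl ?_⟩
    · have : S ≤ R := by
        intro u hu
        rw [hR]
        refine ⟨hu, fun v hv m hm => ?_⟩
        rw [hm0 m hm, map_zero]
      rw [Subgroup.relIndex_eq_one.mpr this]; norm_num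
    · intro u hu m hm
      rw [hm0 m hm, map_zero]
  · haveI : Nontrivial U := Submodule.nontrivial_iff_ne_bot.mpr hU
    have hxinv : x⁻¹ = x ^ (p - 1) := by
      have : x ^ (p - 1) * x = 1 := by rw [← pow_succ, Nat.sub_add_cancel hp.pos, hxp]
      exact (eq_inv_of_mul_eq_one_left this).symm
    have hx_N0 : x ∈ stab ρ U := by
      refine ⟨hUx, ?_⟩
      rw [hxinv]
      have : ∀ n : ℕ, ∀ m ∈ U, ρ (x ^ n) m ∈ U := by
        intro n
        induction n with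
        | zero => intro m hm; simpa using hm
        | succ n ih =>
          intro m hm
          rw [pow_succ, map_mul]
          exact ih _ (hUx m hm)
      exact this _
    have hxS' := conj_inv_mem S x p hp.pos hxp hxS
    set τ0 : S →* (Module.End K U)ˣ := tau0 ρ S U hUS with hτ0
    set E : Subgroup (Module.End K U)ˣ := τ0.range with hE
    set X : (Module.End K U)ˣ := resHom ρ U ⟨x, hx_N0⟩ with hX
    have hXconj : ∀ s : S, ∀ hxs : x * (s : Γ) * x⁻¹ ∈ S, X * τ0 s * X⁻¹ = τ0 ⟨x * (s : Γ) * x⁻¹, hxs⟩ :=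
      fun s hxs => tau0_conj ρ S U hUS x hx_N0 s hxs
    have hXinvconj : ∀ s : S, ∀ hxs : x⁻¹ * (s : Γ) * x ∈ S,
        X⁻¹ * τ0 s * X = τ0 ⟨x⁻¹ * (s : Γ) * x, hxs⟩ := by
      intro s hxs
      have hxs' : x * ((⟨x⁻¹ * (s : Γ) * x, hxs⟩ : S) : Γ) * x⁻¹ ∈ S := by
        have e : x * (x⁻¹ * (s : Γ) * x) * x⁻¹ = s := by group
        show x * (x⁻¹ * (s : Γ) * x) * x⁻¹ ∈ S
        rw [e]; exact s.2
      have h1 := hXconj ⟨x⁻¹ * (s : Γ) * x, hxs⟩ hxs'
      have e2 : (⟨x * ((⟨x⁻¹ * (s : Γ) * x, hxs⟩ : S) : Γ) * x⁻¹, hxs'⟩ : S) = s := by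
        apply Subtype.ext
        show x * (x⁻¹ * (s : Γ) * x) * x⁻¹ = s
        group
      rw [e2] at h1
      rw [← h1]; group
    have hτsurj : Function.Surjective τ0.rangeRestrict := τ0.rangeRestrict_surjective
    haveI : Finite E := Finite.of_surjective _ hτsurj
    have hcardE : Nat.card E ∣ Nat.card S := Subgroup.card_dvd_of_surjective _ hτsurj
    have hXE : X ∈ Subgroup.normalizer (E : Set (Module.End K U)ˣ) := by
      rw [Subgroup.mem_normalizer_iff]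
      intro g
      constructor
      · rintro ⟨s, rfl⟩
        exact ⟨_, (hXconj s (hxS s s.2)).symm⟩
      · rintro ⟨s, hs⟩
        refine ⟨⟨x⁻¹ * (s : Γ) * x, hxS' s s.2⟩, ?_⟩
        rw [← hXinvconj s (hxS' s s.2), hs]; group
    have hXp : X ^ p = 1 := by
      rw [hX, ← map_pow]
      have : (⟨x, hx_N0⟩ : stab ρ U) ^ p = 1 := by
        apply Subtype.ext
        exact hxp
      rw [this, map_one]
    have hcop : (Nat.card E).Coprime p := by
      have h1 : ¬ p ∣ Nat.card E := fun h => hpS (h.trans hcardE)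
      exact ((Nat.Prime.coprime_iff_not_dvd hp).mpr h1).symm
    have hEK : (Nat.card E : K) ≠ 0 := by
      obtain ⟨k, hk⟩ := hcardE
      intro h0
      apply hSK
      rw [hk, Nat.cast_mul, h0, zero_mul]
    have hsc' : ∀ u ∈ E, ∀ v ∈ E, ∃ c : K,
        tautRep (K := K) U (u * v * u⁻¹ * v⁻¹) = c • 1 := by
      rintro _ ⟨s, rfl⟩ _ ⟨t, rfl⟩
      obtain ⟨c, hc⟩ := hsc s s.2 t t.2
      refine ⟨c, ?_⟩
      rw [tautRep_apply, ← map_inv, ← map_inv, ← map_mul, ← map_mul, ← map_mul]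
      ext m
      rw [hτ0, tau0_apply]
      exact hc m m.2
    have hfaith' : ∀ g ∈ E, tautRep (K := K) U g = 1 → g = 1 := fun g _ h => Units.ext h
    have hfix' : ∀ m : U, tautRep (K := K) U X m = m → m = 0 := by
      intro m hm
      have h1 : ρ x (m : M) = m := by
        have := congrArg Subtype.val hm
        exact this
      exact Subtype.ext (hfix m m.2 h1)
    have hXE1 : ∀ g ∈ E, X * g * X⁻¹ ∈ E := fun g hg =>
      (Subgroup.mem_normalizer_iff.mp hXE g).mp hg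
    have hXE2 : ∀ g ∈ E, X⁻¹ * g * X ∈ E := by
      intro g hg
      have h1 := (Subgroup.mem_normalizer_iff.mp (Subgroup.inv_mem _ hXE) g).mp hg
      rwa [inv_inv] at h1
    have hL1' : ∀ z ∈ E, (∀ g ∈ E, z * g = g * z) → X * z * X⁻¹ = z := by
      set B : Subgroup (Module.End K U)ˣ := E ⊓ Subgroup.centralizer (E : Set (Module.End K U)ˣ)
        with hB
      have hBE : B ≤ E := inf_le_left
      haveI : Finite B := Finite.of_injective (Subgroup.inclusion hBE)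
        (Subgroup.inclusion_injective hBE)
      have hBmem : ∀ b, b ∈ B ↔ b ∈ E ∧ ∀ g ∈ E, g * b = b * g := by
        intro b
        rw [hB, Subgroup.mem_inf, Subgroup.mem_centralizer_iff]
        rfl
      have hBab : ∀ a ∈ B, ∀ b ∈ B, a * b = b * a := by
        intro a ha b hb
        exact ((hBmem b).mp hb).2 a ((hBmem a).mp ha).1
      have hBK : (Nat.card B : K) ≠ 0 := by
        obtain ⟨k, hk⟩ := Subgroup.card_dvd_of_le hBE
        intro h0
        apply hEK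
        rw [hk, Nat.cast_mul, h0, zero_mul]
      have hXB : ∀ b ∈ B, X * b * X⁻¹ ∈ B := by
        intro b hb
        obtain ⟨hbE, hbc⟩ := (hBmem b).mp hb
        rw [hBmem]
        refine ⟨hXE1 b hbE, fun g hg => ?_⟩
        have h1 := hbc _ (hXE2 g hg)
        calc g * (X * b * X⁻¹) = X * ((X⁻¹ * g * X) * b) * X⁻¹ := by group
          _ = X * (b * (X⁻¹ * g * X)) * X⁻¹ := by rw [h1]
          _ = X * b * X⁻¹ * g := by group
      have hL := Cfsg.Agent.Helper27.PqL1.L1 (tautRep (K := K) U) B hBab hBK X hXB p hp hXp ⊤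
        (fun _ _ _ _ => Submodule.mem_top) (fun _ _ => Submodule.mem_top)
        (fun m _ hm => hfix' m hm)
      intro z hz hzc
      have hzB : z ∈ B := (hBmem z).mpr ⟨hz, fun g hg => (hzc g hg).symm⟩
      have h1 := hL z hzB
      have h2 : X * z * X⁻¹ * z⁻¹ = 1 := by
        apply Units.ext
        ext m
        have := h1 m Submodule.mem_top
        rw [tautRep_apply] at this
        rw [this]
        rfl
      exact mul_inv_eq_one.mp h2
    have key := hh_core (tautRep (K := K) U) E X p hp hpK hXE hXp hcop hEK hsc' hfaith' hfix' hL1'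
    set τ : S →* E := τ0.rangeRestrict with hτ
    have hτval : ∀ s : S, ((τ s : E) : (Module.End K U)ˣ) = τ0 s := fun s => rfl
    have hRiff : ∀ s : S, (s : Γ) ∈ R ↔ τ s ∈ Subgroup.center E := by
      intro s
      rw [hR, Subgroup.mem_center_iff]
      constructor
      · rintro ⟨-, h⟩ g
        obtain ⟨t, rfl⟩ := hτsurj g
        apply Subtype.ext
        show τ0 t * τ0 s = τ0 s * τ0 t
        exact ((tau0_commute_iff ρ S U hUS s t).mpr (h t t.2)).symm
      · intro h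
        refine ⟨s.2, fun v hv => ?_⟩
        have h1 := h (τ ⟨v, hv⟩)
        have h2 : τ0 ⟨v, hv⟩ * τ0 s = τ0 s * τ0 ⟨v, hv⟩ := congrArg Subtype.val h1
        exact (tau0_commute_iff ρ S U hUS s ⟨v, hv⟩).mp h2.symm
    have hRrel : R.relIndex S = (Subgroup.center E).index := by
      have h1 : R.subgroupOf S = (Subgroup.center E).comap τ := by
        ext s
        rw [Subgroup.mem_subgroupOf, Subgroup.mem_comap]
        exact hRiff s
      show (R.subgroupOf S).index = _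
      rw [h1, Subgroup.index_comap_of_surjective _ hτsurj]
    obtain ⟨⟨n, hn⟩, key2⟩ := key
    refine ⟨⟨n, by rw [hn, hRrel]⟩, ?_⟩
    rcases key2 with h | ⟨N, hN1, hpN, hN⟩
    · left
      intro u hu m hm
      have h1 := h (τ0 ⟨u, hu⟩) ⟨⟨u, hu⟩, rfl⟩
      rw [hXconj ⟨u, hu⟩ (hxS u hu)] at h1
      have h2 : τ0 (⟨x * u * x⁻¹, hxS u hu⟩ * (⟨u, hu⟩ : S)⁻¹) = 1 := by
        rw [map_mul, map_inv, h1, mul_inv_cancel]
      rw [hτ0, tau0_eq_one_iff] at h2
      exact h2 m hm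
    · right
      refine ⟨N, hN1, hpN, ?_⟩
      have hcl := classTwo_of_scalar (tautRep (K := K) U) E hsc' hfaith'
      have h1 := hN (Ct hcl (conjAut E X hXE)) (fun g => mem_Ct hcl _ g)
      rw [h1]
      have h2 : C.subgroupOf S = (Ct hcl (conjAut E X hXE)).comap τ := by
        ext s
        rw [Subgroup.mem_subgroupOf, Subgroup.mem_comap, mem_Ct, hC]
        have hxs := hxS s s.2
        have e : conjAut E X hXE (τ s) * (τ s)⁻¹ =
            τ (⟨x * (s : Γ) * x⁻¹, hxs⟩ * s⁻¹) := by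
          apply Subtype.ext
          rw [map_mul, map_inv]
          show X * τ0 s * X⁻¹ * (τ0 s)⁻¹ = τ0 ⟨x * (s : Γ) * x⁻¹, hxs⟩ * (τ0 s)⁻¹
          rw [hXconj s hxs]
        rw [e, ← hRiff]
        constructor
        · rintro ⟨-, h⟩
          exact h
        · intro h
          exact ⟨s.2, h⟩
      show _ = (C.subgroupOf S).index
      rw [h2, Subgroup.index_comap_of_surjective _ hτsurj]

end Cfsg.Agent.Helper8.PqHH
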