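import Mathlib
import Cfsg.Prelude.Def_GeometricClasses
import Cfsg.Prelude.Def_ClassicalGeometry
import Cfsg.Agent.Helper27.S5975Defs
import Cfsg.Agent.Helper24.S5975TAU
import Cfsg.Agent.Helper21.S5975FRAME

set_option autoImplicit false
open scoped MatrixGroups

/-! S5975 piece LINDIM (helper8). -/

namespace Cfsg.Agent.S5975P

open Polynomial

namespace LINDIM

variable {F : Type*} [Field F] {d : ℕ}

/-- the range of `Y - 1` is `K`-invariant when `Y` commutes with `K` -/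
theorem kInv_range (K : Subalgebra F (Matrix (Fin d ⊕ Fin d) (Fin d ⊕ Fin d) F))
    (Y : Matrix (Fin d ⊕ Fin d) (Fin d ⊕ Fin d) F)
    (hcomm : ∀ a ∈ K, Y * a = a * Y) :
    KInv d F K (LinearMap.range (Matrix.toLin' (Y - 1))) := by
  intro a ha w hw
  obtain ⟨v, rfl⟩ := hw
  refine ⟨a.mulVec v, ?_⟩
  rw [Matrix.toLin'_apply, Matrix.toLin'_apply, Matrix.mulVec_mulVec, Matrix.mulVec_mulVec]
  congr 1
  rw [sub_mul, mul_sub, hcomm a ha, one_mul, mul_one]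

theorem pow_mulVec_fixed (Y : Matrix (Fin d ⊕ Fin d) (Fin d ⊕ Fin d) F)
    (w : Fin d ⊕ Fin d → F) (hw : Y.mulVec w = w) (i : ℕ) : (Y ^ i).mulVec w = w := by
  induction i with
  | zero => rw [pow_zero, Matrix.one_mulVec]
  | succ i ih => rw [pow_succ, ← Matrix.mulVec_mulVec, hw, ih]

/-- `ker (Y - 1) ∩ range (Y - 1) = 0` when `Y ^ r = 1` and `r ≠ 0` in `F` -/
theorem ker_inf_range (Y : Matrix (Fin d ⊕ Fin d) (Fin d ⊕ Fin d) F) (r : ℕ) (hrF : (r : F) ≠ 0)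
    (hYr : Y ^ r = 1) (w : Fin d ⊕ Fin d → F) (hw : Y.mulVec w = w)
    (hwr : w ∈ LinearMap.range (Matrix.toLin' (Y - 1))) : w = 0 := by
  obtain ⟨v, hv⟩ := hwr
  rw [Matrix.toLin'_apply] at hv
  have h1 : (∑ i ∈ Finset.range r, Y ^ i) * (Y - 1) = 0 := by
    rw [geom_sum_mul, hYr, sub_self]
  have h2 : (∑ i ∈ Finset.range r, Y ^ i).mulVec w = (r : F) • w := by
    rw [Matrix.sum_mulVec]
    rw [Finset.sum_congr rfl (fun i _ => pow_mulVec_fixed Y w hw i), Finset.sum_const,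
      Finset.card_range, Nat.cast_smul_eq_nsmul]
  have h3 : (∑ i ∈ Finset.range r, Y ^ i).mulVec w = 0 := by
    rw [← hv, Matrix.mulVec_mulVec, h1, Matrix.zero_mulVec]
  rw [h2] at h3
  exact (smul_eq_zero.mp h3).resolve_left hrF

/-- the form is non-degenerate on `range (Y - 1)` -/
theorem nDeg_range (Y Yi : Matrix (Fin d ⊕ Fin d) (Fin d ⊕ Fin d) F) (hYYi : Y * Yi = 1)
    (hsp : ∀ u v : Fin d ⊕ Fin d → F,
      Cfsg.sympForm d F (Y.mulVec u) (Y.mulVec v) = Cfsg.sympForm d F u v)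
    (r : ℕ) (hrF : (r : F) ≠ 0) (hYr : Y ^ r = 1) :
    NDeg d F (LinearMap.range (Matrix.toLin' (Y - 1))) := by
  intro w hw hperp
  have h1 : ∀ v : Fin d ⊕ Fin d → F,
      Cfsg.sympForm d F w (Y.mulVec v) = Cfsg.sympForm d F w v := by
    intro v
    have h := hperp ((Y - 1).mulVec v) ⟨v, Matrix.toLin'_apply _ _⟩
    rw [Matrix.sub_mulVec, Matrix.one_mulVec, sympForm_sub_right, sub_eq_zero] at h
    exact h
  have h2 : ∀ v : Fin d ⊕ Fin d → F, Cfsg.sympForm d F (Y.mulVec w - w) v = 0 := by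
    intro v
    have hv : v = Y.mulVec (Yi.mulVec v) := by
      rw [Matrix.mulVec_mulVec, hYYi, Matrix.one_mulVec]
    rw [hv, sympForm_sub_left, hsp, h1, sub_self]
  have h3 : Y.mulVec w - w = 0 := nDeg_top d F _ Submodule.mem_top (fun v _ => h2 v)
  exact ker_inf_range Y r hrF hYr w (sub_eq_zero.mp h3) hw

end LINDIM

/-- LINDIM (uses TAU, FRAME) -/
theorem two_mul_dvd_of_commute {F : Type*} [Field F] (d k : ℕ) (hk : 0 < k)
    (K : Subalgebra F (Matrix (Fin d ⊕ Fin d) (Fin d ⊕ Fin d) F)) (hK : HypK d k F K)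
    (r : ℕ) (hrF : (r : F) ≠ 0) (y : GL (Fin d ⊕ Fin d) F) (hy : y ∈ Cfsg.spGL d F)
    (hyr : ((y ^ r : GL (Fin d ⊕ Fin d) F) : Matrix (Fin d ⊕ Fin d) (Fin d ⊕ Fin d) F) = 1)
    (hcomm : ∀ a ∈ K, (y : Matrix (Fin d ⊕ Fin d) (Fin d ⊕ Fin d) F) * a =
      a * (y : Matrix (Fin d ⊕ Fin d) (Fin d ⊕ Fin d) F)) :
    2 * k ∣ 2 * d - Module.finrank F (LinearMap.ker (Matrix.toLin'
      ((y : Matrix (Fin d ⊕ Fin d) (Fin d ⊕ Fin d) F) - 1))) := by
  classical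
  set Y : Matrix (Fin d ⊕ Fin d) (Fin d ⊕ Fin d) F :=
    (y : Matrix (Fin d ⊕ Fin d) (Fin d ⊕ Fin d) F) with hY
  have hYYi : Y * ((y⁻¹ : GL (Fin d ⊕ Fin d) F) : Matrix (Fin d ⊕ Fin d) (Fin d ⊕ Fin d) F) = 1 := by
    rw [hY, ← Units.val_mul, mul_inv_cancel, Units.val_one]
  have hYr : Y ^ r = 1 := by rw [hY, ← Units.val_pow_eq_pow_val]; exact hyr
  have hsp : ∀ u v : Fin d ⊕ Fin d → F,
      Cfsg.sympForm d F (Y.mulVec u) (Y.mulVec v) = Cfsg.sympForm d F u v := fun u v => hy u v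
  obtain ⟨τ, hτ⟩ := exists_functional d k hk K hK.field
  obtain ⟨m, u, v, -, hdim⟩ := exists_frame d k hk K hK τ hτ
    (LinearMap.range (Matrix.toLin' (Y - 1))) (LINDIM.kInv_range K Y hcomm)
    (LINDIM.nDeg_range Y _ hYYi hsp r hrF hYr)
  have hrn := LinearMap.finrank_range_add_finrank_ker (Matrix.toLin' (Y - 1))
  rw [Module.finrank_fintype_fun_eq_card, Fintype.card_sum, Fintype.card_fin] at hrn
  refine ⟨m, ?_⟩
  rw [← hdim]
  omega

end Cfsg.Agent.S5975P
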