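import Mathlib
import Cfsg.Prelude.Def_GeometricClasses
import Cfsg.Prelude.Def_ClassicalGeometry
import Cfsg.Agent.Helper27.S5975Defs
import Cfsg.Agent.Helper24.S5975KDIM

set_option autoImplicit false
open scoped MatrixGroups

/-! S5975 piece LINKER (helper8). -/

namespace Cfsg.Agent.S5975P

open Polynomial

namespace LINKER

/-- the fixed space of a matrix commuting with `K` is `K`-invariant -/
theorem kInv_ker {F : Type*} [Field F] (d : ℕ)
    (K : Subalgebra F (Matrix (Fin d ⊕ Fin d) (Fin d ⊕ Fin d) F))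
    (Y : Matrix (Fin d ⊕ Fin d) (Fin d ⊕ Fin d) F)
    (hcomm : ∀ a ∈ K, Y * a = a * Y) :
    KInv d F K (LinearMap.ker (Matrix.toLin' (Y - 1))) := by
  intro a ha w hw
  rw [LinearMap.mem_ker, Matrix.toLin'_apply, Matrix.sub_mulVec, Matrix.one_mulVec,
    sub_eq_zero] at hw ⊢
  rw [Matrix.mulVec_mulVec, hcomm a ha, ← Matrix.mulVec_mulVec, hw]

end LINKER

/-- LINKER (uses KDIM) -/
theorem dvd_finrank_ker_of_commute {F : Type*} [Field F] (d k : ℕ)
    (K : Subalgebra F (Matrix (Fin d ⊕ Fin d) (Fin d ⊕ Fin d) F))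
    (hK : Cfsg.Geo.IsFieldSubalgebra k K) (y : GL (Fin d ⊕ Fin d) F)
    (hcomm : ∀ a ∈ K, (y : Matrix (Fin d ⊕ Fin d) (Fin d ⊕ Fin d) F) * a =
      a * (y : Matrix (Fin d ⊕ Fin d) (Fin d ⊕ Fin d) F)) :
    k ∣ Module.finrank F (LinearMap.ker (Matrix.toLin'
      ((y : Matrix (Fin d ⊕ Fin d) (Fin d ⊕ Fin d) F) - 1))) :=
  dvd_finrank_of_invariant d k K hK _ (LINKER.kInv_ker d K _ hcomm)

end Cfsg.Agent.S5975P
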