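import Mathlib
import Cfsg.Prelude.Def_GeometricClasses
import Cfsg.Prelude.Def_ClassicalGeometry
import Cfsg.Agent.Helper29.S5976Defs
import Cfsg.Agent.Helper18.S5961NDSUB

set_option autoImplicit false
open scoped MatrixGroups

/-! S5976 piece EVEN. -/

namespace Cfsg.Agent.S5976P

open Cfsg.Agent.Helper2.SympInvol Cfsg.Agent.S5961P

/-- EVEN -/
theorem exists_dim_of_sq_eq_one {F : Type*} [Field F] (h2 : (2 : F) ≠ 0) (d : ℕ)
    (x : GL (Fin d ⊕ Fin d) F) (hx : x ∈ Cfsg.spGL d F)
    (hx2 : (x : Matrix (Fin d ⊕ Fin d) (Fin d ⊕ Fin d) F) *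
      (x : Matrix (Fin d ⊕ Fin d) (Fin d ⊕ Fin d) F) = 1)
    (hns : ∀ z : F, (x : Matrix (Fin d ⊕ Fin d) (Fin d ⊕ Fin d) F) ≠
      z • (1 : Matrix (Fin d ⊕ Fin d) (Fin d ⊕ Fin d) F)) :
    ∃ a : ℕ, 1 ≤ a ∧ a < d ∧
      Module.finrank F (LinearMap.ker (Matrix.toLin'
        ((x : Matrix (Fin d ⊕ Fin d) (Fin d ⊕ Fin d) F) - 1))) = 2 * a := by
  classical
  set X : Matrix (Fin d ⊕ Fin d) (Fin d ⊕ Fin d) F :=
    (x : Matrix (Fin d ⊕ Fin d) (Fin d ⊕ Fin d) F) with hX
  set T : Module.End F (Fin d ⊕ Fin d → F) := Matrix.toLin' X with hT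
  have hTapp : ∀ v, T v = X.mulVec v := fun v => Matrix.toLin'_apply X v
  have hTT : ∀ v, T (T v) = v := by
    intro v
    rw [hTapp, hTapp, Matrix.mulVec_mulVec, hx2, Matrix.one_mulVec]
  have hiso : ∀ u v, sB d F (T u) (T v) = sB d F u v := by
    intro u v
    rw [sB_apply, sB_apply, hTapp, hTapp]
    exact hx u v
  have hker : Matrix.toLin' (X - 1) = T - 1 := by
    rw [map_sub, Matrix.toLin'_one]; rfl
  rw [hker]
  have hmemP : ∀ v, v ∈ LinearMap.ker (T - 1) ↔ T v = v := by
    intro v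
    rw [LinearMap.mem_ker, LinearMap.sub_apply, Module.End.one_apply, sub_eq_zero]
  have hproj : ∀ v, (2 : F)⁻¹ • (v + T v) ∈ LinearMap.ker (T - 1) := by
    intro v
    rw [hmemP, map_smul, map_add, hTT, add_comm]
  have hnd : Nondeg (sB d F) (LinearMap.ker (T - 1)) := by
    intro m hm hm0
    obtain ⟨v, -, hv⟩ := sB_nondeg d F m trivial hm0
    refine ⟨(2 : F)⁻¹ • (v + T v), hproj v, ?_⟩
    have hTm : T m = m := (hmemP m).mp hm
    have h1 : sB d F m (T v) = sB d F m v := by
      conv_lhs => rw [← hTm]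
      exact hiso m v
    rw [map_smul, map_add, h1, smul_eq_mul, ← two_mul, ← mul_assoc, inv_mul_cancel₀ h2, one_mul]
    exact hv
  have heven := (exists_nondeg_sub (sB d F) (sB_alt d F) _ hnd).1
  obtain ⟨a, ha⟩ := heven
  refine ⟨a, ?_, ?_, by rw [ha]; ring⟩
  · -- `a ≠ 0`
    by_contra h0
    have ha0 : a = 0 := by omega
    rw [ha0] at ha
    have hbot : LinearMap.ker (T - 1) = ⊥ := Submodule.finrank_eq_zero.mp ha
    have hneg : ∀ v, T v = -v := by
      intro v
      have := hproj v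
      rw [hbot, Submodule.mem_bot, smul_eq_zero] at this
      rcases this with h | h
      · exact absurd (inv_eq_zero.mp h) h2
      · exact eq_neg_of_add_eq_zero_right h
    apply hns (-1)
    apply Matrix.toLin'.injective
    apply LinearMap.ext
    intro v
    show T v = _
    rw [hneg, map_smul, Matrix.toLin'_one, LinearMap.smul_apply, LinearMap.id_apply, neg_one_smul]
  · -- `a < d`
    by_contra h0
    have hle : Module.finrank F (LinearMap.ker (T - 1)) ≤ Module.finrank F (Fin d ⊕ Fin d → F) :=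
      Submodule.finrank_le _
    have hfr : Module.finrank F (Fin d ⊕ Fin d → F) = d + d := by
      rw [Module.finrank_fintype_fun_eq_card, Fintype.card_sum, Fintype.card_fin]
    have htop : LinearMap.ker (T - 1) = ⊤ := by
      apply Submodule.eq_top_of_finrank_eq
      rw [hfr]; omega
    apply hns 1
    apply Matrix.toLin'.injective
    apply LinearMap.ext
    intro v
    show T v = _
    have hv : v ∈ LinearMap.ker (T - 1) := by rw [htop]; trivial
    rw [(hmemP v).mp hv, one_smul, Matrix.toLin'_one, LinearMap.id_apply]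

end Cfsg.Agent.S5976P
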