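import Mathlib
import Cfsg.Agent.Helper27.Suz2Defs

/-!
# SUZ2 board, piece CMT: commutator calculus with `T = Z2 P` (values central of order 2)
-/

set_option autoImplicit false
set_option linter.unusedSectionVars false

namespace Cfsg.Agent.SUZ2P

open Cfsg.Agent.Helper17.Suz2

universe u v

variable {K : Type v} {P : Type u} [Group K] [Group P] [MulDistribMulAction K P]

theorem cmT_aux_inv {z : P} (hz : z ∈ Om P) : z⁻¹ = z := by
  rw [inv_eq_iff_mul_eq_one]; exact hz.2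

theorem cmT_mul_right {t : P} (ht : t ∈ Z2 P) (g h : P) : cm t (g * h) = cm t g * cm t h :=
  cm_mul_right (mem_Z2.mp ht h).1

theorem cmT_mul_left {t t' : P} (ht : t ∈ Z2 P) (ht' : t' ∈ Z2 P) (g : P) :
    cm (t * t') g = cm t g * cm t' g := by
  rw [cm_mul_left (mem_Z2.mp ht' g).1]
  exact (Subgroup.mem_center_iff.mp (mem_Z2.mp ht' g).1 _).symm

theorem cmT_inv_right {t : P} (ht : t ∈ Z2 P) (g : P) : cm t g⁻¹ = cm t g := by
  have h1 : cm t (g * g⁻¹) = cm t g * cm t g⁻¹ := cmT_mul_right ht g g⁻¹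
  have h2 : cm t (g * g⁻¹) = 1 := by rw [mul_inv_cancel]; unfold cm; group
  rw [h2] at h1
  have h3 : cm t g⁻¹ = (cm t g)⁻¹ := (inv_eq_of_mul_eq_one_right h1.symm).symm
  rw [h3, cmT_aux_inv (mem_Z2.mp ht g)]

theorem cmT_swap {t : P} (ht : t ∈ Z2 P) (g : P) : cm g t = cm t g := by
  rw [← cm_inv t g, cmT_aux_inv (mem_Z2.mp ht g)]

/-- conjugation formula: `g t g⁻¹ = t * cm t g` -/
theorem cmT_conj {t : P} (ht : t ∈ Z2 P) (g : P) : g * t * g⁻¹ = t * cm t g := by
  have h1 : g * t * g⁻¹ = cm g t * t := by unfold cm; group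
  rw [h1, cmT_swap ht g]
  exact (Subgroup.mem_center_iff.mp (mem_Z2.mp ht g).1 t).symm

end Cfsg.Agent.SUZ2P
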