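import Mathlib

set_option autoImplicit false

namespace Cfsg.Agent.Helper8.S1082

/-- Pure group theory: if `θ : St ↠ G` with `G` simple and `ker θ = Z(St)`, and `ψ : St ↠ P` with
`P` centreless and nontrivial, then `G ≃* P`. -/
theorem equiv_of_two_quotients {St G P : Type*} [Group St] [Group G] [Group P]
    (θ : St →* G) (hθ : Function.Surjective θ) (hker : θ.ker = Subgroup.center St)
    (hG : IsSimpleGroup G)
    (ψ : St →* P) (hψ : Function.Surjective ψ) (hP : Subgroup.center P = ⊥) (hnt : Nontrivial P) :
    Nonempty (G ≃* P) := by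
  -- Z(St) ≤ ker ψ
  have hZ : Subgroup.center St ≤ ψ.ker := by
    intro z hz
    rw [MonoidHom.mem_ker]
    have : ψ z ∈ Subgroup.center P := by
      rw [Subgroup.mem_center_iff]
      intro p
      obtain ⟨s, rfl⟩ := hψ p
      rw [← map_mul, ← map_mul, (Subgroup.mem_center_iff.mp hz s)]
    rw [hP] at this
    exact Subgroup.mem_bot.mp this
  -- θ(ker ψ) is normal in G
  have hN : (ψ.ker.map θ).Normal := Subgroup.Normal.map inferInstance θ hθ
  have hcase := hN.eq_bot_or_eq_top
  have hkk : ψ.ker = θ.ker := by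
    rcases hcase with h | h
    · apply le_antisymm
      · intro x hx
        rw [MonoidHom.mem_ker]
        have : θ x ∈ ψ.ker.map θ := Subgroup.mem_map_of_mem θ hx
        rw [h] at this
        exact Subgroup.mem_bot.mp this
      · rw [hker]; exact hZ
    · exfalso
      -- every s ∈ St lies in ker ψ
      have hall : ∀ s : St, ψ s = 1 := by
        intro s
        have : θ s ∈ ψ.ker.map θ := by rw [h]; exact Subgroup.mem_top _
        obtain ⟨n, hn, hns⟩ := Subgroup.mem_map.mp this
        have hz : n⁻¹ * s ∈ θ.ker := by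
          rw [MonoidHom.mem_ker, map_mul, map_inv, hns, inv_mul_cancel]
        rw [hker] at hz
        have hz' : ψ (n⁻¹ * s) = 1 := MonoidHom.mem_ker.mp (hZ hz)
        have hn' : ψ n = 1 := MonoidHom.mem_ker.mp hn
        rw [map_mul, map_inv, hn', inv_one, one_mul] at hz'
        exact hz'
      obtain ⟨p, q, hpq⟩ := hnt
      obtain ⟨s, rfl⟩ := hψ p
      obtain ⟨s', rfl⟩ := hψ q
      exact hpq (by rw [hall s, hall s'])
  exact ⟨((QuotientGroup.quotientKerEquivOfSurjective θ hθ).symm.trans
    (QuotientGroup.quotientMulEquivOfEq hkk.symm)).trans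
    (QuotientGroup.quotientKerEquivOfSurjective ψ hψ)⟩

end Cfsg.Agent.Helper8.S1082
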