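import Cfsg.Agent.Helper28.S2258Defs
import Cfsg.Agent.Helper18.Dickson45

/-! S2258 piece DIAGNF (helper8): a matrix of `SL₂(F)` with an eigenvalue `a`, `a² ≠ 1`, is conjugate
to `dM a`. -/

set_option autoImplicit false

namespace Cfsg.Agent.S2258P

open Cfsg.Agent.Helper18.Dickson

variable {F : Type*} [Field F] [Fintype F] {p : ℕ}

local notation "SF" => Matrix.SpecialLinearGroup (Fin 2) F
local notation "MF" => Matrix (Fin 2) (Fin 2) F
local notation "PF" => Matrix.ProjectiveSpecialLinearGroup (Fin 2) F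
local notation "π" => QuotientGroup.mk' (Subgroup.center SF)
local notation "q" => Fintype.card F

namespace DIAGNF

omit [Fintype F] in
/-- the coordinate computation -/
theorem core (x y z t a c v0 v1 u0 u1 s : F) (hdet : x * t - y * z = 1)
    (E1 : x * v0 + y * v1 = a * v0) (E2 : z * v0 + t * v1 = a * v1)
    (hchar : a ^ 2 - (x + t) * a + 1 = 0) (hc : a * c = 1) (hu : v0 * u1 - v1 * u0 = 1)
    (hs : s * (c - a) = 1) :
    ∃ g : Matrix.SpecialLinearGroup (Fin 2) F, (g : Matrix (Fin 2) (Fin 2) F) * !![x, y; z, t] =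
      !![a, 0; 0, c] * (g : Matrix (Fin 2) (Fin 2) F) := by
  have hτ : x + t = a + c := by
    have h1 : a * (x + t) = a * (a + c) := by linear_combination (-1 : F) * hchar - hc
    have ha0 : a ≠ 0 := by
      rintro rfl
      rw [zero_mul] at hc
      exact zero_ne_one hc
    exact mul_left_cancel₀ ha0 h1
  have hd : (!![s * (z * u0 + (t - a) * u1), -(s * ((x - a) * u0 + y * u1)); -v1, v0] :
      Matrix (Fin 2) (Fin 2) F).det = 1 := by
    rw [Matrix.det_fin_two_of]
    linear_combination hs + s * (c - a) * hu + s * u0 * E2 - s * u1 * E1 + s * (v0 * u1 - v1 * u0) * hτ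
  refine ⟨⟨_, hd⟩, ?_⟩
  · show (!![s * (z * u0 + (t - a) * u1), -(s * ((x - a) * u0 + y * u1)); -v1, v0] :
      Matrix (Fin 2) (Fin 2) F) * !![x, y; z, t] = !![a, 0; 0, c] *
        !![s * (z * u0 + (t - a) * u1), -(s * ((x - a) * u0 + y * u1)); -v1, v0]
    ext i j
    fin_cases i <;> fin_cases j <;> simp [Matrix.mul_apply, Fin.sum_univ_two]
    · linear_combination s * u1 * hdet + s * u1 * hchar
    · linear_combination (-(s * u0)) * hdet - s * u0 * hchar
    · linear_combination E2 - v1 * hτ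
    · linear_combination (-1 : F) * E1 + v0 * hτ

end DIAGNF

/-- DIAGNF (M). -/
theorem exists_conj_dM (X : SF) (a : F) (v : Fin 2 → F) (hv : v ≠ 0)
    (hXv : (X : MF).mulVec v = a • v) (ha : a ^ 2 ≠ 1) :
    ∃ (g : SF) (ha0 : a ≠ 0), g * X * g⁻¹ = dM a ha0 := by
  have hdet : (X : MF) 0 0 * (X : MF) 1 1 - (X : MF) 0 1 * (X : MF) 1 0 = 1 := det_eq X
  have E1 : (X : MF) 0 0 * v 0 + (X : MF) 0 1 * v 1 = a * v 0 := by
    have := congrFun hXv 0
    simpa [Matrix.mulVec, dotProduct, Fin.sum_univ_two] using this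
  have E2 : (X : MF) 1 0 * v 0 + (X : MF) 1 1 * v 1 = a * v 1 := by
    have := congrFun hXv 1
    simpa [Matrix.mulVec, dotProduct, Fin.sum_univ_two] using this
  -- the characteristic equation
  have hchar : a ^ 2 - ((X : MF) 0 0 + (X : MF) 1 1) * a + 1 = 0 := by
    have h0 : (a ^ 2 - ((X : MF) 0 0 + (X : MF) 1 1) * a + 1) * v 0 = 0 := by
      linear_combination ((X : MF) 1 1 - a) * E1 - (X : MF) 0 1 * E2 - v 0 * hdet
    have h1 : (a ^ 2 - ((X : MF) 0 0 + (X : MF) 1 1) * a + 1) * v 1 = 0 := by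
      linear_combination ((X : MF) 0 0 - a) * E2 - (X : MF) 1 0 * E1 - v 1 * hdet
    by_contra hne
    apply hv
    funext i
    fin_cases i
    · exact (mul_eq_zero.mp h0).resolve_left hne
    · exact (mul_eq_zero.mp h1).resolve_left hne
  have ha0 : a ≠ 0 := by
    rintro rfl
    simp at hchar
  have hc : a * a⁻¹ = 1 := mul_inv_cancel₀ ha0
  have hca : a⁻¹ - a ≠ 0 := by
    intro h
    apply ha
    have : a⁻¹ = a := sub_eq_zero.mp h
    rw [this] at hc
    rw [pow_two]; exact hc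
  have hs : (a⁻¹ - a)⁻¹ * (a⁻¹ - a) = 1 := inv_mul_cancel₀ hca
  -- a vector `u` with `det [v | u] = 1`
  obtain ⟨u0, u1, hu⟩ : ∃ u0 u1 : F, v 0 * u1 - v 1 * u0 = 1 := by
    by_cases h0 : v 0 = 0
    · have h1 : v 1 ≠ 0 := by
        intro h1
        apply hv
        funext i
        fin_cases i
        · exact h0
        · exact h1
      exact ⟨-(v 1)⁻¹, 0, by rw [h0, zero_mul, zero_sub, mul_neg, neg_neg, mul_inv_cancel₀ h1]⟩
    · exact ⟨0, (v 0)⁻¹, by rw [mul_zero, sub_zero, mul_inv_cancel₀ h0]⟩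
  obtain ⟨g, hm⟩ := DIAGNF.core _ _ _ _ a a⁻¹ (v 0) (v 1) u0 u1 (a⁻¹ - a)⁻¹ hdet E1 E2 hchar hc hu hs
  have key : ∀ g : SF, g * X = dM a ha0 * g → g * X * g⁻¹ = dM a ha0 := fun g h => by
    rw [h, mul_inv_cancel_right]
  refine ⟨g, ha0, key g ?_⟩
  apply Subtype.ext
  rw [Matrix.SpecialLinearGroup.coe_mul, Matrix.SpecialLinearGroup.coe_mul, dM_coe]
  have hX : (X : MF) = !![(X : MF) 0 0, (X : MF) 0 1; (X : MF) 1 0, (X : MF) 1 1] := by
    ext i j
    fin_cases i <;> fin_cases j <;> rfl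
  rw [hX]
  exact hm

end Cfsg.Agent.S2258P
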