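import Cfsg.Agent.Helper28.S2258Defs
import Cfsg.Agent.Helper18.Dickson45

/-! S2258 piece EIGQ (helper8): a matrix with `X ^ (q - 1) = 1` has an eigenvector over `F`. -/

set_option autoImplicit false

namespace Cfsg.Agent.S2258P

open Cfsg.Agent.Helper18.Dickson

variable {F : Type*} [Field F] [Fintype F] {p : ℕ}

local notation "SF" => Matrix.SpecialLinearGroup (Fin 2) F
local notation "MF" => Matrix (Fin 2) (Fin 2) F
local notation "PF" => Matrix.ProjectiveSpecialLinearGroup (Fin 2) F
local notation "π" => QuotientGroup.mk' (Subgroup.center SF)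
local notation "q" => Fintype.card F

/-- EIGQ (M). -/
theorem exists_eigen_of_pow (X : SF) (hX : X ^ (q - 1) = 1) :
    ∃ (a : F) (v : Fin 2 → F), v ≠ 0 ∧ (X : MF).mulVec v = a • v := by
  classical
  have hq1 : q - 1 + 1 = q := Nat.sub_add_cancel Fintype.card_pos
  have hq : (X : MF) ^ q = X := by
    have h1 : ((X ^ (q - 1) : SF) : MF) = 1 := by rw [hX]; rfl
    rw [Matrix.SpecialLinearGroup.coe_pow] at h1
    rw [← hq1, pow_succ, h1, one_mul]
  let f : Module.End F (Fin 2 → F) := Matrix.toLin' (X : MF)
  have hf : f ^ q = f := by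
    show (Matrix.toLin' (X : MF)) ^ q = Matrix.toLin' (X : MF)
    rw [← Matrix.toLin'_pow, hq]
  have hne : (Polynomial.X ^ q - Polynomial.X : Polynomial F) ≠ 0 :=
    FiniteField.X_pow_card_sub_X_ne_zero F Fintype.one_lt_card
  have hsplit : (Polynomial.X ^ q - Polynomial.X : Polynomial F).Splits := by
    rw [Polynomial.splits_iff_card_roots, FiniteField.roots_X_pow_card_sub_X,
      FiniteField.X_pow_card_sub_X_natDegree_eq F Fintype.one_lt_card]
    simp
  have hdvd : minpoly F f ∣ (Polynomial.X ^ q - Polynomial.X : Polynomial F) := by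
    apply minpoly.dvd
    simp [hf]
  have hms : (minpoly F f).Splits := hsplit.of_dvd hne hdvd
  have hdeg : (minpoly F f).degree ≠ 0 := by
    have hint : IsIntegral F f := Algebra.IsIntegral.isIntegral f
    have := minpoly.degree_pos hint
    exact this.ne'
  obtain ⟨a, ha⟩ := hms.exists_eval_eq_zero hdeg
  have hev : f.HasEigenvalue a := Module.End.hasEigenvalue_of_isRoot ha
  obtain ⟨v, hv⟩ := hev.exists_hasEigenvector
  refine ⟨a, v, hv.2, ?_⟩
  have := hv.apply_eq_smul
  simpa [f, Matrix.toLin'_apply] using this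

end Cfsg.Agent.S2258P
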