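import Cfsg.Agent.Helper28.S2258Defs
import Cfsg.Agent.Helper18.Dickson45

/-! S2258 piece ORD3 (helper8): an element of `PSL₂(3^p)` of order dividing `q - 1`, not `1` or `2`,
lifts to a matrix `X` with `X ^ (q - 1) = 1`. -/

set_option autoImplicit false

namespace Cfsg.Agent.S2258P

open Cfsg.Agent.Helper18.Dickson

variable {F : Type*} [Field F] [Fintype F] {p : ℕ}

local notation "SF" => Matrix.SpecialLinearGroup (Fin 2) F
local notation "MF" => Matrix (Fin 2) (Fin 2) F
local notation "PF" => Matrix.ProjectiveSpecialLinearGroup (Fin 2) F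
local notation "π" => QuotientGroup.mk' (Subgroup.center SF)
local notation "q" => Fintype.card F

/-- ORD3 (M). -/
theorem exists_lift_pow (h : Hyp F p) (x : PF) (h1 : x ≠ 1) (h2 : orderOf x ≠ 2)
    (hd : orderOf x ∣ 3 ^ p - 1) : ∃ X : SF, π X = x ∧ X ^ (q - 1) = 1 := by
  have : Fact (Nat.Prime 3) := ⟨Nat.prime_three⟩
  have : CharP F 3 := h.charP
  have hq : q = 3 ^ p := h.card
  have hq8 := h.card_mod_eight
  -- `3` does not divide `q - 1`
  have h3 : ¬ 3 ∣ 3 ^ p - 1 := by
    intro hdvd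
    have hp1 : 1 ≤ p := h.prime.one_lt.le
    have h3p : 3 ∣ 3 ^ p := dvd_pow_self 3 (by omega)
    have h1le : 1 ≤ 3 ^ p := Nat.one_le_pow _ _ (by norm_num)
    have : 3 ∣ 3 ^ p - (3 ^ p - 1) := Nat.dvd_sub h3p hdvd
    have e : 3 ^ p - (3 ^ p - 1) = 1 := by omega
    rw [e] at this
    norm_num at this
  have hh : x ^ 3 = 1 → x = 1 := by
    intro hx3
    have ho : orderOf x ∣ 3 := orderOf_dvd_of_pow_eq_one hx3
    rcases (Nat.dvd_prime Nat.prime_three).mp ho with h' | h'
    · exact orderOf_eq_one_iff.mp h'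
    · exfalso
      rw [h'] at hd
      exact h3 hd
  have hcases := orderOf_dvd_of_pprime 3 (by norm_num) x hh
  have hm : orderOf x ∣ (q - 1) / 2 := by
    rcases hcases with hc | hc
    · exfalso
      -- `orderOf x ∣ q + 1` and `∣ q - 1`, so `∣ 2`
      have ha : orderOf x ∣ q + 1 := hc.trans (Nat.div_dvd_of_dvd (by omega))
      have hb : orderOf x ∣ q - 1 := by rw [hq]; exact hd
      have h2' : orderOf x ∣ (q + 1) - (q - 1) := Nat.dvd_sub ha hb
      have e : (q + 1) - (q - 1) = 2 := by omega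
      rw [e] at h2'
      rcases (Nat.dvd_prime Nat.prime_two).mp h2' with h' | h'
      · exact h1 (orderOf_eq_one_iff.mp h')
      · exact h2 h'
    · exact hc
  obtain ⟨X, rfl⟩ := QuotientGroup.mk'_surjective (Subgroup.center SF) x
  refine ⟨X, rfl, ?_⟩
  have hpow : (π X : PF) ^ ((q - 1) / 2) = 1 := orderOf_dvd_iff_pow_eq_one.mp hm
  rw [← map_pow, mk_eq_one_iff] at hpow
  have e : q - 1 = (q - 1) / 2 * 2 := by omega
  rw [e, pow_mul]
  rcases hpow with hp1 | hp1
  · rw [hp1, one_pow]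
  · rw [hp1]
    simp

end Cfsg.Agent.S2258P
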