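import Cfsg.Agent.Helper28.S2258Defs
import Cfsg.Agent.Helper18.Dickson45
import Cfsg.Agent.Helper8.S2258EIGQ
import Cfsg.Agent.Helper8.S2258DIAGNF
import Cfsg.Agent.Helper8.S2258ORD3

/-! S2258 piece NF3 (helper8): the normal form of the split semisimple elements of `PSL₂(3^p)`. -/

set_option autoImplicit false

namespace Cfsg.Agent.S2258P

open Cfsg.Agent.Helper18.Dickson

variable {F : Type*} [Field F] [Fintype F] {p : ℕ}

local notation "SF" => Matrix.SpecialLinearGroup (Fin 2) F
local notation "MF" => Matrix (Fin 2) (Fin 2) F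
local notation "PF" => Matrix.ProjectiveSpecialLinearGroup (Fin 2) F
local notation "π" => QuotientGroup.mk' (Subgroup.center SF)
local notation "q" => Fintype.card F

namespace NF3

omit [Fintype F] in
/-- the characteristic equation at an eigenvalue -/
theorem char_eq (X : SF) (a : F) (v : Fin 2 → F) (hv : v ≠ 0)
    (hXv : (X : MF).mulVec v = a • v) :
    a ^ 2 - ((X : MF) 0 0 + (X : MF) 1 1) * a + 1 = 0 := by
  have hdet : (X : MF) 0 0 * (X : MF) 1 1 - (X : MF) 0 1 * (X : MF) 1 0 = 1 := det_eq X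
  have E1 : (X : MF) 0 0 * v 0 + (X : MF) 0 1 * v 1 = a * v 0 := by
    have := congrFun hXv 0
    simpa [Matrix.mulVec, dotProduct, Fin.sum_univ_two] using this
  have E2 : (X : MF) 1 0 * v 0 + (X : MF) 1 1 * v 1 = a * v 1 := by
    have := congrFun hXv 1
    simpa [Matrix.mulVec, dotProduct, Fin.sum_univ_two] using this
  have h0 : (a ^ 2 - ((X : MF) 0 0 + (X : MF) 1 1) * a + 1) * v 0 = 0 := by
    linear_combination ((X : MF) 1 1 - a) * E1 - (X : MF) 0 1 * E2 - v 0 * hdet
  have h1 : (a ^ 2 - ((X : MF) 0 0 + (X : MF) 1 1) * a + 1) * v 1 = 0 := by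
    linear_combination ((X : MF) 0 0 - a) * E2 - (X : MF) 1 0 * E1 - v 1 * hdet
  by_contra hne
  apply hv
  funext i
  fin_cases i
  · exact (mul_eq_zero.mp h0).resolve_left hne
  · exact (mul_eq_zero.mp h1).resolve_left hne

end NF3

/-- NF3 (M; ORD3 + EIGQ + DIAGNF). -/
theorem nf_split (h : Hyp F p) (x : PF) (h1 : x ≠ 1) (h2 : orderOf x ≠ 2)
    (hd : orderOf x ∣ 3 ^ p - 1) :
    ∃ (g : PF) (t : F) (ht : t ≠ 0), t ^ 4 ≠ 1 ∧ g * x * g⁻¹ = π (dM t ht) := by
  have h3 : (3 : F) = 0 := h.three_eq_zero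
  obtain ⟨X, rfl, hXq⟩ := exists_lift_pow h x h1 h2 hd
  obtain ⟨a, v, hv, hXv⟩ := exists_eigen_of_pow X hXq
  have hchar := NF3.char_eq X a v hv hXv
  -- `a ^ 2 ≠ 1`
  have ha : a ^ 2 ≠ 1 := by
    intro ha2
    -- the trace is `2a = -a`, its square is `1`, so `X ^ 3 = ±1`
    have hτ : (X : MF) 0 0 + (X : MF) 1 1 = -a := by
      have ha0 : a ≠ 0 := by
        rintro rfl
        simp at ha2
      have e : a * ((X : MF) 0 0 + (X : MF) 1 1) = a * (-a) := by
        linear_combination (-1 : F) * hchar + (2 : F) * ha2 + h3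
      exact mul_left_cancel₀ ha0 e
    have hX3 : (X : MF) ^ 3 = a • (1 : MF) := by
      rw [ch_pow3 (X : MF) _ (ch_sq X), hτ]
      have e1 : (-a) ^ 2 - 1 = 0 := by linear_combination ha2
      rw [e1, zero_smul, zero_sub, neg_smul, neg_neg]
    have hx3 : (π X : PF) ^ 3 = 1 := by
      rw [← map_pow, mk_eq_one_iff]
      have hcases : a = 1 ∨ a = -1 := by
        have : (a - 1) * (a + 1) = 0 := by linear_combination ha2
        rcases mul_eq_zero.mp this with h' | h'
        · left; exact sub_eq_zero.mp h'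
        · right; exact eq_neg_of_add_eq_zero_left h'
      rcases hcases with rfl | rfl
      · left
        apply eq_of_coe_pow
        rw [hX3, one_smul]
      · right
        apply eq_neg_of_coe_pow
        rw [hX3]
        simp
    have ho : orderOf (π X : PF) ∣ 3 := orderOf_dvd_of_pow_eq_one hx3
    rcases (Nat.dvd_prime Nat.prime_three).mp ho with h' | h'
    · exact h1 (orderOf_eq_one_iff.mp h')
    · rw [h'] at hd
      have hp1 : 1 ≤ p := h.prime.one_lt.le
      have h3p : 3 ∣ 3 ^ p := dvd_pow_self 3 (by omega)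
      have h1le : 1 ≤ 3 ^ p := Nat.one_le_pow _ _ (by norm_num)
      have : 3 ∣ 3 ^ p - (3 ^ p - 1) := Nat.dvd_sub h3p hd
      have e : 3 ^ p - (3 ^ p - 1) = 1 := by omega
      rw [e] at this
      norm_num at this
  obtain ⟨g, ha0, hg⟩ := exists_conj_dM X a v hv hXv ha
  refine ⟨π g, a, ha0, ?_, ?_⟩
  · intro h4
    have : (a ^ 2 - 1) * (a ^ 2 + 1) = 0 := by linear_combination h4
    rcases mul_eq_zero.mp this with h' | h'
    · exact ha (sub_eq_zero.mp h')
    · apply h.not_isSquare_neg_one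
      exact ⟨a, by linear_combination (-1 : F) * h'⟩
  · rw [← map_inv, ← map_mul, ← map_mul, hg]

end Cfsg.Agent.S2258P
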