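import Mathlib
import Cfsg.Prelude.Def_Classical
import Cfsg.Agent.Helper28.S2512Defs
import Cfsg.Agent.Helper1.S2511CT2

/-! S2512 piece GOODINV (driver helper28): a `recip`-stable coprime factorization of the minimal polynomial of
`A ∈ Sp_2n(F)` gives self-adjoint idempotents `P + Q = 1`, and `t = Q - P` is a non-central involution of
`Sp_2n(F)` commuting with `A`. -/

set_option autoImplicit false

universe u

namespace Cfsg.Agent.S2512P

open Polynomial Matrix
open Cfsg.Agent.S2264P

namespace GOODINV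

variable {F : Type*} [Field F] {n : ℕ}

/-- the adjoint for the standard symplectic form -/
def adj (Y : Matrix (Fin n ⊕ Fin n) (Fin n ⊕ Fin n) F) : Matrix (Fin n ⊕ Fin n) (Fin n ⊕ Fin n) F :=
  -(Matrix.J (Fin n) F) * Yᵀ * Matrix.J (Fin n) F

theorem adj_mul (Y Z : Matrix (Fin n ⊕ Fin n) (Fin n ⊕ Fin n) F) : adj (Y * Z) = adj Z * adj Y := by
  unfold adj
  have hJ : Matrix.J (Fin n) F * Matrix.J (Fin n) F = -1 := Matrix.J_squared (Fin n) F
  calc -(Matrix.J (Fin n) F) * (Y * Z)ᵀ * Matrix.J (Fin n) F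
      = -(Matrix.J (Fin n) F * Zᵀ * Yᵀ * Matrix.J (Fin n) F) := by
        rw [Matrix.transpose_mul]
        simp only [Matrix.neg_mul, Matrix.mul_assoc]
    _ = Matrix.J (Fin n) F * Zᵀ * (Matrix.J (Fin n) F * Matrix.J (Fin n) F) * Yᵀ *
          Matrix.J (Fin n) F := by
        rw [hJ]
        simp only [Matrix.mul_neg, Matrix.neg_mul, Matrix.mul_one]
    _ = -(Matrix.J (Fin n) F) * Zᵀ * Matrix.J (Fin n) F *
          (-(Matrix.J (Fin n) F) * Yᵀ * Matrix.J (Fin n) F) := by
        simp only [Matrix.neg_mul, Matrix.mul_neg, neg_neg, Matrix.mul_assoc]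

theorem adj_add (Y Z : Matrix (Fin n ⊕ Fin n) (Fin n ⊕ Fin n) F) : adj (Y + Z) = adj Y + adj Z := by
  unfold adj
  rw [Matrix.transpose_add, Matrix.mul_add, Matrix.add_mul]

theorem adj_smul (c : F) (Y : Matrix (Fin n ⊕ Fin n) (Fin n ⊕ Fin n) F) :
    adj (c • Y) = c • adj Y := by
  unfold adj
  rw [Matrix.transpose_smul, Matrix.mul_smul, Matrix.smul_mul]

theorem adj_one : adj (1 : Matrix (Fin n ⊕ Fin n) (Fin n ⊕ Fin n) F) = 1 := by
  unfold adj
  rw [Matrix.transpose_one, Matrix.mul_one, Matrix.neg_mul, Matrix.J_squared, neg_neg]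

theorem adj_pow (Y : Matrix (Fin n ⊕ Fin n) (Fin n ⊕ Fin n) F) (k : ℕ) :
    adj (Y ^ k) = adj Y ^ k := by
  induction k with
  | zero => rw [pow_zero, pow_zero, adj_one]
  | succ k ih => rw [pow_succ, adj_mul, ih, pow_succ']

theorem adj_aeval (M : Matrix (Fin n ⊕ Fin n) (Fin n ⊕ Fin n) F) (φ : F[X]) :
    adj (aeval M φ) = aeval (adj M) φ := by
  induction φ using Polynomial.induction_on' with
  | add p q hp hq => rw [map_add, adj_add, hp, hq, map_add]
  | monomial k a =>
    rw [aeval_monomial, aeval_monomial, Algebra.algebraMap_eq_smul_one, smul_mul_assoc, one_mul,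
      smul_mul_assoc, one_mul, adj_smul, adj_pow]

theorem commute_aeval_of_commute {ι : Type*} [Fintype ι] [DecidableEq ι] (A B : Matrix ι ι F)
    (hAB : Commute A B) (r : F[X]) : Commute (aeval A r) B := by
  induction r using Polynomial.induction_on' with
  | add p q hp hq =>
    rw [map_add]
    exact hp.add_left hq
  | monomial k c =>
    rw [← C_mul_X_pow_eq_monomial, map_mul, map_pow, aeval_X, aeval_C]
    apply Commute.mul_left
    · exact Algebra.commute_algebraMap_left c B
    · exact hAB.pow_left k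

/-- `recip h = h` gives `h(M⁻¹) = h(0) • h(M) M^(-deg h)` -/
theorem aeval_inv_recip {ι : Type*} [Fintype ι] [DecidableEq ι] (M N : Matrix ι ι F)
    (hMN : M * N = 1) (hNM : N * M = 1) (h : F[X]) (hrh : recip h = h) :
    aeval N h = h.coeff 0 • (aeval M h * N ^ h.natDegree) := by
  by_cases h0 : h.coeff 0 = 0
  · have hh : h = 0 := by
      rw [← hrh]
      unfold recip
      rw [h0, _root_.inv_zero, map_zero, zero_mul]
    rw [hh]
    simp
  · have hrev : h.reverse = C (h.coeff 0) * h := by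
      have h1 : C (h.coeff 0)⁻¹ * h.reverse = h := hrh
      calc h.reverse = C (h.coeff 0) * (C (h.coeff 0)⁻¹ * h.reverse) := by
            rw [← mul_assoc, ← C_mul, mul_inv_cancel₀ h0, C_1, one_mul]
        _ = C (h.coeff 0) * h := by rw [h1]
    have key := Cfsg.Agent.S2511P.CT2.aeval_inv_mul_pow M N hMN hNM h
    rw [hrev, map_mul, aeval_C, Algebra.algebraMap_eq_smul_one, smul_mul_assoc, one_mul] at key
    have hcomm : Commute M N := by
      show M * N = N * M
      rw [hMN, hNM]
    have hpow : M ^ h.natDegree * N ^ h.natDegree = 1 := by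
      rw [← hcomm.mul_pow, hMN, one_pow]
    calc aeval N h = aeval N h * (M ^ h.natDegree * N ^ h.natDegree) := by rw [hpow, mul_one]
      _ = (aeval N h * M ^ h.natDegree) * N ^ h.natDegree := by rw [mul_assoc]
      _ = h.coeff 0 • (aeval M h * N ^ h.natDegree) := by rw [key, smul_mul_assoc]

/-- the key vanishing: `adj ((b h)(M)) * (a g)(M) = 0` -/
theorem adj_mul_eq_zero (M N : Matrix (Fin n ⊕ Fin n) (Fin n ⊕ Fin n) F) (hadj : adj M = N)
    (hMN : M * N = 1) (hNM : N * M = 1) (g h a b : F[X]) (hμ : minpoly F M = g * h)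
    (hrh : recip h = h) : adj (aeval M (b * h)) * aeval M (a * g) = 0 := by
  have hcMN : Commute M N := by
    show M * N = N * M
    rw [hMN, hNM]
  rw [adj_aeval, hadj, map_mul, aeval_inv_recip M N hMN hNM h hrh]
  have hQc : Commute (aeval M (a * g)) (N ^ h.natDegree) :=
    (commute_aeval_of_commute M N hcMN (a * g)).pow_right _
  have hz : aeval M h * aeval M (a * g) = 0 := by
    rw [← map_mul]
    have : h * (a * g) = a * (g * h) := by ring
    rw [this, ← hμ, map_mul, minpoly.aeval, mul_zero]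
  rw [Matrix.mul_assoc, Matrix.smul_mul, Matrix.mul_assoc (aeval M h), ← hQc.eq,
    ← Matrix.mul_assoc (aeval M h), hz, Matrix.zero_mul, smul_zero, Matrix.mul_zero]

end GOODINV

open GOODINV

/-- GOODINV -/
theorem exists_invol_of_split {F : Type*} [Field F] {n : ℕ} (h2 : (2 : F) ≠ 0)
    (A : Matrix.symplecticGroup (Fin n) F) (g h : F[X]) (hg : ¬ IsUnit g) (hh : ¬ IsUnit h)
    (hgh : IsCoprime g h) (hμ : minpoly F (mat A) = g * h) (hrg : recip g = g) (hrh : recip h = h) :
    ∃ t : Matrix.symplecticGroup (Fin n) F, Commute t A ∧ t ^ 2 = 1 ∧ mat t ≠ 1 ∧ mat t ≠ -1 := by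
  set M : Matrix (Fin n ⊕ Fin n) (Fin n ⊕ Fin n) F := mat A with hM
  set N : Matrix (Fin n ⊕ Fin n) (Fin n ⊕ Fin n) F := mat A⁻¹ with hN
  have hadj : adj M = N := (SymplecticGroup.coe_inv A).symm
  have hMN : M * N = 1 := by
    have := congrArg Subtype.val (mul_inv_cancel A)
    exact this
  have hNM : N * M = 1 := by
    have := congrArg Subtype.val (inv_mul_cancel A)
    exact this
  obtain ⟨a, b, hab⟩ := hgh
  have hint : IsIntegral F M := Matrix.isIntegral M
  have hμ0 : minpoly F M ≠ 0 := minpoly.ne_zero hint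
  have hg0 : g ≠ 0 := by
    rintro rfl
    rw [zero_mul] at hμ
    exact hμ0 hμ
  have hh0 : h ≠ 0 := by
    rintro rfl
    rw [mul_zero] at hμ
    exact hμ0 hμ
  have hcomm : ∀ r : F[X], Commute (aeval M r) M := fun r =>
    commute_aeval_of_commute M M (Commute.refl M) r
  have hzero : aeval M (b * h) * aeval M (a * g) = 0 := by
    rw [← map_mul]
    have : b * h * (a * g) = (a * b) * (g * h) := by ring
    rw [this, ← hμ, map_mul, minpoly.aeval, mul_zero]
  obtain ⟨P, hP⟩ : ∃ P, P = aeval M (b * h) := ⟨_, rfl⟩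
  obtain ⟨Q, hQ⟩ : ∃ Q, Q = aeval M (a * g) := ⟨_, rfl⟩
  have hsum : P + Q = 1 := by
    rw [hP, hQ, ← map_add, add_comm, hab, map_one]
  have hPQ : P * Q = 0 := by rw [hP, hQ]; exact hzero
  have hQP : Q * P = 0 := by
    rw [hP, hQ, ← map_mul, mul_comm, map_mul]
    exact hzero
  have hPP : P * P = P := by
    calc P * P = P * P + P * Q := by rw [hPQ, add_zero]
      _ = P * (P + Q) := by rw [Matrix.mul_add]
      _ = P := by rw [hsum, Matrix.mul_one]
  have hQQ : Q * Q = Q := by
    calc Q * Q = Q * P + Q * Q := by rw [hQP, zero_add]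
      _ = Q * (P + Q) := by rw [Matrix.mul_add]
      _ = Q := by rw [hsum, Matrix.mul_one]
  -- adjoints
  have h1 : adj P * Q = 0 := by
    rw [hP, hQ]
    exact adj_mul_eq_zero M N hadj hMN hNM g h a b hμ hrh
  have h2' : adj Q * P = 0 := by
    rw [hP, hQ]
    have hμ' : minpoly F M = h * g := by rw [hμ, mul_comm]
    exact adj_mul_eq_zero M N hadj hMN hNM h g b a hμ' hrg
  have hsum' : adj P + adj Q = 1 := by
    rw [← adj_add, hsum, adj_one]
  have hPs : adj P = P := by
    have e1 : adj P = adj P * P := by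
      calc adj P = adj P * (P + Q) := by rw [hsum, Matrix.mul_one]
        _ = adj P * P := by rw [Matrix.mul_add, h1, add_zero]
    have e2 : P = adj P * P := by
      calc P = (adj P + adj Q) * P := by rw [hsum', Matrix.one_mul]
        _ = adj P * P := by rw [Matrix.add_mul, h2', add_zero]
    rw [e1, ← e2]
  have hQs : adj Q = Q := by
    have e1 : adj Q = adj Q * Q := by
      calc adj Q = adj Q * (P + Q) := by rw [hsum, Matrix.mul_one]
        _ = adj Q * Q := by rw [Matrix.mul_add, h2', zero_add]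
    have e2 : Q = adj Q * Q := by
      calc Q = (adj P + adj Q) * Q := by rw [hsum', Matrix.one_mul]
        _ = adj Q * Q := by rw [Matrix.add_mul, h1, zero_add]
    rw [e1, ← e2]
  have hP0 : P ≠ 0 := by
    intro h0
    rw [hP] at h0
    have hdvd : g * h ∣ b * h := by
      rw [← hμ]
      exact minpoly.dvd F M h0
    have hgb : g ∣ b := (mul_dvd_mul_iff_right hh0).1 hdvd
    apply hg
    apply isUnit_of_dvd_one
    rw [← hab]
    exact dvd_add (Dvd.intro_left a rfl) (Dvd.dvd.mul_right hgb h)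
  have hQ0 : Q ≠ 0 := by
    intro h0
    rw [hQ] at h0
    have hdvd : g * h ∣ a * g := by
      rw [← hμ]
      exact minpoly.dvd F M h0
    have hha : h ∣ a := by
      rw [mul_comm g h] at hdvd
      exact (mul_dvd_mul_iff_right hg0).1 hdvd
    apply hh
    apply isUnit_of_dvd_one
    rw [← hab]
    exact dvd_add (Dvd.dvd.mul_right hha g) (Dvd.intro_left b rfl)
  -- the involution
  set t : Matrix (Fin n ⊕ Fin n) (Fin n ⊕ Fin n) F := Q - P with ht
  have htt : t * t = 1 := by
    rw [ht, Matrix.sub_mul, Matrix.mul_sub, Matrix.mul_sub, hQQ, hPP, hQP, hPQ, sub_zero, zero_sub,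
      sub_neg_eq_add, add_comm, hsum]
  have hadjt : adj t = t := by
    have : t = Q + (-1 : F) • P := by rw [ht, neg_one_smul, sub_eq_add_neg]
    rw [this, adj_add, adj_smul, hQs, hPs]
  have htmem : t ∈ Matrix.symplecticGroup (Fin n) F := by
    rw [SymplecticGroup.mem_iff']
    have e : adj t * t = 1 := by rw [hadjt, htt]
    unfold adj at e
    have hJ : Matrix.J (Fin n) F * Matrix.J (Fin n) F = -1 := Matrix.J_squared (Fin n) F
    calc tᵀ * Matrix.J (Fin n) F * t
        = -(Matrix.J (Fin n) F * Matrix.J (Fin n) F) * (tᵀ * Matrix.J (Fin n) F * t) := by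
          rw [hJ, neg_neg, Matrix.one_mul]
      _ = Matrix.J (Fin n) F * (-(Matrix.J (Fin n) F) * tᵀ * Matrix.J (Fin n) F * t) := by
          simp only [Matrix.neg_mul, Matrix.mul_neg, Matrix.mul_assoc]
      _ = Matrix.J (Fin n) F := by rw [e, Matrix.mul_one]
  have htM : t * M = M * t := by
    rw [ht, Matrix.sub_mul, Matrix.mul_sub, hQ, hP, (hcomm _).eq, (hcomm _).eq]
  refine ⟨⟨t, htmem⟩, ?_, ?_, ?_, ?_⟩
  · apply Subtype.ext
    exact htM
  · apply Subtype.ext
    rw [pow_two]
    exact htt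
  · intro h1'
    have h1'' : Q - P = 1 := h1'
    apply hP0
    have h3 : (2 : F) • P = 0 := by
      have : (2 : F) • P = (P + Q) - (Q - P) := by rw [two_smul]; abel
      rw [this, hsum, h1'', sub_self]
    rcases smul_eq_zero.mp h3 with h | h
    · exact absurd h h2
    · exact h
  · intro h1'
    have h1'' : Q - P = -1 := h1'
    apply hQ0
    have h3 : (2 : F) • Q = 0 := by
      have : (2 : F) • Q = (P + Q) + (Q - P) := by rw [two_smul]; abel
      rw [this, hsum, h1'', add_neg_cancel]
    rcases smul_eq_zero.mp h3 with h | h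
    · exact absurd h h2
    · exact h

end Cfsg.Agent.S2512P
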