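import Mathlib
import Cfsg.Prelude.Def_Classical
import Cfsg.Agent.Helper28.S2512Defs
import Cfsg.Agent.Helper18.S2512GENORD
import Cfsg.Agent.Helper18.S2512ZETA
import Cfsg.Agent.Helper15.S2512BPFORM

/-! S2512 piece TORPBLOCK (driver helper28): the nonsplit torus block: a symplectic space of dimension `2d`
with an isometry of any order `M ∣ q ^ d + 1`. -/

set_option autoImplicit false

universe u

namespace Cfsg.Agent.S2512P

open Polynomial Matrix
open Cfsg.Agent.S2264P

namespace TORPBLOCK

/-- powers of a left multiplication -/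
theorem mulLeft_pow_apply {F K : Type*} [Field F] [Field K] [Algebra F K] (s : K) (j : ℕ) (x : K) :
    ((LinearMap.mulLeft F s) ^ j) x = s ^ j * x := by
  induction j generalizing x with
  | zero => simp
  | succ j ih => rw [pow_succ, Module.End.mul_apply, ih, LinearMap.mulLeft_apply, pow_succ, mul_assoc]

theorem mulLeft_pow_eq_one_iff {F K : Type*} [Field F] [Field K] [Algebra F K] (s : K) (j : ℕ) :
    (LinearMap.mulLeft F s) ^ j = 1 ↔ s ^ j = 1 := by
  constructor
  · intro h
    have := congrArg (fun T : Module.End F K => T 1) h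
    simpa [mulLeft_pow_apply] using this
  · intro h
    apply LinearMap.ext
    intro x
    rw [mulLeft_pow_apply, h, one_mul, Module.End.one_apply]

theorem mulLeft_pow_eq_neg_one_iff {F K : Type*} [Field F] [Field K] [Algebra F K] (s : K) (j : ℕ) :
    (LinearMap.mulLeft F s) ^ j = -1 ↔ s ^ j = -1 := by
  constructor
  · intro h
    have := congrArg (fun T : Module.End F K => T 1) h
    simpa [mulLeft_pow_apply] using this
  · intro h
    apply LinearMap.ext
    intro x
    rw [mulLeft_pow_apply, h, neg_one_mul, LinearMap.neg_apply, Module.End.one_apply]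

/-- the block over a given extension `K` of degree `2d` -/
theorem core {F K : Type*} [Field F] [Fintype F] [Field K] [Fintype K] [Algebra F K]
    (h2 : (2 : F) ≠ 0) (hodd : Odd (Fintype.card F)) (d M : ℕ)
    (hd : Module.finrank F K = 2 * d) (hM : M ∣ Fintype.card F ^ d + 1) :
    ∃ (B : K → K → F) (X : Module.End F K), IsSymp B ∧ (∀ u v, B (X u) (X v) = B u v) ∧
      (∀ j : ℕ, X ^ j = 1 ↔ M ∣ j) ∧ (∀ j : ℕ, X ^ j = -1 ↔ (M ∣ 2 * j ∧ ¬ M ∣ j)) := by
  set Q : ℕ := Fintype.card F ^ d with hQ
  have hQodd : Odd Q := hodd.pow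
  have hcard : Fintype.card K = Q ^ 2 := by
    rw [Module.card_eq_pow_finrank (K := F) (V := K), hd, hQ, ← pow_mul, mul_comm]
  have h2K : (2 : K) ≠ 0 := by
    intro h
    apply h2
    have : algebraMap F K 2 = 0 := by rw [map_ofNat]; exact h
    exact (map_eq_zero (algebraMap F K)).mp this
  obtain ⟨ζ, hζ0, hζ⟩ := exists_zeta (K := K) Q hcard hQodd
  have hB : IsSymp (Bp F K Q ζ) := isSymp_Bp d Q hQ hd ζ hζ0 hζ
  have hQpos : 1 ≤ Q := Nat.one_le_iff_ne_zero.mpr (fun h => by rw [h] at hQodd; exact absurd hQodd (by decide))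
  have hM' : M ∣ Fintype.card K - 1 := by
    rw [hcard]
    have : Q ^ 2 - 1 = (Q + 1) * (Q - 1) := by
      obtain ⟨k, hk⟩ : ∃ k, Q = k + 1 := ⟨Q - 1, by omega⟩
      rw [hk, Nat.add_sub_cancel]
      apply Nat.sub_eq_of_eq_add
      ring
    rw [this]
    exact Dvd.dvd.mul_right hM _
  obtain ⟨s, hs0, hs1, hs2⟩ := exists_pow_eq_one_iff (K := K) h2K M hM'
  have hsQ : s ^ (Q + 1) = 1 := (hs1 _).mpr hM
  refine ⟨Bp F K Q ζ, LinearMap.mulLeft F s, hB, ?_, ?_, ?_⟩
  · intro u v
    rw [Bp_apply, Bp_apply, LinearMap.mulLeft_apply, LinearMap.mulLeft_apply]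
    congr 1
    have : ζ * (s * u) * (s * v) ^ Q = s ^ (Q + 1) * (ζ * u * v ^ Q) := by
      rw [mul_pow, pow_succ]
      ring
    rw [this, hsQ, one_mul]
  · intro j
    rw [mulLeft_pow_eq_one_iff, hs1]
  · intro j
    rw [mulLeft_pow_eq_neg_one_iff, hs2]

/-- transport along a linear equivalence -/
theorem transport {F : Type*} [Field F] {V W : Type*} [AddCommGroup V] [Module F V]
    [AddCommGroup W] [Module F W] (e : V ≃ₗ[F] W) (B : W → W → F) (X : Module.End F W)
    (hB : IsSymp B) (hX : ∀ u v, B (X u) (X v) = B u v) :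
    ∃ (B' : V → V → F) (X' : Module.End F V), IsSymp B' ∧ (∀ u v, B' (X' u) (X' v) = B' u v) ∧
      (∀ j : ℕ, X' ^ j = 1 ↔ X ^ j = 1) ∧ (∀ j : ℕ, X' ^ j = -1 ↔ X ^ j = -1) := by
  set X' : Module.End F V := e.symm.toLinearMap ∘ₗ X ∘ₗ e.toLinearMap with hX'
  have happ : ∀ v, e (X' v) = X (e v) := by
    intro v
    simp [hX']
  have hpow : ∀ (j : ℕ) (v : V), e ((X' ^ j) v) = (X ^ j) (e v) := by
    intro j
    induction j with
    | zero => intro v; simp
    | succ j ih =>
      intro v
      rw [pow_succ, Module.End.mul_apply, ih, happ, pow_succ, Module.End.mul_apply]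
  refine ⟨fun u v => B (e u) (e v), X', ⟨?_, ?_, ?_, ?_⟩, ?_, ?_, ?_⟩
  · intro u u' v
    show B (e (u + u')) (e v) = _
    rw [map_add, hB.add_left]
  · intro c u v
    show B (e (c • u)) (e v) = _
    rw [map_smul, hB.smul_left]
  · intro u v
    exact hB.skew _ _
  · intro u hu
    have : e u = 0 := by
      apply hB.nondeg
      intro w
      have := hu (e.symm w)
      simpa using this
    exact e.map_eq_zero_iff.mp this
  · intro u v
    show B (e (X' u)) (e (X' v)) = B (e u) (e v)
    rw [happ, happ, hX]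
  · intro j
    constructor
    · intro h
      apply LinearMap.ext
      intro w
      have := hpow j (e.symm w)
      rw [h] at this
      simpa using this.symm
    · intro h
      apply LinearMap.ext
      intro v
      apply e.injective
      rw [hpow, h]
      simp
  · intro j
    constructor
    · intro h
      apply LinearMap.ext
      intro w
      have := hpow j (e.symm w)
      rw [h] at this
      simpa using this.symm
    · intro h
      apply LinearMap.ext
      intro v
      apply e.injective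
      rw [hpow, h]
      simp

end TORPBLOCK

open TORPBLOCK

/-- TORPBLOCK -/
theorem exists_block_plus {F : Type u} [Field F] [Fintype F] {p : ℕ} [Fact p.Prime] [CharP F p]
    {f q : ℕ} (hp2 : p ≠ 2) (hq : q = p ^ f) (hF : Fintype.card F = q) (d M : ℕ) (hd : 1 ≤ d)
    (hM : M ∣ q ^ d + 1) :
    ∃ (V : Type u) (_ : AddCommGroup V) (_ : Module F V) (_ : FiniteDimensional F V)
      (B : V → V → F) (X : Module.End F V), IsSymp B ∧ Module.finrank F V = 2 * d ∧
      (∀ u v, B (X u) (X v) = B u v) ∧ (∀ j : ℕ, X ^ j = 1 ↔ M ∣ j) ∧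
      (∀ j : ℕ, X ^ j = -1 ↔ (M ∣ 2 * j ∧ ¬ M ∣ j)) := by
  classical
  have : NeZero (2 * d) := ⟨by omega⟩
  set K := FiniteField.Extension F p (2 * d) with hK
  let _ : Fintype K := Fintype.ofFinite K
  have hp : p.Prime := Fact.out
  have hpodd : Odd p := hp.odd_of_ne_two hp2
  have hodd : Odd (Fintype.card F) := by rw [hF, hq]; exact hpodd.pow
  have h2 : (2 : F) ≠ 0 := by
    intro h
    have h1 : ((2 : ℕ) : F) = 0 := by exact_mod_cast h
    rw [CharP.cast_eq_zero_iff F p 2] at h1
    exact hp2 ((Nat.prime_dvd_prime_iff_eq hp Nat.prime_two).mp h1)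
  have hfr : Module.finrank F K = 2 * d := FiniteField.finrank_extension F p (2 * d)
  obtain ⟨B, X, hB, hX, h1, h2'⟩ := core (F := F) (K := K) h2 hodd d M hfr (by rw [hF]; exact hM)
  obtain ⟨B', X', hB', hX', e1, e2⟩ :=
    transport (ULift.moduleEquiv (R := F) (M := K)) B X hB hX
  refine ⟨ULift.{u} K, inferInstance, inferInstance, inferInstance, B', X', hB', ?_, hX', ?_, ?_⟩
  · rw [(ULift.moduleEquiv (R := F) (M := K)).finrank_eq, hfr]
  · intro j
    rw [e1, h1]
  · intro j
    rw [e2, h2']

end Cfsg.Agent.S2512P
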