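import Mathlib
import Cfsg.Agent.Helper28.S5658.Defs
import Cfsg.Agent.Helper28.S5658.Lib
import Cfsg.Agent.Helper5.S5658RATSPAN

/-! S5658 piece QRAT (driver helper28): the unipotent radical of a rational point meets `M` in rational elements
modulo its centre. -/

set_option autoImplicit false
set_option linter.unusedVariables false

namespace Cfsg.Agent.S5658P

open Matrix
open Cfsg.Agent.S2644 Cfsg.Agent.Helper2.SUGen Cfsg.Agent.Helper28.SimMax Cfsg.Agent.S5639P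

variable {K : Type*} [Field K] {q n : ℕ}

local notation "h" => Cfsg.hermForm n K q
local notation "T" => Cfsg.unitaryTransvection n q

namespace QRAT

/-- the commutator of `Sg b w c ∈ M` with the rational short root element `S b x θ` -/
theorem delta_mem (D : Frob K q) (F₀ : Subfield K)
    (M : Subgroup (Matrix.GeneralLinearGroup (Fin n) K)) (hRat : HasRatSU q F₀ M)
    (hT : RootRatT D F₀ M) {b w : Fin n → K} {c : K} (hb : Rat F₀ b) (hb0 : b ≠ 0)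
    (hbb : h b b = 0) (hwb : h w b = 0) (hmem : Sg (q := q) b w c ∈ MS M)
    {x : Fin n → K} (hx : Rat F₀ x) (hxx : h x x = 0) (hxb : h x b = 0) {θ : K} (hθ : θ ∈ F₀) :
    D.σ θ * h w x - θ * D.σ (h w x) ∈ F₀ := by
  have hS : S q b x θ ∈ MS M := S_mem_of_hasRatSU D hRat hb hx hbb hxx hxb hθ
  have h2 : h (θ • x) b = 0 := by rw [h_smul_left, hxb, mul_zero]
  have hcomm := Sg_comm D hbb hwb h2 c 0
  have hL : Sg (q := q) b w c * Sg (q := q) b (θ • x) 0 ∈ MS M := MS_mul hmem hS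
  have hR : Sg (q := q) b (θ • x) 0 * Sg (q := q) b w c ∈ MS M := MS_mul hS hmem
  rw [hcomm] at hL
  have hTm : T b (h w (θ • x) - h (θ • x) w) ∈ MS M := MS_of_mul_left hR hL
  have e : h w (θ • x) - h (θ • x) w = D.σ θ * h w x - θ * D.σ (h w x) := by
    rw [h_smul_right D, h_smul_left, h_conj D]
  rw [e] at hTm
  refine hT b _ hb hb0 hbb ?_ hTm
  rw [map_sub, map_mul, map_mul, D.invol, D.invol]
  ring

end QRAT

/-- QRAT -/
theorem QRAT.rat_of_mem [Finite K] (hn : 13 ≤ n) (D : Frob K q) (F₀ : Subfield K)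
    (hθ : ∃ θ ∈ F₀, D.σ θ ≠ θ) (M : Subgroup (Matrix.GeneralLinearGroup (Fin n) K))
    (hMG : M ≤ Cfsg.GU n K q ⊓ Cfsg.Geo.specialLinear (Fin n) K) (hRat : HasRatSU q F₀ M)
    (hT : RootRatT D F₀ M) {b w : Fin n → K} {c : K} (hb : Rat F₀ b) (hb0 : b ≠ 0)
    (hbb : h b b = 0) (hwb : h w b = 0) (hc : c + D.σ c + h w w = 0)
    (hmem : Sg (q := q) b w c ∈ MS M) :
    ∃ (w₀ : Fin n → K) (s : K), Rat F₀ w₀ ∧ w = w₀ + s • b := by
  apply RATSPAN.exists_rat_add hn D F₀ hθ hb hb0 hbb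
  intro x hx hxx hxb
  obtain ⟨θ₀, hθ₀, hne⟩ := hθ
  have h1 := QRAT.delta_mem D F₀ M hRat hT hb hb0 hbb hwb hmem hx hxx hxb F₀.one_mem
  have h2 := QRAT.delta_mem D F₀ M hRat hT hb hb0 hbb hwb hmem hx hxx hxb hθ₀
  rw [map_one, one_mul, one_mul] at h1
  -- `(σ θ₀ - θ₀) * ξ ∈ F₀`
  have h3 : (D.σ θ₀ - θ₀) * h w x ∈ F₀ := by
    have : (D.σ θ₀ - θ₀) * h w x =
        (D.σ θ₀ * h w x - θ₀ * D.σ (h w x)) - θ₀ * (h w x - D.σ (h w x)) := by ring
    rw [this]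
    exact sub_mem h2 (mul_mem hθ₀ h1)
  have hd : D.σ θ₀ - θ₀ ∈ F₀ := sub_mem (sigma_mem D F₀ hθ₀) hθ₀
  have hd0 : D.σ θ₀ - θ₀ ≠ 0 := sub_ne_zero.mpr hne
  have : h w x = (D.σ θ₀ - θ₀)⁻¹ * ((D.σ θ₀ - θ₀) * h w x) := by
    rw [← mul_assoc, inv_mul_cancel₀ hd0, one_mul]
  rw [this]
  exact mul_mem (inv_mem hd) h3

end Cfsg.Agent.S5658P
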