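import Mathlib
import Cfsg.Agent.Helper28.S5658.Defs
import Cfsg.Agent.Helper28.S5658.Lib
import Cfsg.Agent.Helper8.S5658QRAT
import Cfsg.Agent.Helper5.S5658RATSPAN
import Cfsg.Agent.Helper22.S5658HYPB

/-! S5658 piece LOWRANK (driver helper28): a root point of `M` orthogonal to a rational isotropic point is
rational. -/

set_option autoImplicit false
set_option linter.unusedVariables false

namespace Cfsg.Agent.S5658P

open Matrix
open Cfsg.Agent.S2644 Cfsg.Agent.Helper2.SUGen Cfsg.Agent.Helper28.SimMax Cfsg.Agent.S5639P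

variable {K : Type*} [Field K] {q n : ℕ}

local notation "h" => Cfsg.hermForm n K q
local notation "T" => Cfsg.unitaryTransvection n q

namespace LOWRANK

/-- the inverse of a transvection of `M` is in `M` -/
theorem T_neg_mem (M : Subgroup (Matrix.GeneralLinearGroup (Fin n) K)) {v : Fin n → K} {c : K}
    (hvv : h v v = 0) (hTv : T v c ∈ MS M) : T v (-c) ∈ MS M := by
  refine MS_of_mul_right hTv ?_
  rw [T_neg_mul hvv]
  exact one_mem_MS M

/-- a norm is fixed by `σ` -/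
theorem sigma_norm (D : Frob K q) (a : K) : D.σ (a * D.σ a) = a * D.σ a := by
  rw [map_mul, D.invol, mul_comm]

/-- Step 1: moving `v` by a rational short root element of `Q_b` -/
theorem step1 [Finite K] (hn : 13 ≤ n) (D : Frob K q) (F₀ : Subfield K)
    (hθ : ∃ θ ∈ F₀, D.σ θ ≠ θ) (M : Subgroup (Matrix.GeneralLinearGroup (Fin n) K))
    (hMG : M ≤ Cfsg.GU n K q ⊓ Cfsg.Geo.specialLinear (Fin n) K) (hRat : HasRatSU q F₀ M)
    (hT : RootRatT D F₀ M) {v b : Fin n → K} {c : K} (hcs : D.σ c = -c)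
    (hvv : h v v = 0) (hTv : T v c ∈ MS M) (hb : Rat F₀ b) (hb0 : b ≠ 0) (hbb : h b b = 0)
    (hvb : h v b = 0) {a : Fin n → K} (ha : Rat F₀ a) (haa : h a a = 0) (hba : h b a = 0) :
    ∃ (w₀ : Fin n → K) (s : K), Rat F₀ w₀ ∧ (D.σ (h v a) * c) • v = w₀ + s • b := by
  obtain ⟨β, hβ⟩ : ∃ β : K, β = h v a := ⟨_, rfl⟩
  rw [← hβ]
  have hg : S q a b 1 ∈ MS M := S_mem_of_hasRatSU D hRat ha hb haa hbb hba F₀.one_mem
  have hgv : S q a b 1 *ᵥ v = β • b + v := by
    rw [S_mulVec D, hvb, one_mul, ← hβ, mul_zero, zero_smul, sub_zero, add_comm]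
  have h1 : T (β • b + v) c ∈ MS M := by
    rw [← hgv]
    exact MS_conj_T D hMG hg hTv
  have hbb' : h (β • b) (β • b) = 0 := by
    rw [h_smul_left, h_smul_right D, hbb, mul_zero, mul_zero]
  have hvb' : h v (β • b) = 0 := by rw [h_smul_right D, hvb, mul_zero]
  rw [T_add_vec D hbb' hvv hvb' hcs] at h1
  have h2 : S q (β • b) v c * T (β • b) c ∈ MS M := by
    have h3 := MS_mul h1 (T_neg_mem M hvv hTv)
    rwa [mul_assoc, T_mul_neg hvv, mul_one] at h3
  rw [S_smul_left D, T_smul D, ← Sg_smul_eq D hbb hvb] at h2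
  refine QRAT.rat_of_mem hn D F₀ hθ M hMG hRat hT hb hb0 hbb ?_ ?_ h2
  · rw [h_smul_left, hvb, mul_zero]
  · rw [h_smul_left, h_smul_right D, hvv, mul_zero, mul_zero, add_zero, map_mul, map_mul,
      D.invol, hcs]
    ring

/-- Step 2: a root point of the form `w₀ + s • b`, `w₀` rational -/
theorem step2 [Finite K] (hn : 13 ≤ n) (D : Frob K q) (F₀ : Subfield K)
    (hθ : ∃ θ ∈ F₀, D.σ θ ≠ θ) (M : Subgroup (Matrix.GeneralLinearGroup (Fin n) K))
    (hMG : M ≤ Cfsg.GU n K q ⊓ Cfsg.Geo.specialLinear (Fin n) K) (hRat : HasRatSU q F₀ M)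
    (hT : RootRatT D F₀ M) {b w₀ : Fin n → K} {s c : K} (hc0 : c ≠ 0) (hcs : D.σ c = -c)
    (hvv : h (w₀ + s • b) (w₀ + s • b) = 0) (hTv : T (w₀ + s • b) c ∈ MS M) (hb : Rat F₀ b)
    (hb0 : b ≠ 0) (hbb : h b b = 0) (hvb : h (w₀ + s • b) b = 0) (hw₀ : Rat F₀ w₀) :
    PRat F₀ (w₀ + s • b) := by
  have hwb : h w₀ b = 0 := by
    rw [h_add_left, h_smul_left, hbb, mul_zero, add_zero] at hvb
    exact hvb
  have hbw : h b w₀ = 0 := h_symm_zero D hwb
  have hww : h w₀ w₀ = 0 := by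
    rw [h_add_left, h_add_right D, h_add_right D, h_smul_left, h_smul_left, h_smul_right D,
      h_smul_right D, hbb, hbw, hwb] at hvv
    simpa using hvv
  by_cases hi : LinearIndependent K ![b, w₀]
  · -- the generic case: a frame through `b`, `w₀`
    obtain ⟨e, f, H, he0, he1⟩ := HYPB.exists_frame_of_pair hn D F₀ hθ hb hw₀ hbb hww hwb hi
    obtain ⟨v', hv'⟩ : ∃ v' : Fin n → K, v' = w₀ + s • b := ⟨_, rfl⟩
    rw [← hv'] at hvv hTv hvb ⊢
    have hv'e : v' = e 1 + s • e 0 := by rw [hv', he0, he1]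
    have hv'f1 : h v' (f 1) = 1 := by
      rw [hv'e, h_add_left, h_smul_left, H.ef, H.ef]
      simp
    have hv'f0 : h v' (f 0) = s := by
      rw [hv'e, h_add_left, h_smul_left, H.ef, H.ef]
      simp
    have hv'e2 : h v' (e 2) = 0 := by
      rw [hv'e, h_add_left, h_smul_left, H.ee, H.ee]
      simp
    have hY : S q (f 1) (e 2) 1 ∈ MS M :=
      S_mem_of_hasRatSU D hRat (H.rat_f 1) (H.rat_e 2) (H.ff 1 1) (H.ee 2 2)
        (by rw [H.ef]; simp) F₀.one_mem
    have hYv : S q (f 1) (e 2) 1 *ᵥ v' = e 2 + v' := by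
      rw [S_mulVec D, hv'f1, hv'e2, mul_one, one_smul, mul_zero, zero_smul, sub_zero, add_comm]
    have h1 : T (e 2 + v') c ∈ MS M := by
      rw [← hYv]
      exact MS_conj_T D hMG hY hTv
    rw [T_add_vec D (H.ee 2 2) hvv hv'e2 hcs] at h1
    have h2 : S q (e 2) v' c * T (e 2) c ∈ MS M := by
      have h3 := MS_mul h1 (T_neg_mem M hvv hTv)
      rwa [mul_assoc, T_mul_neg hvv, mul_one] at h3
    rw [← Sg_smul_eq D (H.ee 2 2) hv'e2] at h2
    obtain ⟨w₁, s₁, hw₁, hw₁e⟩ := QRAT.rat_of_mem hn D F₀ hθ M hMG hRat hT (H.rat_e 2)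
      (H.e_ne_zero 2) (H.ee 2 2) (by rw [h_smul_left, hv'e2, mul_zero])
      (by rw [h_smul_left, h_smul_right D, hvv, mul_zero, mul_zero, add_zero, hcs, add_neg_cancel])
      h2
    have hw₁' : w₁ = c • v' - s₁ • e 2 := by rw [hw₁e]; abel
    have hcF : c ∈ F₀ := by
      have := Rat.herm F₀ (q := q) hw₁ (H.rat_f 1)
      rw [hw₁', h_sub_left, h_smul_left, h_smul_left, hv'f1, H.ef] at this
      simpa using this
    have hcsF : c * s ∈ F₀ := by
      have := Rat.herm F₀ (q := q) hw₁ (H.rat_f 0)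
      rw [hw₁', h_sub_left, h_smul_left, h_smul_left, hv'f0, H.ef] at this
      simpa using this
    have hsF : s ∈ F₀ := by
      have : s = c⁻¹ * (c * s) := by rw [← mul_assoc, inv_mul_cancel₀ hc0, one_mul]
      rw [this]
      exact mul_mem (inv_mem hcF) hcsF
    rw [hv']
    exact PRat.of_rat (Cfsg.Agent.S5639P.Rat.add hw₀ (Cfsg.Agent.S5639P.Rat.smul hsF hb))
  · -- `w₀` is a multiple of `b`
    rw [LinearIndependent.pair_iff] at hi
    push Not at hi
    obtain ⟨x, y, hxy, hne⟩ := hi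
    have hy : y ≠ 0 := by
      intro hy0
      rw [hy0, zero_smul, add_zero] at hxy
      rcases smul_eq_zero.mp hxy with hx0 | hb0'
      · exact hne hx0 hy0
      · exact hb0 hb0'
    have hw : w₀ = (-(y⁻¹ * x)) • b := by
      have h1 : y • w₀ = -(x • b) := by
        rw [eq_neg_iff_add_eq_zero, add_comm]; exact hxy
      calc w₀ = y⁻¹ • (y • w₀) := by rw [smul_smul, inv_mul_cancel₀ hy, one_smul]
        _ = (-(y⁻¹ * x)) • b := by rw [h1, smul_neg, smul_smul, neg_smul]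
    rw [hw, ← add_smul]
    by_cases ht : -(y⁻¹ * x) + s = 0
    · rw [ht, zero_smul]
      exact PRat.of_rat Cfsg.Agent.S5639P.Rat.zero
    · exact (PRat.of_rat hb).smul ht

end LOWRANK

/-- LOWRANK -/
theorem LOWRANK.prat [Finite K] (hn : 13 ≤ n) (D : Frob K q) (F₀ : Subfield K)
    (hθ : ∃ θ ∈ F₀, D.σ θ ≠ θ) (M : Subgroup (Matrix.GeneralLinearGroup (Fin n) K))
    (hMG : M ≤ Cfsg.GU n K q ⊓ Cfsg.Geo.specialLinear (Fin n) K) (hRat : HasRatSU q F₀ M)
    (hT : RootRatT D F₀ M) {v b : Fin n → K} {c : K} (hc0 : c ≠ 0) (hcs : D.σ c = -c)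
    (hvv : h v v = 0) (hTv : T v c ∈ MS M) (hb : Rat F₀ b) (hb0 : b ≠ 0) (hbb : h b b = 0)
    (hvb : h v b = 0) : PRat F₀ v := by
  by_cases hall : ∀ x : Fin n → K, Rat F₀ x → h x x = 0 → h x b = 0 → h v x = 0
  · obtain ⟨s, hs⟩ := RATSPAN.eq_smul hn D F₀ hθ hb hb0 hbb hall
    rw [hs]
    by_cases hs0 : s = 0
    · rw [hs0, zero_smul]
      exact PRat.of_rat Cfsg.Agent.S5639P.Rat.zero
    · exact (PRat.of_rat hb).smul hs0
  · push Not at hall
    obtain ⟨a, ha, haa, hab, hβ⟩ := hall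
    have hba : h b a = 0 := h_symm_zero D hab
    obtain ⟨w₀, s, hw₀, hv'⟩ := LOWRANK.step1 hn D F₀ hθ M hMG hRat hT hcs hvv hTv hb hb0 hbb
      hvb ha haa hba
    obtain ⟨lam, hlam⟩ : ∃ lam : K, lam = D.σ (h v a) * c := ⟨_, rfl⟩
    rw [← hlam] at hv'
    have hlam0 : lam ≠ 0 := by
      rw [hlam]
      exact mul_ne_zero (by rwa [Ne, map_eq_zero]) hc0
    have hN0 : lam * D.σ lam ≠ 0 := mul_ne_zero hlam0 (by rwa [Ne, map_eq_zero])
    -- the parameter of the root element with centre `lam • v`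
    obtain ⟨c', hc'⟩ : ∃ c' : K, c' = (lam * D.σ lam)⁻¹ * c := ⟨_, rfl⟩
    have hc'0 : c' ≠ 0 := by rw [hc']; exact mul_ne_zero (inv_ne_zero hN0) hc0
    have hc's : D.σ c' = -c' := by
      rw [hc', map_mul, map_inv₀, LOWRANK.sigma_norm D, hcs, mul_neg]
    have hTv' : T (lam • v) c' ∈ MS M := by
      rw [T_smul D, hc', ← mul_assoc, mul_inv_cancel₀ hN0, one_mul]
      exact hTv
    have hvv' : h (lam • v) (lam • v) = 0 := by
      rw [h_smul_left, h_smul_right D, hvv, mul_zero, mul_zero]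
    have hvb' : h (lam • v) b = 0 := by rw [h_smul_left, hvb, mul_zero]
    rw [hv'] at hTv' hvv' hvb'
    have hP := LOWRANK.step2 hn D F₀ hθ M hMG hRat hT hc'0 hc's hvv' hTv' hb hb0 hbb hvb' hw₀
    rw [← hv'] at hP
    have := hP.smul (inv_ne_zero hlam0)
    rwa [smul_smul, inv_mul_cancel₀ hlam0, one_smul] at this

end Cfsg.Agent.S5658P
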