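import Mathlib
import Cfsg.Agent.Helper28.S5658.Defs
import Cfsg.Agent.Helper28.S5658.Lib
import Cfsg.Agent.Helper8.S5658LOWRANK
import Cfsg.Agent.Helper5.S5658PERP
import Cfsg.Agent.Helper17.S5658ALLPRATU

/-! S5658 piece STABN (driver helper28): an element of `M` sending ONE rational isotropic point to a rational
point is in `K^* GL_n(F₀)`. -/

set_option autoImplicit false
set_option linter.unusedVariables false

namespace Cfsg.Agent.S5658P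

open Matrix
open Cfsg.Agent.S2644 Cfsg.Agent.Helper2.SUGen Cfsg.Agent.Helper28.SimMax Cfsg.Agent.S5639P

variable {K : Type*} [Field K] {q n : ℕ}

local notation "h" => Cfsg.hermForm n K q
local notation "T" => Cfsg.unitaryTransvection n q

namespace STABN

/-- one step: from a rational isotropic point with rational image to an orthogonal one -/
theorem step [Finite K] (hn : 13 ≤ n) (D : Frob K q) (F₀ : Subfield K)
    (hθ : ∃ θ ∈ F₀, D.σ θ ≠ θ) (M : Subgroup (Matrix.GeneralLinearGroup (Fin n) K))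
    (hMG : M ≤ Cfsg.GU n K q ⊓ Cfsg.Geo.specialLinear (Fin n) K) (hRat : HasRatSU q F₀ M)
    (hT : RootRatT D F₀ M) {g : Matrix.GeneralLinearGroup (Fin n) K} (hg : g ∈ M)
    {u₁ u₂ : Fin n → K} (hu₁0 : u₁ ≠ 0) (hu₁ : h u₁ u₁ = 0)
    (hP : PRat F₀ ((g : Matrix (Fin n) (Fin n) K) *ᵥ u₁))
    (hr₂ : Rat F₀ u₂) (hu₂ : h u₂ u₂ = 0) (h21 : h u₂ u₁ = 0) :
    PRat F₀ ((g : Matrix (Fin n) (Fin n) K) *ᵥ u₂) := by
  have hG : (g : Matrix (Fin n) (Fin n) K) ∈ MS M := ⟨g, hg, rfl⟩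
  have hPres : Pres (q := q) (g : Matrix (Fin n) (Fin n) K) := pres_of_MS hMG hG
  obtain ⟨z, hz, hzr⟩ := hP
  obtain ⟨s₀, hs₀, hs₀0, hs₀s⟩ := exists_rat_skew D F₀ hθ
  have hgu0 : (g : Matrix (Fin n) (Fin n) K) *ᵥ u₁ ≠ 0 := by
    intro h0
    apply hu₁0
    have := congrArg (fun x => ((g⁻¹ : Matrix.GeneralLinearGroup (Fin n) K) :
      Matrix (Fin n) (Fin n) K) *ᵥ x) h0
    simp only [mulVec_mulVec, inv_mul_coe, one_mulVec, mulVec_zero] at this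
    exact this
  have hb0 : z • ((g : Matrix (Fin n) (Fin n) K) *ᵥ u₁) ≠ 0 := smul_ne_zero hz hgu0
  have hbb : h (z • ((g : Matrix (Fin n) (Fin n) K) *ᵥ u₁))
      (z • ((g : Matrix (Fin n) (Fin n) K) *ᵥ u₁)) = 0 := by
    rw [h_smul_left, h_smul_right D, hPres, hu₁, mul_zero, mul_zero]
  have hTu : T u₂ s₀ ∈ MS M := T_mem_of_hasRatSU D hRat hr₂ hu₂ hs₀ hs₀s
  have hTg : T ((g : Matrix (Fin n) (Fin n) K) *ᵥ u₂) s₀ ∈ MS M := MS_conj_T D hMG hG hTu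
  refine LOWRANK.prat hn D F₀ hθ M hMG hRat hT hs₀0 hs₀s ?_ hTg hzr hb0 hbb ?_
  · rw [hPres, hu₂]
  · rw [h_smul_right D, hPres, h21, mul_zero]

end STABN

/-- STABN -/
theorem STABN.inN [Finite K] (hn : 13 ≤ n) (D : Frob K q) (F₀ : Subfield K)
    (hθ : ∃ θ ∈ F₀, D.σ θ ≠ θ) (M : Subgroup (Matrix.GeneralLinearGroup (Fin n) K))
    (hMG : M ≤ Cfsg.GU n K q ⊓ Cfsg.Geo.specialLinear (Fin n) K) (hRat : HasRatSU q F₀ M)
    (hT : RootRatT D F₀ M) {g : Matrix.GeneralLinearGroup (Fin n) K} (hg : g ∈ M)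
    {u : Fin n → K} (hu : Rat F₀ u) (hu0 : u ≠ 0) (huu : h u u = 0)
    (hP : PRat F₀ ((g : Matrix (Fin n) (Fin n) K) *ᵥ u)) :
    InN F₀ (g : Matrix (Fin n) (Fin n) K) := by
  apply ALLPRATU.inN_of_all hn D F₀ hθ g
  intro u'' hu'' hu''0 hu''u''
  obtain ⟨b, hb, hb0, hbb, hbu, hbu'', -⟩ := PERP.exists_perp3 hn D F₀ hθ hu hu'' hu
  have h1 : PRat F₀ ((g : Matrix (Fin n) (Fin n) K) *ᵥ b) :=
    STABN.step hn D F₀ hθ M hMG hRat hT hg hu0 huu hP hb hbb hbu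
  exact STABN.step hn D F₀ hθ M hMG hRat hT hg hb0 hbb h1 hu'' hu''u'' (h_symm_zero D hbu'')

end Cfsg.Agent.S5658P
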