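import Mathlib
import Cfsg.Agent.Helper8.GrossBC
import Cfsg.Agent.Helper9.GrossC

/-!
# Base change for the module theorems of S3795 (Gross, `p = 2`), part 2: `gross_group` (GF1)
-/

set_option autoImplicit false

namespace Cfsg.Agent.Helper8.GrossBC

open Module Subgroup TensorProduct

/-- (GF1) group form of `Helper9.Gross.gross_alg` -/
theorem gross_group {Γ : Type*} [Group Γ] [Finite Γ] {V : Type*} [CommGroup V] [Finite V]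
    {l q r n : ℕ} (hl : l.Prime) (hl2 : l ≠ 2) (hq : q.Prime) (hq2 : q ≠ 2) (hql : q ≠ l)
    (hr : r.Prime) (hr2 : r ≠ 2) (hrl : r ≠ l) (hn : 0 < n) (hV : ∀ v : V, v ^ r = 1)
    (Q Z D : Subgroup Γ) (hQ : IsPGroup l Q) (hD : IsPGroup q D) (hZQ : Z ≤ Q) (s : Γ)
    (hs : s ^ (2 ^ n) = 1) (hsQ : s ∈ normalizer (Q : Set Γ)) (hsZ : s ∈ normalizer (Z : Set Γ))
    (hsD : s ∈ normalizer (D : Set Γ)) (hDQ : D ≤ normalizer (Q : Set Γ))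
    (hDZ : ∀ d ∈ D, ∀ z ∈ Z, d * z = z * d) (hZc : ∀ z ∈ Z, ∀ g ∈ Q, z * g = g * z)
    (hcomm : ∀ g ∈ Q, ∀ h ∈ Q, g * h * g⁻¹ * h⁻¹ ∈ Z)
    (htZ : ∀ z ∈ Z, s ^ (2 ^ (n - 1)) * z = z * s ^ (2 ^ (n - 1)))
    (hinv : ∀ g ∈ Q, s ^ (2 ^ (n - 1)) * g * (s ^ (2 ^ (n - 1)))⁻¹ * g ∈ Z)
    (hne : ∃ d ∈ D, ∃ x ∈ Q, ∃ y ∈ Q, (d * x * d⁻¹ * x⁻¹) * y ≠ y * (d * x * d⁻¹ * x⁻¹))
    (φ : Γ →* MulAut V) (hfaith : ∀ g ∈ Q, φ g = 1 → g = 1) : ∃ v : V, v ≠ 1 ∧ φ s v = v := by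
  haveI : Fact r.Prime := ⟨hr⟩
  letI : Module (ZMod r) (Additive V) := zmodModule hV
  apply fixed_of_alg (r := r) Q s φ hfaith
  intro M' _ _ _ ρ' hρ'
  have h2K : (2 : AlgebraicClosure (ZMod r)) ≠ 0 := by
    have := prime_ne_zero (r := r) Nat.prime_two hr2
    exact_mod_cast this
  exact Cfsg.Agent.Helper9.Gross.gross_alg hl hl2 hq hq2 hql hn ρ' h2K (prime_ne_zero hl hrl)
    Q Z D hQ hD hZQ s hs hsQ hsZ hsD hDQ hDZ hZc hcomm htZ hinv hne hρ'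

end Cfsg.Agent.Helper8.GrossBC
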