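import Mathlib
import Cfsg.Agent.Helper25.QPSwap
import Cfsg.Agent.Helper18.SL2Ext5

set_option autoImplicit false

/-! Board `qppieces`, piece UNIP: a unipotent pair generates a unipotent group (`n = 3`). -/

noncomputable section

namespace Cfsg.Agent.QPP

open Cfsg Cfsg.Agent.Helper25.QP Cfsg.Agent.Helper25.QuadPair Polynomial

variable {k : Type*} [Field k] {M : Type*} [AddCommGroup M] [Module k M]

local notation "GLkM" => LinearMap.GeneralLinearGroup k M

/-- the span of `a`, `b`, `ab`, `ba` (explicit coefficients) -/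
def UNIP_aux_S (a b x : Module.End k M) : Prop :=
  ∃ c1 c2 c3 c4 : k, x = c1 • a + c2 • b + c3 • (a * b) + c4 • (b * a)

theorem UNIP_aux_S_zero (a b : Module.End k M) : UNIP_aux_S a b 0 :=
  ⟨0, 0, 0, 0, by simp⟩

theorem UNIP_aux_S_add {a b x y : Module.End k M} (hx : UNIP_aux_S a b x) (hy : UNIP_aux_S a b y) :
    UNIP_aux_S a b (x + y) := by
  obtain ⟨c1, c2, c3, c4, rfl⟩ := hx
  obtain ⟨d1, d2, d3, d4, rfl⟩ := hy
  refine ⟨c1 + d1, c2 + d2, c3 + d3, c4 + d4, ?_⟩
  simp only [add_smul]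
  abel

theorem UNIP_aux_S_neg {a b x : Module.End k M} (hx : UNIP_aux_S a b x) :
    UNIP_aux_S a b (-x) := by
  obtain ⟨c1, c2, c3, c4, rfl⟩ := hx
  refine ⟨-c1, -c2, -c3, -c4, ?_⟩
  simp only [neg_smul]
  abel

theorem UNIP_aux_S_mul {a b : Module.End k M} (haa : a * a = 0) (hbb : b * b = 0)
    (haba : a * b * a = 0) (hbab : b * a * b = 0) {x y : Module.End k M}
    (hx : UNIP_aux_S a b x) (hy : UNIP_aux_S a b y) :
    ∃ e1 e2 : k, x * y = e1 • (a * b) + e2 • (b * a) := by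
  obtain ⟨c1, c2, c3, c4, rfl⟩ := hx
  obtain ⟨d1, d2, d3, d4, rfl⟩ := hy
  have h1 : a * b * b = 0 := by rw [mul_assoc, hbb, mul_zero]
  have h2 : b * a * a = 0 := by rw [mul_assoc, haa, mul_zero]
  refine ⟨c1 * d2, c2 * d1, ?_⟩
  simp only [add_mul, mul_add, smul_mul_assoc, mul_smul_comm, smul_smul, ← mul_assoc,
    haa, hbb, haba, hbab, h1, h2, smul_zero, add_zero, zero_add]
  rw [mul_comm d1 c2, mul_comm d2 c1, add_comm]

theorem UNIP_aux_S_mul_mem {a b : Module.End k M} (haa : a * a = 0) (hbb : b * b = 0)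
    (haba : a * b * a = 0) (hbab : b * a * b = 0) {x y : Module.End k M}
    (hx : UNIP_aux_S a b x) (hy : UNIP_aux_S a b y) : UNIP_aux_S a b (x * y) := by
  obtain ⟨e1, e2, h⟩ := UNIP_aux_S_mul haa hbb haba hbab hx hy
  exact ⟨0, 0, e1, e2, by rw [h]; simp⟩

theorem UNIP_aux_S_mul3 {a b : Module.End k M} (haa : a * a = 0) (hbb : b * b = 0)
    (haba : a * b * a = 0) (hbab : b * a * b = 0) {x y w : Module.End k M}
    (hx : UNIP_aux_S a b x) (hy : UNIP_aux_S a b y) (hw : UNIP_aux_S a b w) :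
    x * y * w = 0 := by
  obtain ⟨e1, e2, h⟩ := UNIP_aux_S_mul haa hbb haba hbab hx hy
  obtain ⟨d1, d2, d3, d4, rfl⟩ := hw
  have h1 : a * b * b = 0 := by rw [mul_assoc, hbb, mul_zero]
  have h2 : b * a * a = 0 := by rw [mul_assoc, haa, mul_zero]
  rw [h]
  simp only [add_mul, mul_add, smul_mul_assoc, mul_smul_comm, ← mul_assoc,
    haba, hbab, h1, h2, zero_mul, smul_zero, add_zero]

/-- every element of `Hgrp` is `1 + s` with `s` in the span of `a`, `b`, `ab`, `ba` -/
theorem UNIP_aux_mem {a b : Module.End k M} (haa : a * a = 0) (hbb : b * b = 0)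
    (haba : a * b * a = 0) (hbab : b * a * b = 0) (g : GLkM) (hg : g ∈ Hgrp a b haa hbb) :
    UNIP_aux_S a b ((g : Module.End k M) - 1) := by
  unfold Hgrp at hg
  induction hg using Subgroup.closure_induction with
  | mem g hg =>
    rcases hg with ⟨c, rfl⟩ | ⟨c, rfl⟩
    · exact ⟨c, 0, 0, 0, by simp⟩
    · exact ⟨0, c, 0, 0, by simp⟩
  | one => simpa using UNIP_aux_S_zero a b
  | mul g h _ _ ihg ihh =>
    have e : ((g * h : GLkM) : Module.End k M) - 1
        = ((g : Module.End k M) - 1) * ((h : Module.End k M) - 1)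
          + (((g : Module.End k M) - 1) + ((h : Module.End k M) - 1)) := by
      rw [Units.val_mul]
      noncomm_ring
    rw [e]
    exact UNIP_aux_S_add (UNIP_aux_S_mul_mem haa hbb haba hbab ihg ihh) (UNIP_aux_S_add ihg ihh)
  | inv g _ ihg =>
    set s : Module.End k M := (g : Module.End k M) - 1 with hs
    have hg1 : (g : Module.End k M) = 1 + s := by rw [hs]; abel
    have h3 : s * s * s = 0 := UNIP_aux_S_mul3 haa hbb haba hbab ihg ihg ihg
    have hinv : ((g⁻¹ : GLkM) : Module.End k M) = 1 - s + s * s := by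
      have e1 : (g : Module.End k M) * (1 - s + s * s) = 1 := by
        rw [hg1]
        have : (1 + s) * (1 - s + s * s) = 1 + s * s * s := by noncomm_ring
        rw [this, h3, add_zero]
      calc ((g⁻¹ : GLkM) : Module.End k M)
          = ((g⁻¹ : GLkM) : Module.End k M) * ((g : Module.End k M) * (1 - s + s * s)) := by
            rw [e1, mul_one]
        _ = (((g⁻¹ : GLkM) : Module.End k M) * (g : Module.End k M)) * (1 - s + s * s) := by
            rw [mul_assoc]
        _ = 1 - s + s * s := by rw [Units.inv_mul, one_mul]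
    have e : ((g⁻¹ : GLkM) : Module.End k M) - 1 = -s + s * s := by rw [hinv]; abel
    rw [e]
    exact UNIP_aux_S_add (UNIP_aux_S_neg ihg) (UNIP_aux_S_mul_mem haa hbb haba hbab ihg ihg)

theorem UNIP [FiniteDimensional k M] (h2 : (2 : k) ≠ 0) {G : Subgroup GLkM} {d : ℕ}
    {a b : Module.End k M} (hp : QPair G d a b) (hu : UnipPair a b) :
    IsUnipotentOn (Hgrp a b hp.qa.1.1 hp.qb.1.1) := by
  obtain ⟨n, hn⟩ := hu
  obtain ⟨haba, hbab⟩ := star h2 hp.min n hp.qa.1 hp.qb.1 hp.qa.2 hp.qb.2 hn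
  refine ⟨3, ?_⟩
  intro l hl hlen
  match l, hlen with
  | [g1, g2, g3], _ =>
    have m1 := UNIP_aux_mem hp.qa.1.1 hp.qb.1.1 haba hbab g1 (hl g1 (by simp))
    have m2 := UNIP_aux_mem hp.qa.1.1 hp.qb.1.1 haba hbab g2 (hl g2 (by simp))
    have m3 := UNIP_aux_mem hp.qa.1.1 hp.qb.1.1 haba hbab g3 (hl g3 (by simp))
    have := UNIP_aux_S_mul3 hp.qa.1.1 hp.qb.1.1 haba hbab m1 m2 m3
    show ((g1 : Module.End k M) - 1) * (((g2 : Module.End k M) - 1) *
      (((g3 : Module.End k M) - 1) * 1)) = 0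
    rw [mul_one, ← mul_assoc]
    exact this

end Cfsg.Agent.QPP

end
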