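import Mathlib

/-! S3222 piece A6I: in a simple group of order 360, two non-conjugate subgroups of index 6,
one of them simple, meet in a subgroup of order 10. -/

set_option autoImplicit false

namespace Cfsg.Agent.S3222P

/-- a simple group embeds in the symmetric group on the cosets of a proper subgroup -/
theorem A6I_aux_idx {M : Type*} [Group M] [Finite M] [IsSimpleGroup M] (H : Subgroup M)
    (hH : H ≠ ⊤) : Nat.card M ∣ (H.index).factorial := by
  classical
  let φ : M →* Equiv.Perm (M ⧸ H) := MulAction.toPermHom M (M ⧸ H)
  have hker : φ.ker = ⊥ := by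
    rcases (φ.normal_ker).eq_bot_or_eq_top with h | h
    · exact h
    · exfalso
      apply hH
      rw [eq_top_iff]
      intro m _
      have hm : m ∈ φ.ker := by rw [h]; trivial
      rw [MonoidHom.mem_ker] at hm
      have h1 : φ m ((1 : M) : M ⧸ H) = ((1 : M) : M ⧸ H) := by rw [hm]; rfl
      have h2 : φ m ((1 : M) : M ⧸ H) = ((m * 1 : M) : M ⧸ H) := rfl
      rw [h2, mul_one] at h1
      have h3 := QuotientGroup.eq.mp h1
      have h4 := H.inv_mem h3
      simpa using h4
  have hinj : Function.Injective φ := (MonoidHom.ker_eq_bot_iff φ).mp hker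
  have h5 : Nat.card M ∣ Nat.card (Equiv.Perm (M ⧸ H)) := Subgroup.card_dvd_of_injective φ hinj
  rwa [Nat.card_perm, ← Subgroup.index_eq_card] at h5

theorem A6I {M : Type*} [Group M] [Finite M] [IsSimpleGroup M] (hc : Nat.card M = 360)
    (A B : Subgroup M) (hA : A.index = 6) (hB : B.index = 6) (hAs : IsSimpleGroup ↥A)
    (hAB : ∀ m : M, B.map (MulAut.conj m).toMonoidHom ≠ A) :
    Nat.card ↥(A ⊓ B) = 10 := by
  classical
  have hAc : Nat.card A = 60 := by
    have := A.card_mul_index
    rw [hA, hc] at this
    omega
  have hBc : Nat.card B = 60 := by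
    have := B.card_mul_index
    rw [hB, hc] at this
    omega
  have hX : Nat.card (M ⧸ B) = 6 := by rw [← Subgroup.index_eq_card, hB]
  -- stabilizers are proper
  have hstab : ∀ x : M ⧸ B, MulAction.stabilizer A x ≠ ⊤ := by
    intro x
    induction x using QuotientGroup.induction_on with
    | H m =>
      intro htop
      apply hAB m
      have hle : A ≤ B.map (MulAut.conj m).toMonoidHom := by
        intro a ha
        have hmem : (⟨a, ha⟩ : A) ∈ MulAction.stabilizer A ((m : M) : M ⧸ B) := by
          rw [htop]; trivial
        rw [MulAction.mem_stabilizer_iff] at hmem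
        have h2 : ((a * m : M) : M ⧸ B) = (m : M ⧸ B) := hmem
        have h3 := QuotientGroup.eq.mp h2
        rw [Subgroup.mem_map]
        refine ⟨m⁻¹ * a * m, ?_, ?_⟩
        · have h4 := B.inv_mem h3
          have h5 : ((a * m)⁻¹ * m)⁻¹ = m⁻¹ * a * m := by group
          rwa [h5] at h4
        · show MulAut.conj m (m⁻¹ * a * m) = a
          rw [MulAut.conj_apply]
          group
      symm
      apply Subgroup.eq_of_le_of_card_ge hle
      rw [hAc, Subgroup.card_map_of_injective (MulAut.conj m).injective, hBc]
  have hidx : ∀ x : M ⧸ B, 5 ≤ (MulAction.orbit A x).ncard := by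
    intro x
    rw [← MulAction.index_stabilizer]
    have h1 := A6I_aux_idx (M := A) (MulAction.stabilizer A x) (hstab x)
    rw [hAc] at h1
    by_contra hlt
    have hlt := not_le.mp hlt
    have h2 : (MulAction.stabilizer A x).index.factorial ∣ Nat.factorial 4 :=
      Nat.factorial_dvd_factorial (by omega)
    have h3 := dvd_trans h1 h2
    norm_num [Nat.factorial] at h3
  -- the orbit of the trivial coset is everything
  set x₀ : M ⧸ B := ((1 : M) : M ⧸ B) with hx₀
  have horb : (MulAction.orbit A x₀).ncard = 6 := by
    by_cases hall : ∀ y : M ⧸ B, y ∈ MulAction.orbit A x₀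
    · have : MulAction.orbit A x₀ = Set.univ := Set.eq_univ_of_forall hall
      rw [this, Set.ncard_univ, hX]
    · exfalso
      obtain ⟨y, hy⟩ := not_forall.mp hall
      have hdisj : Disjoint (MulAction.orbit A x₀) (MulAction.orbit A y) := by
        rw [Set.disjoint_left]
        intro w hw1 hw2
        apply hy
        have e1 := MulAction.orbit_eq_iff.mpr hw1
        have e2 := MulAction.orbit_eq_iff.mpr hw2
        rw [← e1, e2]
        exact MulAction.mem_orbit_self y
      have hun := Set.ncard_union_eq hdisj (Set.toFinite _) (Set.toFinite _)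
      have hle := Set.ncard_le_card (MulAction.orbit A x₀ ∪ MulAction.orbit A y)
      rw [hX, hun] at hle
      have := hidx x₀
      have := hidx y
      omega
  rw [← MulAction.index_stabilizer] at horb
  have hst : MulAction.stabilizer A x₀ = B.subgroupOf A := by
    ext a
    rw [MulAction.mem_stabilizer_iff, Subgroup.mem_subgroupOf]
    have h2 : a • x₀ = (((a : M) * 1 : M) : M ⧸ B) := rfl
    rw [h2, hx₀, QuotientGroup.eq]
    constructor
    · intro h3
      have h4 := B.inv_mem h3
      simpa using h4
    · intro h3
      have h4 := B.inv_mem h3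
      simpa using h4
  rw [hst] at horb
  have hcard := (B.subgroupOf A).card_mul_index
  rw [horb, hAc] at hcard
  have hequiv : Nat.card ↥(A ⊓ B) = Nat.card ↥(B.subgroupOf A) := by
    rw [← Subgroup.inf_subgroupOf_left B A]
    exact (Nat.card_congr (Subgroup.subgroupOfEquivOfLe (inf_le_left : A ⊓ B ≤ A)).toEquiv).symm
  rw [hequiv]
  omega

end Cfsg.Agent.S3222P
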