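import Mathlib
import Cfsg.Prelude.Def_GeometricClasses
import Cfsg.Prelude.Def_ClassicalGeometry
import Cfsg.Agent.Helper29.S5976Defs

set_option autoImplicit false
open scoped MatrixGroups

/-! S5976 piece MEMNORM. -/

namespace Cfsg.Agent.S5976P

namespace MEMNORM

theorem mem_of_span {F : Type*} [Field F] {d : ℕ}
    {K : Subalgebra F (Matrix (Fin d ⊕ Fin d) (Fin d ⊕ Fin d) F)}
    {κ : Matrix (Fin d ⊕ Fin d) (Fin d ⊕ Fin d) F} (hκ : κ ∈ K) (α β : F) :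
    α • (1 : Matrix (Fin d ⊕ Fin d) (Fin d ⊕ Fin d) F) + β • κ ∈ K :=
  K.add_mem (K.smul_mem K.one_mem α) (K.smul_mem hκ β)

/-- the core: `Y ι = ι' Y` and `Y ι' = ι Y` with `ι' ∈ K` -/
theorem core {F : Type*} [Field F] (d : ℕ)
    (K : Subalgebra F (Matrix (Fin d ⊕ Fin d) (Fin d ⊕ Fin d) F)) (t n : F)
    (ι ι' : Matrix (Fin d ⊕ Fin d) (Fin d ⊕ Fin d) F) (hι : IsGen d F K t n ι) (hι' : ι' ∈ K)
    (y : GL (Fin d ⊕ Fin d) F)
    (h1 : (y : Matrix (Fin d ⊕ Fin d) (Fin d ⊕ Fin d) F) * ι =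
        ι' * (y : Matrix (Fin d ⊕ Fin d) (Fin d ⊕ Fin d) F))
    (h2 : (y : Matrix (Fin d ⊕ Fin d) (Fin d ⊕ Fin d) F) * ι' =
        ι * (y : Matrix (Fin d ⊕ Fin d) (Fin d ⊕ Fin d) F)) :
    y ∈ Cfsg.Geo.subalgebraNormalizer K := by
  set Y : Matrix (Fin d ⊕ Fin d) (Fin d ⊕ Fin d) F := (y : Matrix (Fin d ⊕ Fin d) (Fin d ⊕ Fin d) F)
  set Yi : Matrix (Fin d ⊕ Fin d) (Fin d ⊕ Fin d) F :=
    ((y⁻¹ : GL (Fin d ⊕ Fin d) F) : Matrix (Fin d ⊕ Fin d) (Fin d ⊕ Fin d) F)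
  have hYYi : Y * Yi = 1 := by
    rw [← Units.val_mul, mul_inv_cancel, Units.val_one]
  have hYiY : Yi * Y = 1 := by
    rw [← Units.val_mul, inv_mul_cancel, Units.val_one]
  have e1 : Y * ι * Yi = ι' := by
    rw [h1, Matrix.mul_assoc, hYYi, Matrix.mul_one]
  have e2 : Yi * ι * Y = ι' := by
    rw [Matrix.mul_assoc, ← h2, ← Matrix.mul_assoc, hYiY, Matrix.one_mul]
  show ∀ k : Matrix (Fin d ⊕ Fin d) (Fin d ⊕ Fin d) F, k ∈ K ↔ Y * k * Yi ∈ K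
  intro k
  constructor
  · intro hk
    obtain ⟨α, β, rfl⟩ := hι.span k hk
    have : Y * (α • (1 : Matrix (Fin d ⊕ Fin d) (Fin d ⊕ Fin d) F) + β • ι) * Yi =
        α • (1 : Matrix (Fin d ⊕ Fin d) (Fin d ⊕ Fin d) F) + β • ι' := by
      rw [Matrix.mul_add, Matrix.add_mul, Matrix.mul_smul, Matrix.mul_one, Matrix.smul_mul, hYYi,
        Matrix.mul_smul, Matrix.smul_mul, e1]
    rw [this]
    exact mem_of_span hι' α β
  · intro hk
    obtain ⟨α, β, hαβ⟩ := hι.span _ hk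
    have : k = α • (1 : Matrix (Fin d ⊕ Fin d) (Fin d ⊕ Fin d) F) + β • ι' := by
      have h3 : k = Yi * (Y * k * Yi) * Y := by
        rw [Matrix.mul_assoc Y, ← Matrix.mul_assoc Yi, hYiY, Matrix.one_mul, Matrix.mul_assoc, hYiY,
          Matrix.mul_one]
      rw [h3, hαβ, Matrix.mul_add, Matrix.add_mul, Matrix.mul_smul, Matrix.mul_one, Matrix.smul_mul,
        hYiY, Matrix.mul_smul, Matrix.smul_mul, e2]
    rw [this]
    exact mem_of_span hι' α β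

end MEMNORM

/-- MEMNORM -/
theorem mem_normalizer_of_gen {F : Type*} [Field F] (d : ℕ)
    (K : Subalgebra F (Matrix (Fin d ⊕ Fin d) (Fin d ⊕ Fin d) F)) (t n : F)
    (ι : Matrix (Fin d ⊕ Fin d) (Fin d ⊕ Fin d) F) (hι : IsGen d F K t n ι)
    (y : GL (Fin d ⊕ Fin d) F)
    (h : (y : Matrix (Fin d ⊕ Fin d) (Fin d ⊕ Fin d) F) * ι =
        ι * (y : Matrix (Fin d ⊕ Fin d) (Fin d ⊕ Fin d) F) ∨
      (y : Matrix (Fin d ⊕ Fin d) (Fin d ⊕ Fin d) F) * ι =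
        (t • (1 : Matrix (Fin d ⊕ Fin d) (Fin d ⊕ Fin d) F) - ι) *
          (y : Matrix (Fin d ⊕ Fin d) (Fin d ⊕ Fin d) F)) :
    y ∈ Cfsg.Geo.subalgebraNormalizer K := by
  rcases h with h | h
  · exact MEMNORM.core d K t n ι ι hι hι.mem y h h
  · have hmem : t • (1 : Matrix (Fin d ⊕ Fin d) (Fin d ⊕ Fin d) F) - ι ∈ K :=
      K.sub_mem (K.smul_mem K.one_mem t) hι.mem
    refine MEMNORM.core d K t n ι _ hι hmem y h ?_
    rw [Matrix.mul_sub, h, Matrix.sub_mul, Matrix.mul_smul, Matrix.mul_one, Matrix.smul_mul,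
      Matrix.one_mul]
    abel

end Cfsg.Agent.S5976P
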