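import Mathlib
import Cfsg.Prelude.Def_GeometricClasses
import Cfsg.Prelude.Def_ClassicalGeometry
import Cfsg.Agent.Helper29.S5976Defs

set_option autoImplicit false
open scoped MatrixGroups Pointwise

/-! S5976 piece NORMCONJ. -/

namespace Cfsg.Agent.S5976P

namespace NORMCONJ

theorem mem_of_span' {F : Type*} [Field F] {d : ℕ}
    {K : Subalgebra F (Matrix (Fin d ⊕ Fin d) (Fin d ⊕ Fin d) F)}
    {κ : Matrix (Fin d ⊕ Fin d) (Fin d ⊕ Fin d) F} (hκ : κ ∈ K) (α β : F) :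
    α • (1 : Matrix (Fin d ⊕ Fin d) (Fin d ⊕ Fin d) F) + β • κ ∈ K :=
  K.add_mem (K.smul_mem K.one_mem α) (K.smul_mem hκ β)

/-- `g K g⁻¹ = K₂` -/
theorem conj_mem_iff {F : Type*} [Field F] (d : ℕ) (t n : F)
    (K K₂ : Subalgebra F (Matrix (Fin d ⊕ Fin d) (Fin d ⊕ Fin d) F))
    (ι ι₂ : Matrix (Fin d ⊕ Fin d) (Fin d ⊕ Fin d) F)
    (hι : IsGen d F K t n ι) (hι₂ : IsGen d F K₂ t n ι₂)
    (g : GL (Fin d ⊕ Fin d) F)
    (hconj : (g : Matrix (Fin d ⊕ Fin d) (Fin d ⊕ Fin d) F) * ι =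
      ι₂ * (g : Matrix (Fin d ⊕ Fin d) (Fin d ⊕ Fin d) F))
    (k : Matrix (Fin d ⊕ Fin d) (Fin d ⊕ Fin d) F) :
    k ∈ K ↔ (g : Matrix (Fin d ⊕ Fin d) (Fin d ⊕ Fin d) F) * k *
      ((g⁻¹ : GL (Fin d ⊕ Fin d) F) : Matrix (Fin d ⊕ Fin d) (Fin d ⊕ Fin d) F) ∈ K₂ := by
  set Y : Matrix (Fin d ⊕ Fin d) (Fin d ⊕ Fin d) F := (g : Matrix (Fin d ⊕ Fin d) (Fin d ⊕ Fin d) F)
  set Yi : Matrix (Fin d ⊕ Fin d) (Fin d ⊕ Fin d) F :=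
    ((g⁻¹ : GL (Fin d ⊕ Fin d) F) : Matrix (Fin d ⊕ Fin d) (Fin d ⊕ Fin d) F)
  have hYYi : Y * Yi = 1 := by
    rw [← Units.val_mul, mul_inv_cancel, Units.val_one]
  have hYiY : Yi * Y = 1 := by
    rw [← Units.val_mul, inv_mul_cancel, Units.val_one]
  have e1 : Y * ι * Yi = ι₂ := by
    rw [hconj, Matrix.mul_assoc, hYYi, Matrix.mul_one]
  have e2 : Yi * ι₂ * Y = ι := by
    rw [Matrix.mul_assoc, ← hconj, ← Matrix.mul_assoc, hYiY, Matrix.one_mul]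
  constructor
  · intro hk
    obtain ⟨α, β, rfl⟩ := hι.span k hk
    have : Y * (α • (1 : Matrix (Fin d ⊕ Fin d) (Fin d ⊕ Fin d) F) + β • ι) * Yi =
        α • (1 : Matrix (Fin d ⊕ Fin d) (Fin d ⊕ Fin d) F) + β • ι₂ := by
      rw [Matrix.mul_add, Matrix.add_mul, Matrix.mul_smul, Matrix.mul_one, Matrix.smul_mul, hYYi,
        Matrix.mul_smul, Matrix.smul_mul, e1]
    rw [this]
    exact mem_of_span' hι₂.mem α β
  · intro hk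
    obtain ⟨α, β, hαβ⟩ := hι₂.span _ hk
    have : k = α • (1 : Matrix (Fin d ⊕ Fin d) (Fin d ⊕ Fin d) F) + β • ι := by
      have h3 : k = Yi * (Y * k * Yi) * Y := by
        rw [Matrix.mul_assoc Y, ← Matrix.mul_assoc Yi, hYiY, Matrix.one_mul, Matrix.mul_assoc, hYiY,
          Matrix.mul_one]
      rw [h3, hαβ, Matrix.mul_add, Matrix.add_mul, Matrix.mul_smul, Matrix.mul_one, Matrix.smul_mul,
        hYiY, Matrix.mul_smul, Matrix.smul_mul, e2]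
    rw [this]
    exact mem_of_span' hι.mem α β

/-- transport of normalizers along `g K g⁻¹ = K₂` -/
theorem normalizer_conj {F : Type*} [Field F] (d : ℕ)
    (K K₂ : Subalgebra F (Matrix (Fin d ⊕ Fin d) (Fin d ⊕ Fin d) F))
    (g : GL (Fin d ⊕ Fin d) F)
    (hA : ∀ k : Matrix (Fin d ⊕ Fin d) (Fin d ⊕ Fin d) F,
      k ∈ K ↔ (g : Matrix (Fin d ⊕ Fin d) (Fin d ⊕ Fin d) F) * k *
        ((g⁻¹ : GL (Fin d ⊕ Fin d) F) : Matrix (Fin d ⊕ Fin d) (Fin d ⊕ Fin d) F) ∈ K₂)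
    (y : GL (Fin d ⊕ Fin d) F) :
    g⁻¹ * y * g ∈ Cfsg.Geo.subalgebraNormalizer K ↔ y ∈ Cfsg.Geo.subalgebraNormalizer K₂ := by
  have hinv : (g⁻¹ * y * g)⁻¹ = g⁻¹ * y⁻¹ * g := by group
  have hmem : ∀ (L : Subalgebra F (Matrix (Fin d ⊕ Fin d) (Fin d ⊕ Fin d) F))
      (z : GL (Fin d ⊕ Fin d) F), z ∈ Cfsg.Geo.subalgebraNormalizer L ↔
      ∀ k : Matrix (Fin d ⊕ Fin d) (Fin d ⊕ Fin d) F, k ∈ L ↔
        (z : Matrix (Fin d ⊕ Fin d) (Fin d ⊕ Fin d) F) * k *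
          ((z⁻¹ : GL (Fin d ⊕ Fin d) F) : Matrix (Fin d ⊕ Fin d) (Fin d ⊕ Fin d) F) ∈ L :=
    fun L z => Iff.rfl
  rw [hmem, hmem, hinv]
  have e2 : ∀ k : Matrix (Fin d ⊕ Fin d) (Fin d ⊕ Fin d) F,
      (g : Matrix (Fin d ⊕ Fin d) (Fin d ⊕ Fin d) F) *
        (((g⁻¹ * y * g : GL (Fin d ⊕ Fin d) F) : Matrix (Fin d ⊕ Fin d) (Fin d ⊕ Fin d) F) * k *
          ((g⁻¹ * y⁻¹ * g : GL (Fin d ⊕ Fin d) F) : Matrix (Fin d ⊕ Fin d) (Fin d ⊕ Fin d) F)) *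
        ((g⁻¹ : GL (Fin d ⊕ Fin d) F) : Matrix (Fin d ⊕ Fin d) (Fin d ⊕ Fin d) F) =
      (y : Matrix (Fin d ⊕ Fin d) (Fin d ⊕ Fin d) F) *
        ((g : Matrix (Fin d ⊕ Fin d) (Fin d ⊕ Fin d) F) * k *
          ((g⁻¹ : GL (Fin d ⊕ Fin d) F) : Matrix (Fin d ⊕ Fin d) (Fin d ⊕ Fin d) F)) *
        ((y⁻¹ : GL (Fin d ⊕ Fin d) F) : Matrix (Fin d ⊕ Fin d) (Fin d ⊕ Fin d) F) := by
    intro k
    simp only [Units.val_mul, Matrix.mul_assoc, Units.mul_inv_cancel_left, Units.mul_inv,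
      Matrix.mul_one]
  constructor
  · intro h k₂
    have e1 : (g : Matrix (Fin d ⊕ Fin d) (Fin d ⊕ Fin d) F) *
        (((g⁻¹ : GL (Fin d ⊕ Fin d) F) : Matrix (Fin d ⊕ Fin d) (Fin d ⊕ Fin d) F) * k₂ *
          (g : Matrix (Fin d ⊕ Fin d) (Fin d ⊕ Fin d) F)) *
        ((g⁻¹ : GL (Fin d ⊕ Fin d) F) : Matrix (Fin d ⊕ Fin d) (Fin d ⊕ Fin d) F) = k₂ := by
      simp only [Matrix.mul_assoc, Units.mul_inv_cancel_left, Units.mul_inv, Matrix.mul_one]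
    have h1 := h (((g⁻¹ : GL (Fin d ⊕ Fin d) F) : Matrix (Fin d ⊕ Fin d) (Fin d ⊕ Fin d) F) * k₂ *
          (g : Matrix (Fin d ⊕ Fin d) (Fin d ⊕ Fin d) F))
    rw [hA, hA, e1, e2, e1] at h1
    exact h1
  · intro h k
    rw [hA k, hA, e2]
    exact h _

end NORMCONJ

/-- NORMCONJ -/
theorem relIndex_eq_of_conj {F : Type*} [Field F] (d : ℕ) (t n : F)
    (K K₂ : Subalgebra F (Matrix (Fin d ⊕ Fin d) (Fin d ⊕ Fin d) F))
    (ι ι₂ : Matrix (Fin d ⊕ Fin d) (Fin d ⊕ Fin d) F)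
    (hι : IsGen d F K t n ι) (hι₂ : IsGen d F K₂ t n ι₂)
    (g : GL (Fin d ⊕ Fin d) F) (hg : g ∈ Cfsg.spGL d F)
    (hconj : (g : Matrix (Fin d ⊕ Fin d) (Fin d ⊕ Fin d) F) * ι =
      ι₂ * (g : Matrix (Fin d ⊕ Fin d) (Fin d ⊕ Fin d) F)) :
    (Cfsg.Geo.subalgebraNormalizer K).relIndex (Cfsg.spGL d F) =
      (Cfsg.Geo.subalgebraNormalizer K₂).relIndex (Cfsg.spGL d F) := by
  have hA := NORMCONJ.conj_mem_iff d t n K K₂ ι ι₂ hι hι₂ g hconj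
  have h1 : MulAut.conj g • Cfsg.Geo.subalgebraNormalizer K = Cfsg.Geo.subalgebraNormalizer K₂ := by
    ext y
    rw [Subgroup.mem_pointwise_smul_iff_inv_smul_mem, ← NORMCONJ.normalizer_conj d K K₂ g hA y]
    have : (MulAut.conj g)⁻¹ • y = g⁻¹ * y * g := by
      rw [← map_inv, MulAut.smul_def, MulAut.conj_apply, inv_inv]
    rw [this]
  have h2 : MulAut.conj g • Cfsg.spGL d F = Cfsg.spGL d F := Subgroup.conj_smul_eq_self_of_mem hg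
  have h3 := Subgroup.relIndex_pointwise_smul (MulAut.conj g) (Cfsg.Geo.subalgebraNormalizer K)
    (Cfsg.spGL d F)
  rw [h1, h2] at h3
  exact h3.symm

end Cfsg.Agent.S5976P
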