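import Mathlib
import Cfsg.Agent.Helper29.WinterDefs
import Cfsg.Agent.Helper29.GalConjA
import Cfsg.Agent.Helper29.RealPPrimeB
import Cfsg.Agent.Helper24.Restrict
import Cfsg.Agent.Helper24.GlaubCyc
import Cfsg.Agent.Helper8.CharComp
set_option autoImplicit false
namespace Cfsg.Agent.S4467P
open Cfsg Cfsg.Agent.Helper24
open scoped commutatorElement
universe u

namespace RAM

/-- a central element of `G` lying in `H`, not `1`, is not in the kernel of a constituent `θ` of
the restriction to `H` of the faithful irreducible character `χ`. -/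
theorem constituent_ne {G : Type u} [Group G] [Fintype G] (χ : IrrCharacter G)
    (hfaith : ∀ g : G, (χ : G → ℂ) g = (χ : G → ℂ) 1 → g = 1)
    (H : Subgroup G) [Fintype H] (θ : IrrCharacter H)
    (hcon : classInner (fun h : H => (χ : G → ℂ) h) (θ : H → ℂ) ≠ 0)
    (z : H) (hz : (z : G) ∈ Subgroup.center G) (hz1 : z ≠ 1) :
    (θ : H → ℂ) z ≠ (θ : H → ℂ) 1 := by
  classical
  have : Finite G := Finite.of_fintype G
  intro heq
  apply hz1
  have hzG : ∀ d : G, d * (z : G) = (z : G) * d := fun d => Subgroup.mem_center_iff.mp hz d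
  have hzH : ∀ d : H, d * z = z * d := by
    intro d
    apply Subtype.ext
    exact hzG d
  obtain ⟨ω, -, hω⟩ := exists_central_scalar χ (z : G) hzG
  obtain ⟨ω', -, hω'⟩ := exists_central_scalar θ z hzH
  have hθ1 : (θ : H → ℂ) 1 ≠ 0 := by
    rw [irrDeg_spec]
    exact_mod_cast (irrDeg_pos θ).ne'
  have hω'1 : ω' = 1 := by
    have h1 := hω' 1 1
    rw [pow_one, pow_one, one_mul, heq] at h1
    have h2 : (1 - ω') * (θ : H → ℂ) 1 = 0 := by rw [sub_mul, one_mul, ← h1, sub_self]
    rcases mul_eq_zero.mp h2 with h | h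
    · exact (sub_eq_zero.mp h).symm
    · exact absurd h hθ1
  -- the sum
  set S : ℂ := ∑ h : H, (χ : G → ℂ) h * (starRingEnd ℂ) ((θ : H → ℂ) h) with hS
  have hS0 : S ≠ 0 := by
    intro h0
    apply hcon
    unfold classInner
    rw [← hS, h0, mul_zero]
  have hS2 : S = ω * S := by
    have h1 : S = ∑ h : H, (χ : G → ℂ) ((h * z : H) : G) * (starRingEnd ℂ) ((θ : H → ℂ) (h * z)) := by
      rw [hS]
      exact (Fintype.sum_equiv (Equiv.mulRight z) _ _ (fun h => rfl)).symm
    have h1' : (∑ h : H, (χ : G → ℂ) ((h * z : H) : G) * (starRingEnd ℂ) ((θ : H → ℂ) (h * z)))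
        = ω * S := by
      rw [hS, Finset.mul_sum]
      refine Finset.sum_congr rfl fun h _ => ?_
      have h2 := hω (h : G) 1
      have h3 := hω' h 1
      rw [pow_one, pow_one] at h2 h3
      rw [hω'1, one_mul] at h3
      rw [h3, Subgroup.coe_mul, h2, mul_assoc]
    exact h1.trans h1'
  have hω1 : ω = 1 := by
    have h2 : (1 - ω) * S = 0 := by rw [sub_mul, one_mul, ← hS2, sub_self]
    rcases mul_eq_zero.mp h2 with h | h
    · exact (sub_eq_zero.mp h).symm
    · exact absurd h hS0
  have h4 := hω 1 1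
  rw [pow_one, pow_one, one_mul, hω1, one_mul] at h4
  have := hfaith _ h4
  exact Subtype.ext this

end RAM

theorem card_eq_sq_mul_center {G : Type u} [Group G] [Finite G] (χ : IrrCharacter G)
    (hfaith : ∀ g : G, (χ : G → ℂ) g = (χ : G → ℂ) 1 → g = 1)
    (H : Subgroup G) (hZH : Subgroup.center G ≤ H) (hcomm : ⁅H, H⁆ ≤ Subgroup.center G)
    (hcen : ∀ h ∈ H, (∀ k ∈ H, k * h = h * k) → h ∈ Subgroup.center G) :
    ∃ s : ℕ, Nat.card H = s ^ 2 * Nat.card (Subgroup.center G) ∧ (H.Normal → s ∣ irrDeg χ) := by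
  classical
  have : Fintype G := Fintype.ofFinite G
  have : Fintype H := Fintype.ofFinite H
  have : Fintype (IrrCharacter H) := Fintype.ofFinite _
  have hres : IsCharacter H (fun h : H => (χ : G → ℂ) h) :=
    Helper8.isCharacter_restrict H (IsIrrCharacter.isCharacter χ.2)
  have hres0 : (fun h : H => (χ : G → ℂ) h) ≠ 0 := by
    intro h0
    have h1 := congrFun h0 1
    simp only [OneMemClass.coe_one, Pi.zero_apply] at h1
    rw [irrDeg_spec] at h1
    have := (irrDeg_pos χ).ne'
    exact this (by exact_mod_cast h1)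
  obtain ⟨θ, hθ⟩ := IsCharacter.exists_irr_constituent hres hres0
  -- the centre of H
  have hcenH : Subgroup.center H = (Subgroup.center G).subgroupOf H := by
    ext h
    rw [Subgroup.mem_subgroupOf, Subgroup.mem_center_iff]
    constructor
    · intro hh
      apply hcen h h.2
      intro k hk
      have := hh ⟨k, hk⟩
      exact congrArg Subtype.val this
    · intro hh k
      apply Subtype.ext
      exact Subgroup.mem_center_iff.mp hh k
  have hvan : ∀ h : H, h ∉ Subgroup.center H → (θ : H → ℂ) h = 0 := by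
    intro h hh
    rw [Subgroup.mem_center_iff] at hh
    push Not at hh
    obtain ⟨k, hk⟩ := hh
    have hz1 : ⁅k, h⁆ ≠ 1 := by
      intro h1
      apply hk
      rw [commutatorElement_eq_one_iff_mul_comm] at h1
      exact h1
    have hzG : ((⁅k, h⁆ : H) : G) ∈ Subgroup.center G := by
      apply hcomm
      have : ((⁅k, h⁆ : H) : G) = ⁅(k : G), (h : G)⁆ := by
        simp [commutatorElement_def]
      rw [this]
      exact Subgroup.commutator_mem_commutator k.2 h.2
    have hzH : ⁅k, h⁆ ∈ Subgroup.center H := by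
      rw [hcenH, Subgroup.mem_subgroupOf]
      exact hzG
    exact Helper29.GalConj.irr_eq_zero_of_comm θ k h hzH
      (RAM.constituent_ne χ hfaith H θ hθ _ hzG hz1)
  have hcard := Helper29.GalConj.irrDeg_sq_mul_card_center_eq θ hvan
  have hcc : Nat.card (Subgroup.center H) = Nat.card (Subgroup.center G) := by
    rw [hcenH]
    exact Nat.card_congr (Subgroup.subgroupOfEquivOfLe hZH).toEquiv
  refine ⟨irrDeg θ, ?_, ?_⟩
  · rw [← hcard, hcc]
  · intro hN
    haveI := hN
    exact Helper29.RealPP.irrDeg_dvd_of_constituent H χ θ hθ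

end Cfsg.Agent.S4467P
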