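import Mathlib
import Cfsg.Agent.Helper29.WinterDefs
set_option autoImplicit false
namespace Cfsg.Agent.S4467P
open Cfsg Cfsg.Agent.Helper24
open scoped commutatorElement
universe u

namespace C1B

/-- A normal subgroup containing a Sylow `p`-subgroup contains every `p`-subgroup. -/
theorem pgroup_le_of_normal {T : Type u} [Group T] [Finite T] (p : ℕ) [Fact p.Prime]
    (Q : Sylow p T) (L : Subgroup T) [hL : L.Normal] (hQL : (Q : Subgroup T) ≤ L)
    (S : Subgroup T) (hS : IsPGroup p S) : S ≤ L := by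
  obtain ⟨Q', hQ'⟩ := hS.exists_le_sylow
  obtain ⟨t, ht⟩ := MulAction.exists_smul_eq T Q Q'
  intro y hy
  have h1 : y ∈ (Q' : Subgroup T) := hQ' hy
  rw [← ht, Sylow.coe_subgroup_smul, Subgroup.mem_pointwise_smul_iff_inv_smul_mem] at h1
  have h2 : (MulAut.conj t)⁻¹ • y ∈ L := hQL h1
  rw [MulAut.smul_def, MulAut.conj_inv_apply] at h2
  have h3 := hL.conj_mem _ h2 t
  have : t * (t⁻¹ * y * t) * t⁻¹ = y := by group
  rw [this] at h3
  exact h3

/-- For `y ∈ Q ⊔ K`, `K` normal: `y ^ |Q| ∈ K`. -/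
theorem pow_card_mem_of_mem_sup {T : Type u} [Group T] [Finite T]
    (Q K : Subgroup T) [hK : K.Normal] (y : T) (hy : y ∈ Q ⊔ K) : y ^ Nat.card Q ∈ K := by
  have h1 : (QuotientGroup.mk' K) y ∈ (Q ⊔ K).map (QuotientGroup.mk' K) :=
    Subgroup.mem_map_of_mem _ hy
  rw [Subgroup.map_sup, QuotientGroup.map_mk'_self, sup_bot_eq] at h1
  obtain ⟨q, hq, hqy⟩ := Subgroup.mem_map.mp h1
  have h2 : q ^ Nat.card Q = 1 := by
    have := pow_card_eq_one' (G := Q) (x := ⟨q, hq⟩)
    exact congrArg Subtype.val this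
  have h3 : (QuotientGroup.mk' K) (y ^ Nat.card Q) = 1 := by
    rw [map_pow, ← hqy, ← map_pow, h2, map_one]
  exact (QuotientGroup.eq_one_iff _).mp h3

/-- if all conjugates of `y` lie in (the image of) the kernel of `ψ`, the induced function takes
the same value at `y` and at `1`. -/
theorem indFun_eq_of_conj_mem {G : Type u} [Group G] [Fintype G] (T : Subgroup G)
    (ψ : IrrCharacter T) (y : G)
    (hy : ∀ g : G, ∃ h : g⁻¹ * y * g ∈ T, (⟨g⁻¹ * y * g, h⟩ : T) ∈ irrKer ψ) :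
    indFun T (ψ : T → ℂ) y = indFun T (ψ : T → ℂ) 1 := by
  unfold indFun
  congr 1
  refine Finset.sum_congr rfl fun g _ => ?_
  obtain ⟨h, hk⟩ := hy g
  have h1 : extendByZero T (ψ : T → ℂ) (g⁻¹ * y * g) = (ψ : T → ℂ) ⟨g⁻¹ * y * g, h⟩ := by
    unfold extendByZero
    exact Subtype.val_injective.extend_apply _ _ (⟨g⁻¹ * y * g, h⟩ : T)
  have h2 : extendByZero T (ψ : T → ℂ) (g⁻¹ * 1 * g) = (ψ : T → ℂ) 1 := by
    unfold extendByZero
    have : g⁻¹ * 1 * g = ((1 : T) : G) := by simp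
    rw [this]
    exact Subtype.val_injective.extend_apply _ _ (1 : T)
  rw [h1, h2]
  exact (mem_irrKer ψ _).mp hk

end C1B

theorem normal_of_induced {G : Type u} [Group G] [Fintype G] (χ : IrrCharacter G)
    (hfaith : ∀ g : G, (χ : G → ℂ) g = (χ : G → ℂ) 1 → g = 1)
    (T : Subgroup G) (ψ : IrrCharacter T) (hind : indFun T (ψ : T → ℂ) = (χ : G → ℂ))
    (p : ℕ) (hp : p.Prime) (P : Sylow p G) (hall : ∀ g : G, ∀ x ∈ P, g * x * g⁻¹ ∈ T)
    (hnorm : ∀ Q : Sylow p T, ((Q : Subgroup T) ⊔ irrKer ψ).Normal) :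
    (P : Subgroup G).Normal := by
  classical
  haveI : Fact p.Prime := ⟨hp⟩
  haveI : Finite G := Finite.of_fintype G
  obtain ⟨Q⟩ : Nonempty (Sylow p T) := inferInstance
  set K : Subgroup T := irrKer ψ with hK
  set L : Subgroup T := (Q : Subgroup T) ⊔ K with hL
  haveI hLn : L.Normal := hnorm Q
  set L' : Subgroup G := L.map T.subtype with hL'
  set R : Subgroup G := L'.normalCore with hR
  have hRn : R.Normal := Subgroup.normalCore_normal L'
  -- P ≤ R
  have hPR : (P : Subgroup G) ≤ R := by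
    intro x hx
    show ∀ b : G, b * x * b⁻¹ ∈ L'
    intro g
    have hT : ∀ x' ∈ (P : Subgroup G), g * x' * g⁻¹ ∈ T := fun x' hx' => hall g x' hx'
    -- the p-subgroup g P g⁻¹ of T
    set S : Subgroup T := ((P : Subgroup G).map (MulAut.conj g).toMonoidHom).subgroupOf T with hS
    have hSp : IsPGroup p S := by
      have h1 : IsPGroup p ((P : Subgroup G).map (MulAut.conj g).toMonoidHom) := P.2.map _
      exact h1.comap_subtype
    have hSL : S ≤ L := C1B.pgroup_le_of_normal p Q L le_sup_left S hSp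
    have hmem : (⟨g * x * g⁻¹, hT x hx⟩ : T) ∈ S := by
      rw [hS, Subgroup.mem_subgroupOf]
      refine Subgroup.mem_map.mpr ⟨x, hx, ?_⟩
      simp [MulAut.conj_apply]
    rw [hL']
    exact Subgroup.mem_map.mpr ⟨_, hSL hmem, rfl⟩
  -- R is a p-group
  have hRp : IsPGroup p R := by
    obtain ⟨n, hn⟩ := IsPGroup.iff_card.mp Q.2
    intro x
    refine ⟨n, ?_⟩
    apply Subtype.ext
    rw [Subgroup.coe_pow, Subgroup.coe_one]
    apply hfaith
    rw [← hind]
    apply C1B.indFun_eq_of_conj_mem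
    intro g
    have hx : ∀ b : G, b * (x : G) * b⁻¹ ∈ L' := x.2
    have h1 := hx g⁻¹
    rw [inv_inv, hL'] at h1
    obtain ⟨l, hl, hlx⟩ := Subgroup.mem_map.mp h1
    have h2 : l ^ Nat.card Q ∈ K := C1B.pow_card_mem_of_mem_sup (Q : Subgroup T) K l hl
    have h3 : ((l ^ Nat.card Q : T) : G) = g⁻¹ * (x : G) ^ p ^ n * g := by
      rw [Subgroup.coe_pow]
      have : (l : G) = g⁻¹ * (x : G) * g := hlx
      rw [this, hn]
      have h5 := conj_pow (a := g⁻¹) (b := (x : G)) (i := p ^ n)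
      rw [inv_inv] at h5
      exact h5
    have h4 : g⁻¹ * (x : G) ^ p ^ n * g ∈ T := by
      rw [← h3]; exact (l ^ Nat.card Q).2
    refine ⟨h4, ?_⟩
    have : (⟨g⁻¹ * (x : G) ^ p ^ n * g, h4⟩ : T) = l ^ Nat.card Q := Subtype.ext h3.symm
    rw [this]
    exact h2
  have hRP : R = (P : Subgroup G) := P.is_maximal' hRp hPR
  rw [← hRP]
  exact hRn

end Cfsg.Agent.S4467P
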