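import Mathlib
import Cfsg.Prelude.Def_KGroupFacts

/-!
Twisting the multiplication of a group by the carry cocycle of a homomorphism to `ZMod n` and a
central element.
-/

set_option autoImplicit false

namespace Cfsg.Agent.Helper8.CarryTwist

open scoped commutatorElement

universe u v

/-- the carry of the addition of two residues -/
def carry {n : ℕ} (a b : ZMod n) : ℕ := (a.val + b.val) / n

section Carry

variable {n : ℕ} [NeZero n]

theorem carry_comm (a b : ZMod n) : carry a b = carry b a := by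
  rw [carry, carry, add_comm]

theorem carry_zero_left (b : ZMod n) : carry 0 b = 0 := by
  rw [carry, ZMod.val_zero, zero_add]
  exact Nat.div_eq_of_lt (ZMod.val_lt b)

theorem carry_zero_right (b : ZMod n) : carry b 0 = 0 := by
  rw [carry_comm, carry_zero_left]

theorem carry_add (x y z : ZMod n) :
    carry x y + carry (x + y) z = (x.val + y.val + z.val) / n := by
  rw [carry, carry, ZMod.val_add]
  have hn : 0 < n := NeZero.pos n
  conv_rhs => rw [← Nat.div_add_mod (x.val + y.val) n]
  rw [add_assoc, Nat.mul_add_div hn]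

theorem carry_assoc (a b c : ZMod n) :
    carry a b + carry (a + b) c = carry b c + carry a (b + c) := by
  rw [carry_add, carry_comm a (b + c), carry_add]
  congr 1
  ring

end Carry

/-- the data of a twist: a homomorphism to `ZMod n` and a central element in its kernel -/
structure TwistData (Γ : Type u) [Group Γ] (n : ℕ) where
  /-- the homomorphism -/
  lam : Γ →* Multiplicative (ZMod n)
  /-- the central element -/
  z₀ : Γ
  central : z₀ ∈ Subgroup.center Γ
  lam_z₀ : lam z₀ = 1

variable {Γ : Type u} [Group Γ] {n : ℕ}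

/-- the additive value of the homomorphism -/
def TwistData.l (d : TwistData Γ n) (g : Γ) : ZMod n := Multiplicative.toAdd (d.lam g)

namespace TwistData

variable (d : TwistData Γ n)

theorem l_mul (g h : Γ) : d.l (g * h) = d.l g + d.l h := by
  simp [l]

theorem l_one : d.l 1 = 0 := by
  simp [l]

theorem l_inv (g : Γ) : d.l g⁻¹ = - d.l g := by
  simp [l]

theorem l_z₀_pow (k : ℕ) : d.l (d.z₀ ^ k) = 0 := by
  simp [l, d.lam_z₀]

theorem l_commutator (g h : Γ) : d.l ⁅g, h⁆ = 0 := by
  rw [commutatorElement_def, l_mul, l_mul, l_mul, l_inv, l_inv]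
  abel

theorem l_eq_zero_of_mem_commutator {g : Γ} (hg : g ∈ commutator Γ) : d.l g = 0 := by
  have h1 := Abelianization.commutator_subset_ker d.lam hg
  rw [MonoidHom.mem_ker] at h1
  rw [l, h1]
  rfl

theorem z₀_pow_comm (g : Γ) (k : ℕ) : d.z₀ ^ k * g = g * d.z₀ ^ k :=
  (Subgroup.mem_center_iff.mp (Subgroup.pow_mem _ d.central k) g).symm

end TwistData

/-- the twisted group -/
structure Tw (d : TwistData Γ n) : Type u where
  /-- the underlying element -/
  val : Γ

namespace Tw

variable {d : TwistData Γ n}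

@[ext] theorem ext' {x y : Tw d} (h : x.val = y.val) : x = y := by
  cases x; cases y; simp_all

instance instMul : Mul (Tw d) :=
  ⟨fun x y => ⟨x.val * y.val * d.z₀ ^ carry (d.l x.val) (d.l y.val)⟩⟩

instance instOne : One (Tw d) := ⟨⟨1⟩⟩

instance instInv : Inv (Tw d) :=
  ⟨fun x => ⟨x.val⁻¹ * (d.z₀ ^ carry (d.l x.val) (d.l x.val⁻¹))⁻¹⟩⟩

theorem val_mul (x y : Tw d) :
    (x * y).val = x.val * y.val * d.z₀ ^ carry (d.l x.val) (d.l y.val) := rfl

theorem val_one : (1 : Tw d).val = 1 := rfl

theorem val_inv (x : Tw d) :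
    (x⁻¹).val = x.val⁻¹ * (d.z₀ ^ carry (d.l x.val) (d.l x.val⁻¹))⁻¹ := rfl

theorem aux_assoc (x y z c c' c'' c''' : Γ) (hc : c * z = z * c) (h : c * c' = c'' * c''') :
    (x * y * c) * z * c' = x * (y * z * c'') * c''' := by
  calc (x * y * c) * z * c' = x * y * (c * z) * c' := by group
    _ = x * y * (z * c) * c' := by rw [hc]
    _ = x * y * z * (c * c') := by group
    _ = x * y * z * (c'' * c''') := by rw [h]
    _ = x * (y * z * c'') * c''' := by group

variable [NeZero n]

instance instGroup : Group (Tw d) where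
  mul_assoc x y z := by
    apply ext'
    rw [val_mul, val_mul, val_mul, val_mul]
    apply aux_assoc
    · exact d.z₀_pow_comm _ _
    · rw [← pow_add, ← pow_add, d.l_mul, d.l_z₀_pow, add_zero, d.l_mul, d.l_mul, d.l_mul,
        d.l_z₀_pow, add_zero, carry_assoc]
  one_mul x := by
    apply ext'
    rw [val_mul, val_one, d.l_one, carry_zero_left, pow_zero, mul_one, one_mul]
  mul_one x := by
    apply ext'
    rw [val_mul, val_one, d.l_one, carry_zero_right, pow_zero, mul_one, mul_one]
  inv_mul_cancel x := by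
    apply ext'
    rw [val_mul, val_inv, val_one]
    have h1 : d.l (x.val⁻¹ * (d.z₀ ^ carry (d.l x.val) (d.l x.val⁻¹))⁻¹) = d.l x.val⁻¹ := by
      rw [d.l_mul, d.l_inv (d.z₀ ^ _), d.l_z₀_pow, neg_zero, add_zero]
    rw [h1, carry_comm (d.l x.val⁻¹)]
    have h2 := d.z₀_pow_comm x.val (carry (d.l x.val) (d.l x.val⁻¹))
    calc x.val⁻¹ * (d.z₀ ^ carry (d.l x.val) (d.l x.val⁻¹))⁻¹ * x.val *
          d.z₀ ^ carry (d.l x.val) (d.l x.val⁻¹)
        = x.val⁻¹ * (d.z₀ ^ carry (d.l x.val) (d.l x.val⁻¹))⁻¹ *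
          (x.val * d.z₀ ^ carry (d.l x.val) (d.l x.val⁻¹)) := by group
      _ = x.val⁻¹ * (d.z₀ ^ carry (d.l x.val) (d.l x.val⁻¹))⁻¹ *
          (d.z₀ ^ carry (d.l x.val) (d.l x.val⁻¹) * x.val) := by rw [h2]
      _ = 1 := by group

/-- multiplication by an element on which the homomorphism vanishes is not twisted -/
theorem val_mul_of_left {x y : Tw d} (hx : d.l x.val = 0) : (x * y).val = x.val * y.val := by
  rw [val_mul, hx, carry_zero_left, pow_zero, mul_one]

theorem val_mul_of_right {x y : Tw d} (hy : d.l y.val = 0) : (x * y).val = x.val * y.val := by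
  rw [val_mul, hy, carry_zero_right, pow_zero, mul_one]

theorem val_inv_of {x : Tw d} (hx : d.l x.val = 0) : (x⁻¹).val = x.val⁻¹ := by
  rw [val_inv, hx, carry_zero_left, pow_zero, inv_one, mul_one]

/-- the commutators of the twisted group are the commutators of the group -/
theorem val_commutator (x y : Tw d) : ⁅x, y⁆.val = ⁅x.val, y.val⁆ := by
  have h1 : x * y = (⟨⁅x.val, y.val⁆⟩ : Tw d) * (y * x) := by
    apply ext'
    rw [val_mul_of_left (d.l_commutator _ _), val_mul, val_mul, carry_comm (d.l y.val)]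
    rw [commutatorElement_def]
    group
  have h2 : ⁅x, y⁆ = (⟨⁅x.val, y.val⁆⟩ : Tw d) := by
    rw [commutatorElement_def, h1]
    group
  rw [h2]

/-- elements of the commutator subgroup of the group lie in the commutator subgroup of the twisted
group -/
theorem mk_mem_commutator (g : Γ) (hg : g ∈ commutator Γ) :
    (⟨g⟩ : Tw d) ∈ commutator (Tw d) := by
  rw [commutator_eq_closure] at hg
  induction hg using Subgroup.closure_induction with
  | mem x hx =>
    obtain ⟨a, b, rfl⟩ := hx
    have h1 : (⟨⁅a, b⁆⟩ : Tw d) = ⁅(⟨a⟩ : Tw d), ⟨b⟩⁆ := by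
      apply ext'
      rw [val_commutator]
    rw [h1, commutator_def]
    exact Subgroup.commutator_mem_commutator (Subgroup.mem_top _) (Subgroup.mem_top _)
  | one => exact Subgroup.one_mem _
  | mul x y hx hy hx' hy' =>
    have hlx : d.l x = 0 := d.l_eq_zero_of_mem_commutator (by rw [commutator_eq_closure]; exact hx)
    have h1 : (⟨x * y⟩ : Tw d) = ⟨x⟩ * ⟨y⟩ := by
      apply ext'
      rw [val_mul_of_left hlx]
    rw [h1]
    exact Subgroup.mul_mem _ hx' hy'
  | inv x hx hx' =>
    have hlx : d.l x = 0 := d.l_eq_zero_of_mem_commutator (by rw [commutator_eq_closure]; exact hx)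
    have h1 : (⟨x⁻¹⟩ : Tw d) = (⟨x⟩ : Tw d)⁻¹ := by
      apply ext'
      rw [val_inv_of hlx]
    rw [h1]
    exact Subgroup.inv_mem _ hx'

section Proj

variable {Q : Type v} [Group Q] (σ : Γ →* Q)

/-- the projection of the twisted group -/
def proj (d : TwistData Γ n) (hσ : σ d.z₀ = 1) : Tw d →* Q where
  toFun x := σ x.val
  map_one' := by rw [val_one, map_one]
  map_mul' x y := by rw [val_mul, map_mul, map_mul, map_pow, hσ, one_pow, mul_one]

theorem proj_apply (hσ : σ d.z₀ = 1) (x : Tw d) : proj σ d hσ x = σ x.val := rfl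

theorem mem_ker_proj (hσ : σ d.z₀ = 1) (x : Tw d) : x ∈ (proj σ d hσ).ker ↔ x.val ∈ σ.ker := by
  rw [MonoidHom.mem_ker, MonoidHom.mem_ker, proj_apply]

/-- the kernel of the twisted extension is the kernel of the extension -/
def kerEquiv (hσ : σ d.z₀ = 1) (hker : ∀ g ∈ σ.ker, d.l g = 0) :
    (proj σ d hσ).ker ≃* σ.ker where
  toFun x := ⟨x.1.val, (mem_ker_proj σ hσ x.1).mp x.2⟩
  invFun g := ⟨⟨g.1⟩, (mem_ker_proj σ hσ _).mpr g.2⟩
  left_inv _ := rfl
  right_inv _ := rfl
  map_mul' x y := by
    apply Subtype.ext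
    show (x.1 * y.1).val = x.1.val * y.1.val
    rw [val_mul_of_left (hker _ ((mem_ker_proj σ hσ x.1).mp x.2))]

theorem isStemExtension_proj (hσ : σ d.z₀ = 1) (hker : ∀ g ∈ σ.ker, d.l g = 0)
    (hs : Cfsg.IsStemExtension σ) : Cfsg.IsStemExtension (proj σ d hσ) := by
  refine ⟨?_, ?_, ?_⟩
  · intro q
    obtain ⟨g, hg⟩ := hs.1 q
    exact ⟨⟨g⟩, hg⟩
  · intro x hx
    rw [mem_ker_proj] at hx
    rw [Subgroup.mem_center_iff]
    intro y
    apply ext'
    rw [val_mul_of_right (hker _ hx), val_mul_of_left (hker _ hx)]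
    exact Subgroup.mem_center_iff.mp (hs.2.1 hx) _
  · intro x hx
    rw [mem_ker_proj] at hx
    exact mk_mem_commutator x.val (hs.2.2 hx)

end Proj

end Tw

end Cfsg.Agent.Helper8.CarryTwist
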