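import Mathlib
import Cfsg.Agent.Helper18.DihFusion

/-!
Groups in which the centralizer of an involution `t` is dihedral of order `8`: the structure
of the centralizer inside `G`.
-/

set_option autoImplicit false

namespace Cfsg.Agent.Helper8.D8

open DihedralGroup

/-- a perfect group has no subgroup of index two -/
theorem no_index_two {G : Type*} [Group G] (hperf : commutator G = ⊤) :
    ∀ H : Subgroup G, H.index ≠ 2 := by
  intro H hH
  haveI : H.Normal := Subgroup.normal_of_index_eq_two hH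
  have hcard : Nat.card (G ⧸ H) = 2 := hH
  haveI : Fact (Nat.Prime 2) := ⟨Nat.prime_two⟩
  haveI : IsCyclic (G ⧸ H) := isCyclic_of_prime_card hcard
  have hc : IsMulCommutative (G ⧸ H) := IsCyclic.commutative
  have hle := Subgroup.Normal.quotient_commutative_iff_commutator_le.mp hc
  rw [hperf, top_le_iff] at hle
  rw [hle, Subgroup.index_top] at hH
  omega

theorem center_d8 : ∀ x : DihedralGroup 4, (∀ y, x * y = y * x) → x = 1 ∨ x = r 2 := by decide

theorem d8_norm : ∀ (y : DihedralGroup 4) (i : ZMod 4), ∃ j : ZMod 4, y⁻¹ * r i * y = r j := by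
  decide

theorem d8_idx : ∀ y : DihedralGroup 4, (¬ ∃ i : ZMod 4, r i = y) →
    ∃ j : ZMod 4, r j = (sr 0)⁻¹ * y := by
  decide

theorem d8_ti : ∀ i j : ZMod 4, i ≠ 0 → j ≠ 0 →
    ((r i : DihedralGroup 4) ^ 2 = 1 ↔ (r j : DihedralGroup 4) ^ 2 = 1) →
    ((r i : DihedralGroup 4) = r 2 ∧ (r j : DihedralGroup 4) = r 2) ∨
      ((r i : DihedralGroup 4) ^ 2 = r 2 ∧ (r j : DihedralGroup 4) ^ 2 = r 2) := by
  decide

theorem d8_cent : ∀ y : DihedralGroup 4, y * r 1 = r 1 * y → ∃ i : ZMod 4, r i = y := by decide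

theorem d8_invol : ∀ y : DihedralGroup 4, y * y = 1 → y ≠ 1 → y ≠ r 2 →
    ∃ i : ZMod 4, sr i = y := by decide

theorem d8_invol_a : ∀ y : DihedralGroup 4, y * y = 1 → (y⁻¹ * r 1) * (y⁻¹ * r 1) = 1 →
    ∃ i : ZMod 4, sr i = y := by decide

theorem d8_sr_r2 : ∀ i : ZMod 4, (sr i : DihedralGroup 4)⁻¹ * r 2 = sr (i + 2) := by decide

theorem d8_sr_r1 : ∀ i : ZMod 4, (sr i : DihedralGroup 4)⁻¹ * r 1 = sr (i + 1) := by decide

theorem orderOf_of_isConj {G : Type*} [Group G] {x y : G} (h : IsConj x y) :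
    orderOf y = orderOf x := by
  obtain ⟨c, hc⟩ := isConj_iff.mp h
  rw [← hc]
  exact orderOf_injective (MulAut.conj c).toMonoidHom (MulAut.conj c).injective x

theorem d8_rot : ∀ i : ZMod 4, i ≠ 0 → (r i : DihedralGroup 4) = r 1 ∨ (r i : DihedralGroup 4) = r 2 ∨
    (r i : DihedralGroup 4) = (sr 0)⁻¹ * r 1 * sr 0 := by
  decide

theorem comm_of_inverts {G : Type*} [Group G] {x a t : G} (hxx : x * x = 1) (haa : a * a = t)
    (htt : t * t = 1) (h : x⁻¹ * a * (x⁻¹ * a) = 1) : x * t = t * x := by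
  subst haa
  have hxi : x⁻¹ = x := inv_eq_of_mul_eq_one_right hxx
  rw [hxi] at h
  have h3 : (x * a)⁻¹ = x * a := inv_eq_of_mul_eq_one_right h
  rw [mul_inv_rev, hxi] at h3
  have h4 : (a * a)⁻¹ = a * a := inv_eq_of_mul_eq_one_right htt
  calc x * (a * a) = (x * a) * a := by rw [mul_assoc]
    _ = a⁻¹ * (x * a) := by rw [← mul_assoc, h3]
    _ = a⁻¹ * (a⁻¹ * x) := by rw [h3]
    _ = (a * a)⁻¹ * x := by rw [mul_inv_rev, mul_assoc]
    _ = a * a * x := by rw [h4]

theorem conj_pow_inv {G : Type*} [Group G] (x c : G) (k : ℕ) :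
    (x⁻¹ * c * x) ^ k = x⁻¹ * c ^ k * x := by
  have := conj_pow (a := x⁻¹) (b := c) (i := k)
  rwa [inv_inv] at this

variable {G : Type*} [Group G] (t : G)
  (e : Subgroup.centralizer ({t} : Set G) ≃* DihedralGroup 4)

/-- the embedding of the dihedral group in `G` -/
noncomputable def emb : DihedralGroup 4 →* G :=
  (Subgroup.centralizer ({t} : Set G)).subtype.comp e.symm.toMonoidHom

theorem emb_apply (y : DihedralGroup 4) : emb t e y = (e.symm y : G) := rfl

theorem emb_injective : Function.Injective (emb t e) := by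
  intro x y h
  apply e.symm.injective
  exact Subtype.ext h

theorem emb_mem (y : DihedralGroup 4) : emb t e y ∈ Subgroup.centralizer ({t} : Set G) :=
  (e.symm y).2

theorem emb_e (x : Subgroup.centralizer ({t} : Set G)) : emb t e (e x) = x := by
  rw [emb_apply, MulEquiv.symm_apply_apply]

theorem mem_iff (x : G) : x ∈ Subgroup.centralizer ({t} : Set G) ↔ ∃ y, emb t e y = x := by
  constructor
  · intro hx
    exact ⟨e ⟨x, hx⟩, emb_e t e ⟨x, hx⟩⟩
  · rintro ⟨y, rfl⟩
    exact emb_mem t e y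

theorem comm_iff (x : G) : x * t = t * x ↔ ∃ y, emb t e y = x := by
  rw [← mem_iff, Subgroup.mem_centralizer_singleton_iff]

theorem t_mem : t ∈ Subgroup.centralizer ({t} : Set G) :=
  Subgroup.mem_centralizer_singleton_iff.mpr rfl

theorem emb_r2 (ht : t ≠ 1) : emb t e (r 2) = t := by
  have hc : ∀ y, e ⟨t, t_mem t⟩ * y = y * e ⟨t, t_mem t⟩ := by
    intro y
    obtain ⟨w, rfl⟩ := e.surjective y
    rw [← map_mul, ← map_mul]
    congr 1
    apply Subtype.ext
    have := Subgroup.mem_centralizer_singleton_iff.mp w.2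
    exact this.symm
  rcases center_d8 _ hc with h | h
  · exfalso
    apply ht
    have h1 : (⟨t, t_mem t⟩ : Subgroup.centralizer ({t} : Set G)) = 1 := by
      apply e.injective
      rw [h, map_one]
    exact congrArg Subtype.val h1
  · rw [← h, emb_e]

include e

theorem card_centralizer : Nat.card (Subgroup.centralizer ({t} : Set G)) = 8 := by
  rw [Nat.card_congr e.toEquiv, DihedralGroup.nat_card]

/-- the centralizer is a Sylow `2`-subgroup -/
theorem exists_sylow [Finite G] (ht : t ≠ 1) :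
    ∃ S : Sylow 2 G, (S : Subgroup G) = Subgroup.centralizer ({t} : Set G) := by
  haveI : Fact (Nat.Prime 2) := ⟨Nat.prime_two⟩
  have hD : IsPGroup 2 (Subgroup.centralizer ({t} : Set G)) :=
    IsPGroup.of_card (n := 3) (by rw [card_centralizer t e]; norm_num)
  obtain ⟨P, hP⟩ := hD.exists_le_sylow
  refine ⟨P, le_antisymm ?_ hP⟩
  have htP : t ∈ P := hP (t_mem t)
  haveI : Nontrivial P := ⟨⟨⟨t, htP⟩, 1, fun h => ht (congrArg Subtype.val h)⟩⟩
  haveI := P.isPGroup'.center_nontrivial
  obtain ⟨z, hz⟩ := exists_ne (1 : Subgroup.center P)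
  have hzc : ∀ x : P, x * (z : P) = (z : P) * x := fun x => Subgroup.mem_center_iff.mp z.2 x
  have hzt : ((z : P) : G) * t = t * ((z : P) : G) := by
    have := hzc ⟨t, htP⟩
    exact (congrArg Subtype.val this).symm
  obtain ⟨y, hy⟩ := (comm_iff t e _).mp hzt
  have hyc : ∀ w, y * w = w * y := by
    intro w
    apply emb_injective t e
    rw [map_mul, map_mul, hy]
    have := hzc ⟨emb t e w, hP (emb_mem t e w)⟩
    exact (congrArg Subtype.val this).symm
  have hzt' : ((z : P) : G) = t := by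
    rcases center_d8 y hyc with h | h
    · exfalso
      apply hz
      apply Subtype.ext
      apply Subtype.ext
      rw [← hy, h, map_one]
      rfl
    · rw [← hy, h, emb_r2 t e ht]
  intro x hx
  rw [Subgroup.mem_centralizer_singleton_iff]
  have := hzc ⟨x, hx⟩
  rw [← hzt']
  exact congrArg Subtype.val this

omit e in
theorem orderOf_emb (e : Subgroup.centralizer ({t} : Set G) ≃* DihedralGroup 4)
    (y : DihedralGroup 4) : orderOf (emb t e y) = orderOf y :=
  orderOf_injective (emb t e) (emb_injective t e) y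

/-- the cyclic subgroup of order four -/
noncomputable def C : Subgroup G := Subgroup.zpowers (emb t e (r 1))

omit e in
theorem mem_C (e : Subgroup.centralizer ({t} : Set G) ≃* DihedralGroup 4) (c : G) :
    c ∈ C t e ↔ ∃ i : ZMod 4, emb t e (r i) = c := by
  constructor
  · intro h
    obtain ⟨k, hk⟩ := Subgroup.mem_zpowers_iff.mp h
    refine ⟨(k : ZMod 4), ?_⟩
    rw [← hk, ← map_zpow, r_one_zpow]
  · rintro ⟨i, rfl⟩
    have h1 : (r i : DihedralGroup 4) = r 1 ^ i.val := by
      rw [r_one_pow, ZMod.natCast_zmod_val]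
    rw [h1, map_pow]
    exact Subgroup.pow_mem _ (Subgroup.mem_zpowers _) _

theorem C_le : C t e ≤ Subgroup.centralizer ({t} : Set G) := by
  intro c hc
  obtain ⟨i, rfl⟩ := (mem_C t e c).mp hc
  exact emb_mem t e _

theorem card_C : Nat.card (C t e) = 4 := by
  rw [C, Nat.card_zpowers, orderOf_emb, orderOf_r_one]

theorem card_eq : Nat.card (Subgroup.centralizer ({t} : Set G)) = 2 * Nat.card (C t e) := by
  rw [card_C, card_centralizer t e]

theorem norm_C : ∀ n ∈ Subgroup.centralizer ({t} : Set G), ∀ c ∈ C t e, n⁻¹ * c * n ∈ C t e := by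
  intro n hn c hc
  obtain ⟨y, rfl⟩ := (mem_iff t e n).mp hn
  obtain ⟨i, rfl⟩ := (mem_C t e c).mp hc
  obtain ⟨j, hj⟩ := d8_norm y i
  rw [mem_C]
  refine ⟨j, ?_⟩
  rw [← hj, map_mul, map_mul, map_inv]

theorem s_mem : emb t e (sr 0) ∈ Subgroup.centralizer ({t} : Set G) := emb_mem t e _

theorem idx_C : ∀ x ∈ Subgroup.centralizer ({t} : Set G), x ∉ C t e →
    (emb t e (sr 0))⁻¹ * x ∈ C t e := by
  intro x hx hxC
  obtain ⟨y, rfl⟩ := (mem_iff t e x).mp hx
  have hy : ¬ ∃ i : ZMod 4, r i = y := by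
    rintro ⟨i, rfl⟩
    exact hxC ((mem_C t e _).mpr ⟨i, rfl⟩)
  obtain ⟨j, hj⟩ := d8_idx y hy
  rw [mem_C]
  exact ⟨j, by rw [hj, map_mul, map_inv]⟩

theorem s_conj : (emb t e (sr 0))⁻¹ * emb t e (r 1) * emb t e (sr 0) = (emb t e (r 1))⁻¹ := by
  rw [← map_inv, ← map_inv, ← map_mul, ← map_mul]
  congr 1

theorem a_sq (ht : t ≠ 1) : emb t e (r 1) ^ 2 = t := by
  rw [← map_pow]
  exact (congrArg _ (by decide)).trans (emb_r2 t e ht)

theorem orderOf_a : orderOf (emb t e (r 1)) = 4 := by
  rw [orderOf_emb, orderOf_r_one]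

theorem ti_C (ht : t ≠ 1) : ∀ c ∈ C t e, c ≠ 1 → ∀ x : G, x⁻¹ * c * x ∈ C t e →
    x ∈ Subgroup.centralizer ({t} : Set G) := by
  intro c hc hc1 x hx
  obtain ⟨i, rfl⟩ := (mem_C t e c).mp hc
  obtain ⟨j, hj⟩ := (mem_C t e _).mp hx
  have hi : i ≠ 0 := by
    rintro rfl
    apply hc1
    rw [r_zero, map_one]
  have hj0 : j ≠ 0 := by
    rintro rfl
    rw [r_zero, map_one] at hj
    apply hc1
    have h1 : emb t e (r i) = x * (x⁻¹ * emb t e (r i) * x) * x⁻¹ := by group
    rw [h1, ← hj]
    group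
  have hpow : ∀ k : ℕ, emb t e (r j ^ k) = x⁻¹ * emb t e (r i ^ k) * x := by
    intro k
    rw [map_pow, map_pow, hj]
    exact conj_pow_inv x _ k
  have hiff : ((r i : DihedralGroup 4) ^ 2 = 1 ↔ (r j : DihedralGroup 4) ^ 2 = 1) := by
    constructor
    · intro h
      apply emb_injective t e
      rw [hpow 2, h, map_one]
      group
    · intro h
      apply emb_injective t e
      have h1 := hpow 2
      rw [h, map_one] at h1
      rw [map_one]
      have h2 : emb t e (r i ^ 2) = x * (x⁻¹ * emb t e (r i ^ 2) * x) * x⁻¹ := by group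
      rw [h2, ← h1]
      group
  have key : t = x⁻¹ * t * x := by
    rcases d8_ti i j hi hj0 hiff with ⟨h1, h2⟩ | ⟨h1, h2⟩
    · rw [h1, h2, emb_r2 t e ht] at hj
      exact hj
    · have h3 := hpow 2
      rw [h1, h2, emb_r2 t e ht] at h3
      exact h3
  rw [Subgroup.mem_centralizer_singleton_iff]
  calc x * t = x * (x⁻¹ * t * x) := by rw [← key]
    _ = t * x := by group

theorem centralizer_a (ht : t ≠ 1) :
    Subgroup.centralizer ({emb t e (r 1)} : Set G) = C t e := by
  apply le_antisymm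
  · intro x hx
    rw [Subgroup.mem_centralizer_singleton_iff] at hx
    have hxt : x * t = t * x := by
      have h1 := a_sq t e ht
      have h2 : Commute x (emb t e (r 1) ^ 2) := Commute.pow_right hx 2
      rw [h1] at h2
      exact h2.eq
    obtain ⟨y, rfl⟩ := (comm_iff t e x).mp hxt
    rw [← map_mul, ← map_mul] at hx
    obtain ⟨i, hi⟩ := d8_cent y (emb_injective t e hx)
    rw [mem_C]
    exact ⟨i, by rw [hi]⟩
  · rw [C, Subgroup.zpowers_le]
    exact Subgroup.mem_centralizer_singleton_iff.mpr rfl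

theorem card_centralizer_a (ht : t ≠ 1) :
    Nat.card (Subgroup.centralizer ({emb t e (r 1)} : Set G)) = 4 := by
  rw [centralizer_a t e ht, card_C]

theorem count_t (ht2 : orderOf t = 2)
    (hconj : ∀ x y : G, orderOf x = 2 → orderOf y = 2 → IsConj x y) :
    Nat.card {x : G // IsConj t x ∧ IsConj t (x⁻¹ * t)} = 4 := by
  have ht : t ≠ 1 := by
    rintro rfl
    rw [orderOf_one] at ht2
    omega
  have htt : t * t = 1 := by
    have := pow_orderOf_eq_one t
    rwa [ht2, pow_two] at this
  have h2 := emb_r2 t e ht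
  have hf : ∀ i : ZMod 4, IsConj t (emb t e (sr i)) ∧ IsConj t ((emb t e (sr i))⁻¹ * t) := by
    intro i
    constructor
    · apply hconj _ _ ht2
      rw [orderOf_emb, orderOf_sr]
    · apply hconj _ _ ht2
      have h3 : (emb t e (sr i))⁻¹ * t = emb t e (sr (i + 2)) := by
        calc (emb t e (sr i))⁻¹ * t = (emb t e (sr i))⁻¹ * emb t e (r 2) := by rw [h2]
          _ = emb t e (sr (i + 2)) := by rw [← map_inv, ← map_mul, d8_sr_r2]
      rw [h3, orderOf_emb, orderOf_sr]
  let f : ZMod 4 → {x : G // IsConj t x ∧ IsConj t (x⁻¹ * t)} := fun i => ⟨emb t e (sr i), hf i⟩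
  have hbij : Function.Bijective f := by
    constructor
    · intro i j hij
      have h3 : emb t e (sr i) = emb t e (sr j) :=
        congrArg (fun z : {x : G // IsConj t x ∧ IsConj t (x⁻¹ * t)} => (z : G)) hij
      exact sr.inj (emb_injective t e h3)
    · rintro ⟨x, hx1, hx2⟩
      have ox : orderOf x = 2 := by rw [orderOf_of_isConj hx1, ht2]
      have ox' : orderOf (x⁻¹ * t) = 2 := by rw [orderOf_of_isConj hx2, ht2]
      have hxx : x * x = 1 := by
        have := pow_orderOf_eq_one x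
        rwa [ox, pow_two] at this
      have hxi : x⁻¹ = x := inv_eq_of_mul_eq_one_right hxx
      have hxtxt : x * t * (x * t) = 1 := by
        have := pow_orderOf_eq_one (x⁻¹ * t)
        rwa [ox', pow_two, hxi] at this
      have hti : t⁻¹ = t := inv_eq_of_mul_eq_one_right htt
      have hcomm : x * t = t * x := by
        have h3 : (x * t)⁻¹ = x * t := inv_eq_of_mul_eq_one_right hxtxt
        rw [mul_inv_rev, hxi, hti] at h3
        exact h3.symm
      obtain ⟨y, rfl⟩ := (comm_iff t e x).mp hcomm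
      have hyy : y * y = 1 := by
        apply emb_injective t e
        rw [map_mul, hxx, map_one]
      have hy1 : y ≠ 1 := by
        rintro rfl
        rw [map_one, orderOf_one] at ox
        omega
      have hy2 : y ≠ r 2 := by
        rintro rfl
        rw [h2, inv_mul_cancel, orderOf_one] at ox'
        omega
      obtain ⟨i, rfl⟩ := d8_invol y hyy hy1 hy2
      exact ⟨i, rfl⟩
  rw [← Nat.card_congr (Equiv.ofBijective f hbij), Nat.card_zmod]

theorem count_a (ht2 : orderOf t = 2)
    (hconj : ∀ x y : G, orderOf x = 2 → orderOf y = 2 → IsConj x y) :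
    Nat.card {x : G // IsConj t x ∧ IsConj t (x⁻¹ * emb t e (r 1))} = 4 := by
  have ht : t ≠ 1 := by
    rintro rfl
    rw [orderOf_one] at ht2
    omega
  have htt : t * t = 1 := by
    have := pow_orderOf_eq_one t
    rwa [ht2, pow_two] at this
  have hf : ∀ i : ZMod 4, IsConj t (emb t e (sr i)) ∧
      IsConj t ((emb t e (sr i))⁻¹ * emb t e (r 1)) := by
    intro i
    constructor
    · apply hconj _ _ ht2
      rw [orderOf_emb, orderOf_sr]
    · apply hconj _ _ ht2
      rw [← map_inv, ← map_mul, d8_sr_r1, orderOf_emb, orderOf_sr]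
  let f : ZMod 4 → {x : G // IsConj t x ∧ IsConj t (x⁻¹ * emb t e (r 1))} :=
    fun i => ⟨emb t e (sr i), hf i⟩
  have hbij : Function.Bijective f := by
    constructor
    · intro i j hij
      have h3 : emb t e (sr i) = emb t e (sr j) :=
        congrArg (fun z : {x : G // IsConj t x ∧ IsConj t (x⁻¹ * emb t e (r 1))} => (z : G)) hij
      exact sr.inj (emb_injective t e h3)
    · rintro ⟨x, hx1, hx2⟩
      have ox : orderOf x = 2 := by rw [orderOf_of_isConj hx1, ht2]
      have ox' : orderOf (x⁻¹ * emb t e (r 1)) = 2 := by rw [orderOf_of_isConj hx2, ht2]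
      have hxx : x * x = 1 := by
        have := pow_orderOf_eq_one x
        rwa [ox, pow_two] at this
      have hxaxa : x⁻¹ * emb t e (r 1) * (x⁻¹ * emb t e (r 1)) = 1 := by
        have := pow_orderOf_eq_one (x⁻¹ * emb t e (r 1))
        rwa [ox', pow_two] at this
      have haa : emb t e (r 1) * emb t e (r 1) = t := by
        rw [← pow_two]
        exact a_sq t e ht
      have hcomm : x * t = t * x := comm_of_inverts hxx haa htt hxaxa
      obtain ⟨y, rfl⟩ := (comm_iff t e x).mp hcomm
      have hyy : y * y = 1 := by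
        apply emb_injective t e
        rw [map_mul, hxx, map_one]
      have hya : (y⁻¹ * r 1) * (y⁻¹ * r 1) = 1 := by
        apply emb_injective t e
        rw [map_mul, map_mul, map_inv, hxaxa, map_one]
      obtain ⟨i, rfl⟩ := d8_invol_a y hyy hya
      exact ⟨i, rfl⟩
  rw [← Nat.card_congr (Equiv.ofBijective f hbij), Nat.card_zmod]

/-- nonidentity elements of `C` are conjugate to `t` or `a` -/
theorem conj_of_mem_C (ht : t ≠ 1) (c : G) (hc : c ∈ C t e) (hc1 : c ≠ 1) :
    IsConj t c ∨ IsConj (emb t e (r 1)) c := by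
  obtain ⟨i, rfl⟩ := (mem_C t e c).mp hc
  have hi : i ≠ 0 := by
    rintro rfl
    apply hc1
    rw [r_zero, map_one]
  rcases d8_rot i hi with h | h | h
  · right
    rw [h]
  · left
    rw [h, emb_r2 t e ht]
  · right
    rw [h, isConj_iff]
    refine ⟨(emb t e (sr 0))⁻¹, ?_⟩
    rw [inv_inv, map_mul, map_mul, map_inv]

/-- in a perfect group all involutions are conjugate -/
theorem all_conj [Finite G] (hperf : commutator G = ⊤) (ht : t ≠ 1) (x y : G)
    (hx : orderOf x = 2) (hy : orderOf y = 2) : IsConj x y := by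
  obtain ⟨S, hS⟩ := exists_sylow t e ht
  let eS : (S : Subgroup G) ≃* DihedralGroup 4 := (MulEquiv.subgroupCongr hS).trans e
  exact Cfsg.Agent.Helper18.DihFusion.all_conj_of_conj_into_rot S 4 eS (by norm_num)
    (Cfsg.Agent.Helper18.DihFusion.conj_into_rot S 4 eS (no_index_two hperf)) x y hx hy

end Cfsg.Agent.Helper8.D8
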