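import Mathlib
import Cfsg.Agent.Helper8.D8Struct
import Cfsg.Agent.Helper8.ExcPair
import Cfsg.Agent.Helper8.QuatExc4
import Cfsg.Agent.Helper8.KleinBlock

/-!
Groups in which the centralizer of an involution `t` is dihedral of order `8`: the exceptional
characters.
-/

set_option autoImplicit false
set_option maxHeartbeats 1000000

namespace Cfsg.Agent.Helper8.D8

open Cfsg Cfsg.Agent.Helper24 Cfsg.Agent.Helper5 Cfsg.Agent.Helper5.CC
  Cfsg.Agent.Helper5.ClassMul Cfsg.Agent.Helper8.ExcPair DihedralGroup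

/-- the sum of a class function supported on two conjugacy classes -/
theorem sum_two_classes {G : Type*} [Group G] [Fintype G] (F : G → ℂ) (hF : IsClassFunction G F)
    (x y : G) (hxy : ¬ IsConj x y) (h0 : ∀ u, ¬ IsConj x u → ¬ IsConj y u → F u = 0) :
    ∑ u, F u = ((Subgroup.centralizer ({x} : Set G)).index : ℂ) * F x
      + ((Subgroup.centralizer ({y} : Set G)).index : ℂ) * F y := by
  have h1 : ∀ u, F u = classIndicator x u * F u + classIndicator y u * F u := by
    intro u
    by_cases hx : IsConj x u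
    · have hy : ¬ IsConj y u := fun hy => hxy (hx.trans hy.symm)
      rw [classIndicator_of_isConj hx, classIndicator_of_not_isConj hy, one_mul, zero_mul, add_zero]
    · by_cases hy : IsConj y u
      · rw [classIndicator_of_not_isConj hx, classIndicator_of_isConj hy, one_mul, zero_mul,
          zero_add]
      · rw [classIndicator_of_not_isConj hx, classIndicator_of_not_isConj hy, zero_mul,
          zero_add, h0 u hx hy]
  rw [Finset.sum_congr rfl (fun u _ => h1 u), Finset.sum_add_distrib]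
  simp_rw [classIndicator_mul _ F hF]
  rw [← Finset.sum_mul, ← Finset.sum_mul, sum_classIndicator, sum_classIndicator,
    index_centralizer_eq_card_conj, index_centralizer_eq_card_conj]

variable {G : Type*} [Group G] [Fintype G] (t : G)
  (e : Subgroup.centralizer ({t} : Set G) ≃* DihedralGroup 4)

/-- the generator of `C` -/
noncomputable def aC : C t e := ⟨emb t e (r 1), Subgroup.mem_zpowers _⟩

theorem aC_coe : ((aC t e : C t e) : G) = emb t e (r 1) := rfl

theorem aC_sq_coe (ht : t ≠ 1) : (((aC t e) ^ 2 : C t e) : G) = t := by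
  rw [Subgroup.coe_pow, aC_coe, a_sq t e ht]

theorem aC_pow_four : (aC t e) ^ 4 = 1 := by
  apply Subtype.ext
  rw [Subgroup.coe_pow, aC_coe]
  have h1 := pow_orderOf_eq_one (emb t e (r 1))
  rw [orderOf_a t e] at h1
  exact h1

/-- a faithful linear character of `C` -/
theorem exists_lam (ht : t ≠ 1) : ∃ lam : C t e →* ℂ,
    lam ((aC t e) ^ 2) = -1 ∧ lam (aC t e) + lam (aC t e)⁻¹ = 0 ∧ lam (aC t e) ≠ 0 := by
  haveI : IsCyclic (C t e) := by
    unfold C
    infer_instance
  letI : CommGroup (C t e) := IsCyclic.commGroup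
  have hne : (aC t e) ^ 2 ≠ 1 := by
    intro h
    apply ht
    rw [← aC_sq_coe t e ht, h]
    rfl
  obtain ⟨φ, hφ⟩ : ∃ φ : C t e →* ℂˣ, φ ((aC t e) ^ 2) ≠ 1 :=
    CommGroup.exists_apply_ne_one_of_hasEnoughRootsOfUnity (C t e) ℂ hne
  have h1 : (φ ((aC t e) ^ 2)) ^ 2 = 1 := by
    rw [← map_pow, ← pow_mul, aC_pow_four, map_one]
  have h2 : ((φ ((aC t e) ^ 2) : ℂˣ) : ℂ) = -1 := by
    have h3 : ((φ ((aC t e) ^ 2) : ℂˣ) : ℂ) ^ 2 = 1 := by
      rw [← Units.val_pow_eq_pow_val, h1]
      rfl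
    have h4 : ((φ ((aC t e) ^ 2) : ℂˣ) : ℂ) ≠ 1 := by
      intro h
      exact hφ (Units.ext h)
    have h5 : (((φ ((aC t e) ^ 2) : ℂˣ) : ℂ) - 1) * (((φ ((aC t e) ^ 2) : ℂˣ) : ℂ) + 1) = 0 := by
      linear_combination h3
    rcases mul_eq_zero.mp h5 with h | h
    · exact absurd (sub_eq_zero.mp h) h4
    · linear_combination h
  refine ⟨(Units.coeHom ℂ).comp φ, h2, ?_, ?_⟩
  · have h6 : ((Units.coeHom ℂ).comp φ) (aC t e) * ((Units.coeHom ℂ).comp φ) (aC t e) = -1 := by
      rw [← map_mul, ← pow_two]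
      exact h2
    have h7 : ((Units.coeHom ℂ).comp φ) (aC t e) * ((Units.coeHom ℂ).comp φ) (aC t e)⁻¹ = 1 := by
      rw [← map_mul, mul_inv_cancel, map_one]
    have h8 : ((Units.coeHom ℂ).comp φ) (aC t e) ≠ 0 := by
      intro h
      rw [h, zero_mul] at h7
      exact zero_ne_one h7
    apply mul_left_cancel₀ h8
    linear_combination h6 + h7
  · exact Units.ne_zero _

/-- the generalized character `Θ` -/
theorem exists_theta (ht2 : orderOf t = 2) :
    ∃ Θ : G → ℂ, IsGeneralizedCharacter G Θ ∧ classInner Θ Θ = 3 ∧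
      classInner Θ (fun _ => (1 : ℂ)) = 1 ∧ Θ 1 = 0 ∧
      (∀ g : G, ¬ IsConj t g → ¬ IsConj (emb t e (r 1)) g → Θ g = 0) ∧
      Θ t = 4 ∧ Θ (emb t e (r 1)) = 2 := by
  classical
  have ht : t ≠ 1 := by
    rintro rfl
    rw [orderOf_one] at ht2
    omega
  obtain ⟨lam, hlt, hla, hla0⟩ := exists_lam t e ht
  let X : Set G := {c | c ∈ C t e ∧ c ≠ 1}
  have hX : ∀ c : C t e, (c : G) ∉ X → lam c = 1 := by
    intro c hc
    have : c = 1 := by
      by_contra h
      exact hc ⟨c.2, fun h' => h (Subtype.ext h')⟩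
    rw [this, map_one]
  have hTI : ∀ c ∈ C t e, c ∈ X → ∀ x : G, x⁻¹ * c * x ∈ C t e →
      x ∈ Subgroup.centralizer ({t} : Set G) :=
    fun c hc hcX x hx => ti_C t e ht c hc hcX.2 x hx
  have hne : ∃ c : C t e, lam c ≠ 1 := ⟨aC t e ^ 2, by rw [hlt]; norm_num⟩
  have hnormN := norm_C t e
  have hsN := s_mem t e
  have hCN := C_le t e
  have hidx := idx_C t e
  have hcard := card_eq t e
  have hsa : (⟨(emb t e (sr 0))⁻¹ * ((aC t e : C t e) : G) * emb t e (sr 0),
      hnormN _ hsN _ (aC t e).2⟩ : C t e) = (aC t e)⁻¹ := Subtype.ext (s_conj t e)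
  have hconj : ∃ c : C t e,
      lamS (C t e) lam (emb t e (sr 0)) (fun c hc => hnormN _ hsN c hc) c ≠ lam c := by
    refine ⟨aC t e, ?_⟩
    rw [lamS_apply, hsa]
    intro h
    apply hla0
    have h2 : 2 * lam (aC t e) = 0 := by linear_combination hla - h
    exact (mul_eq_zero.mp h2).resolve_left two_ne_zero
  refine ⟨indFun (C t e) (vt _ lam), theta_isGenChar _ lam,
    theta_norm _ _ X lam _ hCN hsN hnormN hidx hcard hX hTI hne hconj,
    theta_inner_one _ lam hne, theta_one _ lam, ?_, ?_, ?_⟩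
  · intro g hgt hga
    apply theta_vanish (C t e) X lam hX g
    intro x hx
    obtain ⟨hc, hc1⟩ := hx
    have hgx : IsConj g (x⁻¹ * g * x) := isConj_iff.mpr ⟨x⁻¹, by rw [inv_inv]⟩
    rcases conj_of_mem_C t e ht _ hc hc1 with h | h
    · exact hgt (h.trans hgx.symm)
    · exact hga (h.trans hgx.symm)
  · have hmemX : (((aC t e) ^ 2 : C t e) : G) ∈ X := by
      refine ⟨(aC t e ^ 2).2, ?_⟩
      rw [aC_sq_coe t e ht]
      exact ht
    have happ := theta_apply _ _ X lam _ hCN hsN hnormN hidx hcard hTI (aC t e ^ 2) hmemX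
    have hst : (⟨(emb t e (sr 0))⁻¹ * (((aC t e) ^ 2 : C t e) : G) * emb t e (sr 0),
        hnormN _ hsN _ (aC t e ^ 2).2⟩ : C t e) = (aC t e) ^ 2 := by
      apply Subtype.ext
      change (emb t e (sr 0))⁻¹ * (((aC t e) ^ 2 : C t e) : G) * emb t e (sr 0)
        = (((aC t e) ^ 2 : C t e) : G)
      rw [aC_sq_coe t e ht]
      have h1 := Subgroup.mem_centralizer_singleton_iff.mp hsN
      rw [mul_assoc, ← h1, ← mul_assoc, inv_mul_cancel, one_mul]
    rw [vt_apply, vt_apply, lamS_apply, hst, hlt, aC_sq_coe t e ht] at happ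
    rw [happ]
    norm_num
  · have hmemX : ((aC t e : C t e) : G) ∈ X := by
      refine ⟨(aC t e).2, ?_⟩
      intro h
      have h1 := orderOf_a t e
      rw [aC_coe] at h
      rw [h, orderOf_one] at h1
      omega
    have happ := theta_apply _ _ X lam _ hCN hsN hnormN hidx hcard hTI (aC t e) hmemX
    rw [vt_apply, vt_apply, lamS_apply, hsa, aC_coe] at happ
    rw [happ]
    linear_combination -hla

/-- the class multiplication equation -/
theorem key_equation [Fintype (IrrCharacter G)] (ht2 : orderOf t = 2)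
    (hconj : ∀ x y : G, orderOf x = 2 → orderOf y = 2 → IsConj x y)
    (χ₁ χ₂ : IrrCharacter G)
    (hdeg : (χ₁ : G → ℂ) 1 = (χ₂ : G → ℂ) 1 + 1)
    (hvan : ∀ g : G, ¬ IsConj t g → ¬ IsConj (emb t e (r 1)) g →
      1 + (χ₂ : G → ℂ) g - (χ₁ : G → ℂ) g = 0)
    (hΘt : 1 + (χ₂ : G → ℂ) t - (χ₁ : G → ℂ) t = 4)
    (hΘa : 1 + (χ₂ : G → ℂ) (emb t e (r 1)) - (χ₁ : G → ℂ) (emb t e (r 1)) = 2) :
    4 * (Nat.card G : ℂ) = ((Nat.card G : ℂ) / 8) ^ 2 *
      (1 + (χ₂ : G → ℂ) t ^ 2 / (χ₂ : G → ℂ) 1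
        - ((χ₂ : G → ℂ) t - 3) ^ 2 / ((χ₂ : G → ℂ) 1 + 1)) := by
  classical
  have ht : t ≠ 1 := by
    rintro rfl
    rw [orderOf_one] at ht2
    omega
  have h12 : χ₁ ≠ χ₂ := by
    intro h
    rw [h] at hdeg
    have : (0 : ℂ) = 1 := by linear_combination hdeg
    exact zero_ne_one this
  set Θ : G → ℂ := (trivIrr G : G → ℂ) + (χ₂ : G → ℂ) - (χ₁ : G → ℂ) with hΘ
  have hΘapp : ∀ g, Θ g = 1 + (χ₂ : G → ℂ) g - (χ₁ : G → ℂ) g := by
    intro g
    rw [hΘ]
    simp only [Pi.add_apply, Pi.sub_apply, trivIrr_apply]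
  have hΘcf : IsClassFunction G Θ :=
    isClassFunction_sub (isClassFunction_add (isClassFunction_irr _) (isClassFunction_irr _))
      (isClassFunction_irr _)
  have hccf : IsClassFunction G (conv (classIndicator t) (classIndicator t)) :=
    isClassFunction_conv (isClassFunction_classIndicator t) (isClassFunction_classIndicator t)
  have hFcf : IsClassFunction G
      (fun u => Θ u * conv (classIndicator t) (classIndicator t) u) :=
    isClassFunction_mul hΘcf hccf
  have hta : ¬ IsConj t (emb t e (r 1)) := by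
    intro h
    have h1 := orderOf_of_isConj h
    rw [orderOf_a t e, ht2] at h1
    omega
  have hlhs : ∑ u : G, Θ u * conv (classIndicator t) (classIndicator t) u
      = 4 * (Nat.card G : ℂ) := by
    rw [sum_two_classes _ hFcf t (emb t e (r 1)) hta]
    · beta_reduce
      rw [conv_classIndicator_apply, conv_classIndicator_apply, count_t t e ht2 hconj,
        count_a t e ht2 hconj, hΘapp, hΘapp, hΘt, hΘa]
      have h1 := (Subgroup.centralizer ({t} : Set G)).card_mul_index
      rw [card_centralizer t e] at h1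
      have h2 := (Subgroup.centralizer ({emb t e (r 1)} : Set G)).card_mul_index
      rw [card_centralizer_a t e ht] at h2
      have h1' : (8 : ℂ) * ((Subgroup.centralizer ({t} : Set G)).index : ℂ) = (Nat.card G : ℂ) := by
        exact_mod_cast h1
      have h2' : (4 : ℂ) * ((Subgroup.centralizer ({emb t e (r 1)} : Set G)).index : ℂ)
          = (Nat.card G : ℂ) := by
        exact_mod_cast h2
      push_cast
      linear_combination 2 * h1' + 2 * h2'
    · intro u hu1 hu2
      beta_reduce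
      rw [hΘapp, hvan u hu1 hu2, zero_mul]
  rw [Cfsg.Agent.Helper8.QuatExc.sum_mul_conv] at hlhs
  have hinner : ∀ χ : IrrCharacter G, classInner Θ (χ : G → ℂ)
      = (if χ = trivIrr G then 1 else 0) + (if χ = χ₂ then 1 else 0)
        - (if χ = χ₁ then 1 else 0) := by
    intro χ
    rw [hΘ, classInner_sub_left, classInner_add_left, classInner_irr, classInner_irr,
      classInner_irr]
    simp only [eq_comm]
  simp_rw [hinner, mul_sub, mul_add, Finset.sum_sub_distrib, Finset.sum_add_distrib, mul_ite,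
    mul_one, mul_zero, Finset.sum_ite_eq', Finset.mem_univ, if_true] at hlhs
  simp only [centralChar_def, trivIrr_apply] at hlhs
  have h1 := (Subgroup.centralizer ({t} : Set G)).card_mul_index
  rw [card_centralizer t e] at h1
  have h1' : ((Subgroup.centralizer ({t} : Set G)).index : ℂ) = (Nat.card G : ℂ) / 8 := by
    have : (8 : ℂ) * ((Subgroup.centralizer ({t} : Set G)).index : ℂ) = (Nat.card G : ℂ) := by
      exact_mod_cast h1
    rw [← this]
    field_simp
  have ha : (χ₂ : G → ℂ) 1 ≠ 0 := irr_one_ne_zero χ₂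
  have ha1 : (χ₂ : G → ℂ) 1 + 1 ≠ 0 := by rw [← hdeg]; exact irr_one_ne_zero χ₁
  have hb' : (χ₁ : G → ℂ) t = (χ₂ : G → ℂ) t - 3 := by linear_combination -hΘt
  rw [hb', hdeg, h1'] at hlhs
  rw [← hlhs]
  field_simp

end Cfsg.Agent.Helper8.D8
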