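import Mathlib
import Cfsg.Agent.Helper8.D8Char

/-!
A perfect group in which the centralizer of an involution is dihedral of order `8` has order
`168` or `360`.
-/

set_option autoImplicit false
set_option maxHeartbeats 1000000

namespace Cfsg.Agent.Helper8.D8

open Cfsg Cfsg.Agent.Helper24 Cfsg.Agent.Helper8.ExcPair DihedralGroup

set_option maxRecDepth 100000 in
theorem search2 : ∀ d < 94, ∀ h < 32, h % 2 = 1 → h * (d+2)^2 = 32*d*(d+1) → d = 6 ∧ h = 21 := by
  decide

set_option maxRecDepth 100000 in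
theorem search1 : ∀ k < 97, ∀ h < 193, h % 2 = 1 → h * k^2 = 32*(k+1)*(k+2) → k = 8 ∧ h = 45 := by
  decide

theorem arith_two (h d : ℕ) (hodd : h % 2 = 1) (heq : h * (d+2)^2 = 32*d*(d+1)) :
    d = 6 ∧ h = 21 := by
  have hh : h < 32 := by
    by_contra hcon
    push Not at hcon
    have h1 : 32 * (d+2)^2 ≤ h * (d+2)^2 := Nat.mul_le_mul_right _ hcon
    nlinarith
  have hd : d < 94 := by
    by_contra hcon
    push Not at hcon
    have h1 : h * (d+2)^2 ≤ 31 * (d+2)^2 := Nat.mul_le_mul_right _ (by omega)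
    nlinarith
  exact search2 d hd h hh hodd heq

theorem arith_one (h k : ℕ) (hodd : h % 2 = 1) (heq : h * k^2 = 32*(k+1)*(k+2)) :
    k = 8 ∧ h = 45 := by
  have hk0 : 1 ≤ k := by
    rcases Nat.eq_zero_or_pos k with h0 | h0
    · subst h0
      simp at heq
    · exact h0
  have hh : 33 ≤ h := by
    by_contra hcon
    push Not at hcon
    have h1 : h * k^2 ≤ 32 * k^2 := Nat.mul_le_mul_right _ (by omega)
    nlinarith
  have hk : k < 97 := by
    by_contra hcon
    push Not at hcon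
    have h1 : 33 * k^2 ≤ h * k^2 := Nat.mul_le_mul_right _ hh
    nlinarith
  have hh2 : h < 193 := by
    by_contra hcon
    push Not at hcon
    have h1 : 193 * k^2 ≤ h * k^2 := Nat.mul_le_mul_right _ hcon
    nlinarith
  exact search1 k hk h hh2 hodd heq

variable {G : Type*} [Group G] [Fintype G] (t : G)
  (e : Subgroup.centralizer ({t} : Set G) ≃* DihedralGroup 4)

include e in
/-- the second orthogonality relation bounds the value at `t` -/
theorem col_bound [Fintype (IrrCharacter G)] (χ₁ χ₂ : IrrCharacter G)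
    (hne₁ : χ₁ ≠ trivIrr G) (hne₂ : χ₂ ≠ trivIrr G) (h12 : χ₁ ≠ χ₂) (n : ℤ)
    (hb : (χ₂ : G → ℂ) t = n) (hb' : (χ₁ : G → ℂ) t = n - 3) :
    1 + n ^ 2 + (n - 3) ^ 2 ≤ 8 := by
  classical
  have hcol : ∑ χ : IrrCharacter G, Complex.normSq ((χ : G → ℂ) t) = (8 : ℝ) := by
    have h1 := sum_irr_mul_conj t t
    rw [if_pos (IsConj.refl _), card_centralizer t e] at h1
    have h2 : ∀ χ : IrrCharacter G, (χ : G → ℂ) t * (starRingEnd ℂ) ((χ : G → ℂ) t)
        = ((Complex.normSq ((χ : G → ℂ) t) : ℝ) : ℂ) := fun χ => Complex.mul_conj _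
    rw [Finset.sum_congr rfl (fun χ _ => h2 χ), ← Complex.ofReal_sum] at h1
    have h3 : ((8 : ℕ) : ℂ) = ((8 : ℝ) : ℂ) := by push_cast; rfl
    rw [h3] at h1
    exact Complex.ofReal_injective h1
  have hsub : ∑ χ ∈ ({trivIrr G, χ₂, χ₁} : Finset (IrrCharacter G)),
      Complex.normSq ((χ : G → ℂ) t) ≤ 8 := by
    rw [← hcol]
    exact Finset.sum_le_sum_of_subset_of_nonneg (Finset.subset_univ _)
      (fun χ _ _ => Complex.normSq_nonneg _)
  rw [Finset.sum_insert (by
    rw [Finset.mem_insert, Finset.mem_singleton]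
    rintro (h | h)
    · exact hne₂ h.symm
    · exact hne₁ h.symm), Finset.sum_pair (fun h => h12 h.symm)] at hsub
  rw [hb, hb', trivIrr_apply] at hsub
  have e1 : Complex.normSq (1 : ℂ) = 1 := Complex.normSq_one
  have e2 : Complex.normSq ((n : ℂ)) = (n : ℝ) ^ 2 := by
    have : ((n : ℂ)) = (((n : ℝ)) : ℂ) := by push_cast; rfl
    rw [this, Complex.normSq_ofReal, sq]
  have e3 : Complex.normSq ((n : ℂ) - 3) = ((n : ℝ) - 3) ^ 2 := by
    have : ((n : ℂ) - 3) = (((n : ℝ) - 3 : ℝ) : ℂ) := by push_cast; rfl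
    rw [this, Complex.normSq_ofReal, sq]
  rw [e1, e2, e3] at hsub
  have : ((1 + n ^ 2 + (n - 3) ^ 2 : ℤ) : ℝ) ≤ ((8 : ℤ) : ℝ) := by
    push_cast
    linarith
  exact_mod_cast this

omit [Fintype G] in
include e in
/-- **The order of a perfect group with a dihedral involution centralizer of order `8`.** -/
theorem card_eq_168_or_360 [Finite G] (hperf : commutator G = ⊤) (ht : orderOf t = 2) :
    Nat.card G = 168 ∨ Nat.card G = 360 := by
  classical
  haveI : Fintype G := Fintype.ofFinite _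
  haveI : Fintype (IrrCharacter G) := Fintype.ofFinite _
  haveI : Fact (Nat.Prime 2) := ⟨Nat.prime_two⟩
  have ht1 : t ≠ 1 := by
    rintro rfl
    rw [orderOf_one] at ht
    omega
  have hconj := all_conj t e hperf ht1
  obtain ⟨Θ, hgen, h3, h1, h0, hvan, hΘt, hΘa⟩ := exists_theta t e ht
  obtain ⟨χ₁, χ₂, hχ₁, hχ₂, hne₁, hne₂, hdeg, hΘ⟩ := exists_pair_of_norm_three hgen h3 h1 h0
  have hΘapp : ∀ g, Θ g = 1 + χ₂ g - χ₁ g := by
    intro g
    rw [hΘ]
    rfl
  obtain ⟨X₁, hX₁⟩ : ∃ X₁ : IrrCharacter G, (X₁ : G → ℂ) = χ₁ := ⟨⟨χ₁, hχ₁⟩, rfl⟩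
  obtain ⟨X₂, hX₂⟩ : ∃ X₂ : IrrCharacter G, (X₂ : G → ℂ) = χ₂ := ⟨⟨χ₂, hχ₂⟩, rfl⟩
  rw [← hX₁, ← hX₂] at hdeg
  have hvan' : ∀ g : G, ¬ IsConj t g → ¬ IsConj (emb t e (r 1)) g →
      1 + (X₂ : G → ℂ) g - (X₁ : G → ℂ) g = 0 := by
    intro g hg1 hg2
    rw [hX₁, hX₂, ← hΘapp]
    exact hvan g hg1 hg2
  have hΘt' : 1 + (X₂ : G → ℂ) t - (X₁ : G → ℂ) t = 4 := by
    rw [hX₁, hX₂, ← hΘapp]
    exact hΘt
  have hΘa' : 1 + (X₂ : G → ℂ) (emb t e (r 1)) - (X₁ : G → ℂ) (emb t e (r 1)) = 2 := by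
    rw [hX₁, hX₂, ← hΘapp]
    exact hΘa
  have hkey := key_equation t e ht hconj X₁ X₂ hdeg hvan' hΘt' hΘa'
  obtain ⟨n, hn, -⟩ := Cfsg.Agent.Helper8.KleinB.exists_int_involution X₂ ht
  have hne₁' : X₁ ≠ trivIrr G := by
    intro h
    apply hne₁
    rw [← hX₁, h]
    rfl
  have hne₂' : X₂ ≠ trivIrr G := by
    intro h
    apply hne₂
    rw [← hX₂, h]
    rfl
  have h12 : X₁ ≠ X₂ := by
    intro h
    rw [h] at hdeg
    have : (0 : ℂ) = 1 := by linear_combination hdeg
    exact zero_ne_one this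
  have hb' : (X₁ : G → ℂ) t = n - 3 := by
    rw [← hn]
    linear_combination -hΘt'
  have hbound := col_bound t e X₁ X₂ hne₁' hne₂' h12 n hn hb'
  have hn12 : n = 1 ∨ n = 2 := by
    have h4 : 1 ≤ n := by nlinarith
    have h5 : n ≤ 2 := by nlinarith
    omega
  -- the Sylow subgroup
  obtain ⟨S, hS⟩ := exists_sylow t e ht1
  have hidx : ¬ 2 ∣ (Subgroup.centralizer ({t} : Set G)).index := by
    rw [← hS]
    exact S.not_dvd_index
  have hcard := (Subgroup.centralizer ({t} : Set G)).card_mul_index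
  rw [card_centralizer t e] at hcard
  set h := (Subgroup.centralizer ({t} : Set G)).index with hh
  have hodd : h % 2 = 1 := by omega
  -- the equation over the integers
  have hd := irrDeg_spec X₂
  have hdpos := irrDeg_pos X₂
  set d := irrDeg X₂ with hdd
  rw [hd, hn, ← hcard] at hkey
  have hd0 : (d : ℂ) ≠ 0 := by exact_mod_cast hdpos.ne'
  have hd1 : (d : ℂ) + 1 ≠ 0 := by
    have : ((d + 1 : ℕ) : ℂ) ≠ 0 := by exact_mod_cast (Nat.succ_ne_zero d)
    simpa using this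
  have hh0 : (h : ℂ) ≠ 0 := by
    have : h ≠ 0 := by
      intro h0
      rw [h0] at hodd
      omega
    exact_mod_cast this
  push_cast at hkey
  have hkey' : (32 : ℂ) * d * (d + 1) = h * (d * (d + 1) + n ^ 2 * (d + 1) - (n - 3) ^ 2 * d) := by
    field_simp at hkey
    linear_combination hkey
  rcases hn12 with rfl | rfl
  · right
    have hZ : h * (d - 1 : ℤ) ^ 2 = 32 * d * (d + 1) := by
      have : ((h * (d - 1 : ℤ) ^ 2 : ℤ) : ℂ) = ((32 * d * (d + 1) : ℤ) : ℂ) := by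
        push_cast
        push_cast at hkey'
        linear_combination -hkey'
      exact_mod_cast this
    obtain ⟨k, hk⟩ : ∃ k : ℕ, d = k + 1 := ⟨d - 1, by omega⟩
    have hN : h * k ^ 2 = 32 * (k + 1) * (k + 2) := by
      rw [hk] at hZ
      push_cast at hZ
      have : ((h * k ^ 2 : ℕ) : ℤ) = ((32 * (k + 1) * (k + 2) : ℕ) : ℤ) := by
        push_cast
        linear_combination hZ
      exact_mod_cast this
    obtain ⟨-, h45⟩ := arith_one h k hodd hN
    omega
  · left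
    have hN : h * (d + 2) ^ 2 = 32 * d * (d + 1) := by
      have : ((h * (d + 2) ^ 2 : ℕ) : ℂ) = ((32 * d * (d + 1) : ℕ) : ℂ) := by
        push_cast
        push_cast at hkey'
        linear_combination -hkey'
      exact_mod_cast this
    obtain ⟨-, h21⟩ := arith_two h d hodd hN
    omega

end Cfsg.Agent.Helper8.D8
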