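import Mathlib
import Cfsg.Agent.Helper26.S4394Defs

/-! # S4394 piece GSe (core): `p = 3`, `|P : C_P(y)| = 9` is impossible
Blueprint: `departures/helper26_S4394_blueprint.md` (GSe). -/

set_option autoImplicit false

namespace Cfsg.Agent.S4394P

open Cfsg

/-- `|Y| = |Z : Y| |Z|` for `Z ≤ Y` in a finite group -/
theorem GSe_aux_card {X : Type*} [Group X] [Finite X] {Z Y : Subgroup X} (h : Z ≤ Y) :
    Nat.card ↥Y = Z.relIndex Y * Nat.card ↥Z := by
  have h1 := Subgroup.relIndex_mul_index h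
  have h2 := Subgroup.card_mul_index Z
  have h3 := Subgroup.card_mul_index Y
  have hY : Y.index ≠ 0 := Subgroup.index_ne_zero_of_finite
  have : Nat.card ↥Y * Y.index = Z.relIndex Y * Nat.card ↥Z * Y.index := by
    calc Nat.card ↥Y * Y.index = Nat.card X := h3
      _ = Nat.card ↥Z * Z.index := h2.symm
      _ = Nat.card ↥Z * (Z.relIndex Y * Y.index) := by rw [h1]
      _ = Z.relIndex Y * Nat.card ↥Z * Y.index := by ring
  exact Nat.eq_of_mul_eq_mul_right (Nat.pos_of_ne_zero hY) this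

/-- conjugation by a power of `y` -/
theorem GSe_aux_conj_pow {X : Type*} [Group X] (y u : X) (n : ℕ) :
    y ^ n * u * (y ^ n)⁻¹ = (fun v => y * v * y⁻¹)^[n] u := by
  induction n with
  | zero => simp
  | succ n ih =>
    rw [Function.iterate_succ_apply', ← ih, pow_succ']
    group

/-- fixed point congruence: `|P| ≡ |C_P(y)| mod q` when `y ^ q` centralizes `P` -/
theorem GSe_aux_modEq {X : Type*} [Group X] [Finite X] {P : Subgroup X} {y : X}
    (hn : ∀ u ∈ P, y * u * y⁻¹ ∈ P) (q : ℕ) (hq : q.Prime)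
    (hyq : ∀ u ∈ P, y ^ q * u = u * y ^ q) :
    Nat.card ↥P ≡ Nat.card ↥(P ⊓ Subgroup.centralizer {y}) [MOD q] := by
  classical
  haveI : Fact q.Prime := ⟨hq⟩
  haveI : Fintype ↥P := Fintype.ofFinite _
  let f : Function.End ↥P := fun u => ⟨y * u * y⁻¹, hn u u.2⟩
  have hpow : ∀ n : ℕ, ((f ^ n : Function.End ↥P) : ↥P → ↥P) = (f : ↥P → ↥P)^[n] := fun n =>
    hom_coe_pow (fun g : Function.End ↥P => (g : ↥P → ↥P)) rfl (fun g h => rfl) f n
  have hfn : ∀ n : ℕ, ∀ u : ↥P, ((((f : ↥P → ↥P)^[n]) u : ↥P) : X) = y ^ n * u * (y ^ n)⁻¹ := by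
    intro n
    induction n with
    | zero =>
      intro u
      show ((u : ↥P) : X) = _
      simp
    | succ n ih =>
      intro u
      rw [Function.iterate_succ_apply']
      show y * ((((f : ↥P → ↥P)^[n]) u : ↥P) : X) * y⁻¹ = _
      rw [ih u, pow_succ']
      group
  have hf : f ^ q ^ 1 = 1 := by
    rw [pow_one]
    funext u
    show (f ^ q : Function.End ↥P) u = u
    rw [hpow q]
    apply Subtype.ext
    rw [hfn q u, hyq u u.2]
    simp
  have h1 := Equiv.Perm.card_fixedPoints_modEq (p := q) (n := 1) hf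
  rw [← Nat.card_eq_fintype_card, ← Nat.card_eq_fintype_card] at h1
  have h2 : Nat.card ↥(Function.fixedPoints f) = Nat.card ↥(P ⊓ Subgroup.centralizer {y}) := by
    refine Nat.card_congr ⟨fun u => ⟨(u.1 : X), ?_⟩, fun c => ⟨⟨(c : X), (Subgroup.mem_inf.1 c.2).1⟩, ?_⟩,
      ?_, ?_⟩
    · refine Subgroup.mem_inf.2 ⟨u.1.2, ?_⟩
      rw [Subgroup.mem_centralizer_iff]
      intro z hz
      rw [Set.mem_singleton_iff] at hz
      subst hz
      have := congrArg Subtype.val u.2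
      have h3 : z * (u.1 : X) * z⁻¹ = (u.1 : X) := this
      calc z * (u.1 : X) = z * (u.1 : X) * z⁻¹ * z := by group
        _ = (u.1 : X) * z := by rw [h3]
    · show f _ = _
      apply Subtype.ext
      show y * (c : X) * y⁻¹ = (c : X)
      have h3 := (Subgroup.mem_inf.1 c.2).2
      rw [Subgroup.mem_centralizer_iff] at h3
      have h4 : y * (c : X) = (c : X) * y := h3 y rfl
      rw [h4]
      group
    · intro u; rfl
    · intro c; rfl
  rw [h2] at h1
  exact h1

/-- GSe with the three facts of GSb as hypotheses -/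
theorem GSe_aux_core {X : Type*} [Group X] [Finite X] {P : Subgroup X} {y : X}
    (h : SchData 3 P y)
    (hb1 : ∀ u ∈ P, ∀ v ∈ P, u * v * u⁻¹ * v⁻¹ ∈ P ⊓ Subgroup.centralizer {y})
    (hb2 : ∀ u ∈ P, u ^ 3 ∈ P ⊓ Subgroup.centralizer {y})
    (hb3 : ∀ c ∈ P ⊓ Subgroup.centralizer {y}, ∀ u ∈ P, c * u = u * c)
    (q : ℕ) (hq : q.Prime) (hq3 : q ≠ 3)
    (hyq : ∀ u ∈ P, y ^ q * u = u * y ^ q)
    (hidx : (P ⊓ Subgroup.centralizer {y}).relIndex P = 9) : False := by
  haveI : Fact (Nat.Prime 3) := ⟨Nat.prime_three⟩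
  set C : Subgroup X := P ⊓ Subgroup.centralizer {y} with hC
  have hCP : C ≤ P := inf_le_left
  have hcard : Nat.card ↥P = 9 * Nat.card ↥C := by rw [GSe_aux_card hCP, hidx]
  have hCpos : 0 < Nat.card ↥C := Nat.card_pos
  -- `y` commutes with the elements of `C`
  have hyC : ∀ c ∈ C, y * c = c * y := by
    intro c hc
    have h3 := (Subgroup.mem_inf.1 hc).2
    rw [Subgroup.mem_centralizer_iff] at h3
    exact h3 y rfl
  have hmemC : ∀ u ∈ P, y * u = u * y → u ∈ C := by
    intro u hu huy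
    refine Subgroup.mem_inf.2 ⟨hu, ?_⟩
    rw [Subgroup.mem_centralizer_iff]
    intro z hz
    rw [Set.mem_singleton_iff] at hz
    subst hz
    exact huy
  -- step A: `q = 2`
  have hq2 : q = 2 := by
    have hmod := GSe_aux_modEq h.nrm q hq hyq
    rw [hcard] at hmod
    -- `q ∣ 8 |C|`
    have hdvd : q ∣ 8 * Nat.card ↥C := by
      have := (Nat.modEq_iff_dvd' (by omega : Nat.card ↥C ≤ 9 * Nat.card ↥C)).1 hmod.symm
      have e : 9 * Nat.card ↥C - Nat.card ↥C = 8 * Nat.card ↥C := by omega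
      rwa [e] at this
    have hCp : IsPGroup 3 ↥C := h.pgrp.to_le hCP
    obtain ⟨n, hn⟩ := IsPGroup.iff_card.1 hCp
    rw [hn] at hdvd
    rcases (Nat.Prime.dvd_mul hq).1 hdvd with h8 | h3
    · have : q ∣ 2 ^ 3 := by norm_num; exact h8
      exact (Nat.prime_dvd_prime_iff_eq hq Nat.prime_two).1 (hq.dvd_of_dvd_pow this)
    · exact absurd ((Nat.prime_dvd_prime_iff_eq hq Nat.prime_three).1 (hq.dvd_of_dvd_pow h3)) hq3
  subst hq2
  have hyq' : ∀ u ∈ P, y * y * u = u * (y * y) := by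
    intro u hu
    have := hyq u hu
    rwa [pow_two] at this
  -- step B: `y` inverts `P` modulo `C`
  have hinv : ∀ x ∈ P, x * (y * x * y⁻¹) ∈ C := by
    intro x hx
    set x' := y * x * y⁻¹ with hx'
    have hx'P : x' ∈ P := h.nrm x hx
    have hyx' : y * x' * y⁻¹ = x := by
      have h2 := hyq' x hx
      have : y * x' * y⁻¹ = y * y * x * (y * y)⁻¹ := by rw [hx']; group
      rw [this, h2]; group
    set c := x' * x * x'⁻¹ * x⁻¹ with hc
    have hcC : c ∈ C := hb1 x' hx'P x hx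
    have hw : y * (x * x') * y⁻¹ = c * (x * x') := by
      have : y * (x * x') * y⁻¹ = (y * x * y⁻¹) * (y * x' * y⁻¹) := by group
      rw [this, hyx', ← hx', hc]; group
    -- `c ^ 2 = 1`
    have hc2 : c ^ 2 = 1 := by
      have hyc : y * c * y⁻¹ = c := by rw [hyC c hcC]; group
      have h4 : y * y * (x * x') * (y * y)⁻¹ = c * c * (x * x') := by
        have : y * y * (x * x') * (y * y)⁻¹ = y * (y * (x * x') * y⁻¹) * y⁻¹ := by group
        rw [this, hw]
        have : y * (c * (x * x')) * y⁻¹ = (y * c * y⁻¹) * (y * (x * x') * y⁻¹) := by group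
        rw [this, hyc, hw]; group
      have h5 : y * y * (x * x') * (y * y)⁻¹ = x * x' := by
        rw [hyq' (x * x') (P.mul_mem hx hx'P)]; group
      rw [h5] at h4
      have : c * c * (x * x') = 1 * (x * x') := by rw [one_mul]; exact h4.symm
      rw [pow_two]
      exact mul_right_cancel this
    have hc1 : c = 1 := by
      obtain ⟨k, hk⟩ := h.pgrp ⟨c, hCP hcC⟩
      have hk' : c ^ 3 ^ k = 1 := by
        have := congrArg Subtype.val hk
        simpa using this
      have h1 : orderOf c ∣ 2 := orderOf_dvd_of_pow_eq_one hc2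
      have h2 : orderOf c ∣ 3 ^ k := orderOf_dvd_of_pow_eq_one hk'
      have hcop : Nat.Coprime 2 (3 ^ k) := Nat.Coprime.pow_right k (by norm_num)
      have : orderOf c ∣ 1 := by
        have := Nat.dvd_gcd h1 h2
        rwa [hcop] at this
      exact orderOf_eq_one_iff.1 (Nat.dvd_one.1 this)
    rw [hc1, one_mul] at hw
    apply hmemC _ (P.mul_mem hx hx'P)
    calc y * (x * x') = y * (x * x') * y⁻¹ * y := by group
      _ = x * x' * y := by rw [hw]
  -- pick `x ∈ P ∖ C`
  obtain ⟨x, hxP, hxy⟩ := h.nc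
  have hxC : x ∉ C := by
    intro hx
    exact hxy (hyC x hx)
  set w := x * (y * x * y⁻¹) with hw
  have hwC : w ∈ C := hinv x hxP
  have hyx : y * x * y⁻¹ = x⁻¹ * w := by rw [hw]; group
  have hx3 : x ^ 3 ∈ C := hb2 x hxP
  -- central elements
  have hcen : ∀ c ∈ C, ∀ u ∈ P, c * u = u * c := hb3
  -- the subgroup `M = ⟨x⟩ C`
  let M : Subgroup X :=
    { carrier := {u | ∃ i : ℕ, ∃ c ∈ C, u = x ^ i * c}
      one_mem' := ⟨0, 1, C.one_mem, by simp⟩
      mul_mem' := by
        rintro _ _ ⟨i, c, hc, rfl⟩ ⟨j, d, hd, rfl⟩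
        refine ⟨i + j, c * d, C.mul_mem hc hd, ?_⟩
        have := hcen c hc (x ^ j) (P.pow_mem hxP j)
        calc x ^ i * c * (x ^ j * d) = x ^ i * (c * x ^ j) * d := by group
          _ = x ^ i * (x ^ j * c) * d := by rw [this]
          _ = x ^ (i + j) * (c * d) := by rw [pow_add]; group
      inv_mem' := by
        rintro _ ⟨i, c, hc, rfl⟩
        refine ⟨i * (orderOf x - 1), c⁻¹, C.inv_mem hc, ?_⟩
        have hxinv : x⁻¹ = x ^ (orderOf x - 1) := by
          have hpos : 0 < orderOf x := orderOf_pos x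
          have : x ^ (orderOf x - 1) * x = 1 := by
            rw [← pow_succ, Nat.sub_add_cancel hpos, pow_orderOf_eq_one]
          exact (eq_inv_of_mul_eq_one_left this).symm
        have := hcen c hc (x ^ i) (P.pow_mem hxP i)
        rw [mul_comm i, pow_mul, ← hxinv, inv_pow, ← this, mul_inv_rev] }
  have hMmem : ∀ u, u ∈ M ↔ ∃ i : ℕ, ∃ c ∈ C, u = x ^ i * c := fun u => Iff.rfl
  have hMP : M ≤ P := by
    rintro _ ⟨i, c, hc, rfl⟩
    exact P.mul_mem (P.pow_mem hxP i) (hCP hc)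
  have hxM : x ∈ M := ⟨1, 1, C.one_mem, by simp⟩
  -- `M ≠ P`
  have hMne : M ≠ P := by
    intro hMeq
    have hsurj : Function.Surjective
        (fun ic : Fin 3 × ↥C => (⟨x ^ (ic.1 : ℕ) * (ic.2 : X),
          P.mul_mem (P.pow_mem hxP _) (hCP ic.2.2)⟩ : ↥P)) := by
      rintro ⟨u, hu⟩
      rw [← hMeq] at hu
      obtain ⟨i, c, hc, rfl⟩ := hu
      refine ⟨(⟨i % 3, Nat.mod_lt _ (by norm_num)⟩, ⟨(x ^ 3) ^ (i / 3) * c,
        C.mul_mem (C.pow_mem hx3 _) hc⟩), ?_⟩
      apply Subtype.ext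
      show x ^ (i % 3) * ((x ^ 3) ^ (i / 3) * c) = x ^ i * c
      rw [← mul_assoc, ← pow_mul, ← pow_add, Nat.mod_add_div]
    have hle := Nat.card_le_card_of_surjective _ hsurj
    rw [Nat.card_prod, Nat.card_fin, hcard] at hle
    omega
  -- `M` is `y`-invariant
  have hMinv : ∀ m ∈ M, y * m * y⁻¹ ∈ M := by
    rintro _ ⟨i, c, hc, rfl⟩
    have h1 : y * (x ^ i * c) * y⁻¹ = (y * x * y⁻¹) ^ i * (y * c * y⁻¹) := by
      rw [conj_pow]; group
    have h2 : y * c * y⁻¹ = c := by rw [hyC c hc]; group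
    rw [h1, h2, hyx]
    have hwx : Commute x⁻¹ w := (hcen w hwC x⁻¹ (P.inv_mem hxP)).symm
    rw [hwx.mul_pow]
    have : x⁻¹ ^ i ∈ M := M.pow_mem (M.inv_mem hxM) i
    have hwi : w ^ i * c ∈ M := ⟨0, w ^ i * c, C.mul_mem (C.pow_mem hwC i) hc, by simp⟩
    rw [mul_assoc]
    exact M.mul_mem this hwi
  exact hxy (h.irr M hMP hMne hMinv x hxM)

end Cfsg.Agent.S4394P
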