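import Mathlib
import Cfsg.Agent.Helper26.S4394Defs
import Cfsg.Agent.Helper8.S4394GSea
import Cfsg.Agent.Helper20.S4394GSb

/-! # S4394 piece GSe: `p = 3`, `|P : C_P(y)| = 9` is impossible (wrapper of `GSe_aux_core`) -/

set_option autoImplicit false

namespace Cfsg.Agent.S4394P

open Cfsg

/-- GSe (M/L): the case `p = 3`, `|P : C| = 9` is impossible. -/
theorem GSe {X : Type*} [Group X] [Finite X] {P : Subgroup X} {y : X}
    (h : SchData 3 P y) (q : ℕ) (hq : q.Prime) (hq3 : q ≠ 3) (hyo : ∃ k : ℕ, orderOf y = q ^ k)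
    (hyq : ∀ u ∈ P, y ^ q * u = u * y ^ q)
    (hidx : (P ⊓ Subgroup.centralizer {y}).relIndex P = 9) : False := by
  haveI : Fact (Nat.Prime 3) := ⟨Nat.prime_three⟩
  obtain ⟨hb1, hb2, hb3, -⟩ := GSb h
  exact GSe_aux_core h hb1 hb2 hb3 q hq hq3 hyq hidx

end Cfsg.Agent.S4394P
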