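import Mathlib

set_option autoImplicit false
set_option linter.unusedSectionVars false
set_option linter.unusedVariables false

/-! S5075 piece COMPL: a perfect pairing between `D ≤ ker π` and `C ≤ (range π)^⊥` gives a complement of
`range π ⊔ D` and a pair of dual families. -/

namespace Cfsg.Agent.S5075P

variable {p : ℕ} [Fact p.Prime] {V : Type*} [AddCommGroup V] [Module (ZMod p) V]

/-- dual family for a perfect pairing between a subspace `D` and a subspace `C` of the dual -/
theorem COMPL_dualfam [Finite V] (D : Submodule (ZMod p) V)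
    (C : Submodule (ZMod p) (Module.Dual (ZMod p) V))
    (h1 : ∀ d ∈ D, (∀ ξ ∈ C, ξ d = 0) → d = 0) (h2 : ∀ ξ ∈ C, (∀ d ∈ D, ξ d = 0) → ξ = 0) :
    ∃ (n : ℕ) (bD : Fin n → V) (c : Fin n → Module.Dual (ZMod p) V),
      (∀ i, bD i ∈ D) ∧ (∀ i, c i ∈ C) ∧ (∀ i j, c i (bD j) = if i = j then 1 else 0) ∧
      Submodule.span (ZMod p) (Set.range bD) = D := by
  classical
  have : Module.Finite (ZMod p) V := Module.Finite.of_finite
  -- restriction map C → Dual D
  let R : C →ₗ[ZMod p] Module.Dual (ZMod p) D := D.dualRestrict ∘ₗ C.subtype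
  let E : D →ₗ[ZMod p] Module.Dual (ZMod p) C :=
    C.dualRestrict ∘ₗ (Module.Dual.eval (ZMod p) V) ∘ₗ D.subtype
  have hR : Function.Injective R := by
    rw [← LinearMap.ker_eq_bot, LinearMap.ker_eq_bot']
    intro ξ hξ
    apply Subtype.ext
    apply h2 ξ.1 ξ.2
    intro d hd
    have := LinearMap.congr_fun hξ ⟨d, hd⟩
    simpa [R] using this
  have hE : Function.Injective E := by
    rw [← LinearMap.ker_eq_bot, LinearMap.ker_eq_bot']
    intro d hd
    apply Subtype.ext
    apply h1 d.1 d.2
    intro ξ hξ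
    have := LinearMap.congr_fun hd ⟨ξ, hξ⟩
    simpa [E] using this
  have hd1 : Module.finrank (ZMod p) C ≤ Module.finrank (ZMod p) D := by
    have := LinearMap.finrank_le_finrank_of_injective hR
    rwa [Subspace.dual_finrank_eq] at this
  have hd2 : Module.finrank (ZMod p) D ≤ Module.finrank (ZMod p) C := by
    have := LinearMap.finrank_le_finrank_of_injective hE
    rwa [Subspace.dual_finrank_eq] at this
  have hdim : Module.finrank (ZMod p) C = Module.finrank (ZMod p) (Module.Dual (ZMod p) D) := by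
    rw [Subspace.dual_finrank_eq]; omega
  have hRs : Function.Surjective R :=
    (LinearMap.injective_iff_surjective_of_finrank_eq_finrank hdim).mp hR
  let bD := Module.finBasis (ZMod p) D
  choose c hc using fun i => hRs (bD.coord i)
  refine ⟨_, fun i => (bD i : V), fun i => (c i : Module.Dual (ZMod p) V), fun i => (bD i).2,
    fun i => (c i).2, ?_, ?_⟩
  · intro i j
    have := LinearMap.congr_fun (hc i) (bD j)
    simp only [R, LinearMap.coe_comp, Function.comp_apply, Submodule.coe_subtype,
      Submodule.dualRestrict_apply, Module.Basis.coord_apply, Module.Basis.repr_self] at this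
    rw [this, Finsupp.single_apply]
    by_cases h : i = j
    · simp [h]
    · simp [h, Ne.symm h]
  · have : Set.range (fun i => (bD i : V)) = D.subtype '' Set.range bD := by
      rw [← Set.range_comp]; rfl
    rw [this, Submodule.span_image, bD.span_eq, Submodule.map_subtype_top]


/-- a basis of `range π` together with its dual family `coord ∘ π` -/
theorem COMPL_rangefam [Finite V] {π : V →ₗ[ZMod p] V} (hπ : π ∘ₗ π = π) :
    ∃ (a : ℕ) (bM : Fin a → V) (fM : Fin a → Module.Dual (ZMod p) V),
      (∀ i, π (bM i) = bM i) ∧ (∀ i, fM i ∘ₗ π = fM i) ∧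
      (∀ i j, fM i (bM j) = if i = j then 1 else 0) ∧
      Submodule.span (ZMod p) (Set.range bM) = LinearMap.range π := by
  classical
  have : Module.Finite (ZMod p) V := Module.Finite.of_finite
  have hpp : ∀ x, π (π x) = π x := fun x => LinearMap.congr_fun hπ x
  let bM := Module.finBasis (ZMod p) (LinearMap.range π)
  have hfix : ∀ m : LinearMap.range π, π (m : V) = m := by
    rintro ⟨m, x, rfl⟩
    exact hpp x
  refine ⟨_, fun i => (bM i : V), fun i => (bM.coord i) ∘ₗ π.rangeRestrict, fun i => hfix _, ?_, ?_,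
    ?_⟩
  · intro i
    apply LinearMap.ext
    intro x
    simp only [LinearMap.coe_comp, Function.comp_apply]
    congr 1
    apply Subtype.ext
    simp [hpp]
  · intro i j
    have h : π.rangeRestrict (bM j : V) = bM j := Subtype.ext (by simpa using hfix (bM j))
    simp only [LinearMap.coe_comp, Function.comp_apply, h, Module.Basis.coord_apply,
      Module.Basis.repr_self]
    rw [Finsupp.single_apply]
    by_cases h : i = j
    · simp [h]
    · simp [h, Ne.symm h]
  · have : Set.range (fun i => (bM i : V)) = (LinearMap.range π).subtype '' Set.range bM := by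
      rw [← Set.range_comp]; rfl
    rw [this, Submodule.span_image, bM.span_eq, Submodule.map_subtype_top]

/-- expansion of `ξ ∈ C` in the dual family -/
theorem COMPL_expand (D : Submodule (ZMod p) V) (C : Submodule (ZMod p) (Module.Dual (ZMod p) V))
    (h2 : ∀ ξ ∈ C, (∀ d ∈ D, ξ d = 0) → ξ = 0) {n : ℕ} (bD : Fin n → V)
    (c : Fin n → Module.Dual (ZMod p) V) (hc : ∀ i, c i ∈ C)
    (hcb : ∀ i j, c i (bD j) = if i = j then 1 else 0)
    (hspan : Submodule.span (ZMod p) (Set.range bD) = D) {ξ : Module.Dual (ZMod p) V}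
    (hξ : ξ ∈ C) : ξ = ∑ j, ξ (bD j) • c j := by
  classical
  have hη : ξ - ∑ j, ξ (bD j) • c j ∈ C :=
    C.sub_mem hξ (C.sum_mem fun j _ => C.smul_mem _ (hc j))
  have := h2 _ hη ?_
  · exact sub_eq_zero.mp this
  · intro d hd
    rw [← hspan] at hd
    induction hd using Submodule.span_induction with
    | mem x hx =>
      obtain ⟨i, rfl⟩ := hx
      simp only [LinearMap.sub_apply, LinearMap.coe_sum, Finset.sum_apply, LinearMap.smul_apply,
        smul_eq_mul, hcb]
      simp
    | zero => simp
    | add x y _ _ hx hy => rw [map_add, hx, hy, add_zero]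
    | smul a x _ hx => rw [map_smul, hx, smul_zero]


/-- the complement statement -/
theorem COMPL_isCompl [Finite V] {π : V →ₗ[ZMod p] V} (hπ : π ∘ₗ π = π)
    (D : Submodule (ZMod p) V) (C : Submodule (ZMod p) (Module.Dual (ZMod p) V))
    (hD : ∀ d ∈ D, π d = 0) (hC : ∀ ξ ∈ C, ξ ∘ₗ π = 0)
    (h1 : ∀ d ∈ D, (∀ ξ ∈ C, ξ d = 0) → d = 0) (h2 : ∀ ξ ∈ C, (∀ d ∈ D, ξ d = 0) → ξ = 0) :
    IsCompl (LinearMap.range π ⊔ D)
      ((LinearMap.ker π ⊓ (Submodule.dualCoannihilator C) : Submodule (ZMod p) V)) := by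
  classical
  have hpp : ∀ x, π (π x) = π x := fun x => LinearMap.congr_fun hπ x
  obtain ⟨n, bD, c, hbD, hc, hcb, hspan⟩ := COMPL_dualfam D C h1 h2
  constructor
  · rw [Submodule.disjoint_def]
    intro x hx hx'
    obtain ⟨y, hy, z, hz, rfl⟩ := Submodule.mem_sup.mp hx
    obtain ⟨y', rfl⟩ := hy
    obtain ⟨hk, hco⟩ := Submodule.mem_inf.mp hx'
    rw [LinearMap.mem_ker, map_add, hpp, hD z hz, add_zero] at hk
    rw [hk, zero_add] at hco ⊢
    exact h1 z hz (fun ξ hξ => (Submodule.mem_dualCoannihilator _).mp hco ξ hξ)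
  · rw [codisjoint_iff, eq_top_iff]
    intro x _
    set nn : V := x - π x with hnn
    set d : V := ∑ j, c j nn • bD j with hd
    have hdD : d ∈ D := D.sum_mem fun j _ => D.smul_mem _ (hbD j)
    have hu : nn - d ∈ LinearMap.ker π ⊓ Submodule.dualCoannihilator C := by
      refine Submodule.mem_inf.mpr ⟨?_, ?_⟩
      · rw [LinearMap.mem_ker, map_sub, hD d hdD, hnn, map_sub, hpp, sub_self, sub_zero]
      · rw [Submodule.mem_dualCoannihilator]
        intro ξ hξ
        have hcd : ∀ i, c i d = c i nn := by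
          intro i
          rw [hd, map_sum]
          simp only [map_smul, smul_eq_mul, hcb]
          simp
        rw [COMPL_expand D C h2 bD c hc hcb hspan hξ]
        simp [hcd]
    have hx : x = (π x + d) + (nn - d) := by rw [hnn]; abel
    rw [hx]
    exact Submodule.add_mem_sup
      (Submodule.add_mem_sup (LinearMap.mem_range_self π x) hdD) hu

theorem compl_of_pairing [Finite V] {π : V →ₗ[ZMod p] V} (hπ : π ∘ₗ π = π)
    (D : Submodule (ZMod p) V) (C : Submodule (ZMod p) (Module.Dual (ZMod p) V))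
    (hD : ∀ d ∈ D, π d = 0) (hC : ∀ ξ ∈ C, ξ ∘ₗ π = 0)
    (h1 : ∀ d ∈ D, (∀ ξ ∈ C, ξ d = 0) → d = 0) (h2 : ∀ ξ ∈ C, (∀ d ∈ D, ξ d = 0) → ξ = 0) :
    IsCompl (LinearMap.range π ⊔ D)
      ((LinearMap.ker π ⊓ (Submodule.dualCoannihilator C) : Submodule (ZMod p) V)) ∧
    ∃ (ι : Type) (_ : Fintype ι) (_ : DecidableEq ι) (b : ι → V)
      (f : ι → Module.Dual (ZMod p) V) (s : ι → Bool),
      (∀ i j, f i (b j) = if i = j then 1 else 0) ∧
      (∀ i, s i = true → π (b i) = b i ∧ f i ∘ₗ π = f i) ∧
      (∀ i, s i = false → b i ∈ D ∧ f i ∈ C) ∧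
      Submodule.span (ZMod p) (Set.range b) = LinearMap.range π ⊔ D ∧
      (∀ ξ : Module.Dual (ZMod p) V,
        (∀ x ∈ LinearMap.ker π ⊓ Submodule.dualCoannihilator C, ξ x = 0) →
        ξ ∈ Submodule.span (ZMod p) (Set.range f)) := by
  classical
  have hpp : ∀ x, π (π x) = π x := fun x => LinearMap.congr_fun hπ x
  have hcompl := COMPL_isCompl hπ D C hD hC h1 h2
  refine ⟨hcompl, ?_⟩
  obtain ⟨n, bD, c, hbD, hc, hcb, hspanD⟩ := COMPL_dualfam D C h1 h2
  obtain ⟨a, bM, fM, hbM, hfM, hfb, hspanM⟩ := COMPL_rangefam hπ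
  have hspan : Submodule.span (ZMod p) (Set.range (Sum.elim bM bD)) = LinearMap.range π ⊔ D := by
    rw [Set.Sum.elim_range, Submodule.span_union, hspanM, hspanD]
  have hdelta : ∀ i j, (Sum.elim fM c : Fin a ⊕ Fin n → Module.Dual (ZMod p) V) i
      ((Sum.elim bM bD : Fin a ⊕ Fin n → V) j) = if i = j then 1 else 0 := by
    rintro (i | i) (j | j)
    · simp only [Sum.elim_inl, hfb, Sum.inl.injEq]
    · simp only [Sum.elim_inl, Sum.elim_inr, reduceCtorEq, if_false]
      rw [← hfM i, LinearMap.comp_apply, hD _ (hbD j), map_zero]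
    · simp only [Sum.elim_inl, Sum.elim_inr, reduceCtorEq, if_false]
      rw [← hbM j, ← LinearMap.comp_apply, hC _ (hc i), LinearMap.zero_apply]
    · simp only [Sum.elim_inr, hcb, Sum.inr.injEq]
  refine ⟨Fin a ⊕ Fin n, inferInstance, inferInstance, Sum.elim bM bD, Sum.elim fM c,
    Sum.elim (fun _ => true) (fun _ => false), hdelta, ?_, ?_, hspan, ?_⟩
  · rintro (i | i) hi
    · exact ⟨hbM i, hfM i⟩
    · simp at hi
  · rintro (i | i) hi
    · simp at hi
    · exact ⟨hbD i, hc i⟩
  · intro ξ hξ
    set b : Fin a ⊕ Fin n → V := Sum.elim bM bD with hb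
    set f : Fin a ⊕ Fin n → Module.Dual (ZMod p) V := Sum.elim fM c with hf
    -- each `f i` vanishes on the complement
    have hfvan : ∀ i, ∀ x ∈ LinearMap.ker π ⊓ Submodule.dualCoannihilator C, f i x = 0 := by
      rintro (i | i) x hx
      · obtain ⟨hk, -⟩ := Submodule.mem_inf.mp hx
        simp only [hf, Sum.elim_inl]
        rw [← hfM i, LinearMap.comp_apply, LinearMap.mem_ker.mp hk, map_zero]
      · obtain ⟨-, hco⟩ := Submodule.mem_inf.mp hx
        simp only [hf, Sum.elim_inr]
        exact (Submodule.mem_dualCoannihilator _).mp hco _ (hc i)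
    have hon : ∀ y ∈ LinearMap.range π ⊔ D, ξ y = (∑ i, ξ (b i) • f i) y := by
      intro y hy
      rw [← hspan] at hy
      induction hy using Submodule.span_induction with
      | mem w hw =>
        obtain ⟨i, rfl⟩ := hw
        simp only [LinearMap.coe_sum, Finset.sum_apply, LinearMap.smul_apply, smul_eq_mul,
          hdelta]
        simp
      | zero => simp
      | add w w' _ _ hw hw' => rw [map_add, map_add, hw, hw']
      | smul r w _ hw => rw [map_smul, map_smul, hw]
    have hsum : ξ = ∑ i, ξ (b i) • f i := by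
      apply LinearMap.ext
      intro x
      have hx : x ∈ (LinearMap.range π ⊔ D) ⊔
          (LinearMap.ker π ⊓ Submodule.dualCoannihilator C) := by
        rw [hcompl.sup_eq_top]; trivial
      obtain ⟨y, hy, z, hz, rfl⟩ := Submodule.mem_sup.mp hx
      have hz0 : (∑ i, ξ (b i) • f i) z = 0 := by
        simp only [LinearMap.coe_sum, Finset.sum_apply, LinearMap.smul_apply, hfvan _ z hz,
          smul_zero, Finset.sum_const_zero]
      rw [map_add, map_add, hξ z hz, hz0, hon y hy]
    rw [hsum]
    exact Submodule.sum_mem _ fun i _ =>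
      Submodule.smul_mem _ _ (Submodule.subset_span (Set.mem_range_self i))

end Cfsg.Agent.S5075P
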