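import Mathlib

set_option autoImplicit false
set_option linter.unusedSectionVars false
set_option linter.unusedVariables false

/-! S5075 piece DECOMP: complements `Ws j ⊕ Us j` with `Ws i ≤ Us j` (`i ≠ j`) give an internal direct
sum decomposition `V = (⨅ Us) ⊕ Ws 0 ⊕ ... `. -/

namespace Cfsg.Agent.S5075P

variable {p : ℕ} [Fact p.Prime] {V : Type*} [AddCommGroup V] [Module (ZMod p) V]

theorem DECOMP_indep {R M ι : Type*} [Ring R] [AddCommGroup M] [Module R M]
    (q : ι → Submodule R M) (E : ι → M →ₗ[R] M)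
    (h1 : ∀ k, ∀ x ∈ q k, E k x = x) (h0 : ∀ k j, j ≠ k → ∀ x ∈ q j, E k x = 0) :
    iSupIndep q := by
  intro k
  rw [Submodule.disjoint_def]
  intro x hx hx'
  have hle : (⨆ (j) (_ : j ≠ k), q j) ≤ LinearMap.ker (E k) :=
    iSup₂_le (fun j hj y hy => LinearMap.mem_ker.mpr (h0 k j hj y hy))
  have h := hle hx'
  rw [LinearMap.mem_ker, h1 k x hx] at h
  exact h

theorem decomp_internal {n : ℕ} (Ws Us : Fin n → Submodule (ZMod p) V)
    (hc : ∀ j, IsCompl (Ws j) (Us j)) (hle : ∀ i j, i ≠ j → Ws i ≤ Us j) :
    DirectSum.IsInternal (Fin.cons (⨅ j, Us j) Ws : Fin (n + 1) → Submodule (ZMod p) V) := by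
  classical
  -- the projections
  set e : Fin n → V →ₗ[ZMod p] V := fun i => (Ws i).projection (Us i) (hc i) with he
  have e_mem : ∀ i x, e i x ∈ Ws i := fun i x => Submodule.projection_apply_mem (hc i) x
  have e_left : ∀ i x, x ∈ Ws i → e i x = x := fun i x hx =>
    Submodule.projection_apply_of_mem_left (hc i) hx
  have e_right : ∀ i x, x ∈ Us i → e i x = 0 := fun i x hx =>
    (Submodule.projection_apply_eq_zero_iff (hc i)).mpr hx
  have e_zero : ∀ i x, e i x = 0 → x ∈ Us i := fun i x hx =>
    (Submodule.projection_apply_eq_zero_iff (hc i)).mp hx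
  have e_other : ∀ i j x, j ≠ i → x ∈ Ws j → e i x = 0 := fun i j x hji hx =>
    e_right i x (hle j i hji hx)
  set E0 : V →ₗ[ZMod p] V := LinearMap.id - ∑ i, e i with hE0
  have E0_apply : ∀ x, E0 x = x - ∑ i, e i x := by
    intro x
    simp [hE0, LinearMap.sub_apply, LinearMap.sum_apply]
  have e_E0 : ∀ i x, e i (E0 x) = 0 := by
    intro i x
    rw [E0_apply, map_sub, map_sum]
    rw [Finset.sum_eq_single i]
    · rw [e_left i (e i x) (e_mem i x), sub_self]
    · intro j _ hji
      exact e_other i j (e j x) hji (e_mem j x)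
    · intro h; exact absurd (Finset.mem_univ i) h
  have E0_mem : ∀ x, E0 x ∈ ⨅ j, Us j := by
    intro x
    rw [Submodule.mem_iInf]
    intro i
    exact e_zero i _ (e_E0 i x)
  have E0_inf : ∀ x, x ∈ ⨅ j, Us j → E0 x = x := by
    intro x hx
    rw [Submodule.mem_iInf] at hx
    rw [E0_apply]
    have : ∑ i, e i x = 0 := Finset.sum_eq_zero (fun i _ => e_right i x (hx i))
    rw [this, sub_zero]
  have E0_W : ∀ j x, x ∈ Ws j → E0 x = 0 := by
    intro j x hx
    rw [E0_apply, Finset.sum_eq_single j]
    · rw [e_left j x hx, sub_self]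
    · intro i _ hij
      exact e_other i j x hij.symm hx
    · intro h; exact absurd (Finset.mem_univ j) h
  apply DirectSum.isInternal_submodule_of_iSupIndep_of_iSup_eq_top
  · apply DECOMP_indep _ (Fin.cons E0 e : Fin (n + 1) → V →ₗ[ZMod p] V)
    · intro k
      refine Fin.cases ?_ (fun i => ?_) k
      · intro x hx
        simp only [Fin.cons_zero] at hx ⊢
        exact E0_inf x hx
      · intro x hx
        simp only [Fin.cons_succ] at hx ⊢
        exact e_left i x hx
    · intro k j
      refine Fin.cases ?_ (fun i => ?_) k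
      · refine Fin.cases ?_ (fun i' => ?_) j
        · intro h; exact absurd rfl h
        · intro _ x hx
          simp only [Fin.cons_zero, Fin.cons_succ] at hx ⊢
          exact E0_W i' x hx
      · refine Fin.cases ?_ (fun i' => ?_) j
        · intro _ x hx
          simp only [Fin.cons_zero, Fin.cons_succ] at hx ⊢
          rw [Submodule.mem_iInf] at hx
          exact e_right i x (hx i)
        · intro hne x hx
          simp only [Fin.cons_succ] at hx ⊢
          have hne' : i' ≠ i := fun h => hne (by rw [h])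
          exact e_other i i' x hne' hx
  · rw [eq_top_iff]
    intro x _
    have hx : x = E0 x + ∑ i, e i x := by rw [E0_apply]; abel
    rw [hx]
    apply Submodule.add_mem
    · have h0 : (Fin.cons (⨅ j, Us j) Ws : Fin (n + 1) → Submodule (ZMod p) V) 0 ≤
          ⨆ k, (Fin.cons (⨅ j, Us j) Ws : Fin (n + 1) → Submodule (ZMod p) V) k :=
        le_iSup _ 0
      apply h0
      simp only [Fin.cons_zero]
      exact E0_mem x
    · apply Submodule.sum_mem
      intro i _
      have h0 : (Fin.cons (⨅ j, Us j) Ws : Fin (n + 1) → Submodule (ZMod p) V) i.succ ≤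
          ⨆ k, (Fin.cons (⨅ j, Us j) Ws : Fin (n + 1) → Submodule (ZMod p) V) k :=
        le_iSup _ i.succ
      apply h0
      simp only [Fin.cons_succ]
      exact e_mem i x

end Cfsg.Agent.S5075P
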