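import Mathlib

set_option autoImplicit false
open scoped MatrixGroups Matrix

/-! S5981 pieces SIMPOWM and PAIRM (pure matrix lemmas). -/

namespace Cfsg.Agent.S5981P

namespace SIMPOWM

theorem pow_form {F : Type*} [Field F] {n : ℕ} (G x : Matrix (Fin n) (Fin n) F) (c : F)
    (hc : xᵀ * G * x = c • G) (k : ℕ) : (x ^ k)ᵀ * G * x ^ k = c ^ k • G := by
  induction k with
  | zero => simp
  | succ k ih =>
    have e : (x ^ (k + 1))ᵀ * G * x ^ (k + 1) = xᵀ * ((x ^ k)ᵀ * G * x ^ k) * x := by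
      rw [pow_succ, Matrix.transpose_mul]
      simp only [Matrix.mul_assoc]
    rw [e, ih, Matrix.mul_smul, Matrix.smul_mul, hc, smul_smul, pow_succ]

end SIMPOWM

/-- SIMPOWM: the factor of a similitude `x` with `x ^ r = z` -/
theorem factor_pow {F : Type*} [Field F] {n : ℕ} (hn : 1 ≤ n) (G x : Matrix (Fin n) (Fin n) F)
    (c : F) (hG : G.det ≠ 0) (hc : xᵀ * G * x = c • G) (r : ℕ) (z : F)
    (hz : x ^ r = z • (1 : Matrix (Fin n) (Fin n) F)) : c ^ r = z ^ 2 := by
  have h := SIMPOWM.pow_form G x c hc r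
  rw [hz, Matrix.transpose_smul, Matrix.transpose_one, Matrix.smul_mul, Matrix.one_mul,
    Matrix.mul_smul, Matrix.mul_one, smul_smul] at h
  have hG0 : G ≠ 0 := by
    rintro rfl
    have : Nonempty (Fin n) := ⟨⟨0, by omega⟩⟩
    exact hG Matrix.det_zero
  have h2 : (z * z - c ^ r) • G = 0 := by rw [sub_smul, h, sub_self]
  rcases smul_eq_zero.mp h2 with h3 | h3
  · rw [pow_two]; exact (sub_eq_zero.mp h3).symm
  · exact absurd h3 hG0


namespace PAIRM

theorem rank_smul_of_ne_zero {F : Type*} [Field F] {n : ℕ} (a : F) (ha : a ≠ 0)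
    (M : Matrix (Fin n) (Fin n) F) : (a • M).rank = M.rank := by
  have h1 : a • M = (a • (1 : Matrix (Fin n) (Fin n) F)) * M := by
    rw [Matrix.smul_mul, Matrix.one_mul]
  rw [h1]
  apply Matrix.rank_mul_eq_right_of_isUnit_det
  rw [Matrix.det_smul, Matrix.det_one, mul_one]
  exact (pow_ne_zero _ ha).isUnit

theorem finrank_ker_eq {F : Type*} [Field F] {n : ℕ} (A : Matrix (Fin n) (Fin n) F) :
    Module.finrank F (LinearMap.ker (Matrix.toLin' A)) + A.rank = n := by
  have h := LinearMap.finrank_range_add_finrank_ker (Matrix.toLin' A)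
  rw [Module.finrank_fintype_fun_eq_card, Fintype.card_fin] at h
  rw [Matrix.rank, ← Matrix.toLin'_apply']
  omega

end PAIRM

/-- PAIRM: eigenvalue pairing `α ↔ c / α` for a matrix similitude -/
theorem finrank_ker_pair {F : Type*} [Field F] {n : ℕ} (G x : Matrix (Fin n) (Fin n) F) (c : F)
    (hG : G.det ≠ 0) (hx : x.det ≠ 0) (hc : xᵀ * G * x = c • G) (α : F) (hα : α ≠ 0) :
    Module.finrank F (LinearMap.ker (Matrix.toLin' x - α • (1 : Module.End F (Fin n → F)))) =
      Module.finrank F (LinearMap.ker (Matrix.toLin' x -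
        (c * α⁻¹) • (1 : Module.End F (Fin n → F)))) := by
  have hxu : IsUnit x.det := isUnit_iff_ne_zero.mpr hx
  have hGu : IsUnit G.det := isUnit_iff_ne_zero.mpr hG
  have hxx : x * x⁻¹ = 1 := Matrix.mul_nonsing_inv x hxu
  have hxx' : x⁻¹ * x = 1 := Matrix.nonsing_inv_mul x hxu
  have hxi : IsUnit (x⁻¹).det := by
    rw [Matrix.det_nonsing_inv]
    exact hxu.ringInverse
  -- `xᵀ G = c G x⁻¹`
  have h1 : xᵀ * G = c • (G * x⁻¹) := by
    have := congrArg (· * x⁻¹) hc
    simp only [Matrix.mul_assoc, hxx, Matrix.mul_one, Matrix.smul_mul] at this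
    exact this
  set A : Matrix (Fin n) (Fin n) F := x - α • 1 with hA
  set A' : Matrix (Fin n) (Fin n) F := x - (c * α⁻¹) • 1 with hA'
  have key : Aᵀ * G = (-α) • (G * x⁻¹ * A') := by
    rw [hA, hA', Matrix.transpose_sub, Matrix.transpose_smul, Matrix.transpose_one, Matrix.sub_mul,
      h1, Matrix.smul_mul, Matrix.one_mul, Matrix.mul_sub, Matrix.mul_assoc G, hxx', Matrix.mul_one,
      Matrix.mul_smul, Matrix.mul_one, smul_sub, smul_smul]
    have e1 : -α * (c * α⁻¹) = -c := by field_simp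
    rw [e1, neg_smul, neg_smul, sub_neg_eq_add, neg_add_eq_sub]
  have hrank : A.rank = A'.rank := by
    have r1 : (Aᵀ * G).rank = A.rank := by
      rw [Matrix.rank_mul_eq_left_of_isUnit_det G Aᵀ hGu, Matrix.rank_transpose]
    have r2 : ((-α) • (G * x⁻¹ * A')).rank = A'.rank := by
      rw [PAIRM.rank_smul_of_ne_zero (-α) (neg_ne_zero.mpr hα), Matrix.mul_assoc,
        Matrix.rank_mul_eq_right_of_isUnit_det G _ hGu,
        Matrix.rank_mul_eq_right_of_isUnit_det x⁻¹ _ hxi]
    rw [← r1, key, r2]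
  have e1 : Matrix.toLin' x - α • (1 : Module.End F (Fin n → F)) = Matrix.toLin' A := by
    rw [hA, map_sub, map_smul, Matrix.toLin'_one]; rfl
  have e2 : Matrix.toLin' x - (c * α⁻¹) • (1 : Module.End F (Fin n → F)) = Matrix.toLin' A' := by
    rw [hA', map_sub, map_smul, Matrix.toLin'_one]; rfl
  rw [e1, e2]
  have k1 := PAIRM.finrank_ker_eq A
  have k2 := PAIRM.finrank_ker_eq A'
  omega

end Cfsg.Agent.S5981P
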