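import Mathlib
import Cfsg.Prelude.Def_GeometricClasses
import Cfsg.Prelude.Def_Classical
import Cfsg.Prelude.Def_LieClassical

set_option autoImplicit false
open scoped MatrixGroups Matrix

/-! S5981 piece CONJQ: transport of a quadratic form along a conjugation. -/

namespace Cfsg.Agent.S5981P

/-- CONJQ: a conjugate of `x` is a similitude of `Q` => `x` is a similitude of a transported form -/
theorem quad_of_conj_mem {F : Type*} [Field F] {n : ℕ} (Q : (Fin n → F) → F)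
    (hQ : Cfsg.Geo.IsNondegenerateQuadraticForm Q) (g x : GL (Fin n) F)
    (h : g⁻¹ * x * g ∈ Cfsg.Geo.quadSimilarityGroup Q) :
    ∃ Q' : (Fin n → F) → F, Cfsg.Geo.IsNondegenerateQuadraticForm Q' ∧
      x ∈ Cfsg.Geo.quadSimilarityGroup Q' := by
  have hgi : ∀ u : Fin n → F, ((g⁻¹ : GL (Fin n) F) : Matrix (Fin n) (Fin n) F) *ᵥ
      ((g : Matrix (Fin n) (Fin n) F) *ᵥ u) = u := by
    intro u
    rw [Matrix.mulVec_mulVec, ← Units.val_mul, inv_mul_cancel, Units.val_one, Matrix.one_mulVec]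
  have hgi' : ∀ u : Fin n → F, (g : Matrix (Fin n) (Fin n) F) *ᵥ
      (((g⁻¹ : GL (Fin n) F) : Matrix (Fin n) (Fin n) F) *ᵥ u) = u := by
    intro u
    rw [Matrix.mulVec_mulVec, ← Units.val_mul, mul_inv_cancel, Units.val_one, Matrix.one_mulVec]
  set Gi : Matrix (Fin n) (Fin n) F := ((g⁻¹ : GL (Fin n) F) : Matrix (Fin n) (Fin n) F) with hGi
  have hpol : ∀ u v : Fin n → F, QuadraticMap.polar (fun w => Q (Gi *ᵥ w)) u v =
      QuadraticMap.polar Q (Gi *ᵥ u) (Gi *ᵥ v) := by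
    intro u v
    simp only [QuadraticMap.polar, Matrix.mulVec_add]
  refine ⟨fun w => Q (Gi *ᵥ w), ⟨?_, ⟨?_, ?_, ?_, ?_⟩, ?_⟩, ?_⟩
  · intro c v
    show Q (Gi *ᵥ (c • v)) = _
    rw [Matrix.mulVec_smul, hQ.smul]
  · intro a b v
    rw [hpol, hpol, hpol, Matrix.mulVec_add, hQ.polar_bilinear.add_left]
  · intro c a v
    rw [hpol, hpol, Matrix.mulVec_smul, hQ.polar_bilinear.smul_left]
  · intro v a b
    rw [hpol, hpol, hpol, Matrix.mulVec_add, hQ.polar_bilinear.add_right]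
  · intro c v a
    rw [hpol, hpol, Matrix.mulVec_smul, hQ.polar_bilinear.smul_right]
  · intro v hv
    have hv' : Gi *ᵥ v ≠ 0 := by
      intro h0
      apply hv
      rw [← hgi' v, h0, Matrix.mulVec_zero]
    obtain ⟨⟨a, ha⟩, ⟨b, hb⟩⟩ := hQ.nondegenerate _ hv'
    refine ⟨⟨(g : Matrix (Fin n) (Fin n) F) *ᵥ a, ?_⟩, ⟨(g : Matrix (Fin n) (Fin n) F) *ᵥ b, ?_⟩⟩
    · rw [hpol, hgi]
      exact ha
    · rw [hpol, hgi]
      exact hb
  · obtain ⟨c, hc⟩ := h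
    refine ⟨c, fun v => ?_⟩
    show Q (Gi *ᵥ ((x : Matrix (Fin n) (Fin n) F) *ᵥ v)) = (c : F) * Q (Gi *ᵥ v)
    rw [← hc]
    have e : ∀ w : Fin n → F, ((g⁻¹ * x * g : GL (Fin n) F) : Matrix (Fin n) (Fin n) F) *ᵥ
        (Gi *ᵥ w) = Gi *ᵥ ((x : Matrix (Fin n) (Fin n) F) *ᵥ w) := by
      intro w
      rw [Units.val_mul, Units.val_mul, ← Matrix.mulVec_mulVec, ← Matrix.mulVec_mulVec, hgi']
    rw [e]

end Cfsg.Agent.S5981P
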