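import Mathlib

set_option autoImplicit false

/-! S2513, piece B (for helper4): every lcm of members of a divisor-closed set `E` of positive
integers, containing the divisors of `2 ^ d - 1` (`1 ≤ d ≤ n`) and whose odd prime powers divide some
`2 ^ d - 1` (`1 ≤ d ≤ n`), is an lcm of `(n + 3) / 2` members. -/

namespace Cfsg.Agent.Helper4.SpecStab

/-- prime powers to distinct primes dividing `z`: their product divides `z` -/
theorem lcmr_prod_pow_dvd (S : Finset ℕ) (hS : ∀ l ∈ S, l.Prime) (e : ℕ → ℕ) (z : ℕ)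
    (h : ∀ l ∈ S, l ^ e l ∣ z) : ∏ l ∈ S, l ^ e l ∣ z := by
  apply Finset.prod_dvd_of_isRelPrime _ h
  intro l hl l' hl' hne
  show IsRelPrime (l ^ e l) (l' ^ e l')
  rw [← Nat.coprime_iff_isRelPrime]
  exact Nat.coprime_pow_primes _ _ (hS l hl) (hS l' hl') hne

theorem lcm_reduce (n : ℕ) (hn : 2 ≤ n) (E : Set ℕ) (hpos : ∀ a ∈ E, 0 < a)
    (hdiv : ∀ a ∈ E, ∀ b, b ∣ a → b ∈ E)
    (hsing : ∀ d, 1 ≤ d → d ≤ n → ∀ c, c ∣ 2 ^ d - 1 → c ∈ E)
    (hpp : ∀ l e : ℕ, l.Prime → l ≠ 2 → 1 ≤ e → l ^ e ∈ E → ∃ d, 1 ≤ d ∧ d ≤ n ∧ l ^ e ∣ 2 ^ d - 1)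
    {ι : Type*} [Fintype ι] (a : ι → ℕ) (ha : ∀ i, a i ∈ E) :
    ∃ b : Fin ((n + 3) / 2) → ℕ, (∀ j, b j ∈ E) ∧ Finset.univ.lcm b = Finset.univ.lcm a := by
  classical
  have hane : ∀ i ∈ (Finset.univ : Finset ι), a i ≠ 0 := fun i _ => (hpos _ (ha i)).ne'
  obtain ⟨m, hm⟩ : ∃ m : ℕ, m = Finset.univ.lcm a := ⟨_, rfl⟩
  rw [← hm]
  have hm0 : m ≠ 0 := by
    intro h0
    have h1 : m ∣ ∏ i, a i := by
      rw [hm]
      exact Finset.lcm_dvd_prod _ _
    rw [h0, zero_dvd_iff, Finset.prod_eq_zero_iff] at h1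
    obtain ⟨i, hi, hi0⟩ := h1
    exact hane i hi hi0
  have h1E : (1 : ℕ) ∈ E := hsing 1 le_rfl (by omega) 1 (one_dvd _)
  -- the prime power parts of `m` are in `E`
  have hppE : ∀ l : ℕ, l.Prime → l ^ m.factorization l ∈ E := by
    intro l hl
    by_cases h0 : m.factorization l = 0
    · rw [h0, pow_zero]
      exact h1E
    · have hne : (Finset.univ : Finset ι).Nonempty := by
        by_contra hemp
        rw [Finset.not_nonempty_iff_eq_empty] at hemp
        apply h0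
        rw [hm, hemp, Finset.lcm_empty, Nat.factorization_one]
        rfl
      rw [hm, Finset.factorization_lcm hane l]
      obtain ⟨i, -, hi⟩ := Finset.exists_mem_eq_sup _ hne (fun i => (a i).factorization l)
      rw [hi]
      exact hdiv _ (ha i) _ (Nat.ordProj_dvd _ _)
  -- the exponents `D_l`
  have hD : ∀ l ∈ m.primeFactors, l ≠ 2 →
      ∃ D, n / 2 < D ∧ D ≤ n ∧ l ^ m.factorization l ∣ 2 ^ D - 1 := by
    intro l hl h2
    have hlp := Nat.prime_of_mem_primeFactors hl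
    have he : 1 ≤ m.factorization l :=
      hlp.factorization_pos_of_dvd hm0 (Nat.dvd_of_mem_primeFactors hl)
    obtain ⟨d, hd1, hdn, hdvd⟩ := hpp l _ hlp h2 he (hppE l hlp)
    refine ⟨d * (n / d), ?_, Nat.mul_div_le n d, ?_⟩
    · have h1 := Nat.div_add_mod n d
      have h2 := Nat.mod_lt n (show d > 0 by omega)
      have h3 : 1 ≤ n / d := (Nat.one_le_div_iff (by omega)).mpr hdn
      have h4 : d ≤ d * (n / d) := Nat.le_mul_of_pos_right d h3
      omega
    · refine dvd_trans hdvd ?_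
      rw [pow_mul]
      have := Nat.sub_dvd_pow_sub_pow (2 ^ d) 1 (n / d)
      rwa [one_pow] at this
  choose! Dfun hDfun using hD
  obtain ⟨c, hc⟩ : ∃ c : ℕ → ℕ, ∀ D, c D =
      ∏ l ∈ m.primeFactors.filter (fun l => l ≠ 2 ∧ Dfun l = D), l ^ m.factorization l := ⟨_, fun _ => rfl⟩
  obtain ⟨b, hb⟩ : ∃ b : Fin ((n + 3) / 2) → ℕ, ∀ j, b j =
      if (j : ℕ) = 0 then 2 ^ m.factorization 2 else c (n / 2 + j) := ⟨_, fun _ => rfl⟩
  have hcE : ∀ D, 1 ≤ D → D ≤ n → c D ∣ 2 ^ D - 1 := by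
    intro D _ _
    rw [hc]
    apply lcmr_prod_pow_dvd
    · intro l hl
      exact Nat.prime_of_mem_primeFactors (Finset.mem_filter.mp hl).1
    · intro l hl
      rw [Finset.mem_filter] at hl
      obtain ⟨hl1, hl2, hl3⟩ := hl
      rw [← hl3]
      exact (hDfun l hl1 hl2).2.2
  have hcm : ∀ D, c D ∣ m := by
    intro D
    rw [hc]
    have h1 : ∏ l ∈ m.primeFactors, l ^ m.factorization l = m :=
      Nat.prod_factorization_pow_eq_self hm0
    calc ∏ l ∈ m.primeFactors.filter (fun l => l ≠ 2 ∧ Dfun l = D), l ^ m.factorization l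
        ∣ ∏ l ∈ m.primeFactors, l ^ m.factorization l :=
          Finset.prod_dvd_prod_of_subset _ _ _ (Finset.filter_subset _ _)
      _ = m := h1
  refine ⟨b, ?_, ?_⟩
  · intro j
    have hjlt := j.2
    rw [hb]
    by_cases hj : (j : ℕ) = 0
    · rw [if_pos hj]
      exact hppE 2 Nat.prime_two
    · rw [if_neg hj]
      exact hsing (n / 2 + j) (by omega) (by omega) _ (hcE _ (by omega) (by omega))
  · apply Nat.dvd_antisymm
    · apply Finset.lcm_dvd
      intro j _
      rw [hb]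
      by_cases hj : (j : ℕ) = 0
      · rw [if_pos hj]
        exact Nat.ordProj_dvd m 2
      · rw [if_neg hj]
        exact hcm _
    · rw [Nat.dvd_iff_prime_pow_dvd_dvd]
      intro p k hp hpk
      by_cases hk : k = 0
      · rw [hk, pow_zero]
        exact one_dvd _
      have hkle : k ≤ m.factorization p := (hp.pow_dvd_iff_le_factorization hm0).mp hpk
      have hpm : p ∈ m.primeFactors := by
        rw [Nat.mem_primeFactors]
        exact ⟨hp, dvd_trans (dvd_pow_self p hk) hpk, hm0⟩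
      refine dvd_trans (pow_dvd_pow p hkle) ?_
      by_cases hp2 : p = 2
      · subst hp2
        have h0lt : 0 < (n + 3) / 2 := by omega
        have h2 : (2 : ℕ) ^ m.factorization 2 = b ⟨0, h0lt⟩ := by
          rw [hb, if_pos rfl]
        rw [h2]
        exact Finset.dvd_lcm (Finset.mem_univ _)
      · obtain ⟨hD1, hD2, -⟩ := hDfun p hpm hp2
        have hjlt : Dfun p - n / 2 < (n + 3) / 2 := by omega
        have hbj : b ⟨Dfun p - n / 2, hjlt⟩ = c (Dfun p) := by
          rw [hb]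
          have h3 : ¬ (((⟨Dfun p - n / 2, hjlt⟩ : Fin ((n + 3) / 2)) : ℕ) = 0) := by
            show ¬ (Dfun p - n / 2 = 0)
            omega
          rw [if_neg h3]
          congr 1
          show n / 2 + (Dfun p - n / 2) = Dfun p
          omega
        refine dvd_trans ?_ (Finset.dvd_lcm (Finset.mem_univ ⟨Dfun p - n / 2, hjlt⟩))
        rw [hbj, hc]
        exact Finset.dvd_prod_of_mem _ (Finset.mem_filter.mpr ⟨hpm, hp2, rfl⟩)

end Cfsg.Agent.Helper4.SpecStab
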