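import Mathlib

/-!
# Brauer–Leonard configuration: group theory

`P` a Sylow `p`-subgroup with `C_G(x) = C_G(P)` for all `1 ≠ x ∈ P`.  Write `C = C_G(P)`,
`N = N_G(P)` and `D` for the set of `p`-singular elements of `C`.  Then `P ≤ Z(C)`, the
`p`-elements of `C` lie in `P`, `C_G(d) ≤ C` for `d ∈ D`, and `D` is a TI set with normalizer `N`.
-/

set_option autoImplicit false

namespace Cfsg.Agent.Helper8.BL

variable {G : Type*} [Group G] {p : ℕ} [hp : Fact p.Prime] (P : Sylow p G)

/-- the centralizer of `P` -/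
abbrev CC : Subgroup G := Subgroup.centralizer ((P : Subgroup G) : Set G)

/-- the normalizer of `P` -/
abbrev NN : Subgroup G := Subgroup.normalizer ((P : Subgroup G) : Set G)

/-- the Brauer–Leonard hypothesis -/
def Star : Prop :=
  ∀ x ∈ (P : Subgroup G), x ≠ 1 → Subgroup.centralizer ({x} : Set G) = CC P

variable {P}

theorem le_CC (h : Star P) : (P : Subgroup G) ≤ CC P := by
  intro x hx
  by_cases h1 : x = 1
  · rw [h1]; exact Subgroup.one_mem _
  · rw [← h x hx h1]
    exact Subgroup.mem_centralizer_iff.mpr fun y hy => by rw [Set.mem_singleton_iff.mp hy]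

theorem CC_le_NN : CC P ≤ NN P := Subgroup.centralizer_le_normalizer _

theorem comm_of_mem (h : Star P) {x y : G} (hx : x ∈ (P : Subgroup G)) (hy : y ∈ (P : Subgroup G)) :
    x * y = y * x := by
  have := le_CC h hy
  exact (Subgroup.mem_centralizer_iff.mp this x hx)

/-- `p`-elements of `C` lie in `P`. -/
theorem mem_of_pow_eq_one [Finite G] {c : G} (hc : c ∈ CC P) {k : ℕ} (hk : c ^ (p ^ k) = 1) :
    c ∈ (P : Subgroup G) := by
  have hz : IsPGroup p (Subgroup.zpowers c) := by
    rintro ⟨w, hw⟩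
    obtain ⟨i, rfl⟩ := Subgroup.mem_zpowers_iff.mp hw
    refine ⟨k, ?_⟩
    apply Subtype.ext
    rw [Subgroup.coe_pow, Subgroup.coe_one]
    show (c ^ i) ^ p ^ k = 1
    rw [← zpow_natCast, ← zpow_mul, mul_comm, zpow_mul, zpow_natCast, hk, one_zpow]
  have h := hz.inf_normalizer_sylow P
  have hmem : c ∈ Subgroup.zpowers c ⊓ Subgroup.normalizer ((P : Subgroup G) : Set G) :=
    ⟨Subgroup.mem_zpowers c, CC_le_NN hc⟩
  exact (h.le hmem).2

/-- a `p`-singular element of `C` has a nonidentity power in `P` -/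
theorem exists_pow_mem [Finite G] {c : G} (hc : c ∈ CC P) (hpc : p ∣ orderOf c) :
    ∃ m : ℕ, c ^ m ∈ (P : Subgroup G) ∧ c ^ m ≠ 1 := by
  have ho : orderOf c ≠ 0 := (orderOf_pos c).ne'
  obtain ⟨a, m, hm, hom⟩ := Nat.exists_eq_pow_mul_and_not_dvd ho p hp.out.ne_one
  have ha : a ≠ 0 := by
    rintro rfl
    rw [pow_zero, one_mul] at hom
    rw [hom] at hpc
    exact hm hpc
  refine ⟨m, ?_, ?_⟩
  · apply mem_of_pow_eq_one (Subgroup.pow_mem _ hc m) (k := a)
    rw [← pow_mul, mul_comm, ← hom, pow_orderOf_eq_one]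
  · intro h1
    have hd : orderOf c ∣ m := orderOf_dvd_of_pow_eq_one h1
    rw [hom] at hd
    have : p ∣ m := dvd_trans (dvd_trans (dvd_pow_self p ha) (dvd_mul_right _ _)) hd
    exact hm this

/-- the set `D` of `p`-singular elements of `C` -/
def DD (P : Sylow p G) : Set G := {d | d ∈ CC P ∧ p ∣ orderOf d}

theorem centralizer_le_of_mem_DD [Finite G] (h : Star P) {d : G} (hd : d ∈ DD P) :
    Subgroup.centralizer ({d} : Set G) ≤ CC P := by
  obtain ⟨m, hmP, hm1⟩ := exists_pow_mem hd.1 hd.2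
  rw [← h _ hmP hm1]
  intro g hg
  rw [Subgroup.mem_centralizer_iff] at hg ⊢
  intro y hy
  rw [Set.mem_singleton_iff.mp hy]
  have h1 : Commute d g := hg d rfl
  exact (h1.pow_left m).eq

theorem conj_mem_CC_of_mem_NN {n c : G} (hn : n ∈ NN P) (hc : c ∈ CC P) : n * c * n⁻¹ ∈ CC P := by
  rw [Subgroup.mem_centralizer_iff] at hc ⊢
  intro x hx
  have hx' : n⁻¹ * x * n ∈ (P : Subgroup G) := by
    have := (Subgroup.mem_normalizer_iff.mp (Subgroup.inv_mem _ hn) x).mp hx
    simpa using this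
  have h1 := hc _ hx'
  calc x * (n * c * n⁻¹) = n * ((n⁻¹ * x * n) * c) * n⁻¹ := by group
    _ = n * (c * (n⁻¹ * x * n)) * n⁻¹ := by rw [h1]
    _ = n * c * n⁻¹ * x := by group

theorem conj_mem_DD_of_mem_NN {n d : G} (hn : n ∈ NN P) (hd : d ∈ DD P) : n * d * n⁻¹ ∈ DD P := by
  refine ⟨conj_mem_CC_of_mem_NN hn hd.1, ?_⟩
  have : orderOf (n * d * n⁻¹) = orderOf d := by
    have := MulEquiv.orderOf_eq (MulAut.conj n) d
    rwa [MulAut.conj_apply] at this
  rw [this]; exact hd.2

/-- `D` is a TI set with normalizer `N`. -/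
theorem mem_NN_of_conj_mem_DD [Finite G] (h : Star P) {d g : G} (hd : d ∈ DD P)
    (hg : g * d * g⁻¹ ∈ DD P) : g ∈ NN P := by
  obtain ⟨m, hmP, hm1⟩ := exists_pow_mem hd.1 hd.2
  set y := d ^ m with hy
  -- `z = g y g⁻¹` is a nonidentity element of `P`
  have hzC : g * y * g⁻¹ ∈ CC P := by
    have : g * y * g⁻¹ = (g * d * g⁻¹) ^ m := by rw [conj_pow]
    rw [this]
    exact Subgroup.pow_mem _ hg.1 m
  obtain ⟨k, hk⟩ := (IsPGroup.iff_orderOf.mp P.2) ⟨y, hmP⟩
  have hyk : y ^ (p ^ k) = 1 := by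
    have h1 : orderOf y = p ^ k := by
      rw [← hk]; exact (Subgroup.orderOf_mk y hmP).symm
    rw [← h1]; exact pow_orderOf_eq_one y
  have hzP : g * y * g⁻¹ ∈ (P : Subgroup G) := by
    apply mem_of_pow_eq_one hzC (k := k)
    rw [conj_pow, hyk]; group
  have hz1 : g * y * g⁻¹ ≠ 1 := by
    intro h1
    apply hm1
    have := congrArg (fun w => g⁻¹ * w * g) h1
    simpa [mul_assoc] using this
  -- `g` normalizes `C`
  have hgC : ∀ u ∈ CC P, g * u * g⁻¹ ∈ CC P := by
    intro u hu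
    rw [← h _ hzP hz1, Subgroup.mem_centralizer_iff]
    intro w hw
    rw [Set.mem_singleton_iff.mp hw]
    have hu' : u ∈ Subgroup.centralizer ({y} : Set G) := by rw [h _ hmP hm1]; exact hu
    have h1 : y * u = u * y := (Subgroup.mem_centralizer_iff.mp hu' y rfl)
    calc g * y * g⁻¹ * (g * u * g⁻¹) = g * (y * u) * g⁻¹ := by group
      _ = g * (u * y) * g⁻¹ := by rw [h1]
      _ = g * u * g⁻¹ * (g * y * g⁻¹) := by group
  -- hence `g P g⁻¹ ≤ P`
  have hgP : ∀ x ∈ (P : Subgroup G), g * x * g⁻¹ ∈ (P : Subgroup G) := by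
    intro x hx
    obtain ⟨k', hk'⟩ := (IsPGroup.iff_orderOf.mp P.2) ⟨x, hx⟩
    have hxk : x ^ (p ^ k') = 1 := by
      have h1 : orderOf x = p ^ k' := by
        rw [← hk']; exact (Subgroup.orderOf_mk x hx).symm
      rw [← h1]; exact pow_orderOf_eq_one x
    apply mem_of_pow_eq_one (hgC x (le_CC h hx)) (k := k')
    rw [conj_pow, hxk]; group
  -- finite: `g` normalizes `P`
  rw [Subgroup.mem_normalizer_iff]
  intro x
  constructor
  · exact hgP x
  · intro hx
    -- the injective map `x ↦ g x g⁻¹` on the finite set `P` is surjective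
    let f : ↥(P : Subgroup G) → ↥(P : Subgroup G) := fun x => ⟨g * x * g⁻¹, hgP x x.2⟩
    have hinj : Function.Injective f := by
      intro a b hab
      have := congrArg Subtype.val hab
      simp only [f] at this
      apply Subtype.ext
      have h2 := congrArg (fun w => g⁻¹ * w * g) this
      simpa [mul_assoc] using h2
    have hsurj := Finite.surjective_of_injective hinj
    obtain ⟨a, ha⟩ := hsurj ⟨g * x * g⁻¹, hx⟩
    have := congrArg Subtype.val ha
    simp only [f] at this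
    have h2 := congrArg (fun w => g⁻¹ * w * g) this
    have h3 : (a : G) = x := by simpa [mul_assoc] using h2
    rw [← h3]; exact a.2

/-- an element of `N` fixing a nonidentity element of `P` lies in `C` -/
theorem mem_CC_of_fix (h : Star P) {n y : G} (hy : y ∈ (P : Subgroup G)) (hy1 : y ≠ 1)
    (hfix : n * y * n⁻¹ = y) : n ∈ CC P := by
  rw [← h y hy hy1, Subgroup.mem_centralizer_iff]
  intro w hw
  rw [Set.mem_singleton_iff.mp hw]
  have := congrArg (fun w => w * n) hfix
  simpa [mul_assoc] using this.symm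

end Cfsg.Agent.Helper8.BL
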