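import Mathlib
import Cfsg.Agent.Helper8.BL1
import Cfsg.Agent.Helper8.Ind
import Cfsg.Agent.Helper8.CharComp

/-!
# Brauer–Leonard configuration: the TI set `D` and induction from `C`
-/

set_option autoImplicit false

namespace Cfsg.Agent.Helper8.BL

open Cfsg

variable {G : Type*} [Group G] {p : ℕ} [hp : Fact p.Prime] {P : Sylow p G}

theorem inv_conj_mem_CC {x c : G} (hx : x ∈ NN P) (hc : c ∈ CC P) : x⁻¹ * c * x ∈ CC P := by
  have := conj_mem_CC_of_mem_NN (Subgroup.inv_mem _ hx) hc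
  simpa using this

/-- conjugation `c ↦ x⁻¹ c x` on `C` by `x ∈ N` -/
def cjE (x : NN P) : CC P ≃* CC P where
  toFun c := ⟨(x : G)⁻¹ * c * x, inv_conj_mem_CC x.2 c.2⟩
  invFun c := ⟨(x : G) * c * (x : G)⁻¹, conj_mem_CC_of_mem_NN x.2 c.2⟩
  left_inv c := by apply Subtype.ext; simp only; group
  right_inv c := by apply Subtype.ext; simp only; group
  map_mul' a b := by apply Subtype.ext; simp only [Subgroup.coe_mul]; group

@[simp] theorem cjE_coe (x : NN P) (c : CC P) : ((cjE x c : CC P) : G) = (x : G)⁻¹ * c * x := rfl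

/-- the conjugate of a function on `C` by `x ∈ N` -/
def cjF (x : NN P) (φ : CC P → ℂ) : CC P → ℂ := fun c => φ (cjE x c)

theorem cjF_apply (x : NN P) (φ : CC P → ℂ) (c : CC P) : cjF x φ c = φ (cjE x c) := rfl

theorem cjF_mul (x y : NN P) (φ : CC P → ℂ) : cjF (x * y) φ = cjF x (cjF y φ) := by
  funext c
  rw [cjF_apply, cjF_apply, cjF_apply]
  congr 1
  apply Subtype.ext
  simp only [cjE_coe, Subgroup.coe_mul]
  group

theorem cjF_one (φ : CC P → ℂ) : cjF (1 : NN P) φ = φ := by
  funext c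
  rw [cjF_apply]
  congr 1
  apply Subtype.ext
  simp

theorem isIrrCharacter_cjF (x : NN P) {φ : CC P → ℂ} (h : IsIrrCharacter (CC P) φ) :
    IsIrrCharacter (CC P) (cjF x φ) :=
  Cfsg.Agent.Helper8.isIrrCharacter_comp_surjective (cjE x).toMonoidHom (cjE x).surjective h

theorem isCharacter_cjF (x : NN P) {φ : CC P → ℂ} (h : IsCharacter (CC P) φ) :
    IsCharacter (CC P) (cjF x φ) :=
  Cfsg.Agent.Helper8.isCharacter_comp (cjE x).toMonoidHom h

/-- restrictions of class functions of `G` are `N`-invariant -/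
theorem cjF_restrict (x : NN P) {χ : G → ℂ} (hχ : IsClassFunction G χ) :
    cjF x (fun c : CC P => χ c) = fun c : CC P => χ c := by
  funext c
  rw [cjF_apply]
  show χ ((x : G)⁻¹ * c * x) = χ c
  have := hχ c (x : G)⁻¹
  simpa using this

section Fin

variable [Fintype G]

open Classical in
/-- the finset of `p`-singular elements of `C` -/
noncomputable def Dfin (P : Sylow p G) : Finset G := Finset.univ.filter (fun d => d ∈ DD P)

theorem mem_Dfin {d : G} : d ∈ Dfin P ↔ d ∈ DD P := by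
  classical
  simp [Dfin]

open Classical in
/-- **The TI inequality**: for a nonnegative class function `F`,
`F 1 + |G : N| ∑_{d ∈ D} F d ≤ ∑_g F g`. -/
theorem ti_sum_le (h : Star P) (F : G → ℝ) (hF0 : ∀ g, 0 ≤ F g)
    (hFc : ∀ g x : G, F (x * g * x⁻¹) = F g) :
    (Nat.card (NN P) : ℝ) * F 1 + (Nat.card G : ℝ) * ∑ d ∈ Dfin P, F d ≤
      (Nat.card (NN P) : ℝ) * ∑ g : G, F g := by
  set c : G → ℕ := fun g => (Finset.univ.filter (fun t : G => t * g * t⁻¹ ∈ DD P)).card with hc
  have hc1 : c 1 = 0 := by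
    simp only [hc]
    rw [Finset.card_eq_zero, Finset.filter_eq_empty_iff]
    intro t _ ht
    have : t * 1 * t⁻¹ = 1 := by group
    rw [this] at ht
    have h1 := ht.2
    rw [orderOf_one] at h1
    exact hp.out.one_lt.ne' (Nat.dvd_one.mp h1)
  have hcle : ∀ g, c g ≤ Nat.card (NN P) := by
    intro g
    simp only [hc]
    by_cases hne : (Finset.univ.filter (fun t : G => t * g * t⁻¹ ∈ DD P)).Nonempty
    · obtain ⟨t₀, ht₀⟩ := hne
      rw [Finset.mem_filter] at ht₀
      have hcard : Nat.card (NN P) = (Finset.univ.filter (fun t : G => t ∈ NN P)).card := by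
        rw [Nat.card_eq_fintype_card, Fintype.card_subtype]
      rw [hcard]
      apply Finset.card_le_card_of_injOn (fun t => t * t₀⁻¹)
      · intro t ht
        rw [Finset.mem_coe, Finset.mem_filter] at ht ⊢
        refine ⟨Finset.mem_univ _, ?_⟩
        apply mem_NN_of_conj_mem_DD h ht₀.2
        have : t * t₀⁻¹ * (t₀ * g * t₀⁻¹) * (t * t₀⁻¹)⁻¹ = t * g * t⁻¹ := by group
        rw [this]; exact ht.2
      · intro a _ b _ hab
        exact mul_right_cancel hab
    · rw [Finset.not_nonempty_iff_eq_empty] at hne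
      rw [hne, Finset.card_empty]
      exact Nat.zero_le _
  -- double counting
  have hdc : ∑ g : G, F g * (c g : ℝ) = (Nat.card G : ℝ) * ∑ d ∈ Dfin P, F d := by
    have h1 : ∀ g : G, F g * (c g : ℝ) =
        ∑ t : G, if t * g * t⁻¹ ∈ DD P then F g else 0 := by
      intro g
      simp only [hc]
      rw [← Finset.sum_filter, Finset.sum_const, nsmul_eq_mul, mul_comm]
    simp_rw [h1]
    rw [Finset.sum_comm]
    have h2 : ∀ t : G, ∑ g : G, (if t * g * t⁻¹ ∈ DD P then F g else 0) = ∑ d ∈ Dfin P, F d := by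
      intro t
      rw [← Equiv.sum_comp (MulAut.conj t⁻¹).toEquiv]
      simp only [MulEquiv.toEquiv_eq_coe, EquivLike.coe_coe, MulAut.conj_apply, inv_inv]
      have h3 : ∀ g : G, t * (t⁻¹ * g * t) * t⁻¹ = g := fun g => by group
      simp_rw [h3]
      rw [Dfin, Finset.sum_filter]
      refine Finset.sum_congr rfl fun g _ => ?_
      split_ifs
      · have := hFc g t⁻¹
        simpa using this
      · rfl
    simp_rw [h2]
    rw [Finset.sum_const, Finset.card_univ, nsmul_eq_mul, Nat.card_eq_fintype_card]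
  have hle : ∑ g : G, F g * (c g : ℝ) ≤ (Nat.card (NN P) : ℝ) * (∑ g : G, F g - F 1) := by
    have hsplit : ∑ g : G, F g - F 1 = ∑ g ∈ Finset.univ.erase (1 : G), F g := by
      rw [← Finset.add_sum_erase Finset.univ F (Finset.mem_univ 1)]; ring
    have hsplit2 : ∑ g : G, F g * (c g : ℝ) =
        ∑ g ∈ Finset.univ.erase (1 : G), F g * (c g : ℝ) := by
      rw [← Finset.add_sum_erase Finset.univ (fun g => F g * (c g : ℝ)) (Finset.mem_univ 1)]
      simp [hc1]
    rw [hsplit, hsplit2, Finset.mul_sum]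
    refine Finset.sum_le_sum fun g _ => ?_
    rw [mul_comm]
    exact mul_le_mul_of_nonneg_right (by exact_mod_cast hcle g) (hF0 g)
  rw [hdc] at hle
  linarith

variable [Fintype (NN P)]

/-- the value of an induced function on `D` -/
theorem indFun_apply_of_mem_DD (h : Star P) (φ : CC P → ℂ) {d : G} (hd : d ∈ DD P) :
    indFun (CC P) φ d =
      (Nat.card (CC P) : ℂ)⁻¹ * ∑ x : NN P, extendByZero (CC P) φ ((x : G)⁻¹ * d * x) := by
  classical
  rw [Cfsg.Agent.Helper8.indFun_def]
  congr 1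
  rw [← Finset.sum_subtype (Finset.univ.filter (fun t : G => t ∈ NN P))
    (fun t => by simp) (fun t => extendByZero (CC P) φ (t⁻¹ * d * t))]
  rw [Finset.sum_filter]
  refine Finset.sum_congr rfl fun t _ => ?_
  split_ifs with ht
  · rfl
  · apply Cfsg.Agent.Helper8.ebz_not_mem
    intro hmem
    apply ht
    have hD : t⁻¹ * d * t⁻¹⁻¹ ∈ DD P := by
      rw [inv_inv]
      refine ⟨hmem, ?_⟩
      have : orderOf (t⁻¹ * d * t) = orderOf d := by
        have := MulEquiv.orderOf_eq (MulAut.conj t⁻¹) d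
        rwa [MulAut.conj_apply, inv_inv] at this
      rw [this]; exact hd.2
    have := mem_NN_of_conj_mem_DD h hd hD
    simpa using Subgroup.inv_mem _ this

omit [Fintype G] in
theorem ebz_conj_eq_cjF (φ : CC P → ℂ) (x : NN P) (c : CC P) :
    extendByZero (CC P) φ ((x : G)⁻¹ * c * x) = cjF x φ c := by
  rw [cjF_apply]
  exact Cfsg.Agent.Helper8.ebz_mem (CC P) φ (inv_conj_mem_CC x.2 c.2)

variable [Fintype (CC P)]

/-- **The TI inner product formula**: if `β` vanishes on the `p`-regular elements of `C`, then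
`⟨β^G, φ^G⟩ = |C|⁻¹ ∑_{x ∈ N} ⟨β, φ^x⟩`. -/
theorem classInner_indFun_indFun (h : Star P) (β φ : CC P → ℂ)
    (hβ : ∀ c : CC P, ¬ p ∣ orderOf (c : G) → β c = 0) :
    classInner (indFun (CC P) β) (indFun (CC P) φ) =
      (Nat.card (CC P) : ℂ)⁻¹ * ∑ x : NN P, classInner β (cjF x φ) := by
  rw [Cfsg.Agent.Helper8.frobenius_reciprocity (CC P) β _
    (Cfsg.Agent.Helper8.indFun_isClassFunction (CC P) φ)]
  unfold classInner
  have h1 : ∀ c : CC P, β c * (starRingEnd ℂ) (indFun (CC P) φ (c : G)) =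
      (Nat.card (CC P) : ℂ)⁻¹ * ∑ x : NN P, β c * (starRingEnd ℂ) (cjF x φ c) := by
    intro c
    by_cases hc : p ∣ orderOf (c : G)
    · rw [indFun_apply_of_mem_DD h φ ⟨c.2, hc⟩, map_mul, map_inv₀, Complex.conj_natCast, map_sum,
        Finset.mul_sum, Finset.mul_sum, Finset.mul_sum]
      refine Finset.sum_congr rfl fun x _ => ?_
      rw [ebz_conj_eq_cjF]
      ring
    · rw [hβ c hc]; simp
  simp_rw [h1]
  rw [← Finset.mul_sum, ← Finset.mul_sum]
  congr 1
  congr 1
  rw [Finset.sum_comm]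

end Fin

end Cfsg.Agent.Helper8.BL
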