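import Mathlib
import Cfsg.Prelude.Def_Characters
import Cfsg.Agent.Helper8.CliffordAb
import Cfsg.Agent.Helper8.DualGroup
import Cfsg.Agent.Helper24.GlaubCyc

/-!
# Groups with a central Sylow subgroup: twisting by linear characters of the Sylow subgroup
-/

set_option autoImplicit false

namespace Cfsg.Agent.Helper8.BL

open Cfsg

section Central

variable {K : Type*} [Group K] [Finite K] {p : ℕ} [hp : Fact p.Prime] (Q : Sylow p K)

/-- the Sylow subgroup `Q` is central -/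
def CentralSyl : Prop := ∀ y ∈ (Q : Subgroup K), ∀ c : K, y * c = c * y

variable {Q}

theorem normalizer_le_centralizer_of_central (hQ : CentralSyl Q) :
    Subgroup.normalizer ((Q : Subgroup K) : Set K) ≤ Subgroup.centralizer ((Q : Subgroup K) : Set K) := by
  intro c _
  rw [Subgroup.mem_centralizer_iff]
  intro y hy
  exact hQ y hy c

/-- `p`-elements lie in the central Sylow subgroup -/
theorem mem_of_pow_eq_one' (hQ : CentralSyl Q) {c : K} {k : ℕ} (hk : c ^ (p ^ k) = 1) :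
    c ∈ (Q : Subgroup K) := by
  have hz : IsPGroup p (Subgroup.zpowers c) := by
    rintro ⟨w, hw⟩
    obtain ⟨i, rfl⟩ := Subgroup.mem_zpowers_iff.mp hw
    refine ⟨k, ?_⟩
    apply Subtype.ext
    rw [Subgroup.coe_pow, Subgroup.coe_one]
    show (c ^ i) ^ p ^ k = 1
    rw [← zpow_natCast, ← zpow_mul, mul_comm, zpow_mul, zpow_natCast, hk, one_zpow]
  have h := hz.inf_normalizer_sylow Q
  have hn : c ∈ Subgroup.normalizer ((Q : Subgroup K) : Set K) := by
    rw [Subgroup.mem_normalizer_iff]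
    intro y
    constructor
    · intro hy
      have : c * y * c⁻¹ = y := by rw [← hQ y hy c]; group
      rw [this]; exact hy
    · intro hy
      have h3 := hQ _ hy c
      have : y = c * y * c⁻¹ := by
        calc y = c⁻¹ * (c * y * c⁻¹ * c) := by group
          _ = c⁻¹ * (c * (c * y * c⁻¹)) := by rw [h3]
          _ = c * y * c⁻¹ := by group
      rw [this]; exact hy
  have hmem : c ∈ Subgroup.zpowers c ⊓ Subgroup.normalizer ((Q : Subgroup K) : Set K) :=
    ⟨Subgroup.mem_zpowers c, hn⟩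
  exact (h.le hmem).2

/-- decomposition of an element into a `p`-part in `Q` and a `p`-regular part -/
theorem exists_decomp (hQ : CentralSyl Q) (c : K) :
    ∃ y v : K, y ∈ (Q : Subgroup K) ∧ ¬ p ∣ orderOf v ∧ c = y * v := by
  have ho : orderOf c ≠ 0 := (orderOf_pos c).ne'
  obtain ⟨a, m, hm, hom⟩ := Nat.exists_eq_pow_mul_and_not_dvd ho p hp.out.ne_one
  have hcop : Nat.Coprime (p ^ a) m :=
    Nat.Coprime.pow_left a ((Nat.Prime.coprime_iff_not_dvd hp.out).mpr hm)
  have hbez := Nat.gcd_eq_gcd_ab (p ^ a) m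
  rw [hcop.gcd_eq_one] at hbez
  set A := Nat.gcdA (p ^ a) m
  set B := Nat.gcdB (p ^ a) m
  refine ⟨(c ^ m) ^ B, (c ^ (p ^ a)) ^ A, ?_, ?_, ?_⟩
  · apply mem_of_pow_eq_one' hQ (k := a)
    rw [← zpow_natCast, ← zpow_mul, mul_comm, zpow_mul, zpow_natCast, ← pow_mul, mul_comm, ← hom,
      pow_orderOf_eq_one, one_zpow]
  · intro hdvd
    have h1 : ((c ^ (p ^ a)) ^ A) ^ m = 1 := by
      rw [← zpow_natCast, ← zpow_mul, mul_comm, zpow_mul, zpow_natCast, ← pow_mul, ← hom,
        pow_orderOf_eq_one, one_zpow]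
    have h2 : orderOf ((c ^ (p ^ a)) ^ A) ∣ m := orderOf_dvd_of_pow_eq_one h1
    exact hm (dvd_trans hdvd h2)
  · have : c = c ^ (1 : ℤ) := (zpow_one c).symm
    rw [← zpow_natCast c m, ← zpow_natCast c (p ^ a), ← zpow_mul, ← zpow_mul, ← zpow_add]
    conv_lhs => rw [this]
    congr 1
    push_cast at hbez ⊢
    linarith

/-- linear characters trivial on the `p`-regular elements -/
def TrivReg (p : ℕ) (φ : K →* ℂˣ) : Prop := ∀ v : K, ¬ p ∣ orderOf v → φ v = 1

theorem hom_ext_trivReg (hQ : CentralSyl Q) {φ φ' : K →* ℂˣ} (h1 : TrivReg p φ)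
    (h2 : TrivReg p φ') (h : ∀ y ∈ (Q : Subgroup K), φ y = φ' y) : φ = φ' := by
  apply MonoidHom.ext
  intro c
  obtain ⟨y, v, hy, hv, rfl⟩ := exists_decomp hQ c
  rw [map_mul, map_mul, h1 v hv, h2 v hv, h y hy]

theorem trivReg_one : TrivReg p (1 : K →* ℂˣ) := fun _ _ => rfl

theorem TrivReg.mul {φ φ' : K →* ℂˣ} (h1 : TrivReg p φ) (h2 : TrivReg p φ') :
    TrivReg p (φ * φ') := fun v hv => by
  rw [MonoidHom.mul_apply, h1 v hv, h2 v hv, one_mul]

theorem TrivReg.inv {φ : K →* ℂˣ} (h1 : TrivReg p φ) : TrivReg p φ⁻¹ := fun v hv => by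
  rw [MonoidHom.inv_apply, h1 v hv, inv_one]

theorem TrivReg.comp {φ : K →* ℂˣ} (h1 : TrivReg p φ) (e : K ≃* K) :
    TrivReg p (φ.comp e.toMonoidHom) := fun v hv => by
  rw [MonoidHom.comp_apply]
  apply h1
  rw [MulEquiv.coe_toMonoidHom, MulEquiv.orderOf_eq]
  exact hv

theorem exists_pow_inverse (Q : Sylow p K) :
    ∃ j : ℕ, ∀ y : (Q : Subgroup K), y ^ ((Q : Subgroup K).index * j) = y := by
  obtain ⟨n, hn⟩ := IsPGroup.iff_card.mp Q.2
  have hcop : Nat.Coprime (Q : Subgroup K).index (p ^ n) :=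
    Nat.Coprime.pow_right n ((Nat.Prime.coprime_iff_not_dvd hp.out).mpr Q.not_dvd_index).symm
  by_cases h1 : 1 < p ^ n
  · obtain ⟨j, _, hj⟩ := Nat.exists_mul_mod_eq_one_of_coprime hcop h1
    refine ⟨j, fun y => ?_⟩
    have hy : y ^ (p ^ n) = 1 := by rw [← hn]; exact pow_card_eq_one'
    rw [← Nat.mod_add_div ((Q : Subgroup K).index * j) (p ^ n), hj, pow_add, pow_one, pow_mul, hy,
      one_pow, mul_one]
  · refine ⟨0, fun y => ?_⟩
    have h2 : p ^ n = 1 := by
      have : 0 < p ^ n := pow_pos hp.out.pos n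
      omega
    rw [h2] at hn
    haveI : Subsingleton (Q : Subgroup K) := (Nat.card_eq_one_iff_unique.mp hn).1
    exact Subsingleton.elim _ _

/-- extension of a linear character of `Q` to `K`, trivial on the `p`-regular elements -/
noncomputable def twist (hQ : CentralSyl Q) (ν : (Q : Subgroup K) →* ℂˣ) : K →* ℂˣ :=
  (powMonoidHom (exists_pow_inverse Q).choose).comp
    (ν.comp (MonoidHom.transferSylow Q (normalizer_le_centralizer_of_central hQ)))

theorem twist_apply_mem (hQ : CentralSyl Q) (ν : (Q : Subgroup K) →* ℂˣ) {y : K}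
    (hy : y ∈ (Q : Subgroup K)) : twist hQ ν y = ν ⟨y, hy⟩ := by
  unfold twist
  rw [MonoidHom.comp_apply, MonoidHom.comp_apply,
    MonoidHom.transferSylow_eq_pow Q (normalizer_le_centralizer_of_central hQ) y hy,
    powMonoidHom_apply, ← map_pow]
  congr 1
  have := (exists_pow_inverse Q).choose_spec ⟨y, hy⟩
  apply Subtype.ext
  have h2 := congrArg Subtype.val this
  rw [Subgroup.coe_pow] at h2 ⊢
  simp only at h2 ⊢
  rw [← pow_mul]
  exact h2

theorem twist_trivReg (hQ : CentralSyl Q) (ν : (Q : Subgroup K) →* ℂˣ) :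
    TrivReg p (twist hQ ν) := by
  intro v hv
  unfold twist
  rw [MonoidHom.comp_apply, MonoidHom.comp_apply]
  set t := MonoidHom.transferSylow Q (normalizer_le_centralizer_of_central hQ) v with ht
  have h1 : orderOf t ∣ orderOf v := orderOf_map_dvd _ v
  obtain ⟨k, hk⟩ := (IsPGroup.iff_orderOf.mp Q.2) t
  have hk0 : k = 0 := by
    by_contra hne
    apply hv
    rw [hk] at h1
    exact dvd_trans (dvd_pow_self p hne) h1
  rw [hk0, pow_zero, orderOf_eq_one_iff] at hk
  rw [hk, map_one, map_one]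

theorem twist_injective (hQ : CentralSyl Q) : Function.Injective (twist (Q := Q) hQ) := by
  intro ν ν' h
  apply MonoidHom.ext
  rintro ⟨y, hy⟩
  rw [← twist_apply_mem hQ ν hy, ← twist_apply_mem hQ ν' hy, h]

theorem twist_mul (hQ : CentralSyl Q) (ν ν' : (Q : Subgroup K) →* ℂˣ) :
    twist hQ (ν * ν') = twist hQ ν * twist hQ ν' := by
  apply hom_ext_trivReg hQ (twist_trivReg hQ _) ((twist_trivReg hQ _).mul (twist_trivReg hQ _))
  intro y hy
  rw [MonoidHom.mul_apply, twist_apply_mem hQ _ hy, twist_apply_mem hQ _ hy,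
    twist_apply_mem hQ _ hy, MonoidHom.mul_apply]

theorem twist_one (hQ : CentralSyl Q) : twist hQ (1 : (Q : Subgroup K) →* ℂˣ) = 1 := by
  apply hom_ext_trivReg hQ (twist_trivReg hQ _) trivReg_one
  intro y hy
  rw [twist_apply_mem hQ _ hy]; rfl

theorem twist_inv (hQ : CentralSyl Q) (ν : (Q : Subgroup K) →* ℂˣ) :
    twist hQ ν⁻¹ = (twist hQ ν)⁻¹ := by
  apply hom_ext_trivReg hQ (twist_trivReg hQ _) (twist_trivReg hQ _).inv
  intro y hy
  rw [MonoidHom.inv_apply, twist_apply_mem hQ _ hy, twist_apply_mem hQ _ hy, MonoidHom.inv_apply]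

/-- every linear character trivial on `p`-regular elements is a twist -/
theorem eq_twist_of_trivReg (hQ : CentralSyl Q) {φ : K →* ℂˣ} (h : TrivReg p φ) :
    φ = twist hQ (φ.comp (Q : Subgroup K).subtype) := by
  apply hom_ext_trivReg hQ h (twist_trivReg hQ _)
  intro y hy
  rw [twist_apply_mem hQ _ hy]
  rfl

/-- central elements of `Q` act by scalars on irreducible characters -/
theorem irr_mul_central (hQ : CentralSyl Q) (σ : IrrCharacter K) {y : K}
    (hy : y ∈ (Q : Subgroup K)) (c : K) :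
    (σ : K → ℂ) (c * y) = (σ : K → ℂ) y / (σ : K → ℂ) 1 * (σ : K → ℂ) c := by
  obtain ⟨ω, _, hω⟩ := Cfsg.Agent.Helper24.exists_central_scalar σ y (fun d => (hQ y hy d).symm)
  have h1 := hω 1 1
  rw [one_mul, pow_one, pow_one] at h1
  have h0 : (σ : K → ℂ) 1 ≠ 0 := by
    rw [Cfsg.Agent.Helper24.irrDeg_spec]
    exact_mod_cast (Cfsg.Agent.Helper24.irrDeg_pos σ).ne'
  have h2 := hω c 1
  rw [pow_one, pow_one] at h2
  rw [h2, h1]
  field_simp

theorem irr_central_ne_zero (hQ : CentralSyl Q) (σ : IrrCharacter K) {y : K}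
    (hy : y ∈ (Q : Subgroup K)) : (σ : K → ℂ) y ≠ 0 := by
  obtain ⟨ω, hω1, hω⟩ := Cfsg.Agent.Helper24.exists_central_scalar σ y (fun d => (hQ y hy d).symm)
  have h1 := hω 1 1
  rw [one_mul, pow_one, pow_one] at h1
  have h0 : (σ : K → ℂ) 1 ≠ 0 := by
    rw [Cfsg.Agent.Helper24.irrDeg_spec]
    exact_mod_cast (Cfsg.Agent.Helper24.irrDeg_pos σ).ne'
  rw [h1]
  refine mul_ne_zero ?_ h0
  intro h
  rw [h, zero_pow (orderOf_pos y).ne'] at hω1
  exact zero_ne_one hω1

/-- the central character of `σ` on `Q` -/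
noncomputable def cHom (hQ : CentralSyl Q) (σ : IrrCharacter K) : (Q : Subgroup K) →* ℂˣ where
  toFun y := Units.mk0 ((σ : K → ℂ) y / (σ : K → ℂ) 1) (by
    have h0 : (σ : K → ℂ) 1 ≠ 0 := by
      rw [Cfsg.Agent.Helper24.irrDeg_spec]
      exact_mod_cast (Cfsg.Agent.Helper24.irrDeg_pos σ).ne'
    exact div_ne_zero (irr_central_ne_zero hQ σ y.2) h0)
  map_one' := by
    apply Units.ext
    have h0 : (σ : K → ℂ) 1 ≠ 0 := by
      rw [Cfsg.Agent.Helper24.irrDeg_spec]
      exact_mod_cast (Cfsg.Agent.Helper24.irrDeg_pos σ).ne'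
    simp [h0]
  map_mul' a b := by
    apply Units.ext
    have h0 : (σ : K → ℂ) 1 ≠ 0 := by
      rw [Cfsg.Agent.Helper24.irrDeg_spec]
      exact_mod_cast (Cfsg.Agent.Helper24.irrDeg_pos σ).ne'
    simp only [Units.val_mk0, Units.val_mul, Subgroup.coe_mul]
    rw [irr_mul_central hQ σ b.2 a]
    field_simp

theorem cHom_apply (hQ : CentralSyl Q) (σ : IrrCharacter K) (y : (Q : Subgroup K)) :
    ((cHom hQ σ y : ℂˣ) : ℂ) = (σ : K → ℂ) y / (σ : K → ℂ) 1 := rfl

theorem irr_apply_mem (hQ : CentralSyl Q) (σ : IrrCharacter K) (y : (Q : Subgroup K)) :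
    (σ : K → ℂ) y = ((cHom hQ σ y : ℂˣ) : ℂ) * (σ : K → ℂ) 1 := by
  have h0 : (σ : K → ℂ) 1 ≠ 0 := by
    rw [Cfsg.Agent.Helper24.irrDeg_spec]
    exact_mod_cast (Cfsg.Agent.Helper24.irrDeg_pos σ).ne'
  rw [cHom_apply]; field_simp

end Central

end Cfsg.Agent.Helper8.BL
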