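import Mathlib
import Cfsg.Agent.Helper8.BL2
import Cfsg.Agent.Helper8.BL3
import Cfsg.Agent.Helper24.Span

/-!
# Brauer–Leonard configuration: the action of `N` on the irreducible characters of `C`
-/

set_option autoImplicit false

namespace Cfsg.Agent.Helper8.BL

open Cfsg

section Abstract

variable {K : Type*} [Group K] [Finite K] {p : ℕ} [hp : Fact p.Prime] {Q : Sylow p K}

/-- an irreducible character fixed by an automorphism acting fixed-point-freely on the central
Sylow subgroup `Q` is constant on `Q` -/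
theorem central_const_of_fpf (hQ : CentralSyl Q) (σ : IrrCharacter K) (α : K ≃* K)
    (hα : ∀ y ∈ (Q : Subgroup K), α y ∈ (Q : Subgroup K))
    (hfpf : ∀ y ∈ (Q : Subgroup K), α y = y → y = 1)
    (hσ : ∀ c, (σ : K → ℂ) (α c) = (σ : K → ℂ) c) :
    ∀ y ∈ (Q : Subgroup K), (σ : K → ℂ) y = (σ : K → ℂ) 1 := by
  let f : ↥(Q : Subgroup K) → ↥(Q : Subgroup K) := fun y =>
    ⟨α y * (y : K)⁻¹, Subgroup.mul_mem _ (hα y y.2) (Subgroup.inv_mem _ y.2)⟩
  have hinj : Function.Injective f := by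
    intro a b hab
    have h1 : α a * (a : K)⁻¹ = α b * (b : K)⁻¹ := congrArg Subtype.val hab
    have h2 : α ((b : K)⁻¹ * a) = (b : K)⁻¹ * a := by
      rw [map_mul, map_inv]
      calc (α b)⁻¹ * α a = (α b)⁻¹ * (α a * (a : K)⁻¹) * a := by group
        _ = (α b)⁻¹ * (α b * (b : K)⁻¹) * a := by rw [h1]
        _ = (b : K)⁻¹ * a := by group
    have h3 := hfpf _ (Subgroup.mul_mem _ (Subgroup.inv_mem _ b.2) a.2) h2
    apply Subtype.ext
    calc (a : K) = b * ((b : K)⁻¹ * a) := by group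
      _ = b := by rw [h3, mul_one]
  have hsurj := Finite.surjective_of_injective hinj
  intro y hy
  obtain ⟨z, hz⟩ := hsurj ⟨y, hy⟩
  have hlam : cHom hQ σ ⟨α z, hα z z.2⟩ = cHom hQ σ z := by
    apply Units.ext
    rw [cHom_apply, cHom_apply]
    simp only
    rw [hσ]
  have h4 : cHom hQ σ ⟨y, hy⟩ = 1 := by
    rw [← hz]
    have : f z = ⟨α z, hα z z.2⟩ * z⁻¹ := by apply Subtype.ext; rfl
    rw [this, map_mul, map_inv, hlam, mul_inv_cancel]
  have := irr_apply_mem hQ σ ⟨y, hy⟩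
  rw [h4] at this
  simpa using this

end Abstract

section Inst

variable {G : Type*} [Group G] [Finite G] {p : ℕ} [hp : Fact p.Prime] {P : Sylow p G}

/-- `P` as a Sylow subgroup of `C` -/
noncomputable def QQ (h : Star P) : Sylow p (CC P) := P.subtype (le_CC h)

omit [Finite G] in
theorem mem_QQ (h : Star P) (c : CC P) :
    c ∈ (QQ h : Subgroup (CC P)) ↔ (c : G) ∈ (P : Subgroup G) := by
  unfold QQ
  rw [Sylow.coe_subtype, Subgroup.mem_subgroupOf]

theorem centralSyl_QQ (h : Star P) : CentralSyl (QQ h) := by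
  intro y hy c
  rw [mem_QQ] at hy
  apply Subtype.ext
  rw [Subgroup.coe_mul, Subgroup.coe_mul]
  exact Subgroup.mem_centralizer_iff.mp c.2 y hy

/-- exceptional characters: those not containing `P` in their kernel -/
def Exc (P : Sylow p G) (σ : CC P → ℂ) : Prop :=
  ∃ c : CC P, (c : G) ∈ (P : Subgroup G) ∧ σ c ≠ σ 1

omit [Finite G] in
theorem cjE_mem_P (x : NN P) {c : CC P} (hc : (c : G) ∈ (P : Subgroup G)) :
    ((cjE x c : CC P) : G) ∈ (P : Subgroup G) := by
  rw [cjE_coe]
  have := (Subgroup.mem_normalizer_iff.mp (Subgroup.inv_mem _ x.2) (c : G)).mp hc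
  simpa using this

omit [Finite G] in
theorem exc_cjF (x : NN P) {σ : CC P → ℂ} (hσ : Exc P σ) : Exc P (cjF x σ) := by
  obtain ⟨c, hc, hne⟩ := hσ
  refine ⟨(cjE x).symm c, ?_, ?_⟩
  · have := cjE_mem_P (x⁻¹) hc
    have h2 : ((cjE x).symm c : CC P) = cjE x⁻¹ c := by
      apply (cjE x).injective
      rw [MulEquiv.apply_symm_apply]
      apply Subtype.ext
      simp only [cjE_coe, InvMemClass.coe_inv]
      group
    rw [h2]; exact this
  · rw [cjF_apply, cjF_apply, MulEquiv.apply_symm_apply, map_one]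
    exact hne

/-- the stabilizer in `N` of an exceptional irreducible character is `C` -/
theorem mem_CC_of_cjF_eq (h : Star P) (σ : IrrCharacter (CC P)) (hσ : Exc P σ) (x : NN P)
    (hx : cjF x σ = σ) : (x : G) ∈ CC P := by
  by_contra hxC
  obtain ⟨c, hcP, hc⟩ := hσ
  apply hc
  refine central_const_of_fpf (centralSyl_QQ h) σ (cjE x) ?_ ?_ ?_ c ((mem_QQ h c).mpr hcP)
  · intro y hy
    rw [mem_QQ] at hy ⊢
    exact cjE_mem_P x hy
  · intro y hy hfix
    by_contra hy1
    apply hxC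
    rw [mem_QQ] at hy
    have hfix' : (x : G)⁻¹ * y * x = y := by
      have := congrArg Subtype.val hfix
      simpa using this
    have h2 : (x : G)⁻¹ ∈ CC P :=
      mem_CC_of_fix h hy (fun h1 => hy1 (Subtype.ext h1)) (by simpa using hfix')
    simpa using Subgroup.inv_mem _ h2
  · intro c; exact congrFun hx c

omit [Finite G] in
/-- elements of `C` fix class functions of `C` -/
theorem cjF_eq_of_mem_CC {φ : CC P → ℂ} (hφ : IsClassFunction (CC P) φ) (x : NN P)
    (hx : (x : G) ∈ CC P) : cjF x φ = φ := by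
  funext c
  rw [cjF_apply]
  have := hφ c (⟨x, hx⟩ : CC P)⁻¹
  rw [← this]
  congr 1
  apply Subtype.ext
  simp

omit [Finite G] in
theorem cjF_inv_cjF (x : NN P) (φ : CC P → ℂ) : cjF x⁻¹ (cjF x φ) = φ := by
  rw [← cjF_mul, inv_mul_cancel, cjF_one]

omit [Finite G] in
theorem cjF_injective (x : NN P) : Function.Injective (cjF (P := P) x) := by
  intro a b hab
  rw [← cjF_inv_cjF x a, hab, cjF_inv_cjF]

/-- `N`-conjugacy of functions on `C` -/
def NConj (P : Sylow p G) (σ τ : CC P → ℂ) : Prop := ∃ x : NN P, cjF x τ = σ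

omit [Finite G] in
theorem nconj_refl (σ : CC P → ℂ) : NConj P σ σ := ⟨1, cjF_one σ⟩

omit [Finite G] in
theorem nconj_symm {σ τ : CC P → ℂ} (hc : NConj P σ τ) : NConj P τ σ := by
  obtain ⟨x, hx⟩ := hc
  exact ⟨x⁻¹, by rw [← hx, cjF_inv_cjF]⟩

omit [Finite G] in
theorem nconj_trans {σ τ ρ : CC P → ℂ} (h1 : NConj P σ τ) (h2 : NConj P τ ρ) : NConj P σ ρ := by
  obtain ⟨x, hx⟩ := h1
  obtain ⟨y, hy⟩ := h2
  exact ⟨x * y, by rw [cjF_mul, hy, hx]⟩

open Classical in
/-- the number of `x ∈ N` with `τ^x = σ` is `|C|` or `0` -/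
theorem card_filter_cjF_eq (h : Star P) [Fintype (NN P)] (τ : IrrCharacter (CC P)) (hτ : Exc P τ)
    (σ : CC P → ℂ) :
    (Finset.univ.filter (fun x : NN P => cjF x τ = σ)).card =
      if NConj P σ τ then Nat.card (CC P) else 0 := by
  split_ifs with hc
  · obtain ⟨x₀, hx₀⟩ := hc
    have hcard : Nat.card (CC P) = Nat.card ((CC P).subgroupOf (NN P)) :=
      (Nat.card_congr (Subgroup.subgroupOfEquivOfLe CC_le_NN).toEquiv).symm
    have h0 : (Finset.univ.filter (fun x : NN P => cjF x τ = σ)).card =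
        Nat.card {x : NN P // cjF x τ = σ} := by
      rw [Nat.card_eq_fintype_card, Fintype.card_subtype]
    rw [h0, hcard]
    symm
    apply Nat.card_congr
    refine
      { toFun := fun z => ⟨x₀ * (z : NN P), ?_⟩
        invFun := fun x => ⟨x₀⁻¹ * (x : NN P), ?_⟩
        left_inv := fun z => by apply Subtype.ext; simp
        right_inv := fun x => by apply Subtype.ext; simp }
    · rw [cjF_mul, cjF_eq_of_mem_CC (Cfsg.Agent.Helper24.isClassFunction_irr τ) _
        (Subgroup.mem_subgroupOf.mp z.2), hx₀]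
    · have h1 : cjF (x₀⁻¹ * (x : NN P)) τ = τ := by
        rw [cjF_mul, x.2, ← hx₀, cjF_inv_cjF]
      exact Subgroup.mem_subgroupOf.mpr (mem_CC_of_cjF_eq h τ hτ _ h1)
  · rw [Finset.card_eq_zero, Finset.filter_eq_empty_iff]
    intro x _ hx
    exact hc ⟨x, hx⟩

end Inst

end Cfsg.Agent.Helper8.BL
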