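import Mathlib
import Cfsg.Agent.Helper8.BL4
import Cfsg.Agent.Helper24.Linear

/-!
# Brauer–Leonard configuration: twisting characters of `C` by linear characters
-/

set_option autoImplicit false

namespace Cfsg.Agent.Helper8.BL

open Cfsg

variable {G : Type*} [Group G] [Finite G] {p : ℕ} [hp : Fact p.Prime] {P : Sylow p G}

/-- twist of a function on `C` by a linear character -/
def tw (φ : CC P →* ℂˣ) (σ : CC P → ℂ) : CC P → ℂ := fun c => ((φ c : ℂˣ) : ℂ) * σ c

omit [Finite G] hp in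
theorem tw_apply (φ : CC P →* ℂˣ) (σ : CC P → ℂ) (c : CC P) :
    tw φ σ c = ((φ c : ℂˣ) : ℂ) * σ c := rfl

theorem isIrrCharacter_tw (φ : CC P →* ℂˣ) {σ : CC P → ℂ} (hσ : IsIrrCharacter (CC P) σ) :
    IsIrrCharacter (CC P) (tw φ σ) := by
  haveI : Fintype (CC P) := Fintype.ofFinite _
  exact Cfsg.Agent.Helper8.isIrrCharacter_linear_mul φ hσ

omit [Finite G] hp in
theorem tw_one_apply (φ : CC P →* ℂˣ) (σ : CC P → ℂ) : tw φ σ 1 = σ 1 := by
  rw [tw_apply, map_one, Units.val_one, one_mul]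

omit [Finite G] in
theorem tw_sub_vanish {φ : CC P →* ℂˣ} (hφ : TrivReg p φ) (σ : CC P → ℂ) (c : CC P)
    (hc : ¬ p ∣ orderOf (c : G)) : (σ - tw φ σ) c = 0 := by
  rw [Pi.sub_apply, tw_apply, hφ c (by rwa [← Subgroup.orderOf_coe]), Units.val_one, one_mul,
    sub_self]

omit [Finite G] in
theorem cjF_tw (x : NN P) (φ : CC P →* ℂˣ) (σ : CC P → ℂ) :
    cjF x (tw φ σ) = tw (φ.comp (cjE x).toMonoidHom) (cjF x σ) := rfl

theorem tw_injective (h : Star P) (σ : IrrCharacter (CC P)) {φ φ' : CC P →* ℂˣ}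
    (hφ : TrivReg p φ) (hφ' : TrivReg p φ') (heq : tw φ σ = tw φ' σ) : φ = φ' := by
  apply hom_ext_trivReg (centralSyl_QQ h) hφ hφ'
  intro y hy
  have h1 := congrFun heq y
  rw [tw_apply, tw_apply] at h1
  have h2 := irr_central_ne_zero (centralSyl_QQ h) σ hy
  apply Units.ext
  exact mul_right_cancel₀ h2 h1

/-- at most one twist of an irreducible character is non-exceptional -/
theorem tw_not_exc_unique (h : Star P) (σ : IrrCharacter (CC P)) {φ φ' : CC P →* ℂˣ}
    (hφ : TrivReg p φ) (hφ' : TrivReg p φ') (h1 : ¬ Exc P (tw φ σ)) (h2 : ¬ Exc P (tw φ' σ)) :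
    φ = φ' := by
  apply hom_ext_trivReg (centralSyl_QQ h) hφ hφ'
  intro y hy
  have hy' := (mem_QQ h y).mp hy
  have e1 : tw φ σ y = tw φ σ 1 := by
    by_contra hne
    exact h1 ⟨y, hy', hne⟩
  have e2 : tw φ' σ y = tw φ' σ 1 := by
    by_contra hne
    exact h2 ⟨y, hy', hne⟩
  rw [tw_one_apply] at e1 e2
  rw [tw_apply] at e1 e2
  have h3 := irr_central_ne_zero (centralSyl_QQ h) σ hy
  apply Units.ext
  apply mul_right_cancel₀ h3
  rw [e1, e2]

/-- the linear characters of `C` trivial on the `p`-regular elements -/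
abbrev TT (P : Sylow p G) : Type _ := {φ : CC P →* ℂˣ // TrivReg p φ}

theorem card_QQ (h : Star P) : Nat.card (QQ h : Subgroup (CC P)) = Nat.card (P : Subgroup G) := by
  have : ((QQ h : Sylow p (CC P)) : Subgroup (CC P)) = (P : Subgroup G).subgroupOf (CC P) := by
    unfold QQ; rw [Sylow.coe_subtype]
  rw [this]
  exact Nat.card_congr (Subgroup.subgroupOfEquivOfLe (le_CC h)).toEquiv

theorem card_TT (h : Star P) : Nat.card (TT P) = Nat.card (P : Subgroup G) := by
  have hQ := centralSyl_QQ h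
  have e : TT P ≃ ((QQ h : Subgroup (CC P)) →* ℂˣ) :=
    { toFun := fun φ => φ.1.comp (QQ h : Subgroup (CC P)).subtype
      invFun := fun ν => ⟨twist hQ ν, twist_trivReg hQ ν⟩
      left_inv := fun φ => by
        apply Subtype.ext
        exact (eq_twist_of_trivReg hQ φ.2).symm
      right_inv := fun ν => by
        apply MonoidHom.ext
        rintro ⟨y, hy⟩
        rw [MonoidHom.comp_apply]
        exact twist_apply_mem hQ ν hy }
  rw [Nat.card_congr e, ← card_QQ h]
  have hc : ∀ a b : (QQ h : Subgroup (CC P)), a * b = b * a := by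
    intro a b
    apply Subtype.ext
    exact hQ a a.2 b
  let _ : CommGroup (QQ h : Subgroup (CC P)) := { (inferInstance : Group ↥(QQ h : Subgroup (CC P))) with mul_comm := hc }
  have := Cfsg.Agent.Helper8.hasEnoughRootsOfUnity_exponent (QQ h : Subgroup (CC P))
  exact CommGroup.card_monoidHom_of_hasEnoughRootsOfUnity (QQ h : Subgroup (CC P)) ℂ

/-- `σ` and `τ` have the same central character on `P` -/
def SameCentral (P : Sylow p G) (σ τ : CC P → ℂ) : Prop :=
  ∀ c : CC P, (c : G) ∈ (P : Subgroup G) → τ c * σ 1 = σ c * τ 1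

/-- the central characters of `σ` and `τ` on `P` are `N`-conjugate -/
def PConj (P : Sylow p G) (σ τ : CC P → ℂ) : Prop :=
  ∃ x : NN P, SameCentral P σ (cjF x τ)

omit [Finite G] in
theorem pconj_of_nconj {σ τ : CC P → ℂ} (hc : NConj P σ τ) : PConj P σ τ := by
  obtain ⟨x, hx⟩ := hc
  refine ⟨x, ?_⟩
  rw [hx]
  intro c _
  rfl

theorem irrC_one_ne_zero (σ : IrrCharacter (CC P)) : (σ : CC P → ℂ) 1 ≠ 0 := by
  rw [Cfsg.Agent.Helper24.irrDeg_spec]
  exact_mod_cast (Cfsg.Agent.Helper24.irrDeg_pos σ).ne'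

/-- the number of twists of `σ` whose central character is conjugate to that of `ρ` -/
theorem card_pconj_mul_le (h : Star P) (σ : IrrCharacter (CC P)) (ρ : CC P → ℂ)
    (hρc : IsClassFunction (CC P) ρ) (hρ1 : ρ 1 ≠ 0) :
    Nat.card {φ : TT P // PConj P (tw φ.1 σ) ρ} * Nat.card (CC P) ≤ Nat.card (NN P) := by
  have hcard : Nat.card (CC P) = Nat.card ((CC P).subgroupOf (NN P)) :=
    (Nat.card_congr (Subgroup.subgroupOfEquivOfLe CC_le_NN).toEquiv).symm
  rw [hcard, ← Nat.card_prod]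
  choose xf hxf using fun φ : {φ : TT P // PConj P (tw φ.1 σ) ρ} => φ.2
  apply Nat.card_le_card_of_injective
    (fun q : {φ : TT P // PConj P (tw φ.1 σ) ρ} × ((CC P).subgroupOf (NN P)) =>
      xf q.1 * (q.2 : NN P))
  rintro ⟨φ, z⟩ ⟨φ', z'⟩ heq
  simp only at heq
  have key : ∀ (ψ : {φ : TT P // PConj P (tw φ.1 σ) ρ}) (w : (CC P).subgroupOf (NN P)),
      SameCentral P (tw ψ.1.1 σ) (cjF (xf ψ * (w : NN P)) ρ) := by
    intro ψ w
    rw [cjF_mul, cjF_eq_of_mem_CC hρc _ (Subgroup.mem_subgroupOf.mp w.2)]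
    exact hxf ψ
  have k1 := key φ z
  have k2 := key φ' z'
  rw [heq] at k1
  have hφ : φ = φ' := by
    apply Subtype.ext
    apply Subtype.ext
    apply hom_ext_trivReg (centralSyl_QQ h) φ.1.2 φ'.1.2
    intro y hy
    have hy' := (mem_QQ h y).mp hy
    have e1 := k1 y hy'
    have e2 := k2 y hy'
    rw [tw_one_apply] at e1 e2
    have e3 : tw φ.1.1 σ y * cjF (xf φ' * (z' : NN P)) ρ 1 =
        tw φ'.1.1 σ y * cjF (xf φ' * (z' : NN P)) ρ 1 := by rw [← e1, ← e2]
    have hne : cjF (xf φ' * (z' : NN P)) ρ 1 ≠ 0 := by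
      rw [cjF_apply, map_one]; exact hρ1
    have e4 := mul_right_cancel₀ hne e3
    rw [tw_apply, tw_apply] at e4
    apply Units.ext
    exact mul_right_cancel₀ (irr_central_ne_zero (centralSyl_QQ h) σ hy) e4
  subst hφ
  have : (z : NN P) = z' := mul_left_cancel heq
  rw [Prod.mk.injEq]
  exact ⟨rfl, Subtype.ext this⟩

end Cfsg.Agent.Helper8.BL
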