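import Mathlib
import Cfsg.Agent.Helper8.BL5
import Cfsg.Agent.Helper8.Virtual
import Cfsg.Agent.Helper24.Expansion
import Cfsg.Agent.Helper24.Induced

/-!
# Brauer–Leonard configuration: induced differences of twists
-/

set_option autoImplicit false

namespace Cfsg.Agent.Helper8.BL

open Cfsg

variable {G : Type*} [Group G] [Fintype G] {p : ℕ} [hp : Fact p.Prime] {P : Sylow p G}

/-- twist of an irreducible character, bundled -/
noncomputable def twI (φ : TT P) (a : IrrCharacter (CC P)) : IrrCharacter (CC P) :=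
  ⟨tw φ.1 a, isIrrCharacter_tw φ.1 a.2⟩

/-- conjugate of an irreducible character, bundled -/
def cjI (x : NN P) (a : IrrCharacter (CC P)) : IrrCharacter (CC P) :=
  ⟨cjF x a, isIrrCharacter_cjF x a.2⟩

/-- the multiplicity of `σ` in the restriction of `ψ` to `C` -/
noncomputable def mult [Fintype (CC P)] (σ : CC P → ℂ) (ψ : G → ℂ) : ℂ :=
  classInner σ (fun c : CC P => ψ c)

section Inner

variable [Fintype (CC P)]

theorem classInner_cjF_cjF (x : NN P) (α β : CC P → ℂ) :
    classInner (cjF x α) (cjF x β) = classInner α β := by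
  unfold classInner
  congr 1
  exact Equiv.sum_comp (cjE x).toEquiv (fun c => α c * (starRingEnd ℂ) (β c))

theorem mult_cjF (x : NN P) (σ : CC P → ℂ) {ψ : G → ℂ} (hψ : IsClassFunction G ψ) :
    mult (cjF x σ) ψ = mult σ ψ := by
  unfold mult
  conv_lhs => rw [← cjF_restrict x hψ]
  exact classInner_cjF_cjF x σ _

theorem mult_nat {σ : CC P → ℂ} (hσ : IsIrrCharacter (CC P) σ) {ψ : G → ℂ} (hψ : IsCharacter G ψ) :
    ∃ n : ℕ, mult σ ψ = n := by
  haveI : Fintype (IrrCharacter (CC P)) := Fintype.ofFinite _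
  exact Cfsg.Agent.Helper24.IsCharacter.classInner_nat
    (Cfsg.Agent.Helper24.IsIrrCharacter.isCharacter hσ)
    (Cfsg.Agent.Helper8.isCharacter_restrict (CC P) hψ)

theorem classInner_indFun_sub (a a' : CC P → ℂ) {ψ : G → ℂ} (hψ : IsClassFunction G ψ) :
    classInner (indFun (CC P) (a - a')) ψ = mult a ψ - mult a' ψ := by
  rw [Cfsg.Agent.Helper8.frobenius_reciprocity (CC P) _ _ hψ,
    Cfsg.Agent.Helper24.classInner_sub_left]
  rfl

variable [Fintype (NN P)]

open Classical in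
/-- orbit counting via inner products -/
theorem sum_classInner_cjF (h : Star P) {α : CC P → ℂ} (hα : IsIrrCharacter (CC P) α)
    (τ : IrrCharacter (CC P)) (hτ : Exc P τ) :
    ∑ x : NN P, classInner α (cjF x τ) = if NConj P α τ then (Nat.card (CC P) : ℂ) else 0 := by
  have h1 : ∀ x : NN P, classInner α (cjF x τ) = if cjF x τ = α then 1 else 0 := by
    intro x
    rw [Cfsg.Agent.Helper24.classInner_of_isIrrCharacter hα (isIrrCharacter_cjF x τ.2)]
    by_cases hc : cjF x τ = α
    · rw [if_pos hc, if_pos hc.symm]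
    · rw [if_neg hc, if_neg (fun h' => hc h'.symm)]
  simp_rw [h1]
  rw [Finset.sum_boole]
  have hh := card_filter_cjF_eq h τ hτ α
  have hh2 : ((Finset.univ.filter (fun x : NN P => cjF x τ = α)).card : ℂ) =
      ((if NConj P α τ then Nat.card (CC P) else 0 : ℕ) : ℂ) := by
    congr 1
    convert hh
  rw [hh2]
  split_ifs <;> simp

open Classical in
/-- the Kronecker symbol of `N`-conjugacy -/
noncomputable def dl (P : Sylow p G) (α β : CC P → ℂ) : ℂ := if NConj P α β then 1 else 0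

/-- inner products of induced differences -/
theorem classInner_ind_sub_ind_sub (h : Star P) (a a' b b' : IrrCharacter (CC P))
    (hv : ∀ c : CC P, ¬ p ∣ orderOf (c : G) → ((a : CC P → ℂ) - (a' : CC P → ℂ)) c = 0)
    (hb : Exc P b) (hb' : Exc P b') :
    classInner (indFun (CC P) ((a : CC P → ℂ) - (a' : CC P → ℂ)))
        (indFun (CC P) ((b : CC P → ℂ) - (b' : CC P → ℂ))) =
      dl P a b - dl P a b' - dl P a' b + dl P a' b' := by
  classical
  rw [classInner_indFun_indFun h _ _ hv]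
  have hC : (Nat.card (CC P) : ℂ) ≠ 0 := Nat.cast_ne_zero.mpr Nat.card_pos.ne'
  have h1 : ∀ x : NN P, classInner ((a : CC P → ℂ) - (a' : CC P → ℂ))
      (cjF x ((b : CC P → ℂ) - (b' : CC P → ℂ))) =
      classInner (a : CC P → ℂ) (cjF x b) - classInner (a : CC P → ℂ) (cjF x b')
        - classInner (a' : CC P → ℂ) (cjF x b) + classInner (a' : CC P → ℂ) (cjF x b') := by
    intro x
    have : cjF x ((b : CC P → ℂ) - (b' : CC P → ℂ)) = cjF x b - cjF x b' := rfl
    rw [this, Cfsg.Agent.Helper24.classInner_sub_left, Cfsg.Agent.Helper24.classInner_sub_right,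
      Cfsg.Agent.Helper24.classInner_sub_right]
    ring
  simp_rw [h1]
  rw [Finset.sum_add_distrib, Finset.sum_sub_distrib, Finset.sum_sub_distrib,
    sum_classInner_cjF h a.2 b hb, sum_classInner_cjF h a.2 b' hb',
    sum_classInner_cjF h a'.2 b hb, sum_classInner_cjF h a'.2 b' hb']
  unfold dl
  split_ifs <;> field_simp <;> ring

omit [Fintype (CC P)] [Fintype (NN P)] in
theorem indFun_apply_one_of_zero {θ : CC P → ℂ} (hθ : θ 1 = 0) : indFun (CC P) θ 1 = 0 := by
  rw [Cfsg.Agent.Helper8.indFun_def]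
  have : ∀ x : G, extendByZero (CC P) θ (x⁻¹ * 1 * x) = 0 := by
    intro x
    have h1 : x⁻¹ * 1 * x = ((1 : CC P) : G) := by simp
    rw [h1, Cfsg.Agent.Helper8.ebz_coe, hθ]
  apply mul_eq_zero_of_right
  exact Finset.sum_eq_zero (fun x _ => this x)

/-- **The norm two lemma.** -/
theorem exists_irr_sub_irr (h : Star P) (a : IrrCharacter (CC P)) (φ : TT P) (ha : Exc P a)
    (ha' : Exc P (tw φ.1 a)) (hnc : ¬ NConj P (tw φ.1 a) a) :
    ∃ ψ₁ ψ₂ : IrrCharacter G, ψ₁ ≠ ψ₂ ∧
      indFun (CC P) ((a : CC P → ℂ) - tw φ.1 a) = (ψ₁ : G → ℂ) - (ψ₂ : G → ℂ) := by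
  have hgen : IsGeneralizedCharacter G (indFun (CC P) ((a : CC P → ℂ) - tw φ.1 a)) := by
    apply Cfsg.Agent.Helper24.IsGeneralizedCharacter.indFun
    exact ⟨_, _, Cfsg.Agent.Helper24.IsIrrCharacter.isCharacter a.2,
      Cfsg.Agent.Helper24.IsIrrCharacter.isCharacter (isIrrCharacter_tw φ.1 a.2), rfl⟩
  have hv : ∀ c : CC P, ¬ p ∣ orderOf (c : G) →
      ((a : CC P → ℂ) - ((twI φ a : IrrCharacter (CC P)) : CC P → ℂ)) c = 0 :=
    fun c hc => tw_sub_vanish φ.2 a c hc
  have hnorm := classInner_ind_sub_ind_sub h a (twI φ a) a (twI φ a) hv ha ha'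
  have h0 : indFun (CC P) ((a : CC P → ℂ) - tw φ.1 a) 1 = 0 := by
    apply indFun_apply_one_of_zero
    rw [Pi.sub_apply, tw_one_apply, sub_self]
  refine Cfsg.Agent.Helper8.exists_irr_sub_irr_of_norm_two hgen ?_ h0
  have e1 : ((twI φ a : IrrCharacter (CC P)) : CC P → ℂ) = tw φ.1 a := rfl
  rw [e1] at hnorm
  rw [hnorm]
  unfold dl
  rw [if_pos (nconj_refl _), if_pos (nconj_refl _), if_neg hnc,
    if_neg (fun hc => hnc (nconj_symm hc))]
  norm_num

end Inner

end Cfsg.Agent.Helper8.BL
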