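import Mathlib
import Cfsg.Agent.Helper8.BL6

/-!
# Brauer–Leonard configuration: choosing twists, restriction of induced differences,
the weight functional
-/

set_option autoImplicit false

namespace Cfsg.Agent.Helper8.BL

open Cfsg
open scoped ComplexConjugate

variable {G : Type*} [Group G] [Fintype G] {p : ℕ} [hp : Fact p.Prime] {P : Sylow p G}

variable [Fintype (CC P)]

theorem twI_injective (h : Star P) (a : IrrCharacter (CC P)) :
    Function.Injective (fun φ : TT P => twI φ a) := by
  intro φ φ' heq
  have h1 : tw φ.1 a = tw φ'.1 a := congrArg Subtype.val heq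
  exact Subtype.ext (tw_injective h a φ.2 φ'.2 h1)

/-- choosing a twist of `a` absent from `θ`, exceptional, and avoiding a small set -/
theorem exists_good_twist (h : Star P) (a : IrrCharacter (CC P)) {θ : CC P → ℂ}
    (hθ : IsCharacter (CC P) θ) (d : ℕ) (hd : θ 1 = d) (Bp : TT P → Prop)
    (hlt : d + 1 + Nat.card {φ : TT P // Bp φ} < Nat.card (P : Subgroup G)) :
    ∃ φ : TT P, ¬ Bp φ ∧ classInner (tw φ.1 a) θ = 0 ∧ Exc P (tw φ.1 a) := by
  classical
  by_contra hcon
  push Not at hcon
  haveI : Finite (TT P) :=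
    Nat.finite_of_card_ne_zero (by rw [card_TT h]; exact Nat.card_pos.ne')
  haveI : Fintype (TT P) := Fintype.ofFinite _
  haveI : Fintype (IrrCharacter (CC P)) := Fintype.ofFinite _
  obtain ⟨n, hn⟩ := Cfsg.Agent.Helper24.IsCharacter.exists_nat_coeff hθ
  have hmult : ∀ σ : IrrCharacter (CC P), classInner (σ : CC P → ℂ) θ = n σ := by
    intro σ
    rw [hn, Cfsg.Agent.Helper24.classInner_irr_sum]
    simp
  set S := Finset.univ.filter (fun φ : TT P => n (twI φ a) ≠ 0) with hS
  set E := Finset.univ.filter (fun φ : TT P => ¬ Exc P (tw φ.1 a)) with hE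
  set B := Finset.univ.filter Bp with hB
  have hcover : (Finset.univ : Finset (TT P)) ⊆ B ∪ S ∪ E := by
    intro φ _
    by_cases h1 : Bp φ
    · simp [hB, h1]
    by_cases h2 : n (twI φ a) = 0
    · have h3 : classInner (tw φ.1 a) θ = 0 := by
        have := hmult (twI φ a)
        rw [h2, Nat.cast_zero] at this
        exact this
      have := hcon φ h1 h3
      simp [hE, this]
    · simp [hS, h2]
  have hEc : E.card ≤ 1 := by
    apply Finset.card_le_one.mpr
    intro φ hφ φ' hφ'
    exact Subtype.ext (tw_not_exc_unique h a φ.2 φ'.2 (Finset.mem_filter.mp hφ).2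
      (Finset.mem_filter.mp hφ').2)
  have hdsum : d = ∑ σ : IrrCharacter (CC P), n σ * Cfsg.Agent.Helper24.irrDeg σ := by
    have h1 : θ 1 = ∑ σ : IrrCharacter (CC P), (n σ : ℂ) * (σ : CC P → ℂ) 1 := by
      rw [hn, Finset.sum_apply]
      rfl
    rw [hd] at h1
    simp_rw [Cfsg.Agent.Helper24.irrDeg_spec] at h1
    exact_mod_cast h1
  have hSc : S.card ≤ d := by
    rw [← Finset.card_image_of_injective S (twI_injective h a)]
    have hsub : S.image (fun φ : TT P => twI φ a) ⊆
        Finset.univ.filter (fun σ : IrrCharacter (CC P) => n σ ≠ 0) := by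
      intro σ hσ
      rw [Finset.mem_image] at hσ
      obtain ⟨φ, hφ, rfl⟩ := hσ
      rw [Finset.mem_filter]
      exact ⟨Finset.mem_univ _, (Finset.mem_filter.mp hφ).2⟩
    refine le_trans (Finset.card_le_card hsub) ?_
    rw [hdsum, Finset.card_eq_sum_ones, Finset.sum_filter]
    apply Finset.sum_le_sum
    intro σ _
    split_ifs with h0
    · have := Cfsg.Agent.Helper24.irrDeg_pos σ
      have h1 : 0 < n σ := Nat.pos_of_ne_zero h0
      exact Nat.mul_pos h1 this
    · exact Nat.zero_le _
  have hBc : B.card = Nat.card {φ : TT P // Bp φ} := by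
    rw [Nat.card_eq_fintype_card, Fintype.card_subtype]
  have h5 := Finset.card_le_card hcover
  rw [Finset.card_univ, ← Nat.card_eq_fintype_card, card_TT h] at h5
  have h3 := Finset.card_union_le (B ∪ S) E
  have h4 := Finset.card_union_le B S
  omega

variable [Fintype (NN P)]

/-- **Restriction of an induced function** vanishing on the `p`-regular elements. -/
theorem indFun_restrict (h : Star P) (β : CC P → ℂ)
    (hβ : ∀ c : CC P, ¬ p ∣ orderOf (c : G) → β c = 0) (c : CC P) :
    indFun (CC P) β c = (Nat.card (CC P) : ℂ)⁻¹ * ∑ x : NN P, cjF x β c := by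
  by_cases hc : p ∣ orderOf (c : G)
  · rw [indFun_apply_of_mem_DD h β ⟨c.2, hc⟩]
    congr 1
    refine Finset.sum_congr rfl fun x _ => ?_
    exact ebz_conj_eq_cjF β x c
  · rw [Cfsg.Agent.Helper8.indFun_def]
    congr 1
    rw [Finset.sum_eq_zero, Finset.sum_eq_zero]
    · intro x _
      rw [cjF_apply]
      apply hβ
      rw [cjE_coe]
      have : orderOf ((x : G)⁻¹ * c * x) = orderOf (c : G) := by
        have := MulEquiv.orderOf_eq (MulAut.conj (x : G)⁻¹) (c : G)
        rwa [MulAut.conj_apply, inv_inv] at this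
      rw [this]; exact hc
    · intro g _
      by_cases hg : g⁻¹ * c * g ∈ CC P
      · rw [Cfsg.Agent.Helper8.ebz_mem (CC P) β hg]
        apply hβ
        have : orderOf (g⁻¹ * c * g) = orderOf (c : G) := by
          have := MulEquiv.orderOf_eq (MulAut.conj g⁻¹) (c : G)
          rwa [MulAut.conj_apply, inv_inv] at this
        simp only
        rw [this]; exact hc
      · exact Cfsg.Agent.Helper8.ebz_not_mem (CC P) β hg

end Cfsg.Agent.Helper8.BL
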