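import Mathlib
import Cfsg.Agent.Helper8.BL7

/-!
# Brauer–Leonard configuration: the weight functional
-/

set_option autoImplicit false

namespace Cfsg.Agent.Helper8.BL

open Cfsg
open scoped ComplexConjugate

variable {G : Type*} [Group G] [Fintype G] {p : ℕ} [hp : Fact p.Prime] {P : Sylow p G}

variable [Fintype (CC P)]

open Classical in
/-- the sum of the values on `P` -/
noncomputable def wQ (P : Sylow p G) [Fintype (CC P)] (θ : CC P → ℂ) : ℂ :=
  ∑ c : CC P, if (c : G) ∈ (P : Subgroup G) then θ c else 0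

omit [Fintype G] hp in
theorem wQ_add (θ θ' : CC P → ℂ) : wQ P (θ + θ') = wQ P θ + wQ P θ' := by
  unfold wQ
  rw [← Finset.sum_add_distrib]
  refine Finset.sum_congr rfl fun c _ => ?_
  split_ifs <;> simp

omit [Fintype G] hp in
theorem wQ_sub (θ θ' : CC P → ℂ) : wQ P (θ - θ') = wQ P θ - wQ P θ' := by
  unfold wQ
  rw [← Finset.sum_sub_distrib]
  refine Finset.sum_congr rfl fun c _ => ?_
  split_ifs <;> simp

omit [Fintype G] hp in
theorem wQ_smul (z : ℂ) (θ : CC P → ℂ) : wQ P (z • θ) = z * wQ P θ := by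
  unfold wQ
  rw [Finset.mul_sum]
  refine Finset.sum_congr rfl fun c _ => ?_
  split_ifs <;> simp

omit [Fintype G] hp in
theorem wQ_sum {ι : Type*} (s : Finset ι) (θ : ι → CC P → ℂ) :
    wQ P (∑ i ∈ s, θ i) = ∑ i ∈ s, wQ P (θ i) := by
  classical
  induction s using Finset.induction_on with
  | empty =>
    unfold wQ
    simp
  | insert a s ha ih => rw [Finset.sum_insert ha, Finset.sum_insert ha, wQ_add, ih]

theorem cHom_eq_iff (h : Star P) (α β : IrrCharacter (CC P)) :
    cHom (centralSyl_QQ h) α = cHom (centralSyl_QQ h) β ↔ SameCentral P α β := by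
  have hQ := centralSyl_QQ h
  constructor
  · intro heq c hc
    have hy : c ∈ (QQ h : Subgroup (CC P)) := (mem_QQ h c).mpr hc
    have e1 := irr_apply_mem hQ α ⟨c, hy⟩
    have e2 := irr_apply_mem hQ β ⟨c, hy⟩
    simp only at e1 e2
    rw [e1, e2, heq]
    ring
  · intro hs
    apply MonoidHom.ext
    intro y
    apply Units.ext
    have hy' := (mem_QQ h y).mp y.2
    have e0 := hs y hy'
    have e1 := irr_apply_mem hQ α y
    have e2 := irr_apply_mem hQ β y
    rw [e1, e2] at e0
    have ha := irrC_one_ne_zero α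
    have hb := irrC_one_ne_zero β
    have e3 : ((cHom hQ β y : ℂˣ) : ℂ) * ((β : CC P → ℂ) 1 * (α : CC P → ℂ) 1) =
        ((cHom hQ α y : ℂˣ) : ℂ) * ((β : CC P → ℂ) 1 * (α : CC P → ℂ) 1) := by
      rw [← mul_assoc, e0]; ring
    exact (mul_right_cancel₀ (mul_ne_zero hb ha) e3).symm

open Classical in
/-- the weight of a product `α · conj β` of irreducible characters of `C` -/
theorem wQ_mul_conj (h : Star P) (α β : IrrCharacter (CC P)) :
    wQ P (fun c => (α : CC P → ℂ) c * conj ((β : CC P → ℂ) c)) =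
      if SameCentral P α β then
        (Nat.card (P : Subgroup G) : ℂ) * (α : CC P → ℂ) 1 * (β : CC P → ℂ) 1 else 0 := by
  have hQ := centralSyl_QQ h
  have h1 : wQ P (fun c => (α : CC P → ℂ) c * conj ((β : CC P → ℂ) c)) =
      ∑ y : ↥(QQ h : Subgroup (CC P)),
        (α : CC P → ℂ) y * conj ((β : CC P → ℂ) y) := by
    unfold wQ
    rw [← Finset.sum_filter]
    exact Finset.sum_subtype (Finset.univ.filter fun c : CC P => (c : G) ∈ (P : Subgroup G))
      (fun c => by simp [mem_QQ]) _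
  rw [h1]
  have hb1 : conj ((β : CC P → ℂ) 1) = (β : CC P → ℂ) 1 := by
    rw [Cfsg.Agent.Helper24.irrDeg_spec, Complex.conj_natCast]
  have h2 : ∀ y : ↥(QQ h : Subgroup (CC P)),
      (α : CC P → ℂ) y * conj ((β : CC P → ℂ) y) =
        ((α : CC P → ℂ) 1 * (β : CC P → ℂ) 1) *
          (((cHom hQ α y : ℂˣ) : ℂ) * conj ((cHom hQ β y : ℂˣ) : ℂ)) := by
    intro y
    rw [irr_apply_mem hQ α y, irr_apply_mem hQ β y, map_mul, hb1]
    ring
  simp_rw [h2]
  rw [← Finset.mul_sum]
  have h3 := Cfsg.Agent.Helper8.classInner_hom_units (cHom hQ α) (cHom hQ β)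
  unfold classInner at h3
  have hQ0 : (Nat.card ↥(QQ h : Subgroup (CC P)) : ℂ) ≠ 0 :=
    Nat.cast_ne_zero.mpr Nat.card_pos.ne'
  have h4 : ∑ y : ↥(QQ h : Subgroup (CC P)),
      ((cHom hQ α y : ℂˣ) : ℂ) * conj ((cHom hQ β y : ℂˣ) : ℂ) =
      (Nat.card ↥(QQ h : Subgroup (CC P)) : ℂ) *
        (if cHom hQ α = cHom hQ β then 1 else 0) := by
    rw [← h3, ← mul_assoc, mul_inv_cancel₀ hQ0, one_mul]
  rw [h4, card_QQ h]
  by_cases hs : SameCentral P α β
  · rw [if_pos hs, if_pos ((cHom_eq_iff h α β).mpr hs)]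
    ring
  · rw [if_neg hs, if_neg (fun hc => hs ((cHom_eq_iff h α β).mp hc))]
    ring

open Classical in
/-- the weight of an irreducible character of `C` -/
theorem wQ_irr (h : Star P) (σ : IrrCharacter (CC P)) :
    wQ P σ = if Exc P σ then 0 else (Nat.card (P : Subgroup G) : ℂ) * (σ : CC P → ℂ) 1 := by
  have h1 := wQ_mul_conj h σ ⟨fun _ => 1, Cfsg.Agent.Helper24.isIrrCharacter_const_one⟩
  simp only [map_one, mul_one] at h1
  rw [h1]
  by_cases he : Exc P σ
  · rw [if_pos he, if_neg]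
    intro hs
    obtain ⟨c, hc, hne⟩ := he
    apply hne
    have := hs c hc
    simpa using this.symm
  · rw [if_neg he, if_pos]
    intro c hc
    simp only [one_mul, mul_one]
    by_contra hne
    exact he ⟨c, hc, fun h' => hne h'.symm⟩

/-- the weight of a character of `C` is a natural number; if it vanishes, all constituents are
exceptional -/
theorem wQ_character (h : Star P) {θ : CC P → ℂ} (hθ : IsCharacter (CC P) θ) :
    ∃ k : ℕ, wQ P θ = k ∧
      (k = 0 → ∀ σ : IrrCharacter (CC P), classInner (σ : CC P → ℂ) θ ≠ 0 → Exc P σ) := by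
  classical
  haveI : Fintype (IrrCharacter (CC P)) := Fintype.ofFinite _
  obtain ⟨n, hn⟩ := Cfsg.Agent.Helper24.IsCharacter.exists_nat_coeff hθ
  have hmult : ∀ σ : IrrCharacter (CC P), classInner (σ : CC P → ℂ) θ = n σ := by
    intro σ
    rw [hn, Cfsg.Agent.Helper24.classInner_irr_sum]
    simp
  refine ⟨∑ σ : IrrCharacter (CC P), n σ *
    (if Exc P σ then 0 else Nat.card (P : Subgroup G) * Cfsg.Agent.Helper24.irrDeg σ), ?_, ?_⟩
  · rw [hn, wQ_sum]
    push_cast
    refine Finset.sum_congr rfl fun σ _ => ?_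
    rw [wQ_smul, wQ_irr h σ, Cfsg.Agent.Helper24.irrDeg_spec]
  · intro h0 σ hσ
    by_contra he
    rw [Finset.sum_eq_zero_iff] at h0
    have := h0 σ (Finset.mem_univ _)
    rw [if_neg he] at this
    rw [hmult] at hσ
    have h1 : n σ ≠ 0 := by
      intro h'
      apply hσ
      rw [h']; simp
    have h2 := Cfsg.Agent.Helper24.irrDeg_pos σ
    have h3 : 0 < Nat.card (P : Subgroup G) := Nat.card_pos
    rcases Nat.mul_eq_zero.mp this with h4 | h4
    · exact h1 h4
    · rcases Nat.mul_eq_zero.mp h4 with h5 | h5 <;> omega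

/-- a character of `C` not constant on `P` has an exceptional constituent -/
theorem exists_exc_constituent {θ : CC P → ℂ} (hθ : IsCharacter (CC P) θ) {c : CC P}
    (hc : (c : G) ∈ (P : Subgroup G)) (hne : θ c ≠ θ 1) :
    ∃ σ : IrrCharacter (CC P), classInner (σ : CC P → ℂ) θ ≠ 0 ∧ Exc P σ := by
  classical
  haveI : Fintype (IrrCharacter (CC P)) := Fintype.ofFinite _
  obtain ⟨n, hn⟩ := Cfsg.Agent.Helper24.IsCharacter.exists_nat_coeff hθ
  have hmult : ∀ σ : IrrCharacter (CC P), classInner (σ : CC P → ℂ) θ = n σ := by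
    intro σ
    rw [hn, Cfsg.Agent.Helper24.classInner_irr_sum]
    simp
  by_contra hcon
  push Not at hcon
  apply hne
  rw [hn, Finset.sum_apply, Finset.sum_apply]
  refine Finset.sum_congr rfl fun σ _ => ?_
  by_cases h0 : n σ = 0
  · simp [h0]
  · have h1 : classInner (σ : CC P → ℂ) θ ≠ 0 := by
      rw [hmult]; exact_mod_cast h0
    have h2 := hcon σ h1
    have h3 : (σ : CC P → ℂ) c = (σ : CC P → ℂ) 1 := by
      by_contra h'
      exact h2 ⟨c, hc, h'⟩
    simp [h3]

end Cfsg.Agent.Helper8.BL
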