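import Mathlib
import Cfsg.Agent.Helper8.BL8
import Cfsg.Agent.Helper8.CharVal

/-!
# Brauer–Leonard configuration: Step 1 (small degree forces a single orbit)
-/

set_option autoImplicit false

namespace Cfsg.Agent.Helper8.BL

open Cfsg
open scoped ComplexConjugate

section Abstract

variable {K : Type*} [Group K] [Finite K] {p : ℕ} [hp : Fact p.Prime] {Q : Sylow p K}

/-- the `p`-regular elements of a group with central Sylow `p`-subgroup `Q` number at most
`|K| / |Q|` -/
theorem card_regular_mul_le (hQ : CentralSyl Q) :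
    Nat.card {v : K // ¬ p ∣ orderOf v} * Nat.card (Q : Subgroup K) ≤ Nat.card K := by
  set f := MonoidHom.transferSylow Q (normalizer_le_centralizer_of_central hQ) with hf
  have hcompl := MonoidHom.ker_transferSylow_isComplement' Q
    (normalizer_le_centralizer_of_central hQ)
  rw [← hcompl.card_mul]
  apply Nat.mul_le_mul_right
  have hmem : ∀ v : {v : K // ¬ p ∣ orderOf v}, (v : K) ∈ f.ker := by
    rintro ⟨v, hv⟩
    rw [MonoidHom.mem_ker]
    have h1 : orderOf (f v) ∣ orderOf v := orderOf_map_dvd _ v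
    obtain ⟨k, hk⟩ := (IsPGroup.iff_orderOf.mp Q.2) (f v)
    have hk0 : k = 0 := by
      by_contra hne
      apply hv
      rw [hk] at h1
      exact dvd_trans (dvd_pow_self p hne) h1
    rw [hk0, pow_zero, orderOf_eq_one_iff] at hk
    exact hk
  apply Nat.card_le_card_of_injective
    (fun v : {v : K // ¬ p ∣ orderOf v} => (⟨(v : K), hmem v⟩ : f.ker))
  intro a b hab
  apply Subtype.ext
  exact congrArg (fun w : f.ker => (w : K)) hab

end Abstract

variable {G : Type*} [Group G] [Fintype G] {p : ℕ} [hp : Fact p.Prime] {P : Sylow p G}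

omit hp in
theorem sum_normSq_irr (ψ : IrrCharacter G) :
    ∑ g : G, Complex.normSq ((ψ : G → ℂ) g) = (Nat.card G : ℝ) := by
  have h1 := Cfsg.Agent.Helper24.classInner_irr_self ψ
  unfold classInner at h1
  have hG : (Nat.card G : ℂ) ≠ 0 := Nat.cast_ne_zero.mpr Nat.card_pos.ne'
  have h2 : ∑ g : G, (ψ : G → ℂ) g * conj ((ψ : G → ℂ) g) = (Nat.card G : ℂ) := by
    have := congrArg (fun z => (Nat.card G : ℂ) * z) h1
    beta_reduce at this
    rw [← mul_assoc, mul_inv_cancel₀ hG, one_mul, mul_one] at this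
    exact this
  simp_rw [Complex.mul_conj] at h2
  rw [← Complex.ofReal_sum] at h2
  have : ((Nat.card G : ℝ) : ℂ) = (Nat.card G : ℂ) := by simp
  rw [← this] at h2
  exact Complex.ofReal_injective h2

variable [Fintype (CC P)]

omit hp [Fintype G] in
theorem sum_normSq_decomp [Fintype (IrrCharacter (CC P))] (n : IrrCharacter (CC P) → ℕ) :
    ∑ c : CC P, Complex.normSq ((∑ σ : IrrCharacter (CC P), (n σ : ℂ) • (σ : CC P → ℂ)) c) =
      (Nat.card (CC P) : ℝ) * ∑ σ : IrrCharacter (CC P), ((n σ : ℝ)) ^ 2 := by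
  have h1 := Cfsg.Agent.Helper24.classInner_sum_sum (fun σ : IrrCharacter (CC P) => (n σ : ℂ))
    (fun σ : IrrCharacter (CC P) => (n σ : ℂ))
  unfold classInner at h1
  have hC : (Nat.card (CC P) : ℂ) ≠ 0 := Nat.cast_ne_zero.mpr Nat.card_pos.ne'
  set θ := ∑ σ : IrrCharacter (CC P), (n σ : ℂ) • (σ : CC P → ℂ) with hθ
  have h2 : ∑ c : CC P, θ c * conj (θ c) =
      (Nat.card (CC P) : ℂ) * ∑ σ : IrrCharacter (CC P), (n σ : ℂ) * conj (n σ : ℂ) := by
    rw [← h1, ← mul_assoc, mul_inv_cancel₀ hC, one_mul]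
  simp_rw [Complex.mul_conj] at h2
  rw [← Complex.ofReal_sum] at h2
  apply Complex.ofReal_injective
  rw [h2]
  push_cast
  congr 1
  refine Finset.sum_congr rfl fun σ _ => ?_
  rw [Complex.normSq_natCast]
  push_cast
  ring

variable [Fintype (NN P)]

/-- orbit counting for an `N`-invariant multiplicity function -/
theorem orbit_sum_sq (h : Star P) [Fintype (IrrCharacter (CC P))] (n : IrrCharacter (CC P) → ℕ)
    (hinv : ∀ (x : NN P) (σ : IrrCharacter (CC P)), n (cjI x σ) = n σ)
    (τ : IrrCharacter (CC P)) (hτ : Exc P τ) [DecidablePred (fun σ : IrrCharacter (CC P) => NConj P σ τ)] :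
    Nat.card (CC P) * ∑ σ : IrrCharacter (CC P), n σ ^ 2 =
      Nat.card (NN P) * n τ ^ 2 +
        Nat.card (CC P) * ∑ σ ∈ Finset.univ.filter (fun σ : IrrCharacter (CC P) => ¬ NConj P σ τ),
          n σ ^ 2 := by
  classical
  rw [← Finset.sum_filter_add_sum_filter_not Finset.univ
    (fun σ : IrrCharacter (CC P) => NConj P σ τ) (fun σ => n σ ^ 2), mul_add]
  congr 1
  -- the conjugates of `τ`
  have h1 : Nat.card (CC P) * ∑ σ ∈ Finset.univ.filter
      (fun σ : IrrCharacter (CC P) => NConj P σ τ), n σ ^ 2 =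
      ∑ σ : IrrCharacter (CC P),
        (Finset.univ.filter (fun x : NN P => cjF x τ = (σ : CC P → ℂ))).card * n σ ^ 2 := by
    rw [Finset.sum_filter, Finset.mul_sum]
    refine Finset.sum_congr rfl fun σ _ => ?_
    have := card_filter_cjF_eq h τ hτ (σ : CC P → ℂ)
    have h2 : (Finset.univ.filter (fun x : NN P => cjF x τ = (σ : CC P → ℂ))).card =
        if NConj P σ τ then Nat.card (CC P) else 0 := by
      convert this
    rw [h2]
    split_ifs <;> simp
  rw [h1]
  have h2 : ∀ σ : IrrCharacter (CC P),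
      (Finset.univ.filter (fun x : NN P => cjF x τ = (σ : CC P → ℂ))).card * n σ ^ 2 =
      ∑ x : NN P, if cjI x τ = σ then n (cjI x τ) ^ 2 else 0 := by
    intro σ
    rw [Finset.card_eq_sum_ones, Finset.sum_filter, Finset.sum_mul]
    refine Finset.sum_congr rfl fun x _ => ?_
    by_cases hc : cjF x τ = (σ : CC P → ℂ)
    · have hc' : cjI x τ = σ := Subtype.ext hc
      rw [if_pos hc, if_pos hc', hc', one_mul]
    · have hc' : ¬ cjI x τ = σ := fun h' => hc (congrArg Subtype.val h')
      rw [if_neg hc, if_neg hc', zero_mul]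
  simp_rw [h2]
  rw [Finset.sum_comm]
  simp_rw [Finset.sum_ite_eq, Finset.mem_univ, if_true, hinv]
  rw [Finset.sum_const, Finset.card_univ, smul_eq_mul, Nat.card_eq_fintype_card]

end Cfsg.Agent.Helper8.BL
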