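import Mathlib
import Cfsg.Agent.Helper8.BL9

/-!
# Brauer–Leonard configuration: Step 1
-/

set_option autoImplicit false

namespace Cfsg.Agent.Helper8.BL

open Cfsg
open scoped ComplexConjugate

variable {G : Type*} [Group G] [Fintype G] {p : ℕ} [hp : Fact p.Prime] {P : Sylow p G}

variable [Fintype (CC P)] [Fintype (NN P)]

open Classical in
/-- the sum of `|ψ|²` over the `p`-singular elements of `C` -/
theorem sum_Dfin_eq (F : G → ℝ) :
    ∑ g ∈ Dfin P, F g = ∑ c : CC P, F c -
      ∑ c ∈ Finset.univ.filter (fun c : CC P => ¬ p ∣ orderOf (c : G)), F c := by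
  have h1 : ∑ g ∈ Dfin P, F g = ∑ c : CC P, if p ∣ orderOf (c : G) then F c else 0 := by
    have h2 : ∑ c : CC P, (if p ∣ orderOf (c : G) then F c else 0) =
        ∑ g ∈ Finset.univ.filter (fun g : G => g ∈ CC P), if p ∣ orderOf g then F g else 0 :=
      (Finset.sum_subtype (Finset.univ.filter (fun g : G => g ∈ CC P)) (fun g => by simp)
        (fun g => if p ∣ orderOf g then F g else 0)).symm
    rw [h2, ← Finset.sum_filter, Finset.filter_filter]
    apply Finset.sum_congr _ (fun _ _ => rfl)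
    ext g
    rw [mem_Dfin, Finset.mem_filter]
    simp [DD]
  rw [h1, Finset.sum_filter, ← Finset.sum_sub_distrib]
  refine Finset.sum_congr rfl fun c _ => ?_
  split_ifs <;> simp

theorem card_regular_le (h : Star P) [DecidablePred (fun c : CC P => ¬ p ∣ orderOf (c : G))] :
    (Finset.univ.filter (fun c : CC P => ¬ p ∣ orderOf (c : G))).card *
      Nat.card (P : Subgroup G) ≤ Nat.card (CC P) := by
  have h1 := card_regular_mul_le (centralSyl_QQ h)
  rw [card_QQ h] at h1
  have h2 : Nat.card {v : CC P // ¬ p ∣ orderOf v} =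
      (Finset.univ.filter (fun c : CC P => ¬ p ∣ orderOf (c : G))).card := by
    rw [Nat.card_eq_fintype_card, Fintype.card_subtype]
    congr 1
    ext c
    simp
  rw [h2] at h1
  exact h1

/-- **Step 1**: an irreducible character of small degree not containing `P` in its kernel
restricts to `C` as the sum over a single `N`-orbit of exceptional characters. -/
theorem step_one (h : Star P) (ψ : IrrCharacter G) (d : ℕ) (hd : (ψ : G → ℂ) 1 = d)
    (hsmall : d ^ 2 < Nat.card (P : Subgroup G))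
    (hker : ∃ c : CC P, (c : G) ∈ (P : Subgroup G) ∧ (ψ : G → ℂ) c ≠ (ψ : G → ℂ) 1) :
    ∃ τ : IrrCharacter (CC P), Exc P τ ∧
      ∀ σ : IrrCharacter (CC P), mult (σ : CC P → ℂ) ψ = dl P σ τ := by
  classical
  haveI : Fintype (IrrCharacter (CC P)) := Fintype.ofFinite _
  have hψc := Cfsg.Agent.Helper24.IsIrrCharacter.isCharacter ψ.2
  have hψcl := Cfsg.Agent.Helper24.isClassFunction_irr ψ
  have hθ : IsCharacter (CC P) (fun c : CC P => (ψ : G → ℂ) c) :=
    Cfsg.Agent.Helper8.isCharacter_restrict (CC P) hψc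
  obtain ⟨n, hn⟩ := Cfsg.Agent.Helper24.IsCharacter.exists_nat_coeff hθ
  have hmult : ∀ σ : IrrCharacter (CC P), mult (σ : CC P → ℂ) ψ = n σ := by
    intro σ
    unfold mult
    rw [hn, Cfsg.Agent.Helper24.classInner_irr_sum]
    simp
  have hinv : ∀ (x : NN P) (σ : IrrCharacter (CC P)), n (cjI x σ) = n σ := by
    intro x σ
    have h1 := mult_cjF x (σ : CC P → ℂ) hψcl
    rw [hmult σ] at h1
    have h2 := hmult (cjI x σ)
    have h3 : ((cjI x σ : IrrCharacter (CC P)) : CC P → ℂ) = cjF x σ := rfl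
    rw [h3, h1] at h2
    exact_mod_cast h2.symm
  obtain ⟨c, hcP, hcne⟩ := hker
  obtain ⟨τ, hτ0, hτe⟩ := exists_exc_constituent hθ hcP hcne
  have hnτ : n τ ≠ 0 := by
    intro h0
    apply hτ0
    have := hmult τ
    unfold mult at this
    rw [this, h0]; simp
  -- the main inequality
  have hmain : Nat.card (CC P) * ∑ σ : IrrCharacter (CC P), n σ ^ 2 <
      Nat.card (NN P) + Nat.card (CC P) := by
    set F : G → ℝ := fun g => Complex.normSq ((ψ : G → ℂ) g) with hF
    have ti := ti_sum_le h F (fun g => Complex.normSq_nonneg _)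
      (fun g x => by simp only [hF]; rw [hψcl g x])
    have hF1 : F 1 = (d : ℝ) ^ 2 := by
      simp only [hF]
      rw [hd, Complex.normSq_natCast]; ring
    have hFG : ∑ g : G, F g = (Nat.card G : ℝ) := sum_normSq_irr ψ
    have hC : ∑ c : CC P, F c =
        (Nat.card (CC P) : ℝ) * ∑ σ : IrrCharacter (CC P), ((n σ : ℝ)) ^ 2 := by
      rw [← sum_normSq_decomp n, ← hn]
    obtain ⟨d', hd', hbound⟩ := Cfsg.Agent.Helper8.char_norm_le hψc
    have hdd : d' = d := by
      rw [hd] at hd'
      exact_mod_cast hd'.symm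
    rw [hdd] at hbound
    have hV : ∑ c ∈ Finset.univ.filter (fun c : CC P => ¬ p ∣ orderOf (c : G)), F c ≤
        ((Finset.univ.filter (fun c : CC P => ¬ p ∣ orderOf (c : G))).card : ℝ) * (d : ℝ) ^ 2 := by
      rw [← nsmul_eq_mul]
      apply Finset.sum_le_card_nsmul
      intro c _
      simp only [hF]
      rw [Complex.normSq_eq_norm_sq]
      exact pow_le_pow_left₀ (norm_nonneg _) (hbound _) 2
    have hVP := card_regular_le h
    rw [sum_Dfin_eq F, hC, hF1, hFG] at ti
    set nG : ℝ := (Nat.card G : ℝ) with hnG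
    set nN : ℝ := (Nat.card (NN P) : ℝ) with hnN
    set nC : ℝ := (Nat.card (CC P) : ℝ) with hnC
    set nP : ℝ := (Nat.card (P : Subgroup G) : ℝ) with hnP
    set nV : ℝ := ((Finset.univ.filter (fun c : CC P => ¬ p ∣ orderOf (c : G))).card : ℝ) with hnV
    set S : ℝ := ∑ σ : IrrCharacter (CC P), ((n σ : ℝ)) ^ 2 with hS
    set Vs : ℝ := ∑ c ∈ Finset.univ.filter (fun c : CC P => ¬ p ∣ orderOf (c : G)), F c with hVs
    have hGpos : 0 < nG := by rw [hnG]; exact_mod_cast Nat.card_pos
    have hNpos : 0 < nN := by rw [hnN]; exact_mod_cast Nat.card_pos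
    have hdpos : (1 : ℝ) ≤ (d : ℝ) := by
      have : 0 < d := by
        rcases Nat.eq_zero_or_pos d with h0 | h0
        · exfalso
          have := Cfsg.Agent.Helper24.irrDeg_spec ψ
          rw [hd, h0] at this
          have h2 := Cfsg.Agent.Helper24.irrDeg_pos ψ
          have h3 : Cfsg.Agent.Helper24.irrDeg ψ = 0 := by exact_mod_cast this.symm
          omega
        · exact h0
      exact_mod_cast this
    have hVP' : nV * nP ≤ nC := by
      rw [hnV, hnP, hnC]; exact_mod_cast hVP
    have hsmall' : (d : ℝ) ^ 2 ≤ nP := by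
      rw [hnP]; exact_mod_cast hsmall.le
    have hVnn : 0 ≤ nV := by rw [hnV]; exact Nat.cast_nonneg _
    have e3 : Vs ≤ nC := by
      calc Vs ≤ nV * (d : ℝ) ^ 2 := hV
        _ ≤ nV * nP := mul_le_mul_of_nonneg_left hsmall' hVnn
        _ ≤ nC := hVP'
    have hpos : 0 < nN * (d : ℝ) ^ 2 := by positivity
    have e1 : nG * (nC * S - Vs) < nG * nN := by linarith [ti, hpos]
    have e2 : nC * S - Vs < nN := lt_of_mul_lt_mul_left e1 hGpos.le
    have e4 : nC * S < nN + nC := by linarith
    rw [hnC, hnN, hS] at e4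
    exact_mod_cast e4
  rw [orbit_sum_sq h n hinv τ hτe] at hmain
  have hCN : Nat.card (CC P) ≤ Nat.card (NN P) := Subgroup.card_le_of_le CC_le_NN
  have hCpos : 0 < Nat.card (CC P) := Nat.card_pos
  have hnτ1 : n τ = 1 := by
    by_contra hne
    have h2 : 2 ≤ n τ := by omega
    have h4 : 4 ≤ n τ ^ 2 := by nlinarith
    have h5 := Nat.mul_le_mul_left (Nat.card (NN P)) h4
    have h6 : 0 ≤ Nat.card (CC P) * ∑ σ ∈ Finset.univ.filter
      (fun σ : IrrCharacter (CC P) => ¬ NConj P σ τ), n σ ^ 2 := Nat.zero_le _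
    omega
  rw [hnτ1] at hmain
  have hrest : ∑ σ ∈ Finset.univ.filter (fun σ : IrrCharacter (CC P) => ¬ NConj P σ τ),
      n σ ^ 2 = 0 := by
    by_contra hne
    have : 1 ≤ ∑ σ ∈ Finset.univ.filter (fun σ : IrrCharacter (CC P) => ¬ NConj P σ τ),
      n σ ^ 2 := Nat.one_le_iff_ne_zero.mpr hne
    have h5 := Nat.mul_le_mul_left (Nat.card (CC P)) this
    omega
  refine ⟨τ, hτe, fun σ => ?_⟩
  rw [hmult]
  unfold dl
  by_cases hc : NConj P σ τ
  · rw [if_pos hc]
    obtain ⟨x, hx⟩ := hc
    have : σ = cjI x τ := Subtype.ext hx.symm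
    rw [this, hinv, hnτ1]; simp
  · rw [if_neg hc]
    have := Finset.sum_eq_zero_iff.mp hrest σ (by rw [Finset.mem_filter]; exact ⟨Finset.mem_univ _, hc⟩)
    have h0 : n σ = 0 := by
      rcases Nat.eq_zero_or_pos (n σ) with h0 | h0
      · exact h0
      · exfalso
        have : 0 < n σ ^ 2 := by positivity
        omega
    rw [h0]; simp

end Cfsg.Agent.Helper8.BL
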