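import Mathlib
import Cfsg.Agent.Helper8.BL10

/-!
# Brauer–Leonard configuration: the exceptional support of a character of small degree
-/

set_option autoImplicit false

namespace Cfsg.Agent.Helper8.BL

open Cfsg
open scoped ComplexConjugate

variable {G : Type*} [Group G] [Fintype G] {p : ℕ} [hp : Fact p.Prime] {P : Sylow p G}

omit hp in
/-- pairing a difference of two irreducible characters with an irreducible character -/
theorem irr_of_classInner_sub {ψa ψb ψ : IrrCharacter G} (hab : ψa ≠ ψb) {m : ℕ} (hm : m ≠ 0)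
    (hinner : classInner ((ψa : G → ℂ) - (ψb : G → ℂ)) (ψ : G → ℂ) = m) :
    ψa = ψ ∧ m = 1 ∧ ψb ≠ ψ := by
  classical
  rw [Cfsg.Agent.Helper24.classInner_sub_left, Cfsg.Agent.Helper24.classInner_irr,
    Cfsg.Agent.Helper24.classInner_irr] at hinner
  by_cases h1 : ψa = ψ <;> by_cases h2 : ψb = ψ
  · exact absurd (h1.trans h2.symm) hab
  · rw [if_pos h1, if_neg h2, sub_zero] at hinner
    refine ⟨h1, ?_, h2⟩
    exact_mod_cast hinner.symm
  · rw [if_neg h1, if_pos h2, zero_sub] at hinner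
    exfalso
    have h3 : ((m : ℤ) : ℂ) = ((-1 : ℤ) : ℂ) := by push_cast; exact hinner.symm
    have h4 : (m : ℤ) = -1 := by exact_mod_cast h3
    omega
  · rw [if_neg h1, if_neg h2, sub_zero] at hinner
    exfalso
    apply hm
    exact_mod_cast hinner.symm

variable [Fintype (CC P)] [Fintype (NN P)]

theorem mult_eq_of_nconj {σ τ : CC P → ℂ} (hc : NConj P σ τ) {ψ : G → ℂ}
    (hψ : IsClassFunction G ψ) : mult σ ψ = mult τ ψ := by
  obtain ⟨x, hx⟩ := hc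
  rw [← hx, mult_cjF x τ hψ]

/-- **The exceptional support lemma**: for an irreducible character `ψ` of small degree, any two
exceptional constituents of `ψ|_C` are `N`-conjugate and occur with multiplicity one. -/
theorem exc_support (h : Star P) (ψ : IrrCharacter G) (d : ℕ) (hd : (ψ : G → ℂ) 1 = d)
    (hsm : (d + 1) * Nat.card (CC P) + Nat.card (NN P) <
      Nat.card (P : Subgroup G) * Nat.card (CC P))
    (σ₁ σ₂ : IrrCharacter (CC P)) (he₁ : Exc P σ₁) (he₂ : Exc P σ₂)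
    (hm₁ : mult (σ₁ : CC P → ℂ) ψ ≠ 0) (hm₂ : mult (σ₂ : CC P → ℂ) ψ ≠ 0) :
    mult (σ₁ : CC P → ℂ) ψ = 1 ∧ NConj P σ₁ σ₂ := by
  classical
  have hψc := Cfsg.Agent.Helper24.IsIrrCharacter.isCharacter ψ.2
  have hψcl := Cfsg.Agent.Helper24.isClassFunction_irr ψ
  have hθ : IsCharacter (CC P) (fun c : CC P => (ψ : G → ℂ) c) :=
    Cfsg.Agent.Helper8.isCharacter_restrict (CC P) hψc
  have hCpos : 0 < Nat.card (CC P) := Nat.card_pos
  have hd1 : (fun c : CC P => (ψ : G → ℂ) c) 1 = d := hd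
  -- the second twist
  obtain ⟨φ₂, -, hφ₂a, hφ₂e⟩ := exists_good_twist h σ₂ hθ d hd1 (fun _ => False) (by
    have : Nat.card {φ : TT P // False} = 0 := by
      haveI : IsEmpty {φ : TT P // False} := ⟨fun x => x.2⟩
      exact Nat.card_of_isEmpty
    rw [this, add_zero]
    by_contra hcon
    push Not at hcon
    have := Nat.mul_le_mul_right (Nat.card (CC P)) hcon
    omega)
  set b' : IrrCharacter (CC P) := twI φ₂ σ₂ with hb'
  have hb'fn : (b' : CC P → ℂ) = tw φ₂.1 σ₂ := rfl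
  -- the first twist
  have hcnt := card_pconj_mul_le h σ₁ (b' : CC P → ℂ) (Cfsg.Agent.Helper24.isClassFunction_irr b')
    (irrC_one_ne_zero b')
  obtain ⟨φ₁, hφ₁p, hφ₁a, hφ₁e⟩ := exists_good_twist h σ₁ hθ d hd1
    (fun φ => PConj P (tw φ.1 σ₁) (b' : CC P → ℂ)) (by
    by_contra hcon
    push Not at hcon
    have := Nat.mul_le_mul_right (Nat.card (CC P)) hcon
    nlinarith)
  set a' : IrrCharacter (CC P) := twI φ₁ σ₁ with ha'
  have ha'fn : (a' : CC P → ℂ) = tw φ₁.1 σ₁ := rfl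
  have hma' : mult (a' : CC P → ℂ) ψ = 0 := hφ₁a
  have hmb' : mult (b' : CC P → ℂ) ψ = 0 := hφ₂a
  -- non-conjugacy
  have hnc1 : ¬ NConj P (tw φ₁.1 σ₁) σ₁ := by
    intro hc
    apply hm₁
    rw [← mult_eq_of_nconj hc hψcl]
    exact hma'
  have hnc2 : ¬ NConj P (tw φ₂.1 σ₂) σ₂ := by
    intro hc
    apply hm₂
    rw [← mult_eq_of_nconj hc hψcl]
    exact hmb'
  obtain ⟨ψ₁, ψ₂, h12, hind1⟩ := exists_irr_sub_irr h σ₁ φ₁ he₁ hφ₁e hnc1
  obtain ⟨ψ₃, ψ₄, h34, hind2⟩ := exists_irr_sub_irr h σ₂ φ₂ he₂ hφ₂e hnc2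
  -- multiplicities
  obtain ⟨m₁, hm₁n⟩ := mult_nat σ₁.2 hψc
  obtain ⟨m₂, hm₂n⟩ := mult_nat σ₂.2 hψc
  have hi1 : classInner ((ψ₁ : G → ℂ) - (ψ₂ : G → ℂ)) (ψ : G → ℂ) = m₁ := by
    rw [← hind1, classInner_indFun_sub _ _ hψcl, ← ha'fn, hma', sub_zero, hm₁n]
  have hi2 : classInner ((ψ₃ : G → ℂ) - (ψ₄ : G → ℂ)) (ψ : G → ℂ) = m₂ := by
    rw [← hind2, classInner_indFun_sub _ _ hψcl, ← hb'fn, hmb', sub_zero, hm₂n]
  have hm₁0 : m₁ ≠ 0 := by
    intro h0; apply hm₁; rw [hm₁n, h0]; simp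
  have hm₂0 : m₂ ≠ 0 := by
    intro h0; apply hm₂; rw [hm₂n, h0]; simp
  obtain ⟨e1, e1', e1''⟩ := irr_of_classInner_sub h12 hm₁0 hi1
  obtain ⟨e2, e2', e2''⟩ := irr_of_classInner_sub h34 hm₂0 hi2
  refine ⟨by rw [hm₁n, e1']; simp, ?_⟩
  -- the inner product of the two induced differences
  have hv : ∀ c : CC P, ¬ p ∣ orderOf (c : G) →
      ((σ₁ : CC P → ℂ) - (a' : CC P → ℂ)) c = 0 :=
    fun c hc => tw_sub_vanish φ₁.2 σ₁ c hc
  have hinner := classInner_ind_sub_ind_sub h σ₁ a' σ₂ b' hv he₂ hφ₂e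
  rw [ha'fn, hb'fn, hind1, hind2] at hinner
  have hd1 : dl P (σ₁ : CC P → ℂ) (tw φ₂.1 σ₂) = 0 := by
    unfold dl
    rw [if_neg]
    intro hc
    apply hm₁
    rw [mult_eq_of_nconj hc hψcl]
    exact hmb'
  have hd2 : dl P (tw φ₁.1 σ₁) (σ₂ : CC P → ℂ) = 0 := by
    unfold dl
    rw [if_neg]
    intro hc
    apply hm₂
    rw [← mult_eq_of_nconj hc hψcl]
    exact hma'
  have hd3 : dl P (tw φ₁.1 σ₁) (tw φ₂.1 σ₂) = 0 := by
    unfold dl
    rw [if_neg]
    intro hc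
    exact hφ₁p (pconj_of_nconj hc)
  rw [hd1, hd2, hd3, e1, e2] at hinner
  rw [Cfsg.Agent.Helper24.classInner_sub_left, Cfsg.Agent.Helper24.classInner_sub_right,
    Cfsg.Agent.Helper24.classInner_sub_right, Cfsg.Agent.Helper24.classInner_irr_self,
    Cfsg.Agent.Helper24.classInner_irr_ne (Ne.symm e2''),
    Cfsg.Agent.Helper24.classInner_irr_ne e1'', Cfsg.Agent.Helper24.classInner_irr] at hinner
  by_contra hnc
  unfold dl at hinner
  rw [if_neg hnc] at hinner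
  split_ifs at hinner <;> norm_num at hinner

/-- the exceptional part of `ψ|_C` is the orbit of `σ₁` -/
theorem exc_shape (h : Star P) (ψ : IrrCharacter G) (d : ℕ) (hd : (ψ : G → ℂ) 1 = d)
    (hsm : (d + 1) * Nat.card (CC P) + Nat.card (NN P) <
      Nat.card (P : Subgroup G) * Nat.card (CC P))
    (σ₁ : IrrCharacter (CC P)) (he₁ : Exc P σ₁) (hm₁ : mult (σ₁ : CC P → ℂ) ψ ≠ 0) :
    ∀ σ : IrrCharacter (CC P), Exc P σ → mult (σ : CC P → ℂ) ψ = dl P σ σ₁ := by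
  intro σ he
  have hψcl := Cfsg.Agent.Helper24.isClassFunction_irr ψ
  unfold dl
  by_cases hc : NConj P σ σ₁
  · rw [if_pos hc, mult_eq_of_nconj hc hψcl]
    exact (exc_support h ψ d hd hsm σ₁ σ₁ he₁ he₁ hm₁ hm₁).1
  · rw [if_neg hc]
    by_contra hne
    exact hc (exc_support h ψ d hd hsm σ σ₁ he he₁ hne hm₁).2

/-- **Uniqueness**: an irreducible character of degree less than `|P| - 1` containing `σ'` is
determined, if some irreducible character has exceptional support the orbit of `σ'`. -/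
theorem unique_of_exc_shape (h : Star P) (ψ₁ ψ₂ : IrrCharacter G) (σ' : IrrCharacter (CC P))
    (he : Exc P σ')
    (hsh : ∀ σ : IrrCharacter (CC P), Exc P σ → mult (σ : CC P → ℂ) ψ₁ = dl P σ σ')
    (d : ℕ) (hd : (ψ₂ : G → ℂ) 1 = d) (hsm : d + 1 < Nat.card (P : Subgroup G))
    (hm : mult (σ' : CC P → ℂ) ψ₂ ≠ 0) : ψ₂ = ψ₁ := by
  classical
  have hψc := Cfsg.Agent.Helper24.IsIrrCharacter.isCharacter ψ₂.2
  have hψcl := Cfsg.Agent.Helper24.isClassFunction_irr ψ₂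
  have hψcl1 := Cfsg.Agent.Helper24.isClassFunction_irr ψ₁
  have hθ : IsCharacter (CC P) (fun c : CC P => (ψ₂ : G → ℂ) c) :=
    Cfsg.Agent.Helper8.isCharacter_restrict (CC P) hψc
  have hd1 : (fun c : CC P => (ψ₂ : G → ℂ) c) 1 = d := hd
  obtain ⟨φ, -, hφa, hφe⟩ := exists_good_twist h σ' hθ d hd1 (fun _ => False) (by
    have : Nat.card {φ : TT P // False} = 0 := by
      haveI : IsEmpty {φ : TT P // False} := ⟨fun x => x.2⟩
      exact Nat.card_of_isEmpty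
    rw [this]
    omega)
  set a' : IrrCharacter (CC P) := twI φ σ' with ha'
  have ha'fn : (a' : CC P → ℂ) = tw φ.1 σ' := rfl
  have hma' : mult (a' : CC P → ℂ) ψ₂ = 0 := hφa
  have hnc : ¬ NConj P (tw φ.1 σ') σ' := by
    intro hc
    apply hm
    rw [← mult_eq_of_nconj hc hψcl]
    exact hma'
  obtain ⟨ψa, ψb, hab, hind⟩ := exists_irr_sub_irr h σ' φ he hφe hnc
  obtain ⟨m, hmn⟩ := mult_nat σ'.2 hψc
  have hi1 : classInner ((ψa : G → ℂ) - (ψb : G → ℂ)) (ψ₂ : G → ℂ) = m := by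
    rw [← hind, classInner_indFun_sub _ _ hψcl, ← ha'fn, hma', sub_zero, hmn]
  have hm0 : m ≠ 0 := by
    intro h0; apply hm; rw [hmn, h0]; simp
  obtain ⟨e1, -, -⟩ := irr_of_classInner_sub hab hm0 hi1
  have hi2 : classInner ((ψa : G → ℂ) - (ψb : G → ℂ)) (ψ₁ : G → ℂ) = (1 : ℕ) := by
    rw [← hind, classInner_indFun_sub _ _ hψcl1, hsh σ' he, ← ha'fn, hsh a' hφe]
    unfold dl
    rw [if_pos (nconj_refl _), if_neg (show ¬ NConj P (a' : CC P → ℂ) σ' from hnc)]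
    simp
  obtain ⟨e2, -, -⟩ := irr_of_classInner_sub hab one_ne_zero hi2
  rw [← e1, e2]

end Cfsg.Agent.Helper8.BL
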