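import Mathlib
import Cfsg.Agent.Helper8.BL11

/-!
# Brauer–Leonard configuration: `|N : C|` divides `|P| - 1`; orbit sums
-/

set_option autoImplicit false

namespace Cfsg.Agent.Helper8.BL

open Cfsg
open scoped ComplexConjugate

section Burnside

variable {G : Type*} [Group G] [Finite G] {p : ℕ} [hp : Fact p.Prime] {P : Sylow p G}

/-- `N / C` acts freely on `P \ {1}` -/
theorem card_NN_dvd (h : Star P) :
    Nat.card (NN P) ∣ Nat.card (CC P) * (Nat.card (P : Subgroup G) - 1) := by
  classical
  let X := {y : ↥(P : Subgroup G) // y ≠ 1}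
  letI act : MulAction (NN P) X :=
    { smul := fun x y => ⟨⟨(x : G) * (y.1 : G) * (x : G)⁻¹,
          (Subgroup.mem_normalizer_iff.mp x.2 _).mp y.1.2⟩, fun h1 => y.2 (by
            have h2 : (x : G) * (y.1 : G) * (x : G)⁻¹ = 1 := congrArg Subtype.val h1
            apply Subtype.ext
            have h3 : (y.1 : G) = (x : G)⁻¹ * ((x : G) * (y.1 : G) * (x : G)⁻¹) * (x : G) := by
              group
            rw [h3, h2]; simp)⟩
      one_smul := fun y => by
        apply Subtype.ext; apply Subtype.ext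
        show ((1 : NN P) : G) * (y.1 : G) * ((1 : NN P) : G)⁻¹ = (y.1 : G)
        simp
      mul_smul := fun a b y => by
        apply Subtype.ext; apply Subtype.ext
        show ((a * b : NN P) : G) * (y.1 : G) * ((a * b : NN P) : G)⁻¹ =
          (a : G) * ((b : G) * (y.1 : G) * (b : G)⁻¹) * (a : G)⁻¹
        rw [Subgroup.coe_mul]; group }
  have hsm : ∀ (x : NN P) (y : X), ((x • y : X).1 : G) = (x : G) * (y.1 : G) * (x : G)⁻¹ :=
    fun _ _ => rfl
  haveI : Fintype X := Fintype.ofFinite _
  haveI : Fintype (NN P) := Fintype.ofFinite _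
  haveI : Fintype (P : Subgroup G) := Fintype.ofFinite _
  haveI : ∀ x : NN P, Fintype (MulAction.fixedBy X x) := fun _ => Fintype.ofFinite _
  haveI : Fintype (MulAction.orbitRel.Quotient (NN P) X) := Fintype.ofFinite _
  have hb := MulAction.sum_card_fixedBy_eq_card_orbits_mul_card_group (NN P) X
  have hX : Fintype.card X = Nat.card (P : Subgroup G) - 1 := by
    have := Fintype.card_subtype_compl (fun y : ↥(P : Subgroup G) => y = 1)
    rw [Fintype.card_subtype_eq] at this
    rw [Nat.card_eq_fintype_card, ← this]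
  have hfix : ∀ x : NN P, Fintype.card (MulAction.fixedBy X x) =
      if (x : G) ∈ CC P then Fintype.card X else 0 := by
    intro x
    split_ifs with hx
    · have hall : ∀ y : X, y ∈ MulAction.fixedBy X x := by
        intro y
        rw [MulAction.mem_fixedBy]
        apply Subtype.ext; apply Subtype.ext
        rw [hsm]
        have := Subgroup.mem_centralizer_iff.mp hx (y.1 : G) y.1.2
        rw [← this]; group
      exact Fintype.card_congr (Equiv.subtypeUnivEquiv hall)
    · rw [Fintype.card_eq_zero_iff]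
      refine ⟨fun ⟨y, hy⟩ => hx ?_⟩
      rw [MulAction.mem_fixedBy] at hy
      have h1 : (x : G) * (y.1 : G) * (x : G)⁻¹ = (y.1 : G) := by
        rw [← hsm, hy]
      exact mem_CC_of_fix h y.1.2 (fun h2 => y.2 (Subtype.ext h2)) h1
  simp_rw [hfix] at hb
  rw [← Finset.sum_filter, Finset.sum_const, smul_eq_mul] at hb
  have hcardC : (Finset.univ.filter (fun x : NN P => (x : G) ∈ CC P)).card = Nat.card (CC P) := by
    have h1 : Nat.card (CC P) = Nat.card ((CC P).subgroupOf (NN P)) :=
      (Nat.card_congr (Subgroup.subgroupOfEquivOfLe CC_le_NN).toEquiv).symm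
    rw [h1, Nat.card_eq_fintype_card, Fintype.card_subtype]
    congr 1
  rw [hcardC, hX, ← Nat.card_eq_fintype_card (α := NN P)] at hb
  exact Dvd.intro_left _ hb.symm

end Burnside

section OrbSum

variable {G : Type*} [Group G] [Fintype G] {p : ℕ} [hp : Fact p.Prime] {P : Sylow p G}

variable [Fintype (CC P)] [Fintype (NN P)]

/-- the orbit sum of a function on `C` -/
noncomputable def orb (P : Sylow p G) [Fintype (NN P)] (τ : CC P → ℂ) : CC P → ℂ :=
  (Nat.card (CC P) : ℂ)⁻¹ • ∑ x : NN P, cjF x τ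

omit [Fintype G] [Fintype (CC P)] in
theorem orb_apply (τ : CC P → ℂ) (c : CC P) :
    orb P τ c = (Nat.card (CC P) : ℂ)⁻¹ * ∑ x : NN P, cjF x τ c := by
  unfold orb
  rw [Pi.smul_apply, Finset.sum_apply, smul_eq_mul]

theorem sum_dl_smul (h : Star P) [Fintype (IrrCharacter (CC P))] (τ : IrrCharacter (CC P))
    (hτ : Exc P τ) :
    ∑ σ : IrrCharacter (CC P), dl P σ τ • (σ : CC P → ℂ) = orb P τ := by
  classical
  have hC : (Nat.card (CC P) : ℂ) ≠ 0 := Nat.cast_ne_zero.mpr Nat.card_pos.ne'
  have h1 : ∀ σ : IrrCharacter (CC P), dl P σ τ =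
      (Nat.card (CC P) : ℂ)⁻¹ *
        ((Finset.univ.filter (fun x : NN P => cjI x τ = σ)).card : ℂ) := by
    intro σ
    have := card_filter_cjF_eq h τ hτ (σ : CC P → ℂ)
    have h2 : (Finset.univ.filter (fun x : NN P => cjI x τ = σ)).card =
        if NConj P σ τ then Nat.card (CC P) else 0 := by
      rw [← this]
      congr 1
      ext x
      simp only [Finset.mem_filter, Finset.mem_univ, true_and]
      constructor
      · intro hx; exact congrArg Subtype.val hx
      · intro hx; exact Subtype.ext hx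
    rw [h2]
    unfold dl
    split_ifs
    · rw [inv_mul_cancel₀ hC]
    · simp
  simp_rw [h1]
  unfold orb
  simp_rw [mul_smul]
  rw [← Finset.smul_sum]
  congr 1
  have h3 : ∀ σ : IrrCharacter (CC P),
      ((Finset.univ.filter (fun x : NN P => cjI x τ = σ)).card : ℂ) • (σ : CC P → ℂ) =
      ∑ x : NN P, if cjI x τ = σ then ((cjI x τ : IrrCharacter (CC P)) : CC P → ℂ) else 0 := by
    intro σ
    rw [Finset.card_eq_sum_ones, Finset.sum_filter]
    push_cast
    rw [Finset.sum_smul]
    refine Finset.sum_congr rfl fun x _ => ?_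
    split_ifs with hx
    · rw [hx, one_smul]
    · rw [zero_smul]
  simp_rw [h3]
  rw [Finset.sum_comm]
  refine Finset.sum_congr rfl fun x _ => ?_
  rw [Finset.sum_ite_eq]
  simp
  rfl

/-- an irreducible character whose restriction to `C` is a single orbit -/
theorem res_eq_orb (h : Star P) (χ : IrrCharacter G) (τ : IrrCharacter (CC P)) (hτ : Exc P τ)
    (hfull : ∀ σ : IrrCharacter (CC P), mult (σ : CC P → ℂ) χ = dl P σ τ) :
    (fun c : CC P => (χ : G → ℂ) c) = orb P τ := by
  classical
  haveI : Fintype (IrrCharacter (CC P)) := Fintype.ofFinite _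
  have hθ : IsCharacter (CC P) (fun c : CC P => (χ : G → ℂ) c) :=
    Cfsg.Agent.Helper8.isCharacter_restrict (CC P)
      (Cfsg.Agent.Helper24.IsIrrCharacter.isCharacter χ.2)
  rw [Cfsg.Agent.Helper24.IsCharacter.eq_sum_classInner hθ, ← sum_dl_smul h τ hτ]
  refine Finset.sum_congr rfl fun σ _ => ?_
  congr 1
  rw [← Cfsg.Agent.Helper24.classInner_conj_symm]
  have := hfull σ
  unfold mult at this
  rw [this]
  unfold dl
  split_ifs <;> simp

omit [Fintype G] [Fintype (CC P)] [Fintype (NN P)] in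
theorem sameCentral_refl (σ : CC P → ℂ) : SameCentral P σ σ := fun _ _ => rfl

omit [Fintype G] [Fintype (CC P)] [Fintype (NN P)] in
theorem sameCentral_symm {σ τ : CC P → ℂ} (hs : SameCentral P σ τ) : SameCentral P τ σ :=
  fun c hc => (hs c hc).symm

omit [Fintype G] [Fintype (CC P)] [Fintype (NN P)] in
theorem sameCentral_cjF (y : NN P) {σ τ : CC P → ℂ} (hs : SameCentral P σ τ) :
    SameCentral P (cjF y σ) (cjF y τ) := by
  intro c hc
  have := hs (cjE y c) (cjE_mem_P y hc)
  simp only [cjF_apply, map_one]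
  exact this

/-- restriction of the induced difference of two exceptional characters: multiplicities -/
theorem mult_indFun_sub (h : Star P) (a a' : IrrCharacter (CC P))
    (hv : ∀ c : CC P, ¬ p ∣ orderOf (c : G) → ((a : CC P → ℂ) - (a' : CC P → ℂ)) c = 0)
    (ha : Exc P a) (ha' : Exc P a') (σ : IrrCharacter (CC P)) :
    mult (σ : CC P → ℂ) (indFun (CC P) ((a : CC P → ℂ) - (a' : CC P → ℂ))) =
      dl P σ a - dl P σ a' := by
  classical
  have hC : (Nat.card (CC P) : ℂ) ≠ 0 := Nat.cast_ne_zero.mpr Nat.card_pos.ne'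
  unfold mult
  have h1 : (fun c : CC P => indFun (CC P) ((a : CC P → ℂ) - (a' : CC P → ℂ)) c) =
      (Nat.card (CC P) : ℂ)⁻¹ • ∑ x : NN P, (cjF x a - cjF x a') := by
    funext c
    rw [indFun_restrict h _ hv c, Pi.smul_apply, Finset.sum_apply, smul_eq_mul]
    rfl
  rw [h1, Cfsg.Agent.Helper24.classInner_smul_right, Cfsg.Agent.Helper24.classInner_sum_right]
  simp_rw [Cfsg.Agent.Helper24.classInner_sub_right]
  rw [Finset.sum_sub_distrib, sum_classInner_cjF h σ.2 a ha, sum_classInner_cjF h σ.2 a' ha',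
    map_inv₀, Complex.conj_natCast]
  unfold dl
  split_ifs <;> field_simp <;> ring

/-- restriction of the induced difference of two exceptional characters: weight -/
theorem wQ_res_indFun_sub (h : Star P) (a a' : IrrCharacter (CC P))
    (hv : ∀ c : CC P, ¬ p ∣ orderOf (c : G) → ((a : CC P → ℂ) - (a' : CC P → ℂ)) c = 0)
    (ha : Exc P a) (ha' : Exc P a') :
    wQ P (fun c : CC P => indFun (CC P) ((a : CC P → ℂ) - (a' : CC P → ℂ)) c) = 0 := by
  classical
  have h1 : (fun c : CC P => indFun (CC P) ((a : CC P → ℂ) - (a' : CC P → ℂ)) c) =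
      (Nat.card (CC P) : ℂ)⁻¹ • ∑ x : NN P, (cjF x a - cjF x a') := by
    funext c
    rw [indFun_restrict h _ hv c, Pi.smul_apply, Finset.sum_apply, smul_eq_mul]
    rfl
  rw [h1, wQ_smul, wQ_sum]
  apply mul_eq_zero_of_right
  apply Finset.sum_eq_zero
  intro x _
  rw [wQ_sub]
  have e1 := wQ_irr h (cjI x a)
  have e2 := wQ_irr h (cjI x a')
  rw [if_pos (show Exc P ((cjI x a : IrrCharacter (CC P)) : CC P → ℂ) from exc_cjF x ha)] at e1
  rw [if_pos (show Exc P ((cjI x a' : IrrCharacter (CC P)) : CC P → ℂ) from exc_cjF x ha')] at e2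
  have e3 : ((cjI x a : IrrCharacter (CC P)) : CC P → ℂ) = cjF x a := rfl
  have e4 : ((cjI x a' : IrrCharacter (CC P)) : CC P → ℂ) = cjF x a' := rfl
  rw [e3] at e1
  rw [e4] at e2
  rw [e1, e2, sub_zero]

/-- the product `α · conj β` -/
def pr (α β : CC P → ℂ) : CC P → ℂ := fun c => α c * conj (β c)

omit [Fintype (NN P)] [Fintype G] in
theorem isCharacter_pr {α β : CC P → ℂ} (hα : IsCharacter (CC P) α) (hβ : IsCharacter (CC P) β) :
    IsCharacter (CC P) (pr α β) :=
  Cfsg.Agent.Helper24.IsCharacter.mul hα (Cfsg.Agent.Helper24.isCharacter_star hβ)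

omit [Fintype G] [Fintype (CC P)] in
theorem pr_orb_orb (α β : CC P → ℂ) :
    pr (orb P α) (orb P β) =
      ((Nat.card (CC P) : ℂ)⁻¹ * (Nat.card (CC P) : ℂ)⁻¹) •
        ∑ x : NN P, ∑ x' : NN P, pr (cjF x α) (cjF x' β) := by
  funext c
  simp only [pr, orb_apply, Pi.smul_apply, Finset.sum_apply, smul_eq_mul, map_mul, map_inv₀,
    Complex.conj_natCast, map_sum]
  rw [mul_mul_mul_comm, Finset.sum_mul_sum]

end OrbSum

end Cfsg.Agent.Helper8.BL
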