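import Mathlib
import Cfsg.Agent.Helper8.BL12

/-!
# Brauer–Leonard configuration: constituents of `χ χ̄` have weight zero
-/

set_option autoImplicit false

namespace Cfsg.Agent.Helper8.BL

open Cfsg
open scoped ComplexConjugate

variable {G : Type*} [Group G] [Fintype G] {p : ℕ} [hp : Fact p.Prime] {P : Sylow p G}

/-- the product `α · conj β` on `G` -/
def prG (α β : G → ℂ) : G → ℂ := α * (fun g => conj (β g))

omit [Fintype G] in
theorem isCharacter_prG [Finite G] {α β : G → ℂ} (hα : IsCharacter G α) (hβ : IsCharacter G β) :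
    IsCharacter G (prG α β) :=
  Cfsg.Agent.Helper24.IsCharacter.mul hα (Cfsg.Agent.Helper24.isCharacter_star hβ)

/-- the trivial character -/
def trivI (G : Type*) [Group G] [Finite G] : IrrCharacter G :=
  ⟨fun _ => 1, Cfsg.Agent.Helper24.isIrrCharacter_const_one⟩

omit hp in
theorem classInner_prG_triv (α : G → ℂ) :
    classInner (prG α α) ((trivI G : IrrCharacter G) : G → ℂ) = classInner α α := by
  unfold classInner prG trivI
  congr 1
  refine Finset.sum_congr rfl fun g _ => ?_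
  simp

variable [Fintype (CC P)]

omit [Fintype G] hp [Fintype (CC P)] in
theorem res_sum_smul [Fintype (IrrCharacter G)] (b : IrrCharacter G → ℕ) :
    (fun c : CC P => (∑ φ : IrrCharacter G, (b φ : ℂ) • (φ : G → ℂ)) c) =
      ∑ φ : IrrCharacter G, (b φ : ℂ) • (fun c : CC P => (φ : G → ℂ) c) := by
  funext c
  simp [Finset.sum_apply]

/-- the multiplicity of `σ` in a sum -/
theorem classInner_res_sum [Fintype (IrrCharacter G)] (b : IrrCharacter G → ℕ) (σ : CC P → ℂ) :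
    classInner σ (fun c : CC P => (∑ φ : IrrCharacter G, (b φ : ℂ) • (φ : G → ℂ)) c) =
      ∑ φ : IrrCharacter G, (b φ : ℂ) * mult σ (φ : G → ℂ) := by
  rw [res_sum_smul, Cfsg.Agent.Helper24.classInner_sum_right]
  refine Finset.sum_congr rfl fun φ _ => ?_
  rw [Cfsg.Agent.Helper24.classInner_smul_right, Complex.conj_natCast]
  rfl

omit [Fintype G] hp in
theorem wQ_res_sum [Fintype (IrrCharacter G)] (b : IrrCharacter G → ℕ) :
    wQ P (fun c : CC P => (∑ φ : IrrCharacter G, (b φ : ℂ) • (φ : G → ℂ)) c) =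
      ∑ φ : IrrCharacter G, (b φ : ℂ) * wQ P (fun c : CC P => (φ : G → ℂ) c) := by
  rw [res_sum_smul, wQ_sum]
  refine Finset.sum_congr rfl fun φ _ => ?_
  rw [wQ_smul]

/-- a character of `G` some restriction-multiplicity of which is nonzero has an irreducible
constituent with the same property -/
theorem exists_constituent_mult [Fintype (IrrCharacter G)] (b : IrrCharacter G → ℕ)
    (σ : CC P → ℂ)
    (hne : classInner σ (fun c : CC P => (∑ φ : IrrCharacter G, (b φ : ℂ) • (φ : G → ℂ)) c) ≠ 0) :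
    ∃ φ : IrrCharacter G, b φ ≠ 0 ∧ mult σ (φ : G → ℂ) ≠ 0 := by
  rw [classInner_res_sum] at hne
  by_contra hcon
  push Not at hcon
  apply hne
  apply Finset.sum_eq_zero
  intro φ _
  by_cases hb : b φ = 0
  · rw [hb]; simp
  · rw [hcon φ hb, mul_zero]

/-- if the weight of a character of `G` vanishes, so do the weights of its constituents -/
theorem wQ_constituent_eq_zero (h : Star P) [Fintype (IrrCharacter G)] (b : IrrCharacter G → ℕ)
    (hw : wQ P (fun c : CC P => (∑ φ : IrrCharacter G, (b φ : ℂ) • (φ : G → ℂ)) c) = 0)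
    (φ : IrrCharacter G) (hb : b φ ≠ 0) : wQ P (fun c : CC P => (φ : G → ℂ) c) = 0 := by
  classical
  rw [wQ_res_sum] at hw
  have hk : ∀ φ : IrrCharacter G, ∃ k : ℕ, wQ P (fun c : CC P => (φ : G → ℂ) c) = k := by
    intro φ
    obtain ⟨k, hk, -⟩ := wQ_character h (Cfsg.Agent.Helper8.isCharacter_restrict (CC P)
      (Cfsg.Agent.Helper24.IsIrrCharacter.isCharacter φ.2))
    exact ⟨k, hk⟩
  choose k hk using hk
  simp_rw [hk] at hw
  have hw' : ∑ φ : IrrCharacter G, b φ * k φ = 0 := by exact_mod_cast hw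
  rw [Finset.sum_eq_zero_iff] at hw'
  have := hw' φ (Finset.mem_univ _)
  rw [hk φ]
  rcases Nat.mul_eq_zero.mp this with h1 | h1
  · exact absurd h1 hb
  · rw [h1]; simp

variable [Fintype (NN P)]

omit [Fintype (CC P)] [Fintype (NN P)] hp in
theorem irrDeg_trivI : Cfsg.Agent.Helper24.irrDeg (trivI G) = 1 := by
  have := Cfsg.Agent.Helper24.irrDeg_spec (trivI G)
  have h1 : ((trivI G : IrrCharacter G) : G → ℂ) 1 = 1 := rfl
  rw [h1] at this
  exact_mod_cast this.symm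

omit [Fintype (CC P)] [Fintype (NN P)] hp in
theorem sum_coeff_mul_irrDeg [Fintype (IrrCharacter G)] (b : IrrCharacter G → ℕ) (d : ℕ)
    (hd : (∑ φ : IrrCharacter G, (b φ : ℂ) • (φ : G → ℂ)) 1 = d) :
    d = ∑ φ : IrrCharacter G, b φ * Cfsg.Agent.Helper24.irrDeg φ := by
  rw [Finset.sum_apply] at hd
  simp only [Pi.smul_apply, smul_eq_mul, Cfsg.Agent.Helper24.irrDeg_spec] at hd
  exact_mod_cast hd.symm

/-- **The weight-zero lemma.** -/
theorem weight_zero (h : Star P)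
    (χ χ' : IrrCharacter G) (x : ℕ) (hx : (χ : G → ℂ) 1 = x) (hx' : (χ' : G → ℂ) 1 = x)
    (τ₀ : IrrCharacter (CC P)) (φ₀ : TT P)
    (hχC : (fun c : CC P => (χ : G → ℂ) c) = orb P τ₀)
    (hχ'C : (fun c : CC P => (χ' : G → ℂ) c) = orb P (tw φ₀.1 τ₀))
    (hw0 : wQ P (fun c : CC P => prG (χ : G → ℂ) (χ' : G → ℂ) c) = 0)
    (hx2 : x ^ 2 + 1 < Nat.card (P : Subgroup G))
    (hnum : x ^ 2 * Nat.card (CC P) + Nat.card (NN P) <
      Nat.card (P : Subgroup G) * Nat.card (CC P))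
    (hnorm : ∀ ψ : IrrCharacter G, (ψ : G → ℂ) ≠ (fun _ => 1) →
      ∃ c : CC P, (c : G) ∈ (P : Subgroup G) ∧ (ψ : G → ℂ) c ≠ (ψ : G → ℂ) 1)
    (ψ : IrrCharacter G) (hψ1 : (ψ : G → ℂ) ≠ fun _ => 1)
    (hψ : classInner (prG (χ : G → ℂ) (χ : G → ℂ)) (ψ : G → ℂ) ≠ 0) :
    wQ P (fun c : CC P => (ψ : G → ℂ) c) = 0 := by
  classical
  haveI : Fintype (IrrCharacter G) := Fintype.ofFinite _
  have hχc := Cfsg.Agent.Helper24.IsIrrCharacter.isCharacter χ.2
  have hχ'c := Cfsg.Agent.Helper24.IsIrrCharacter.isCharacter χ'.2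
  have hψc := Cfsg.Agent.Helper24.IsIrrCharacter.isCharacter ψ.2
  have hψcl := Cfsg.Agent.Helper24.isClassFunction_irr ψ
  have hτ₀c := Cfsg.Agent.Helper24.IsIrrCharacter.isCharacter τ₀.2
  have hCne : (Nat.card (CC P) : ℂ) ≠ 0 := Nat.cast_ne_zero.mpr Nat.card_pos.ne'
  -- decomposition of χχ̄
  obtain ⟨b, hb⟩ := Cfsg.Agent.Helper24.IsCharacter.exists_nat_coeff (isCharacter_prG hχc hχc)
  have hbψ : b ψ ≠ 0 := by
    intro h0
    apply hψ
    rw [hb, Cfsg.Agent.Helper24.classInner_sum_irr, h0]; simp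
  have hbt : b (trivI G) = 1 := by
    have := classInner_prG_triv (χ : G → ℂ)
    rw [Cfsg.Agent.Helper24.classInner_irr_self, hb,
      Cfsg.Agent.Helper24.classInner_sum_irr] at this
    exact_mod_cast this
  -- the degree of ψ
  obtain ⟨dψ, hdψdef⟩ : ∃ d : ℕ, d = Cfsg.Agent.Helper24.irrDeg ψ := ⟨_, rfl⟩
  have hdψ : (ψ : G → ℂ) 1 = dψ := by rw [hdψdef]; exact Cfsg.Agent.Helper24.irrDeg_spec ψ
  have hdeg : dψ + 1 ≤ x ^ 2 := by
    have h1 : prG (χ : G → ℂ) (χ : G → ℂ) 1 = ((x ^ 2 : ℕ) : ℂ) := by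
      simp only [prG, Pi.mul_apply, hx, Complex.conj_natCast]
      push_cast; ring
    rw [hb] at h1
    have h2 := sum_coeff_mul_irrDeg b (x ^ 2) h1
    have hne : trivI G ≠ ψ := by
      intro h'
      apply hψ1
      rw [← h']; rfl
    have h3 : ∑ φ ∈ ({trivI G, ψ} : Finset (IrrCharacter G)),
        b φ * Cfsg.Agent.Helper24.irrDeg φ ≤
        ∑ φ : IrrCharacter G, b φ * Cfsg.Agent.Helper24.irrDeg φ :=
      Finset.sum_le_sum_of_subset (Finset.subset_univ _)
    rw [Finset.sum_pair hne, hbt, irrDeg_trivI, ← h2, ← hdψdef] at h3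
    have h4 : dψ ≤ b ψ * dψ := Nat.le_mul_of_pos_left _ (Nat.pos_of_ne_zero hbψ)
    omega
  -- an exceptional constituent of ψ|_C
  obtain ⟨c, hcP, hcne⟩ := hnorm ψ hψ1
  have hθψ : IsCharacter (CC P) (fun c : CC P => (ψ : G → ℂ) c) :=
    Cfsg.Agent.Helper8.isCharacter_restrict (CC P) hψc
  obtain ⟨σ₁, hσ₁m, hσ₁e⟩ := exists_exc_constituent hθψ hcP hcne
  have hm₁ : mult (σ₁ : CC P → ℂ) ψ ≠ 0 := hσ₁m
  have hsmψ : (dψ + 1) * Nat.card (CC P) + Nat.card (NN P) <
      Nat.card (P : Subgroup G) * Nat.card (CC P) := by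
    have := Nat.mul_le_mul_right (Nat.card (CC P)) hdeg
    omega
  have hshape := exc_shape h ψ dψ hdψ hsmψ σ₁ hσ₁e hm₁
  -- σ₁ occurs in some product of conjugates of τ₀
  have h4 : classInner (σ₁ : CC P → ℂ)
      (fun c : CC P => prG (χ : G → ℂ) (χ : G → ℂ) c) ≠ 0 := by
    rw [hb, classInner_res_sum]
    have hmn : ∀ φ : IrrCharacter G, ∃ m : ℕ, mult (σ₁ : CC P → ℂ) (φ : G → ℂ) = m :=
      fun φ => mult_nat σ₁.2 (Cfsg.Agent.Helper24.IsIrrCharacter.isCharacter φ.2)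
    choose m hm using hmn
    simp_rw [hm]
    have : ∑ φ : IrrCharacter G, b φ * m φ ≠ 0 := by
      intro h0
      rw [Finset.sum_eq_zero_iff] at h0
      have := h0 ψ (Finset.mem_univ _)
      rcases Nat.mul_eq_zero.mp this with h1 | h1
      · exact hbψ h1
      · apply hm₁
        rw [hm, h1]; simp
    exact_mod_cast this
  have h5 : (fun c : CC P => prG (χ : G → ℂ) (χ : G → ℂ) c) =
      pr (fun c : CC P => (χ : G → ℂ) c) (fun c : CC P => (χ : G → ℂ) c) := rfl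
  rw [h5, hχC, pr_orb_orb, Cfsg.Agent.Helper24.classInner_smul_right,
    Cfsg.Agent.Helper24.classInner_sum_right] at h4
  obtain ⟨y, y', hyy'⟩ : ∃ y y' : NN P,
      classInner (σ₁ : CC P → ℂ) (pr (cjF y τ₀) (cjF y' τ₀)) ≠ 0 := by
    by_contra hcon
    push Not at hcon
    apply h4
    rw [mul_eq_zero]
    right
    apply Finset.sum_eq_zero
    intro y _
    rw [Cfsg.Agent.Helper24.classInner_sum_right]
    apply Finset.sum_eq_zero
    intro y' _
    exact hcon y y'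
  -- the twist ν
  set νh : CC P →* ℂˣ := (φ₀.1.comp (cjE y').toMonoidHom)⁻¹ with hνh
  have hν : TrivReg p νh := (φ₀.2.comp (cjE y')).inv
  set ν : TT P := ⟨νh, hν⟩ with hνdef
  have h6 : classInner (tw νh σ₁) (pr (cjF y τ₀) (cjF y' (tw φ₀.1 τ₀))) =
      classInner (σ₁ : CC P → ℂ) (pr (cjF y τ₀) (cjF y' τ₀)) := by
    unfold classInner
    congr 1
    refine Finset.sum_congr rfl fun c _ => ?_
    simp only [pr, tw_apply, cjF_apply, map_mul, Complex.conj_conj]
    have h1 : ((νh c : ℂˣ) : ℂ) * ((φ₀.1 (cjE y' c) : ℂˣ) : ℂ) = 1 := by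
      rw [hνh, MonoidHom.inv_apply, MonoidHom.comp_apply, MulEquiv.coe_toMonoidHom,
        ← Units.val_mul, inv_mul_cancel, Units.val_one]
    linear_combination ((σ₁ : CC P → ℂ) c * conj ((τ₀ : CC P → ℂ) (cjE y c)) *
      (τ₀ : CC P → ℂ) (cjE y' c)) * h1
  have hνirr : IsIrrCharacter (CC P) (tw νh σ₁) := isIrrCharacter_tw νh σ₁.2
  have h7 : classInner (tw νh σ₁)
      (fun c : CC P => prG (χ : G → ℂ) (χ' : G → ℂ) c) ≠ 0 := by
    have h8 : (fun c : CC P => prG (χ : G → ℂ) (χ' : G → ℂ) c) =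
      pr (fun c : CC P => (χ : G → ℂ) c) (fun c : CC P => (χ' : G → ℂ) c) := rfl
    rw [h8, hχC, hχ'C, pr_orb_orb, Cfsg.Agent.Helper24.classInner_smul_right,
      Cfsg.Agent.Helper24.classInner_sum_right]
    simp_rw [Cfsg.Agent.Helper24.classInner_sum_right]
    have hnat : ∀ z z' : NN P, ∃ m : ℕ,
        classInner (tw νh σ₁) (pr (cjF z τ₀) (cjF z' (tw φ₀.1 τ₀))) = m := by
      intro z z'
      haveI : Fintype (IrrCharacter (CC P)) := Fintype.ofFinite _
      exact Cfsg.Agent.Helper24.IsCharacter.classInner_nat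
        (Cfsg.Agent.Helper24.IsIrrCharacter.isCharacter hνirr)
        (isCharacter_pr (isCharacter_cjF z hτ₀c) (isCharacter_cjF z'
          (Cfsg.Agent.Helper24.IsIrrCharacter.isCharacter (isIrrCharacter_tw φ₀.1 τ₀.2))))
    choose m hm using hnat
    simp_rw [hm]
    apply mul_ne_zero
    · rw [map_mul, map_inv₀, Complex.conj_natCast]
      exact mul_ne_zero (inv_ne_zero hCne) (inv_ne_zero hCne)
    · have : ∑ z : NN P, ∑ z' : NN P, m z z' ≠ 0 := by
        intro h0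
        rw [Finset.sum_eq_zero_iff] at h0
        have h1 := h0 y (Finset.mem_univ _)
        rw [Finset.sum_eq_zero_iff] at h1
        have h2 := h1 y' (Finset.mem_univ _)
        apply hyy'
        rw [← h6, hm, h2]; simp
      exact_mod_cast this
  -- decomposition of χχ̄'
  obtain ⟨b', hb'⟩ := Cfsg.Agent.Helper24.IsCharacter.exists_nat_coeff
    (isCharacter_prG hχc hχ'c)
  have hdeg' : prG (χ : G → ℂ) (χ' : G → ℂ) 1 = ((x * x : ℕ) : ℂ) := by
    simp only [prG, Pi.mul_apply, hx, hx', Complex.conj_natCast]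
    push_cast; ring
  rw [hb'] at h7 hw0 hdeg'
  obtain ⟨ψ'', hb'', hm''⟩ := exists_constituent_mult b' (tw νh σ₁) h7
  have hw'' := wQ_constituent_eq_zero h b' hw0 ψ'' hb''
  obtain ⟨d'', hd''def⟩ : ∃ d : ℕ, d = Cfsg.Agent.Helper24.irrDeg ψ'' := ⟨_, rfl⟩
  have hd'' : (ψ'' : G → ℂ) 1 = d'' := by
    rw [hd''def]; exact Cfsg.Agent.Helper24.irrDeg_spec ψ''
  have hd''le : d'' ≤ x * x := by
    have h2 := sum_coeff_mul_irrDeg b' (x * x) hdeg'
    have h3 : b' ψ'' * Cfsg.Agent.Helper24.irrDeg ψ'' ≤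
        ∑ φ : IrrCharacter G, b' φ * Cfsg.Agent.Helper24.irrDeg φ :=
      Finset.single_le_sum (f := fun φ => b' φ * Cfsg.Agent.Helper24.irrDeg φ)
        (fun _ _ => Nat.zero_le _) (Finset.mem_univ ψ'')
    rw [← hd''def] at h3
    have h4 : d'' ≤ b' ψ'' * d'' := Nat.le_mul_of_pos_left _ (Nat.pos_of_ne_zero hb'')
    omega
  have hθ'' : IsCharacter (CC P) (fun c : CC P => (ψ'' : G → ℂ) c) :=
    Cfsg.Agent.Helper8.isCharacter_restrict (CC P)
      (Cfsg.Agent.Helper24.IsIrrCharacter.isCharacter ψ''.2)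
  obtain ⟨k, hk, hk0⟩ := wQ_character h hθ''
  have hk00 : k = 0 := by
    rw [hw''] at hk
    exact_mod_cast hk.symm
  have hνe : Exc P (tw νh σ₁) := hk0 hk00 (twI ν σ₁) hm''
  have hd''sm : d'' + 1 < Nat.card (P : Subgroup G) := by
    have : x ^ 2 = x * x := sq x
    omega
  have hψ''cl := Cfsg.Agent.Helper24.isClassFunction_irr ψ''
  by_cases hc : NConj P (tw νh σ₁) σ₁
  · have hm₁'' : mult (σ₁ : CC P → ℂ) ψ'' ≠ 0 := by
      rw [← mult_eq_of_nconj hc hψ''cl]; exact hm''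
    have := unique_of_exc_shape h ψ ψ'' σ₁ hσ₁e hshape d''
      hd'' hd''sm hm₁''
    rw [← this]; exact hw''
  · obtain ⟨ψa, ψb, hab, hind⟩ := exists_irr_sub_irr h σ₁ ν hσ₁e hνe hc
    have hi : classInner ((ψa : G → ℂ) - (ψb : G → ℂ)) (ψ : G → ℂ) = (1 : ℕ) := by
      rw [← hind, classInner_indFun_sub _ _ hψcl, hshape σ₁ hσ₁e]
      have := hshape (twI ν σ₁) hνe
      have e0 : ((twI ν σ₁ : IrrCharacter (CC P)) : CC P → ℂ) = tw νh σ₁ := rfl
      rw [e0] at this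
      rw [this]
      unfold dl
      rw [if_pos (nconj_refl _), if_neg hc]; simp
    obtain ⟨ea, -, -⟩ := irr_of_classInner_sub hab one_ne_zero hi
    have hv : ∀ c : CC P, ¬ p ∣ orderOf (c : G) →
        ((σ₁ : CC P → ℂ) - ((twI ν σ₁ : IrrCharacter (CC P)) : CC P → ℂ)) c = 0 :=
      fun c hc => tw_sub_vanish hν σ₁ c hc
    have e1 : (ψb : G → ℂ) = (ψ : G → ℂ) - indFun (CC P) ((σ₁ : CC P → ℂ) - tw νh σ₁) := by
      rw [hind, ea]; abel
    have hshape_b : ∀ σ : IrrCharacter (CC P), Exc P σ →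
        mult (σ : CC P → ℂ) ψb = dl P σ (twI ν σ₁) := by
      intro σ hσe
      have e2 : mult (σ : CC P → ℂ) ψb = mult (σ : CC P → ℂ) ψ -
          mult (σ : CC P → ℂ) (indFun (CC P) ((σ₁ : CC P → ℂ) - tw νh σ₁)) := by
        rw [e1]
        unfold mult
        exact Cfsg.Agent.Helper24.classInner_sub_right _ _ _
      rw [e2, hshape σ hσe]
      have := mult_indFun_sub h σ₁ (twI ν σ₁) hv hσ₁e hνe σ
      have e0 : ((twI ν σ₁ : IrrCharacter (CC P)) : CC P → ℂ) = tw νh σ₁ := rfl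
      rw [e0] at this
      rw [e0, this]; ring
    have hu := unique_of_exc_shape h ψb ψ'' (twI ν σ₁) hνe hshape_b d''
      hd'' hd''sm hm''
    have e3 : (fun c : CC P => (ψ : G → ℂ) c) = (fun c : CC P => (ψb : G → ℂ) c) +
        (fun c : CC P => indFun (CC P) ((σ₁ : CC P → ℂ) - tw νh σ₁) c) := by
      funext c
      rw [e1]
      simp
    have e4 := wQ_res_indFun_sub h σ₁ (twI ν σ₁) hv hσ₁e hνe
    have e0 : ((twI ν σ₁ : IrrCharacter (CC P)) : CC P → ℂ) = tw νh σ₁ := rfl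
    rw [e0] at e4
    rw [e3, wQ_add, ← hu, hw'', e4, add_zero]

end Cfsg.Agent.Helper8.BL
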