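import Mathlib
import Cfsg.Agent.Helper8.BL13

/-!
# Brauer–Leonard configuration: the main theorem
-/

set_option autoImplicit false

namespace Cfsg.Agent.Helper8.BL

open Cfsg
open scoped ComplexConjugate

variable {G : Type*} [Group G] [Fintype G] {p : ℕ} [hp : Fact p.Prime] {P : Sylow p G}

variable [Fintype (CC P)] [Fintype (NN P)]

omit [Fintype G] [Fintype (CC P)] in
theorem orb_one (τ : CC P → ℂ) :
    orb P τ 1 = (Nat.card (CC P) : ℂ)⁻¹ * ((Nat.card (NN P) : ℂ) * τ 1) := by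
  rw [orb_apply]
  congr 1
  simp only [cjF_apply, map_one]
  rw [Finset.sum_const, Finset.card_univ, nsmul_eq_mul, Nat.card_eq_fintype_card]

/-- the arithmetic consequence of `|N : C|` dividing both `x` and `|P| - 1` -/
theorem num_ineq {nN nC nP x t : ℕ} (hC : 0 < nC) (hCN : nC ∣ nN) (hdvd : nN ∣ nC * (nP - 1))
    (hxt : x * nC = nN * t) (hx2 : x ^ 2 + 1 < nP) :
    x ^ 2 * nC + nN < nP * nC := by
  obtain ⟨e, rfl⟩ := hCN
  obtain ⟨k, hk⟩ := hdvd
  have hk' : nP - 1 = e * k := by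
    have : nC * (nP - 1) = nC * (e * k) := by rw [hk]; ring
    exact Nat.eq_of_mul_eq_mul_left hC this
  have hxe : x = e * t := by
    have : nC * x = nC * (e * t) := by rw [mul_comm nC x, hxt]; ring
    exact Nat.eq_of_mul_eq_mul_left hC this
  have hP : nP = e * k + 1 := by omega
  subst hxe
  have h1 : (e * t) ^ 2 < e * k := by omega
  have he : 0 < e := by
    rcases Nat.eq_zero_or_pos e with h0 | h0
    · rw [h0] at h1; simp at h1
    · exact h0
  have h2 : e * (e * t ^ 2) < e * k := by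
    have : (e * t) ^ 2 = e * (e * t ^ 2) := by ring
    rw [← this]; exact h1
  have h3 : e * t ^ 2 < k := Nat.lt_of_mul_lt_mul_left h2
  have h4 : e * (e * t ^ 2 + 1) ≤ e * k := Nat.mul_le_mul_left e h3
  have h5 : (e * t) ^ 2 + e ≤ e * k := by
    have : e * (e * t ^ 2 + 1) = (e * t) ^ 2 + e := by ring
    rw [← this]; exact h4
  have h6 : (e * t) ^ 2 + e < nP := by omega
  have h7 := Nat.mul_lt_mul_of_pos_right h6 hC
  calc (e * t) ^ 2 * nC + nC * e = ((e * t) ^ 2 + e) * nC := by ring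
    _ < nP * nC := h7

/-- **The main theorem of the Brauer–Leonard configuration.** -/
theorem bl_main (h : Star P) (χ : IrrCharacter G) (x : ℕ) (hx : (χ : G → ℂ) 1 = x)
    (hx2 : x ^ 2 + 1 < Nat.card (P : Subgroup G))
    (hker : ∃ c : CC P, (c : G) ∈ (P : Subgroup G) ∧ (χ : G → ℂ) c ≠ (χ : G → ℂ) 1)
    (hnorm : ∀ ψ : IrrCharacter G, (ψ : G → ℂ) ≠ (fun _ => 1) →
      ∃ c : CC P, (c : G) ∈ (P : Subgroup G) ∧ (ψ : G → ℂ) c ≠ (ψ : G → ℂ) 1) :
    Nat.card (NN P) = Nat.card (CC P) ∧ x = 1 := by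
  classical
  haveI : Fintype (IrrCharacter G) := Fintype.ofFinite _
  have hχc := Cfsg.Agent.Helper24.IsIrrCharacter.isCharacter χ.2
  have hχcl := Cfsg.Agent.Helper24.isClassFunction_irr χ
  have hCne : (Nat.card (CC P) : ℂ) ≠ 0 := Nat.cast_ne_zero.mpr Nat.card_pos.ne'
  have hCpos : 0 < Nat.card (CC P) := Nat.card_pos
  have hCN : Nat.card (CC P) ≤ Nat.card (NN P) := Subgroup.card_le_of_le CC_le_NN
  -- Step 1
  obtain ⟨τ₀, hτ₀, hfull⟩ := step_one h χ x hx (by omega) hker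
  have hχC := res_eq_orb h χ τ₀ hτ₀ hfull
  obtain ⟨t, htdef⟩ : ∃ t : ℕ, t = Cfsg.Agent.Helper24.irrDeg τ₀ := ⟨_, rfl⟩
  have ht : (τ₀ : CC P → ℂ) 1 = t := by
    rw [htdef]; exact Cfsg.Agent.Helper24.irrDeg_spec τ₀
  have htpos : 0 < t := by rw [htdef]; exact Cfsg.Agent.Helper24.irrDeg_pos τ₀
  have hxt : x * Nat.card (CC P) = Nat.card (NN P) * t := by
    have h1 := congrFun hχC 1
    simp only [OneMemClass.coe_one] at h1
    rw [hx, orb_one, ht] at h1
    have h2 : (x : ℂ) * (Nat.card (CC P) : ℂ) = (Nat.card (NN P) : ℂ) * t := by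
      rw [h1]; field_simp
    exact_mod_cast h2
  have hxpos : 0 < x := by
    rcases Nat.eq_zero_or_pos x with h0 | h0
    · exfalso
      rw [h0, zero_mul] at hxt
      have : 0 < Nat.card (NN P) * t := Nat.mul_pos Nat.card_pos htpos
      omega
    · exact h0
  have hnum := num_ineq hCpos (Subgroup.card_dvd_of_le CC_le_NN) (card_NN_dvd h) hxt hx2
  -- the sibling
  have hcnt := card_pconj_mul_le h τ₀ (τ₀ : CC P → ℂ)
    (Cfsg.Agent.Helper24.isClassFunction_irr τ₀) (irrC_one_ne_zero τ₀)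
  obtain ⟨φ₀, hφ₀p, -, hφ₀e⟩ := exists_good_twist h τ₀
    (Cfsg.Agent.Helper24.isCharacter_zero (G := CC P)) 0 (by simp)
    (fun φ => PConj P (tw φ.1 τ₀) (τ₀ : CC P → ℂ)) (by
      by_contra hcon
      push Not at hcon
      have h1 := Nat.mul_le_mul_right (Nat.card (CC P)) hcon
      have h2 : 1 ≤ x ^ 2 := Nat.one_le_pow _ _ hxpos
      have h3 := Nat.mul_le_mul_right (Nat.card (CC P)) h2
      nlinarith)
  have hnc : ¬ NConj P (tw φ₀.1 τ₀) τ₀ := fun hc => hφ₀p (pconj_of_nconj hc)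
  obtain ⟨ψa, χ', hab, hind⟩ := exists_irr_sub_irr h τ₀ φ₀ hτ₀ hφ₀e hnc
  have hi : classInner ((ψa : G → ℂ) - (χ' : G → ℂ)) (χ : G → ℂ) = (1 : ℕ) := by
    rw [← hind, classInner_indFun_sub _ _ hχcl, hfull τ₀]
    have := hfull (twI φ₀ τ₀)
    have e0 : ((twI φ₀ τ₀ : IrrCharacter (CC P)) : CC P → ℂ) = tw φ₀.1 τ₀ := rfl
    rw [e0] at this
    rw [this]
    unfold dl
    rw [if_pos (nconj_refl _), if_neg hnc]; simp
  obtain ⟨ea, -, -⟩ := irr_of_classInner_sub hab one_ne_zero hi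
  rw [ea] at hind
  have hv : ∀ c : CC P, ¬ p ∣ orderOf (c : G) →
      ((τ₀ : CC P → ℂ) - tw φ₀.1 τ₀) c = 0 :=
    fun c hc => tw_sub_vanish φ₀.2 τ₀ c hc
  have hχ'C : (fun c : CC P => (χ' : G → ℂ) c) = orb P (tw φ₀.1 τ₀) := by
    funext c
    have e1 : (χ' : G → ℂ) c = (χ : G → ℂ) c -
        indFun (CC P) ((τ₀ : CC P → ℂ) - tw φ₀.1 τ₀) c := by
      rw [hind]; simp
    have e2 : (χ : G → ℂ) c = orb P τ₀ c := congrFun hχC c
    rw [e1, e2, indFun_restrict h _ hv c, orb_apply, orb_apply, ← mul_sub,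
      ← Finset.sum_sub_distrib]
    congr 1
    refine Finset.sum_congr rfl fun y _ => ?_
    simp only [cjF_apply, Pi.sub_apply]
    ring
  have hx' : (χ' : G → ℂ) 1 = x := by
    have h1 := congrFun hχ'C 1
    simp only [OneMemClass.coe_one] at h1
    have h2 := congrFun hχC 1
    simp only [OneMemClass.coe_one] at h2
    rw [h1, orb_one, tw_one_apply, ← orb_one, ← h2, hx]
  -- the weight of χ χ̄'
  have hw0 : wQ P (fun c : CC P => prG (χ : G → ℂ) (χ' : G → ℂ) c) = 0 := by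
    have h8 : (fun c : CC P => prG (χ : G → ℂ) (χ' : G → ℂ) c) =
      pr (fun c : CC P => (χ : G → ℂ) c) (fun c : CC P => (χ' : G → ℂ) c) := rfl
    rw [h8, hχC, hχ'C, pr_orb_orb, wQ_smul, wQ_sum]
    apply mul_eq_zero_of_right
    apply Finset.sum_eq_zero
    intro y _
    rw [wQ_sum]
    apply Finset.sum_eq_zero
    intro y' _
    have := wQ_mul_conj h (cjI y τ₀) (cjI y' (twI φ₀ τ₀))
    rw [if_neg] at this
    · exact this
    · intro hs
      apply hφ₀p
      have h1 := sameCentral_cjF y'⁻¹ hs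
      have e1 : cjF y'⁻¹ ((cjI y τ₀ : IrrCharacter (CC P)) : CC P → ℂ) =
          cjF (y'⁻¹ * y) τ₀ := by rw [cjF_mul]; rfl
      have e2 : cjF y'⁻¹ ((cjI y' (twI φ₀ τ₀) : IrrCharacter (CC P)) : CC P → ℂ) =
          tw φ₀.1 τ₀ :=
        show cjF y'⁻¹ (cjF y' (tw φ₀.1 τ₀)) = tw φ₀.1 τ₀ from cjF_inv_cjF y' _
      rw [e1, e2] at h1
      exact ⟨y'⁻¹ * y, sameCentral_symm h1⟩
  -- all nontrivial constituents of χ χ̄ have weight zero
  obtain ⟨b, hb⟩ := Cfsg.Agent.Helper24.IsCharacter.exists_nat_coeff (isCharacter_prG hχc hχc)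
  have hbt : b (trivI G) = 1 := by
    have := classInner_prG_triv (χ : G → ℂ)
    rw [Cfsg.Agent.Helper24.classInner_irr_self, hb,
      Cfsg.Agent.Helper24.classInner_sum_irr] at this
    exact_mod_cast this
  have hwz : ∀ ψ : IrrCharacter G, ψ ≠ trivI G → b ψ ≠ 0 →
      wQ P (fun c : CC P => (ψ : G → ℂ) c) = 0 := by
    intro ψ hψt hbψ
    apply weight_zero h χ χ' x hx hx' τ₀ φ₀ hχC hχ'C hw0 hx2 hnum hnorm ψ
    · intro h1
      apply hψt
      exact Subtype.ext h1
    · rw [hb, Cfsg.Agent.Helper24.classInner_sum_irr]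
      exact_mod_cast hbψ
  -- the weight of χ χ̄, first computation
  have hW1 : wQ P (fun c : CC P => prG (χ : G → ℂ) (χ : G → ℂ) c) =
      (Nat.card (P : Subgroup G) : ℂ) := by
    rw [hb, wQ_res_sum, Finset.sum_eq_single (trivI G)]
    · rw [hbt, Nat.cast_one, one_mul]
      have := wQ_irr h (trivI (CC P))
      rw [if_neg] at this
      · have e1 : ((trivI (CC P) : IrrCharacter (CC P)) : CC P → ℂ) = fun _ => 1 := rfl
        rw [e1] at this
        have e2 : (fun c : CC P => ((trivI G : IrrCharacter G) : G → ℂ) c) = fun _ => 1 := rfl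
        rw [e2, this, mul_one]
      · rintro ⟨c, -, hne⟩
        exact hne rfl
    · intro ψ _ hψ
      by_cases hbψ : b ψ = 0
      · rw [hbψ]; simp
      · rw [hwz ψ hψ hbψ, mul_zero]
    · intro h'; exact absurd (Finset.mem_univ _) h'
  -- second computation
  have h8 : (fun c : CC P => prG (χ : G → ℂ) (χ : G → ℂ) c) =
      pr (fun c : CC P => (χ : G → ℂ) c) (fun c : CC P => (χ : G → ℂ) c) := rfl
  rw [h8, hχC, pr_orb_orb, wQ_smul, wQ_sum] at hW1
  simp_rw [wQ_sum] at hW1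
  have hterm : ∀ y y' : NN P, wQ P (pr (cjF y τ₀) (cjF y' τ₀)) =
      if SameCentral P (cjF y τ₀) (cjF y' τ₀) then
        (Nat.card (P : Subgroup G) : ℂ) * t * t else 0 := by
    intro y y'
    have := wQ_mul_conj h (cjI y τ₀) (cjI y' τ₀)
    have e1 : ((cjI y τ₀ : IrrCharacter (CC P)) : CC P → ℂ) 1 = t := by
      show cjF y τ₀ 1 = t
      rw [cjF_apply, map_one, ht]
    have e2 : ((cjI y' τ₀ : IrrCharacter (CC P)) : CC P → ℂ) 1 = t := by
      show cjF y' τ₀ 1 = t
      rw [cjF_apply, map_one, ht]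
    rw [e1, e2] at this
    exact this
  simp_rw [hterm] at hW1
  have hcount : ∀ y : NN P, Nat.card (CC P) ≤
      (Finset.univ.filter (fun y' : NN P => SameCentral P (cjF y τ₀) (cjF y' τ₀))).card := by
    intro y
    have h1 : Nat.card (CC P) = (Finset.univ : Finset ((CC P).subgroupOf (NN P))).card := by
      rw [Finset.card_univ, ← Nat.card_eq_fintype_card]
      exact (Nat.card_congr (Subgroup.subgroupOfEquivOfLe CC_le_NN).toEquiv).symm
    rw [h1]
    apply Finset.card_le_card_of_injOn (fun z : (CC P).subgroupOf (NN P) => y * (z : NN P))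
    · intro z _
      rw [Finset.coe_filter]
      refine ⟨Finset.mem_univ _, ?_⟩
      rw [cjF_mul, cjF_eq_of_mem_CC (Cfsg.Agent.Helper24.isClassFunction_irr τ₀) _
        (Subgroup.mem_subgroupOf.mp z.2)]
      exact sameCentral_refl _
    · intro a _ b _ hab
      exact Subtype.ext (mul_left_cancel hab)
  have hsum : ∀ y : NN P,
      (∑ y' : NN P, if SameCentral P (cjF y τ₀) (cjF y' τ₀) then
        (Nat.card (P : Subgroup G) : ℂ) * t * t else 0) =
      ((Finset.univ.filter (fun y' : NN P =>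
        SameCentral P (cjF y τ₀) (cjF y' τ₀))).card : ℂ) *
        ((Nat.card (P : Subgroup G) : ℂ) * t * t) := by
    intro y
    rw [← Finset.sum_filter, Finset.sum_const, nsmul_eq_mul]
  simp_rw [hsum] at hW1
  rw [← Finset.sum_mul] at hW1
  set k : ℕ := ∑ y : NN P, (Finset.univ.filter (fun y' : NN P =>
        SameCentral P (cjF y τ₀) (cjF y' τ₀))).card with hk
  have hk2 : (∑ y : NN P, ((Finset.univ.filter (fun y' : NN P =>
        SameCentral P (cjF y τ₀) (cjF y' τ₀))).card : ℂ)) = (k : ℂ) := by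
    rw [hk]; push_cast; rfl
  rw [hk2] at hW1
  have hkge : Nat.card (NN P) * Nat.card (CC P) ≤ k := by
    rw [hk]
    calc Nat.card (NN P) * Nat.card (CC P) = ∑ _y : NN P, Nat.card (CC P) := by
          rw [Finset.sum_const, Finset.card_univ, smul_eq_mul, Nat.card_eq_fintype_card]
      _ ≤ _ := Finset.sum_le_sum (fun y _ => hcount y)
  have hPne : (Nat.card (P : Subgroup G) : ℂ) ≠ 0 := Nat.cast_ne_zero.mpr Nat.card_pos.ne'
  have hfin : k * (t * t) = Nat.card (CC P) * Nat.card (CC P) := by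
    have h1 : (k : ℂ) * ((t : ℂ) * t) = (Nat.card (CC P) : ℂ) * (Nat.card (CC P) : ℂ) := by
      have h2 : (Nat.card (P : Subgroup G) : ℂ) * ((k : ℂ) * ((t : ℂ) * t)) =
          (Nat.card (P : Subgroup G) : ℂ) *
            ((Nat.card (CC P) : ℂ) * (Nat.card (CC P) : ℂ)) := by
        have h3 : (Nat.card (CC P) : ℂ)⁻¹ * (Nat.card (CC P) : ℂ)⁻¹ *
            ((k : ℂ) * ((Nat.card (P : Subgroup G) : ℂ) * t * t)) *
            ((Nat.card (CC P) : ℂ) * (Nat.card (CC P) : ℂ)) =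
            (Nat.card (P : Subgroup G) : ℂ) *
              ((Nat.card (CC P) : ℂ) * (Nat.card (CC P) : ℂ)) := by rw [hW1]
        have h4 : (Nat.card (CC P) : ℂ)⁻¹ * (Nat.card (CC P) : ℂ)⁻¹ *
            ((k : ℂ) * ((Nat.card (P : Subgroup G) : ℂ) * t * t)) *
            ((Nat.card (CC P) : ℂ) * (Nat.card (CC P) : ℂ)) =
            (Nat.card (P : Subgroup G) : ℂ) * ((k : ℂ) * ((t : ℂ) * t)) := by
          field_simp
        rw [← h4, h3]
      exact mul_left_cancel₀ hPne h2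
    exact_mod_cast h1
  -- conclusion
  have h9 : Nat.card (NN P) * Nat.card (CC P) * (t * t) ≤
      Nat.card (CC P) * Nat.card (CC P) := by
    rw [← hfin]
    exact Nat.mul_le_mul_right _ hkge
  have h10 : Nat.card (NN P) * (t * t) ≤ Nat.card (CC P) := by
    have : Nat.card (CC P) * (Nat.card (NN P) * (t * t)) ≤
        Nat.card (CC P) * Nat.card (CC P) := by
      calc Nat.card (CC P) * (Nat.card (NN P) * (t * t)) =
          Nat.card (NN P) * Nat.card (CC P) * (t * t) := by ring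
        _ ≤ _ := h9
    exact Nat.le_of_mul_le_mul_left this hCpos
  have ht1 : t = 1 := by
    by_contra hne
    have h2 : 2 ≤ t := by omega
    have h4 : 4 ≤ t * t := by nlinarith
    have h5 := Nat.mul_le_mul_left (Nat.card (NN P)) h4
    omega
  rw [ht1] at h10 hxt
  have hNC : Nat.card (NN P) = Nat.card (CC P) := by omega
  refine ⟨hNC, ?_⟩
  rw [hNC, mul_one] at hxt
  have : x * Nat.card (CC P) = 1 * Nat.card (CC P) := by rw [hxt, one_mul]
  exact Nat.eq_of_mul_eq_mul_right hCpos this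

end Cfsg.Agent.Helper8.BL
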