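import Mathlib
import Cfsg.Prelude.Def_Blocks
import Cfsg.Agent.Helper8.BL14
import Cfsg.Agent.Helper5.CharKer

/-!
# Brauer–Leonard: small irreducible degree under uniform centralizers
-/

set_option autoImplicit false

namespace Cfsg.Agent.Helper8.BL

open Cfsg
open scoped ComplexConjugate

theorem charDegree_irr {G : Type*} [Group G] [Finite G] (χ : IrrCharacter G) :
    charDegree (χ : G → ℂ) = Cfsg.Agent.Helper24.irrDeg χ := by
  rw [charDegree, Cfsg.Agent.Helper24.irrDeg_spec, Complex.natCast_re, Nat.floor_natCast]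

/-- a nonprincipal irreducible character has a proper kernel -/
theorem charKer_ne_top {G : Type*} [Group G] [Finite G] (χ : IrrCharacter G)
    (h1 : (χ : G → ℂ) ≠ fun _ => 1) : Cfsg.Agent.Helper5.charKer χ ≠ ⊤ := by
  classical
  haveI : Fintype G := Fintype.ofFinite G
  intro htop
  apply h1
  have hall : ∀ g : G, (χ : G → ℂ) g = (χ : G → ℂ) 1 := by
    intro g
    rw [← Cfsg.Agent.Helper5.mem_charKer, htop]
    exact Subgroup.mem_top g
  have hd := Cfsg.Agent.Helper24.irrDeg_spec χ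
  have hn := Cfsg.Agent.Helper24.classInner_irr_self χ
  unfold classInner at hn
  have hG : (Nat.card G : ℂ) ≠ 0 := Nat.cast_ne_zero.mpr Nat.card_pos.ne'
  simp_rw [hall, hd, Complex.conj_natCast] at hn
  rw [Finset.sum_const, Finset.card_univ, nsmul_eq_mul, ← Nat.card_eq_fintype_card,
    ← mul_assoc, inv_mul_cancel₀ hG, one_mul] at hn
  have h2 : Cfsg.Agent.Helper24.irrDeg χ * Cfsg.Agent.Helper24.irrDeg χ = 1 := by
    exact_mod_cast hn
  have h3 : Cfsg.Agent.Helper24.irrDeg χ = 1 := Nat.eq_one_of_mul_eq_one_left h2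
  funext g
  rw [hall g, hd, h3, Nat.cast_one]

/-- **Brauer–Leonard**: the alternative for a small irreducible degree. -/
theorem bl_alternative {G : Type*} [Group G] [Finite G] (p : ℕ) [hp : Fact p.Prime]
    (P : Sylow p G) (h : Star P) (n : ℕ) (hn : Nat.card P = p ^ n) (χ : IrrCharacter G)
    (h1 : (χ : G → ℂ) ≠ fun _ => 1)
    (hdeg : charDegree (χ : G → ℂ) ^ 2 + 1 < p ^ n) :
    (∃ K : Subgroup G, K.Normal ∧ K ≠ ⊤ ∧ (P : Subgroup G) ≤ K) ∨
      ((∃ N : Subgroup G, N.Normal ∧ N.index = p ^ n) ∧ charDegree (χ : G → ℂ) = 1) := by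
  classical
  haveI : Fintype G := Fintype.ofFinite G
  haveI : Fintype (CC P) := Fintype.ofFinite _
  haveI : Fintype (NN P) := Fintype.ofFinite _
  rw [charDegree_irr] at hdeg ⊢
  have hx := Cfsg.Agent.Helper24.irrDeg_spec χ
  have hx2 : Cfsg.Agent.Helper24.irrDeg χ ^ 2 + 1 < Nat.card (P : Subgroup G) := by
    rw [hn]; exact hdeg
  by_cases hnp : ∃ K : Subgroup G, K.Normal ∧ K ≠ ⊤ ∧ (P : Subgroup G) ≤ K
  · left; exact hnp
  · right
    push Not at hnp
    have hnorm : ∀ ψ : IrrCharacter G, (ψ : G → ℂ) ≠ (fun _ => 1) →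
        ∃ c : CC P, (c : G) ∈ (P : Subgroup G) ∧ (ψ : G → ℂ) c ≠ (ψ : G → ℂ) 1 := by
      intro ψ hψ
      by_contra hcon
      push Not at hcon
      have hle : (P : Subgroup G) ≤ Cfsg.Agent.Helper5.charKer ψ := by
        intro y hy
        rw [Cfsg.Agent.Helper5.mem_charKer]
        exact hcon ⟨y, le_CC h hy⟩ hy
      exact hnp (Cfsg.Agent.Helper5.charKer ψ) inferInstance (charKer_ne_top ψ hψ) hle
    have hker := hnorm χ h1
    obtain ⟨hNC, hx1⟩ := bl_main h χ _ hx hx2 hker hnorm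
    refine ⟨?_, hx1⟩
    have hle : NN P ≤ CC P := by
      have := Subgroup.eq_of_le_of_card_ge (CC_le_NN (P := P)) (le_of_eq hNC)
      rw [← this]
    have hcompl := MonoidHom.ker_transferSylow_isComplement' P hle
    refine ⟨(MonoidHom.transferSylow P hle).ker, inferInstance, ?_⟩
    rw [hcompl.symm.index_eq_card, hn]

end Cfsg.Agent.Helper8.BL
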