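import Mathlib
import Cfsg.Prelude.Def_Characters
import Cfsg.Prelude.Def_Blocks
import Cfsg.Agent.Helper5.PDDefs
import Cfsg.Agent.Helper5.CharKer
import Cfsg.Agent.Helper8.BL15
import Cfsg.Agent.Helper8.CharComp
import Cfsg.Agent.Helper24.Restrict
import Cfsg.Agent.Helper24.Codegree
import Cfsg.Agent.Helper24.Expansion
import Cfsg.Agent.Helper29.TwoDegB
import Cfsg.Agent.Helper29.TwoDegF

set_option autoImplicit false

/-!
# S4466 piece SYLA: a nontrivial character of degree `< r` makes the Sylow `r`-subgroups abelian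
-/

namespace Cfsg.Agent.Helper8.PD

open Cfsg Cfsg.Agent.Helper5.PD Cfsg.Agent.Helper24
open scoped commutatorElement

universe u

/-- A character of a finite `r`-group all of whose irreducible constituents have degree `< r`
is constant (equal to its degree) on the commutator subgroup. -/
theorem restrict_apply_commutator {R : Type u} [Group R] [Finite R] (r : ℕ) [hr : Fact r.Prime]
    (hR : IsPGroup r R) (χ : R → ℂ) (hχ : IsCharacter R χ) (d : ℕ) (hd : χ 1 = d) (hdr : d < r)
    (c : R) (hc : c ∈ commutator R) : χ c = χ 1 := by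
  classical
  letI : Fintype R := Fintype.ofFinite R
  letI : Fintype (IrrCharacter R) := Fintype.ofFinite _
  obtain ⟨n, hn⟩ := IsCharacter.exists_nat_coeff hχ
  have hlin : ∀ θ : IrrCharacter R, n θ ≠ 0 → irrDeg θ = 1 := by
    intro θ hθ
    have hne : classInner χ (θ : R → ℂ) ≠ 0 := by
      rw [hn, classInner_sum_irr]
      exact_mod_cast hθ
    have hle : irrDeg θ ≤ d := irrDeg_le_of_constituent hχ θ hne d hd
    have hdvd : irrDeg θ ∣ Nat.card R := Cfsg.Agent.Helper29.TwoDeg.irrDeg_dvd_card θ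
    obtain ⟨k, hk⟩ := IsPGroup.iff_card.mp hR
    rw [hk] at hdvd
    obtain ⟨j, _, hj⟩ := (Nat.dvd_prime_pow hr.out).mp hdvd
    rcases Nat.eq_zero_or_pos j with h0 | hpos
    · rw [hj, h0, pow_zero]
    · exfalso
      have : r ≤ irrDeg θ := by
        rw [hj]
        calc r = r ^ 1 := (pow_one r).symm
          _ ≤ r ^ j := Nat.pow_le_pow_right hr.out.pos hpos
      omega
  rw [hn, Finset.sum_apply, Finset.sum_apply]
  refine Finset.sum_congr rfl ?_
  intro θ _
  rw [Pi.smul_apply, Pi.smul_apply]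
  by_cases hθ : n θ = 0
  · rw [hθ]; simp
  · rw [Cfsg.Agent.Helper29.TwoDeg.linear_apply_commutator θ (hlin θ hθ) c hc]

theorem sylow_comm_of_small_degree {G : Type u} [Group G] [Finite G] [IsSimpleGroup G]
    (hna : ¬ ∀ a b : G, a * b = b * a) (r : ℕ) [Fact r.Prime]
    (ψ : IrrCharacter G) (hψ1 : charDegree (ψ : G → ℂ) ≠ 1) (hψ : charDegree (ψ : G → ℂ) < r)
    (R : Sylow r G) :
    ∀ x ∈ (R : Subgroup G), ∀ y ∈ (R : Subgroup G), x * y = y * x := by
  classical
  intro x hx y hy
  rw [charDegree_irr] at hψ1 hψ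
  have hres : IsCharacter (R : Subgroup G) (fun z : (R : Subgroup G) => (ψ : G → ℂ) z) :=
    Cfsg.Agent.Helper8.isCharacter_restrict (R : Subgroup G) (IsIrrCharacter.isCharacter ψ.2)
  have hne1 : (ψ : G → ℂ) ≠ fun _ => 1 := by
    intro h
    have h1 := irrDeg_spec ψ
    rw [h] at h1
    apply hψ1
    have h2 : ((irrDeg ψ : ℕ) : ℂ) = 1 := h1.symm
    exact_mod_cast h2
  have hker : Cfsg.Agent.Helper5.charKer ψ = ⊥ :=
    ((Cfsg.Agent.Helper5.charKer_normal ψ).eq_bot_or_eq_top).resolve_right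
      (Cfsg.Agent.Helper8.BL.charKer_ne_top ψ hne1)
  set c : (R : Subgroup G) := ⁅(⟨x, hx⟩ : (R : Subgroup G)), (⟨y, hy⟩ : (R : Subgroup G))⁆ with hcdef
  have hc : c ∈ commutator (R : Subgroup G) := by
    rw [commutator_def]
    exact Subgroup.commutator_mem_commutator (Subgroup.mem_top _) (Subgroup.mem_top _)
  have h1 := restrict_apply_commutator r R.isPGroup' _ hres (irrDeg ψ)
    (by simpa using irrDeg_spec ψ) hψ c hc
  have h2 : ((c : (R : Subgroup G)) : G) ∈ Cfsg.Agent.Helper5.charKer ψ := by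
    rw [Cfsg.Agent.Helper5.mem_charKer]
    simpa using h1
  rw [hker, Subgroup.mem_bot] at h2
  have h3 : x * y * x⁻¹ * y⁻¹ = 1 := by
    rw [← h2, hcdef, commutatorElement_def]
    rfl
  calc x * y = (x * y * x⁻¹ * y⁻¹) * (y * x) := by group
    _ = y * x := by rw [h3, one_mul]

end Cfsg.Agent.Helper8.PD
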