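import Mathlib
import Cfsg.Agent.Helper5.S4330Defs
import Cfsg.Prelude.Def_Solvable
import Cfsg.Agent.Helper14.PCore

/-!
# S4330 board, piece RT (helper8): `A` acts nontrivially on the minimal normal subgroup `V`
-/

set_option autoImplicit false
open Pointwise
open scoped commutatorElement

namespace Cfsg.Agent.Helper5.S4330

section reduction
variable {G : Type*} [Group G]

/-- aux: a finite group `T` with a central subgroup `V` such that the quotient map to a `p`-group
has kernel inside `V` is nilpotent. -/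
theorem RT_aux_nilpotent [Finite G] {p : ℕ} [Fact p.Prime] (V : Subgroup G) [V.Normal]
    (T : Subgroup G) (hTV : ∀ t ∈ T, ∀ v ∈ V, t * v = v * t)
    (hTp : IsPGroup p ↥(T.map (QuotientGroup.mk' V))) : Group.IsNilpotent ↥T := by
  classical
  let f : ↥T →* ↥(T.map (QuotientGroup.mk' V)) :=
    ((QuotientGroup.mk' V).comp T.subtype).codRestrict _ (fun t => ⟨t.1, t.2, rfl⟩)
  have : Group.IsNilpotent ↥(T.map (QuotientGroup.mk' V)) := hTp.isNilpotent
  refine isNilpotent_of_ker_le_center f ?_
  intro t ht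
  rw [MonoidHom.mem_ker] at ht
  have ht' : (QuotientGroup.mk' V) t.1 = 1 := congrArg Subtype.val ht
  have htV : t.1 ∈ V := by
    rwa [QuotientGroup.mk'_apply, QuotientGroup.eq_one_iff] at ht'
  rw [Subgroup.mem_center_iff]
  intro s
  apply Subtype.ext
  show s.1 * t.1 = t.1 * s.1
  exact hTV s.1 s.2 t.1 htV

theorem exists_not_commute_of_pCore_eq_bot [Finite G] {p : ℕ} [Fact p.Prime]
    (hcore : Cfsg.pCore p G = ⊥) (V : Subgroup G) [V.Normal]
    (hVc : ∀ a ∈ V, ∀ b ∈ V, a * b = b * a) (hVcop : (Nat.card V).Coprime p)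
    {A : Subgroup G} (hA : IsPGroup p A) (hA1 : A ≠ ⊥)
    (hAV : A.map (QuotientGroup.mk' V) ≤ Cfsg.pCore p (G ⧸ V)) :
    ∃ x ∈ A, ∃ v ∈ V, x * v ≠ v * x := by
  classical
  by_contra hcon
  push Not at hcon
  -- `A` centralizes `V`
  have hAc : A ≤ Subgroup.centralizer (V : Set G) := by
    intro x hx
    rw [Subgroup.mem_centralizer_iff]
    intro v hv
    exact (hcon x hx v hv).symm
  -- the subgroup `T`
  have hKn : (Cfsg.pCore p (G ⧸ V)).Normal := Cfsg.Agent.Helper14.pCore_normal p
  set K : Subgroup G := (Cfsg.pCore p (G ⧸ V)).comap (QuotientGroup.mk' V) with hK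
  have : K.Normal := Subgroup.Normal.comap hKn _
  have : (Subgroup.centralizer (V : Set G)).Normal := Subgroup.normal_centralizer
  set T : Subgroup G := K ⊓ Subgroup.centralizer (V : Set G) with hT
  have hTn : T.Normal := Subgroup.normal_inf_normal K _
  have hAT : A ≤ T := by
    refine le_inf ?_ hAc
    intro x hx
    exact hAV ⟨x, hx, rfl⟩
  have hTV : ∀ t ∈ T, ∀ v ∈ V, t * v = v * t := by
    intro t ht v hv
    exact ((Subgroup.mem_centralizer_iff.mp ht.2) v hv).symm
  have hTp : IsPGroup p ↥(T.map (QuotientGroup.mk' V)) := by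
    refine (Cfsg.Agent.Helper14.pCore_isPGroup (G := G ⧸ V) p).to_le ?_
    rintro _ ⟨t, ht, rfl⟩
    exact ht.1
  have : Group.IsNilpotent ↥T := RT_aux_nilpotent V T hTV hTp
  -- a Sylow subgroup of `T` containing `A`
  have hA' : IsPGroup p ↥(A.subgroupOf T) := hA.comap_subtype
  obtain ⟨S, hS⟩ := hA'.exists_le_sylow
  have hSn : (S : Subgroup ↥T).Normal := inferInstance
  have : (S : Subgroup ↥T).Characteristic := Sylow.characteristic_of_normal S hSn
  have hPn : ((S : Subgroup ↥T).map T.subtype).Normal :=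
    ConjAct.normal_of_characteristic_of_normal
  have hPp : IsPGroup p ↥((S : Subgroup ↥T).map T.subtype) := S.2.map _
  have hPbot : (S : Subgroup ↥T).map T.subtype ≤ ⊥ := by
    rw [← hcore]
    exact Cfsg.Agent.Helper14.le_pCore p hPn hPp
  apply hA1
  rw [eq_bot_iff]
  intro x hx
  apply hPbot
  exact ⟨⟨x, hAT hx⟩, hS (Subgroup.mem_subgroupOf.mpr hx), rfl⟩

end reduction

end Cfsg.Agent.Helper5.S4330
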