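import Mathlib
import Cfsg.Prelude.Def_Blocks
import Cfsg.Prelude.Def_BlockRank
import Cfsg.Agent.Helper5.S4607Defs
import Cfsg.Agent.Helper5.BlockRankOne
import Cfsg.Agent.Helper5.DefectOrder
import Cfsg.Agent.Helper8.BrauerFeit
import Cfsg.Agent.Helper23.NormalSupport

set_option autoImplicit false
set_option linter.unusedSectionVars false

/-! S4607 piece NILA. -/

namespace Cfsg.Agent.S4607P

open Cfsg Cfsg.Agent.Helper5.Res Cfsg.Agent.Helper5.CC Cfsg.Agent.Helper24

section Block

variable {M : Ideal AlgInt} [hMax : M.IsMaximal] {G : Type*} [Group G] [Fintype G]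
  [Fintype (IrrCharacter G)]

/-- NILA: the characteristic zero identity behind the nilpotent central elements -/
theorem conv_sub_sub_blockCoeff (B : Set (IrrCharacter G)) (χ₁ χ₂ : IrrCharacter G)
    (hB2 : B = {χ₁, χ₂}) (g : G) :
    conv (conv (classIndicator g - centralChar (χ₁ : G → ℂ) g • deltaOne)
      (classIndicator g - centralChar (χ₂ : G → ℂ) g • deltaOne)) (blockCoeff B) = 0 := by
  classical
  have hd1 : IsClassFunction G (deltaOne : G → ℂ) := isClassFunction_classIndicator 1
  have ha : ∀ χ : IrrCharacter G,
      IsClassFunction G (classIndicator g - centralChar (χ : G → ℂ) g • deltaOne) := fun χ =>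
    isClassFunction_sub (isClassFunction_classIndicator g) (isClassFunction_smul _ hd1)
  have hab := isClassFunction_conv (ha χ₁) (ha χ₂)
  have hall := isClassFunction_conv hab (isClassFunction_blockCoeff B)
  apply Cfsg.Agent.Helper23.NS.eq_of_act_eq hall isClassFunction_zero
  intro χ
  rw [act_conv hab, act_conv (ha χ₁), act_sub, act_sub, act_smul, act_smul, act_classIndicator,
    act_deltaOne, act_blockCoeff, act_zero, mul_one, mul_one]
  by_cases hχ : χ ∈ B
  · rw [if_pos hχ, mul_one]
    rw [hB2] at hχ
    rcases hχ with h | h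
    · rw [h, sub_self, zero_mul]
    · rw [h, sub_self, mul_zero]
  · rw [if_neg hχ, mul_zero]

end Block

end Cfsg.Agent.S4607P
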