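import Mathlib

set_option autoImplicit false

/-! S4607 piece ARITH. -/

namespace Cfsg.Agent.S4607P

/-- ARITH: the final arithmetic -/
theorem pow_eq_two_of_sq_add_sq {p : ℕ} (hp : p.Prime) (d d₁ d₂ f n : ℕ) (hf : 0 < f)
    (hcop : Nat.Coprime d₁ d₂) (h1 : d₁ ^ 2 + d₂ ^ 2 = p ^ d)
    (h2 : (d₁ * f) ^ 2 + (d₂ * f) ^ 2 = 2 * n ^ 2) : p ^ d = 2 := by
  have : Fact (Nat.Prime 2) := ⟨Nat.prime_two⟩
  have h : f ^ 2 * p ^ d = 2 * n ^ 2 := by
    rw [← h2, ← h1]; ring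
  have hpd : 0 < p ^ d := Nat.pos_of_ne_zero (pow_ne_zero _ hp.ne_zero)
  have hn : n ≠ 0 := by
    rintro rfl
    have : 0 < f ^ 2 * p ^ d := Nat.mul_pos (Nat.pos_of_ne_zero (pow_ne_zero _ hf.ne')) hpd
    omega
  have hv := congrArg (padicValNat 2) h
  rw [padicValNat.mul (pow_ne_zero _ hf.ne') hpd.ne', padicValNat.pow, padicValNat.pow,
    padicValNat.mul (by norm_num) (pow_ne_zero _ hn), padicValNat.pow, padicValNat_self] at hv
  by_cases hp2 : p = 2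
  · subst hp2
    rw [padicValNat_self, mul_one] at hv
    -- `d` is odd
    by_cases hd : d ≤ 1
    · have : d = 1 := by omega
      rw [this, pow_one]
    · exfalso
      have h4 : 4 ∣ d₁ ^ 2 + d₂ ^ 2 := by
        rw [h1]
        have : (4 : ℕ) = 2 ^ 2 := by norm_num
        rw [this]
        exact pow_dvd_pow 2 (by omega)
      obtain ⟨a, ha | ha⟩ := Nat.even_or_odd' d₁ <;> obtain ⟨b, hb | hb⟩ := Nat.even_or_odd' d₂
      · have : 2 ∣ Nat.gcd d₁ d₂ := Nat.dvd_gcd (ha ▸ dvd_mul_right 2 a) (hb ▸ dvd_mul_right 2 b)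
        rw [hcop] at this
        omega
      · have e : d₁ ^ 2 + d₂ ^ 2 = 4 * (a ^ 2 + b ^ 2 + b) + 1 := by rw [ha, hb]; ring
        omega
      · have e : d₁ ^ 2 + d₂ ^ 2 = 4 * (a ^ 2 + a + b ^ 2) + 1 := by rw [ha, hb]; ring
        omega
      · have e : d₁ ^ 2 + d₂ ^ 2 = 4 * (a ^ 2 + a + b ^ 2 + b) + 2 := by rw [ha, hb]; ring
        omega
  · exfalso
    have : Fact p.Prime := ⟨hp⟩
    have : padicValNat 2 p = 0 := padicValNat_primes (Ne.symm hp2)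
    rw [this] at hv
    omega

end Cfsg.Agent.S4607P
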