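import Mathlib
import Cfsg.Prelude.Def_Blocks
import Cfsg.Prelude.Def_BlockRank
import Cfsg.Agent.Helper5.S4607Defs
import Cfsg.Agent.Helper5.BlockRankOne
import Cfsg.Agent.Helper5.DefectOrder
import Cfsg.Agent.Helper8.BrauerFeit

set_option autoImplicit false
set_option linter.unusedSectionVars false

/-! S4607 piece CARTAN2. -/

namespace Cfsg.Agent.S4607P

open Cfsg Cfsg.Agent.Helper5.Res Cfsg.Agent.Helper5.CC Cfsg.Agent.Helper24

namespace CARTAN2

theorem sum_pair_ite {ι : Type*} [Fintype ι] [DecidableEq ι] {α : Type*} [AddCommMonoid α]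
    (B : Set ι) [DecidablePred (· ∈ B)] (a b : ι) (hab : a ≠ b) (hB : B = {a, b}) (g : ι → α) :
    (∑ x : ι, if x ∈ B then g x else 0) = g a + g b := by
  rw [← Finset.sum_filter]
  have : Finset.univ.filter (· ∈ B) = {a, b} := by
    ext x
    simp [hB]
  rw [this, Finset.sum_pair hab]

end CARTAN2

section Block

variable {M : Ideal AlgInt} [hMax : M.IsMaximal] {G : Type*} [Group G] [Fintype G]
  [Fintype (IrrCharacter G)]

variable {p : ℕ} [hp : Fact p.Prime]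

/-- CARTAN2: degree data of a block with two characters and one Brauer character -/
theorem exists_degree_data (hM : IsPModular p M) (B : Set (IrrCharacter G))
    (hB : IsPBlock M B) (hcard : Nat.card B = 2) (hl : blockRank p B = 1) :
    ∃ (χ₁ χ₂ : IrrCharacter G) (d₁ d₂ f : ℕ), χ₁ ≠ χ₂ ∧ B = {χ₁, χ₂} ∧ 0 < f ∧
      Nat.Coprime d₁ d₂ ∧ irrDeg χ₁ = d₁ * f ∧ irrDeg χ₂ = d₂ * f ∧
      d₁ ^ 2 + d₂ ^ 2 = p ^ blockDefect p B := by
  classical
  obtain ⟨φ, d, ⟨n, hn⟩, hχ, hsum⟩ := Cfsg.Agent.Helper5.BR1.cartan_rank_one hM hB hl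
  obtain ⟨x, y, hxy, huniv⟩ := Nat.card_eq_two_iff.mp hcard
  set χ₁ : IrrCharacter G := x.1 with hχ₁
  set χ₂ : IrrCharacter G := y.1 with hχ₂
  have hne : χ₁ ≠ χ₂ := fun h => hxy (Subtype.ext h)
  have hB2 : B = {χ₁, χ₂} := by
    ext χ
    constructor
    · intro hχB
      have : (⟨χ, hχB⟩ : B) ∈ ({x, y} : Set B) := by rw [huniv]; trivial
      rcases this with h | h
      · left; exact congrArg Subtype.val h
      · right; exact congrArg Subtype.val h
    · rintro (h | h)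
      · rw [h]; exact x.2
      · rw [h]; exact y.2
  have h1reg : ¬ p ∣ orderOf (1 : G) := by
    rw [orderOf_one]
    exact fun h => hp.out.one_lt.ne' (Nat.dvd_one.mp h)
  -- `φ 1` as an integer
  set fz : ℤ := n χ₁ * irrDeg χ₁ + n χ₂ * irrDeg χ₂ with hfz
  have hφ1 : φ 1 = (fz : ℂ) := by
    rw [hn 1 h1reg, CARTAN2.sum_pair_ite B χ₁ χ₂ hne hB2, irrDeg_spec, irrDeg_spec, hfz]
    push_cast
    ring
  have hdeg : ∀ χ ∈ B, (irrDeg χ : ℤ) = d χ * fz := by
    intro χ hχB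
    have := hχ χ hχB 1 h1reg
    rw [irrDeg_spec, hφ1] at this
    exact_mod_cast this
  have hfz_pos : 0 < fz := by
    have h := hdeg χ₁ x.2
    have hpos : (0 : ℤ) < irrDeg χ₁ := by exact_mod_cast irrDeg_pos χ₁
    rw [h] at hpos
    have hd0 : (0 : ℤ) ≤ d χ₁ := Int.natCast_nonneg _
    rcases hd0.lt_or_eq with hd | hd
    · exact (mul_pos_iff_of_pos_left hd).mp hpos
    · rw [← hd, zero_mul] at hpos
      exact absurd hpos (lt_irrefl 0)
  -- Bezout relation
  have hbez : n χ₁ * d χ₁ + n χ₂ * d χ₂ = 1 := by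
    have h := hfz
    rw [hdeg χ₁ x.2, hdeg χ₂ y.2] at h
    have : fz * (n χ₁ * d χ₁ + n χ₂ * d χ₂ - 1) = 0 := by
      linear_combination -h
    rcases mul_eq_zero.mp this with h0 | h0
    · exact absurd h0 hfz_pos.ne'
    · linarith
  have hcop : Nat.Coprime (d χ₁) (d χ₂) := by
    rw [← Nat.isCoprime_iff_coprime]
    exact ⟨n χ₁, n χ₂, hbez⟩
  refine ⟨χ₁, χ₂, d χ₁, d χ₂, fz.toNat, hne, hB2, ?_, hcop, ?_, ?_, ?_⟩
  · omega
  · have := hdeg χ₁ x.2
    have hf : ((fz.toNat : ℕ) : ℤ) = fz := Int.toNat_of_nonneg hfz_pos.le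
    rw [← hf] at this
    exact_mod_cast this
  · have := hdeg χ₂ y.2
    have hf : ((fz.toNat : ℕ) : ℤ) = fz := Int.toNat_of_nonneg hfz_pos.le
    rw [← hf] at this
    exact_mod_cast this
  · rw [← hsum, CARTAN2.sum_pair_ite B χ₁ χ₂ hne hB2]

end Block

end Cfsg.Agent.S4607P
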