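import Mathlib

set_option autoImplicit false
set_option linter.style.haveILetI false
set_option linter.unusedSectionVars false
set_option linter.unusedVariables false

/-! # Groups with a self-centralizing element of prime order

`x` of prime order `p` with `C_G(x) = ⟨x⟩`. Then `⟨x⟩` is a Sylow `p`-subgroup, etc. -/

namespace Cfsg.Agent.Helper8

open Subgroup
open scoped commutatorElement

section SelfCent

variable {G : Type*} [Group G] [Finite G]

/-- in a cyclic group of prime order every nontrivial element generates -/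
theorem mem_zpowers_of_mem_zpowers_prime {p : ℕ} (hp : p.Prime) {x z : G} (hx : orderOf x = p)
    (hz : z ∈ zpowers x) (hz1 : z ≠ 1) : x ∈ zpowers z := by
  have hle : zpowers z ≤ zpowers x := (zpowers_le).mpr hz
  have hdvd : orderOf z ∣ p := hx ▸ orderOf_dvd_of_mem_zpowers hz
  have hoz : orderOf z = p := by
    rcases (Nat.dvd_prime hp).mp hdvd with h | h
    · exact absurd (orderOf_eq_one_iff.mp h) hz1
    · exact h
  have heq : zpowers z = zpowers x := by
    apply Subgroup.eq_of_le_of_card_ge hle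
    rw [Nat.card_zpowers, Nat.card_zpowers, hx, hoz]
  rw [heq]
  exact mem_zpowers x

theorem ne_one_of_orderOf_eq_prime {p : ℕ} (hp : p.Prime) {x : G} (hx : orderOf x = p) : x ≠ 1 := by
  rintro rfl
  rw [orderOf_one] at hx
  exact hp.one_lt.ne hx

/-- the centralizer of a nontrivial power of `x` is the centralizer of `x` -/
theorem centralizer_eq_of_mem_zpowers {p : ℕ} (hp : p.Prime) {x z : G} (hx : orderOf x = p)
    (hz : z ∈ zpowers x) (hz1 : z ≠ 1) :
    centralizer ({z} : Set G) = centralizer ({x} : Set G) := by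
  have hxz := mem_zpowers_of_mem_zpowers_prime hp hx hz hz1
  obtain ⟨i, hi⟩ := mem_zpowers_iff.mp hz
  obtain ⟨j, hj⟩ := mem_zpowers_iff.mp hxz
  ext c
  simp only [mem_centralizer_iff, Set.mem_singleton_iff, forall_eq]
  constructor
  · intro h
    have h1 : Commute z c := h
    have h2 := h1.zpow_left j
    rw [hj] at h2
    exact h2
  · intro h
    have h1 : Commute x c := h
    have h2 := h1.zpow_left i
    rw [hi] at h2
    exact h2

variable {p : ℕ} [hp : Fact p.Prime] {x : G}

theorem isPGroup_zpowers (hx : orderOf x = p) : IsPGroup p (zpowers x) :=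
  IsPGroup.of_card (n := 1) (by rw [Nat.card_zpowers, hx, pow_one])

/-- `⟨x⟩` is a Sylow `p`-subgroup -/
theorem exists_sylow_eq_zpowers (hx : orderOf x = p)
    (hC : centralizer ({x} : Set G) = zpowers x) :
    ∃ P : Sylow p G, (P : Subgroup G) = zpowers x := by
  obtain ⟨Q, hQ⟩ := (isPGroup_zpowers hx).exists_le_sylow
  refine ⟨Q, le_antisymm ?_ hQ⟩
  have hxQ : x ∈ (Q : Subgroup G) := hQ (mem_zpowers x)
  have hx1 : x ≠ 1 := ne_one_of_orderOf_eq_prime hp.out hx
  haveI : Nontrivial (Q : Subgroup G) :=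
    ⟨⟨⟨x, hxQ⟩, 1, fun h => hx1 (congrArg Subtype.val h)⟩⟩
  haveI := Q.2.center_nontrivial
  obtain ⟨z, hz1⟩ := exists_ne (1 : center (Q : Subgroup G))
  have hzc : ∀ q : (Q : Subgroup G), q * z.1 = z.1 * q := fun q => (mem_center_iff.mp z.2) q
  have hzx : ((z : (Q : Subgroup G)) : G) ∈ zpowers x := by
    rw [← hC, mem_centralizer_iff]
    intro y hy
    rw [Set.mem_singleton_iff] at hy
    subst hy
    exact congrArg Subtype.val (hzc ⟨y, hxQ⟩)
  have hz1' : ((z : (Q : Subgroup G)) : G) ≠ 1 := by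
    intro h
    apply hz1
    apply Subtype.ext
    apply Subtype.ext
    exact h
  obtain ⟨j, hj⟩ := mem_zpowers_iff.mp (mem_zpowers_of_mem_zpowers_prime hp.out hx hzx hz1')
  intro q hq
  rw [← hC, mem_centralizer_iff]
  intro y hy
  rw [Set.mem_singleton_iff] at hy
  subst hy
  have h1 : Commute ((z : (Q : Subgroup G)) : G) q := by
    have := congrArg Subtype.val (hzc ⟨q, hq⟩)
    exact this.symm
  have h2 := h1.zpow_left j
  rw [hj] at h2
  exact h2.eq

theorem factorization_eq_one_of_selfCent (hx : orderOf x = p)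
    (hC : centralizer ({x} : Set G) = zpowers x) : (Nat.card G).factorization p = 1 := by
  obtain ⟨P, hP⟩ := exists_sylow_eq_zpowers hx hC
  have h1 := P.card_eq_multiplicity
  have h2 : Nat.card (P : Subgroup G) = p := by rw [hP, Nat.card_zpowers, hx]
  rw [h2] at h1
  have h3 : p ^ 1 = p ^ (Nat.card G).factorization p := by rw [pow_one]; exact h1
  exact (Nat.pow_right_injective hp.out.two_le h3).symm

theorem card_sylow_eq_of_selfCent (hx : orderOf x = p)
    (hC : centralizer ({x} : Set G) = zpowers x) (Q : Sylow p G) :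
    Nat.card (Q : Subgroup G) = p := by
  rw [Q.card_eq_multiplicity, factorization_eq_one_of_selfCent hx hC, pow_one]

/-- a subgroup of order prime to `p` meets `⟨x⟩` trivially -/
theorem inf_zpowers_eq_bot (hx : orderOf x = p) (S : Subgroup G) (hS : ¬ p ∣ Nat.card S) :
    S ⊓ zpowers x = ⊥ := by
  apply disjoint_iff.mp
  apply disjoint_of_coprime_natCard
  rw [Nat.card_zpowers, hx]
  exact ((Nat.Prime.coprime_iff_not_dvd hp.out).mpr hS).symm

/-- every element of a normal `p'`-subgroup `S` is a commutator `s x s⁻¹ x⁻¹` with `s ∈ S` -/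
theorem exists_comm_eq (hx : orderOf x = p) (hC : centralizer ({x} : Set G) = zpowers x)
    (S : Subgroup G) [hSn : S.Normal] (hS : ¬ p ∣ Nat.card S) (s₀ : G) (hs₀ : s₀ ∈ S) :
    ∃ s ∈ S, s * x * s⁻¹ * x⁻¹ = s₀ := by
  have hinf := inf_zpowers_eq_bot hx S hS
  let f : S → S := fun s => ⟨s * x * (s : G)⁻¹ * x⁻¹, by
    have h1 : x * (s : G)⁻¹ * x⁻¹ ∈ S := hSn.conj_mem _ (S.inv_mem s.2) x
    have : (s : G) * x * (s : G)⁻¹ * x⁻¹ = s * (x * (s : G)⁻¹ * x⁻¹) := by group
    rw [this]
    exact S.mul_mem s.2 h1⟩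
  have hinj : Function.Injective f := by
    intro s s' h
    have h1 : (s : G) * x * (s : G)⁻¹ * x⁻¹ = s' * x * (s' : G)⁻¹ * x⁻¹ := congrArg Subtype.val h
    have h2 : (s' : G)⁻¹ * s ∈ centralizer ({x} : Set G) := by
      rw [mem_centralizer_iff]
      intro y hy
      rw [Set.mem_singleton_iff] at hy
      subst hy
      have h3 : (s : G) * y * (s : G)⁻¹ = s' * y * (s' : G)⁻¹ := mul_right_cancel h1
      calc y * ((s' : G)⁻¹ * s) = (s' : G)⁻¹ * (s' * y * (s' : G)⁻¹) * s := by group
        _ = (s' : G)⁻¹ * (s * y * (s : G)⁻¹) * s := by rw [h3]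
        _ = (s' : G)⁻¹ * s * y := by group
    rw [hC] at h2
    have h4 : (s' : G)⁻¹ * s ∈ S ⊓ zpowers x := ⟨S.mul_mem (S.inv_mem s'.2) s.2, h2⟩
    rw [hinf, mem_bot] at h4
    apply Subtype.ext
    exact (inv_mul_eq_one.mp h4).symm
  have hsurj := Finite.injective_iff_surjective.mp hinj
  obtain ⟨s, hs⟩ := hsurj ⟨s₀, hs₀⟩
  exact ⟨s, s.2, congrArg Subtype.val hs⟩

/-- commutators of elements normalizing `⟨x⟩` centralize `x` -/
theorem commutatorElement_mem_centralizer_of_mem_normalizer (x : G) {h₁ h₂ : G}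
    (hh₁ : h₁ ∈ normalizer ((zpowers x : Subgroup G) : Set G))
    (hh₂ : h₂ ∈ normalizer ((zpowers x : Subgroup G) : Set G)) :
    ⁅h₁, h₂⁆ ∈ centralizer ({x} : Set G) := by
  have hcyc : IsCyclic (zpowers x) := inferInstance
  let _ := (hcyc.mulAutMulEquiv _).toMonoidHom.commGroupOfInjective
    (hcyc.mulAutMulEquiv _).injective
  have h := Abelianization.commutator_subset_ker (zpowers x).normalizerMonoidHom
  rw [normalizerMonoidHom_ker] at h
  have h1 : ⁅(⟨h₁, hh₁⟩ : normalizer ((zpowers x : Subgroup G) : Set G)),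
      (⟨h₂, hh₂⟩ : normalizer ((zpowers x : Subgroup G) : Set G))⁆
      ∈ _root_.commutator (normalizer ((zpowers x : Subgroup G) : Set G)) := by
    rw [commutator_def]
    exact commutator_mem_commutator (mem_top _) (mem_top _)
  have h2 := h h1
  rw [mem_subgroupOf] at h2
  have h3 : ⁅h₁, h₂⁆ ∈ centralizer ((zpowers x : Subgroup G) : Set G) := h2
  refine centralizer_le ?_ h3
  intro y hy
  rw [Set.mem_singleton_iff] at hy
  subst hy
  exact mem_zpowers y

/-- a normal subgroup of order divisible by `p` contains `x` -/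
theorem zpowers_le_of_dvd_card (hx : orderOf x = p) (hC : centralizer ({x} : Set G) = zpowers x)
    (N : Subgroup G) [hN : N.Normal] (hdvd : p ∣ Nat.card N) : zpowers x ≤ N := by
  obtain ⟨P, hP⟩ := exists_sylow_eq_zpowers hx hC
  obtain ⟨y, hy⟩ := exists_prime_orderOf_dvd_card' p hdvd
  have hy' : orderOf (y : G) = p := by rw [Subgroup.orderOf_coe]; exact hy
  obtain ⟨Q, hQ⟩ := (isPGroup_zpowers hy').exists_le_sylow
  obtain ⟨g, hg⟩ := MulAction.exists_smul_eq G Q P
  have hyQ : (y : G) ∈ (Q : Subgroup G) := hQ (mem_zpowers _)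
  have h1 : g * y * g⁻¹ ∈ (P : Subgroup G) := by
    rw [← hg, Sylow.coe_subgroup_smul]
    have := Subgroup.smul_mem_pointwise_smul (y : G) (MulAut.conj g) (Q : Subgroup G) hyQ
    simpa [MulAut.smul_def] using this
  rw [hP] at h1
  have h2 : g * y * g⁻¹ ∈ N := hN.conj_mem _ y.2 g
  have h3 : g * y * g⁻¹ ≠ 1 := by
    intro h
    have : (y : G) = 1 := by
      have := congrArg (fun t => g⁻¹ * t * g) h
      simpa [mul_assoc] using this
    exact ne_one_of_orderOf_eq_prime hp.out hy' this
  have h4 := mem_zpowers_of_mem_zpowers_prime hp.out hx h1 h3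
  rw [zpowers_le]
  exact (zpowers_le.mpr h2) h4

/-- **(a)**: a normal subgroup of order divisible by `p` contains the commutator subgroup -/
theorem commutator_le_of_dvd_card (hx : orderOf x = p)
    (hC : centralizer ({x} : Set G) = zpowers x)
    (N : Subgroup G) [hN : N.Normal] (hdvd : p ∣ Nat.card N) : commutator G ≤ N := by
  obtain ⟨P, hP⟩ := exists_sylow_eq_zpowers hx hC
  have hxN : zpowers x ≤ N := zpowers_le_of_dvd_card hx hC N hdvd
  have hPN : (P : Subgroup G) ≤ N := hP ▸ hxN
  have hfr := Sylow.normalizer_sup_eq_top' P hPN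
  rw [commutator_def, commutator_le]
  intro a _ b _
  have ha : a ∈ normalizer ((P : Subgroup G) : Set G) ⊔ N := hfr ▸ mem_top a
  have hb : b ∈ normalizer ((P : Subgroup G) : Set G) ⊔ N := hfr ▸ mem_top b
  obtain ⟨h₁, hh₁, n₁, hn₁, rfl⟩ := mem_sup_of_normal_right.mp ha
  obtain ⟨h₂, hh₂, n₂, hn₂, rfl⟩ := mem_sup_of_normal_right.mp hb
  rw [hP] at hh₁ hh₂
  have hc := commutatorElement_mem_centralizer_of_mem_normalizer x hh₁ hh₂
  rw [hC] at hc
  have hcN : ⁅h₁, h₂⁆ ∈ N := hxN hc
  rw [← QuotientGroup.eq_one_iff, ← QuotientGroup.mk'_apply, map_commutatorElement, map_mul,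
    map_mul]
  have e1 : QuotientGroup.mk' N n₁ = 1 := (QuotientGroup.eq_one_iff _).mpr hn₁
  have e2 : QuotientGroup.mk' N n₂ = 1 := (QuotientGroup.eq_one_iff _).mpr hn₂
  rw [e1, e2, mul_one, mul_one, ← map_commutatorElement]
  exact (QuotientGroup.eq_one_iff _).mpr hcN

/-- **(b1)**: a normal `p'`-subgroup has order `≡ 1 mod p` -/
theorem card_mod_eq_one_of_normal (hx : orderOf x = p)
    (hC : centralizer ({x} : Set G) = zpowers x)
    (S : Subgroup G) [hSn : S.Normal] (hS : ¬ p ∣ Nat.card S) : Nat.card S % p = 1 := by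
  classical
  haveI : Fintype S := Fintype.ofFinite S
  let f : Function.End S := fun s => ⟨x * s * x⁻¹, hSn.conj_mem _ s.2 x⟩
  have hiter : ∀ (j : ℕ) (s : S), ((f^[j] s : S) : G) = x ^ j * s * (x ^ j)⁻¹ := by
    intro j
    induction j with
    | zero =>
      intro s
      simp only [pow_zero, one_mul, inv_one, mul_one]
      rfl
    | succ j ih =>
      intro s
      rw [Function.iterate_succ', Function.comp_apply]
      show x * ((f^[j] s : S) : G) * x⁻¹ = _
      rw [ih, pow_succ']
      group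
  have hf : f ^ p ^ 1 = 1 := by
    have h1 : (f ^ p ^ 1 : Function.End S) = f^[p ^ 1] :=
      hom_coe_pow (fun g : Function.End S => g) rfl (fun g h => rfl) f (p ^ 1)
    rw [h1, pow_one]
    funext s
    apply Subtype.ext
    rw [hiter, ← hx, pow_orderOf_eq_one]
    simp only [one_mul, inv_one, mul_one]
    rfl
  have hmod := Equiv.Perm.card_fixedPoints_modEq (p := p) (n := 1) hf
  have hfix : Fintype.card (Function.fixedPoints f) = 1 := by
    rw [Fintype.card_eq_one_iff]
    refine ⟨⟨1, ?_⟩, ?_⟩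
    · show f 1 = 1
      apply Subtype.ext
      simp [f]
    · rintro ⟨s, hs⟩
      apply Subtype.ext
      apply Subtype.ext
      have h1 : x * (s : G) * x⁻¹ = s := congrArg Subtype.val hs
      have h2 : (s : G) ∈ centralizer ({x} : Set G) := by
        rw [mem_centralizer_iff]
        intro y hy
        rw [Set.mem_singleton_iff] at hy
        subst hy
        exact mul_inv_eq_iff_eq_mul.mp h1
      rw [hC] at h2
      have h3 : (s : G) ∈ S ⊓ zpowers x := ⟨s.2, h2⟩
      rw [inf_zpowers_eq_bot hx S hS, mem_bot] at h3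
      exact h3
  rw [Nat.card_eq_fintype_card]
  unfold Nat.ModEq at hmod
  rw [hmod, hfix]
  exact Nat.one_mod_eq_one.mpr hp.out.ne_one

/-- the subgroups of order `p` are the Sylow `p`-subgroups -/
noncomputable def subgroupsEquivSylow (hx : orderOf x = p)
    (hC : centralizer ({x} : Set G) = zpowers x) :
    {H : Subgroup G // Nat.card H = p} ≃ Sylow p G where
  toFun H := Sylow.ofCard (p := p) H.1 (by
    rw [H.2, factorization_eq_one_of_selfCent hx hC, pow_one])
  invFun Q := ⟨Q.1, card_sylow_eq_of_selfCent hx hC Q⟩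
  left_inv H := Subtype.ext rfl
  right_inv Q := Sylow.ext rfl

theorem card_subgroups_eq_index_normalizer (hx : orderOf x = p)
    (hC : centralizer ({x} : Set G) = zpowers x) :
    Nat.card {H : Subgroup G // Nat.card H = p}
      = (normalizer ((zpowers x : Subgroup G) : Set G)).index := by
  obtain ⟨P, hP⟩ := exists_sylow_eq_zpowers hx hC
  rw [Nat.card_congr (subgroupsEquivSylow hx hC), P.card_eq_index_normalizer]
  have : (P : Set G) = ((zpowers x : Subgroup G) : Set G) := by rw [← hP]; rfl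
  rw [this]

theorem inf_normalizer_eq_bot (hx : orderOf x = p)
    (hC : centralizer ({x} : Set G) = zpowers x)
    (S : Subgroup G) [hSn : S.Normal] (hS : ¬ p ∣ Nat.card S) :
    S ⊓ normalizer ((zpowers x : Subgroup G) : Set G) = ⊥ := by
  rw [eq_bot_iff]
  rintro s ⟨hsS, hsN⟩
  have h1 : s * x * s⁻¹ ∈ zpowers x := (mem_normalizer_iff.mp hsN x).mp (mem_zpowers x)
  have h2 : s * x * s⁻¹ * x⁻¹ ∈ zpowers x := mul_mem h1 (inv_mem (mem_zpowers x))
  have h3 : s * x * s⁻¹ * x⁻¹ ∈ S := by
    have h : x * s⁻¹ * x⁻¹ ∈ S := hSn.conj_mem _ (S.inv_mem hsS) x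
    have : s * x * s⁻¹ * x⁻¹ = s * (x * s⁻¹ * x⁻¹) := by group
    rw [this]
    exact S.mul_mem hsS h
  have h4 : s * x * s⁻¹ * x⁻¹ = 1 := by
    have : s * x * s⁻¹ * x⁻¹ ∈ S ⊓ zpowers x := ⟨h3, h2⟩
    rwa [inf_zpowers_eq_bot hx S hS, mem_bot] at this
  have h5 : s ∈ centralizer ({x} : Set G) := by
    rw [mem_centralizer_iff]
    intro y hy
    rw [Set.mem_singleton_iff] at hy
    subst hy
    have h6 : s * y * s⁻¹ = y := mul_inv_eq_one.mp h4
    exact (mul_inv_eq_iff_eq_mul.mp h6).symm
  rw [hC] at h5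
  have : s ∈ S ⊓ zpowers x := ⟨hsS, h5⟩
  rwa [inf_zpowers_eq_bot hx S hS] at this

/-- **(b2)**: the order of a normal `p'`-subgroup divides the number of subgroups of order `p` -/
theorem card_dvd_card_subgroups (hx : orderOf x = p)
    (hC : centralizer ({x} : Set G) = zpowers x)
    (S : Subgroup G) [hSn : S.Normal] (hS : ¬ p ∣ Nat.card S) :
    Nat.card S ∣ Nat.card {H : Subgroup G // Nat.card H = p} := by
  rw [card_subgroups_eq_index_normalizer hx hC]
  set N := normalizer ((zpowers x : Subgroup G) : Set G) with hN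
  have h1 : S.relIndex (S ⊔ N) = Nat.card N := by
    rw [relIndex_sup_left, ← inf_relIndex_right, inf_normalizer_eq_bot hx hC S hS,
      relIndex_bot_left]
  have h2 : Nat.card S * S.relIndex (S ⊔ N) = Nat.card (S ⊔ N : Subgroup G) := by
    have := relIndex_mul_relIndex ⊥ S (S ⊔ N) bot_le le_sup_left
    rwa [relIndex_bot_left, relIndex_bot_left] at this
  have h3 : Nat.card (S ⊔ N : Subgroup G) ∣ Nat.card G := card_subgroup_dvd_card _
  rw [← h2, h1, ← N.card_mul_index, mul_comm (Nat.card S)] at h3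
  exact Nat.dvd_of_mul_dvd_mul_left Nat.card_pos h3

/-- **(b3)** -/
theorem orderOf_mk_eq (hx : orderOf x = p)
    (S : Subgroup G) [hSn : S.Normal] (hS : ¬ p ∣ Nat.card S) :
    orderOf (QuotientGroup.mk x : G ⧸ S) = p := by
  apply orderOf_eq_prime
  · rw [← QuotientGroup.mk_pow, ← hx, pow_orderOf_eq_one]
    rfl
  · intro h
    have h1 : x ∈ S := (QuotientGroup.eq_one_iff x).mp h
    have h2 : x ∈ S ⊓ zpowers x := ⟨h1, mem_zpowers x⟩
    rw [inf_zpowers_eq_bot hx S hS, mem_bot] at h2
    exact ne_one_of_orderOf_eq_prime hp.out hx h2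

/-- **(b4)** -/
theorem centralizer_mk_eq (hx : orderOf x = p)
    (hC : centralizer ({x} : Set G) = zpowers x)
    (S : Subgroup G) [hSn : S.Normal] (hS : ¬ p ∣ Nat.card S) :
    centralizer ({(QuotientGroup.mk x : G ⧸ S)} : Set (G ⧸ S))
      = zpowers (QuotientGroup.mk x : G ⧸ S) := by
  apply le_antisymm
  · intro c hc
    obtain ⟨g, rfl⟩ := QuotientGroup.mk_surjective c
    rw [mem_centralizer_iff] at hc
    have h1 : (QuotientGroup.mk x : G ⧸ S) * QuotientGroup.mk g
        = QuotientGroup.mk g * QuotientGroup.mk x := hc _ rfl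
    have h2 : g * x * g⁻¹ * x⁻¹ ∈ S := by
      rw [← QuotientGroup.eq_one_iff]
      have : ((g * x * g⁻¹ * x⁻¹ : G) : G ⧸ S)
          = (QuotientGroup.mk g * QuotientGroup.mk x) * (QuotientGroup.mk g)⁻¹
            * (QuotientGroup.mk x)⁻¹ := rfl
      rw [this, ← h1]
      group
    obtain ⟨s, hsS, hs⟩ := exists_comm_eq hx hC S hS _ h2
    have h3 : s * x * s⁻¹ = g * x * g⁻¹ := mul_right_cancel hs
    have h4 : s⁻¹ * g ∈ centralizer ({x} : Set G) := by
      rw [mem_centralizer_iff]
      intro y hy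
      rw [Set.mem_singleton_iff] at hy
      subst hy
      calc y * (s⁻¹ * g) = s⁻¹ * (s * y * s⁻¹) * g := by group
        _ = s⁻¹ * (g * y * g⁻¹) * g := by rw [h3]
        _ = s⁻¹ * g * y := by group
    rw [hC] at h4
    obtain ⟨k, hk⟩ := mem_zpowers_iff.mp h4
    rw [mem_zpowers_iff]
    refine ⟨k, ?_⟩
    have h5 : g = s * x ^ k := by rw [hk]; group
    rw [h5, QuotientGroup.mk_mul, (QuotientGroup.eq_one_iff s).mpr hsS, one_mul,
      QuotientGroup.mk_zpow]
  · rw [zpowers_le, mem_centralizer_iff]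
    intro y hy
    rw [Set.mem_singleton_iff] at hy
    rw [hy]

end SelfCent

end Cfsg.Agent.Helper8
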