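import Mathlib
import Cfsg.Agent.Helper8.SelfCent
import Cfsg.Agent.Helper20.Basic

set_option autoImplicit false
set_option linter.style.haveILetI false
set_option linter.unusedSectionVars false
set_option linter.unusedVariables false

/-! # Counting classes of elements of order `p` when `C_G(x) = ⟨x⟩` -/

namespace Cfsg.Agent.Helper8

open Subgroup
open scoped commutatorElement

section Count

variable {G : Type*} [Group G] [Finite G] {p : ℕ} [hp : Fact p.Prime] {x : G}

/-- every element of order `p` is self-centralizing -/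
theorem centralizer_eq_zpowers_of_orderOf (hx : orderOf x = p)
    (hC : centralizer ({x} : Set G) = zpowers x) (g : G) (hg : orderOf g = p) :
    centralizer ({g} : Set G) = zpowers g := by
  obtain ⟨P, hP⟩ := exists_sylow_eq_zpowers hx hC
  obtain ⟨Q, hQ⟩ := (isPGroup_zpowers hg).exists_le_sylow
  obtain ⟨a, ha⟩ := MulAction.exists_smul_eq G Q P
  have hgQ : g ∈ (Q : Subgroup G) := hQ (mem_zpowers _)
  have h1 : a * g * a⁻¹ ∈ (P : Subgroup G) := by
    rw [← ha, Sylow.coe_subgroup_smul]
    have := Subgroup.smul_mem_pointwise_smul g (MulAut.conj a) (Q : Subgroup G) hgQ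
    simpa [MulAut.smul_def] using this
  rw [hP] at h1
  have h3 : a * g * a⁻¹ ≠ 1 := by
    intro h
    have : g = 1 := by
      have := congrArg (fun t => a⁻¹ * t * a) h
      simpa [mul_assoc] using this
    exact ne_one_of_orderOf_eq_prime hp.out hg this
  have h4 := centralizer_eq_of_mem_zpowers hp.out hx h1 h3
  have h5 : zpowers (a * g * a⁻¹) = zpowers x := by
    apply le_antisymm (zpowers_le.mpr h1)
    exact zpowers_le.mpr (mem_zpowers_of_mem_zpowers_prime hp.out hx h1 h3)
  apply le_antisymm
  · intro c hc
    rw [mem_centralizer_iff] at hc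
    have hcg : g * c = c * g := hc g rfl
    have h6 : a * c * a⁻¹ ∈ centralizer ({a * g * a⁻¹} : Set G) := by
      rw [mem_centralizer_iff]
      intro y hy
      rw [Set.mem_singleton_iff] at hy
      subst hy
      calc a * g * a⁻¹ * (a * c * a⁻¹) = a * (g * c) * a⁻¹ := by group
        _ = a * (c * g) * a⁻¹ := by rw [hcg]
        _ = a * c * a⁻¹ * (a * g * a⁻¹) := by group
    rw [h4, hC, ← h5] at h6
    obtain ⟨k, hk⟩ := mem_zpowers_iff.mp h6
    rw [mem_zpowers_iff]
    refine ⟨k, ?_⟩
    have h7 : (a * g * a⁻¹) ^ k = a * g ^ k * a⁻¹ := by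
      have := map_zpow (MulAut.conj a) g k
      simpa [MulAut.conj_apply] using this
    rw [h7] at hk
    have := congrArg (fun t => a⁻¹ * t * a) hk
    simpa [mul_assoc] using this
  · rw [zpowers_le, mem_centralizer_iff]
    intro y hy
    rw [Set.mem_singleton_iff] at hy
    rw [hy]

/-- counting the elements of order `p` by conjugacy classes -/
theorem card_orderOf_eq_classes (hx : orderOf x = p)
    (hC : centralizer ({x} : Set G) = zpowers x) :
    Nat.card {g : G // orderOf g = p}
      = Nat.card {C : ConjClasses G // ∃ g ∈ C.carrier, orderOf g = p} * (Nat.card G / p) := by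
  classical
  haveI : Fintype G := Fintype.ofFinite G
  haveI : Fintype (ConjClasses G) := Fintype.ofFinite _
  rw [Nat.card_eq_fintype_card, Nat.card_eq_fintype_card, Fintype.card_subtype,
    Fintype.card_subtype]
  have hH : ∀ g ∈ Finset.univ.filter (fun g : G => orderOf g = p),
      ConjClasses.mk g ∈ Finset.univ.filter
        (fun C : ConjClasses G => ∃ g ∈ C.carrier, orderOf g = p) := by
    intro g hg
    rw [Finset.mem_filter] at hg ⊢
    exact ⟨Finset.mem_univ _, g, ConjClasses.mem_carrier_mk, hg.2⟩
  rw [Finset.card_eq_sum_card_fiberwise hH]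
  apply Finset.sum_const_nat
  intro C hC'
  rw [Finset.mem_filter] at hC'
  obtain ⟨-, g₀, hg₀C, hg₀⟩ := hC'
  have hCeq : ConjClasses.mk g₀ = C := ConjClasses.mem_carrier_iff_mk_eq.mp hg₀C
  subst hCeq
  have hset : (Finset.univ.filter (fun g : G => orderOf g = p)).filter
      (fun g => ConjClasses.mk g = ConjClasses.mk g₀)
      = (ConjClasses.mk g₀).carrier.toFinset := by
    ext g
    simp only [Finset.mem_filter, Finset.mem_univ, true_and, Set.mem_toFinset,
      ConjClasses.mem_carrier_iff_mk_eq]
    constructor
    · exact fun h => h.2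
    · intro h
      refine ⟨?_, h⟩
      have hc : IsConj g g₀ := ConjClasses.mk_eq_mk_iff_isConj.mp h
      obtain ⟨c, hc⟩ := isConj_iff.mp hc
      rw [← hg₀, ← hc]
      exact ((MulAut.conj c).orderOf_eq g).symm
  rw [hset, ← Set.ncard_eq_toFinset_card', Cfsg.Agent.Helper20.ncard_carrier_eq_index]
  have hcard : Nat.card (centralizer ({g₀} : Set G)) = p := by
    rw [centralizer_eq_zpowers_of_orderOf hx hC g₀ hg₀, Nat.card_zpowers, hg₀]
  have := (centralizer ({g₀} : Set G)).card_mul_index
  rw [hcard] at this
  exact (Nat.div_eq_of_eq_mul_right hp.out.pos this.symm).symm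

/-- counting the elements of order `p` by the subgroups they generate -/
theorem card_orderOf_eq_subgroups :
    Nat.card {g : G // orderOf g = p}
      = Nat.card {H : Subgroup G // Nat.card H = p} * (p - 1) := by
  classical
  haveI : Fintype G := Fintype.ofFinite G
  haveI : Fintype (Subgroup G) := Fintype.ofFinite _
  rw [Nat.card_eq_fintype_card, Nat.card_eq_fintype_card, Fintype.card_subtype,
    Fintype.card_subtype]
  have hH : ∀ g ∈ Finset.univ.filter (fun g : G => orderOf g = p),
      zpowers g ∈ Finset.univ.filter (fun H : Subgroup G => Nat.card H = p) := by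
    intro g hg
    rw [Finset.mem_filter] at hg ⊢
    exact ⟨Finset.mem_univ _, by rw [Nat.card_zpowers, hg.2]⟩
  rw [Finset.card_eq_sum_card_fiberwise hH]
  apply Finset.sum_const_nat
  intro H hH'
  rw [Finset.mem_filter] at hH'
  have hHp : Nat.card H = p := hH'.2
  have hset : (Finset.univ.filter (fun g : G => orderOf g = p)).filter
      (fun g => zpowers g = H) = (Finset.univ.filter (fun g : G => g ∈ H)).erase 1 := by
    ext g
    simp only [Finset.mem_filter, Finset.mem_univ, true_and, Finset.mem_erase]
    constructor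
    · rintro ⟨h1, h2⟩
      refine ⟨ne_one_of_orderOf_eq_prime hp.out h1, ?_⟩
      rw [← h2]
      exact mem_zpowers g
    · rintro ⟨h1, h2⟩
      have hdvd : orderOf g ∣ p := hHp ▸ Subgroup.orderOf_dvd_natCard H h2
      have hog : orderOf g = p := by
        rcases (Nat.dvd_prime hp.out).mp hdvd with h | h
        · exact absurd (orderOf_eq_one_iff.mp h) h1
        · exact h
      refine ⟨hog, ?_⟩
      apply Subgroup.eq_of_le_of_card_ge (zpowers_le.mpr h2)
      rw [Nat.card_zpowers, hog, hHp]
  have hcardH : (Finset.univ.filter (fun g : G => g ∈ H)).card = p := by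
    rw [← hHp]
    exact (Fintype.card_subtype _).symm.trans (Nat.card_eq_fintype_card).symm
  rw [hset, Finset.card_erase_of_mem, hcardH]
  rw [Finset.mem_filter]
  exact ⟨Finset.mem_univ _, H.one_mem⟩

/-- `t · |N_G(⟨x⟩) : ⟨x⟩| = p − 1` -/
theorem card_classes_mul_relIndex (hx : orderOf x = p)
    (hC : centralizer ({x} : Set G) = zpowers x) :
    Nat.card {C : ConjClasses G // ∃ g ∈ C.carrier, orderOf g = p}
      * (zpowers x).relIndex (normalizer ((zpowers x : Subgroup G) : Set G)) = p - 1 := by
  set N := normalizer ((zpowers x : Subgroup G) : Set G) with hN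
  set t := Nat.card {C : ConjClasses G // ∃ g ∈ C.carrier, orderOf g = p} with ht
  set e := (zpowers x).relIndex N with he
  have h1 := card_orderOf_eq_classes hx hC
  rw [card_orderOf_eq_subgroups, card_subgroups_eq_index_normalizer hx hC, ← hN, ← ht] at h1
  have h2 : p * e = Nat.card N := by
    have := relIndex_mul_relIndex ⊥ (zpowers x) N bot_le le_normalizer
    rwa [relIndex_bot_left, relIndex_bot_left, Nat.card_zpowers, hx] at this
  have h3 : Nat.card G / p = e * N.index := by
    rw [← N.card_mul_index, ← h2, mul_assoc, Nat.mul_div_cancel_left _ hp.out.pos]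
  rw [h3] at h1
  have hpos : 0 < N.index := Nat.pos_of_ne_zero (Subgroup.index_ne_zero_of_finite)
  have h4 : N.index * (p - 1) = N.index * (t * e) := by rw [h1]; ring
  exact (Nat.eq_of_mul_eq_mul_left hpos h4).symm

theorem zpowers_le_commutator_of_relIndex_ne_one (hx : orderOf x = p)
    (hC : centralizer ({x} : Set G) = zpowers x)
    (he : (zpowers x).relIndex (normalizer ((zpowers x : Subgroup G) : Set G)) ≠ 1) :
    zpowers x ≤ commutator G := by
  have hnle : ¬ normalizer ((zpowers x : Subgroup G) : Set G) ≤ zpowers x :=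
    fun h => he (relIndex_eq_one.mpr h)
  obtain ⟨h, hhN, hhP⟩ := SetLike.not_le_iff_exists.mp hnle
  have h1 : h * x * h⁻¹ ∈ zpowers x := (mem_normalizer_iff.mp hhN x).mp (mem_zpowers x)
  have h2 : h * x * h⁻¹ * x⁻¹ ∈ zpowers x := mul_mem h1 (inv_mem (mem_zpowers x))
  have h3 : h * x * h⁻¹ * x⁻¹ ≠ 1 := by
    intro h4
    apply hhP
    rw [← hC, mem_centralizer_iff]
    intro y hy
    rw [Set.mem_singleton_iff] at hy
    subst hy
    have h6 : h * y * h⁻¹ = y := mul_inv_eq_one.mp h4
    exact (mul_inv_eq_iff_eq_mul.mp h6).symm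
  have h5 : h * x * h⁻¹ * x⁻¹ ∈ commutator G := by
    rw [commutator_def]
    exact commutator_mem_commutator (mem_top h) (mem_top x)
  have h6 := mem_zpowers_of_mem_zpowers_prime hp.out hx h2 h3
  rw [zpowers_le]
  exact (zpowers_le.mpr h5) h6

theorem index_commutator_dvd_relIndex (hx : orderOf x = p)
    (hC : centralizer ({x} : Set G) = zpowers x)
    (he : (zpowers x).relIndex (normalizer ((zpowers x : Subgroup G) : Set G)) ≠ 1) :
    (commutator G).index ∣
      (zpowers x).relIndex (normalizer ((zpowers x : Subgroup G) : Set G)) := by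
  have hle := zpowers_le_commutator_of_relIndex_ne_one hx hC he
  obtain ⟨P, hP⟩ := exists_sylow_eq_zpowers hx hC
  have hfr := Sylow.normalizer_sup_eq_top' P (hP ▸ hle : (P : Subgroup G) ≤ commutator G)
  have hset : (P : Set G) = ((zpowers x : Subgroup G) : Set G) := by rw [← hP]; rfl
  rw [hset] at hfr
  rw [← relIndex_top_right, ← hfr, relIndex_sup_right]
  exact relIndex_dvd_of_le_left _ hle

theorem index_commutator_eq_of_relIndex_eq_one (hx : orderOf x = p)
    (hC : centralizer ({x} : Set G) = zpowers x)
    (he : (zpowers x).relIndex (normalizer ((zpowers x : Subgroup G) : Set G)) = 1) :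
    (commutator G).index = p := by
  obtain ⟨P, hP⟩ := exists_sylow_eq_zpowers hx hC
  have hset : (P : Set G) = ((zpowers x : Subgroup G) : Set G) := by rw [← hP]; rfl
  have hNP : normalizer (P : Set G) ≤ zpowers x := by
    rw [hset]
    exact relIndex_eq_one.mp he
  have hPc : normalizer (P : Set G) ≤ centralizer (P : Set G) := by
    intro n hn
    have hnP := hNP hn
    rw [mem_centralizer_iff]
    intro y hy
    have hy' : y ∈ zpowers x := by
      rw [hset] at hy
      exact hy
    obtain ⟨i, rfl⟩ := mem_zpowers_iff.mp hnP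
    obtain ⟨j, rfl⟩ := mem_zpowers_iff.mp hy'
    rw [← zpow_add, ← zpow_add, add_comm]
  have hcomp := MonoidHom.ker_transferSylow_isComplement' P hPc
  have hK1 : ¬ p ∣ Nat.card (MonoidHom.transferSylow P hPc).ker :=
    MonoidHom.not_dvd_card_ker_transferSylow P hPc
  have hidx : (MonoidHom.transferSylow P hPc).ker.index = p := by
    rw [hcomp.symm.index_eq_card]
    exact card_sylow_eq_of_selfCent hx hC P
  have h1 : commutator G ≤ (MonoidHom.transferSylow P hPc).ker := by
    rw [commutator_def, commutator_le]
    intro a _ b _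
    rw [MonoidHom.mem_ker, map_commutatorElement, commutatorElement_eq_one_iff_commute]
    have ha := ((MonoidHom.transferSylow P hPc) a).2
    have hb := ((MonoidHom.transferSylow P hPc) b).2
    have ha' : (((MonoidHom.transferSylow P hPc) a : (P : Subgroup G)) : G) ∈ zpowers x := by
      rw [← hP]; exact ha
    have hb' : (((MonoidHom.transferSylow P hPc) b : (P : Subgroup G)) : G) ∈ zpowers x := by
      rw [← hP]; exact hb
    obtain ⟨i, hi⟩ := mem_zpowers_iff.mp ha'
    obtain ⟨j, hj⟩ := mem_zpowers_iff.mp hb'
    apply Subtype.ext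
    show (((MonoidHom.transferSylow P hPc) a : (P : Subgroup G)) : G)
        * (((MonoidHom.transferSylow P hPc) b : (P : Subgroup G)) : G)
      = (((MonoidHom.transferSylow P hPc) b : (P : Subgroup G)) : G)
        * (((MonoidHom.transferSylow P hPc) a : (P : Subgroup G)) : G)
    rw [← hi, ← hj, ← zpow_add, ← zpow_add, add_comm]
  have h2 : (MonoidHom.transferSylow P hPc).ker ≤ commutator G := by
    intro k hk
    obtain ⟨s, hs, hsk⟩ := exists_comm_eq hx hC _ hK1 k hk
    rw [← hsk, commutator_def]
    exact commutator_mem_commutator (mem_top s) (mem_top x)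
  rw [le_antisymm h1 h2, hidx]

/-- **Index of the commutator subgroup** (S4495) -/
theorem selfCent_commutator_index (hx : orderOf x = p)
    (hC : centralizer ({x} : Set G) = zpowers x) (t : ℕ)
    (ht : Nat.card {C : ConjClasses G // ∃ g ∈ C.carrier, orderOf g = p} = t) :
    (t ≠ p - 1 → (commutator G).index * t ≤ p - 1) ∧
      (t = p - 1 → (commutator G).index = p) := by
  have hte := card_classes_mul_relIndex hx hC
  rw [ht] at hte
  have hp1 : 0 < p - 1 := Nat.sub_pos_of_lt hp.out.one_lt
  constructor
  · intro hne
    have he : (zpowers x).relIndex (normalizer ((zpowers x : Subgroup G) : Set G)) ≠ 1 := by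
      intro h
      rw [h, mul_one] at hte
      exact hne hte
    have hdvd := index_commutator_dvd_relIndex hx hC he
    have hepos : 0 < (zpowers x).relIndex (normalizer ((zpowers x : Subgroup G) : Set G)) := by
      rcases Nat.eq_zero_or_pos
        ((zpowers x).relIndex (normalizer ((zpowers x : Subgroup G) : Set G))) with h | h
      · rw [h, mul_zero] at hte
        omega
      · exact h
    have hle := Nat.le_of_dvd hepos hdvd
    calc (commutator G).index * t
        ≤ (zpowers x).relIndex (normalizer ((zpowers x : Subgroup G) : Set G)) * t :=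
          Nat.mul_le_mul_right _ hle
      _ = p - 1 := by rw [mul_comm]; exact hte
  · intro heq
    have he : (zpowers x).relIndex (normalizer ((zpowers x : Subgroup G) : Set G)) = 1 := by
      rw [heq] at hte
      have : (p - 1) * (zpowers x).relIndex (normalizer ((zpowers x : Subgroup G) : Set G))
          = (p - 1) * 1 := by rw [hte, mul_one]
      exact Nat.eq_of_mul_eq_mul_left hp1 this
    exact index_commutator_eq_of_relIndex_eq_one hx hC he

end Count

end Cfsg.Agent.Helper8
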