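import Mathlib

/-!
Fourier analysis on `ℤ/n` in elementary form: root sums `∑ w_i ω_i^j`, Parseval, and the
"one exceptional multiplicity" lemma.
-/

set_option autoImplicit false

namespace Cfsg.Agent.Helper8.CycFourier

open Finset

/-- Geometric sum of a root of unity. -/
theorem geom_root (n : ℕ) (ξ : ℂ) (hξ : ξ ^ n = 1) :
    ∑ k ∈ range n, ξ ^ k = if ξ = 1 then (n : ℂ) else 0 := by
  split_ifs with h
  · subst h; simp
  · rw [geom_sum_eq h, hξ, sub_self, zero_div]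

/-- Regroup a root sum by exponents of a primitive root. -/
theorem exists_coeff {n : ℕ} (hn : 0 < n) {ζ : ℂ} (hζ : IsPrimitiveRoot ζ n)
    {ι : Type*} [Fintype ι] (w : ι → ℕ) (ω : ι → ℂ) (hω : ∀ i, ω i ^ n = 1) :
    ∃ a : ℕ → ℕ, ∀ j : ℕ,
      ∑ i, (w i : ℂ) * ω i ^ j = ∑ k ∈ range n, (a k : ℂ) * (ζ ^ k) ^ j := by
  classical
  haveI : NeZero n := ⟨hn.ne'⟩
  have hex : ∀ i, ∃ k, k < n ∧ ζ ^ k = ω i := fun i => hζ.eq_pow_of_pow_eq_one (hω i)
  choose κ hκn hκ using hex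
  refine ⟨fun k => ∑ i ∈ univ.filter (fun i => κ i = k), w i, fun j => ?_⟩
  have h1 : ∀ k ∈ range n,
      ((∑ i ∈ univ.filter (fun i => κ i = k), w i : ℕ) : ℂ) * (ζ ^ k) ^ j
      = ∑ i ∈ univ.filter (fun i => κ i = k), (w i : ℂ) * ω i ^ j := by
    intro k _
    rw [Nat.cast_sum, Finset.sum_mul]
    refine Finset.sum_congr rfl ?_
    intro i hi
    rw [← (Finset.mem_filter.mp hi).2, hκ]
  rw [Finset.sum_congr rfl h1]
  rw [Finset.sum_fiberwise_of_maps_to]
  intro i _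
  exact Finset.mem_range.mpr (hκn i)

/-- Parseval on `ℤ/n`. -/
theorem parseval {n : ℕ} (hn : 0 < n) {ζ : ℂ} (hζ : IsPrimitiveRoot ζ n) (a : ℕ → ℕ) :
    ∑ j ∈ range n, (∑ k ∈ range n, (a k : ℂ) * (ζ ^ k) ^ j) *
        (starRingEnd ℂ) (∑ k ∈ range n, (a k : ℂ) * (ζ ^ k) ^ j)
      = (n : ℂ) * ∑ k ∈ range n, (a k : ℂ) ^ 2 := by
  have hnorm : ‖ζ‖ = 1 := Complex.norm_eq_one_of_pow_eq_one hζ.pow_eq_one hn.ne'
  have hconj : (starRingEnd ℂ) ζ = ζ⁻¹ := (Complex.inv_eq_conj hnorm).symm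
  have hζ0 : ζ ≠ 0 := hζ.ne_zero hn.ne'
  calc ∑ j ∈ range n, (∑ k ∈ range n, (a k : ℂ) * (ζ ^ k) ^ j) *
        (starRingEnd ℂ) (∑ k ∈ range n, (a k : ℂ) * (ζ ^ k) ^ j)
      = ∑ j ∈ range n, ∑ k ∈ range n, ∑ l ∈ range n,
          (a k : ℂ) * (a l : ℂ) * ((ζ ^ k) * (ζ ^ l)⁻¹) ^ j := by
        refine sum_congr rfl fun j _ => ?_
        rw [map_sum, Finset.sum_mul_sum]
        refine sum_congr rfl fun k _ => sum_congr rfl fun l _ => ?_
        rw [map_mul, Complex.conj_natCast, map_pow, map_pow, hconj, mul_pow, inv_pow, inv_pow]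
        ring
    _ = ∑ k ∈ range n, ∑ l ∈ range n,
          (a k : ℂ) * (a l : ℂ) * ∑ j ∈ range n, ((ζ ^ k) * (ζ ^ l)⁻¹) ^ j := by
        rw [sum_comm]
        refine sum_congr rfl fun k _ => ?_
        rw [sum_comm]
        refine sum_congr rfl fun l _ => ?_
        rw [mul_sum]
    _ = ∑ k ∈ range n, ∑ l ∈ range n,
          (a k : ℂ) * (a l : ℂ) * (if k = l then (n : ℂ) else 0) := by
        refine sum_congr rfl fun k hk => sum_congr rfl fun l hl => ?_
        have hpow : ((ζ ^ k) * (ζ ^ l)⁻¹) ^ n = 1 := by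
          rw [mul_pow, inv_pow, ← pow_mul, ← pow_mul, mul_comm k n, mul_comm l n, pow_mul, pow_mul,
            hζ.pow_eq_one, one_pow, one_pow, inv_one, mul_one]
        rw [geom_root n _ hpow]
        congr 1
        have hiff : (ζ ^ k * (ζ ^ l)⁻¹ = 1) ↔ k = l := by
          constructor
          · intro h
            have h2 : ζ ^ k = ζ ^ l := by
              have hl0 : ζ ^ l ≠ 0 := pow_ne_zero _ hζ0
              field_simp at h
              exact h
            exact hζ.pow_inj (mem_range.mp hk) (mem_range.mp hl) h2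
          · intro h
            rw [h]
            exact mul_inv_cancel₀ (pow_ne_zero _ hζ0)
        by_cases hkl : k = l
        · rw [if_pos hkl, if_pos (hiff.mpr hkl)]
        · rw [if_neg hkl, if_neg (fun h => hkl (hiff.mp h))]
    _ = (n : ℂ) * ∑ k ∈ range n, (a k : ℂ) ^ 2 := by
        rw [mul_sum]
        refine sum_congr rfl fun k hk => ?_
        rw [sum_eq_single k]
        · rw [if_pos rfl]; ring
        · intro l _ hlk
          rw [if_neg (fun h => hlk h.symm), mul_zero]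
        · intro h; exact absurd hk h

/-- Value of a root sum whose multiplicities are constant up to one exception. -/
theorem eval_const_add {n : ℕ} {ζ : ℂ} (hζ : IsPrimitiveRoot ζ n) (m ε : ℂ) (k₀ : ℕ)
    (hk₀ : k₀ < n) (a : ℕ → ℂ) (ha : ∀ k < n, a k = m + if k = k₀ then ε else 0)
    (j : ℕ) (hj0 : 0 < j) (hjn : j < n) :
    ∑ k ∈ range n, a k * (ζ ^ k) ^ j = ε * (ζ ^ k₀) ^ j := by
  have hne : ζ ^ j ≠ 1 := hζ.pow_ne_one_of_pos_of_lt hj0.ne' hjn
  have hpow : (ζ ^ j) ^ n = 1 := by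
    rw [← pow_mul, mul_comm, pow_mul, hζ.pow_eq_one, one_pow]
  have h0 : ∑ k ∈ range n, (ζ ^ j) ^ k = 0 := by
    rw [geom_root n _ hpow, if_neg hne]
  calc ∑ k ∈ range n, a k * (ζ ^ k) ^ j
      = ∑ k ∈ range n, (m * (ζ ^ j) ^ k + (if k = k₀ then ε else 0) * (ζ ^ k) ^ j) := by
        refine sum_congr rfl fun k hk => ?_
        rw [ha k (mem_range.mp hk), add_mul, ← pow_mul, ← pow_mul, mul_comm j k]
    _ = m * ∑ k ∈ range n, (ζ ^ j) ^ k +
          ∑ k ∈ range n, (if k = k₀ then ε else 0) * (ζ ^ k) ^ j := by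
        rw [sum_add_distrib, mul_sum]
    _ = ε * (ζ ^ k₀) ^ j := by
        rw [h0, mul_zero, zero_add, sum_eq_single k₀]
        · rw [if_pos rfl]
        · intro k _ hk
          rw [if_neg hk, zero_mul]
        · intro h; exact absurd (mem_range.mpr hk₀) h

/-- Value at `0` of a root sum. -/
theorem eval_zero (n : ℕ) (ζ : ℂ) (a : ℕ → ℂ) :
    ∑ k ∈ range n, a k * (ζ ^ k) ^ 0 = ∑ k ∈ range n, a k := by
  refine sum_congr rfl fun k _ => ?_
  rw [pow_zero, mul_one]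

end Cfsg.Agent.Helper8.CycFourier
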