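import Mathlib

/-!
Multiplicity vectors `a : ℕ → ℕ` on `range n` with `n ∑ a² - (∑ a)² ∈ {0, n - 1}`.
-/

set_option autoImplicit false

namespace Cfsg.Agent.Helper8.CycLevel

open Finset

/-- A `0/1` vector with sum `1` is an indicator. -/
theorem unique_one {n : ℕ} (c : ℕ → ℤ) (h01 : ∀ k < n, c k = 0 ∨ c k = 1)
    (hsum : ∑ k ∈ range n, c k = 1) :
    ∃ k₀ < n, ∀ k < n, c k = if k = k₀ then 1 else 0 := by
  classical
  have hex : ∃ k₀ ∈ range n, c k₀ ≠ 0 := by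
    by_contra hcon
    push Not at hcon
    rw [Finset.sum_eq_zero hcon] at hsum
    exact zero_ne_one hsum
  obtain ⟨k₀, hk₀, hne⟩ := hex
  have h1 : c k₀ = 1 := (h01 k₀ (mem_range.mp hk₀)).resolve_left hne
  refine ⟨k₀, mem_range.mp hk₀, ?_⟩
  have hrest : ∑ k ∈ (range n).erase k₀, c k = 0 := by
    have := Finset.add_sum_erase (range n) c hk₀
    rw [hsum, h1] at this
    linarith
  have hnonneg : ∀ k ∈ (range n).erase k₀, 0 ≤ c k := by
    intro k hk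
    rcases h01 k (mem_range.mp (mem_of_mem_erase hk)) with h | h <;> rw [h] <;> norm_num
  have hz := (Finset.sum_eq_zero_iff_of_nonneg hnonneg).mp hrest
  intro k hk
  split_ifs with hkk
  · rw [hkk, h1]
  · exact hz k (mem_erase.mpr ⟨hkk, mem_range.mpr hk⟩)

/-- Normal form: subtract the integer mean. -/
theorem setup {n : ℕ} (hn : 0 < n) (a : ℕ → ℕ) :
    ∃ (m : ℕ) (r : ℤ) (b : ℕ → ℤ), 0 ≤ r ∧ r < n ∧ (∀ k, (a k : ℤ) = m + b k) ∧
      ∑ k ∈ range n, b k = r ∧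
      (n : ℤ) * ∑ k ∈ range n, (a k : ℤ) ^ 2 - (∑ k ∈ range n, (a k : ℤ)) ^ 2 =
        n * ∑ k ∈ range n, (b k) ^ 2 - r ^ 2 ∧
      r ≤ ∑ k ∈ range n, (b k) ^ 2 := by
  obtain ⟨Nn, hNn⟩ : ∃ Nn : ℕ, Nn = ∑ k ∈ range n, a k := ⟨_, rfl⟩
  have hdm : (n : ℤ) * ((Nn / n : ℕ) : ℤ) + ((Nn % n : ℕ) : ℤ) = (Nn : ℤ) := by
    exact_mod_cast Nat.div_add_mod Nn n
  have hN : ∑ k ∈ range n, (a k : ℤ) = (Nn : ℤ) := by
    rw [hNn]; push_cast; rfl
  have hsumb : ∑ k ∈ range n, ((a k : ℤ) - ((Nn / n : ℕ) : ℤ)) = ((Nn % n : ℕ) : ℤ) := by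
    rw [sum_sub_distrib, hN, sum_const, card_range, nsmul_eq_mul]
    linarith
  refine ⟨Nn / n, ((Nn % n : ℕ) : ℤ), fun k => (a k : ℤ) - ((Nn / n : ℕ) : ℤ), ?_, ?_, ?_, hsumb,
    ?_, ?_⟩
  · exact Int.natCast_nonneg _
  · exact_mod_cast Nat.mod_lt Nn hn
  · intro k; ring
  · have hsq : ∑ k ∈ range n, (a k : ℤ) ^ 2 =
        ∑ k ∈ range n, ((a k : ℤ) - ((Nn / n : ℕ) : ℤ)) ^ 2 +
          2 * ((Nn / n : ℕ) : ℤ) * ∑ k ∈ range n, ((a k : ℤ) - ((Nn / n : ℕ) : ℤ)) +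
          (n : ℤ) * ((Nn / n : ℕ) : ℤ) ^ 2 := by
      rw [mul_sum, ← sum_add_distrib]
      have : (n : ℤ) * ((Nn / n : ℕ) : ℤ) ^ 2 = ∑ _k ∈ range n, ((Nn / n : ℕ) : ℤ) ^ 2 := by
        rw [sum_const, card_range, nsmul_eq_mul]
      rw [this, ← sum_add_distrib]
      refine sum_congr rfl fun k _ => ?_
      ring
    rw [hsq, hsumb, hN, ← hdm]
    ring
  · rw [← hsumb]
    refine sum_le_sum fun k _ => ?_
    exact Int.le_self_sq _

/-- Dichotomy: the defect is `0` or at least `n - 1`. -/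
theorem dichotomy {n : ℕ} (hn : 0 < n) (a : ℕ → ℕ) :
    (n : ℤ) * ∑ k ∈ range n, (a k : ℤ) ^ 2 - (∑ k ∈ range n, (a k : ℤ)) ^ 2 = 0 ∨
    (n : ℤ) - 1 ≤
      (n : ℤ) * ∑ k ∈ range n, (a k : ℤ) ^ 2 - (∑ k ∈ range n, (a k : ℤ)) ^ 2 := by
  obtain ⟨m, r, b, hr0, hrn, hab, hsb, hD, hrB⟩ := setup hn a
  rw [hD]
  have hB0 : 0 ≤ ∑ k ∈ range n, (b k) ^ 2 := sum_nonneg fun k _ => sq_nonneg _
  have hn1 : (1 : ℤ) ≤ n := by exact_mod_cast hn
  rcases eq_or_lt_of_le hr0 with h0 | h0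
  · rw [← h0]
    rcases eq_or_lt_of_le hB0 with hB | hB
    · left; rw [← hB]; ring
    · right
      have : (1 : ℤ) ≤ ∑ k ∈ range n, (b k) ^ 2 := hB
      nlinarith
  · right
    have h1 : (1 : ℤ) ≤ r := h0
    have h2 : r ≤ (n : ℤ) - 1 := by linarith
    nlinarith [mul_nonneg (sub_nonneg.mpr h1) (sub_nonneg.mpr h2)]

/-- Defect `0`: constant multiplicities. -/
theorem const_of_zero {n : ℕ} (hn : 0 < n) (a : ℕ → ℕ)
    (h : (n : ℤ) * ∑ k ∈ range n, (a k : ℤ) ^ 2 - (∑ k ∈ range n, (a k : ℤ)) ^ 2 = 0) :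
    ∃ m : ℕ, ∀ k < n, a k = m := by
  obtain ⟨m, r, b, hr0, hrn, hab, hsb, hD, hrB⟩ := setup hn a
  rw [hD] at h
  have hB0 : 0 ≤ ∑ k ∈ range n, (b k) ^ 2 := sum_nonneg fun k _ => sq_nonneg _
  have hr : r = 0 := by
    by_contra hne
    have h1 : (1 : ℤ) ≤ r := lt_of_le_of_ne hr0 (Ne.symm hne)
    nlinarith
  rw [hr] at h
  have hn1 : (1 : ℤ) ≤ n := by exact_mod_cast hn
  have hB : ∑ k ∈ range n, (b k) ^ 2 = 0 := by nlinarith
  have hz := (Finset.sum_eq_zero_iff_of_nonneg (fun k _ => sq_nonneg (b k))).mp hB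
  refine ⟨m, fun k hk => ?_⟩
  have hbk : b k = 0 := by
    have := hz k (mem_range.mpr hk)
    exact pow_eq_zero_iff (two_ne_zero) |>.mp this
  have := hab k
  rw [hbk, add_zero] at this
  exact_mod_cast this

/-- Defect `n - 1`: constant multiplicities with one exception, off by one. -/
theorem one_exception {n : ℕ} (hn : 2 ≤ n) (a : ℕ → ℕ)
    (h : (n : ℤ) * ∑ k ∈ range n, (a k : ℤ) ^ 2 - (∑ k ∈ range n, (a k : ℤ)) ^ 2 = (n : ℤ) - 1) :
    ∃ k₀ < n, ∃ (m : ℕ) (ε : ℤ), (ε = 1 ∨ ε = -1) ∧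
      ∀ k < n, (a k : ℤ) = m + if k = k₀ then ε else 0 := by
  have hn0 : 0 < n := by omega
  obtain ⟨m, r, b, hr0, hrn, hab, hsb, hD, hrB⟩ := setup hn0 a
  rw [hD] at h
  have hB0 : 0 ≤ ∑ k ∈ range n, (b k) ^ 2 := sum_nonneg fun k _ => sq_nonneg _
  have hn2 : (2 : ℤ) ≤ n := by exact_mod_cast hn
  have hr1 : (1 : ℤ) ≤ r := by
    by_contra hlt
    have hr : r = 0 := by linarith
    rw [hr] at h
    rcases eq_or_lt_of_le hB0 with hB | hB
    · rw [← hB] at h; linarith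
    · have : (1 : ℤ) ≤ ∑ k ∈ range n, (b k) ^ 2 := hB
      nlinarith
  have hr2 : r ≤ (n : ℤ) - 1 := by linarith
  have hprod : (r - 1) * ((n : ℤ) - 1 - r) = 0 := by
    have h1 : 0 ≤ (r - 1) * ((n : ℤ) - 1 - r) :=
      mul_nonneg (sub_nonneg.mpr hr1) (sub_nonneg.mpr hr2)
    have h2 : (r - 1) * ((n : ℤ) - 1 - r) ≤ 0 := by nlinarith
    linarith
  have hBr : ∑ k ∈ range n, (b k) ^ 2 = r := by
    have h3 : (n : ℤ) * (∑ k ∈ range n, (b k) ^ 2 - r) = 0 := by nlinarith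
    rcases mul_eq_zero.mp h3 with h4 | h4
    · linarith
    · linarith
  have h01 : ∀ k < n, b k = 0 ∨ b k = 1 := by
    intro k hk
    have hdiff : ∑ k ∈ range n, ((b k) ^ 2 - b k) = 0 := by
      rw [sum_sub_distrib, hBr, hsb, sub_self]
    have hz := (Finset.sum_eq_zero_iff_of_nonneg
      (fun k _ => sub_nonneg.mpr (Int.le_self_sq (b k)))).mp hdiff k (mem_range.mpr hk)
    have : b k * (b k - 1) = 0 := by nlinarith
    rcases mul_eq_zero.mp this with h5 | h5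
    · left; exact h5
    · right; linarith
  rcases mul_eq_zero.mp hprod with hr | hr
  · -- r = 1
    have hr' : r = 1 := by linarith
    rw [hr'] at hsb
    obtain ⟨k₀, hk₀, hc⟩ := unique_one b h01 hsb
    refine ⟨k₀, hk₀, m, 1, Or.inl rfl, fun k hk => ?_⟩
    rw [hab k, hc k hk]
  · -- r = n - 1
    have hr' : r = (n : ℤ) - 1 := by linarith
    have hsc : ∑ k ∈ range n, (1 - b k) = 1 := by
      rw [sum_sub_distrib, hsb, hr', sum_const, card_range, nsmul_eq_mul]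
      ring
    have h01' : ∀ k < n, (1 - b k) = 0 ∨ (1 - b k) = 1 := by
      intro k hk
      rcases h01 k hk with h5 | h5
      · right; rw [h5]; ring
      · left; rw [h5]; ring
    obtain ⟨k₀, hk₀, hc⟩ := unique_one (fun k => 1 - b k) h01' hsc
    refine ⟨k₀, hk₀, m + 1, -1, Or.inr rfl, fun k hk => ?_⟩
    have := hc k hk
    rw [hab k]
    split_ifs with hkk
    · rw [if_pos hkk] at this
      push_cast; linarith
    · rw [if_neg hkk] at this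
      push_cast; linarith

end Cfsg.Agent.Helper8.CycLevel
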