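import Mathlib
import Cfsg.Agent.Helper8.CycFourier
import Cfsg.Agent.Helper8.CycLevel

/-!
A family of characters of `ℤ/n` whose values off `0` have squared absolute values summing to `1`:
all but one are multiples of the regular character, the remaining one is a multiple of the regular
character plus or minus a linear character.
-/

set_option autoImplicit false

namespace Cfsg.Agent.Helper8.CycMain

open Finset Cfsg.Agent.Helper8.CycFourier Cfsg.Agent.Helper8.CycLevel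

theorem main {n : ℕ} (hn : 2 ≤ n) {ζ : ℂ} (hζ : IsPrimitiveRoot ζ n)
    {F : Type*} [Fintype F] [DecidableEq F] (a : F → ℕ → ℕ) (β : F)
    (H1 : ∀ j, 0 < j → j < n →
      ∑ γ, (∑ k ∈ range n, (a γ k : ℂ) * (ζ ^ k) ^ j) *
        (starRingEnd ℂ) (∑ k ∈ range n, (a γ k : ℂ) * (ζ ^ k) ^ j) = 1)
    (Hβ : ∑ k ∈ range n, (a β k : ℂ) * (ζ ^ k) ^ 1 ≠ 0) :
    (∀ γ, γ ≠ β → ∃ m : ℕ, ∀ k < n, a γ k = m) ∧
    (∃ k₀ < n, ∃ (m : ℕ) (ε : ℤ), (ε = 1 ∨ ε = -1) ∧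
      ∀ k < n, (a β k : ℤ) = m + if k = k₀ then ε else 0) := by
  have hn0 : 0 < n := by omega
  obtain ⟨D, hD⟩ : ∃ D : F → ℤ, D = fun γ =>
      (n : ℤ) * ∑ k ∈ range n, (a γ k : ℤ) ^ 2 - (∑ k ∈ range n, (a γ k : ℤ)) ^ 2 := ⟨_, rfl⟩
  have hDγ : ∀ γ, D γ =
      (n : ℤ) * ∑ k ∈ range n, (a γ k : ℤ) ^ 2 - (∑ k ∈ range n, (a γ k : ℤ)) ^ 2 := by
    intro γ; rw [hD]
  -- Step 1
  have hstep1 : ∀ γ, ((D γ : ℤ) : ℂ) = ∑ j ∈ Ico 1 n,
      (∑ k ∈ range n, (a γ k : ℂ) * (ζ ^ k) ^ j) *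
        (starRingEnd ℂ) (∑ k ∈ range n, (a γ k : ℂ) * (ζ ^ k) ^ j) := by
    intro γ
    have hp := parseval hn0 hζ (a γ)
    rw [Finset.range_eq_Ico, Finset.sum_eq_sum_Ico_succ_bot hn0] at hp
    rw [← Finset.range_eq_Ico] at hp
    have h0 : ∑ k ∈ range n, (a γ k : ℂ) * (ζ ^ k) ^ 0 = ∑ k ∈ range n, (a γ k : ℂ) :=
      eval_zero n ζ _
    rw [h0] at hp
    have hreal : (starRingEnd ℂ) (∑ k ∈ range n, (a γ k : ℂ)) = ∑ k ∈ range n, (a γ k : ℂ) := by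
      rw [map_sum]
      refine sum_congr rfl fun k _ => ?_
      exact Complex.conj_natCast _
    rw [hreal] at hp
    rw [hDγ]
    push_cast
    rw [← hp]
    ring
  have hsumC : ∑ γ, ((D γ : ℤ) : ℂ) = (n : ℂ) - 1 := by
    simp_rw [hstep1]
    rw [sum_comm]
    have : ∀ j ∈ Ico 1 n, ∑ γ, (∑ k ∈ range n, (a γ k : ℂ) * (ζ ^ k) ^ j) *
        (starRingEnd ℂ) (∑ k ∈ range n, (a γ k : ℂ) * (ζ ^ k) ^ j) = 1 := by
      intro j hj
      have := mem_Ico.mp hj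
      exact H1 j (by omega) this.2
    rw [sum_congr rfl this, sum_const, Nat.card_Ico, nsmul_eq_mul, mul_one]
    rw [Nat.cast_sub (by omega)]
    simp
  have hsumZ : ∑ γ, D γ = (n : ℤ) - 1 := by
    have : ((∑ γ, D γ : ℤ) : ℂ) = (((n : ℤ) - 1 : ℤ) : ℂ) := by
      push_cast
      exact hsumC
    exact_mod_cast this
  -- Step 3
  have hnonneg : ∀ γ, 0 ≤ D γ := by
    intro γ
    rcases dichotomy hn0 (a γ) with h | h
    · rw [hDγ, h]
    · rw [hDγ]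
      have : (1 : ℤ) ≤ n := by exact_mod_cast hn0
      linarith
  have hDβ : D β ≠ 0 := by
    intro h0
    rw [hDγ] at h0
    obtain ⟨m, hm⟩ := const_of_zero hn0 (a β) h0
    apply Hβ
    have := eval_const_add hζ (m : ℂ) 0 0 hn0 (fun k => (a β k : ℂ))
      (by intro k hk; simp [hm k hk]) 1 one_pos (by omega)
    rw [this, zero_mul]
  have hDβ' : (n : ℤ) - 1 ≤ D β := by
    rcases dichotomy hn0 (a β) with h | h
    · exact absurd ((hDγ β).trans h) hDβ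
    · rw [hDγ]; exact h
  have hsplit := Finset.add_sum_erase Finset.univ D (Finset.mem_univ β)
  have hrest0 : 0 ≤ ∑ γ ∈ Finset.univ.erase β, D γ := sum_nonneg fun γ _ => hnonneg γ
  have hrest : ∑ γ ∈ Finset.univ.erase β, D γ = 0 := by linarith
  have hβeq : D β = (n : ℤ) - 1 := by linarith
  have hz := (Finset.sum_eq_zero_iff_of_nonneg (fun γ _ => hnonneg γ)).mp hrest
  refine ⟨fun γ hγ => ?_, ?_⟩
  · have h0 := hz γ (mem_erase.mpr ⟨hγ, mem_univ _⟩)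
    rw [hDγ] at h0
    exact const_of_zero hn0 (a γ) h0
  · rw [hDγ] at hβeq
    exact one_exception hn (a β) hβeq

end Cfsg.Agent.Helper8.CycMain
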