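import Mathlib
import Cfsg.Prelude.Def_CharExt
import Cfsg.Agent.Helper24.GlaubCyc
import Cfsg.Agent.Helper24.Expansion
import Cfsg.Agent.Helper24.Span
import Cfsg.Agent.Helper8.CycMain

/-!
Coprime action of a cyclic group `⟨s₀⟩` on `G` in which all nonidentity powers of `s₀` have the
same centraliser `C` in `G`: an extension `ψ` of an irreducible character of `G` restricts to
`C × ⟨s₀⟩` as `|S| ϑ × ρ_S + ε β × μ`.
-/

set_option autoImplicit false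

namespace Cfsg.Agent.Helper8.Fpf

open Cfsg Cfsg.Agent.Helper24 Finset

universe u

section

variable {Γ : Type u} [Group Γ]

theorem classInner_subgroup_congr {A B : Subgroup Γ} (h : A = B) [iA : Fintype A]
    [iB : Fintype B] (F F' : Γ → ℂ) :
    classInner (fun a : A => F a) (fun a : A => F' a) =
      classInner (fun b : B => F b) (fun b : B => F' b) := by
  subst h
  have : iA = iB := Subsingleton.elim _ _
  subst this
  rfl

/-- Parseval for class functions. -/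
theorem classInner_self_eq_sum {C : Type u} [Group C] [Fintype C] [Fintype (IrrCharacter C)]
    {τ : C → ℂ} (hτ : IsClassFunction C τ) :
    classInner τ τ = ∑ γ : IrrCharacter C,
      classInner τ (γ : C → ℂ) * (starRingEnd ℂ) (classInner τ (γ : C → ℂ)) := by
  have h := IsClassFunction.eq_sum_classInner hτ
  have h2 : classInner τ τ =
      classInner (∑ γ : IrrCharacter C, classInner τ (γ : C → ℂ) • (γ : C → ℂ)) τ := by
    rw [← h]
  rw [h2, classInner_sum_left]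
  refine Finset.sum_congr rfl fun γ _ => ?_
  rw [classInner_smul_left, Cfsg.Agent.Helper24.classInner_conj_symm]

theorem isClassFunction_twpow (G : Subgroup Γ) (s : Γ) {ψ : Γ → ℂ} (hψ : IsClassFunction Γ ψ)
    (j : ℕ) : IsClassFunction (fixC G s) (fun c : fixC G s => ψ ((c : Γ) * s ^ j)) := by
  intro c u
  have hus : (u : Γ) * s = s * (u : Γ) := ((mem_fixC G s).mp u.2).2
  have husj : (u : Γ) * s ^ j = s ^ j * (u : Γ) :=
    (Commute.pow_right (show Commute (u : Γ) s from hus) j).eq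
  obtain ⟨t, ht⟩ : ∃ t, t = s ^ j := ⟨_, rfl⟩
  rw [← ht] at husj
  have h1 : ((u * c * u⁻¹ : fixC G s) : Γ) * t = (u : Γ) * ((c : Γ) * t) * (u : Γ)⁻¹ := by
    simp only [Subgroup.coe_mul, Subgroup.coe_inv]
    calc (u : Γ) * (c : Γ) * (u : Γ)⁻¹ * t
        = (u : Γ) * (c : Γ) * (u : Γ)⁻¹ * (t * (u : Γ)) * (u : Γ)⁻¹ := by group
      _ = (u : Γ) * (c : Γ) * (u : Γ)⁻¹ * ((u : Γ) * t) * (u : Γ)⁻¹ := by rw [husj]
      _ = (u : Γ) * ((c : Γ) * t) * (u : Γ)⁻¹ := by group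
  show ψ _ = ψ _
  rw [← ht, h1, hψ]

theorem fpf_restrict [Fintype Γ] (G : Subgroup Γ) [hG : G.Normal] [Fintype G]
    (s₀ : Γ) (hcop : (Nat.card G).Coprime (orderOf s₀)) (hn : 2 ≤ orderOf s₀)
    [Fintype (fixC G s₀)]
    (hfpf : ∀ j, 0 < j → j < orderOf s₀ → fixC G (s₀ ^ j) = fixC G s₀)
    (ψ : Γ → ℂ) (hψ : IsIrrCharacter Γ ψ) (hψG : IsIrrCharacter G (fun g : G => ψ g))
    (β : IrrCharacter (fixC G s₀)) (ε₀ : ℤ) (hε₀ : ε₀ = 1 ∨ ε₀ = -1)
    (hβ : ∀ c : fixC G s₀, ψ ((c : Γ) * s₀) = (ε₀ : ℂ) * (β : fixC G s₀ → ℂ) c) :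
    ∃ (ε : ℤ) (δ : ℂ) (ϑ : fixC G s₀ → ℂ), (ε = 1 ∨ ε = -1) ∧ (δ = 1 ∨ δ = -1) ∧
      δ ^ orderOf s₀ = 1 ∧
      (∀ c : fixC G s₀, ∀ j, 0 < j → j < orderOf s₀ →
        ψ ((c : Γ) * s₀ ^ j) = (ε : ℂ) * (β : fixC G s₀ → ℂ) c * δ ^ j) ∧
      IsCharacter (fixC G s₀) ϑ ∧
      (∀ c : fixC G s₀, ψ (c : Γ) =
        (orderOf s₀ : ℂ) * ϑ c + (ε : ℂ) * (β : fixC G s₀ → ℂ) c) := by
  classical
  haveI : Finite Γ := Finite.of_fintype Γ
  haveI : Fintype (IrrCharacter (fixC G s₀)) := Fintype.ofFinite _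
  obtain ⟨n, hnn⟩ : ∃ n, n = orderOf s₀ := ⟨_, rfl⟩
  rw [← hnn] at hn hfpf ⊢
  have hn0 : 0 < n := by omega
  obtain ⟨ζ, hζ⟩ : ∃ ζ : ℂ, IsPrimitiveRoot ζ n := ⟨_, Complex.isPrimitiveRoot_exp n hn0.ne'⟩
  have hψc : IsCharacter Γ ψ := IsIrrCharacter.isCharacter hψ
  have hcf : IsClassFunction Γ ψ := IsCharacter.isClassFunction hψc
  -- the multiplicities
  have hrep : ∀ γ : IrrCharacter (fixC G s₀), ∃ a : ℕ → ℕ, ∀ j : ℕ,
      classInner (fun c : fixC G s₀ => ψ ((c : Γ) * s₀ ^ j)) (γ : fixC G s₀ → ℂ) =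
        ∑ k ∈ range n, (a k : ℂ) * (ζ ^ k) ^ j := by
    intro γ
    obtain ⟨ι, _, w, ω, hω, hsum⟩ := exists_rootSum (G := G) (s := s₀) ψ hψc γ
    rw [← hnn] at hω
    obtain ⟨a, ha⟩ := CycFourier.exists_coeff hn0 hζ w ω hω
    exact ⟨a, fun j => (hsum j).trans (ha j)⟩
  choose a ha using hrep
  -- norms
  have hnorm : ∀ j, 0 < j → j < n →
      classInner (fun c : fixC G s₀ => ψ ((c : Γ) * s₀ ^ j))
        (fun c : fixC G s₀ => ψ ((c : Γ) * s₀ ^ j)) = 1 := by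
    intro j hj0 hjn
    haveI : Fintype (fixC G (s₀ ^ j)) := Fintype.ofFinite _
    have hcopj : (Nat.card G).Coprime (orderOf (s₀ ^ j)) :=
      Nat.Coprime.coprime_dvd_right (orderOf_pow_dvd j) hcop
    have h1 := (classInner_tw (G := G) (s := s₀ ^ j) hcopj ψ ψ hψ hψ hψG).1 rfl
    rw [← h1]
    exact (classInner_subgroup_congr (hfpf j hj0 hjn) (fun x => ψ (x * s₀ ^ j))
      (fun x => ψ (x * s₀ ^ j))).symm
  have H1 : ∀ j, 0 < j → j < n →
      ∑ γ, (∑ k ∈ range n, (a γ k : ℂ) * (ζ ^ k) ^ j) *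
        (starRingEnd ℂ) (∑ k ∈ range n, (a γ k : ℂ) * (ζ ^ k) ^ j) = 1 := by
    intro j hj0 hjn
    rw [← hnorm j hj0 hjn, classInner_self_eq_sum (isClassFunction_twpow G s₀ hcf j)]
    refine Finset.sum_congr rfl fun γ _ => ?_
    rw [ha γ j]
  have hε₀c : (ε₀ : ℂ) ≠ 0 := by
    rcases hε₀ with h | h <;> rw [h] <;> norm_num
  have hτ1 : (fun c : fixC G s₀ => ψ ((c : Γ) * s₀ ^ 1)) = (ε₀ : ℂ) • (β : fixC G s₀ → ℂ) := by
    funext c
    rw [pow_one, hβ]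
    rfl
  have hfβ1 : ∑ k ∈ range n, (a β k : ℂ) * (ζ ^ k) ^ 1 = (ε₀ : ℂ) := by
    rw [← ha β 1, hτ1, classInner_smul_left, classInner_irr_self, mul_one]
  have Hβ : ∑ k ∈ range n, (a β k : ℂ) * (ζ ^ k) ^ 1 ≠ 0 := by
    rw [hfβ1]; exact hε₀c
  obtain ⟨hconst, k₀, hk₀, m, ε, hε, hexc⟩ := CycMain.main hn hζ a β H1 Hβ
  have hconst' : ∀ γ : IrrCharacter (fixC G s₀), ∃ mm : ℕ, γ ≠ β → ∀ k < n, a γ k = mm := by
    intro γ
    by_cases h : γ = β
    · exact ⟨0, fun h' => absurd h h'⟩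
    · obtain ⟨mm, hmm⟩ := hconst γ h
      exact ⟨mm, fun _ => hmm⟩
  choose mc hmc using hconst'
  have hexcC : ∀ k < n, (a β k : ℂ) = (m : ℂ) + if k = k₀ then (ε : ℂ) else 0 := by
    intro k hk
    have h2 : (((a β k : ℕ) : ℤ) : ℂ) = ((((m : ℕ) : ℤ) + if k = k₀ then ε else 0 : ℤ) : ℂ) := by
      rw [hexc k hk]
    push_cast at h2
    exact h2
  -- values off zero
  have hval0 : ∀ γ, γ ≠ β → ∀ j, 0 < j → j < n →
      ∑ k ∈ range n, (a γ k : ℂ) * (ζ ^ k) ^ j = 0 := by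
    intro γ hγ j hj0 hjn
    have := CycFourier.eval_const_add hζ (mc γ : ℂ) 0 0 hn0 (fun k => (a γ k : ℂ))
      (by intro k hk; simp [hmc γ hγ k hk]) j hj0 hjn
    rw [this, zero_mul]
  have hvalβ : ∀ j, 0 < j → j < n →
      ∑ k ∈ range n, (a β k : ℂ) * (ζ ^ k) ^ j = (ε : ℂ) * (ζ ^ k₀) ^ j := by
    intro j hj0 hjn
    exact CycFourier.eval_const_add hζ (m : ℂ) (ε : ℂ) k₀ hk₀ (fun k => (a β k : ℂ)) hexcC j hj0 hjn
  have hεc : (ε : ℂ) * (ε : ℂ) = 1 := by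
    rcases hε with h | h <;> rw [h] <;> norm_num
  have hδ : ζ ^ k₀ = (ε : ℂ) * (ε₀ : ℂ) := by
    have h1 := hvalβ 1 one_pos (by omega)
    rw [hfβ1, pow_one] at h1
    rw [h1, ← mul_assoc, hεc, one_mul]
  have hδ1 : ζ ^ k₀ = 1 ∨ ζ ^ k₀ = -1 := by
    rw [hδ]
    rcases hε with h | h <;> rcases hε₀ with h' | h' <;> rw [h, h'] <;> norm_num
  have hδn : (ζ ^ k₀) ^ n = 1 := by
    rw [← pow_mul, mul_comm, pow_mul, hζ.pow_eq_one, one_pow]
  -- values at zero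
  obtain ⟨coef, hcoef⟩ : ∃ coef : IrrCharacter (fixC G s₀) → ℕ,
      coef = fun γ => if γ = β then m else mc γ := ⟨_, rfl⟩
  have hzero : ∀ γ, ∑ k ∈ range n, (a γ k : ℂ) * (ζ ^ k) ^ 0 =
      (n : ℂ) * (coef γ : ℂ) + if γ = β then (ε : ℂ) else 0 := by
    intro γ
    rw [CycFourier.eval_zero, hcoef]
    by_cases hγ : γ = β
    · rw [hγ]
      simp only [if_true]
      rw [Finset.sum_congr rfl (fun k hk => hexcC k (mem_range.mp hk)), sum_add_distrib,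
        sum_const, card_range, nsmul_eq_mul, Finset.sum_ite_eq' (range n) k₀ (fun _ => (ε : ℂ)),
        if_pos (mem_range.mpr hk₀)]
    · simp only [if_neg hγ, add_zero]
      have : ∀ k ∈ range n, (a γ k : ℂ) = (mc γ : ℂ) := by
        intro k hk
        rw [hmc γ hγ k (mem_range.mp hk)]
      rw [Finset.sum_congr rfl this, sum_const, card_range, nsmul_eq_mul]
  -- expansion of the twisted restrictions
  have hexp : ∀ (j : ℕ) (c : fixC G s₀), ψ ((c : Γ) * s₀ ^ j) =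
      ∑ γ : IrrCharacter (fixC G s₀),
        (∑ k ∈ range n, (a γ k : ℂ) * (ζ ^ k) ^ j) * (γ : fixC G s₀ → ℂ) c := by
    intro j c
    have h := congrFun (IsClassFunction.eq_sum_classInner (isClassFunction_twpow G s₀ hcf j)) c
    simp only [Finset.sum_apply, Pi.smul_apply, smul_eq_mul] at h
    rw [h]
    refine Finset.sum_congr rfl fun γ _ => ?_
    rw [ha γ j]
  refine ⟨ε, ζ ^ k₀, ∑ γ : IrrCharacter (fixC G s₀), (coef γ : ℂ) • (γ : fixC G s₀ → ℂ),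
    hε, hδ1, hδn, ?_, isCharacter_sum_nat_smul coef, ?_⟩
  · intro c j hj0 hjn
    rw [hexp j c, Finset.sum_eq_single β]
    · rw [hvalβ j hj0 hjn]; ring
    · intro γ _ hγ
      rw [hval0 γ hγ j hj0 hjn, zero_mul]
    · intro h; exact absurd (Finset.mem_univ _) h
  · intro c
    have h := hexp 0 c
    rw [pow_zero, mul_one] at h
    rw [h]
    simp only [Finset.sum_apply, Pi.smul_apply, smul_eq_mul]
    rw [Finset.mul_sum]
    have h3 : ∀ γ : IrrCharacter (fixC G s₀),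
        (∑ k ∈ range n, (a γ k : ℂ) * (ζ ^ k) ^ 0) * (γ : fixC G s₀ → ℂ) c =
        (n : ℂ) * ((coef γ : ℂ) * (γ : fixC G s₀ → ℂ) c) +
          (if γ = β then (ε : ℂ) * (γ : fixC G s₀ → ℂ) c else 0) := by
      intro γ
      rw [hzero γ]
      split_ifs <;> ring
    rw [Finset.sum_congr rfl (fun γ _ => h3 γ), sum_add_distrib,
      Finset.sum_ite_eq' Finset.univ β (fun γ => (ε : ℂ) * (γ : fixC G s₀ → ℂ) c),
      if_pos (Finset.mem_univ _)]

end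

end Cfsg.Agent.Helper8.Fpf
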