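import Mathlib
import Cfsg.Prelude.Def_Characters
import Cfsg.Prelude.Def_OddOrderChar
import Cfsg.Agent.Helper8.TIFN
import Cfsg.Agent.Helper8.FrobKernel3
import Cfsg.Agent.Helper8.UniformCoherent

/-!
T.I. subgroups with Frobenius normalizer and abelian kernel: coherence.
-/

set_option autoImplicit false

namespace Cfsg.Agent.Helper8.TIFN

open Cfsg Cfsg.Agent.Helper24 Cfsg.Agent.Helper8.FrobKer Cfsg.Agent.Helper8.UniCoh

variable {G : Type*} [Group G] [Fintype G] {K N : Subgroup G}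

/-- **Brauer–Suzuki: exceptional characters for an abelian T.I. kernel.** -/
theorem main851 (h : Hyp K N) (hab : ∀ a ∈ K, ∀ b ∈ K, a * b = b * a) :
    ∃ (ε : ℂ) (f : {χ : IrrCharacter N // ∃ k : N, (k : G) ∈ K ∧
        (χ : N → ℂ) k ≠ (χ : N → ℂ) 1} → IrrCharacter G),
      (ε = 1 ∨ ε = -1) ∧ Function.Injective f ∧
      ∀ χ ξ, indFun N ((χ.1 : N → ℂ) - (ξ.1 : N → ℂ))
        = ε • ((f χ : G → ℂ) - (f ξ : G → ℂ)) := by
  classical
  haveI : Fintype N := Fintype.ofFinite _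
  haveI := h.normal
  by_cases hT : Nonempty {χ : IrrCharacter N // ∃ k : N, (k : G) ∈ K ∧
        (χ : N → ℂ) k ≠ (χ : N → ℂ) 1}
  · obtain ⟨χ₀⟩ := hT
    have hmemS : ∀ χ : {χ : IrrCharacter N // ∃ k : N, (k : G) ∈ K ∧
        (χ : N → ℂ) k ≠ (χ : N → ℂ) 1}, (χ.1 : N → ℂ) ∈ SS K N := fun χ => ⟨χ.1.2, χ.2⟩
    have hab' : ∀ a b : K.subgroupOf N, a * b = b * a := by
      intro a b
      apply Subtype.ext
      apply Subtype.ext
      exact hab _ a.2 _ b.2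
    have hdeg : ∀ χ : {χ : IrrCharacter N // ∃ k : N, (k : G) ∈ K ∧
        (χ : N → ℂ) k ≠ (χ : N → ℂ) 1}, (χ.1 : N → ℂ) 1 = ((K.subgroupOf N).index : ℂ) :=
      fun χ => deg_of_abelian (K.subgroupOf N) (frob h) hab' χ.1 χ.2
    have hmem : ∀ χ ξ : {χ : IrrCharacter N // ∃ k : N, (k : G) ∈ K ∧
        (χ : N → ℂ) k ≠ (χ : N → ℂ) 1},
        ((χ.1 : N → ℂ) - (ξ.1 : N → ℂ)) ∈ zspanOn (SS K N) {1}ᶜ := by
      intro χ ξ
      rw [mem_zspanOn_compl_one]
      refine ⟨zspan_sub_mem (mem_zspan_of_mem (hmemS χ)) (mem_zspan_of_mem (hmemS ξ)), ?_⟩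
      rw [Pi.sub_apply, hdeg χ, hdeg ξ, sub_self]
    have hinner : ∀ α β : N → ℂ, α ∈ zspanOn (SS K N) {1}ᶜ → β ∈ zspanOn (SS K N) {1}ᶜ →
        classInner (indFun N α) (indFun N β) = classInner α β := by
      intro α β _ hβ
      rw [frobenius_reciprocity N α _ (indFun_isClassFunction N β)]
      congr 1
      funext n
      exact indFun_apply_of_mem h hβ n
    obtain ⟨ε, f, hε, hf, hv⟩ := uniform_coherent χ₀
      (fun χ => indFun N ((χ.1 : N → ℂ) - (χ₀.1 : N → ℂ)))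
      (by simp only [sub_self]; exact indFun_zero N)
      (fun χ => IsGeneralizedCharacter.indFun N
        (isGenChar_of_mem_zspan (mem_zspanOn_compl_one.mp (hmem χ χ₀)).1))
      (fun χ => by
        have := indFun_apply_of_mem h (hmem χ χ₀) 1
        rw [Subgroup.coe_one] at this
        rw [this]
        exact (mem_zspanOn_compl_one.mp (hmem χ χ₀)).2)
      (fun χ ξ hχ hξ => by
        rw [hinner _ _ (hmem χ χ₀) (hmem ξ χ₀), classInner_irr_sub_sub]
        have e1 : χ.1 ≠ χ₀.1 := fun h1 => hχ (Subtype.ext h1)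
        have e2 : χ₀.1 ≠ ξ.1 := fun h1 => hξ (Subtype.ext h1.symm)
        rw [if_neg e1, if_neg e2, if_pos rfl]
        by_cases hχξ : χ = ξ
        · rw [if_pos hχξ, if_pos (congrArg Subtype.val hχξ)]
          norm_num
        · rw [if_neg hχξ, if_neg (fun h1 => hχξ (Subtype.ext h1))]
          norm_num)
    refine ⟨ε, f, hε, hf, ?_⟩
    intro χ ξ
    have h1 : (χ.1 : N → ℂ) - (ξ.1 : N → ℂ)
        = ((χ.1 : N → ℂ) - (χ₀.1 : N → ℂ)) - ((ξ.1 : N → ℂ) - (χ₀.1 : N → ℂ)) := by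
      abel
    have h2 := hv χ
    have h3 := hv ξ
    rw [h1, indFun_sub, h2, h3, ← smul_sub]
    congr 1
    abel
  · refine ⟨1, fun χ => absurd ⟨χ⟩ hT, Or.inl rfl, fun χ => absurd ⟨χ⟩ hT,
      fun χ => absurd ⟨χ⟩ hT⟩

end Cfsg.Agent.Helper8.TIFN
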