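import Mathlib
import Cfsg.Agent.Helper5.VL.Defs
import Cfsg.Agent.Helper5.VL.IHyp

set_option autoImplicit false
set_option linter.style.haveILetI false
set_option linter.unusedSectionVars false
set_option linter.unusedVariables false

/-!
# S3777 (Vaughan-Lee) piece CLGOOD: a closed subgroup is good
-/

namespace Cfsg.Agent.Helper5.VL

open Subgroup
open scoped commutatorElement

universe u
variable {p : ℕ} [Fact p.Prime] {G : Type u} [Group G] [Finite G]

/-- the centralizer of `y : ↥K` inside `↥K` is the centralizer in `G` intersected with `K`. -/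
theorem closed_good_aux_centralizer (K : Subgroup G) (y : ↥K) :
    centralizer ({y} : Set ↥K) = (centralizer ({(y : G)} : Set G)).subgroupOf K := by
  ext z
  rw [Subgroup.mem_subgroupOf, Subgroup.mem_centralizer_singleton_iff,
    Subgroup.mem_centralizer_singleton_iff, Subtype.ext_iff]
  rfl

/-- CLGOOD (A) -/
theorem closed_good (IH : IHyp p G) {φ0 : Fn p G} {b : ℕ}
    (hb : ∀ x : G, φ0 x ≠ 1 → (centralizer ({x} : Set G)).index ≤ p ^ b)
    {K : Subgroup G} (hK : Phi p G ≤ K) (hK0 : ¬ K ≤ φ0.ker) (hKtop : K ≠ ⊤)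
    (hcl : ∀ y ∈ K, φ0 y ≠ 1 → centralizer ({y} : Set G) ≤ K) {m : ℕ} (hm : K.index = p ^ m) :
    m ≤ b ∧ der K ≤ p ^ T (b - m) := by
  have hp : p.Prime := Fact.out
  -- an affine element of `K`
  obtain ⟨y, hyK, hy0⟩ : ∃ y ∈ K, φ0 y ≠ 1 := by
    by_contra h
    apply hK0
    intro y hy
    rw [MonoidHom.mem_ker]
    by_contra h1
    exact h ⟨y, hy, h1⟩
  -- the index computation
  have hidx : ∀ z ∈ K, φ0 z ≠ 1 →
      (centralizer ({z} : Set G)).relIndex K * p ^ m ≤ p ^ b := by
    intro z hz hz0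
    have h1 := Subgroup.relIndex_mul_index (hcl z hz hz0)
    rw [hm] at h1
    rw [h1]
    exact hb z hz0
  have hmb : m ≤ b := by
    have h1 := hidx y hyK hy0
    have h2 : 1 ≤ (centralizer ({y} : Set G)).relIndex K := by
      rw [Nat.one_le_iff_ne_zero]
      intro h0
      have := Subgroup.relIndex_mul_index (hcl y hyK hy0)
      rw [h0, zero_mul] at this
      exact (Subgroup.index_ne_zero_of_finite (H := centralizer ({y} : Set G))) this.symm
    have h3 : p ^ m ≤ p ^ b := le_trans (Nat.le_mul_of_pos_left _ h2) h1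
    exact (Nat.pow_le_pow_iff_right hp.one_lt).mp h3
  refine ⟨hmb, ?_⟩
  rw [der_eq_card_commutator]
  apply IH K hKtop (φ0.comp K.subtype)
  · intro h
    apply hy0
    have := congrArg (fun ψ : Fn p K => ψ ⟨y, hyK⟩) h
    simpa using this
  · intro z hz0
    have hz0' : φ0 (z : G) ≠ 1 := by simpa using hz0
    rw [closed_good_aux_centralizer K z]
    have h1 := hidx (z : G) z.2 hz0'
    have h2 : p ^ b = p ^ (b - m) * p ^ m := by
      rw [← pow_add, Nat.sub_add_cancel hmb]
    rw [h2] at h1
    exact Nat.le_of_mul_le_mul_right h1 (pow_pos hp.pos m)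

end Cfsg.Agent.Helper5.VL
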