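import Mathlib
import Cfsg.Agent.Helper5.VL.Defs
import Cfsg.Agent.Helper5.VL.IHyp
import Cfsg.Agent.Helper27.S3777KER
import Cfsg.Agent.Helper8.VLCLGOOD

set_option autoImplicit false
set_option linter.style.haveILetI false
set_option linter.unusedSectionVars false
set_option linter.unusedVariables false

/-!
# S3777 (Vaughan-Lee) piece STEP1: a maximal subgroup `ker φ ≠ ker φ0` with `(ker φ)' = G'`
-/

namespace Cfsg.Agent.Helper5.VL

open Subgroup
open scoped commutatorElement

universe u
variable {p : ℕ} [Fact p.Prime] {G : Type u} [Group G] [Finite G]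

/-- STEP1 -/
theorem step_one (IH : IHyp p G) {φ0 : Fn p G} (hφ0 : φ0 ≠ 1) {b : ℕ}
    (hb : ∀ x : G, φ0 x ≠ 1 → (centralizer ({x} : Set G)).index ≤ p ^ b)
    {φ : Fn p G} (hφ : ¬ φ0.ker ≤ φ.ker) (heq : ⁅φ.ker, φ.ker⁆ = commutator G) :
    Nat.card (commutator G) ≤ p ^ T b := by
  have hp : p.Prime := Fact.out
  have hφ1 : φ ≠ 1 := by
    rintro rfl
    apply hφ
    intro x _
    rw [MonoidHom.mem_ker]; rfl
  have hne : φ.ker ≠ ⊤ := by
    intro h
    apply hφ
    rw [h]; exact le_top
  -- `ker φ ≰ ker φ0`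
  have hnle : ¬ φ.ker ≤ φ0.ker := by
    intro hle
    apply hφ
    have h1 : Nat.card ↥φ.ker * p = Nat.card G := by
      have := Subgroup.card_mul_index φ.ker
      rwa [index_ker hφ1] at this
    have h2 : Nat.card ↥φ0.ker * p = Nat.card G := by
      have := Subgroup.card_mul_index φ0.ker
      rwa [index_ker hφ0] at this
    have h3 : Nat.card ↥φ0.ker = Nat.card ↥φ.ker :=
      Nat.eq_of_mul_eq_mul_right hp.pos (h2.trans h1.symm)
    exact (Subgroup.eq_of_le_of_card_ge hle h3.le).ge
  obtain ⟨y, hyK, hy0⟩ : ∃ y ∈ φ.ker, φ0 y ≠ 1 := by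
    by_contra h
    apply hnle
    intro y hy
    rw [MonoidHom.mem_ker]
    by_contra h1
    exact h ⟨y, hy, h1⟩
  have hder : Nat.card (commutator G) = Nat.card (commutator ↥φ.ker) := by
    rw [← der_eq_card_commutator, der, heq]
  rw [hder]
  apply IH φ.ker hne (φ0.comp φ.ker.subtype)
  · intro h
    apply hy0
    have := congrArg (fun ψ : Fn p φ.ker => ψ ⟨y, hyK⟩) h
    simpa using this
  · intro z hz0
    have hz0' : φ0 (z : G) ≠ 1 := by simpa using hz0
    rw [closed_good_aux_centralizer φ.ker z]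
    have h1 : (centralizer ({(z : G)} : Set G)).relIndex φ.ker ≤ (centralizer ({(z : G)} : Set G)).relIndex ⊤ :=
      Subgroup.relIndex_le_of_le_right le_top (by
        rw [Subgroup.relIndex_top_right]; exact Subgroup.index_ne_zero_of_finite)
    rw [Subgroup.relIndex_top_right] at h1
    exact le_trans h1 (hb _ hz0')

end Cfsg.Agent.Helper5.VL
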