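import Mathlib

/-!
# Ree piece P7 (for helper6): a solvable subgroup normalises a suitable `p`-subgroup
-/

namespace Cfsg.Agent.Helper8.ReeP7

open Subgroup

/-- A nontrivial finite solvable group has a nontrivial normal `p`-subgroup. -/
theorem exists_normal_pgroup (S : Type*) [Group S] [Finite S] [hsol : Group.IsSolvable S]
    [Nontrivial S] :
    ∃ p : ℕ, p.Prime ∧ ∃ E : Subgroup S, E.Normal ∧ E ≠ ⊥ ∧ IsPGroup p E := by
  classical
  have hex : ∃ n, derivedSeries S n = ⊥ := hsol.solvable
  have hn0 : Nat.find hex ≠ 0 := by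
    intro h0
    have := Nat.find_spec hex
    rw [h0, derivedSeries_zero] at this
    exact top_ne_bot this
  obtain ⟨k, hk⟩ := Nat.exists_eq_succ_of_ne_zero hn0
  have hAne : derivedSeries S k ≠ ⊥ := Nat.find_min hex (by omega)
  have hAA : ⁅derivedSeries S k, derivedSeries S k⁆ = ⊥ := by
    have := Nat.find_spec hex
    rw [hk, Nat.succ_eq_add_one, derivedSeries_succ] at this
    exact this
  set A := derivedSeries S k with hA
  have hAn : A.Normal := derivedSeries_normal S k
  have hcomm : ∀ a ∈ A, ∀ b ∈ A, a * b = b * a := by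
    intro a ha b hb
    have h1 : A ≤ centralizer (A : Set S) := (commutator_eq_bot_iff_le_centralizer).mp hAA
    exact ((mem_centralizer_iff.mp (h1 hb)) a ha)
  have hcard : Nat.card A ≠ 1 := by
    intro h
    exact hAne ((Subgroup.card_eq_one).mp h)
  obtain ⟨p, hp, hpd⟩ := Nat.exists_prime_and_dvd hcard
  have : Fact p.Prime := ⟨hp⟩
  obtain ⟨a, ha⟩ := exists_prime_orderOf_dvd_card' p hpd
  let E : Subgroup S :=
    { carrier := {e | e ∈ A ∧ e ^ p = 1}
      one_mem' := ⟨one_mem _, one_pow _⟩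
      mul_mem' := by
        rintro x y ⟨hx, hx1⟩ ⟨hy, hy1⟩
        refine ⟨mul_mem hx hy, ?_⟩
        rw [(show Commute x y from hcomm x hx y hy).mul_pow, hx1, hy1, one_mul]
      inv_mem' := by
        rintro x ⟨hx, hx1⟩
        exact ⟨inv_mem hx, by rw [inv_pow, hx1, inv_one]⟩ }
  refine ⟨p, hp, E, ⟨?_⟩, ?_, ?_⟩
  · rintro e ⟨he, he1⟩ g
    refine ⟨hAn.conj_mem e he g, ?_⟩
    rw [conj_pow, he1, mul_one, mul_inv_cancel]
  · intro hE
    have haE : (a : S) ∈ E := by
      refine ⟨a.2, ?_⟩
      have : a ^ p = 1 := by rw [← ha]; exact pow_orderOf_eq_one a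
      have h2 := congrArg Subtype.val this
      simpa using h2
    rw [hE, mem_bot] at haE
    have : a = 1 := Subtype.ext haE
    rw [this, orderOf_one] at ha
    exact hp.one_lt.ne ha
  · rintro ⟨e, he, he1⟩
    exact ⟨1, by rw [pow_one]; exact Subtype.ext he1⟩


/-- Refinement: if the prime is `2`, the subgroup has order at least `4` or is everything. -/
theorem exists_good_normal_pgroup (S : Type*) [Group S] [Finite S] [hsol : Group.IsSolvable S]
    [Nontrivial S] :
    ∃ p : ℕ, p.Prime ∧ ∃ E : Subgroup S, E.Normal ∧ E ≠ ⊥ ∧ IsPGroup p E ∧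
      (p = 2 → 4 ≤ Nat.card E ∨ E = ⊤) := by
  classical
  obtain ⟨p, hp, E0, hE0n, hE0, hE0p⟩ := exists_normal_pgroup S
  by_cases h2 : p = 2
  swap
  · exact ⟨p, hp, E0, hE0n, hE0, hE0p, fun h => absurd h h2⟩
  subst h2
  by_cases h4 : 4 ≤ Nat.card E0 ∨ E0 = ⊤
  · exact ⟨2, hp, E0, hE0n, hE0, hE0p, fun _ => h4⟩
  push Not at h4
  obtain ⟨h4a, h4b⟩ := h4
  -- `|E0| = 2`
  have hE0card : Nat.card E0 = 2 := by
    obtain ⟨n, hn⟩ := hE0p.exists_card_eq
    have hn0 : n ≠ 0 := by
      rintro rfl
      rw [pow_zero] at hn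
      exact hE0 (Subgroup.card_eq_one.mp hn)
    have hn1 : n < 2 := by
      by_contra hcon
      push Not at hcon
      have : 2 ^ 2 ≤ 2 ^ n := Nat.pow_le_pow_right (by norm_num) hcon
      omega
    have : n = 1 := by omega
    rw [hn, this, pow_one]
  -- the quotient
  have hQnt : Nontrivial (S ⧸ E0) := by
    rw [← Finite.one_lt_card_iff_nontrivial]
    have h1 : E0.index ≠ 1 := fun h => h4b (Subgroup.index_eq_one.mp h)
    have h0 : E0.index ≠ 0 := Subgroup.index_ne_zero_of_finite
    have : Nat.card (S ⧸ E0) = E0.index := rfl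
    omega
  obtain ⟨q, hq, Eb, hEbn, hEb, hEbp⟩ := exists_normal_pgroup (S ⧸ E0)
  set E1 : Subgroup S := Eb.comap (QuotientGroup.mk' E0) with hE1
  have hE1n : E1.Normal := hEbn.comap _
  -- cardinality of `E1`
  have hqF : Fact q.Prime := ⟨hq⟩
  obtain ⟨k, hk⟩ := hEbp.exists_card_eq
  have hk0 : k ≠ 0 := by
    rintro rfl
    rw [pow_zero] at hk
    exact hEb (Subgroup.card_eq_one.mp hk)
  have hE1card : Nat.card E1 = 2 * q ^ k := by
    have h1 : E1.index = Eb.index :=
      Subgroup.index_comap_of_surjective Eb (QuotientGroup.mk'_surjective E0)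
    have h2 : Nat.card E1 * E1.index = Nat.card S := Subgroup.card_mul_index E1
    have h3 : Nat.card Eb * Eb.index = Nat.card (S ⧸ E0) := Subgroup.card_mul_index Eb
    have h4 : Nat.card S = Nat.card (S ⧸ E0) * Nat.card E0 :=
      Subgroup.card_eq_card_quotient_mul_card_subgroup E0
    have h0 : Eb.index ≠ 0 := Subgroup.index_ne_zero_of_finite
    rw [h1, h4, ← h3, hE0card, hk] at h2
    have : Nat.card E1 * Eb.index = (2 * q ^ k) * Eb.index := by rw [h2]; ring
    exact Nat.eq_of_mul_eq_mul_right (Nat.pos_of_ne_zero h0) this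
  by_cases hq2 : q = 2
  · -- a normal 2-subgroup of order at least 4
    subst hq2
    have hE1p : IsPGroup 2 E1 := by
      apply IsPGroup.of_card (n := k + 1)
      rw [hE1card]; ring
    refine ⟨2, hp, E1, hE1n, ?_, hE1p, fun _ => Or.inl ?_⟩
    · intro h
      rw [h, Subgroup.card_bot] at hE1card
      have : 0 < 2 ^ k := pow_pos (by norm_num) k
      omega
    · rw [hE1card]
      have : 2 ^ 1 ≤ 2 ^ k := Nat.pow_le_pow_right (by norm_num) (by omega)
      omega
  · -- odd prime: the Sylow subgroup of `E1` has index 2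
    obtain ⟨R⟩ : Nonempty (Sylow q E1) := inferInstance
    have hRcard : Nat.card R = q ^ k := by
      rw [Sylow.card_eq_multiplicity, hE1card]
      congr 1
      have hq2' : ¬ q ∣ 2 := by
        intro h
        exact hq2 ((Nat.prime_dvd_prime_iff_eq hq Nat.prime_two).mp h)
      rw [Nat.factorization_mul (by norm_num) (pow_ne_zero _ hq.ne_zero)]
      simp [hq.factorization_pow, Nat.factorization_eq_zero_of_not_dvd hq2']
    have hRidx : (R : Subgroup E1).index = 2 := by
      have h := Subgroup.card_mul_index (R : Subgroup E1)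
      rw [hRcard, hE1card] at h
      have : q ^ k * (R : Subgroup E1).index = q ^ k * 2 := by rw [h]; ring
      exact Nat.eq_of_mul_eq_mul_left (pow_pos hq.pos _) this
    have hRn : (R : Subgroup E1).Normal := Subgroup.normal_of_index_eq_two hRidx
    have hRc : (R : Subgroup E1).Characteristic := Sylow.characteristic_of_normal R hRn
    have hEn : ((R : Subgroup E1).map E1.subtype).Normal :=
      ConjAct.normal_of_characteristic_of_normal
    refine ⟨q, hq, (R : Subgroup E1).map E1.subtype, hEn, ?_, R.isPGroup'.map _,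
      fun h => absurd h hq2⟩
    intro h
    rw [Subgroup.map_eq_bot_iff_of_injective _ E1.subtype_injective] at h
    rw [h, Subgroup.card_bot] at hRcard
    have : 1 < q ^ k := Nat.one_lt_pow hk0 hq.one_lt
    omega

/-- P7: a solvable subgroup normalises a suitable `p`-subgroup -/
theorem P7_solvable {G : Type*} [Group G] [Finite G] (S : Subgroup G) (hS : IsSolvable S)
    (hS1 : S ≠ ⊥) :
    ∃ p : ℕ, p.Prime ∧ ∃ E : Subgroup G, E ≤ S ∧ E ≠ ⊥ ∧ IsPGroup p E ∧
      S ≤ Subgroup.normalizer (E : Set G) ∧ (p = 2 → 4 ≤ Nat.card E ∨ E = S) := by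
  have hsol : Group.IsSolvable S := hS
  have hnt : Nontrivial S := (Subgroup.nontrivial_iff_ne_bot S).mpr hS1
  obtain ⟨p, hp, E, hEn, hE, hEp, h2⟩ := exists_good_normal_pgroup S
  refine ⟨p, hp, E.map S.subtype, Subgroup.map_subtype_le E, ?_, hEp.map _, ?_, ?_⟩
  · intro h
    rw [Subgroup.map_eq_bot_iff_of_injective _ S.subtype_injective] at h
    exact hE h
  · intro s hs
    apply mem_normalizer_fintype
    rintro _ ⟨e, he, rfl⟩
    exact ⟨⟨s, hs⟩ * e * ⟨s, hs⟩⁻¹, hEn.conj_mem e he ⟨s, hs⟩, rfl⟩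
  · intro hp2
    rcases h2 hp2 with h | h
    · left
      rw [Subgroup.card_map_of_injective S.subtype_injective]
      exact h
    · right
      rw [h, ← MonoidHom.range_eq_map, Subgroup.range_subtype]

end Cfsg.Agent.Helper8.ReeP7
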