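import Mathlib
import Cfsg.Agent.Helper8.S5982NTROOT

set_option autoImplicit false

/-! S5982 piece NORMPOW. -/

namespace Cfsg.Agent.S5982P

/-- NORMPOW: if the norm of `z` is an `r`-th power in the fixed field then `z` is an `r`-th power -/
theorem exists_root_of_norm {F : Type*} [Field F] [Fintype F] {q₀ : ℕ}
    (hF : Fintype.card F = q₀ ^ 2) (r : ℕ) [Fact r.Prime] (hr : r ∣ q₀ - 1) (c z : F) (hc0 : c ≠ 0)
    (hc : c ^ q₀ = c) (hcz : c ^ r = z ^ (q₀ + 1)) : ∃ d : F, d ^ r = z := by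
  classical
  have hrp : r.Prime := Fact.out
  have hq2 : 2 ≤ q₀ := by
    have h1 : 1 < Fintype.card F := Fintype.one_lt_card
    rw [hF] at h1
    by_contra hlt
    have : q₀ = 0 ∨ q₀ = 1 := by omega
    rcases this with h | h <;> simp [h] at h1
  have hz0 : z ≠ 0 := by
    rintro rfl
    rw [zero_pow (by omega)] at hcz
    exact pow_ne_zero r hc0 hcz
  obtain ⟨m, hm⟩ := hr
  have hc1 : c ^ (q₀ - 1) = 1 := by
    have h : c ^ (q₀ - 1) * c = c := by
      rw [← pow_succ]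
      have : q₀ - 1 + 1 = q₀ := by omega
      rw [this, hc]
    exact mul_right_cancel₀ hc0 (by rw [h, one_mul])
  have hN : Fintype.card F - 1 = r * ((q₀ + 1) * m) := by
    rw [hF]
    have h1 : q₀ ^ 2 - 1 = (q₀ + 1) * (q₀ - 1) := by
      have : q₀ ^ 2 = (q₀ + 1) * (q₀ - 1) + 1 := by
        obtain ⟨k, rfl⟩ : ∃ k, q₀ = k + 1 := ⟨q₀ - 1, by omega⟩
        simp only [Nat.add_sub_cancel]
        ring
      omega
    rw [h1, hm]; ring
  have hgcd : Nat.gcd r (Fintype.card F - 1) = r := Nat.gcd_eq_left (by rw [hN]; exact dvd_mul_right _ _)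
  apply NTROOT.exists_pow_eq_of_pow_div_gcd r z hz0
  rw [hgcd, hN, Nat.mul_div_cancel_left _ hrp.pos, pow_mul, ← hcz, ← pow_mul, ← hm, hc1]

end Cfsg.Agent.S5982P
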