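import Mathlib
import Cfsg.Prelude.Def_GeometricClasses
import Cfsg.Prelude.Def_Classical
import Cfsg.Prelude.Def_LieClassical

set_option autoImplicit false
open scoped MatrixGroups Matrix

/-! S5982 piece BLK1. -/

namespace Cfsg.Agent.S5982P

namespace BLK1

theorem sub_left {F : Type*} [Field F] {q₀ n : ℕ} {f' : (Fin n → F) → (Fin n → F) → F}
    (hf' : Cfsg.Geo.IsUnitaryFormPow q₀ f') (a b c : Fin n → F) :
    f' (a - b) c = f' a c - f' b c := by
  have : a - b = a + (-1 : F) • b := by rw [neg_one_smul, sub_eq_add_neg]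
  rw [this, hf'.add_left, hf'.smul_left]
  ring

theorem q_ne_zero {F : Type*} [Field F] {q₀ n : ℕ} {f' : (Fin n → F) → (Fin n → F) → F}
    (hf' : Cfsg.Geo.IsUnitaryFormPow q₀ f') : q₀ ≠ 0 := by
  rintro rfl
  have h1 := hf'.herm 0 0
  have h2 := hf'.smul_left 0 0 0
  rw [zero_smul, zero_mul] at h2
  rw [pow_zero, h2] at h1
  exact zero_ne_one h1

end BLK1

/-- BLK1: for an isometry `x` with `x ^ r = 1`, `r ≠ 0` in `F`, the form is non-degenerate on the range of `x - 1` -/
theorem isometry_range_nondeg {F : Type*} [Field F] {q₀ : ℕ} (n : ℕ)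
    (f' : (Fin n → F) → (Fin n → F) → F) (hf' : Cfsg.Geo.IsUnitaryFormPow q₀ f') (x : GL (Fin n) F)
    (hx : ∀ u v, f' ((x : Matrix (Fin n) (Fin n) F) *ᵥ u) ((x : Matrix (Fin n) (Fin n) F) *ᵥ v) =
      f' u v) (r : ℕ) (hr : (r : F) ≠ 0) (hxr : (x : Matrix (Fin n) (Fin n) F) ^ r = 1) :
    ∀ w ∈ LinearMap.range (Matrix.toLin' (x : Matrix (Fin n) (Fin n) F) - 1), w ≠ 0 →
      ∃ w' ∈ LinearMap.range (Matrix.toLin' (x : Matrix (Fin n) (Fin n) F) - 1), f' w' w ≠ 0 := by
  classical
  intro w hw hw0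
  set X : Matrix (Fin n) (Fin n) F := (x : Matrix (Fin n) (Fin n) F) with hX
  set T : Module.End F (Fin n → F) := Matrix.toLin' X with hT
  have hTapp : ∀ v, T v = X *ᵥ v := fun v => Matrix.toLin'_apply X v
  have hTr : T ^ r = 1 := by
    rw [hT, ← Matrix.toLin'_pow, hxr, Matrix.toLin'_one]; rfl
  obtain ⟨u, hu⟩ := (hf'.nondegenerate w hw0).1
  set S : Module.End F (Fin n → F) := ∑ j ∈ Finset.range r, T ^ j with hS
  have hTS : (T - 1) * S = 0 := by
    rw [hS, mul_geom_sum, hTr, sub_self]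
  set k : Fin n → F := (r : F)⁻¹ • S u with hk
  have hTk : T k = k := by
    have h1 : (T - 1) (S u) = 0 := by
      have := LinearMap.congr_fun hTS u
      simpa using this
    have h2 : T (S u) = S u := by
      have : (T - 1) (S u) = T (S u) - S u := by simp
      rw [this] at h1
      exact sub_eq_zero.mp h1
    rw [hk, map_smul, h2]
  -- `u - k` lies in the range
  have hmem : u - k ∈ LinearMap.range (T - 1) := by
    have hpow : ∀ j : ℕ, (T ^ j - 1) u ∈ LinearMap.range (T - 1) := by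
      intro j
      rw [← mul_geom_sum]
      exact ⟨_, rfl⟩
    have h1 : u - k = -((r : F)⁻¹ • ∑ j ∈ Finset.range r, (T ^ j - 1) u) := by
      have h2 : ∑ j ∈ Finset.range r, (T ^ j - 1) u = S u - (r : F) • u := by
        simp only [LinearMap.sub_apply, Module.End.one_apply, Finset.sum_sub_distrib, hS,
          LinearMap.sum_apply, Finset.sum_const, Finset.card_range]
        rw [Nat.cast_smul_eq_nsmul]
      rw [h2, smul_sub, smul_smul, inv_mul_cancel₀ hr, one_smul, hk]
      abel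
    rw [h1]
    exact Submodule.neg_mem _ (Submodule.smul_mem _ _ (Submodule.sum_mem _ fun j _ => hpow j))
  -- `k` is orthogonal to the range
  have hq0 := BLK1.q_ne_zero hf'
  have hkw : f' k w = 0 := by
    obtain ⟨v, rfl⟩ := hw
    rw [hf'.herm]
    have h1 : (T - 1) v = X *ᵥ v - v := by simp [hTapp]
    rw [h1, BLK1.sub_left hf']
    have h2 : f' (X *ᵥ v) k = f' v k := by
      conv_lhs => rw [← hTk, hTapp k]
      exact hx v k
    rw [h2, sub_self, zero_pow hq0]
  refine ⟨u - k, hmem, ?_⟩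
  rw [BLK1.sub_left hf', hkw, sub_zero]
  exact hu

end Cfsg.Agent.S5982P
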