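import Mathlib

set_option autoImplicit false
set_option linter.unusedVariables false

/-! S5982 piece NTGU. -/

namespace Cfsg.Agent.S5982P

/-- NTGU: a prime dividing the order formula of `GU_i(q₀)`, `i = ord_r(q₀²)` -/
theorem nt_gu (r q₀ : ℕ) [Fact r.Prime] (hr2 : r ≠ 2) (hrq : ¬ r ∣ q₀) (i : ℕ)
    (hi : i = orderOf (((q₀ ^ 2 : ℕ) : ℕ) : ZMod r))
    (h : r ∣ q₀ ^ (i * (i - 1) / 2) *
      ∏ j ∈ Finset.range i, (if Even j then q₀ ^ (j + 1) + 1 else q₀ ^ (j + 1) - 1)) :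
    Odd i ∧ r ∣ q₀ ^ i + 1 := by
  classical
  have hr : r.Prime := Fact.out
  have hq0 : 1 ≤ q₀ := by
    rcases Nat.eq_zero_or_pos q₀ with h0 | h0
    · exact absurd (h0 ▸ dvd_zero r) hrq
    · exact h0
  have hcast : (((q₀ ^ 2 : ℕ) : ℕ) : ZMod r) = (q₀ : ZMod r) ^ 2 := by push_cast; rfl
  rw [hcast] at hi
  set a : ZMod r := (q₀ : ZMod r) with ha
  rcases (Nat.Prime.dvd_mul hr).mp h with h1 | h1
  · exact absurd (hr.dvd_of_dvd_pow h1) hrq
  obtain ⟨j, hj, hdj⟩ := (Prime.dvd_finsetProd_iff (Nat.Prime.prime hr) _).mp h1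
  rw [Finset.mem_range] at hj
  by_cases hev : Even j
  · rw [if_pos hev] at hdj
    have h2 : a ^ (j + 1) + 1 = 0 := by
      have := (ZMod.natCast_eq_zero_iff _ r).mpr hdj
      push_cast at this
      exact this
    have h3 : (a ^ 2) ^ (j + 1) = 1 := by
      rw [← pow_mul, mul_comm, pow_mul, eq_neg_of_add_eq_zero_left h2]
      norm_num
    have h4 : i ∣ j + 1 := by rw [hi]; exact orderOf_dvd_of_pow_eq_one h3
    have h5 : i = j + 1 := le_antisymm (Nat.le_of_dvd (by omega) h4) hj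
    refine ⟨?_, ?_⟩
    · rw [h5]; exact hev.add_one
    · rw [h5]; exact hdj
  · rw [if_neg hev] at hdj
    exfalso
    have hodd : Odd j := Nat.not_even_iff_odd.mp hev
    obtain ⟨k, hk⟩ := hodd
    have hpos : 1 ≤ q₀ ^ (j + 1) := Nat.one_le_pow _ _ hq0
    have h2 : a ^ (j + 1) = 1 := by
      have := (ZMod.natCast_eq_zero_iff _ r).mpr hdj
      rw [Nat.cast_sub hpos] at this
      push_cast at this
      exact sub_eq_zero.mp this
    have h3 : (a ^ 2) ^ (k + 1) = 1 := by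
      rw [← pow_mul]
      have : 2 * (k + 1) = j + 1 := by omega
      rw [this, h2]
    have h4 : i ≤ k + 1 := by rw [hi]; exact orderOf_le_of_pow_eq_one (by omega) h3
    omega

end Cfsg.Agent.S5982P
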