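import Mathlib
import Cfsg.Agent.Helper8.AS1

/-!
# Elements of `P` inverted by an element of `G`
-/

set_option autoImplicit false

universe u

namespace Cfsg.Agent.Helper8.AS

open Cfsg

variable {G : Type*} [Group G] [Finite G] {p : ℕ} [hp : Fact p.Prime]

/-- A Frattini-type argument. -/
theorem exists_mul_mem_normalizer (P : Sylow p G) (H : Subgroup G) (h1 : (P : Subgroup G) ≤ H)
    (s : G) (h2 : ∀ z ∈ (P : Subgroup G), s * z * s⁻¹ ∈ H) :
    ∃ h ∈ H, h * s ∈ Subgroup.normalizer ((P : Subgroup G) : Set G) := by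
  have h2' : ↑(s • P) ≤ H := by
    rw [Sylow.coe_subgroup_smul]
    rintro - ⟨z, hz, rfl⟩
    exact h2 z hz
  obtain ⟨h, hh⟩ := MulAction.exists_smul_eq H ((s • P).subtype h2') (P.subtype h1)
  simp_rw [Sylow.smul_subtype, Subgroup.smul_def, smul_smul] at hh
  exact ⟨h, h.2, Sylow.smul_eq_iff_mem_normalizer.mp (Sylow.subtype_injective hh)⟩

/-- **No inversion**: an element of `P` inverted by an element of `G` has order at most two. -/
theorem mul_self_eq_one_of_inverted (P : Sylow p G) (hab : IsMulCommutative P)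
    (hfrob : ∀ y : G, y ∈ (P : Subgroup G) → y ≠ 1 →
      Subgroup.centralizer ({y} : Set G) ⊓ Subgroup.normalizer ((P : Subgroup G) : Set G) =
        Subgroup.centralizer ((P : Subgroup G) : Set G))
    (hCN : (Subgroup.centralizer ((P : Subgroup G) : Set G)).relIndex
      (Subgroup.normalizer ((P : Subgroup G) : Set G)) = 3)
    {y : G} (hyP : y ∈ (P : Subgroup G)) {s : G} (hs : s * y * s⁻¹ = y⁻¹) : y * y = 1 := by
  by_cases hy1 : y = 1
  · rw [hy1, mul_one]
  set H : Subgroup G := Subgroup.centralizer ({y} : Set G) with hH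
  have hPH : (P : Subgroup G) ≤ H := le_centralizer_singleton P hab hyP
  have hs' : s⁻¹ * y * s = y⁻¹ := by
    have e : y = s⁻¹ * y⁻¹ * s := by rw [← hs]; group
    calc s⁻¹ * y * s = (s⁻¹ * y⁻¹ * s)⁻¹ := by group
      _ = y⁻¹ := by rw [← e]
  have hnorm : ∀ z ∈ H, s * z * s⁻¹ ∈ H := by
    intro z hz
    rw [hH, mem_centralizer_singleton] at hz ⊢
    have hz' : y⁻¹ * z = z * y⁻¹ := by
      calc y⁻¹ * z = y⁻¹ * (z * y) * y⁻¹ := by group
        _ = y⁻¹ * (y * z) * y⁻¹ := by rw [hz]
        _ = z * y⁻¹ := by group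
    calc y * (s * z * s⁻¹) = s * ((s⁻¹ * y * s) * z) * s⁻¹ := by group
      _ = s * (y⁻¹ * z) * s⁻¹ := by rw [hs']
      _ = s * (z * y⁻¹) * s⁻¹ := by rw [hz']
      _ = s * z * s⁻¹ * (s * y⁻¹ * s⁻¹) := by group
      _ = s * z * s⁻¹ * (s * y * s⁻¹)⁻¹ := by group
      _ = s * z * s⁻¹ * y := by rw [hs, inv_inv]
  obtain ⟨h, hhH, hn⟩ := exists_mul_mem_normalizer P H hPH s (fun z hz => hnorm z (hPH hz))
  set n : G := h * s with hndef
  have hhy : y * h = h * y := mem_centralizer_singleton.mp hhH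
  have hny : n * y * n⁻¹ = y⁻¹ := by
    have hh' : h * y⁻¹ * h⁻¹ = y⁻¹ := by
      calc h * y⁻¹ * h⁻¹ = (h * y * h⁻¹)⁻¹ := by group
        _ = (y * h * h⁻¹)⁻¹ := by rw [hhy]
        _ = y⁻¹ := by group
    calc n * y * n⁻¹ = h * (s * y * s⁻¹) * h⁻¹ := by rw [hndef]; group
      _ = h * y⁻¹ * h⁻¹ := by rw [hs]
      _ = y⁻¹ := hh'
  have hn2 : n * n ∈ Subgroup.centralizer ((P : Subgroup G) : Set G) := by
    rw [← hfrob y hyP hy1]
    refine Subgroup.mem_inf.mpr ⟨?_, Subgroup.mul_mem _ hn hn⟩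
    rw [mem_centralizer_singleton]
    have : n * n * y * (n * n)⁻¹ = y := by
      calc n * n * y * (n * n)⁻¹ = n * (n * y * n⁻¹) * n⁻¹ := by group
        _ = n * y⁻¹ * n⁻¹ := by rw [hny]
        _ = (n * y * n⁻¹)⁻¹ := by group
        _ = y := by rw [hny, inv_inv]
    calc y * (n * n) = (n * n * y * (n * n)⁻¹) * (n * n) := by rw [this]
      _ = n * n * y := by group
  have hn3 : n ^ 3 ∈ Subgroup.centralizer ((P : Subgroup G) : Set G) := by
    have h3 := Subgroup.pow_index_mem ((Subgroup.centralizer ((P : Subgroup G) : Set G)).subgroupOf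
      (Subgroup.normalizer ((P : Subgroup G) : Set G))) (⟨n, hn⟩ : Subgroup.normalizer ((P : Subgroup G) : Set G))
    have e : ((Subgroup.centralizer ((P : Subgroup G) : Set G)).subgroupOf
      (Subgroup.normalizer ((P : Subgroup G) : Set G))).index = 3 := hCN
    rw [e, Subgroup.mem_subgroupOf] at h3
    exact h3
  have hnC : n ∈ Subgroup.centralizer ((P : Subgroup G) : Set G) := by
    have : n = n ^ 3 * (n * n)⁻¹ := by group
    rw [this]
    exact Subgroup.mul_mem _ hn3 (Subgroup.inv_mem _ hn2)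
  have hcomm : y * n = n * y := (Subgroup.mem_centralizer_iff.mp hnC) y hyP
  have : y⁻¹ = y := by
    calc y⁻¹ = n * y * n⁻¹ := hny.symm
      _ = y * n * n⁻¹ := by rw [hcomm]
      _ = y := by group
  calc y * y = y * y⁻¹ := by nth_rewrite 2 [← this]; rfl
    _ = 1 := mul_inv_cancel y

omit [Finite G] hp in
/-- Two involutions whose product has odd order are conjugate. -/
theorem exists_conj_of_mul_odd {a u : G} (ha : a * a = 1) (hu : u * u = 1)
    (hodd : Odd (orderOf (a * u))) : ∃ e : G, e⁻¹ * a * e = u := by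
  obtain ⟨j, hj⟩ := hodd
  set w : G := a * u with hw
  have hai : a⁻¹ = a := inv_eq_of_mul_eq_one_right ha
  have hui : u⁻¹ = u := inv_eq_of_mul_eq_one_right hu
  have hinv : a * w * a⁻¹ = w⁻¹ := by
    rw [hw, mul_inv_rev, hai, hui]
    calc a * (a * u) * a = (a * a) * u * a := by group
      _ = u * a := by rw [ha, one_mul]
  refine ⟨w ^ (j + 1), ?_⟩
  have h1 : a * w ^ (j + 1) * a⁻¹ = (w ^ (j + 1))⁻¹ := by
    rw [← conj_pow, hinv, inv_pow]
  have h2 : w ^ (j + 1) * w ^ (j + 1) = w := by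
    rw [← pow_add]
    have : j + 1 + (j + 1) = orderOf w + 1 := by rw [hj]; ring
    rw [this, pow_succ, pow_orderOf_eq_one, one_mul]
  have h3 : a * w ^ (j + 1) = (w ^ (j + 1))⁻¹ * a := by
    calc a * w ^ (j + 1) = (a * w ^ (j + 1) * a⁻¹) * a := by group
      _ = (w ^ (j + 1))⁻¹ * a := by rw [h1]
  calc (w ^ (j + 1))⁻¹ * a * w ^ (j + 1) = (w ^ (j + 1))⁻¹ * (a * w ^ (j + 1)) := by group
    _ = (w ^ (j + 1))⁻¹ * ((w ^ (j + 1))⁻¹ * a) := by rw [h3]
    _ = (w ^ (j + 1) * w ^ (j + 1))⁻¹ * a := by group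
    _ = w⁻¹ * a := by rw [h2]
    _ = u * a * a := by rw [hw, mul_inv_rev, hai, hui]
    _ = u := by rw [mul_assoc, ha, mul_one]

/-- In `C_G(y)` the Sylow subgroup `P` is in the centre of its normalizer. -/
theorem normalizer_le_centralizer_subtype (P : Sylow p G) (hab : IsMulCommutative P) {y : G}
    (hyP : y ∈ P)
    (hfrob : Subgroup.centralizer ({y} : Set G) ⊓ Subgroup.normalizer ((P : Subgroup G) : Set G) =
      Subgroup.centralizer ((P : Subgroup G) : Set G)) :
    Subgroup.normalizer (((P.subtype (le_centralizer_singleton P hab hyP) :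
        Sylow p ↥(Subgroup.centralizer ({y} : Set G))) :
        Subgroup ↥(Subgroup.centralizer ({y} : Set G))) : Set ↥(Subgroup.centralizer ({y} : Set G))) ≤
      Subgroup.centralizer (((P.subtype (le_centralizer_singleton P hab hyP) :
        Sylow p ↥(Subgroup.centralizer ({y} : Set G))) :
        Subgroup ↥(Subgroup.centralizer ({y} : Set G))) : Set ↥(Subgroup.centralizer ({y} : Set G))) := by
  set H : Subgroup G := Subgroup.centralizer ({y} : Set G) with hH
  have hPH : (P : Subgroup G) ≤ H := le_centralizer_singleton P hab hyP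
  set Q : Sylow p H := P.subtype hPH with hQ
  have hQcoe : (Q : Subgroup H) = (P : Subgroup G).subgroupOf H := Sylow.coe_subtype P hPH
  intro h hh
  have hnG : (h : G) ∈ Subgroup.normalizer ((P : Subgroup G) : Set G) := by
    rw [Subgroup.mem_normalizer_iff]
    intro x
    have key := (Subgroup.mem_normalizer_iff.mp hh)
    constructor
    · intro hx
      have hxH : x ∈ H := hPH hx
      have h1 : (⟨x, hxH⟩ : H) ∈ (Q : Subgroup H) := by
        rw [hQcoe, Subgroup.mem_subgroupOf]; exact hx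
      have h2 := (key ⟨x, hxH⟩).mp h1
      rw [hQcoe, Subgroup.mem_subgroupOf] at h2
      exact h2
    · intro hx
      have hxH : (h : G) * x * (h : G)⁻¹ ∈ H := hPH hx
      have hxH' : x ∈ H := by
        have : x = (h : G)⁻¹ * ((h : G) * x * (h : G)⁻¹) * (h : G) := by group
        rw [this]
        exact H.mul_mem (H.mul_mem (H.inv_mem h.2) hxH) h.2
      have h1 : h * (⟨x, hxH'⟩ : H) * h⁻¹ ∈ (Q : Subgroup H) := by
        rw [hQcoe, Subgroup.mem_subgroupOf]; exact hx
      have h2 := (key ⟨x, hxH'⟩).mpr h1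
      rw [hQcoe, Subgroup.mem_subgroupOf] at h2
      exact h2
  have hcG : (h : G) ∈ Subgroup.centralizer ((P : Subgroup G) : Set G) := by
    rw [← hfrob]
    exact ⟨h.2, hnG⟩
  rw [Subgroup.mem_centralizer_iff]
  intro x hx
  have hx' : (x : G) ∈ (P : Subgroup G) := by
    have : x ∈ (Q : Subgroup H) := hx
    rw [hQcoe, Subgroup.mem_subgroupOf] at this
    exact this
  apply Subtype.ext
  exact (Subgroup.mem_centralizer_iff.mp hcG) (x : G) hx'

/-- **Local analysis in `C_G(y)`**: a homomorphism onto a `p`-group whose kernel is the set of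
`p`-regular elements and which is injective on `P`. -/
theorem exists_local_hom {G : Type u} [Group G] [Finite G] {p : ℕ} [hp : Fact p.Prime]
    (P : Sylow p G) (hab : IsMulCommutative P) {y : G} (hyP : y ∈ P)
    (hfrob : Subgroup.centralizer ({y} : Set G) ⊓ Subgroup.normalizer ((P : Subgroup G) : Set G) =
      Subgroup.centralizer ((P : Subgroup G) : Set G)) :
    ∃ (A : Type u) (_ : Group A) (φ : ↥(Subgroup.centralizer ({y} : Set G)) →* A),
      (∀ a : ↥(Subgroup.centralizer ({y} : Set G)), φ a = 1 ↔ ¬ p ∣ orderOf (a : G)) ∧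
      (∀ a : ↥(Subgroup.centralizer ({y} : Set G)), ∃ u : ↥(Subgroup.centralizer ({y} : Set G)),
        (u : G) ∈ (P : Subgroup G) ∧ φ a = φ u) ∧
      (∀ u : ↥(Subgroup.centralizer ({y} : Set G)), (u : G) ∈ (P : Subgroup G) → φ u = 1 → u = 1) := by
  set H : Subgroup G := Subgroup.centralizer ({y} : Set G) with hH
  have hPH : (P : Subgroup G) ≤ H := le_centralizer_singleton P hab hyP
  set Q : Sylow p H := P.subtype hPH with hQ
  have hQcoe : (Q : Subgroup H) = (P : Subgroup G).subgroupOf H := Sylow.coe_subtype P hPH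
  have hN := normalizer_le_centralizer_subtype P hab hyP hfrob
  have hc := MonoidHom.ker_transferSylow_isComplement' Q hN
  set φ := MonoidHom.transferSylow Q hN with hφ
  have hcardK : Nat.card φ.ker = (Q : Subgroup H).index := by
    have h1 := hc.card_mul_card
    have h2 := Subgroup.card_mul_index (Q : Subgroup H)
    have hpos : 0 < Nat.card (Q : Subgroup H) := Nat.card_pos
    have : Nat.card (Q : Subgroup H) * Nat.card φ.ker =
        Nat.card (Q : Subgroup H) * (Q : Subgroup H).index := by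
      rw [h2, ← h1, mul_comm]
    exact Nat.eq_of_mul_eq_mul_left hpos this
  refine ⟨_, _, φ, ?_, ?_, ?_⟩
  · intro a
    constructor
    · intro ha hdvd
      have hak : a ∈ φ.ker := ha
      have h1 : orderOf (⟨a, hak⟩ : φ.ker) ∣ Nat.card φ.ker := orderOf_dvd_natCard _
      have h2 : orderOf (⟨a, hak⟩ : φ.ker) = orderOf (a : G) := by
        rw [← Subgroup.orderOf_coe, ← Subgroup.orderOf_coe]
      rw [h2, hcardK] at h1
      exact Q.not_dvd_index (dvd_trans hdvd h1)
    · intro ha
      obtain ⟨k, hk⟩ := IsPGroup.iff_orderOf.mp Q.isPGroup' (φ a)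
      have h1 : orderOf (φ a) ∣ orderOf a := orderOf_map_dvd φ a
      rw [hk, ← Subgroup.orderOf_coe] at h1
      rcases Nat.eq_zero_or_pos k with h0 | hpos
      · rw [h0, pow_zero, orderOf_eq_one_iff] at hk
        exact hk
      · exfalso
        exact ha (dvd_trans (dvd_pow_self p hpos.ne') h1)
  · intro a
    obtain ⟨⟨k, u⟩, hku, _⟩ := hc.existsUnique a
    refine ⟨(u : H), ?_, ?_⟩
    · have h3 : ∀ z : H, z ∈ (Q : Subgroup H) → (z : G) ∈ (P : Subgroup G) := by
        intro z hz
        rw [hQcoe, Subgroup.mem_subgroupOf] at hz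
        exact hz
      exact h3 (u : H) u.2
    · have hk1 : φ (k : H) = 1 := k.2
      simp only at hku
      rw [← hku, map_mul, hk1, one_mul]
  · intro u huP hu1
    have h1 : u ∈ (Q : Subgroup H) := by
      rw [hQcoe, Subgroup.mem_subgroupOf]; exact huP
    have h2 : u ∈ φ.ker := hu1
    have := hc.disjoint
    rw [Subgroup.disjoint_def] at this
    exact this h2 h1

end Cfsg.Agent.Helper8.AS
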