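import Mathlib
import Cfsg.Agent.Helper8.AS14
import Cfsg.Agent.Helper5.PPart
import Cfsg.Agent.S0925

/-!
# The `p`-part of a product of two conjugate involutions
-/

set_option autoImplicit false

namespace Cfsg.Agent.Helper8.AS

open Cfsg

variable {G : Type*} [Group G] [Finite G] {p : ℕ} [hp : Fact p.Prime]

omit [Finite G] hp in
theorem isPPart_inv' {g v : G} (h : IsPPart p g v) : IsPPart p g⁻¹ v⁻¹ := by
  obtain ⟨w, hvw, hc, hv, hw⟩ := h
  refine ⟨w⁻¹, ?_, hc.inv_inv, ?_, ?_⟩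
  · rw [← hvw, mul_inv_rev, (hc.inv_inv).eq]
  · simpa using hv
  · simpa using hw

omit [Finite G] in
/-- An involution inverts the `p`-part of its product with another involution. -/
theorem inverts_pPart {x c v : G} (hx : x⁻¹ = x) (hc : c⁻¹ = c) (hv : IsPPart p (x⁻¹ * c) v) :
    x * v * x⁻¹ = v⁻¹ := by
  have h1 : IsPPart p (x * (x⁻¹ * c) * x⁻¹) (x * v * x⁻¹) := Cfsg.Agent.S0925.isPPart_conj hv x
  have h2 : x * (x⁻¹ * c) * x⁻¹ = (x⁻¹ * c)⁻¹ := by
    calc x * (x⁻¹ * c) * x⁻¹ = c * x⁻¹ := by group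
      _ = c⁻¹ * x := by rw [hx, hc]
      _ = (x⁻¹ * c)⁻¹ := by group
  rw [h2] at h1
  exact Cfsg.Agent.Helper5.isPPart_unique h1 (isPPart_inv' hv)

omit [Finite G] hp in
theorem inv_eq_self_of_isConj {t x : G} (ht : t⁻¹ = t) (hx : IsConj t x) : x⁻¹ = x := by
  obtain ⟨h, rfl⟩ := isConj_iff.mp hx
  calc (h * t * h⁻¹)⁻¹ = h * t⁻¹ * h⁻¹ := by group
    _ = h * t * h⁻¹ := by rw [ht]

/-- **Odd primes**: no product of two conjugates of an involution has `p`-part conjugate to a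
nontrivial element of `P`. -/
theorem not_isConj_pPart_of_odd (P : Sylow p G) (hp2 : p ≠ 2) (hab : IsMulCommutative P)
    (hfrob : ∀ y : G, y ∈ (P : Subgroup G) → y ≠ 1 →
      Subgroup.centralizer ({y} : Set G) ⊓ Subgroup.normalizer ((P : Subgroup G) : Set G) =
        Subgroup.centralizer ((P : Subgroup G) : Set G))
    (hCN : (Subgroup.centralizer ((P : Subgroup G) : Set G)).relIndex
      (Subgroup.normalizer ((P : Subgroup G) : Set G)) = 3)
    {t x c : G} (ht : t⁻¹ = t) (hx : IsConj t x) (hc : IsConj t c) {v y : G}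
    (hv : IsPPart p (x⁻¹ * c) v) (hyP : y ∈ (P : Subgroup G)) (hy1 : y ≠ 1) : ¬ IsConj v y := by
  intro hvy
  obtain ⟨k, hk⟩ := isConj_iff.mp hvy
  have hxi := inv_eq_self_of_isConj ht hx
  have hci := inv_eq_self_of_isConj ht hc
  have hinv := inverts_pPart hxi hci hv
  have hs : (k * x * k⁻¹) * y * (k * x * k⁻¹)⁻¹ = y⁻¹ := by
    rw [← hk]
    calc k * x * k⁻¹ * (k * v * k⁻¹) * (k * x * k⁻¹)⁻¹ = k * (x * v * x⁻¹) * k⁻¹ := by group
      _ = k * v⁻¹ * k⁻¹ := by rw [hinv]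
      _ = (k * v * k⁻¹)⁻¹ := by group
  have hyy := mul_self_eq_one_of_inverted P hab hfrob hCN hyP hs
  obtain ⟨j, hj⟩ := IsPGroup.iff_orderOf.mp P.isPGroup' (⟨y, hyP⟩ : (P : Subgroup G))
  rw [← Subgroup.orderOf_coe] at hj
  have h2 : orderOf y ∣ 2 := orderOf_dvd_of_pow_eq_one (by rw [pow_two]; exact hyy)
  rw [hj] at h2
  rcases Nat.eq_zero_or_pos j with h0 | hpos
  · rw [h0, pow_zero, orderOf_eq_one_iff] at hj
    exact hy1 hj
  · have h3 : p ∣ 2 := dvd_trans (dvd_pow_self p hpos.ne') h2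
    exact hp2 ((Nat.prime_dvd_prime_iff_eq hp.out Nat.prime_two).mp h3)

/-- **The prime two**: if the `2`-part of a product of two conjugates of the involution `t` is
conjugate to `1 ≠ y ∈ P`, then `y` is a product of two conjugates of `t` inside `P`. -/
theorem exists_mul_of_two_part (P : Sylow p G) (hp2 : p = 2) (hab : IsMulCommutative P)
    (hfrob : ∀ y : G, y ∈ (P : Subgroup G) → y ≠ 1 →
      Subgroup.centralizer ({y} : Set G) ⊓ Subgroup.normalizer ((P : Subgroup G) : Set G) =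
        Subgroup.centralizer ((P : Subgroup G) : Set G))
    (hCN : (Subgroup.centralizer ((P : Subgroup G) : Set G)).relIndex
      (Subgroup.normalizer ((P : Subgroup G) : Set G)) = 3)
    {t x c : G} (ht : t⁻¹ = t) (hx : IsConj t x) (hc : IsConj t c) {v y : G}
    (hv : IsPPart p (x⁻¹ * c) v) (hyP : y ∈ (P : Subgroup G)) (hy1 : y ≠ 1) (hvy : IsConj v y) :
    ∃ u₁ u₂ : G, u₁ ∈ (P : Subgroup G) ∧ u₂ ∈ (P : Subgroup G) ∧ IsConj t u₁ ∧ IsConj t u₂ ∧
      y = u₁ * u₂ := by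
  obtain ⟨k, hk⟩ := isConj_iff.mp hvy
  have hxi := inv_eq_self_of_isConj ht hx
  have hci := inv_eq_self_of_isConj ht hc
  have hinv := inverts_pPart hxi hci hv
  set s : G := k * x * k⁻¹ with hsdef
  set c' : G := k * c * k⁻¹ with hcdef
  have hts : IsConj t s := hx.trans (isConj_iff.mpr ⟨k, rfl⟩)
  have htc : IsConj t c' := hc.trans (isConj_iff.mpr ⟨k, rfl⟩)
  have hsi : s⁻¹ = s := inv_eq_self_of_isConj ht hts
  have hc'i : c'⁻¹ = c' := inv_eq_self_of_isConj ht htc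
  have hs : s * y * s⁻¹ = y⁻¹ := by
    rw [← hk, hsdef]
    calc k * x * k⁻¹ * (k * v * k⁻¹) * (k * x * k⁻¹)⁻¹ = k * (x * v * x⁻¹) * k⁻¹ := by group
      _ = k * v⁻¹ * k⁻¹ := by rw [hinv]
      _ = (k * v * k⁻¹)⁻¹ := by group
  have hyy := mul_self_eq_one_of_inverted P hab hfrob hCN hyP hs
  have hyi : y⁻¹ = y := inv_eq_of_mul_eq_one_right hyy
  have hg : IsPPart p (s⁻¹ * c') y := by
    have h1 := Cfsg.Agent.S0925.isPPart_conj hv k
    rw [hk] at h1
    have : k * (x⁻¹ * c) * k⁻¹ = s⁻¹ * c' := by rw [hsdef, hcdef]; group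
    rwa [this] at h1
  obtain ⟨r, hyr, hcomm, _, hr⟩ := hg
  set H : Subgroup G := Subgroup.centralizer ({y} : Set G) with hH
  have hsH : s ∈ H := by
    rw [hH, mem_centralizer_singleton]
    rw [hyi] at hs
    calc y * s = (s * y * s⁻¹) * s := by rw [hs]
      _ = s * y := by group
  have hyH : y ∈ H := by rw [hH, mem_centralizer_singleton]
  have hrH : r ∈ H := by rw [hH, mem_centralizer_singleton]; exact hcomm.eq
  have hcH : c' ∈ H := by
    have : c' = s * (y * r) := by rw [hyr, ← hsi]; group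
    rw [this]
    exact H.mul_mem hsH (H.mul_mem hyH hrH)
  obtain ⟨A, _, φ, h1, h2, h3⟩ := exists_local_hom P hab hyP (hfrob y hyP hy1)
  obtain ⟨u₁, hu₁P, hu₁⟩ := h2 ⟨s, hsH⟩
  obtain ⟨u₂, hu₂P, hu₂⟩ := h2 ⟨c', hcH⟩
  -- a general principle
  have key : ∀ (a : G) (haH : a ∈ H) (u : H), (u : G) ∈ (P : Subgroup G) →
      φ ⟨a, haH⟩ = φ u → a⁻¹ = a → IsConj t a → (u * u = 1 ∧ IsConj t (u : G)) := by
    intro a haH u huP hu hai hta
    have haa : (⟨a, haH⟩ : H) * ⟨a, haH⟩ = 1 := by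
      apply Subtype.ext
      show a * a = 1
      calc a * a = a⁻¹ * a := by rw [hai]
        _ = 1 := inv_mul_cancel a
    have huu : u * u = 1 := by
      apply h3 (u * u) (Subgroup.mul_mem _ huP huP)
      rw [map_mul, ← hu, ← map_mul, haa, map_one]
    refine ⟨huu, ?_⟩
    have hφ1 : φ (⟨a, haH⟩ * u) = 1 := by
      rw [map_mul, hu, ← map_mul, huu, map_one]
    have hodd : Odd (orderOf (a * (u : G))) := by
      have := (h1 (⟨a, haH⟩ * u)).mp hφ1
      rw [hp2] at this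
      rw [← Nat.not_even_iff_odd, even_iff_two_dvd]
      exact this
    have haa' : a * a = 1 := congrArg Subtype.val haa
    have huu' : (u : G) * (u : G) = 1 := congrArg Subtype.val huu
    obtain ⟨e, he⟩ := exists_conj_of_mul_odd haa' huu' hodd
    exact hta.trans (isConj_iff.mpr ⟨e⁻¹, by rw [inv_inv]; exact he⟩)
  obtain ⟨huu₁, hc₁⟩ := key s hsH u₁ hu₁P hu₁ hsi hts
  obtain ⟨huu₂, hc₂⟩ := key c' hcH u₂ hu₂P hu₂ hc'i htc
  refine ⟨(u₁ : G), (u₂ : G), hu₁P, hu₂P, hc₁, hc₂, ?_⟩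
  have hu₁i : u₁⁻¹ = u₁ := inv_eq_of_mul_eq_one_right huu₁
  have hφr : φ ⟨r, hrH⟩ = 1 := (h1 ⟨r, hrH⟩).mpr hr
  have heq : (⟨y, hyH⟩ : H) * ⟨r, hrH⟩ = (⟨s, hsH⟩ : H)⁻¹ * ⟨c', hcH⟩ := by
    apply Subtype.ext
    exact hyr
  have hφy : φ ⟨y, hyH⟩ = φ (u₁ * u₂) := by
    have := congrArg φ heq
    rw [map_mul, hφr, mul_one, map_mul, map_inv, hu₁, hu₂, ← map_inv, ← map_mul, hu₁i] at this
    exact this
  have hfin : (u₁ * u₂)⁻¹ * (⟨y, hyH⟩ : H) = 1 := by
    apply h3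
    · exact Subgroup.mul_mem _ (Subgroup.inv_mem _ (Subgroup.mul_mem _ hu₁P hu₂P)) hyP
    · rw [map_mul, map_inv, hφy, inv_mul_cancel]
  have : (⟨y, hyH⟩ : H) = u₁ * u₂ := by
    have := inv_mul_eq_one.mp hfin
    exact this.symm
  exact congrArg Subtype.val this

end Cfsg.Agent.Helper8.AS
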