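import Mathlib
import Cfsg.Agent.Helper8.AS13
import Cfsg.Agent.Helper8.AS15
import Cfsg.Agent.Helper8.CharComp
import Cfsg.Agent.Helper24.LinUnits
import Cfsg.Agent.Helper24.Abelian

/-!
# Values at involutions
-/

set_option autoImplicit false

namespace Cfsg.Agent.Helper8.AS

open Cfsg Cfsg.Agent.Helper24 Cfsg.Agent.Helper5 Cfsg.Agent.Helper5.CC Cfsg.Agent.Helper5.Loc

/-- **Integrality at involutions**. -/
theorem character_involution_int {G : Type*} [Group G] [Finite G] {χ : G → ℂ}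
    (hχ : IsCharacter G χ) (t : G) (ht : t * t = 1) : ∃ n : ℤ, χ t = (n : ℂ) := by
  classical
  set H : Subgroup G := Subgroup.zpowers t with hH
  haveI : Fintype H := Fintype.ofFinite _
  haveI : Fintype (IrrCharacter H) := Fintype.ofFinite _
  have hcomm : ∀ a b : H, a * b = b * a := by
    intro a b
    obtain ⟨i, hi⟩ := Subgroup.mem_zpowers_iff.mp a.2
    obtain ⟨j, hj⟩ := Subgroup.mem_zpowers_iff.mp b.2
    apply Subtype.ext
    show (a : G) * (b : G) = (b : G) * (a : G)
    rw [← hi, ← hj, ← zpow_add, ← zpow_add, add_comm]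
  have hres : IsCharacter H (fun h : H => χ h) := Cfsg.Agent.Helper8.isCharacter_restrict H hχ
  obtain ⟨n, hn⟩ := IsCharacter.exists_nat_coeff hres
  have hone := comm_iff_forall_irr_one.mp hcomm
  set tH : H := ⟨t, Subgroup.mem_zpowers t⟩ with htH
  have htt : tH * tH = 1 := Subtype.ext ht
  have hval : ∀ ψ : IrrCharacter H, ∃ z : ℤ, (ψ : H → ℂ) tH = (z : ℂ) := by
    intro ψ
    set L := linUnits (IsIrrCharacter.isCharacter ψ.2) (hone ψ) with hL
    have h1 : (ψ : H → ℂ) tH = ((L tH : ℂˣ) : ℂ) := rfl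
    have h2 : ((L tH : ℂˣ) : ℂ) * ((L tH : ℂˣ) : ℂ) = 1 := by
      rw [← Units.val_mul, ← map_mul, htt, map_one, Units.val_one]
    rw [h1]
    have h3 : (((L tH : ℂˣ) : ℂ) - 1) * (((L tH : ℂˣ) : ℂ) + 1) = 0 := by
      linear_combination h2
    rcases mul_eq_zero.mp h3 with h | h
    · exact ⟨1, by push_cast; linear_combination h⟩
    · exact ⟨-1, by push_cast; linear_combination h⟩
  choose z hz using hval
  refine ⟨∑ ψ : IrrCharacter H, (n ψ : ℤ) * z ψ, ?_⟩
  have h4 := congrFun hn tH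
  rw [Finset.sum_apply] at h4
  have h5 : χ t = χ (tH : G) := rfl
  rw [h5, h4]
  push_cast
  refine Finset.sum_congr rfl fun ψ _ => ?_
  rw [Pi.smul_apply, smul_eq_mul, hz ψ]

end Cfsg.Agent.Helper8.AS
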