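import Mathlib

/-!
# The arithmetic of three relations
-/

set_option autoImplicit false

namespace Cfsg.Agent.Helper8.AS

/-- Three relations `∑ Aᵢ = ∑ Aᵢ uᵢ = ∑ Aᵢ uᵢ² = 0` (with `A₁ = u₁ = 1`) force `A₂ A₃ A₄` to be
a positive perfect square. -/
theorem alg_square {A₂ A₃ A₄ : ℤ} {u₂ u₃ u₄ : ℚ} (h2 : A₂ ≠ 0) (h3 : A₃ ≠ 0) (h4 : A₄ ≠ 0)
    (hu2 : u₂ ≠ 1)
    (R1 : 1 + A₂ + A₃ + A₄ = 0)
    (R2 : 1 + (A₂ : ℚ) * u₂ + A₃ * u₃ + A₄ * u₄ = 0)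
    (R3 : 1 + (A₂ : ℚ) * u₂ ^ 2 + A₃ * u₃ ^ 2 + A₄ * u₄ ^ 2 = 0) :
    IsSquare (A₂ * A₃ * A₄) ∧ 0 < A₂ * A₃ * A₄ := by
  have R1q : (1 : ℚ) + A₂ + A₃ + A₄ = 0 := by exact_mod_cast R1
  set w₂ : ℚ := u₂ - 1 with hw₂
  set w₃ : ℚ := u₃ - 1 with hw₃
  set w₄ : ℚ := u₄ - 1 with hw₄
  have hw2 : w₂ ≠ 0 := sub_ne_zero.mpr hu2
  have S1 : (A₂ : ℚ) * w₂ + A₃ * w₃ + A₄ * w₄ = 0 := by
    rw [hw₂, hw₃, hw₄]; linear_combination R2 - R1q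
  have S2 : (A₂ : ℚ) * w₂ ^ 2 + A₃ * w₃ ^ 2 + A₄ * w₄ ^ 2 = 0 := by
    rw [hw₂, hw₃, hw₄]; linear_combination R3 - 2 * R2 + R1q
  set a : ℚ := A₂ * (A₄ + A₂) with ha
  set b : ℚ := A₂ * A₃ with hb
  set c : ℚ := A₃ * (A₄ + A₃) with hc
  have Q : a * w₂ ^ 2 + 2 * b * w₂ * w₃ + c * w₃ ^ 2 = 0 := by
    rw [ha, hb, hc]
    linear_combination (A₄ : ℚ) * S2 + ((A₂ : ℚ) * w₂ + A₃ * w₃ - A₄ * w₄) * S1
  have hdisc : b ^ 2 - a * c = (A₂ : ℚ) * A₃ * A₄ := by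
    rw [ha, hb, hc]
    linear_combination (-(A₂ : ℚ) * A₃ * A₄) * R1q
  have key : (c * w₃ + b * w₂) ^ 2 = ((A₂ : ℚ) * A₃ * A₄) * w₂ ^ 2 := by
    rw [← hdisc]
    linear_combination c * Q
  have hsqQ : ((A₂ * A₃ * A₄ : ℤ) : ℚ) = ((c * w₃ + b * w₂) / w₂) ^ 2 := by
    push_cast
    rw [div_pow, key]
    field_simp
  have hsq : IsSquare (A₂ * A₃ * A₄) := by
    rw [← Rat.isSquare_intCast_iff]
    exact ⟨(c * w₃ + b * w₂) / w₂, by rw [hsqQ]; ring⟩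
  refine ⟨hsq, ?_⟩
  obtain ⟨k, hk⟩ := hsq
  have hne : A₂ * A₃ * A₄ ≠ 0 := mul_ne_zero (mul_ne_zero h2 h3) h4
  rw [hk] at hne ⊢
  have : k ≠ 0 := by
    rintro rfl
    exact hne (by ring)
  exact mul_self_pos.mpr this

/-- The sign pattern: exactly two of the three numbers are negative. -/
theorem alg_signs {A₂ A₃ A₄ : ℤ} (hpos : 0 < A₂ * A₃ * A₄) (R1 : 1 + A₂ + A₃ + A₄ = 0) :
    (A₂ < 0 ∧ A₃ < 0 ∧ 0 < A₄) ∨ (A₂ < 0 ∧ 0 < A₃ ∧ A₄ < 0) ∨ (0 < A₂ ∧ A₃ < 0 ∧ A₄ < 0) := by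
  have h2 : A₂ ≠ 0 := by rintro rfl; simp at hpos
  have h3 : A₃ ≠ 0 := by rintro rfl; simp at hpos
  have h4 : A₄ ≠ 0 := by rintro rfl; simp at hpos
  rcases lt_or_gt_of_ne h2 with a | a <;> rcases lt_or_gt_of_ne h3 with b | b <;>
    rcases lt_or_gt_of_ne h4 with c | c
  · exfalso
    have : A₂ * A₃ * A₄ < 0 := mul_neg_of_pos_of_neg (mul_pos_of_neg_of_neg a b) c
    linarith
  · exact Or.inl ⟨a, b, c⟩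
  · exact Or.inr (Or.inl ⟨a, b, c⟩)
  · exfalso
    have : A₂ * A₃ * A₄ < 0 := mul_neg_of_neg_of_pos (mul_neg_of_neg_of_pos a b) c
    linarith
  · exact Or.inr (Or.inr ⟨a, b, c⟩)
  · exfalso
    have : A₂ * A₃ * A₄ < 0 := mul_neg_of_neg_of_pos (mul_neg_of_pos_of_neg a b) c
    linarith
  · exfalso
    have : A₂ * A₃ * A₄ < 0 := mul_neg_of_pos_of_neg (mul_pos a b) c
    linarith
  · exfalso
    linarith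

end Cfsg.Agent.Helper8.AS
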