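import Mathlib
import Cfsg.Agent.Helper8.AS16
import Cfsg.Agent.Helper8.AS17

/-!
# The three relations for an involution: setup and the case of odd `p`
-/

set_option autoImplicit false

namespace Cfsg.Agent.Helper8.AS

open Cfsg Cfsg.Agent.Helper24 Cfsg.Agent.Helper5 Cfsg.Agent.Helper5.CC Cfsg.Agent.Helper5.Loc

variable {G : Type*} [Group G] [Fintype G] [Fintype (IrrCharacter G)]
variable {M : Ideal AlgInt} {p : ℕ} [hp : Fact p.Prime] {P : Sylow p G}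

/-- The standing hypotheses for `|N : C| = 3`. -/
structure Hyp3 (M : Ideal AlgInt) (P : Sylow p G) : Prop where
  hM : IsPModular p M
  hab : IsMulCommutative P
  hP1 : Nat.card (P : Subgroup G) ≠ 1
  hfrob : ∀ y : G, y ∈ (P : Subgroup G) → y ≠ 1 →
    Subgroup.centralizer ({y} : Set G) ⊓ Subgroup.normalizer ((P : Subgroup G) : Set G) =
      Subgroup.centralizer ((P : Subgroup G) : Set G)
  hCN : (Subgroup.centralizer ((P : Subgroup G) : Set G)).relIndex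
    (Subgroup.normalizer ((P : Subgroup G) : Set G)) = 3
  hm2 : 3 + 1 < Nat.card (P : Subgroup G)

omit [Fintype (IrrCharacter G)] in
theorem Hyp3.hm (H : Hyp3 M P) : (Subgroup.centralizer ((P : Subgroup G) : Set G)).relIndex
    (Subgroup.normalizer ((P : Subgroup G) : Set G)) + 1 < Nat.card (P : Subgroup G) := by
  rw [H.hCN]; exact H.hm2

omit [Fintype (IrrCharacter G)] in
theorem Hyp3.hc (H : Hyp3 M P) : ∀ a b : (P : Subgroup G), a * b = b * a :=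
  fun a b => H.hab.is_comm.comm a b

omit [Fintype G] [Fintype (IrrCharacter G)] in
/-- `p`-elements are conjugate into `P`. -/
theorem exists_conj_mem_sylow_p [Finite G] (P : Sylow p G) (x : G) (hx : ∃ k : ℕ, orderOf x = p ^ k) :
    ∃ g : G, g * x * g⁻¹ ∈ (P : Subgroup G) := by
  obtain ⟨k, hk⟩ := hx
  have hP : IsPGroup p (Subgroup.zpowers x) :=
    IsPGroup.of_card (n := k) (by rw [Nat.card_zpowers, hk])
  obtain ⟨Q, hQ⟩ := hP.exists_le_sylow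
  obtain ⟨g, hg⟩ := MulAction.exists_smul_eq G Q P
  refine ⟨g, ?_⟩
  rw [← hg, Sylow.coe_subgroup_smul]
  have hxQ : x ∈ (Q : Subgroup G) := hQ (Subgroup.mem_zpowers x)
  have := Subgroup.smul_mem_pointwise_smul x (MulAut.conj g) (Q : Subgroup G) hxQ
  rwa [MulAut.smul_def, MulAut.conj_apply] at this

/-- Values of the non-exceptional characters on the sections through `P`. -/
theorem Exc.apply_section_Xf (E : Exc M P) (H : Hyp3 M P) [Fintype ((P : Subgroup G) →* ℂˣ)]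
    (χ : IrrCharacter G) (hχ : χ ∈ E.Xf) (z y : G) (hz : IsPPart p z y)
    (hyP : y ∈ (P : Subgroup G)) (hy1 : y ≠ 1) : (χ : G → ℂ) z = ((-E.nV χ : ℤ) : ℂ) := by
  rw [const_section H.hM P H.hab H.hfrob χ ((E.mem_Xf χ).mp hχ).1 z y hz hyP hy1]
  have := E.apply_P_Xf H.hab χ hχ ⟨y, hyP⟩ (fun h => hy1 (congrArg Subtype.val h))
  rw [this]
  push_cast
  rfl

open Classical in
/-- The sum of the exceptional characters at a nontrivial element of `P`. -/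
theorem Exc.sum_Yf_apply_P (E : Exc M P) (H : Hyp3 M P) [Fintype ((P : Subgroup G) →* ℂˣ)]
    (hE0 : ∀ ψ : (P : Subgroup G) →* ℂˣ, ψ ≠ 1 → E.nV (E.ζ ψ) = 0)
    (y : (P : Subgroup G)) (hy : y ≠ 1) :
    ∑ η ∈ E.Yf, (η : G → ℂ) (y : G) = -(E.ε : ℂ) := by
  have : Finite G := Finite.of_fintype G
  have h1 : ∀ η ∈ E.Yf, (η : G → ℂ) (y : G) = (E.ε : ℂ) *
      ∑ ψ ∈ (Finset.univ.filter (fun ψ : (P : Subgroup G) →* ℂˣ => ψ ≠ 1)).filter
        (fun ψ => E.ζ ψ = η), ((ψ y : ℂˣ) : ℂ) := by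
    intro η hη
    rw [E.apply_P H.hab η (E.Yf_subset hη) y hy, Finset.filter_filter]
    obtain ⟨ψ₁, hψ₁, rfl⟩ := (E.mem_Yf η).mp hη
    rw [hE0 ψ₁ hψ₁]
    simp
  rw [Finset.sum_congr rfl h1, ← Finset.mul_sum,
    Finset.sum_fiberwise_of_maps_to (fun ψ hψ => (E.mem_Yf _).mpr ⟨ψ, (Finset.mem_filter.mp hψ).2, rfl⟩),
    Finset.filter_ne' Finset.univ (1 : (P : Subgroup G) →* ℂˣ),
    Finset.sum_erase_eq_sub (Finset.mem_univ _), sum_dual_apply H.hc y, if_neg hy]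
  simp

/-- **The relation at the identity**. -/
theorem Exc.rel_one (E : Exc M P) (H : Hyp3 M P) [Fintype ((P : Subgroup G) →* ℂˣ)]
    (hE0 : ∀ ψ : (P : Subgroup G) →* ℂˣ, ψ ≠ 1 → E.nV (E.ζ ψ) = 0)
    {η : IrrCharacter G} (hη : η ∈ E.Yf) (g : G) (hg : ¬ p ∣ orderOf g) :
    ∑ χ ∈ E.Xf, ((-E.nV χ : ℤ) : ℂ) * (χ : G → ℂ) g = (E.ε : ℂ) * (η : G → ℂ) g := by
  obtain ⟨ψ, hψ, rfl⟩ := (E.mem_Yf η).mp hη
  have h := E.pRegular_split H.hM H.hab H.hfrob hψ hη g hg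
  have hd : E.dd ψ = 0 := by unfold Exc.dd; rw [hE0 ψ hψ]; rfl
  rw [hd] at h
  push_cast at h ⊢
  linear_combination h

omit [Fintype G] [Fintype (IrrCharacter G)] hp in
theorem inv_eq_self_of_orderOf_two {t : G} (ht : orderOf t = 2) : t⁻¹ = t := by
  have h2 : t ^ 2 = 1 := by rw [← ht]; exact pow_orderOf_eq_one t
  rw [inv_eq_iff_mul_eq_one, ← pow_two, h2]

omit [Fintype (IrrCharacter G)] in
theorem pow_orderOf_of_mem_sylow (P : Sylow p G) {y : G} (hy : y ∈ (P : Subgroup G)) :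
    ∃ k : ℕ, orderOf y = p ^ k := by
  obtain ⟨k, hk⟩ := IsPGroup.iff_orderOf.mp P.isPGroup' (⟨y, hy⟩ : (P : Subgroup G))
  exact ⟨k, by rw [← hk, Subgroup.orderOf_mk]⟩

open Classical in
/-- **The quadratic relation**, splitting form: for `y ∈ P` such that no product of two
conjugates of `t` has `p`-part conjugate to `y`. -/
theorem Exc.rel_sq_split (E : Exc M P) (H : Hyp3 M P) [Fintype ((P : Subgroup G) →* ℂˣ)]
    {t : G} (ht : t⁻¹ = t) (y : (P : Subgroup G)) (hy : y ≠ 1)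
    (hgood : ∀ x c : G, IsConj t x → IsConj t c → ∀ v : G, IsPPart p (x⁻¹ * c) v →
      ¬ IsConj v (y : G)) :
    ∑ χ ∈ E.Xf, ((-E.nV χ : ℤ) : ℂ) * (χ : G → ℂ) t ^ 2 / (χ : G → ℂ) 1 +
      ∑ η ∈ E.Yf, (η : G → ℂ) t ^ 2 / (η : G → ℂ) 1 * (η : G → ℂ) ((y⁻¹ : (P : Subgroup G)) : G) = 0 := by
  have h := sum_block_sq_mul H.hM (principalBlock M G) isPBlock_principalBlock t ht (y : G)
    (pow_orderOf_of_mem_sylow P y.2) hgood
  rw [E.sum_split (fun χ => if χ ∈ principalBlock M G then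
      (χ : G → ℂ) t ^ 2 / (χ : G → ℂ) 1 * (χ : G → ℂ) (y : G)⁻¹ else 0)
    (fun χ hχ => if_neg hχ)] at h
  have hyinv : y⁻¹ ≠ 1 := inv_ne_one.mpr hy
  have hX : ∑ χ ∈ E.Xf, (if χ ∈ principalBlock M G then
      (χ : G → ℂ) t ^ 2 / (χ : G → ℂ) 1 * (χ : G → ℂ) (y : G)⁻¹ else 0) =
      ∑ χ ∈ E.Xf, ((-E.nV χ : ℤ) : ℂ) * (χ : G → ℂ) t ^ 2 / (χ : G → ℂ) 1 := by
    refine Finset.sum_congr rfl fun χ hχ => ?_
    rw [if_pos ((E.mem_Xf χ).mp hχ).1]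
    have := E.apply_P_Xf H.hab χ hχ y⁻¹ hyinv
    rw [Subgroup.coe_inv] at this
    rw [this]
    push_cast
    ring
  have hY : ∑ χ ∈ E.Yf, (if χ ∈ principalBlock M G then
      (χ : G → ℂ) t ^ 2 / (χ : G → ℂ) 1 * (χ : G → ℂ) (y : G)⁻¹ else 0) =
      ∑ η ∈ E.Yf, (η : G → ℂ) t ^ 2 / (η : G → ℂ) 1 * (η : G → ℂ) ((y⁻¹ : (P : Subgroup G)) : G) := by
    refine Finset.sum_congr rfl fun χ hχ => ?_
    rw [if_pos (E.Yf_subset hχ), Subgroup.coe_inv]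
  rw [hX, hY] at h
  exact h

/-- **The quadratic relation for odd `p`**. -/
theorem Exc.rel_sq_odd (E : Exc M P) (H : Hyp3 M P) [Fintype ((P : Subgroup G) →* ℂˣ)]
    (hE0 : ∀ ψ : (P : Subgroup G) →* ℂˣ, ψ ≠ 1 → E.nV (E.ζ ψ) = 0) (hp2 : p ≠ 2)
    {t : G} (ht : orderOf t = 2) {η₀ : IrrCharacter G} (hη₀ : η₀ ∈ E.Yf) :
    ∑ χ ∈ E.Xf, ((-E.nV χ : ℤ) : ℂ) * (χ : G → ℂ) t ^ 2 / (χ : G → ℂ) 1 =
      (E.ε : ℂ) * ((η₀ : G → ℂ) t ^ 2 / (η₀ : G → ℂ) 1) := by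
  have : Finite G := Finite.of_fintype G
  have htinv := inv_eq_self_of_orderOf_two ht
  obtain ⟨y, hy⟩ := exists_ne_one_of_card (P : Subgroup G) H.hP1
  have hy1 : (y : G) ≠ 1 := fun h => hy (Subtype.ext h)
  have h := E.rel_sq_split H htinv y hy (fun x c hx hc v hv =>
    not_isConj_pPart_of_odd P hp2 H.hab H.hfrob H.hCN htinv hx hc hv y.2 hy1)
  have htreg : ¬ p ∣ orderOf t := by
    rw [ht]
    intro hd
    exact hp2 ((Nat.prime_dvd_prime_iff_eq hp.out Nat.prime_two).mp hd)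
  have h1reg : ¬ p ∣ orderOf (1 : G) := by
    rw [orderOf_one, Nat.dvd_one]; exact hp.out.ne_one
  have hY : ∑ η ∈ E.Yf, (η : G → ℂ) t ^ 2 / (η : G → ℂ) 1 *
      (η : G → ℂ) ((y⁻¹ : (P : Subgroup G)) : G) =
      (η₀ : G → ℂ) t ^ 2 / (η₀ : G → ℂ) 1 * ∑ η ∈ E.Yf, (η : G → ℂ) ((y⁻¹ : (P : Subgroup G)) : G) := by
    rw [Finset.mul_sum]
    refine Finset.sum_congr rfl fun η hη => ?_
    rw [E.Yf_agree H.hM hη hη₀ t htreg, E.Yf_agree H.hM hη hη₀ 1 h1reg]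
  rw [hY, E.sum_Yf_apply_P H hE0 y⁻¹ (inv_ne_one.mpr hy)] at h
  linear_combination h

end Cfsg.Agent.Helper8.AS
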