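import Mathlib
import Cfsg.Agent.Helper8.AS18

/-!
# The prime two: orbit sums at an involution of `P`
-/

set_option autoImplicit false

namespace Cfsg.Agent.Helper8.AS

open Cfsg Cfsg.Agent.Helper24 Cfsg.Agent.Helper5 Cfsg.Agent.Helper5.CC Cfsg.Agent.Helper5.Loc

variable {G : Type*} [Group G] [Fintype G]

omit [Fintype G] in
theorem twc_prod (Q : Subgroup G) (n : Subgroup.normalizer (Q : Set G)) {ι : Type*}
    (s : Finset ι) (f : ι → (Q →* ℂˣ)) : twc Q n (∏ i ∈ s, f i) = ∏ i ∈ s, twc Q n (f i) := by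
  ext w
  rw [twc_apply, MonoidHom.finset_prod_apply, MonoidHom.finset_prod_apply]
  simp only [twc_apply]

open Classical in
/-- The product of an orbit of linear characters is trivial. -/
theorem prod_orbit_eq_one (Q : Subgroup G)
    (hfrob : ∀ y : G, y ∈ Q → y ≠ 1 →
      Subgroup.centralizer ({y} : Set G) ⊓ Subgroup.normalizer (Q : Set G) =
        Subgroup.centralizer (Q : Set G))
    (hne : (Subgroup.centralizer (Q : Set G)).relIndex (Subgroup.normalizer (Q : Set G)) ≠ 1)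
    [Fintype (Q →* ℂˣ)] (ψ : Q →* ℂˣ) :
    ∏ ψ' ∈ Finset.univ.filter (fun ψ' : Q →* ℂˣ => RelS Q ψ ψ'), ψ' = 1 := by
  have : Finite G := Finite.of_fintype G
  set O := Finset.univ.filter (fun ψ' : Q →* ℂˣ => RelS Q ψ ψ') with hO
  set Ψ : Q →* ℂˣ := ∏ ψ' ∈ O, ψ' with hΨ
  have hinvar : ∀ n : Subgroup.normalizer (Q : Set G), twc Q n Ψ = Ψ := by
    intro n
    rw [hΨ, twc_prod]
    refine Finset.prod_nbij' (fun ψ' => twc Q n ψ') (fun ψ' => twc Q n⁻¹ ψ') ?_ ?_ ?_ ?_ ?_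
    · intro ψ' hψ'
      rw [hO, Finset.mem_filter] at hψ' ⊢
      refine ⟨Finset.mem_univ _, ?_⟩
      obtain ⟨m, hm⟩ := (relS_iff_twc Q ψ ψ').mp hψ'.2
      rw [relS_iff_twc]
      refine ⟨n⁻¹ * m, ?_⟩
      rw [← twc_mul, mul_inv_cancel_left, hm]
    · intro ψ' hψ'
      rw [hO, Finset.mem_filter] at hψ' ⊢
      refine ⟨Finset.mem_univ _, ?_⟩
      obtain ⟨m, hm⟩ := (relS_iff_twc Q ψ ψ').mp hψ'.2
      rw [relS_iff_twc]
      refine ⟨n * m, ?_⟩
      rw [← twc_mul, inv_mul_cancel_left, hm]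
    · intro ψ' _
      show twc Q n⁻¹ (twc Q n ψ') = ψ'
      rw [← twc_mul, mul_inv_cancel, twc_one]
    · intro ψ' _
      show twc Q n (twc Q n⁻¹ ψ') = ψ'
      rw [← twc_mul, inv_mul_cancel, twc_one]
    · intro ψ' _
      rfl
  by_contra hΨ1
  apply hne
  rw [Subgroup.relIndex_eq_one]
  intro n hn
  exact mem_centralizer_of_twc_eq Q hfrob ⟨n, hn⟩ hΨ1 (hinvar ⟨n, hn⟩)

open Classical in
/-- **Orbit sums at an involution**: for `|N : C| = 3` and `t² = 1` the orbit sum `σ` satisfies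
`σ² = 3 + 2σ`. -/
theorem orbit_sum_sq (Q : Subgroup G)
    (hfrob : ∀ y : G, y ∈ Q → y ≠ 1 →
      Subgroup.centralizer ({y} : Set G) ⊓ Subgroup.normalizer (Q : Set G) =
        Subgroup.centralizer (Q : Set G))
    (hCN : (Subgroup.centralizer (Q : Set G)).relIndex (Subgroup.normalizer (Q : Set G)) = 3)
    [Fintype (Q →* ℂˣ)] {ψ : Q →* ℂˣ} (hψ : ψ ≠ 1) (t : Q) (ht : t * t = 1) :
    (∑ ψ' ∈ Finset.univ.filter (fun ψ' : Q →* ℂˣ => RelS Q ψ ψ'), ((ψ' t : ℂˣ) : ℂ)) ^ 2 =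
      3 + 2 * ∑ ψ' ∈ Finset.univ.filter (fun ψ' : Q →* ℂˣ => RelS Q ψ ψ'), ((ψ' t : ℂˣ) : ℂ) := by
  have hcard := card_orbit Q hfrob hψ
  rw [hCN] at hcard
  have hprod := prod_orbit_eq_one Q hfrob (by rw [hCN]; norm_num) ψ
  obtain ⟨ψ₁, ψ₂, ψ₃, h12, h13, h23, hO⟩ := Finset.card_eq_three.mp hcard
  rw [hO] at hprod ⊢
  rw [Finset.prod_insert (by simp [h12, h13]), Finset.prod_insert (by simp [h23]),
    Finset.prod_singleton] at hprod
  rw [Finset.sum_insert (by simp [h12, h13]), Finset.sum_insert (by simp [h23]),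
    Finset.sum_singleton]
  have hsq : ∀ φ : Q →* ℂˣ, ((φ t : ℂˣ) : ℂ) ^ 2 = 1 := by
    intro φ
    rw [pow_two, ← Units.val_mul, ← map_mul, ht, map_one, Units.val_one]
  have hp : ((ψ₁ t : ℂˣ) : ℂ) * ((ψ₂ t : ℂˣ) : ℂ) * ((ψ₃ t : ℂˣ) : ℂ) = 1 := by
    have := congrArg (fun φ : Q →* ℂˣ => ((φ t : ℂˣ) : ℂ)) hprod
    simp only [MonoidHom.mul_apply, Units.val_mul, MonoidHom.one_apply, Units.val_one] at this
    rw [← this]; ring
  have h1 := hsq ψ₁
  have h2 := hsq ψ₂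
  have h3 := hsq ψ₃
  set s₁ := ((ψ₁ t : ℂˣ) : ℂ)
  set s₂ := ((ψ₂ t : ℂˣ) : ℂ)
  set s₃ := ((ψ₃ t : ℂˣ) : ℂ)
  linear_combination (1 - 2 * s₂ * s₃) * h1 + (1 - 2 * s₁ * s₃) * h2 + (1 - 2 * s₁ * s₂) * h3 +
    2 * (s₁ + s₂ + s₃) * hp

variable {p : ℕ} [hp : Fact p.Prime]

/-- The conjugates of `t` inside the abelian Sylow subgroup `P` number at most `|N : C|`. -/
theorem card_conj_in_sylow_le (P : Sylow p G) (hab : IsMulCommutative P) (t : G) :
    Nat.card {u : G // u ∈ (P : Subgroup G) ∧ IsConj t u} ≤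
      (Subgroup.centralizer ((P : Subgroup G) : Set G)).relIndex
        (Subgroup.normalizer ((P : Subgroup G) : Set G)) := by
  classical
  have : Finite G := Finite.of_fintype G
  by_cases hne : Nonempty {u : G // u ∈ (P : Subgroup G) ∧ IsConj t u}
  swap
  · rw [not_nonempty_iff] at hne
    rw [Nat.card_of_isEmpty]
    exact Nat.zero_le _
  obtain ⟨⟨u₀, hu₀P, hu₀⟩⟩ := hne
  set N : Subgroup G := Subgroup.normalizer ((P : Subgroup G) : Set G) with hN
  set C' : Subgroup N := (Subgroup.centralizer ((P : Subgroup G) : Set G)).subgroupOf N with hC'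
  have hex : ∀ u : {u : G // u ∈ (P : Subgroup G) ∧ IsConj t u},
      ∃ n : N, (u : G) = (n : G)⁻¹ * u₀ * (n : G) := by
    rintro ⟨u, huP, hu⟩
    obtain ⟨g, hg⟩ := isConj_iff.mp (hu₀.symm.trans hu)
    have h1 : g⁻¹⁻¹ * u₀ * g⁻¹ ∈ (P : Subgroup G) := by rw [inv_inv, hg]; exact huP
    haveI := hab
    obtain ⟨n, hn, hn'⟩ := Sylow.conj_eq_normalizer_conj_of_mem P u₀ g⁻¹ hu₀P h1
    refine ⟨⟨n, hn⟩, ?_⟩
    show u = n⁻¹ * u₀ * n
    rw [← hn', inv_inv, hg]
  choose f hf using hex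
  have hinj : Function.Injective (fun u => (QuotientGroup.mk (f u) : N ⧸ C')) := by
    intro u u' huu'
    have h1 : (f u)⁻¹ * f u' ∈ C' := QuotientGroup.eq.mp huu'
    rw [hC', Subgroup.mem_subgroupOf] at h1
    have h2 : ((f u : G))⁻¹ * (f u' : G) ∈ Subgroup.centralizer ((P : Subgroup G) : Set G) := by
      simpa using h1
    apply Subtype.ext
    rw [hf u', hf u]
    have h3 := (Subgroup.mem_centralizer_iff.mp h2) (u : G) u.2.1
    rw [hf u] at h3
    -- c := (f u)⁻¹ (f u'), so f u' = f u * c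
    have e : (f u' : G) = (f u : G) * (((f u : G))⁻¹ * (f u' : G)) := by group
    rw [e]
    set c : G := ((f u : G))⁻¹ * (f u' : G) with hc
    symm
    calc ((f u : G) * c)⁻¹ * u₀ * ((f u : G) * c)
        = c⁻¹ * (((f u : G))⁻¹ * u₀ * (f u : G) * c) := by group
      _ = c⁻¹ * (c * (((f u : G))⁻¹ * u₀ * (f u : G))) := by rw [h3]
      _ = ((f u : G))⁻¹ * u₀ * (f u : G) := by group
  have := Nat.card_le_card_of_injective _ hinj
  exact this

omit [Fintype G] in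
theorem sixteen_le_card (P : Sylow p G) [Finite G] (hp2 : p = 2) (hm2 : 3 + 1 < Nat.card (P : Subgroup G))
    (h3 : ∃ r : ℕ, r * 3 = Nat.card (P : Subgroup G) - 1) : 16 ≤ Nat.card (P : Subgroup G) := by
  obtain ⟨k, hk⟩ := IsPGroup.iff_card.mp P.isPGroup'
  obtain ⟨r, hr⟩ := h3
  have hk' : Nat.card (P : Subgroup G) = 2 ^ k := by rw [hk, hp2]
  clear hk
  by_contra hlt
  push Not at hlt
  have hk4 : k < 4 := by
    by_contra h
    push Not at h
    have : 2 ^ 4 ≤ 2 ^ k := Nat.pow_le_pow_right (by norm_num) h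
    omega
  interval_cases k <;> omega

/-- **A good element for the prime two**. -/
theorem exists_good_two (P : Sylow p G) (hp2 : p = 2) (hab : IsMulCommutative P)
    (hCN : (Subgroup.centralizer ((P : Subgroup G) : Set G)).relIndex
      (Subgroup.normalizer ((P : Subgroup G) : Set G)) = 3)
    (hm2 : 3 + 1 < Nat.card (P : Subgroup G))
    (h3 : ∃ r : ℕ, r * 3 = Nat.card (P : Subgroup G) - 1) (t : G) :
    ∃ y : (P : Subgroup G), y ≠ 1 ∧ ¬ IsConj t (y : G) ∧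
      ∀ u₁ u₂ : G, u₁ ∈ (P : Subgroup G) → u₂ ∈ (P : Subgroup G) → IsConj t u₁ → IsConj t u₂ →
        (y : G) ≠ u₁ * u₂ := by
  classical
  have : Finite G := Finite.of_fintype G
  have h16 := sixteen_le_card P hp2 hm2 h3
  set Tf : Finset G := Finset.univ.filter (fun u : G => u ∈ (P : Subgroup G) ∧ IsConj t u) with hTf
  have hT3 : Tf.card ≤ 3 := by
    have := card_conj_in_sylow_le P hab t
    rw [hCN, Nat.card_eq_fintype_card, Fintype.card_subtype] at this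
    exact this
  set bad : Finset G := insert 1 (Tf ∪ (Tf ×ˢ Tf).image (fun q => q.1 * q.2)) with hbad
  have hbadcard : bad.card ≤ 13 := by
    have h1 : ((Tf ×ˢ Tf).image (fun q => q.1 * q.2)).card ≤ 9 := by
      calc ((Tf ×ˢ Tf).image (fun q => q.1 * q.2)).card ≤ (Tf ×ˢ Tf).card := Finset.card_image_le
        _ = Tf.card * Tf.card := Finset.card_product _ _
        _ ≤ 3 * 3 := Nat.mul_le_mul hT3 hT3
    have h2 := Finset.card_union_le Tf ((Tf ×ˢ Tf).image (fun q => q.1 * q.2))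
    have h4 := Finset.card_insert_le (1 : G) (Tf ∪ (Tf ×ˢ Tf).image (fun q => q.1 * q.2))
    rw [hbad]
    omega
  set Pf : Finset G := Finset.univ.filter (fun u : G => u ∈ (P : Subgroup G)) with hPf
  have hPcard : Pf.card = Nat.card (P : Subgroup G) := by
    rw [Nat.card_eq_fintype_card, Fintype.card_subtype]
  obtain ⟨y, hyP, hybad⟩ := Finset.exists_mem_notMem_of_card_lt_card
    (s := bad) (t := Pf) (by rw [hPcard]; omega)
  rw [hPf, Finset.mem_filter] at hyP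
  rw [hbad, Finset.mem_insert, Finset.mem_union, not_or, not_or] at hybad
  refine ⟨⟨y, hyP.2⟩, fun h => hybad.1 (congrArg Subtype.val h), ?_, ?_⟩
  · intro hc
    apply hybad.2.1
    rw [hTf, Finset.mem_filter]
    exact ⟨Finset.mem_univ _, hyP.2, hc⟩
  · intro u₁ u₂ hu₁ hu₂ hc₁ hc₂ he
    apply hybad.2.2
    rw [Finset.mem_image]
    refine ⟨(u₁, u₂), ?_, he.symm⟩
    rw [Finset.mem_product, hTf, Finset.mem_filter, Finset.mem_filter]
    exact ⟨⟨Finset.mem_univ _, hu₁, hc₁⟩, ⟨Finset.mem_univ _, hu₂, hc₂⟩⟩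

end Cfsg.Agent.Helper8.AS
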