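import Mathlib
import Cfsg.Agent.Helper8.AS19

/-!
# The quadratic relation for the prime two
-/

set_option autoImplicit false

namespace Cfsg.Agent.Helper8.AS

open Cfsg Cfsg.Agent.Helper24 Cfsg.Agent.Helper5 Cfsg.Agent.Helper5.CC Cfsg.Agent.Helper5.Loc

variable {G : Type*} [Group G] [Fintype G] [Fintype (IrrCharacter G)]
variable {M : Ideal AlgInt} {p : ℕ} [hp : Fact p.Prime] {P : Sylow p G}

open Classical in
/-- **The relations for `p = 2`**. -/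
theorem Exc.rel_sq_two (E : Exc M P) (H : Hyp3 M P) [Fintype ((P : Subgroup G) →* ℂˣ)]
    (hE0 : ∀ ψ : (P : Subgroup G) →* ℂˣ, ψ ≠ 1 → E.nV (E.ζ ψ) = 0) (hp2 : p = 2)
    {t : G} (ht : orderOf t = 2) {η₀ : IrrCharacter G} (hη₀ : η₀ ∈ E.Yf) :
    (∑ χ ∈ E.Xf, ((-E.nV χ : ℤ) : ℂ) / (χ : G → ℂ) 1 = (E.ε : ℂ) * (9 / (η₀ : G → ℂ) 1)) ∧
      ∀ χ ∈ E.Xf, (χ : G → ℂ) t = ((-E.nV χ : ℤ) : ℂ) := by
  have : Finite G := Finite.of_fintype G
  have htinv := inv_eq_self_of_orderOf_two ht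
  -- move `t` into `P`
  obtain ⟨g, hg⟩ := exists_conj_mem_sylow_p P t ⟨1, by rw [ht, hp2, pow_one]⟩
  set t' : G := g * t * g⁻¹ with ht'
  have hconj : IsConj t t' := isConj_iff.mpr ⟨g, rfl⟩
  have ht'1 : t' ≠ 1 := by
    intro h
    have : t = 1 := by
      have : t = g⁻¹ * t' * g := by rw [ht']; group
      rw [this, h]; group
    rw [this, orderOf_one] at ht
    omega
  have ht'sq : t' * t' = 1 := by
    have := inv_eq_self_of_isConj htinv hconj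
    calc t' * t' = t'⁻¹ * t' := by rw [this]
      _ = 1 := inv_mul_cancel t'
  have hval : ∀ χ : IrrCharacter G, (χ : G → ℂ) t = (χ : G → ℂ) t' :=
    fun χ => IsClassFunction.eq_of_isConj (isClassFunction_irr χ) hconj
  have hXt : ∀ χ ∈ E.Xf, (χ : G → ℂ) t = ((-E.nV χ : ℤ) : ℂ) := by
    intro χ hχ
    rw [hval χ]
    have := E.apply_P_Xf H.hab χ hχ ⟨t', hg⟩ (fun h => ht'1 (congrArg Subtype.val h))
    rw [this]
    push_cast
    rfl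
  refine ⟨?_, hXt⟩
  have hpm := (E.Xf_three H.hM H.hab H.hP1 H.hfrob H.hCN H.hm2).2
  have hXcard := (E.Xf_three H.hM H.hab H.hP1 H.hfrob H.hCN H.hm2).1
  have hsq1 : ∀ χ ∈ E.Xf, (((-E.nV χ : ℤ) : ℂ)) ^ 2 = 1 := by
    intro χ hχ
    rcases hpm χ hχ with h | h <;> rw [h] <;> norm_num
  -- the exceptional characters at `t`
  have hYt : ∀ η ∈ E.Yf, (η : G → ℂ) t ^ 2 = 3 + 2 * (E.ε : ℂ) * (η : G → ℂ) t := by
    intro η hη
    obtain ⟨ψ, hψ, rfl⟩ := (E.mem_Yf η).mp hη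
    rw [hval]
    have h1 := E.apply_P_ζ H.hab hψ ⟨t', hg⟩ (fun h => ht'1 (congrArg Subtype.val h))
    rw [hE0 ψ hψ] at h1
    have h2 := orbit_sum_sq (P : Subgroup G) H.hfrob H.hCN hψ ⟨t', hg⟩ (Subtype.ext ht'sq)
    have hε2 : (E.ε : ℂ) ^ 2 = 1 := by exact_mod_cast E.eps_sq
    have h1' : (E.ζ ψ : G → ℂ) t' = (E.ε : ℂ) *
        ∑ ψ' ∈ Finset.univ.filter (fun ψ' : (P : Subgroup G) →* ℂˣ => RelS (P : Subgroup G) ψ ψ'),
          ((ψ' ⟨t', hg⟩ : ℂˣ) : ℂ) := by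
      rw [h1]; simp
    rw [h1']
    set σ : ℂ := ∑ ψ' ∈ Finset.univ.filter
      (fun ψ' : (P : Subgroup G) →* ℂˣ => RelS (P : Subgroup G) ψ ψ'), ((ψ' ⟨t', hg⟩ : ℂˣ) : ℂ)
    linear_combination (E.ε : ℂ) ^ 2 * h2 + 3 * hε2
  -- a good element
  have hcm := E.card_Yf_mul H.hab H.hfrob
  rw [H.hCN] at hcm
  obtain ⟨y, hy1, hyt, hyprod⟩ := exists_good_two P hp2 H.hab H.hCN H.hm2 ⟨_, hcm⟩ t
  have hyG : (y : G) ≠ 1 := fun h => hy1 (Subtype.ext h)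
  have hgood : ∀ x c : G, IsConj t x → IsConj t c → ∀ v : G, IsPPart p (x⁻¹ * c) v →
      ¬ IsConj v (y : G) := by
    intro x c hx hc v hv hvy
    obtain ⟨u₁, u₂, hu₁, hu₂, hc₁, hc₂, he⟩ :=
      exists_mul_of_two_part P hp2 H.hab H.hfrob H.hCN htinv hx hc hv y.2 hyG hvy
    exact hyprod u₁ u₂ hu₁ hu₂ hc₁ hc₂ he
  have hrel := E.rel_sq_split H htinv y hy1 hgood
  have hyinv : y⁻¹ ≠ 1 := inv_ne_one.mpr hy1
  -- orthogonality of `t` and `y`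
  have hp1 : p ≠ 1 := hp.out.ne_one
  have htt : IsPPart p t t := isPPart_self_of_pow ⟨1, by rw [ht, hp2, pow_one]⟩ hp1
  have hyy : IsPPart p (y : G) (y : G) :=
    isPPart_self_of_pow (pow_orderOf_of_mem_sylow P y.2) hp1
  have horth := block_orth H.hM (principalBlock M G) isPBlock_principalBlock t (y : G) t (y : G)
    htt hyy hyt
  rw [E.sum_split (fun χ => if χ ∈ principalBlock M G then
      (χ : G → ℂ) t * (χ : G → ℂ) (y : G)⁻¹ else 0) (fun χ hχ => if_neg hχ)] at horth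
  have hX : ∑ χ ∈ E.Xf, (if χ ∈ principalBlock M G then
      (χ : G → ℂ) t * (χ : G → ℂ) (y : G)⁻¹ else 0) = 3 := by
    have : ∀ χ ∈ E.Xf, (if χ ∈ principalBlock M G then
        (χ : G → ℂ) t * (χ : G → ℂ) (y : G)⁻¹ else 0) = 1 := by
      intro χ hχ
      rw [if_pos ((E.mem_Xf χ).mp hχ).1, hXt χ hχ]
      have h5 := E.apply_P_Xf H.hab χ hχ y⁻¹ hyinv
      rw [Subgroup.coe_inv] at h5
      rw [h5]
      have := hsq1 χ hχ
      push_cast at this ⊢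
      linear_combination this
    rw [Finset.sum_congr rfl this, Finset.sum_const, hXcard]
    norm_num
  have hY : ∑ χ ∈ E.Yf, (if χ ∈ principalBlock M G then
      (χ : G → ℂ) t * (χ : G → ℂ) (y : G)⁻¹ else 0) =
      ∑ η ∈ E.Yf, (η : G → ℂ) t * (η : G → ℂ) ((y⁻¹ : (P : Subgroup G)) : G) := by
    refine Finset.sum_congr rfl fun χ hχ => ?_
    rw [if_pos (E.Yf_subset hχ), Subgroup.coe_inv]
  rw [hX, hY] at horth
  -- assemble
  have h1reg : ¬ p ∣ orderOf (1 : G) := by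
    rw [orderOf_one, Nat.dvd_one]; exact hp.out.ne_one
  have hX2 : ∑ χ ∈ E.Xf, ((-E.nV χ : ℤ) : ℂ) * (χ : G → ℂ) t ^ 2 / (χ : G → ℂ) 1 =
      ∑ χ ∈ E.Xf, ((-E.nV χ : ℤ) : ℂ) / (χ : G → ℂ) 1 := by
    refine Finset.sum_congr rfl fun χ hχ => ?_
    rw [hXt χ hχ, hsq1 χ hχ, mul_one]
  have hY2 : ∑ η ∈ E.Yf, (η : G → ℂ) t ^ 2 / (η : G → ℂ) 1 *
      (η : G → ℂ) ((y⁻¹ : (P : Subgroup G)) : G) =
      (1 / (η₀ : G → ℂ) 1) * (3 * ∑ η ∈ E.Yf, (η : G → ℂ) ((y⁻¹ : (P : Subgroup G)) : G) +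
        2 * (E.ε : ℂ) * ∑ η ∈ E.Yf, (η : G → ℂ) t * (η : G → ℂ) ((y⁻¹ : (P : Subgroup G)) : G)) := by
    rw [Finset.mul_sum, Finset.mul_sum, ← Finset.sum_add_distrib, Finset.mul_sum]
    refine Finset.sum_congr rfl fun η hη => ?_
    rw [hYt η hη, E.Yf_agree H.hM hη hη₀ 1 h1reg]
    ring
  rw [hX2, hY2, E.sum_Yf_apply_P H hE0 y⁻¹ hyinv] at hrel
  have hsum : ∑ η ∈ E.Yf, (η : G → ℂ) t * (η : G → ℂ) ((y⁻¹ : (P : Subgroup G)) : G) = -3 := by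
    linear_combination horth
  rw [hsum] at hrel
  linear_combination hrel

end Cfsg.Agent.Helper8.AS
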