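import Mathlib
import Cfsg.Agent.Helper8.AS20
import Cfsg.Agent.Helper5.CharKer

/-!
# The involution clause
-/

set_option autoImplicit false

namespace Cfsg.Agent.Helper8.AS

open Cfsg Cfsg.Agent.Helper24 Cfsg.Agent.Helper5 Cfsg.Agent.Helper5.CC Cfsg.Agent.Helper5.Loc

variable {G : Type*} [Group G] [Fintype G] [Fintype (IrrCharacter G)]
variable {M : Ideal AlgInt} {p : ℕ} [hp : Fact p.Prime] {P : Sylow p G}

/-- **The unified relations** for an involution `t`. -/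
theorem Exc.exists_relations (E : Exc M P) (H : Hyp3 M P) [Fintype ((P : Subgroup G) →* ℂˣ)]
    (hE0 : ∀ ψ : (P : Subgroup G) →* ℂˣ, ψ ≠ 1 → E.nV (E.ζ ψ) = 0)
    {t : G} (ht : orderOf t = 2) {η₀ : IrrCharacter G} (hη₀ : η₀ ∈ E.Yf) :
    ∃ (x : IrrCharacter G → ℤ) (x₄ : ℤ),
      (∀ χ ∈ E.Xf, (χ : G → ℂ) t = (x χ : ℂ)) ∧
      (∑ χ ∈ E.Xf, (-E.nV χ) * (irrDeg χ : ℤ) = E.ε * (irrDeg η₀ : ℤ)) ∧
      (∑ χ ∈ E.Xf, (-E.nV χ) * x χ = E.ε * x₄) ∧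
      (∑ χ ∈ E.Xf, ((-E.nV χ : ℤ) : ℚ) * (x χ : ℚ) ^ 2 / (irrDeg χ : ℚ) =
        (E.ε : ℚ) * ((x₄ : ℚ) ^ 2 / (irrDeg η₀ : ℚ))) := by
  have : Finite G := Finite.of_fintype G
  have h1reg : ¬ p ∣ orderOf (1 : G) := by
    rw [orderOf_one, Nat.dvd_one]; exact hp.out.ne_one
  -- R1
  have R1 : ∑ χ ∈ E.Xf, (-E.nV χ) * (irrDeg χ : ℤ) = E.ε * (irrDeg η₀ : ℤ) := by
    have h := E.rel_one H hE0 hη₀ 1 h1reg
    have h2 : ((∑ χ ∈ E.Xf, (-E.nV χ) * (irrDeg χ : ℤ) : ℤ) : ℂ) =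
        ((E.ε * (irrDeg η₀ : ℤ) : ℤ) : ℂ) := by
      push_cast
      rw [← irrDeg_spec η₀]
      rw [← h]
      refine Finset.sum_congr rfl fun χ _ => ?_
      rw [irrDeg_spec]
      push_cast
      ring
    exact_mod_cast h2
  have htsq : t * t = 1 := by
    have := inv_eq_self_of_orderOf_two ht
    calc t * t = t⁻¹ * t := by rw [this]
      _ = 1 := inv_mul_cancel t
  by_cases hp2 : p = 2
  · -- the prime two
    obtain ⟨hrel, hXt⟩ := E.rel_sq_two H hE0 hp2 ht hη₀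
    have hpm := (E.Xf_three H.hM H.hab H.hP1 H.hfrob H.hCN H.hm2).2
    have hXcard := (E.Xf_three H.hM H.hab H.hP1 H.hfrob H.hCN H.hm2).1
    refine ⟨fun χ => -E.nV χ, 3 * E.ε, hXt, R1, ?_, ?_⟩
    · have : ∀ χ ∈ E.Xf, (-E.nV χ) * (-E.nV χ) = 1 := by
        intro χ hχ
        rcases hpm χ hχ with h | h <;> rw [h] <;> norm_num
      rw [Finset.sum_congr rfl this, Finset.sum_const, hXcard]
      have := E.eps_sq
      simp only [nsmul_eq_mul, mul_one]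
      push_cast
      linear_combination -3 * this
    · have hε2 : (E.ε : ℚ) ^ 2 = 1 := by exact_mod_cast E.eps_sq
      have hc : ((∑ χ ∈ E.Xf, ((-E.nV χ : ℤ) : ℚ) * ((-E.nV χ : ℤ) : ℚ) ^ 2 / (irrDeg χ : ℚ) : ℚ) : ℂ) =
          (((E.ε : ℚ) * (((3 * E.ε : ℤ) : ℚ) ^ 2 / (irrDeg η₀ : ℚ)) : ℚ) : ℂ) := by
        have hε2c : (E.ε : ℂ) ^ 2 = 1 := by exact_mod_cast E.eps_sq
        push_cast
        rw [irrDeg_spec η₀] at hrel
        have e1 : ∑ χ ∈ E.Xf, (-(E.nV χ : ℂ)) * (-(E.nV χ : ℂ)) ^ 2 / (irrDeg χ : ℂ) =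
            ∑ χ ∈ E.Xf, ((-E.nV χ : ℤ) : ℂ) / (χ : G → ℂ) 1 := by
          refine Finset.sum_congr rfl fun χ hχ => ?_
          rw [irrDeg_spec]
          rcases hpm χ hχ with h | h <;> rw [h] <;> push_cast <;> ring
        rw [e1, hrel]
        have hd : (irrDeg η₀ : ℂ) ≠ 0 := by exact_mod_cast (irrDeg_pos η₀).ne'
        field_simp
        linear_combination (-9 * (E.ε : ℂ)) * hε2c
      exact_mod_cast hc
  · -- odd primes
    have hex : ∀ χ : IrrCharacter G, ∃ n : ℤ, (χ : G → ℂ) t = (n : ℂ) := fun χ =>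
      character_involution_int (IsIrrCharacter.isCharacter χ.2) t htsq
    choose x hx using hex
    have htreg : ¬ p ∣ orderOf t := by
      rw [ht]
      intro hd
      exact hp2 ((Nat.prime_dvd_prime_iff_eq hp.out Nat.prime_two).mp hd)
    refine ⟨x, x η₀, fun χ _ => hx χ, R1, ?_, ?_⟩
    · have h := E.rel_one H hE0 hη₀ t htreg
      have h2 : ((∑ χ ∈ E.Xf, (-E.nV χ) * x χ : ℤ) : ℂ) = ((E.ε * x η₀ : ℤ) : ℂ) := by
        push_cast
        rw [← hx η₀, ← h]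
        refine Finset.sum_congr rfl fun χ _ => ?_
        rw [hx χ]
        push_cast
        ring
      exact_mod_cast h2
    · have h := E.rel_sq_odd H hE0 hp2 ht hη₀
      have hc : ((∑ χ ∈ E.Xf, ((-E.nV χ : ℤ) : ℚ) * (x χ : ℚ) ^ 2 / (irrDeg χ : ℚ) : ℚ) : ℂ) =
          (((E.ε : ℚ) * ((x η₀ : ℚ) ^ 2 / (irrDeg η₀ : ℚ)) : ℚ) : ℂ) := by
        push_cast
        rw [← hx η₀, ← irrDeg_spec η₀, ← h]
        refine Finset.sum_congr rfl fun χ _ => ?_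
        rw [hx χ, irrDeg_spec]
        push_cast
        ring
      exact_mod_cast hc

omit [Fintype (IrrCharacter G)] in
/-- An involution outside every proper normal subgroup is outside the kernel of every
nonprincipal irreducible character. -/
theorem apply_ne_deg_of_minimal {t : G} (hmin : ∀ K : Subgroup G, K.Normal → t ∈ K → K = ⊤)
    (χ : IrrCharacter G)
    (hχ : haveI : Finite G := Finite.of_fintype G; χ ≠ trivIrr G) :
    (χ : G → ℂ) t ≠ (χ : G → ℂ) 1 := by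
  have : Finite G := Finite.of_fintype G
  intro h
  have hK := hmin (charKer χ) inferInstance ((mem_charKer χ t).mpr h)
  apply hχ
  apply Cfsg.Agent.Helper23.InvCol.eq_trivIrr_of_const
  intro g
  have : g ∈ charKer χ := by rw [hK]; exact Subgroup.mem_top g
  exact (mem_charKer χ g).mp this

open Classical in
/-- **The involution clause**. -/
theorem Exc.involution_clause (E : Exc M P) (H : Hyp3 M P) [Fintype ((P : Subgroup G) →* ℂˣ)]
    (hE0 : ∀ ψ : (P : Subgroup G) →* ℂˣ, ψ ≠ 1 → E.nV (E.ζ ψ) = 0)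
    {t : G} (ht : orderOf t = 2) (hmin : ∀ K : Subgroup G, K.Normal → t ∈ K → K = ⊤) :
    haveI : Finite G := Finite.of_fintype G
    ∃ θ₂ θ₃ : IrrCharacter G, θ₂ ≠ θ₃ ∧ θ₂ ≠ trivIrr G ∧ θ₃ ≠ trivIrr G ∧
      E.Xf = {trivIrr G, θ₂, θ₃} ∧
      ((if E.nV θ₂ = 1 then 1 else 0) + (if E.nV θ₃ = 1 then 1 else 0) +
        (if E.ε = 1 then 1 else 0) = 2) ∧
      ∀ η ∈ E.Yf, IsSquare (irrDeg η * (irrDeg θ₂ * irrDeg θ₃)) := by
  have : Finite G := Finite.of_fintype G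
  have htX := E.triv_mem_Xf H.hM H.hab H.hfrob H.hm
  have hpm := (E.Xf_three H.hM H.hab H.hP1 H.hfrob H.hCN H.hm2).2
  have hXcard := (E.Xf_three H.hM H.hab H.hP1 H.hfrob H.hCN H.hm2).1
  have hcard2 : (E.Xf.erase (trivIrr G)).card = 2 := by
    rw [Finset.card_erase_of_mem htX, hXcard]
  obtain ⟨θ₂, θ₃, h23, hpair⟩ := Finset.card_eq_two.mp hcard2
  have hθ₂ : θ₂ ∈ E.Xf.erase (trivIrr G) := by rw [hpair]; simp
  have hθ₃ : θ₃ ∈ E.Xf.erase (trivIrr G) := by rw [hpair]; simp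
  have h2t : θ₂ ≠ trivIrr G := (Finset.mem_erase.mp hθ₂).1
  have h3t : θ₃ ≠ trivIrr G := (Finset.mem_erase.mp hθ₃).1
  have h2X : θ₂ ∈ E.Xf := (Finset.mem_erase.mp hθ₂).2
  have h3X : θ₃ ∈ E.Xf := (Finset.mem_erase.mp hθ₃).2
  have hXeq : E.Xf = {trivIrr G, θ₂, θ₃} := by
    rw [← Finset.insert_erase htX, hpair]
  have hsum : ∀ {A : Type} [AddCommMonoid A] (F : IrrCharacter G → A),
      ∑ χ ∈ E.Xf, F χ = F (trivIrr G) + (F θ₂ + F θ₃) := by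
    intro A _ F
    rw [hXeq, Finset.sum_insert (by simp [h2t.symm, h3t.symm]), Finset.sum_pair h23]
  have hnVt := E.nV_triv H.hM H.hab H.hP1 H.hfrob H.hm
  have hdegt : irrDeg (trivIrr G) = 1 := by
    have := irrDeg_spec (trivIrr G)
    rw [trivIrr_apply] at this
    exact_mod_cast this.symm
  -- existence of an exceptional character
  have hnonempty : E.Yf.Nonempty := by
    rw [← Finset.card_pos]
    have := E.two_le_card_Yf H.hab H.hfrob H.hm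
    omega
  -- the main computation, for each `η`
  have main : ∀ η ∈ E.Yf, (E.nV θ₂ = 1 ∧ E.nV θ₃ = 1 ∧ E.ε = -1 ∨
      E.nV θ₂ = 1 ∧ E.nV θ₃ = -1 ∧ E.ε = 1 ∨ E.nV θ₂ = -1 ∧ E.nV θ₃ = 1 ∧ E.ε = 1) ∧
      IsSquare (irrDeg η * (irrDeg θ₂ * irrDeg θ₃)) := by
    intro η hη
    obtain ⟨x, x₄, hx, R1, R2, R3⟩ := E.exists_relations H hE0 ht hη
    rw [hsum] at R1 R2 R3
    have hxt : x (trivIrr G) = 1 := by
      have := hx (trivIrr G) htX
      rw [trivIrr_apply] at this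
      exact_mod_cast this.symm
    simp only [hnVt, hdegt, hxt] at R1 R2 R3
    set f₂ : ℕ := irrDeg θ₂ with hf₂
    set f₃ : ℕ := irrDeg θ₃ with hf₃
    set f₄ : ℕ := irrDeg η with hf₄
    have hf₂pos : 0 < f₂ := irrDeg_pos θ₂
    have hf₃pos : 0 < f₃ := irrDeg_pos θ₃
    have hf₄pos : 0 < f₄ := irrDeg_pos η
    have hu2 : ((x θ₂ : ℚ) / (f₂ : ℚ)) ≠ 1 := by
      intro h
      have hf : (f₂ : ℚ) ≠ 0 := by exact_mod_cast hf₂pos.ne'
      have h1 : (x θ₂ : ℚ) = (f₂ : ℚ) := by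
        field_simp at h
        exact h
      have h2 : x θ₂ = (f₂ : ℤ) := by exact_mod_cast h1
      apply apply_ne_deg_of_minimal hmin θ₂ h2t
      rw [hx θ₂ h2X, irrDeg_spec, h2]
      push_cast
      rfl
    have key := alg_square (A₂ := (-E.nV θ₂) * (f₂ : ℤ)) (A₃ := (-E.nV θ₃) * (f₃ : ℤ))
      (A₄ := -E.ε * (f₄ : ℤ)) (u₂ := (x θ₂ : ℚ) / (f₂ : ℚ)) (u₃ := (x θ₃ : ℚ) / (f₃ : ℚ))
      (u₄ := (x₄ : ℚ) / (f₄ : ℚ))
      (by
        have := E.nV_ne_zero H.hM H.hab H.hP1 θ₂ h2X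
        exact mul_ne_zero (neg_ne_zero.mpr this) (by exact_mod_cast hf₂pos.ne'))
      (by
        have := E.nV_ne_zero H.hM H.hab H.hP1 θ₃ h3X
        exact mul_ne_zero (neg_ne_zero.mpr this) (by exact_mod_cast hf₃pos.ne'))
      (by
        have : E.ε ≠ 0 := by rcases E.hε with h | h <;> rw [h] <;> norm_num
        exact mul_ne_zero (neg_ne_zero.mpr this) (by exact_mod_cast hf₄pos.ne'))
      hu2
      (by push_cast at R1; linear_combination R1)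
      (by
        have hf2 : (f₂ : ℚ) ≠ 0 := by exact_mod_cast hf₂pos.ne'
        have hf3 : (f₃ : ℚ) ≠ 0 := by exact_mod_cast hf₃pos.ne'
        have hf4 : (f₄ : ℚ) ≠ 0 := by exact_mod_cast hf₄pos.ne'
        have R2q : ((-(-1 : ℤ) * 1 + (-E.nV θ₂ * x θ₂ + -E.nV θ₃ * x θ₃) : ℤ) : ℚ) =
            ((E.ε * x₄ : ℤ) : ℚ) := by exact_mod_cast R2
        push_cast at R2q ⊢
        field_simp
        linear_combination R2q)
      (by
        have hf2 : (f₂ : ℚ) ≠ 0 := by exact_mod_cast hf₂pos.ne'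
        have hf3 : (f₃ : ℚ) ≠ 0 := by exact_mod_cast hf₃pos.ne'
        have hf4 : (f₄ : ℚ) ≠ 0 := by exact_mod_cast hf₄pos.ne'
        push_cast at R3 ⊢
        field_simp at R3 ⊢
        linear_combination R3)
    obtain ⟨hsq, hpos⟩ := key
    have hR1' : 1 + (-E.nV θ₂) * (f₂ : ℤ) + (-E.nV θ₃) * (f₃ : ℤ) + (-E.ε) * (f₄ : ℤ) = 0 := by
      push_cast at R1; linear_combination R1
    have hf₂z : (0 : ℤ) < (f₂ : ℤ) := by exact_mod_cast hf₂pos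
    have hf₃z : (0 : ℤ) < (f₃ : ℤ) := by exact_mod_cast hf₃pos
    have hf₄z : (0 : ℤ) < (f₄ : ℤ) := by exact_mod_cast hf₄pos
    have hprodpos : (0 : ℤ) < (f₂ : ℤ) * (f₃ : ℤ) * (f₄ : ℤ) := by positivity
    have hsqnat : IsSquare ((f₂ : ℤ) * (f₃ : ℤ) * (f₄ : ℤ)) → IsSquare (f₄ * (f₂ * f₃)) := by
      intro h
      rw [← Int.isSquare_natCast_iff]
      push_cast
      have : (f₄ : ℤ) * ((f₂ : ℤ) * (f₃ : ℤ)) = (f₂ : ℤ) * (f₃ : ℤ) * (f₄ : ℤ) := by ring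
      rw [this]; exact h
    rcases hpm θ₂ h2X with e2 | e2 <;> rcases hpm θ₃ h3X with e3 | e3 <;>
      rcases E.hε with e4 | e4 <;> rw [e2, e3, e4] at hsq hpos hR1'
    · exfalso
      have : -(1 : ℤ) * f₂ * (-1 * f₃) * (-1 * f₄) = -((f₂ : ℤ) * f₃ * f₄) := by ring
      rw [this] at hpos
      linarith
    · refine ⟨Or.inl ⟨e2, e3, e4⟩, hsqnat ?_⟩
      have : -(1 : ℤ) * f₂ * (-1 * f₃) * (- -1 * f₄) = ((f₂ : ℤ) * f₃ * f₄) := by ring
      rw [this] at hsq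
      exact hsq
    · refine ⟨Or.inr (Or.inl ⟨e2, e3, e4⟩), hsqnat ?_⟩
      have : -(1 : ℤ) * f₂ * (- -1 * f₃) * (-1 * f₄) = ((f₂ : ℤ) * f₃ * f₄) := by ring
      rw [this] at hsq
      exact hsq
    · exfalso
      have : -(1 : ℤ) * f₂ * (- -1 * f₃) * (- -1 * f₄) = -((f₂ : ℤ) * f₃ * f₄) := by ring
      rw [this] at hpos
      linarith
    · refine ⟨Or.inr (Or.inr ⟨e2, e3, e4⟩), hsqnat ?_⟩
      have : - -(1 : ℤ) * f₂ * (-1 * f₃) * (-1 * f₄) = ((f₂ : ℤ) * f₃ * f₄) := by ring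
      rw [this] at hsq
      exact hsq
    · exfalso
      have : - -(1 : ℤ) * f₂ * (-1 * f₃) * (- -1 * f₄) = -((f₂ : ℤ) * f₃ * f₄) := by ring
      rw [this] at hpos
      linarith
    · exfalso
      have : - -(1 : ℤ) * f₂ * (- -1 * f₃) * (-1 * f₄) = -((f₂ : ℤ) * f₃ * f₄) := by ring
      rw [this] at hpos
      linarith
    · exfalso
      linarith
  refine ⟨θ₂, θ₃, h23, h2t, h3t, hXeq, ?_, fun η hη => (main η hη).2⟩
  obtain ⟨η, hη⟩ := hnonempty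
  rcases (main η hη).1 with ⟨e2, e3, e4⟩ | ⟨e2, e3, e4⟩ | ⟨e2, e3, e4⟩ <;>
    rw [e2, e3, e4] <;> norm_num

end Cfsg.Agent.Helper8.AS
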