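import Mathlib
import Cfsg.Prelude.Def_Characters
import Cfsg.Agent.Helper23.AVDefs

/-!
# S4560 piece SQ: a permutation without 2-cycles and its square have the same fixed points
-/

set_option autoImplicit false

namespace Cfsg.Agent.Helper23.AV

open MulAction

universe u v

theorem fixedBy_sq_of_two_not_mem {α : Type v} [Fintype α] [DecidableEq α] (σ : Equiv.Perm α)
    (h : 2 ∉ σ.cycleType) : fixedBy α (σ ^ 2) = fixedBy α σ := by
  ext a
  rw [mem_fixedBy, mem_fixedBy, Equiv.Perm.smul_def, Equiv.Perm.smul_def]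
  constructor
  · intro h2
    by_contra hne
    apply h
    have hcyc : (σ.cycleOf a).IsCycle := Equiv.Perm.isCycle_cycleOf σ hne
    have hca : σ.cycleOf a a ≠ a := by
      rw [Equiv.Perm.cycleOf_apply_self]; exact hne
    have hsq : σ.cycleOf a ^ 2 = 1 := by
      rw [hcyc.pow_eq_one_iff' hca, Equiv.Perm.cycleOf_pow_apply_self]
      exact h2
    have hord : orderOf (σ.cycleOf a) = 2 := by
      have hd : orderOf (σ.cycleOf a) ∣ 2 := orderOf_dvd_of_pow_eq_one hsq
      rcases (Nat.dvd_prime Nat.prime_two).1 hd with h1 | h1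
      · exfalso
        rw [orderOf_eq_one_iff] at h1
        rw [h1] at hca
        exact hca rfl
      · exact h1
    rw [Equiv.Perm.cycleType_def, Multiset.mem_map]
    refine ⟨σ.cycleOf a, ?_, ?_⟩
    · show σ.cycleOf a ∈ σ.cycleFactorsFinset
      rw [Equiv.Perm.cycleOf_mem_cycleFactorsFinset_iff, Equiv.Perm.mem_support]
      exact hne
    · rw [Function.comp_apply, ← hcyc.orderOf, hord]
  · intro h1
    rw [pow_two, Equiv.Perm.mul_apply, h1, h1]

end Cfsg.Agent.Helper23.AV
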