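import Mathlib
import Cfsg.Prelude.Def_Characters
import Cfsg.Agent.Helper23.AVDefs

/-!
# S4560 piece WIT: permutations of `Fin n` with a prescribed cycle type and their fixed points
-/

set_option autoImplicit false

namespace Cfsg.Agent.Helper23.AV

open MulAction

universe u v

/-- the points fixed by a permutation, as a `fixedBy` set -/
theorem wit_fixedBy_eq {α : Type v} (σ : Equiv.Perm α) :
    fixedBy α σ = Function.fixedPoints σ := by
  ext a
  rw [mem_fixedBy, Function.mem_fixedPoints_iff, Equiv.Perm.smul_def]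

theorem wit_card_fixedBy {α : Type v} [Fintype α] [DecidableEq α] (σ : Equiv.Perm α) :
    Nat.card (fixedBy α σ) = Fintype.card α - σ.cycleType.sum := by
  rw [wit_fixedBy_eq, Nat.card_eq_fintype_card, Equiv.Perm.card_fixedPoints]

theorem exists_perm_of_cycleType (n : ℕ) (m : Multiset ℕ) (h2 : ∀ a ∈ m, 2 ≤ a)
    (hsum : m.sum ≤ n) :
    ∃ σ : Equiv.Perm (Fin n), σ.cycleType = m ∧
      Nat.card (fixedBy (Fin n) σ) = n - m.sum := by
  obtain ⟨σ, hσ⟩ := (Equiv.Perm.exists_with_cycleType_iff (Fin n) (m := m)).2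
    ⟨by rw [Fintype.card_fin]; exact hsum, h2⟩
  refine ⟨σ, hσ, ?_⟩
  rw [wit_card_fixedBy, hσ, Fintype.card_fin]

end Cfsg.Agent.Helper23.AV
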