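import Mathlib

/-!
Finite abelian groups: extension of linear characters, and quotients as subgroups.
-/

set_option autoImplicit false

namespace Cfsg.Agent.Helper8.AbDual

section Ext

/-- a character of a subgroup of a finite abelian group extends -/
theorem exists_extension {G : Type*} [CommGroup G] [Finite G] (H : Subgroup G) (κ : H →* ℂˣ) :
    ∃ Λ : G →* ℂˣ, ∀ h : H, Λ h = κ h := by
  haveI : NeZero (Monoid.exponent G) := ⟨Monoid.exponent_ne_zero_of_finite⟩
  obtain ⟨Λ, hΛ⟩ := MonoidHom.domRestrict_surjective (M := ℂ) H κ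
  refine ⟨Λ, fun h => ?_⟩
  rw [← hΛ]
  rfl

/-- a linear character of a subgroup meeting the commutator subgroup trivially extends to the
whole finite group -/
theorem exists_linear_char_extending {X : Type*} [Group X] [Finite X] (K : Subgroup X)
    (hK : ∀ k ∈ K, k ∈ commutator X → k = 1) (κ : K →* ℂˣ) :
    ∃ lam : X →* ℂˣ, ∀ k : K, lam k = κ k := by
  classical
  let f : K →* Abelianization X := Abelianization.of.comp K.subtype
  have hinj : Function.Injective f := by
    rw [injective_iff_map_eq_one]
    intro k hk
    have h1 : (k : X) ∈ (Abelianization.of (G := X)).ker := hk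
    rw [Abelianization.ker_of] at h1
    exact Subtype.ext (hK k k.2 h1)
  let e : K ≃* f.range := MonoidHom.ofInjective hinj
  obtain ⟨Λ, hΛ⟩ := exists_extension f.range (κ.comp e.symm.toMonoidHom)
  refine ⟨Λ.comp Abelianization.of, fun k => ?_⟩
  have h1 := hΛ (e k)
  rw [MonoidHom.comp_apply, MulEquiv.coe_toMonoidHom, MulEquiv.symm_apply_apply] at h1
  rw [← h1]
  rfl

end Ext

section Quot

/-- the dual of a finite abelian group is (non-canonically) isomorphic to it -/
theorem nonempty_dual_equiv (G : Type*) [CommGroup G] [Finite G] : Nonempty ((G →* ℂˣ) ≃* G) := by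
  haveI : NeZero (Monoid.exponent G) := ⟨Monoid.exponent_ne_zero_of_finite⟩
  exact CommGroup.monoidHom_mulEquiv_of_hasEnoughRootsOfUnity G ℂ

/-- a quotient of a finite abelian group is isomorphic to a subgroup of it -/
theorem exists_subgroup_equiv_of_surjective {B S : Type*} [CommGroup B] [Finite B] [CommGroup S]
    (π : B →* S) (hπ : Function.Surjective π) : ∃ C : Subgroup B, Nonempty (S ≃* C) := by
  haveI : Finite S := Finite.of_surjective π hπ
  obtain ⟨eS⟩ := nonempty_dual_equiv S
  obtain ⟨eB⟩ := nonempty_dual_equiv B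
  -- precomposition with `π`
  let pre : (S →* ℂˣ) →* (B →* ℂˣ) :=
    { toFun := fun χ => χ.comp π
      map_one' := by ext; rfl
      map_mul' := fun a b => by ext; rfl }
  have hpre : Function.Injective pre := by
    intro a b hab
    ext s
    obtain ⟨x, rfl⟩ := hπ s
    have := DFunLike.congr_fun hab x
    exact congrArg Units.val this
  let g : S →* B := eB.toMonoidHom.comp (pre.comp eS.symm.toMonoidHom)
  have hg : Function.Injective g := eB.injective.comp (hpre.comp eS.symm.injective)
  exact ⟨g.range, ⟨MonoidHom.ofInjective hg⟩⟩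

/-- a subgroup of a quotient of a finite abelian group is isomorphic to a subgroup of it -/
theorem exists_subgroup_equiv_of_subquotient {B W : Type*} [CommGroup B] [Finite B] [Group W]
    (π : B →* W) (hπ : Function.Surjective π) (S : Subgroup W) :
    ∃ C : Subgroup B, Nonempty (S ≃* C) := by
  classical
  letI : CommGroup S :=
    { (inferInstance : Group S) with
      mul_comm := fun a b => by
        apply Subtype.ext
        obtain ⟨x, hx⟩ := hπ a.1
        obtain ⟨y, hy⟩ := hπ b.1
        show (a : W) * b = b * a
        rw [← hx, ← hy, ← map_mul, ← map_mul, mul_comm] }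
  -- the preimage of `S`
  let B₁ : Subgroup B := S.comap π
  let π₁ : B₁ →* S :=
    { toFun := fun x => ⟨π (x : B), x.2⟩
      map_one' := Subtype.ext (map_one π)
      map_mul' := fun a b => Subtype.ext (map_mul π (a : B) (b : B)) }
  have hπ₁ : Function.Surjective π₁ := by
    intro s
    obtain ⟨x, hx⟩ := hπ s.1
    refine ⟨⟨x, ?_⟩, Subtype.ext hx⟩
    show π x ∈ S
    rw [hx]
    exact s.2
  obtain ⟨C₁, ⟨e⟩⟩ := exists_subgroup_equiv_of_surjective π₁ hπ₁
  refine ⟨C₁.map B₁.subtype, ⟨e.trans ?_⟩⟩
  exact (C₁.equivMapOfInjective B₁.subtype (Subgroup.subtype_injective _))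

end Quot

end Cfsg.Agent.Helper8.AbDual
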