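import Mathlib

/-!
A combinatorial lemma on arrays `a i j = x i + y j` with few nonzero entries.
-/

set_option autoImplicit false

namespace Cfsg.Agent.Helper8

theorem array_lemma {I J : Type*} [Fintype I] [Fintype J] [DecidableEq I] [DecidableEq J]
    (x : I → ℂ) (y : J → ℂ) (hIJ : Fintype.card I + 2 ≤ Fintype.card J)
    (hfew : (Finset.univ.filter (fun p : I × J => x p.1 + y p.2 ≠ 0)).card
      < 2 * Fintype.card I) :
    (∀ i j, x i + y j = 0) ∨ (∃ (j₀ : J) (a : ℂ), ∀ i j, x i + y j = if j = j₀ then a else 0) ∨
      (∃ (i₀ : I) (a : ℂ), ∀ i j, x i + y j = if i = i₀ then a else 0) := by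
  classical
  -- the number of nonzero entries in a row
  set nz : I → ℕ := fun i => (Finset.univ.filter (fun j : J => x i + y j ≠ 0)).card with hnz
  have htotal : (Finset.univ.filter (fun p : I × J => x p.1 + y p.2 ≠ 0)).card = ∑ i, nz i := by
    rw [Finset.card_filter, Fintype.sum_prod_type]
    apply Finset.sum_congr rfl
    intro i _
    show _ = (Finset.univ.filter (fun j : J => x i + y j ≠ 0)).card
    rw [Finset.card_filter]
  rw [htotal] at hfew
  -- some row has at most one nonzero entry
  have hex : ∃ i₀, nz i₀ ≤ 1 := by
    by_contra hcon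
    push Not at hcon
    have : ∑ _i : I, 2 ≤ ∑ i, nz i := Finset.sum_le_sum (fun i _ => hcon i)
    rw [Finset.sum_const, Finset.card_univ, smul_eq_mul, mul_comm] at this
    omega
  obtain ⟨i₀, hi₀⟩ := hex
  rcases Nat.lt_or_ge (nz i₀) 1 with h0 | h1
  · -- a zero row
    have hz : nz i₀ = 0 := by omega
    have hrow : ∀ j, x i₀ + y j = 0 := by
      intro j
      by_contra hne
      have : j ∈ Finset.univ.filter (fun j : J => x i₀ + y j ≠ 0) :=
        Finset.mem_filter.mpr ⟨Finset.mem_univ j, hne⟩
      rw [hnz] at hz
      simp only at hz
      rw [Finset.card_eq_zero] at hz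
      rw [hz] at this
      exact absurd this (Finset.notMem_empty j)
    have hy : ∀ j, y j = - x i₀ := fun j => eq_neg_of_add_eq_zero_right (hrow j)
    have hentry : ∀ i j, x i + y j = x i - x i₀ := by
      intro i j; rw [hy j]; ring
    set R : Finset I := Finset.univ.filter (fun i => x i ≠ x i₀) with hR
    have hnzR : ∀ i, nz i = if i ∈ R then Fintype.card J else 0 := by
      intro i
      by_cases hi : i ∈ R
      · rw [if_pos hi, hnz]
        simp only
        rw [Finset.filter_true_of_mem, Finset.card_univ]
        intro j _
        rw [hentry]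
        exact sub_ne_zero.mpr (Finset.mem_filter.mp hi).2
      · rw [if_neg hi, hnz]
        simp only
        rw [Finset.card_eq_zero, Finset.filter_eq_empty_iff]
        intro j _
        rw [hentry, not_not, sub_eq_zero]
        by_contra hne
        exact hi (Finset.mem_filter.mpr ⟨Finset.mem_univ i, hne⟩)
    have hsum : ∑ i, nz i = R.card * Fintype.card J := by
      rw [Finset.sum_congr rfl (fun i _ => hnzR i), Finset.sum_ite_mem, Finset.univ_inter,
        Finset.sum_const, smul_eq_mul]
    rw [hsum] at hfew
    have hRcard : R.card ≤ 1 := by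
      by_contra hcon
      push Not at hcon
      have : 2 * Fintype.card J ≤ R.card * Fintype.card J := Nat.mul_le_mul_right _ hcon
      omega
    rcases Nat.lt_or_ge R.card 1 with hR0 | hR1
    · left
      intro i j
      rw [hentry, sub_eq_zero]
      by_contra hne
      have : i ∈ R := Finset.mem_filter.mpr ⟨Finset.mem_univ i, hne⟩
      have hRe : R = ∅ := Finset.card_eq_zero.mp (by omega)
      rw [hRe] at this
      exact absurd this (Finset.notMem_empty i)
    · right; right
      have hR1' : R.card = 1 := by omega
      obtain ⟨i₁, hi₁⟩ := Finset.card_eq_one.mp hR1'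
      refine ⟨i₁, x i₁ - x i₀, ?_⟩
      intro i j
      rw [hentry]
      by_cases hi : i = i₁
      · rw [if_pos hi, hi]
      · rw [if_neg hi, sub_eq_zero]
        by_contra hne
        have : i ∈ R := Finset.mem_filter.mpr ⟨Finset.mem_univ i, hne⟩
        rw [hi₁, Finset.mem_singleton] at this
        exact hi this
  · -- exactly one nonzero entry in the row
    have h1' : nz i₀ = 1 := by omega
    obtain ⟨js, hjs⟩ := Finset.card_eq_one.mp h1'
    have hjs_ne : x i₀ + y js ≠ 0 := by
      have : js ∈ Finset.univ.filter (fun j : J => x i₀ + y j ≠ 0) := by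
        rw [hjs]; exact Finset.mem_singleton_self js
      exact (Finset.mem_filter.mp this).2
    have hother : ∀ j, j ≠ js → y j = - x i₀ := by
      intro j hj
      apply eq_neg_of_add_eq_zero_right
      by_contra hne
      have : j ∈ Finset.univ.filter (fun j : J => x i₀ + y j ≠ 0) :=
        Finset.mem_filter.mpr ⟨Finset.mem_univ j, hne⟩
      rw [hjs, Finset.mem_singleton] at this
      exact hj this
    -- all `x i` agree with `x i₀`
    have hall : ∀ i, x i = x i₀ := by
      by_contra hcon
      push Not at hcon
      obtain ⟨i₁, hi₁⟩ := hcon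
      -- every row has a nonzero entry
      have hge1 : ∀ i, 1 ≤ nz i := by
        intro i
        rw [hnz]
        simp only
        apply Finset.card_pos.mpr
        by_cases hi : x i = x i₀
        · refine ⟨js, Finset.mem_filter.mpr ⟨Finset.mem_univ _, ?_⟩⟩
          rw [hi]; exact hjs_ne
        · have hJ2 : 2 ≤ Fintype.card J := by omega
          obtain ⟨j, hj⟩ : ∃ j : J, j ≠ js := by
            have : Nontrivial J := Fintype.one_lt_card_iff_nontrivial.mp (by omega)
            exact exists_ne js
          refine ⟨j, Finset.mem_filter.mpr ⟨Finset.mem_univ _, ?_⟩⟩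
          rw [hother j hj]
          intro h
          apply hi
          linear_combination h
      -- the row `i₁` has many nonzero entries
      have hbig : Fintype.card J - 1 ≤ nz i₁ := by
        rw [hnz]
        simp only
        have hsub : (Finset.univ.erase js : Finset J)
            ⊆ Finset.univ.filter (fun j : J => x i₁ + y j ≠ 0) := by
          intro j hj
          have hjne : j ≠ js := (Finset.mem_erase.mp hj).1
          refine Finset.mem_filter.mpr ⟨Finset.mem_univ _, ?_⟩
          rw [hother j hjne]
          intro h
          apply hi₁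
          linear_combination h
        have := Finset.card_le_card hsub
        rw [Finset.card_erase_of_mem (Finset.mem_univ js), Finset.card_univ] at this
        exact this
      have hsum : Fintype.card J - 1 + (Fintype.card I - 1) ≤ ∑ i, nz i := by
        rw [← Finset.add_sum_erase Finset.univ nz (Finset.mem_univ i₁)]
        apply Nat.add_le_add hbig
        have : ∑ _i ∈ (Finset.univ.erase i₁ : Finset I), 1 ≤ ∑ i ∈ Finset.univ.erase i₁, nz i :=
          Finset.sum_le_sum (fun i _ => hge1 i)
        rw [Finset.sum_const, smul_eq_mul, mul_one,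
          Finset.card_erase_of_mem (Finset.mem_univ i₁), Finset.card_univ] at this
        exact this
      have hI1 : 1 ≤ Fintype.card I := Fintype.card_pos_iff.mpr ⟨i₀⟩
      omega
    right; left
    refine ⟨js, x i₀ + y js, ?_⟩
    intro i j
    rw [hall i]
    by_cases hj : j = js
    · rw [if_pos hj, hj]
    · rw [if_neg hj, hother j hj]; ring

end Cfsg.Agent.Helper8
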