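import Mathlib
import Cfsg.Prelude.Def_Blocks
import Cfsg.Agent.Helper8.BL15
import Cfsg.Agent.Helper5.LinChar

/-!
# Brauer–Leonard: a faithful character of small degree forces a normal Sylow subgroup
-/

set_option autoImplicit false

namespace Cfsg.Agent.Helper8.BL

open Cfsg
open scoped ComplexConjugate

universe u

/-- **Brauer–Leonard**: faithful characters of small degree. -/
theorem bl_faithful : ∀ (m : ℕ) {G : Type u} [Group G] [Finite G], Nat.card G = m →
    ∀ (p : ℕ) [Fact p.Prime] (P : Sylow p G), Star P → ∀ n : ℕ, Nat.card P = p ^ n →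
    ∀ χ : G → ℂ, IsCharacter G χ → (∀ g : G, χ g = χ 1 → g = 1) →
    charDegree χ ^ 2 + 1 < p ^ n → (P : Subgroup G).Normal := by
  intro m
  induction m using Nat.strong_induction_on with
  | _ m ih =>
  intro G _ _ hm p _ P h n hn χ hχ hfaith hdeg
  classical
  haveI : Fintype G := Fintype.ofFinite G
  haveI : Fintype (IrrCharacter G) := Fintype.ofFinite _
  obtain ⟨a, ha⟩ := Cfsg.Agent.Helper24.IsCharacter.exists_nat_coeff hχ
  obtain ⟨d, hd, -⟩ := Cfsg.Agent.Helper8.char_norm_le hχ
  have hcd : charDegree χ = d := by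
    rw [charDegree, hd, Complex.natCast_re, Nat.floor_natCast]
  rw [hcd] at hdeg
  have hdsum : d = ∑ ψ : IrrCharacter G, a ψ * Cfsg.Agent.Helper24.irrDeg ψ :=
    sum_coeff_mul_irrDeg a d (by rw [← ha]; exact hd)
  by_cases hlin : ∀ ψ : IrrCharacter G, a ψ ≠ 0 → Cfsg.Agent.Helper24.irrDeg ψ = 1
  · -- all constituents are linear: `G` is abelian
    have hcomm : ∀ g k : G, g * k = k * g := by
      intro g k
      have h1 : χ (g * k * g⁻¹ * k⁻¹) = χ 1 := by
        rw [ha]
        simp only [Finset.sum_apply, Pi.smul_apply, smul_eq_mul]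
        refine Finset.sum_congr rfl fun ψ _ => ?_
        by_cases h0 : a ψ = 0
        · rw [h0]; simp
        · have hψ1 : (ψ : G → ℂ) 1 = 1 :=
            (Cfsg.Agent.Helper24.irrDeg_eq_one_iff ψ).mp (hlin ψ h0)
          have hmul := Cfsg.Agent.Helper5.linChar_mul
            (Cfsg.Agent.Helper24.IsIrrCharacter.isCharacter ψ.2) hψ1
          congr 1
          rw [hmul, hmul, hmul, hψ1]
          have e1 : (ψ : G → ℂ) g * (ψ : G → ℂ) g⁻¹ = 1 := by
            rw [← hmul, mul_inv_cancel, hψ1]
          have e2 : (ψ : G → ℂ) k * (ψ : G → ℂ) k⁻¹ = 1 := by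
            rw [← hmul, mul_inv_cancel, hψ1]
          linear_combination ((ψ : G → ℂ) k * (ψ : G → ℂ) k⁻¹) * e1 + e2
      have h2 := hfaith _ h1
      calc g * k = (g * k * g⁻¹ * k⁻¹) * (k * g) := by group
        _ = k * g := by rw [h2, one_mul]
    constructor
    intro y hy g
    have : g * y * g⁻¹ = y := by rw [hcomm g y]; group
    rw [this]; exact hy
  · push Not at hlin
    obtain ⟨ψ₀, ha₀, hdeg₀⟩ := hlin
    have hψ₀1 : (ψ₀ : G → ℂ) ≠ fun _ => 1 := by
      intro h'
      apply hdeg₀
      rw [Cfsg.Agent.Helper24.irrDeg_eq_one_iff, h']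
    have hle : Cfsg.Agent.Helper24.irrDeg ψ₀ ≤ d := by
      rw [hdsum]
      calc Cfsg.Agent.Helper24.irrDeg ψ₀ ≤ a ψ₀ * Cfsg.Agent.Helper24.irrDeg ψ₀ :=
            Nat.le_mul_of_pos_left _ (Nat.pos_of_ne_zero ha₀)
        _ ≤ _ := Finset.single_le_sum (f := fun ψ => a ψ * Cfsg.Agent.Helper24.irrDeg ψ)
            (fun _ _ => Nat.zero_le _) (Finset.mem_univ ψ₀)
    have hdeg' : charDegree (ψ₀ : G → ℂ) ^ 2 + 1 < p ^ n := by
      rw [charDegree_irr]
      have := Nat.pow_le_pow_left hle 2
      omega
    rcases bl_alternative p P h n hn ψ₀ hψ₀1 hdeg' with ⟨K, hKn, hKtop, hPK⟩ | ⟨-, h1⟩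
    · haveI := hKn
      have hcardK : Nat.card K < m := by
        rw [← hm]
        exact lt_of_le_of_ne (Subgroup.card_le_card_group K)
          (fun heq => hKtop (Subgroup.eq_top_of_card_eq K heq))
      set P' : Sylow p K := P.subtype hPK with hP'
      have hP'coe : (P' : Subgroup K) = (P : Subgroup G).subgroupOf K := by
        rw [hP', Sylow.coe_subtype]
      have hP'mem : ∀ k : K, k ∈ (P' : Subgroup K) ↔ (k : G) ∈ (P : Subgroup G) := by
        intro k
        rw [hP'coe, Subgroup.mem_subgroupOf]
      have hstar' : Star P' := by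
        intro x hx hx1
        ext k
        rw [Subgroup.mem_centralizer_iff, Subgroup.mem_centralizer_iff]
        have hxG : (x : G) ∈ (P : Subgroup G) := (hP'mem x).mp hx
        have hx1G : (x : G) ≠ 1 := fun h' => hx1 (Subtype.ext h')
        have hG := h (x : G) hxG hx1G
        constructor
        · intro hk y hy
          have h3 : (k : G) ∈ Subgroup.centralizer ({(x : G)} : Set G) := by
            rw [Subgroup.mem_centralizer_iff]
            intro w hw
            rw [Set.mem_singleton_iff.mp hw]
            exact congrArg Subtype.val (hk x rfl)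
          rw [hG] at h3
          have h4 := Subgroup.mem_centralizer_iff.mp h3 (y : G) ((hP'mem y).mp hy)
          exact Subtype.ext h4
        · intro hk w hw
          rw [Set.mem_singleton_iff.mp hw]
          exact hk x hx
      have hn' : Nat.card (P' : Subgroup K) = p ^ n := by
        rw [← hn, hP'coe]
        exact Nat.card_congr (Subgroup.subgroupOfEquivOfLe hPK).toEquiv
      have hχK : IsCharacter K (fun k : K => χ k) :=
        Cfsg.Agent.Helper8.isCharacter_restrict K hχ
      have hfaithK : ∀ k : K, (fun k : K => χ k) k = (fun k : K => χ k) 1 → k = 1 := by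
        intro k hk
        apply Subtype.ext
        exact hfaith k hk
      have hdegK : charDegree (fun k : K => χ k) ^ 2 + 1 < p ^ n := by
        have : charDegree (fun k : K => χ k) = d := by
          rw [charDegree]
          simp only [OneMemClass.coe_one]
          rw [hd, Complex.natCast_re, Nat.floor_natCast]
        rw [this]; exact hdeg
      have hnormal := ih (Nat.card K) hcardK rfl p P' hstar' n hn' _ hχK hfaithK hdegK
      haveI : (P' : Subgroup K).Characteristic := Sylow.characteristic_of_normal P' hnormal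
      have hmap : ((P' : Subgroup K).map K.subtype).Normal := inferInstance
      have hPeq : (P' : Subgroup K).map K.subtype = (P : Subgroup G) := by
        rw [hP'coe, Subgroup.subgroupOf_map_subtype, inf_eq_left.mpr hPK]
      rw [← hPeq]; exact hmap
    · exfalso
      rw [charDegree_irr] at h1
      exact hdeg₀ h1

end Cfsg.Agent.Helper8.BL
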