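import Mathlib

/-!
# Abelian 2-groups with exactly three involutions: automorphisms of odd order

`Rk2 P V`: `P` is an abelian 2-subgroup whose elements of order at most two form the
four-group `V`.
-/

set_option autoImplicit false

namespace Cfsg.Agent.Helper8.BR

variable {G : Type*} [Group G]

theorem conj_pow_eq {n y z : G} (hz : n * z = z * n) (h : n * y * n⁻¹ = y * z) (i : ℕ) :
    n ^ i * y * (n ^ i)⁻¹ = y * z ^ i := by
  induction i with
  | zero => simp
  | succ i ih =>
    have e1 : n ^ (i + 1) * y * (n ^ (i + 1))⁻¹ = n * (n ^ i * y * (n ^ i)⁻¹) * n⁻¹ := by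
      rw [pow_succ']; group
    rw [e1, ih]
    have hzi : n * z ^ i * n⁻¹ = z ^ i := by
      have hcm : Commute n (z ^ i) := Commute.pow_right hz i
      rw [hcm.eq]; group
    calc n * (y * z ^ i) * n⁻¹ = (n * y * n⁻¹) * (n * z ^ i * n⁻¹) := by group
      _ = y * z * z ^ i := by rw [h, hzi]
      _ = y * z ^ (i + 1) := by rw [pow_succ', mul_assoc]

theorem eq_one_of_sq_of_odd_pow {z : G} (hz : z * z = 1) {k : ℕ} (hk : Odd k) (hzk : z ^ k = 1) :
    z = 1 := by
  obtain ⟨m, rfl⟩ := hk
  rw [pow_succ, pow_mul, pow_two, hz, one_pow, one_mul] at hzk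
  exact hzk

/-- **Coprime action**: an element normalizing the abelian 2-group `P`, of odd order modulo the
centralizer, which centralizes all involutions of `P`, centralizes `P`. -/
theorem centralizes_of_centralizes_involutions (P : Subgroup G)
    (hc : ∀ a ∈ P, ∀ b ∈ P, a * b = b * a) (hP : IsPGroup 2 P)
    {n : G} (hn : n ∈ Subgroup.normalizer (P : Set G)) {k : ℕ} (hk : Odd k)
    (hnk : n ^ k ∈ Subgroup.centralizer (P : Set G))
    (hinv : ∀ y ∈ P, y * y = 1 → n * y = y * n) : n ∈ Subgroup.centralizer (P : Set G) := by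
  have key : ∀ j : ℕ, ∀ y ∈ P, y ^ (2 ^ j) = 1 → n * y = y * n := by
    intro j
    induction j with
    | zero =>
      intro y _ hy
      rw [pow_zero, pow_one] at hy
      rw [hy, mul_one, one_mul]
    | succ j ih =>
      intro y hy hyj
      have hyy : y * y ∈ P := P.mul_mem hy hy
      have h2 : n * (y * y) = (y * y) * n := by
        apply ih _ hyy
        rw [← pow_two, ← pow_mul, ← pow_succ']
        exact hyj
      set w := n * y * n⁻¹ with hw
      have hwP : w ∈ P := (Subgroup.mem_normalizer_iff.mp hn y).mp hy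
      set z := y⁻¹ * w with hz
      have hzP : z ∈ P := P.mul_mem (P.inv_mem hy) hwP
      have hww : w * w = y * y := by
        have : w * w = n * (y * y) * n⁻¹ := by rw [hw]; group
        rw [this, h2]; group
      have hzz : z * z = 1 := by
        have e1 : z * z = y⁻¹ * (w * y⁻¹) * w := by rw [hz]; group
        rw [e1, hc w hwP y⁻¹ (P.inv_mem hy)]
        have e2 : y⁻¹ * (y⁻¹ * w) * w = (y * y)⁻¹ * (w * w) := by group
        rw [e2, hww]; group
      have hnz := hinv z hzP hzz
      have hwy : n * y * n⁻¹ = y * z := by rw [hz, ← hw]; group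
      have hpow := conj_pow_eq hnz hwy k
      have hck : n ^ k * y * (n ^ k)⁻¹ = y := by
        have := Subgroup.mem_centralizer_iff.mp hnk y hy
        rw [← this]; group
      rw [hck] at hpow
      have hzk : z ^ k = 1 := by
        have : y * z ^ k = y * 1 := by rw [mul_one]; exact hpow.symm
        exact mul_left_cancel this
      have hz1 := eq_one_of_sq_of_odd_pow hzz hk hzk
      rw [hz1, mul_one] at hwy
      calc n * y = (n * y * n⁻¹) * n := by group
        _ = y * n := by rw [hwy]
  rw [Subgroup.mem_centralizer_iff]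
  intro y hy
  obtain ⟨j, hj⟩ := hP ⟨y, hy⟩
  have hj' : y ^ (2 ^ j) = 1 := by
    have := congrArg Subtype.val hj
    simpa using this
  exact (key j y hy hj').symm

/-- `P` is an abelian 2-group whose elements with `y * y = 1` form the four-group `V`. -/
structure Rk2 (P V : Subgroup G) : Prop where
  hc : ∀ a ∈ P, ∀ b ∈ P, a * b = b * a
  h2 : IsPGroup 2 P
  hVP : V ≤ P
  hV4 : Nat.card V = 4
  hVexp : ∀ v ∈ V, v * v = 1
  hVall : ∀ y ∈ P, y * y = 1 → y ∈ V

variable {P V : Subgroup G}

theorem Rk2.conj_mem_V (h : Rk2 P V) {n : G} (hn : n ∈ Subgroup.normalizer (P : Set G))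
    {v : G} (hv : v ∈ V) : n * v * n⁻¹ ∈ V := by
  apply h.hVall
  · exact (Subgroup.mem_normalizer_iff.mp hn v).mp (h.hVP hv)
  · have : n * v * n⁻¹ * (n * v * n⁻¹) = n * (v * v) * n⁻¹ := by group
    rw [this, h.hVexp v hv]; group

theorem Rk2.enum (h : Rk2 P V) {a b : G} (ha : a ∈ V) (hb : b ∈ V) (ha1 : a ≠ 1) (hb1 : b ≠ 1)
    (hab : a ≠ b) {x : G} (hx : x ∈ V) : x = 1 ∨ x = a ∨ x = b ∨ x = a * b := by
  classical
  have : Finite V := Nat.finite_of_card_ne_zero (by rw [h.hV4]; norm_num)
  have : Fintype V := Fintype.ofFinite V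
  have hab1 : a * b ≠ 1 := by
    intro h1
    have : a * (a * b) = a * 1 := by rw [h1]
    rw [← mul_assoc, h.hVexp a ha, one_mul, mul_one] at this
    exact hab this.symm
  have haba : a * b ≠ a := by
    intro h1
    have : a * b = a * 1 := by rw [mul_one]; exact h1
    exact hb1 (mul_left_cancel this)
  have habb : a * b ≠ b := by
    intro h1
    have : a * b = 1 * b := by rw [one_mul]; exact h1
    exact ha1 (mul_right_cancel this)
  set S : Finset V := {1, ⟨a, ha⟩, ⟨b, hb⟩, ⟨a * b, V.mul_mem ha hb⟩} with hS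
  have hScard : S.card = 4 := by
    rw [hS]
    rw [Finset.card_insert_of_notMem, Finset.card_insert_of_notMem, Finset.card_insert_of_notMem,
      Finset.card_singleton]
    · simp only [Finset.mem_singleton, Subtype.mk.injEq]
      exact fun h1 => habb h1.symm
    · simp only [Finset.mem_insert, Finset.mem_singleton, Subtype.mk.injEq, not_or]
      exact ⟨hab, fun h1 => haba h1.symm⟩
    · simp only [Finset.mem_insert, Finset.mem_singleton, not_or]
      refine ⟨?_, ?_, ?_⟩
      · intro h1; exact ha1 (congrArg Subtype.val h1).symm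
      · intro h1; exact hb1 (congrArg Subtype.val h1).symm
      · intro h1; exact hab1 (congrArg Subtype.val h1).symm
  have hSuniv : S = Finset.univ := by
    apply Finset.eq_univ_of_card
    rw [hScard, ← Nat.card_eq_fintype_card, h.hV4]
  have hxS : (⟨x, hx⟩ : V) ∈ S := by rw [hSuniv]; exact Finset.mem_univ _
  rw [hS] at hxS
  simp only [Finset.mem_insert, Finset.mem_singleton, Subtype.mk.injEq] at hxS
  rcases hxS with h1 | h1 | h1 | h1
  · left; exact congrArg Subtype.val h1
  · right; left; exact h1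
  · right; right; left; exact h1
  · right; right; right; exact h1

theorem Rk2.mem_centralizer_of_V (h : Rk2 P V) {n : G}
    (hn : n ∈ Subgroup.normalizer (P : Set G)) {k : ℕ} (hk : Odd k)
    (hnk : n ^ k ∈ Subgroup.centralizer (P : Set G))
    (hV : ∀ v ∈ V, n * v = v * n) : n ∈ Subgroup.centralizer (P : Set G) :=
  centralizes_of_centralizes_involutions P h.hc h.h2 hn hk hnk
    (fun y hy hyy => hV y (h.hVall y hy hyy))

/-- An element of `N(P)` of odd order modulo `C(P)` fixing one involution centralizes `P`. -/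
theorem Rk2.fix_one_fix_all (h : Rk2 P V) {n : G}
    (hn : n ∈ Subgroup.normalizer (P : Set G)) {k : ℕ} (hk : Odd k)
    (hnk : n ^ k ∈ Subgroup.centralizer (P : Set G))
    {a : G} (ha : a ∈ V) (ha1 : a ≠ 1) (hna : n * a = a * n) :
    n ∈ Subgroup.centralizer (P : Set G) := by
  by_contra hcon
  have hex : ∃ v ∈ V, n * v ≠ v * n := by
    by_contra hno
    push Not at hno
    exact hcon (h.mem_centralizer_of_V hn hk hnk hno)
  obtain ⟨v, hv, hnv⟩ := hex
  have hv1 : v ≠ 1 := by
    intro h1; apply hnv; rw [h1, mul_one, one_mul]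
  have hva : a ≠ v := by
    intro h1; apply hnv; rw [← h1]; exact hna
  have hconj_a : n * a * n⁻¹ = a := by rw [hna]; group
  have hw : n * v * n⁻¹ = a * v := by
    rcases h.enum ha hv ha1 hv1 hva (h.conj_mem_V hn hv) with h1 | h1 | h1 | h1
    · exfalso; apply hv1
      have : v = n⁻¹ * (n * v * n⁻¹) * n := by group
      rw [this, h1]; group
    · exfalso; apply hva
      calc a = n⁻¹ * (n * a * n⁻¹) * n := by group
        _ = n⁻¹ * (n * v * n⁻¹) * n := by rw [hconj_a, h1]
        _ = v := by group
    · exfalso; apply hnv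
      calc n * v = (n * v * n⁻¹) * n := by group
        _ = v * n := by rw [h1]
    · exact h1
  -- n² centralizes V
  have hn2 : n * n ∈ Subgroup.normalizer (P : Set G) := Subgroup.mul_mem _ hn hn
  have hn2k : (n * n) ^ k ∈ Subgroup.centralizer (P : Set G) := by
    have : (n * n) ^ k = n ^ k * n ^ k := by
      rw [← pow_two, ← pow_mul, mul_comm, pow_mul, pow_two]
    rw [this]
    exact Subgroup.mul_mem _ hnk hnk
  have hn2a : (n * n) * a = a * (n * n) := by
    rw [mul_assoc, hna, ← mul_assoc, hna, mul_assoc]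
  have hn2v : (n * n) * v = v * (n * n) := by
    have e1 : n * n * v * (n * n)⁻¹ = n * (n * v * n⁻¹) * n⁻¹ := by group
    have e2 : n * n * v * (n * n)⁻¹ = v := by
      rw [e1, hw]
      have : n * (a * v) * n⁻¹ = (n * a * n⁻¹) * (n * v * n⁻¹) := by group
      rw [this, hconj_a, hw, ← mul_assoc, h.hVexp a ha, one_mul]
    calc n * n * v = (n * n * v * (n * n)⁻¹) * (n * n) := by group
      _ = v * (n * n) := by rw [e2]
  have hn2C : n * n ∈ Subgroup.centralizer (P : Set G) := by
    apply h.mem_centralizer_of_V hn2 hk hn2k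
    intro x hx
    rcases h.enum ha hv ha1 hv1 hva hx with h1 | h1 | h1 | h1
    · rw [h1, mul_one, one_mul]
    · rw [h1]; exact hn2a
    · rw [h1]; exact hn2v
    · rw [h1, ← mul_assoc, hn2a, mul_assoc, hn2v, ← mul_assoc]
  -- hence n ∈ C
  obtain ⟨m, rfl⟩ := hk
  have : n = (n * n) ^ (m + 1) * (n ^ (2 * m + 1))⁻¹ := by
    rw [← pow_two, ← pow_mul]
    have : 2 * (m + 1) = (2 * m + 1) + 1 := by ring
    rw [this, pow_succ]; group
  apply hcon
  rw [this]
  exact Subgroup.mul_mem _ (Subgroup.pow_mem _ hn2C _) (Subgroup.inv_mem _ hnk)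

end Cfsg.Agent.Helper8.BR
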