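import Mathlib
import Cfsg.Agent.Helper8.BR1

/-!
# The automizer of an abelian Sylow 2-subgroup with three involutions
-/

set_option autoImplicit false

namespace Cfsg.Agent.Helper8.BR

variable {G : Type*} [Group G] [Finite G]

theorem sylow_le_centralizer (P : Sylow 2 G)
    (hc : ∀ a ∈ (P : Subgroup G), ∀ b ∈ (P : Subgroup G), a * b = b * a) :
    (P : Subgroup G) ≤ Subgroup.centralizer ((P : Subgroup G) : Set G) := by
  intro x hx
  rw [Subgroup.mem_centralizer_iff]
  intro y hy
  exact hc y hy x hx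

/-- `|N : C|` is odd. -/
theorem odd_relIndex (P : Sylow 2 G)
    (hc : ∀ a ∈ (P : Subgroup G), ∀ b ∈ (P : Subgroup G), a * b = b * a) :
    Odd ((Subgroup.centralizer ((P : Subgroup G) : Set G)).relIndex
      (Subgroup.normalizer ((P : Subgroup G) : Set G))) := by
  have h1 := Subgroup.relIndex_dvd_of_le_left (Subgroup.normalizer ((P : Subgroup G) : Set G))
    (sylow_le_centralizer P hc)
  have h2 : (P : Subgroup G).relIndex (Subgroup.normalizer ((P : Subgroup G) : Set G)) ∣
      (P : Subgroup G).index := Subgroup.relIndex_dvd_index_of_le Subgroup.le_normalizer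
  have h3 : ¬ 2 ∣ (P : Subgroup G).index := P.not_dvd_index
  rw [← Nat.not_even_iff_odd, even_iff_two_dvd]
  intro h4
  exact h3 (h4.trans (h1.trans h2))

theorem pow_relIndex_mem (s : Set G) {n : G} (hn : n ∈ Subgroup.normalizer s) :
    n ^ (Subgroup.centralizer s).relIndex (Subgroup.normalizer s) ∈ Subgroup.centralizer s := by
  have := Subgroup.pow_index_mem ((Subgroup.centralizer s).subgroupOf (Subgroup.normalizer s))
    (⟨n, hn⟩ : Subgroup.normalizer s)
  rw [Subgroup.mem_subgroupOf] at this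
  simpa [Subgroup.relIndex] using this

variable {V : Subgroup G}

/-- In `N(P)`, centralizing `V` means centralizing `P`. -/
theorem Rk2.mem_centralizer_of_V' {P : Sylow 2 G} (h : Rk2 (P : Subgroup G) V) {n : G}
    (hn : n ∈ Subgroup.normalizer ((P : Subgroup G) : Set G))
    (hV : ∀ v ∈ V, n * v = v * n) : n ∈ Subgroup.centralizer ((P : Subgroup G) : Set G) :=
  h.mem_centralizer_of_V hn (odd_relIndex P h.hc) (pow_relIndex_mem _ hn) hV

theorem Rk2.fix_one_fix_all' {P : Sylow 2 G} (h : Rk2 (P : Subgroup G) V) {n : G}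
    (hn : n ∈ Subgroup.normalizer ((P : Subgroup G) : Set G))
    {a : G} (ha : a ∈ V) (ha1 : a ≠ 1) (hna : n * a = a * n) :
    n ∈ Subgroup.centralizer ((P : Subgroup G) : Set G) :=
  h.fix_one_fix_all hn (odd_relIndex P h.hc) (pow_relIndex_mem _ hn) ha ha1 hna

/-- `|N : C|` divides `24`. -/
theorem Rk2.relIndex_dvd {P : Sylow 2 G} (h : Rk2 (P : Subgroup G) V) :
    (Subgroup.centralizer ((P : Subgroup G) : Set G)).relIndex
      (Subgroup.normalizer ((P : Subgroup G) : Set G)) ∣ 24 := by
  classical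
  have hNV : Subgroup.normalizer ((P : Subgroup G) : Set G) ≤ Subgroup.normalizer (V : Set G) := by
    rw [Subgroup.le_normalizer_iff]
    intro n hn v hv
    exact h.conj_mem_V hn hv
  set ψ : Subgroup.normalizer ((P : Subgroup G) : Set G) →* Equiv.Perm V :=
    (MulAut.toPerm V).comp (V.normalizerMonoidHom.comp (Subgroup.inclusion hNV)) with hψ
  have hker : ψ.ker ≤ (Subgroup.centralizer ((P : Subgroup G) : Set G)).subgroupOf
      (Subgroup.normalizer ((P : Subgroup G) : Set G)) := by
    intro x hx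
    rw [Subgroup.mem_subgroupOf]
    apply h.mem_centralizer_of_V' x.2
    intro v hv
    rw [MonoidHom.mem_ker] at hx
    have h1 := congrArg (fun σ : Equiv.Perm V => ((σ ⟨v, hv⟩ : V) : G)) hx
    simp only [hψ, MonoidHom.coe_comp, Function.comp_apply, Equiv.Perm.coe_one, id_eq] at h1
    have h2 : (x : G) * v * (x : G)⁻¹ = v := h1
    calc (x : G) * v = ((x : G) * v * (x : G)⁻¹) * x := by group
      _ = v * x := by rw [h2]
  have h1 : (Subgroup.centralizer ((P : Subgroup G) : Set G)).relIndex
      (Subgroup.normalizer ((P : Subgroup G) : Set G)) ∣ ψ.ker.index :=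
    Subgroup.index_dvd_of_le hker
  have h2 : ψ.ker.index ∣ Nat.card (Equiv.Perm V) := by
    rw [Subgroup.index_ker]
    exact Subgroup.card_subgroup_dvd_card _
  have : Finite V := inferInstance
  have : Fintype V := Fintype.ofFinite V
  have h3 : Nat.card (Equiv.Perm V) = 24 := by
    rw [Nat.card_eq_fintype_card, Fintype.card_perm, ← Nat.card_eq_fintype_card, h.hV4]
    rfl
  rw [h3] at h2
  exact h1.trans h2

theorem Rk2.relIndex_cases {P : Sylow 2 G} (h : Rk2 (P : Subgroup G) V) :
    (Subgroup.centralizer ((P : Subgroup G) : Set G)).relIndex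
        (Subgroup.normalizer ((P : Subgroup G) : Set G)) = 1 ∨
      (Subgroup.centralizer ((P : Subgroup G) : Set G)).relIndex
        (Subgroup.normalizer ((P : Subgroup G) : Set G)) = 3 := by
  have h1 := h.relIndex_dvd
  have h2 := odd_relIndex P h.hc
  set d := (Subgroup.centralizer ((P : Subgroup G) : Set G)).relIndex
        (Subgroup.normalizer ((P : Subgroup G) : Set G)) with hd
  have hcop : Nat.Coprime d 8 := by
    have : Nat.Coprime d 2 := Nat.coprime_two_right.mpr h2
    exact Nat.Coprime.pow_right 3 this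
  have h3 : d ∣ 3 := by
    have : d ∣ 8 * 3 := h1
    exact hcop.dvd_of_dvd_mul_left this
  exact (Nat.dvd_prime Nat.prime_three).mp h3

theorem Rk2.relIndex_eq_three {P : Sylow 2 G} (h : Rk2 (P : Subgroup G) V)
    (hNC : ¬ Subgroup.normalizer ((P : Subgroup G) : Set G) ≤
      Subgroup.centralizer ((P : Subgroup G) : Set G)) :
    (Subgroup.centralizer ((P : Subgroup G) : Set G)).relIndex
        (Subgroup.normalizer ((P : Subgroup G) : Set G)) = 3 := by
  rcases h.relIndex_cases with h1 | h1
  · exact absurd (Subgroup.relIndex_eq_one.mp h1) hNC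
  · exact h1

/-- Every non-identity element of a 2-group has a power which is an involution. -/
theorem exists_pow_involution {P : Subgroup G} (h2 : IsPGroup 2 P) {y : G} (hy : y ∈ P)
    (hy1 : y ≠ 1) : ∃ i : ℕ, y ^ i ≠ 1 ∧ y ^ i * y ^ i = 1 := by
  obtain ⟨j, hj⟩ := (IsPGroup.iff_orderOf.mp h2) ⟨y, hy⟩
  rw [Subgroup.orderOf_mk] at hj
  have hj1 : j ≠ 0 := by
    intro h0
    rw [h0, pow_zero, orderOf_eq_one_iff] at hj
    exact hy1 hj
  obtain ⟨i, rfl⟩ := Nat.exists_eq_succ_of_ne_zero hj1
  refine ⟨2 ^ i, ?_, ?_⟩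
  · apply pow_ne_one_of_lt_orderOf (by positivity)
    rw [hj]
    exact Nat.pow_lt_pow_right (by norm_num) (Nat.lt_succ_self i)
  · rw [← pow_add, ← two_mul, ← pow_succ', ← hj, pow_orderOf_eq_one]

/-- The fixed-point-free property. -/
theorem Rk2.hfrob {P : Sylow 2 G} (h : Rk2 (P : Subgroup G) V) (y : G)
    (hy : y ∈ (P : Subgroup G)) (hy1 : y ≠ 1) :
    Subgroup.centralizer ({y} : Set G) ⊓ Subgroup.normalizer ((P : Subgroup G) : Set G) =
      Subgroup.centralizer ((P : Subgroup G) : Set G) := by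
  apply le_antisymm
  · rintro n ⟨hn1, hn2⟩
    obtain ⟨i, hi1, hi2⟩ := exists_pow_involution h.h2 hy hy1
    have hiP : y ^ i ∈ (P : Subgroup G) := Subgroup.pow_mem _ hy i
    have hny : y * n = n * y := Subgroup.mem_centralizer_iff.mp hn1 y rfl
    have hcm : Commute n (y ^ i) := Commute.pow_right hny.symm i
    exact h.fix_one_fix_all' hn2 (h.hVall _ hiP hi2) hi1 hcm.eq
  · apply le_inf
    · apply Subgroup.centralizer_le
      intro x hx
      rw [Set.mem_singleton_iff] at hx
      rw [hx]; exact hy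
    · exact Subgroup.centralizer_le_normalizer _

theorem Rk2.exists_moved {P : Sylow 2 G} (h : Rk2 (P : Subgroup G) V)
    (hNC : ¬ Subgroup.normalizer ((P : Subgroup G) : Set G) ≤
      Subgroup.centralizer ((P : Subgroup G) : Set G)) :
    ∃ n ∈ Subgroup.normalizer ((P : Subgroup G) : Set G), ∃ a ∈ V, a ≠ 1 ∧ n * a ≠ a * n := by
  rw [SetLike.not_le_iff_exists] at hNC
  obtain ⟨n, hn, hnC⟩ := hNC
  refine ⟨n, hn, ?_⟩
  by_contra hno
  push Not at hno
  apply hnC
  apply h.mem_centralizer_of_V' hn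
  intro v hv
  by_cases hv1 : v = 1
  · rw [hv1, mul_one, one_mul]
  · exact hno v hv hv1

/-- A normal subgroup containing one involution of `V` moved by `N(P)` contains `V`. -/
theorem Rk2.V_le_of_normal {P : Sylow 2 G} (h : Rk2 (P : Subgroup G) V) (K : Subgroup G)
    [K.Normal] {n : G} (hn : n ∈ Subgroup.normalizer ((P : Subgroup G) : Set G)) {a : G}
    (ha : a ∈ V) (ha1 : a ≠ 1) (hna : n * a ≠ a * n) (haK : a ∈ K) : V ≤ K := by
  set b := n * a * n⁻¹ with hb
  have hbV : b ∈ V := h.conj_mem_V hn ha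
  have hbK : b ∈ K := ‹K.Normal›.conj_mem a haK n
  have hb1 : b ≠ 1 := by
    intro h1
    apply ha1
    have : a = n⁻¹ * b * n := by rw [hb]; group
    rw [this, h1]; group
  have hab : a ≠ b := by
    intro h1
    apply hna
    calc n * a = (n * a * n⁻¹) * n := by group
      _ = a * n := by rw [← hb, ← h1]
  intro x hx
  rcases h.enum ha hbV ha1 hb1 hab hx with h1 | h1 | h1 | h1
  · rw [h1]; exact K.one_mem
  · rw [h1]; exact haK
  · rw [h1]; exact hbK
  · rw [h1]; exact K.mul_mem haK hbK

end Cfsg.Agent.Helper8.BR
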