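import Mathlib
import Cfsg.Agent.Helper8.BR2

/-!
# Groups without normal subgroups of odd order; Burnside's transfer theorem
-/

set_option autoImplicit false

namespace Cfsg.Agent.Helper8.BR

/-- No nontrivial normal subgroup of odd order. -/
def OddFree (X : Type*) [Group X] : Prop :=
  ∀ N : Subgroup X, N.Normal → Odd (Nat.card N) → N = ⊥

variable {G : Type*} [Group G]

/-- **Burnside**: with `N(P) ≤ C(P)` and no odd normal subgroups, `G = P`. -/
theorem eq_top_of_normalizer_le_centralizer [Finite G] (P : Sylow 2 G)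
    (hNC : Subgroup.normalizer ((P : Subgroup G) : Set G) ≤
      Subgroup.centralizer ((P : Subgroup G) : Set G)) (hO : OddFree G) :
    (P : Subgroup G) = ⊤ := by
  have hNC' : Subgroup.normalizer (P : Set G) ≤ Subgroup.centralizer (P : Set G) := hNC
  have hcomp := MonoidHom.ker_transferSylow_isComplement' P hNC'
  have hodd : Odd (Nat.card (MonoidHom.transferSylow P hNC').ker) := by
    rw [← Nat.not_even_iff_odd, even_iff_two_dvd]
    exact MonoidHom.not_dvd_card_ker_transferSylow P hNC'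
  have hbot := hO _ inferInstance hodd
  have := hcomp.sup_eq_top
  rw [hbot, bot_sup_eq] at this
  exact this

theorem odd_card_sup [Finite G] {A M : Subgroup G} [M.Normal] (hA : Odd (Nat.card A))
    (hM : Odd (Nat.card M)) : Odd (Nat.card (A ⊔ M : Subgroup G)) := by
  have h1 : (⊥ : Subgroup G).relIndex M * M.relIndex (A ⊔ M) = (⊥ : Subgroup G).relIndex (A ⊔ M) :=
    Subgroup.relIndex_mul_relIndex _ _ _ bot_le le_sup_right
  rw [Subgroup.relIndex_bot_left, Subgroup.relIndex_bot_left, Subgroup.relIndex_sup_right] at h1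
  rw [← h1]
  apply Odd.mul hM
  have h2 : M.relIndex A ∣ Nat.card A := Subgroup.relIndex_dvd_card _ _
  exact Odd.of_dvd_nat hA h2

/-- `OddFree` passes to normal subgroups. -/
theorem OddFree.normal_subgroup [Finite G] (hO : OddFree G) (K : Subgroup G) [K.Normal] :
    OddFree K := by
  classical
  have hne : Nonempty {A : Subgroup K // A.Normal ∧ Odd (Nat.card A)} :=
    ⟨⟨⊥, inferInstance, by simp⟩⟩
  obtain ⟨⟨M, hMn, hMo⟩, hmax⟩ := Finite.exists_max
    (fun A : {A : Subgroup K // A.Normal ∧ Odd (Nat.card A)} => Nat.card A.1)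
  have hle : ∀ A : Subgroup K, A.Normal → Odd (Nat.card A) → A ≤ M := by
    intro A hAn hAo
    have hs : (A ⊔ M).Normal := Subgroup.sup_normal A M
    have hso : Odd (Nat.card (A ⊔ M : Subgroup K)) := odd_card_sup hAo hMo
    have h1 := hmax ⟨A ⊔ M, hs, hso⟩
    have h2 : M = A ⊔ M := Subgroup.eq_of_le_of_card_ge le_sup_right h1
    rw [h2]; exact le_sup_left
  have hMG : (M.map K.subtype).Normal := by
    constructor
    intro y hy g
    obtain ⟨x, hx, rfl⟩ := Subgroup.mem_map.mp hy
    have hmapn : (M.map (MulAut.conjNormal g : MulAut K).toMonoidHom).Normal :=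
      hMn.map _ (MulAut.conjNormal g : MulAut K).surjective
    have hmapo : Odd (Nat.card (M.map (MulAut.conjNormal g : MulAut K).toMonoidHom)) := by
      have hinj : Function.Injective ((MulAut.conjNormal g : MulAut K).toMonoidHom) :=
        (MulAut.conjNormal g : MulAut K).injective
      rw [Subgroup.card_map_of_injective hinj]
      exact hMo
    have h3 := hle _ hmapn hmapo
    have h4 : (MulAut.conjNormal g : MulAut K) x ∈ M :=
      h3 (Subgroup.mem_map.mpr ⟨x, hx, rfl⟩)
    refine Subgroup.mem_map.mpr ⟨_, h4, ?_⟩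
    rw [Subgroup.coe_subtype, MulAut.conjNormal_apply]
  have hMb : M.map K.subtype = ⊥ := by
    apply hO _ hMG
    rw [Subgroup.card_subtype]; exact hMo
  have hM : M = ⊥ := (Subgroup.map_eq_bot_iff_of_injective M K.subtype_injective).mp hMb
  intro A hAn hAo
  have := hle A hAn hAo
  rw [hM] at this
  exact le_bot_iff.mp this

theorem mem_of_pow_mem_of_odd {K : Subgroup G} {x : G} {j m : ℕ} (hm : Odd m) (hx : x ^ m = 1)
    (hK : x ^ (2 ^ j) ∈ K) : x ∈ K := by
  have hcop : Nat.Coprime (2 ^ j) m := Nat.Coprime.pow_left j (Nat.coprime_two_left.mpr hm)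
  have hb := Nat.gcd_eq_gcd_ab (2 ^ j) m
  rw [hcop.gcd_eq_one] at hb
  have : x = (x ^ (2 ^ j)) ^ (Nat.gcdA (2 ^ j) m) := by
    calc x = x ^ (1 : ℤ) := (zpow_one x).symm
      _ = x ^ (((2 ^ j : ℕ) : ℤ) * Nat.gcdA (2 ^ j) m + (m : ℤ) * Nat.gcdB (2 ^ j) m) := by
        rw [← hb]; norm_cast
      _ = (x ^ (2 ^ j)) ^ (Nat.gcdA (2 ^ j) m) := by
        rw [zpow_add, zpow_mul, zpow_mul, zpow_natCast, zpow_natCast, hx, one_zpow, mul_one]
  rw [this]
  exact K.zpow_mem hK _

/-- `OddFree` passes from a normal subgroup `K` to an overgroup `L` with `L/K` a 2-group. -/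
theorem OddFree.of_le [Finite G] (K L : Subgroup G) [K.Normal] (hKL : K ≤ L) (hK : OddFree K)
    (hpow : ∀ x ∈ L, ∃ j : ℕ, x ^ (2 ^ j) ∈ K) : OddFree L := by
  intro T hTn hTo
  have hTK : ∀ x ∈ T, ((x : L) : G) ∈ K := by
    intro x hx
    obtain ⟨j, hj⟩ := hpow x x.2
    have h1 : (⟨x, hx⟩ : T) ^ Nat.card T = 1 := pow_card_eq_one'
    have h2 : ((x : L) : G) ^ Nat.card T = 1 := by
      have h3 : ((((⟨x, hx⟩ : T) ^ Nat.card T : T) : L) : G) = 1 := by rw [h1]; rfl
      rw [Subgroup.coe_pow, Subgroup.coe_pow] at h3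
      exact h3
    exact mem_of_pow_mem_of_odd hTo h2 hj
  set TK : Subgroup K := (T.map L.subtype).subgroupOf K with hTKdef
  have hmapK : T.map L.subtype ≤ K := by
    intro y hy
    obtain ⟨x, hx, rfl⟩ := Subgroup.mem_map.mp hy
    exact hTK x hx
  have hTKn : TK.Normal := by
    constructor
    intro t ht k
    rw [hTKdef, Subgroup.mem_subgroupOf] at ht ⊢
    obtain ⟨s, hs, hst⟩ := Subgroup.mem_map.mp ht
    have h1 := hTn.conj_mem s hs ⟨(k : G), hKL k.2⟩
    refine Subgroup.mem_map.mpr ⟨_, h1, ?_⟩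
    simp only [Subgroup.coe_subtype, Subgroup.coe_mul, Subgroup.coe_inv] at hst ⊢
    rw [hst]
  have hTKo : Odd (Nat.card TK) := by
    rw [hTKdef, Nat.card_congr (Subgroup.subgroupOfEquivOfLe hmapK).toEquiv, Subgroup.card_subtype]
    exact hTo
  have hTKb := hK TK hTKn hTKo
  rw [Subgroup.eq_bot_iff_forall]
  intro x hx
  have h1 : (⟨(x : G), hTK x hx⟩ : K) ∈ TK := by
    rw [hTKdef, Subgroup.mem_subgroupOf]
    exact Subgroup.mem_map.mpr ⟨x, hx, rfl⟩
  rw [hTKb, Subgroup.mem_bot] at h1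
  have h2 := congrArg (fun t : K => (t : G)) h1
  simp only [Subgroup.coe_one] at h2
  exact Subtype.ext h2

end Cfsg.Agent.Helper8.BR
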