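import Mathlib
import Cfsg.Agent.Helper8.BR3

/-!
# Sylow subgroups of normal subgroups; transport to subgroups
-/

set_option autoImplicit false

namespace Cfsg.Agent.Helper8.BR

variable {G : Type*} [Group G]

theorem card_mul_relIndex {H K : Subgroup G} (h : H ≤ K) :
    Nat.card H * H.relIndex K = Nat.card K := by
  have h1 := Subgroup.relIndex_mul_relIndex (⊥ : Subgroup G) H K bot_le h
  rw [Subgroup.relIndex_bot_left, Subgroup.relIndex_bot_left] at h1
  exact h1

theorem relIndex_sup_of_normal [Finite G] (H K : Subgroup G) [K.Normal] :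
    H.relIndex (H ⊔ K) = H.relIndex K := by
  have e1 := card_mul_relIndex (inf_le_left : H ⊓ K ≤ H)
  have e2 := card_mul_relIndex (inf_le_right : H ⊓ K ≤ K)
  rw [Subgroup.inf_relIndex_left] at e1
  rw [Subgroup.inf_relIndex_right] at e2
  have e3 := card_mul_relIndex (le_sup_right : K ≤ H ⊔ K)
  rw [Subgroup.relIndex_sup_right] at e3
  have e4 := card_mul_relIndex (le_sup_left : H ≤ H ⊔ K)
  have hc : 0 < Nat.card (H ⊓ K : Subgroup G) := Nat.card_pos
  have ha : 0 < K.relIndex H := by
    rcases Nat.eq_zero_or_pos (K.relIndex H) with h0 | h0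
    · rw [h0, mul_zero] at e1
      have : 0 < Nat.card H := Nat.card_pos
      omega
    · exact h0
  have : Nat.card (H ⊓ K : Subgroup G) * K.relIndex H * H.relIndex (H ⊔ K) =
      Nat.card (H ⊓ K : Subgroup G) * K.relIndex H * H.relIndex K := by
    rw [e1, e4, ← e3, ← e2, ← e1]; ring
  exact Nat.eq_of_mul_eq_mul_left (Nat.mul_pos hc ha) this

variable {p : ℕ} [hp : Fact p.Prime]

theorem not_dvd_relIndex_of_normal [Finite G] (P : Sylow p G) (K : Subgroup G) [K.Normal] :
    ¬ p ∣ (P : Subgroup G).relIndex K := by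
  rw [← relIndex_sup_of_normal]
  intro h
  exact P.not_dvd_index (h.trans (Subgroup.relIndex_dvd_index_of_le le_sup_left))

/-- The Sylow subgroup `P ∩ K` of a normal subgroup `K`. -/
noncomputable def sylowNormal [Finite G] (P : Sylow p G) (K : Subgroup G) [K.Normal] : Sylow p K :=
  (P.isPGroup'.comap_subtype (K := K)).toSylow (not_dvd_relIndex_of_normal P K)

theorem coe_sylowNormal [Finite G] (P : Sylow p G) (K : Subgroup G) [K.Normal] :
    ((sylowNormal P K : Sylow p K) : Subgroup K) = (P : Subgroup G).subgroupOf K := rfl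

/-- If `P ∩ K` is normal in `K`, it is normal in `G`. -/
theorem normal_inf_of_normal [Finite G] (P : Sylow p G) (K : Subgroup G) [K.Normal]
    (h : ((sylowNormal P K : Sylow p K) : Subgroup K).Normal) :
    ((P : Subgroup G) ⊓ K).Normal := by
  have hchar : ((sylowNormal P K : Sylow p K) : Subgroup K).Characteristic :=
    Sylow.characteristic_of_normal _ h
  have := ConjAct.normal_of_characteristic_of_normal (H := K)
    (K := ((sylowNormal P K : Sylow p K) : Subgroup K))
  rw [coe_sylowNormal, Subgroup.subgroupOf_map_subtype] at this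
  exact this

theorem Rk2.subgroupOf {P V : Subgroup G} (h : Rk2 P V) (K : Subgroup G) (hVK : V ≤ K) :
    Rk2 (P.subgroupOf K) (V.subgroupOf K) where
  hc := by
    intro a ha b hb
    rw [Subgroup.mem_subgroupOf] at ha hb
    exact Subtype.ext (h.hc a ha b hb)
  h2 := h.h2.comap_subtype
  hVP := by
    intro x hx
    rw [Subgroup.mem_subgroupOf] at hx ⊢
    exact h.hVP hx
  hV4 := by
    rw [Nat.card_congr (Subgroup.subgroupOfEquivOfLe hVK).toEquiv]
    exact h.hV4
  hVexp := by
    intro v hv
    rw [Subgroup.mem_subgroupOf] at hv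
    exact Subtype.ext (h.hVexp v hv)
  hVall := by
    intro y hy hyy
    rw [Subgroup.mem_subgroupOf] at hy ⊢
    apply h.hVall y hy
    have := congrArg Subtype.val hyy
    simpa using this

/-- Transport of the condition `N(P) ≤ C(P)` to a subgroup `D` containing `P`. -/
theorem normalizer_le_centralizer_subtype' (P : Sylow p G) (D : Subgroup G)
    (hPD : (P : Subgroup G) ≤ D)
    (hcond : ∀ x ∈ D, x ∈ Subgroup.normalizer ((P : Subgroup G) : Set G) →
      x ∈ Subgroup.centralizer ((P : Subgroup G) : Set G)) :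
    Subgroup.normalizer (((P.subtype hPD : Sylow p D) : Subgroup D) : Set D) ≤
      Subgroup.centralizer (((P.subtype hPD : Sylow p D) : Subgroup D) : Set D) := by
  set Q : Sylow p D := P.subtype hPD with hQ
  have hQcoe : (Q : Subgroup D) = (P : Subgroup G).subgroupOf D := Sylow.coe_subtype P hPD
  intro h hh
  have hnG : (h : G) ∈ Subgroup.normalizer ((P : Subgroup G) : Set G) := by
    rw [Subgroup.mem_normalizer_iff]
    intro x
    have key := (Subgroup.mem_normalizer_iff.mp hh)
    constructor
    · intro hx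
      have hxH : x ∈ D := hPD hx
      have h1 : (⟨x, hxH⟩ : D) ∈ (Q : Subgroup D) := by
        rw [hQcoe, Subgroup.mem_subgroupOf]; exact hx
      have h2 := (key ⟨x, hxH⟩).mp h1
      rw [hQcoe, Subgroup.mem_subgroupOf] at h2
      exact h2
    · intro hx
      have hxH : (h : G) * x * (h : G)⁻¹ ∈ D := hPD hx
      have hxH' : x ∈ D := by
        have : x = (h : G)⁻¹ * ((h : G) * x * (h : G)⁻¹) * (h : G) := by group
        rw [this]
        exact D.mul_mem (D.mul_mem (D.inv_mem h.2) hxH) h.2
      have h1 : h * (⟨x, hxH'⟩ : D) * h⁻¹ ∈ (Q : Subgroup D) := by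
        rw [hQcoe, Subgroup.mem_subgroupOf]; exact hx
      have h2 := (key ⟨x, hxH'⟩).mpr h1
      rw [hQcoe, Subgroup.mem_subgroupOf] at h2
      exact h2
  have hcG := hcond h h.2 hnG
  rw [Subgroup.mem_centralizer_iff]
  intro y hy
  have hyP : (y : G) ∈ (P : Subgroup G) := by
    have : y ∈ (Q : Subgroup D) := hy
    rw [hQcoe, Subgroup.mem_subgroupOf] at this
    exact this
  exact Subtype.ext (Subgroup.mem_centralizer_iff.mp hcG y hyP)

end Cfsg.Agent.Helper8.BR
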