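import Mathlib
import Cfsg.Agent.Helper8.BR4

/-!
# The two closing steps of the induction
-/

set_option autoImplicit false

namespace Cfsg.Agent.Helper8.BR

variable {G : Type*} [Group G] [Finite G]

/-- If a normal subgroup `Q` with `V ≤ Q ≤ P` exists, then `P = C_G(Q)` is normal and
self-centralizing. -/
theorem normal_of_normal_between (P : Sylow 2 G) {V : Subgroup G} (h : Rk2 (P : Subgroup G) V)
    (hO : OddFree G) (Q : Subgroup G) [Q.Normal] (hVQ : V ≤ Q) (hQP : Q ≤ (P : Subgroup G)) :
    (P : Subgroup G).Normal ∧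
      Subgroup.centralizer ((P : Subgroup G) : Set G) = (P : Subgroup G) := by
  set D : Subgroup G := Subgroup.centralizer (Q : Set G) with hD
  have hDn : D.Normal := Subgroup.normal_centralizer
  have hPD : (P : Subgroup G) ≤ D := by
    intro x hx
    rw [hD, Subgroup.mem_centralizer_iff]
    intro q hq
    exact h.hc q (hQP hq) x hx
  have hOD : OddFree D := hO.normal_subgroup D
  have hcond : ∀ x ∈ D, x ∈ Subgroup.normalizer ((P : Subgroup G) : Set G) →
      x ∈ Subgroup.centralizer ((P : Subgroup G) : Set G) := by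
    intro x hxD hxN
    apply h.mem_centralizer_of_V' hxN
    intro v hv
    exact (Subgroup.mem_centralizer_iff.mp hxD v (hVQ hv)).symm
  have htop := eq_top_of_normalizer_le_centralizer (P.subtype hPD)
    (normalizer_le_centralizer_subtype' P D hPD hcond) hOD
  rw [Sylow.coe_subtype, Subgroup.subgroupOf_eq_top] at htop
  have hDP : D = (P : Subgroup G) := le_antisymm htop hPD
  refine ⟨hDP ▸ hDn, ?_⟩
  apply le_antisymm
  · calc Subgroup.centralizer ((P : Subgroup G) : Set G) ≤ D :=
        Subgroup.centralizer_le (by exact_mod_cast hQP)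
      _ = (P : Subgroup G) := hDP
  · exact sylow_le_centralizer P h.hc

/-- The index of a normal self-centralizing `P`. -/
theorem index_cases_of_normal (P : Sylow 2 G) {V : Subgroup G} (h : Rk2 (P : Subgroup G) V)
    (hn : (P : Subgroup G).Normal)
    (hC : Subgroup.centralizer ((P : Subgroup G) : Set G) = (P : Subgroup G)) :
    (P : Subgroup G).index = 1 ∨ (P : Subgroup G).index = 3 := by
  have h1 := h.relIndex_cases
  have hN : Subgroup.normalizer ((P : Subgroup G) : Set G) = ⊤ :=
    Subgroup.normalizer_eq_top_iff.mpr hn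
  rw [hC, hN, Subgroup.relIndex_top_right] at h1
  exact h1

/-- A normal subgroup `K` without odd normal subgroups meeting `P` in `V` equals `V`, when
`P ≠ V`. -/
theorem eq_of_inf_eq (P : Sylow 2 G) {V : Subgroup G} (h : Rk2 (P : Subgroup G) V)
    (K : Subgroup G) [K.Normal] (hK : OddFree K) (hPK : (P : Subgroup G) ⊓ K = V)
    {y : G} (hy : y ∈ (P : Subgroup G)) (hyV : y ∉ V) : K = V := by
  -- an element `w` of `P` whose square is an involution
  have hyy : y * y ≠ 1 := fun h1 => hyV (h.hVall y hy h1)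
  obtain ⟨i, hi1, hi2⟩ := exists_pow_involution h.h2 ((P : Subgroup G).mul_mem hy hy) hyy
  set w := y ^ i with hw
  have hwP : w ∈ (P : Subgroup G) := Subgroup.pow_mem _ hy i
  have hww : w * w = (y * y) ^ i := by
    rw [hw, ← pow_two, ← pow_two, ← pow_mul, ← pow_mul, mul_comm]
  set c := w * w with hc
  have hc1 : c ≠ 1 := by rw [hww]; exact hi1
  have hcc : c * c = 1 := by rw [hww]; exact hi2
  have hcP : c ∈ (P : Subgroup G) := Subgroup.mul_mem _ hwP hwP
  have hcV : c ∈ V := h.hVall c hcP hcc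
  -- the subgroup `L = K P`
  set L : Subgroup G := K ⊔ (P : Subgroup G) with hL
  have hKL : K ≤ L := le_sup_left
  have hPL : (P : Subgroup G) ≤ L := le_sup_right
  have hdecomp : ∀ x ∈ L, ∃ k ∈ K, ∃ u ∈ (P : Subgroup G), x = k * u := by
    intro x hx
    have : x ∈ ((K ⊔ (P : Subgroup G) : Subgroup G) : Set G) := hx
    rw [Subgroup.normal_mul, Set.mem_mul] at this
    obtain ⟨k, hk, u, hu, rfl⟩ := this
    exact ⟨k, hk, u, hu, rfl⟩
  have hpow : ∀ x ∈ L, ∃ j : ℕ, x ^ (2 ^ j) ∈ K := by
    intro x hx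
    obtain ⟨k, hk, u, hu, rfl⟩ := hdecomp x hx
    obtain ⟨j, hj⟩ := h.h2 ⟨u, hu⟩
    have hj' : u ^ (2 ^ j) = 1 := by
      have := congrArg Subtype.val hj
      simpa using this
    refine ⟨j, ?_⟩
    rw [← QuotientGroup.eq_one_iff, QuotientGroup.mk_pow, QuotientGroup.mk_mul,
      (QuotientGroup.eq_one_iff k).mpr hk, one_mul, ← QuotientGroup.mk_pow, hj']
    rfl
  have hOL : OddFree L := OddFree.of_le K L hKL hK hpow
  have hcond : ∀ x ∈ L, x ∈ Subgroup.normalizer ((P : Subgroup G) : Set G) →
      x ∈ Subgroup.centralizer ((P : Subgroup G) : Set G) := by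
    intro x hxL hxN
    obtain ⟨k, hk, u, hu, rfl⟩ := hdecomp x hxL
    set x := k * u with hx
    set v := x * w * x⁻¹ * w⁻¹ with hv
    have hxw : x * w * x⁻¹ ∈ (P : Subgroup G) := (Subgroup.mem_normalizer_iff.mp hxN w).mp hwP
    have hvP : v ∈ (P : Subgroup G) := Subgroup.mul_mem _ hxw (Subgroup.inv_mem _ hwP)
    have hvK : v ∈ K := by
      have e1 : v = k * (u * w * u⁻¹) * k⁻¹ * w⁻¹ := by rw [hv, hx]; group
      have e2 : u * w * u⁻¹ = w := by rw [h.hc u hu w hwP]; group
      rw [e1, e2]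
      have e3 : k * w * k⁻¹ * w⁻¹ = k * (w * k⁻¹ * w⁻¹) := by group
      rw [e3]
      exact K.mul_mem hk (‹K.Normal›.conj_mem _ (K.inv_mem hk) w)
    have hvV : v ∈ V := by rw [← hPK]; exact ⟨hvP, hvK⟩
    have hxw' : x * w * x⁻¹ = v * w := by rw [hv]; group
    have hxc : x * c * x⁻¹ = c := by
      have e1 : x * c * x⁻¹ = (x * w * x⁻¹) * (x * w * x⁻¹) := by rw [hc]; group
      rw [e1, hxw']
      have e2 : v * w * (v * w) = v * (w * v) * w := by group
      rw [e2, h.hc w hwP v hvP]
      have e3 : v * (v * w) * w = (v * v) * (w * w) := by group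
      rw [e3, h.hVexp v hvV, one_mul]
    have hxc' : x * c = c * x := by
      calc x * c = (x * c * x⁻¹) * x := by group
        _ = c * x := by rw [hxc]
    exact h.fix_one_fix_all' hxN hcV hc1 hxc'
  have htop := eq_top_of_normalizer_le_centralizer (P.subtype hPL)
    (normalizer_le_centralizer_subtype' P L hPL hcond) hOL
  rw [Sylow.coe_subtype, Subgroup.subgroupOf_eq_top] at htop
  have hKP : K ≤ (P : Subgroup G) := hKL.trans htop
  rw [← hPK]
  exact (inf_eq_right.mpr hKP).symm

end Cfsg.Agent.Helper8.BR
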