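import Mathlib
import Cfsg.Agent.Helper8.AS21
import Cfsg.Agent.Helper8.CharComp
import Cfsg.Agent.Helper24.DefectZero

/-!
# Every involution lies in a proper normal subgroup (character theory)
-/

set_option autoImplicit false

namespace Cfsg.Agent.Helper8.BR

open Cfsg Cfsg.Agent.Helper24 Cfsg.Agent.Helper8.AS

theorem arith_A {q f₂ f₃ f₄ k₂ k₃ : ℤ} (hq : 16 ≤ q) (h4 : 1 ≤ f₄) (hk2 : 0 ≤ k₂) (hk3 : 0 ≤ k₃)
    (c2 : f₂ - (q - 1) = q * k₂) (c3 : f₃ - (q - 1) = q * k₃)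
    (R3 : f₂ * f₃ * f₄ - f₃ * f₄ - f₂ * f₄ = -(9 * f₂ * f₃)) : False := by
  have hf2 : 15 ≤ f₂ := by nlinarith [mul_nonneg (by linarith : (0:ℤ) ≤ q) hk2]
  have hf3 : 15 ≤ f₃ := by nlinarith [mul_nonneg (by linarith : (0:ℤ) ≤ q) hk3]
  have hA : 0 < f₂ * f₃ - f₃ - f₂ := by nlinarith
  have hB : 0 < f₄ * (f₂ * f₃ - f₃ - f₂) := mul_pos (by linarith) hA
  have hC : 0 < f₂ * f₃ := mul_pos (by linarith) (by linarith)
  nlinarith

theorem arith_B {q f₂ f₃ f₄ k₂ k₃ : ℤ} (hq : 16 ≤ q) (h3 : 1 ≤ f₃) (h4 : 1 ≤ f₄)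
    (hk2 : 0 ≤ k₂)
    (c2 : f₂ - (q - 1) = q * k₂) (c3 : f₃ + (q - 1) = q * k₃)
    (R1 : 1 - f₂ + f₃ = f₄) (R3 : f₂ * f₃ * f₄ - f₃ * f₄ + f₂ * f₄ = 9 * f₂ * f₃) : False := by
  have hf2 : 15 ≤ f₂ := by nlinarith [mul_nonneg (by linarith : (0:ℤ) ≤ q) hk2]
  have hj : f₄ = 3 + q * (k₃ - k₂ - 2) := by linarith
  set j := k₃ - k₂ - 2 with hjdef
  have hj0 : 0 ≤ j := by
    by_contra hneg
    push Not at hneg
    have : q * j ≤ q * (-1) := mul_le_mul_of_nonneg_left (by linarith) (by linarith)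
    linarith
  have hf4 : f₄ ≤ 9 := by
    by_contra hgt
    push Not at hgt
    have hpos : 0 < f₂ * f₃ - f₃ + f₂ := by nlinarith
    have h1 : 10 * (f₂ * f₃ - f₃ + f₂) ≤ f₄ * (f₂ * f₃ - f₃ + f₂) :=
      mul_le_mul_of_nonneg_right (by linarith) hpos.le
    have h2 : 0 < f₃ * (f₂ - 10) + 10 * f₂ := by nlinarith
    nlinarith
  have hj1 : j = 0 := by
    by_contra hne
    have : 1 ≤ j := by omega
    have : q * 1 ≤ q * j := mul_le_mul_of_nonneg_left this (by linarith)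
    linarith
  rw [hj1, mul_zero, add_zero] at hj
  rw [hj] at R3
  have : f₂ = f₃ * (2 * f₂ + 1) := by linarith
  nlinarith

variable {G : Type*} [Group G]

/-- The sum of the values of a character over a subgroup. -/
theorem sum_subgroup_eq [Fintype G] (H : Subgroup G) [Fintype H] {χ : G → ℂ}
    (hχ : IsCharacter G χ) : ∃ k : ℕ, ∑ y : H, χ (y : G) = (Nat.card H : ℂ) * k := by
  classical
  have : Finite G := Finite.of_fintype G
  haveI : Fintype (IrrCharacter H) := Fintype.ofFinite _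
  have hres := Cfsg.Agent.Helper8.isCharacter_restrict H hχ
  obtain ⟨k, hk⟩ := IsCharacter.classInner_irr_nat hres (trivIrr H)
  refine ⟨k, ?_⟩
  unfold classInner at hk
  simp only [trivIrr_apply, map_one, mul_one] at hk
  have hne : (Nat.card H : ℂ) ≠ 0 := by exact_mod_cast (Nat.card_pos (α := H)).ne'
  rw [← hk, ← mul_assoc, mul_inv_cancel₀ hne, one_mul]

variable [Fintype G] [Fintype (IrrCharacter G)]
variable {M : Ideal AlgInt} {P : Sylow 2 G}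

/-- The degree congruence for the non-exceptional characters. -/
theorem deg_congr (E : Exc M P) (hab : IsMulCommutative P)
    [Fintype ((P : Subgroup G) →* ℂˣ)] (χ : IrrCharacter G) (hχ : χ ∈ E.Xf) :
    ∃ k : ℕ, (irrDeg χ : ℤ) - ((Nat.card (P : Subgroup G) : ℤ) - 1) * E.nV χ =
      (Nat.card (P : Subgroup G) : ℤ) * k := by
  classical
  have : Finite G := Finite.of_fintype G
  haveI : Fintype (P : Subgroup G) := Fintype.ofFinite _
  obtain ⟨k, hk⟩ := sum_subgroup_eq (P : Subgroup G) (IsIrrCharacter.isCharacter χ.2)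
  refine ⟨k, ?_⟩
  have h1 : ∑ y : (P : Subgroup G), (χ : G → ℂ) (y : G) =
      (irrDeg χ : ℂ) + ((Nat.card (P : Subgroup G) : ℂ) - 1) * (-(E.nV χ : ℂ)) := by
    rw [← Finset.add_sum_erase Finset.univ _ (Finset.mem_univ (1 : (P : Subgroup G)))]
    congr 1
    · rw [Subgroup.coe_one, irrDeg_spec]
    · rw [Finset.sum_congr rfl (fun y hy => E.apply_P_Xf hab χ hχ y (Finset.ne_of_mem_erase hy)),
        Finset.sum_const, Finset.card_erase_of_mem (Finset.mem_univ _), Finset.card_univ,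
        ← Nat.card_eq_fintype_card, nsmul_eq_mul]
      have hpos : 1 ≤ Nat.card (P : Subgroup G) := Nat.card_pos
      push_cast [Nat.cast_sub hpos]
      ring
  rw [h1] at hk
  have h2 : (((irrDeg χ : ℤ) - ((Nat.card (P : Subgroup G) : ℤ) - 1) * E.nV χ : ℤ) : ℂ) =
      (((Nat.card (P : Subgroup G) : ℤ) * k : ℤ) : ℂ) := by
    push_cast
    linear_combination hk
  exact_mod_cast h2

omit [Fintype G] [Fintype (IrrCharacter G)] in
/-- **Every involution lies in a proper normal subgroup** when `|N : C| = 3`. -/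
theorem exists_proper_normal [Finite G] (P : Sylow 2 G)
    (hc : ∀ a ∈ (P : Subgroup G), ∀ b ∈ (P : Subgroup G), a * b = b * a)
    (hfrob : ∀ y : G, y ∈ (P : Subgroup G) → y ≠ 1 →
      Subgroup.centralizer ({y} : Set G) ⊓ Subgroup.normalizer ((P : Subgroup G) : Set G) =
        Subgroup.centralizer ((P : Subgroup G) : Set G))
    (hCN : (Subgroup.centralizer ((P : Subgroup G) : Set G)).relIndex
      (Subgroup.normalizer ((P : Subgroup G) : Set G)) = 3)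
    (hm2 : 3 + 1 < Nat.card (P : Subgroup G))
    {t : G} (ht : orderOf t = 2) : ∃ K : Subgroup G, K.Normal ∧ t ∈ K ∧ K ≠ ⊤ := by
  classical
  by_contra hno
  have hmin : ∀ K : Subgroup G, K.Normal → t ∈ K → K = ⊤ := by
    intro K hKn htK
    by_contra hK
    exact hno ⟨K, hKn, htK, hK⟩
  haveI : Fintype G := Fintype.ofFinite G
  haveI : Fintype (IrrCharacter G) := Fintype.ofFinite _
  have hab : IsMulCommutative P := ⟨⟨fun a b => Subtype.ext (hc a a.2 b b.2)⟩⟩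
  have hc' : ∀ a b : (P : Subgroup G), a * b = b * a := fun a b => hab.is_comm.comm a b
  haveI : Finite ((P : Subgroup G) →* ℂˣ) := Cfsg.Agent.Helper8.finite_hom_units hc'
  haveI : Fintype ((P : Subgroup G) →* ℂˣ) := Fintype.ofFinite _
  obtain ⟨M, hM⟩ := exists_isPModular 2 Nat.prime_two
  have hP1 : Nat.card (P : Subgroup G) ≠ 1 := by omega
  have H : Hyp3 M P := ⟨hM, hab, hP1, hfrob, hCN, hm2⟩
  obtain ⟨E, hE0⟩ := exists_exc_normalized hM P hab hP1 hfrob hCN hm2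
  obtain ⟨θ₂, θ₃, h23, h2t, h3t, hXeq, hcount, -⟩ := E.involution_clause H hE0 ht hmin
  -- an exceptional character
  have hY2 := E.two_le_card_Yf hab hfrob H.hm
  obtain ⟨η₀, hη₀⟩ : E.Yf.Nonempty := Finset.card_pos.mp (by omega)
  obtain ⟨hR3, -⟩ := E.rel_sq_two H hE0 rfl ht hη₀
  obtain ⟨x, x₄, -, hR1, -, -⟩ := E.exists_relations H hE0 ht hη₀
  have hpm := (E.Xf_three hM hab hP1 hfrob hCN hm2).2
  have htX := E.triv_mem_Xf hM hab hfrob H.hm
  have h2X : θ₂ ∈ E.Xf := by rw [hXeq]; simp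
  have h3X : θ₃ ∈ E.Xf := by rw [hXeq]; simp
  have hnt := E.nV_triv hM hab hP1 hfrob H.hm
  have hdt : irrDeg (trivIrr G) = 1 := by
    have := irrDeg_spec (trivIrr G)
    rw [trivIrr_apply] at this
    exact_mod_cast this.symm
  -- |P| ≥ 16
  have h16 : 16 ≤ Nat.card (P : Subgroup G) := by
    have hcard := E.card_Yf_mul hab hfrob
    rw [hCN] at hcard
    exact sixteen_le_card P rfl hm2 ⟨_, hcard⟩
  have hsum : ∀ {A : Type} [AddCommMonoid A] (F : IrrCharacter G → A),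
      ∑ χ ∈ E.Xf, F χ = F (trivIrr G) + (F θ₂ + F θ₃) := by
    intro A _ F
    rw [hXeq, Finset.sum_insert, Finset.sum_insert, Finset.sum_singleton]
    · simpa using h23
    · simp only [Finset.mem_insert, Finset.mem_singleton, not_or]
      exact ⟨fun h => h2t h.symm, fun h => h3t h.symm⟩
  rw [hsum] at hR1 hR3
  rw [hnt, hdt] at hR1
  push_cast at hR1
  rw [hnt, trivIrr_apply, irrDeg_spec θ₂, irrDeg_spec θ₃, irrDeg_spec η₀] at hR3
  obtain ⟨k₂, hk₂⟩ := deg_congr E hab θ₂ h2X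
  obtain ⟨k₃, hk₃⟩ := deg_congr E hab θ₃ h3X
  have hf2 : (1 : ℤ) ≤ irrDeg θ₂ := by exact_mod_cast irrDeg_pos θ₂
  have hf3 : (1 : ℤ) ≤ irrDeg θ₃ := by exact_mod_cast irrDeg_pos θ₃
  have hf4 : (1 : ℤ) ≤ irrDeg η₀ := by exact_mod_cast irrDeg_pos η₀
  have hq : (16 : ℤ) ≤ Nat.card (P : Subgroup G) := by exact_mod_cast h16
  have hk2 : (0 : ℤ) ≤ k₂ := by exact_mod_cast Nat.zero_le k₂
  have hk3 : (0 : ℤ) ≤ k₃ := by exact_mod_cast Nat.zero_le k₃
  -- the cleared form of the third relation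
  have hR3' : (irrDeg θ₂ : ℤ) * irrDeg θ₃ * irrDeg η₀ - E.nV θ₂ * (irrDeg θ₃ * irrDeg η₀)
      - E.nV θ₃ * (irrDeg θ₂ * irrDeg η₀) = 9 * E.ε * (irrDeg θ₂ * irrDeg θ₃) := by
    have h2 : (irrDeg θ₂ : ℂ) ≠ 0 := by exact_mod_cast (irrDeg_pos θ₂).ne'
    have h3 : (irrDeg θ₃ : ℂ) ≠ 0 := by exact_mod_cast (irrDeg_pos θ₃).ne'
    have h4 : (irrDeg η₀ : ℂ) ≠ 0 := by exact_mod_cast (irrDeg_pos η₀).ne'
    have hc : (((irrDeg θ₂ : ℤ) * irrDeg θ₃ * irrDeg η₀ - E.nV θ₂ * (irrDeg θ₃ * irrDeg η₀)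
      - E.nV θ₃ * (irrDeg θ₂ * irrDeg η₀) : ℤ) : ℂ) =
        ((9 * E.ε * (irrDeg θ₂ * irrDeg θ₃) : ℤ) : ℂ) := by
      push_cast
      push_cast at hR3
      field_simp at hR3
      linear_combination hR3
    exact_mod_cast hc
  rcases hpm θ₂ h2X with hn2 | hn2 <;> rcases hpm θ₃ h3X with hn3 | hn3 <;>
    rcases E.hε with he | he <;> rw [hn2, hn3, he] at hcount <;>
    norm_num at hcount
  · -- n₂ = n₃ = 1, ε = -1
    rw [hn2] at hk₂
    rw [hn3] at hk₃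
    rw [hn2, hn3, he] at hR3'
    exact arith_A (q := (Nat.card (P : Subgroup G) : ℤ)) (f₂ := (irrDeg θ₂ : ℤ))
      (f₃ := (irrDeg θ₃ : ℤ)) (f₄ := (irrDeg η₀ : ℤ)) (k₂ := (k₂ : ℤ)) (k₃ := (k₃ : ℤ))
      hq hf4 hk2 hk3 (by linarith) (by linarith) (by linarith)
  · -- n₂ = 1, n₃ = -1, ε = 1
    rw [hn2] at hk₂
    rw [hn3] at hk₃
    rw [hn2, hn3, he] at hR3' hR1
    exact arith_B (q := (Nat.card (P : Subgroup G) : ℤ)) (f₂ := (irrDeg θ₂ : ℤ))
      (f₃ := (irrDeg θ₃ : ℤ)) (f₄ := (irrDeg η₀ : ℤ)) (k₂ := (k₂ : ℤ)) (k₃ := (k₃ : ℤ))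
      hq hf3 hf4 hk2 (by linarith) (by linarith) (by linarith) (by linarith)
  · -- n₂ = -1, n₃ = 1, ε = 1
    rw [hn2] at hk₂
    rw [hn3] at hk₃
    rw [hn2, hn3, he] at hR3' hR1
    exact arith_B (q := (Nat.card (P : Subgroup G) : ℤ)) (f₂ := (irrDeg θ₃ : ℤ))
      (f₃ := (irrDeg θ₂ : ℤ)) (f₄ := (irrDeg η₀ : ℤ)) (k₂ := (k₃ : ℤ)) (k₃ := (k₂ : ℤ))
      hq hf2 hf4 hk3 (by linarith) (by linarith) (by linarith) (by linarith)

end Cfsg.Agent.Helper8.BR
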