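import Mathlib
import Cfsg.Agent.Helper8.BR5
import Cfsg.Agent.Helper8.BR6

/-!
# Brauer's theorem on abelian Sylow 2-subgroups with three involutions: the induction
-/

set_option autoImplicit false

namespace Cfsg.Agent.Helper8.BR

universe u

theorem main_aux (n : ℕ) : ∀ (G : Type u) [Group G] [Finite G], Nat.card G ≤ n →
    ∀ (P : Sylow 2 G) (V : Subgroup G), Rk2 (P : Subgroup G) V →
      (∃ y ∈ (P : Subgroup G), y ∉ V) → OddFree G →
      (P : Subgroup G).Normal ∧
        Subgroup.centralizer ((P : Subgroup G) : Set G) = (P : Subgroup G) := by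
  induction n with
  | zero =>
    intro G _ _ hcard
    exfalso
    have := Nat.card_pos (α := G)
    omega
  | succ n ih =>
    intro G _ _ hcard P V h hy hO
    by_cases hNC : Subgroup.normalizer ((P : Subgroup G) : Set G) ≤
        Subgroup.centralizer ((P : Subgroup G) : Set G)
    · have htop := eq_top_of_normalizer_le_centralizer P hNC hO
      refine ⟨htop ▸ inferInstance, ?_⟩
      apply le_antisymm
      · rw [htop]; exact le_top
      · exact sylow_le_centralizer P h.hc
    · have hCN := h.relIndex_eq_three hNC
      obtain ⟨n₀, hn₀, a, ha, ha1, hna⟩ := h.exists_moved hNC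
      have hta : orderOf a = 2 :=
        orderOf_eq_prime (by rw [pow_two]; exact h.hVexp a ha) ha1
      have hm2 : 3 + 1 < Nat.card (P : Subgroup G) := by
        by_contra hle
        push Not at hle
        have hVP : V = (P : Subgroup G) :=
          Subgroup.eq_of_le_of_card_ge h.hVP (by rw [h.hV4]; omega)
        obtain ⟨y, hyP, hyV⟩ := hy
        exact hyV (hVP ▸ hyP)
      obtain ⟨K, hKn, haK, hKtop⟩ := exists_proper_normal P h.hc h.hfrob hCN hm2 hta
      haveI := hKn
      have hVK : V ≤ K := h.V_le_of_normal K hn₀ ha ha1 hna haK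
      have hOK : OddFree K := hO.normal_subgroup K
      have hQ : ∃ Q : Subgroup G, Q.Normal ∧ V ≤ Q ∧ Q ≤ (P : Subgroup G) := by
        by_cases hPK : (P : Subgroup G) ⊓ K = V
        · obtain ⟨y, hyP, hyV⟩ := hy
          have hKV := eq_of_inf_eq P h K hOK hPK hyP hyV
          exact ⟨V, hKV ▸ hKn, le_rfl, h.hVP⟩
        · have hcardK : Nat.card K ≤ n := by
            have h1 : Nat.card K ≤ Nat.card G := Subgroup.card_le_card_group K
            have h2 : Nat.card K ≠ Nat.card G := fun h3 =>
              hKtop ((Subgroup.card_eq_iff_eq_top K).mp h3)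
            omega
          have hRk : Rk2 ((sylowNormal P K : Sylow 2 K) : Subgroup K) (V.subgroupOf K) := by
            rw [coe_sylowNormal]; exact h.subgroupOf K hVK
          have hex : ∃ y ∈ ((sylowNormal P K : Sylow 2 K) : Subgroup K),
              y ∉ V.subgroupOf K := by
            by_contra hno
            push Not at hno
            apply hPK
            apply le_antisymm
            · rintro x ⟨hxP, hxK⟩
              have := hno ⟨x, hxK⟩ (by rw [coe_sylowNormal, Subgroup.mem_subgroupOf]; exact hxP)
              rw [Subgroup.mem_subgroupOf] at this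
              exact this
            · exact le_inf h.hVP hVK
          obtain ⟨hnorm, -⟩ := ih K hcardK (sylowNormal P K) (V.subgroupOf K) hRk hex hOK
          have := normal_inf_of_normal P K hnorm
          exact ⟨(P : Subgroup G) ⊓ K, this, le_inf h.hVP hVK, inf_le_left⟩
      obtain ⟨Q, hQn, hVQ, hQP⟩ := hQ
      haveI := hQn
      exact normal_of_normal_between P h hO Q hVQ hQP

/-- **Brauer**: a finite group without odd normal subgroups whose Sylow 2-subgroup `P` is
abelian with exactly three involutions and `|P| > 4` has `P` normal and self-centralizing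
of index `1` or `3`. -/
theorem main {G : Type u} [Group G] [Finite G] (P : Sylow 2 G) (V : Subgroup G)
    (h : Rk2 (P : Subgroup G) V) (hy : ∃ y ∈ (P : Subgroup G), y ∉ V) (hO : OddFree G) :
    (P : Subgroup G).Normal ∧
      Subgroup.centralizer ((P : Subgroup G) : Set G) = (P : Subgroup G) ∧
      ((P : Subgroup G).index = 1 ∨ (P : Subgroup G).index = 3) := by
  obtain ⟨h1, h2⟩ := main_aux (Nat.card G) G le_rfl P V h hy hO
  exact ⟨h1, h2, index_cases_of_normal P h h1 h2⟩

end Cfsg.Agent.Helper8.BR
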