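import Mathlib
import Cfsg.Agent.Helper8.BR7

/-!
# The homocyclic case `Z/2^m × Z/2^m`
-/

set_option autoImplicit false

namespace Cfsg.Agent.Helper8.BR

theorem zmod_half_add (m : ℕ) (hm : 1 ≤ m) :
    ((2 ^ (m - 1) : ℕ) : ZMod (2 ^ m)) + ((2 ^ (m - 1) : ℕ) : ZMod (2 ^ m)) = 0 := by
  rw [← Nat.cast_add, ← two_mul, ← pow_succ']
  have : m - 1 + 1 = m := by omega
  rw [this]
  exact_mod_cast ZMod.natCast_self (2 ^ m)

theorem zmod_half_ne_zero (m : ℕ) (hm : 1 ≤ m) : ((2 ^ (m - 1) : ℕ) : ZMod (2 ^ m)) ≠ 0 := by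
  intro h
  rw [ZMod.natCast_eq_zero_iff] at h
  have h1 := Nat.le_of_dvd (by positivity) h
  have h2 : 2 ^ (m - 1) < 2 ^ m := Nat.pow_lt_pow_right (by norm_num) (by omega)
  omega

theorem zmod_two_torsion (m : ℕ) (hm : 1 ≤ m) (a : ZMod (2 ^ m)) :
    a + a = 0 ↔ a = 0 ∨ a = ((2 ^ (m - 1) : ℕ) : ZMod (2 ^ m)) := by
  haveI : NeZero (2 ^ m) := ⟨by positivity⟩
  constructor
  · intro h
    have h1 : ((a.val + a.val : ℕ) : ZMod (2 ^ m)) = 0 := by
      rw [Nat.cast_add, ZMod.natCast_zmod_val]; exact h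
    rw [ZMod.natCast_eq_zero_iff] at h1
    have h2 : a.val < 2 ^ m := ZMod.val_lt a
    obtain ⟨c, hc⟩ := h1
    have hpow : 2 ^ m = 2 * 2 ^ (m - 1) := by
      rw [← pow_succ']; congr 1; omega
    have hc2 : c < 2 := by
      by_contra hge
      push Not at hge
      have : 2 ^ m * 2 ≤ 2 ^ m * c := Nat.mul_le_mul_left _ hge
      omega
    interval_cases c
    · left
      have : a.val = 0 := by omega
      exact (ZMod.val_eq_zero a).mp this
    · right
      have : a.val = 2 ^ (m - 1) := by omega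
      rw [← this, ZMod.natCast_zmod_val]
  · rintro (h | h)
    · rw [h, add_zero]
    · rw [h]; exact zmod_half_add m hm

theorem card_two_torsion (m : ℕ) (hm : 1 ≤ m) :
    Nat.card {x : ZMod (2 ^ m) × ZMod (2 ^ m) // x + x = 0} = 4 := by
  classical
  haveI : NeZero (2 ^ m) := ⟨by positivity⟩
  set c : ZMod (2 ^ m) := ((2 ^ (m - 1) : ℕ) : ZMod (2 ^ m)) with hc
  have hc0 : c ≠ 0 := zmod_half_ne_zero m hm
  have hset : ∀ x : ZMod (2 ^ m) × ZMod (2 ^ m),
      x + x = 0 ↔ x ∈ (({0, c} : Finset (ZMod (2 ^ m))) ×ˢ ({0, c} : Finset (ZMod (2 ^ m)))) := by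
    intro x
    rw [Finset.mem_product, Finset.mem_insert, Finset.mem_singleton, Finset.mem_insert,
      Finset.mem_singleton, ← zmod_two_torsion m hm, ← zmod_two_torsion m hm, Prod.ext_iff]
    rfl
  rw [Nat.card_congr (Equiv.subtypeEquivRight hset), Nat.card_eq_fintype_card,
    Fintype.card_coe, Finset.card_product, Finset.card_pair (Ne.symm hc0)]

universe u

/-- **Brauer's theorem for `Z/2^m × Z/2^m`**. -/
theorem brauer_homocyclic {G : Type u} [Group G] [Finite G] (P : Sylow 2 G) (m : ℕ) (hm : 2 ≤ m)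
    (e : (P : Subgroup G) ≃* Multiplicative (ZMod (2 ^ m) × ZMod (2 ^ m)))
    (hO : ∀ N : Subgroup G, N.Normal → Odd (Nat.card N) → N = ⊥) :
    (P : Subgroup G).Normal ∧
      Subgroup.centralizer ((P : Subgroup G) : Set G) = (P : Subgroup G) ∧
      ((P : Subgroup G).index = 1 ∨ (P : Subgroup G).index = 3) := by
  have hc : ∀ a ∈ (P : Subgroup G), ∀ b ∈ (P : Subgroup G), a * b = b * a := by
    intro a ha b hb
    have : e (⟨a, ha⟩ * ⟨b, hb⟩) = e (⟨b, hb⟩ * ⟨a, ha⟩) := by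
      rw [map_mul, map_mul, mul_comm]
    exact congrArg Subtype.val (e.injective this)
  set W : Subgroup (Multiplicative (ZMod (2 ^ m) × ZMod (2 ^ m))) :=
    (powMonoidHom 2 : Multiplicative (ZMod (2 ^ m) × ZMod (2 ^ m)) →* _).ker with hW
  have hmemW : ∀ a : Multiplicative (ZMod (2 ^ m) × ZMod (2 ^ m)),
      a ∈ W ↔ Multiplicative.toAdd a + Multiplicative.toAdd a = 0 := by
    intro a
    rw [hW, MonoidHom.mem_ker, powMonoidHom_apply, ← two_nsmul, ← toAdd_pow]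
    constructor
    · intro h; rw [h]; rfl
    · intro h; exact Multiplicative.toAdd.injective h
  have hWcard : Nat.card W = 4 := by
    rw [← card_two_torsion m (by omega)]
    exact Nat.card_congr (Equiv.subtypeEquiv Multiplicative.toAdd hmemW)
  set V : Subgroup G := (W.comap e.toMonoidHom).map (P : Subgroup G).subtype with hV
  have hmemV : ∀ y : G, y ∈ V ↔ ∃ hy : y ∈ (P : Subgroup G), e ⟨y, hy⟩ ∈ W := by
    intro y
    rw [hV, Subgroup.mem_map]
    constructor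
    · rintro ⟨x, hx, rfl⟩
      exact ⟨x.2, hx⟩
    · rintro ⟨hy, hx⟩
      exact ⟨⟨y, hy⟩, hx, rfl⟩
  have hsq : ∀ (y : G) (hy : y ∈ (P : Subgroup G)), e ⟨y, hy⟩ ∈ W ↔ y * y = 1 := by
    intro y hy
    rw [hW, MonoidHom.mem_ker, powMonoidHom_apply, ← map_pow, MulEquiv.map_eq_one_iff,
      pow_two, Subtype.ext_iff]
    rfl
  have hRk : Rk2 (P : Subgroup G) V := by
    refine ⟨hc, P.isPGroup', ?_, ?_, ?_, ?_⟩
    · rw [hV]; exact Subgroup.map_subtype_le _
    · rw [hV, Subgroup.card_subtype, ← hWcard]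
      exact Nat.card_congr (Equiv.subtypeEquiv e.toEquiv (fun x => Iff.rfl))
    · intro v hv
      obtain ⟨hvP, hvW⟩ := (hmemV v).mp hv
      exact (hsq v hvP).mp hvW
    · intro y hy hyy
      exact (hmemV y).mpr ⟨hy, (hsq y hy).mpr hyy⟩
  have hex : ∃ y ∈ (P : Subgroup G), y ∉ V := by
    refine ⟨(e.symm (Multiplicative.ofAdd ((1 : ZMod (2 ^ m)), (0 : ZMod (2 ^ m)))) : G),
      Subtype.property _, ?_⟩
    intro hmem
    obtain ⟨hy, hyW⟩ := (hmemV _).mp hmem
    rw [Subtype.coe_eta, MulEquiv.apply_symm_apply, hmemW] at hyW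
    have h1 := congrArg Prod.fst hyW
    simp only [toAdd_ofAdd, Prod.fst_add, Prod.fst_zero] at h1
    have h2 : ((2 : ℕ) : ZMod (2 ^ m)) = 0 := by
      push_cast
      rw [← h1]; norm_num
    rw [ZMod.natCast_eq_zero_iff] at h2
    have h3 := Nat.le_of_dvd (by norm_num) h2
    have h4 : 2 ^ 2 ≤ 2 ^ m := Nat.pow_le_pow_right (by norm_num) hm
    omega
  exact main P V hRk hex hO

end Cfsg.Agent.Helper8.BR
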