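import Mathlib
import Cfsg.Prelude.Def_KGroupFacts

/-!
Central extensions defined by a biadditive cocycle `G × G → T`.
-/

set_option autoImplicit false

namespace Cfsg.Agent.Helper8.BiExt

open scoped commutatorElement

universe u v w

/-- a biadditive map `G × G → T` on a group with values in an additive commutative group -/
structure BiCocycle (G : Type u) (T : Type v) [Group G] [AddCommGroup T] where
  /-- the underlying map -/
  toFun : G → G → T
  map_mul_left : ∀ g g' h, toFun (g * g') h = toFun g h + toFun g' h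
  map_mul_right : ∀ g h h', toFun g (h * h') = toFun g h + toFun g h'

variable {G : Type u} {T : Type v} [Group G] [AddCommGroup T]

namespace BiCocycle

variable (β : BiCocycle G T)

theorem map_one_left (h : G) : β.toFun 1 h = 0 := by
  have h1 := β.map_mul_left 1 1 h
  rw [one_mul] at h1
  exact add_eq_left.mp h1.symm

theorem map_one_right (g : G) : β.toFun g 1 = 0 := by
  have h1 := β.map_mul_right g 1 1
  rw [one_mul] at h1
  exact add_eq_left.mp h1.symm

theorem map_inv_left (g h : G) : β.toFun g⁻¹ h = - β.toFun g h := by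
  have h1 := β.map_mul_left g⁻¹ g h
  rw [inv_mul_cancel, map_one_left] at h1
  exact eq_neg_of_add_eq_zero_left h1.symm

theorem map_inv_right (g h : G) : β.toFun g h⁻¹ = - β.toFun g h := by
  have h1 := β.map_mul_right g h⁻¹ h
  rw [inv_mul_cancel, map_one_right] at h1
  exact eq_neg_of_add_eq_zero_left h1.symm

end BiCocycle

/-- the central extension of `G` by `T` defined by a biadditive cocycle -/
structure Ext (β : BiCocycle G T) : Type (max u v) where
  /-- the component in `G` -/
  fst : G
  /-- the component in `T` -/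
  snd : T

namespace Ext

variable {β : BiCocycle G T}

@[ext] theorem ext' {x y : Ext β} (h1 : x.fst = y.fst) (h2 : x.snd = y.snd) : x = y := by
  cases x; cases y; simp_all

instance instMul : Mul (Ext β) :=
  ⟨fun x y => ⟨x.fst * y.fst, x.snd + y.snd + β.toFun x.fst y.fst⟩⟩

instance instOne : One (Ext β) := ⟨⟨1, 0⟩⟩

instance instInv : Inv (Ext β) :=
  ⟨fun x => ⟨x.fst⁻¹, - x.snd + β.toFun x.fst x.fst⟩⟩

@[simp] theorem mul_fst (x y : Ext β) : (x * y).fst = x.fst * y.fst := rfl
@[simp] theorem mul_snd (x y : Ext β) :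
    (x * y).snd = x.snd + y.snd + β.toFun x.fst y.fst := rfl
@[simp] theorem one_fst : (1 : Ext β).fst = 1 := rfl
@[simp] theorem one_snd : (1 : Ext β).snd = 0 := rfl
@[simp] theorem inv_fst (x : Ext β) : (x⁻¹).fst = x.fst⁻¹ := rfl
@[simp] theorem inv_snd (x : Ext β) :
    (x⁻¹).snd = - x.snd + β.toFun x.fst x.fst := rfl

instance instGroup : Group (Ext β) where
  mul_assoc x y z := by
    ext
    · simp [mul_assoc]
    · simp only [mul_snd, mul_fst, β.map_mul_left, β.map_mul_right]; abel
  one_mul x := by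
    ext
    · simp
    · simp [β.map_one_left]
  mul_one x := by
    ext
    · simp
    · simp [β.map_one_right]
  inv_mul_cancel x := by
    ext
    · simp
    · simp only [mul_snd, inv_snd, inv_fst, β.map_inv_left, one_snd]; abel

/-- projection to `G` -/
def proj (β : BiCocycle G T) : Ext β →* G where
  toFun x := x.fst
  map_one' := rfl
  map_mul' _ _ := rfl

@[simp] theorem proj_apply (x : Ext β) : proj β x = x.fst := rfl

theorem proj_surjective : Function.Surjective (proj β) := fun g => ⟨⟨g, 0⟩, rfl⟩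

/-- as a type, the extension is a product -/
def equivProd (β : BiCocycle G T) : Ext β ≃ G × T where
  toFun x := (x.fst, x.snd)
  invFun p := ⟨p.1, p.2⟩
  left_inv _ := rfl
  right_inv _ := rfl

instance instFinite [Finite G] [Finite T] : Finite (Ext β) :=
  Finite.of_equiv _ (equivProd β).symm

/-- the inclusion of `T` -/
def ofT (β : BiCocycle G T) : Multiplicative T →* Ext β where
  toFun t := ⟨1, Multiplicative.toAdd t⟩
  map_one' := rfl
  map_mul' s t := by
    ext
    · simp
    · simp [β.map_one_left]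

@[simp] theorem ofT_fst (t : Multiplicative T) : (ofT β t).fst = 1 := rfl
@[simp] theorem ofT_snd (t : Multiplicative T) : (ofT β t).snd = Multiplicative.toAdd t := rfl

theorem ofT_mem_center (t : Multiplicative T) : ofT β t ∈ Subgroup.center (Ext β) := by
  rw [Subgroup.mem_center_iff]
  intro x
  ext
  · simp
  · simp only [mul_snd, ofT_snd, ofT_fst, β.map_one_left, β.map_one_right]; abel

theorem mk_eq (g : G) (t : T) : (⟨g, t⟩ : Ext β) = ⟨g, 0⟩ * ofT β (Multiplicative.ofAdd t) := by
  ext
  · simp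
  · simp [β.map_one_right]

/-- the commutator of the lifts of two commuting elements -/
theorem commutator_of_commute (g h : G) (hc : g * h = h * g) :
    ⁅(⟨g, 0⟩ : Ext β), ⟨h, 0⟩⁆ = ofT β (Multiplicative.ofAdd (β.toFun g h - β.toFun h g)) := by
  have h1 : (⟨g, 0⟩ : Ext β) * ⟨h, 0⟩ =
      ofT β (Multiplicative.ofAdd (β.toFun g h - β.toFun h g)) * (⟨h, 0⟩ * ⟨g, 0⟩) := by
    ext
    · show g * h = 1 * (h * g)
      rw [one_mul, hc]
    · show (0 : T) + 0 + β.toFun g h =
        (β.toFun g h - β.toFun h g) + (0 + 0 + β.toFun h g) + β.toFun 1 (h * g)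
      rw [β.map_one_left]
      abel
  rw [commutatorElement_def, h1]
  group

section Stem

variable {Q : Type w} [Group Q] (β : BiCocycle G T) (σ : G →* Q)

theorem mem_ker_comp (x : Ext β) : x ∈ (σ.comp (proj β)).ker ↔ x.fst ∈ σ.ker := by
  rw [MonoidHom.mem_ker, MonoidHom.mem_ker]
  rfl

theorem ker_comp_le_center (hc : σ.ker ≤ Subgroup.center G)
    (h0l : ∀ n ∈ σ.ker, ∀ g, β.toFun n g = 0) (h0r : ∀ n ∈ σ.ker, ∀ g, β.toFun g n = 0) :
    (σ.comp (proj β)).ker ≤ Subgroup.center (Ext β) := by
  intro x hx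
  rw [mem_ker_comp] at hx
  rw [Subgroup.mem_center_iff]
  intro y
  ext
  · exact Subgroup.mem_center_iff.mp (hc hx) y.fst
  · simp only [mul_snd]
    rw [h0l _ hx, h0r _ hx]
    abel

/-- the kernel of the extension map is the product of the kernel of `σ` and `T` -/
def kerEquiv (h0 : ∀ n ∈ σ.ker, ∀ m ∈ σ.ker, β.toFun n m = 0) :
    (σ.comp (proj β)).ker ≃* σ.ker × Multiplicative T where
  toFun x := (⟨x.1.fst, (mem_ker_comp β σ x.1).mp x.2⟩, Multiplicative.ofAdd x.1.snd)
  invFun p := ⟨⟨p.1.1, Multiplicative.toAdd p.2⟩, (mem_ker_comp β σ _).mpr p.1.2⟩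
  left_inv _ := rfl
  right_inv _ := rfl
  map_mul' x y := by
    apply Prod.ext
    · rfl
    · show Multiplicative.ofAdd (x.1.snd + y.1.snd + β.toFun x.1.fst y.1.fst) =
        Multiplicative.ofAdd x.1.snd * Multiplicative.ofAdd y.1.snd
      rw [h0 _ ((mem_ker_comp β σ x.1).mp x.2) _ ((mem_ker_comp β σ y.1).mp y.2), add_zero]
      rfl

theorem isStemExtension_comp (hσ : Function.Surjective σ) (hc : σ.ker ≤ Subgroup.center G)
    (h0l : ∀ n ∈ σ.ker, ∀ g, β.toFun n g = 0) (h0r : ∀ n ∈ σ.ker, ∀ g, β.toFun g n = 0)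
    (h1 : ∀ n ∈ σ.ker, (⟨n, 0⟩ : Ext β) ∈ commutator (Ext β))
    (h2 : ∀ t, ofT β t ∈ commutator (Ext β)) : Cfsg.IsStemExtension (σ.comp (proj β)) := by
  refine ⟨hσ.comp proj_surjective, ker_comp_le_center β σ hc h0l h0r, ?_⟩
  intro x hx
  rw [mem_ker_comp] at hx
  have h3 : x = ⟨x.fst, x.snd⟩ := rfl
  rw [h3, mk_eq]
  exact Subgroup.mul_mem _ (h1 _ hx) (h2 _)

end Stem

end Ext

end Cfsg.Agent.Helper8.BiExt
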