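import Mathlib
import Cfsg.Prelude.Def_Blocks
import Cfsg.Agent.Helper8.InducedRestrict
import Cfsg.Agent.Helper8.CharComp

/-!
# Blau's theorem and Okuyama's theorem on induced blocks and height-zero characters
-/

namespace Cfsg.Agent.Helper8.Blau

open Cfsg Cfsg.Agent.Helper24 Cfsg.Agent.Helper5.CC Cfsg.Agent.Helper5.Loc
open Cfsg.Agent.Helper8.HZI Cfsg.Agent.Helper8.IndHt

variable {G : Type*} [Group G] [Fintype G] {M : Ideal AlgInt}

/-- Expansion of the inner product of the truncated restriction with `ψ`. -/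
theorem classInner_trunc_restrict (p : ℕ) [hp : Fact p.Prime] (H : Subgroup G) [Fintype H]
    [Fintype (IrrCharacter H)] (χ : G → ℂ) (n : IrrCharacter H → ℕ)
    (hn : (fun h : H => χ h) = ∑ ξ : IrrCharacter H, (n ξ : ℂ) • (ξ : H → ℂ))
    (ψ : IrrCharacter H) :
    classInner (fun h : H => if p ∣ orderOf h then (0 : ℂ) else
        ((p ^ (Nat.card H).factorization p : ℕ) : ℂ) * χ h) (ψ : H → ℂ) =
      ((∑ ξ : IrrCharacter H, (n ξ : ℤ) * N p ξ ψ : ℤ) : ℂ) := by
  classical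
  have hη : (fun h : H => if p ∣ orderOf h then (0 : ℂ) else
        ((p ^ (Nat.card H).factorization p : ℕ) : ℂ) * χ h) =
      ∑ ξ : IrrCharacter H, (n ξ : ℂ) • trunc p (ξ : H → ℂ) := by
    funext h
    rw [Finset.sum_apply]
    simp only [Pi.smul_apply, smul_eq_mul, trunc]
    by_cases hd : p ∣ orderOf h
    · simp [hd]
    · simp only [if_neg hd]
      have h1 := congrFun hn h
      simp only [Finset.sum_apply, Pi.smul_apply, smul_eq_mul] at h1
      rw [h1, Finset.mul_sum]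
      refine Finset.sum_congr rfl fun ξ _ => ?_
      ring
  rw [hη, classInner_sum_left]
  push_cast
  refine Finset.sum_congr rfl fun ξ _ => ?_
  rw [classInner_smul_left, N_spec]

/-- **Blau's theorem** (explicit form). -/
theorem exists_heightZero_constituent [Fintype (IrrCharacter G)] {p : ℕ} [hp : Fact p.Prime]
    (hM : IsPModular p M) (H : Subgroup G) [Fintype H] [Fintype (IrrCharacter H)]
    {b : Set (IrrCharacter H)} {B : Set (IrrCharacter G)} (hind : IsInducedBlock M H b B)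
    (χ : IrrCharacter G) (hχ : χ ∈ B)
    (hmin : ∀ ξ ∈ B, (irrDeg χ).factorization p ≤ (irrDeg ξ).factorization p)
    (n : IrrCharacter H → ℕ)
    (hn : (fun h : H => (χ : G → ℂ) h) = ∑ ξ : IrrCharacter H, (n ξ : ℂ) • (ξ : H → ℂ)) :
    ∃ ξ ∈ b, blockHeight p b (ξ : H → ℂ) = 0 ∧ ¬ p ∣ n ξ := by
  classical
  have hMp := isPrime_of_isPModular hM
  have hb : IsPBlock M b := hind.1
  obtain ⟨ψ, hψ, hψμ⟩ := exists_minVal p (IsPBlock.nonempty hMp hb)
  set ν₀ := minVal p b with hν₀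
  by_contra hcon
  push Not at hcon
  -- the criterion
  have hcrit := (Cfsg.Agent.Helper8.IndRes.main hM H hind χ ψ hψ).2 hχ hmin
  rw [← Cfsg.Agent.Helper8.IndRes.classInner_restrict_eq p H χ ψ,
    classInner_trunc_restrict p H (χ : G → ℂ) n hn ψ] at hcrit
  apply hcrit
  -- every term is divisible by `p ^ (ν₀ + 1)`
  have hdiv : (p : ℤ) ^ (ν₀ + 1) ∣ ∑ ξ : IrrCharacter H, (n ξ : ℤ) * N p ξ ψ := by
    apply Finset.dvd_sum
    intro ξ _
    by_cases hξ : ξ ∈ b
    · have h1 : (p : ℤ) ^ ν₀ ∣ N p ξ ψ := by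
        have := pow_dvd_N_right p ξ ψ
        rwa [hψμ] at this
      by_cases hh : blockHeight p b (ξ : H → ℂ) = 0
      · have h2 : (p : ℤ) ∣ (n ξ : ℤ) := by exact_mod_cast hcon ξ hξ hh
        rw [pow_succ, mul_comm ((p : ℤ) ^ ν₀)]
        exact mul_dvd_mul h2 h1
      · -- positive height: not good
        have hng : ¬ Good p ξ ψ := by
          intro hg
          have hm := minimal_of_good hM hb hψ hg ψ hψ
          rw [blockHeight_eq, Nat.sub_eq_zero_iff_le] at hh
          apply hh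
          rw [← hν₀, ← hψμ]; exact hm
        by_cases hN0 : N p ξ ψ = 0
        · rw [hN0, mul_zero]; exact dvd_zero _
        · have h3 : padicValInt p (N p ξ ψ) ≠ (irrDeg ψ).factorization p :=
            fun h => hng ⟨hN0, h⟩
          have h4 : ν₀ ≤ padicValInt p (N p ξ ψ) :=
            ((padicValInt_dvd_iff ν₀ (N p ξ ψ)).mp h1).resolve_left hN0
          have h5 : ν₀ + 1 ≤ padicValInt p (N p ξ ψ) := by
            rw [hψμ] at h3; omega
          exact Dvd.dvd.mul_left ((padicValInt_dvd_iff (ν₀ + 1) _).mpr (Or.inr h5)) _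
    · have h0 : N p ξ ψ = 0 := by
        rw [N_symm]; exact N_eq_zero hM hb hψ hξ
      rw [h0, mul_zero]; exact dvd_zero _
  obtain ⟨t, ht⟩ := hdiv
  -- `ψ(1) = p ^ ν₀ * ψ'`
  set d' := irrDeg ψ / p ^ ν₀ with hd'
  have hd : p ^ ν₀ * d' = irrDeg ψ := by
    have := Nat.ordProj_mul_ordCompl_eq_self (irrDeg ψ) p
    rwa [hψμ] at this
  have hd'cop : ¬ p ∣ d' := by
    have := Nat.not_dvd_ordCompl hp.out (irrDeg_pos ψ).ne'
    rwa [hψμ] at this
  have hd'0 : (d' : ℂ) ≠ 0 := by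
    have : d' ≠ 0 := fun h0 => hd'cop (h0 ▸ dvd_zero p)
    exact_mod_cast this
  have hp0 : (p : ℂ) ^ ν₀ ≠ 0 := by
    apply pow_ne_zero
    exact_mod_cast hp.out.pos.ne'
  rw [ht, irrDeg_spec, ← hd]
  have e : (((p : ℤ) ^ (ν₀ + 1) * t : ℤ) : ℂ) / ((p ^ ν₀ * d' : ℕ) : ℂ) =
      ((p * t : ℤ) : ℂ) * ((d' : ℂ))⁻¹ := by
    push_cast
    field_simp
    ring
  rw [e]
  refine li_mul_right hMp ?_ (memLocalRing_inv_natCast hM hd'cop)
  exact (Cfsg.Agent.Helper5.BG.memLocalIdeal_intCast_iff hM _).mpr (Dvd.intro _ rfl)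

/-- The restriction of `cfun p χ` to `H` is `cfun p ψ` when `ψ = χ|_H`. -/
theorem cfun_restrict (p : ℕ) (H : Subgroup G) [Fintype H] (χ : IrrCharacter G)
    (ψ : IrrCharacter H) (hψ : ∀ h : H, (ψ : H → ℂ) h = (χ : G → ℂ) h) :
    (fun k : H => cfun p χ (k : G)) = cfun p ψ := by
  funext k
  simp only [cfun, hψ]
  congr 1
  by_cases hd : p ∣ orderOf k
  · have hd' : p ∣ orderOf (k : G) := by rwa [Subgroup.orderOf_coe]
    rw [regInd_of_dvd hd, regInd_of_dvd hd']
  · have hd' : ¬ p ∣ orderOf (k : G) := by rwa [Subgroup.orderOf_coe]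
    rw [regInd_of_not_dvd hd, regInd_of_not_dvd hd']

/-- **Okuyama's theorem** (explicit form). -/
theorem okuyama [Fintype (IrrCharacter G)] {p : ℕ} [hp : Fact p.Prime]
    (hM : IsPModular p M) (H : Subgroup G) [Fintype H] [Fintype (IrrCharacter H)]
    (χ : IrrCharacter G) (ψ : IrrCharacter H) (hψ : ∀ h : H, (ψ : H → ℂ) h = (χ : G → ℂ) h)
    (hχ0 : ∀ ξ ∈ blockOf M (χ : G → ℂ),
      (irrDeg χ).factorization p ≤ (irrDeg ξ).factorization p)
    (hψ0 : ∀ ξ ∈ blockOf M (ψ : H → ℂ),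
      (irrDeg ψ).factorization p ≤ (irrDeg ξ).factorization p)
    (e : Set (IrrCharacter H)) (he : InducedBlockDefined M H e) :
    IsInducedBlock M H e (blockOf M (χ : G → ℂ)) ↔ e = blockOf M (ψ : H → ℂ) := by
  classical
  have hMp := isPrime_of_isPModular hM
  set B := blockOf M (χ : G → ℂ) with hBdef
  set b := blockOf M (ψ : H → ℂ) with hbdef
  have hB : IsPBlock M B := ⟨χ, rfl⟩
  have hb : IsPBlock M b := ⟨ψ, rfl⟩
  have hχB : χ ∈ B := mem_blockOf_self hMp χ
  have hψb : ψ ∈ b := mem_blockOf_self hMp ψ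
  have hmm0 : (mm H p : ℂ) ≠ 0 := by
    have : mm H p ≠ 0 := fun h0 => (not_dvd_mm (G := H) p) (h0 ▸ dvd_zero p)
    exact_mod_cast this
  have hcf := cfun_restrict p H χ ψ hψ
  constructor
  · intro hind
    obtain ⟨ψ', hψ'⟩ := IsPBlock.nonempty hMp hind.1
    have hcrit := (Cfsg.Agent.Helper8.IndRes.main hM H hind χ ψ' hψ').2 hχB hχ0
    have hψ'b : ψ' ∈ b := by
      by_contra hnot
      apply hcrit
      rw [hcf]
      have hN : N p ψ ψ' = 0 := N_eq_zero hM hb hψb hnot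
      have h1 := N_mul p ψ ψ'
      rw [hN, Int.cast_zero, zero_mul] at h1
      have hact : act (cfun p ψ) ψ' = 0 := by
        rcases mul_eq_zero.mp h1.symm with h | h
        · exact absurd h (irr_one_ne_zero ψ')
        · exact h
      rw [hact, mul_zero]
      exact memLocalIdeal_zero hMp
    rw [IsPBlock_eq_blockOf hMp hind.1 hψ', IsPBlock_eq_blockOf hMp hb hψ'b]
  · intro heq
    obtain ⟨B', hind'⟩ := he
    rw [heq] at hind'
    have hχB' : χ ∈ B' := by
      by_contra hnot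
      have hli := (Cfsg.Agent.Helper8.IndRes.main hM H hind' χ ψ hψb).1 hnot
      rw [hcf] at hli
      have hgood := good_of_minimal hM hb hψb hψ0 ψ hψb
      apply (good_iff hM ψ ψ).mp hgood
      have := li_mul_left hMp (memLocalRing_natCast hMp (mm H p)) hli
      rwa [← mul_assoc, mul_inv_cancel₀ hmm0, one_mul] at this
    have hBB' : B' = B := IsPBlock_eq_blockOf hMp hind'.2.1 hχB'
    rw [heq, ← hBB']
    exact hind'

end Cfsg.Agent.Helper8.Blau
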