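import Mathlib
import Cfsg.Prelude.Def_Blocks
import Cfsg.Agent.Helper5.DefectGroups
import Cfsg.Agent.Helper5.DefectOrder
import Cfsg.Agent.Helper5.HeightZero
import Cfsg.Agent.Helper5.BlockSupport
import Cfsg.Agent.S0906

set_option autoImplicit false
set_option linter.style.haveILetI false
set_option linter.unusedSectionVars false
set_option linter.unusedVariables false

/-! # Classes of defect `d` detect blocks of defect `d` -/

namespace Cfsg.Agent.Helper8

open Cfsg Cfsg.Agent.Helper24 Cfsg.Agent.Helper5 Cfsg.Agent.Helper5.CC Cfsg.Agent.Helper5.Loc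
  Cfsg.Agent.Helper14

section DefectClasses

variable {G : Type*} [Group G] [Fintype G] {M : Ideal Cfsg.AlgInt}

/-- numerical form of the min-max theorem -/
theorem factorization_centralizer_le_of_minmax [Fintype (Cfsg.IrrCharacter G)] {p : ℕ}
    [hp : Fact p.Prime] (hM : Cfsg.IsPModular p M) (B : Set (Cfsg.IrrCharacter G))
    (hB : Cfsg.IsPBlock M B) (u w : G)
    (hu : ∀ χ ∈ B, ¬ Cfsg.MemLocalIdeal M (Cfsg.centralChar (χ : G → ℂ) u))
    (hw : ¬ Cfsg.MemLocalIdeal M (Cfsg.blockCoeff B w)) :
    (Nat.card (Subgroup.centralizer ({w} : Set G))).factorization p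
      ≤ (Nat.card (Subgroup.centralizer ({u} : Set G))).factorization p := by
  obtain ⟨Pu⟩ : Nonempty (Sylow p (Subgroup.centralizer ({u} : Set G))) := inferInstance
  obtain ⟨Pw⟩ : Nonempty (Sylow p (Subgroup.centralizer ({w} : Set G))) := inferInstance
  obtain ⟨x, hx⟩ := minmax_sylow hM B hB u w hu hw _ _ (isSylowIn_of_sylow Pu)
    (isSylowIn_of_sylow Pw)
  have h1 := Subgroup.card_dvd_of_le hx
  rw [card_map_subtype, Pw.card_eq_multiplicity] at h1
  have h2 : Nat.card (((Pu : Subgroup _).map
      (Subgroup.centralizer ({u} : Set G)).subtype).map (cj x))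
      = p ^ (Nat.card (Subgroup.centralizer ({u} : Set G))).factorization p := by
    rw [← Nat.card_congr (Subgroup.equivMapOfInjective _ (cj x) (cj_injective x)).toEquiv,
      card_map_subtype, Pu.card_eq_multiplicity]
  rw [h2] at h1
  exact (Nat.pow_dvd_pow_iff_le_right hp.out.one_lt).mp h1

/-- a unit coefficient of the block idempotent forces defect at most `d(B)` -/
theorem factorization_centralizer_le_defect [Fintype (Cfsg.IrrCharacter G)] {p : ℕ}
    [hp : Fact p.Prime] (hM : Cfsg.IsPModular p M) (B : Set (Cfsg.IrrCharacter G))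
    (hB : Cfsg.IsPBlock M B) (w : G) (hw : ¬ Cfsg.MemLocalIdeal M (Cfsg.blockCoeff B w)) :
    (Nat.card (Subgroup.centralizer ({w} : Set G))).factorization p ≤ Cfsg.blockDefect p B := by
  obtain ⟨y, hy⟩ := Cfsg.Agent.S0906.result p M hM B hB
  rw [← factorization_card_centralizer_of_defectClass hM hB hy]
  exact factorization_centralizer_le_of_minmax hM B hB y w hy.2.2 hw

/-- a unit central character value forces defect at least `d(B)` -/
theorem defect_le_factorization_centralizer [Fintype (Cfsg.IrrCharacter G)] {p : ℕ}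
    [hp : Fact p.Prime] (hM : Cfsg.IsPModular p M) (B : Set (Cfsg.IrrCharacter G))
    (hB : Cfsg.IsPBlock M B) (u : G) (χ : Cfsg.IrrCharacter G) (hχ : χ ∈ B)
    (hu : ¬ Cfsg.MemLocalIdeal M (Cfsg.centralChar (χ : G → ℂ) u)) :
    Cfsg.blockDefect p B ≤ (Nat.card (Subgroup.centralizer ({u} : Set G))).factorization p := by
  obtain ⟨y, hy⟩ := Cfsg.Agent.S0906.result p M hM B hB
  rw [← factorization_card_centralizer_of_defectClass hM hB hy]
  exact factorization_centralizer_le_of_minmax hM B hB u y
    (not_memLocalIdeal_centralChar_of_mem (isPrime_of_isPModular hM) hB ⟨χ, hχ, hu⟩) hy.2.1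

/-- **S4510**: blocks of defect `d` are separated by the `p`-regular classes of defect `d` -/
theorem sameBlock_iff_defect_classes {p : ℕ} [hp : Fact p.Prime] (hM : Cfsg.IsPModular p M)
    (d : ℕ) (χ ψ : Cfsg.IrrCharacter G)
    (hχ : Cfsg.blockDefect p (Cfsg.blockOf M (χ : G → ℂ)) = d)
    (hψ : Cfsg.blockDefect p (Cfsg.blockOf M (ψ : G → ℂ)) = d) :
    Cfsg.SameBlock M (χ : G → ℂ) (ψ : G → ℂ) ↔
      ∀ x : G, ¬ p ∣ orderOf x →
        (Nat.card (Subgroup.centralizer ({x} : Set G))).factorization p = d →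
        Cfsg.MemLocalIdeal M
          (Cfsg.centralChar (χ : G → ℂ) x - Cfsg.centralChar (ψ : G → ℂ) x) := by
  classical
  haveI : Fintype (Cfsg.IrrCharacter G) := Fintype.ofFinite _
  haveI : Fintype (ConjClasses G) := Fintype.ofFinite _
  have hMp := isPrime_of_isPModular hM
  constructor
  · intro h x _ _
    exact h x
  · intro h
    have hB : Cfsg.IsPBlock M (Cfsg.blockOf M (χ : G → ℂ)) := isPBlock_blockOf χ
    have hB' : Cfsg.IsPBlock M (Cfsg.blockOf M (ψ : G → ℂ)) := isPBlock_blockOf ψ
    have hχB : χ ∈ Cfsg.blockOf M (χ : G → ℂ) := mem_blockOf_self hMp χ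
    have hψB' : ψ ∈ Cfsg.blockOf M (ψ : G → ℂ) := mem_blockOf_self hMp ψ
    have hcf := isClassFunction_blockCoeff (Cfsg.blockOf M (χ : G → ℂ))
    have hact : act (Cfsg.blockCoeff (Cfsg.blockOf M (χ : G → ℂ))) χ
        - act (Cfsg.blockCoeff (Cfsg.blockOf M (χ : G → ℂ))) ψ
        = ∑ K : ConjClasses G, Cfsg.blockCoeff (Cfsg.blockOf M (χ : G → ℂ)) (rep K)
            * (Cfsg.centralChar (χ : G → ℂ) (rep K) - Cfsg.centralChar (ψ : G → ℂ) (rep K)) := by
      rw [act_eq_sum_centralChar hcf, act_eq_sum_centralChar hcf, ← Finset.sum_sub_distrib]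
      refine Finset.sum_congr rfl fun K _ => ?_
      ring
    have hli : Cfsg.MemLocalIdeal M (act (Cfsg.blockCoeff (Cfsg.blockOf M (χ : G → ℂ))) χ
        - act (Cfsg.blockCoeff (Cfsg.blockOf M (χ : G → ℂ))) ψ) := by
      rw [hact]
      apply li_sum hMp
      intro K _
      by_cases hsing : p ∣ orderOf (rep K)
      · rw [blockCoeff_eq_zero_of_singular hM hB _ hsing, zero_mul]
        exact memLocalIdeal_zero hMp
      by_cases hd : (Nat.card (Subgroup.centralizer ({rep K} : Set G))).factorization p = d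
      · exact li_mul_left hMp (osima hMp _ hB _) (h _ hsing hd)
      by_cases ha : Cfsg.MemLocalIdeal M
          (Cfsg.blockCoeff (Cfsg.blockOf M (χ : G → ℂ)) (rep K))
      · exact li_mul_right hMp ha
          (lr_sub hMp (memLocalRing_centralChar hMp χ _) (memLocalRing_centralChar hMp ψ _))
      · have h1 := factorization_centralizer_le_defect hM _ hB (rep K) ha
        rw [hχ] at h1
        have h2 : Cfsg.MemLocalIdeal M (Cfsg.centralChar (χ : G → ℂ) (rep K)) := by
          by_contra hcon
          have := defect_le_factorization_centralizer hM _ hB (rep K) χ hχB hcon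
          rw [hχ] at this
          omega
        have h3 : Cfsg.MemLocalIdeal M (Cfsg.centralChar (ψ : G → ℂ) (rep K)) := by
          by_contra hcon
          have := defect_le_factorization_centralizer hM _ hB' (rep K) ψ hψB' hcon
          rw [hψ] at this
          omega
        exact li_mul_left hMp (osima hMp _ hB _) (li_sub hMp h2 h3)
    rw [act_blockCoeff, act_blockCoeff, if_pos hχB] at hli
    by_contra hns
    have hψB : ψ ∉ Cfsg.blockOf M (χ : G → ℂ) := fun hmem => hns (mem_blockOf_iff.mp hmem)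
    rw [if_neg hψB, sub_zero] at hli
    have h1 : Cfsg.MemLocalIdeal M ((1 : ℕ) : ℂ) := by
      rw [Nat.cast_one]
      exact hli
    have h2 := (memLocalIdeal_natCast_iff hM 1).mp h1
    exact hp.out.one_lt.ne' (Nat.dvd_one.mp h2)

end DefectClasses

end Cfsg.Agent.Helper8
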