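import Mathlib
import Cfsg.Prelude.Def_Blocks
import Cfsg.Agent.Helper5.LocalRing

set_option autoImplicit false
set_option linter.style.haveILetI false
set_option linter.unusedSectionVars false
set_option linter.unusedVariables false

/-! # The local ring at `M` as a subring of `ℂ`, its residue ring, and a rank lemma -/

namespace Cfsg.Agent.Helper8

open Cfsg Cfsg.Agent.Helper5.Loc

section LocalQuot

variable {M : Ideal Cfsg.AlgInt}

/-- the local ring at `M` as a subring of `ℂ` -/
def localSubring (hM : M.IsPrime) : Subring ℂ where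
  carrier := {z | Cfsg.MemLocalRing M z}
  mul_mem' := fun ha hb => lr_mul hM ha hb
  one_mem' := memLocalRing_one hM
  add_mem' := fun ha hb => lr_add hM ha hb
  zero_mem' := memLocalRing_zero hM
  neg_mem' := fun ha => lr_neg ha

theorem mem_localSubring (hM : M.IsPrime) (z : ℂ) :
    z ∈ localSubring hM ↔ Cfsg.MemLocalRing M z := Iff.rfl

/-- the maximal ideal of the local ring -/
def localIdeal (hM : M.IsPrime) : Ideal (localSubring hM) where
  carrier := {z | Cfsg.MemLocalIdeal M (z : ℂ)}
  add_mem' := fun ha hb => li_add hM ha hb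
  zero_mem' := memLocalIdeal_zero hM
  smul_mem' := fun c x hx => li_mul_left hM c.2 hx

theorem mem_localIdeal (hM : M.IsPrime) (z : localSubring hM) :
    z ∈ localIdeal hM ↔ Cfsg.MemLocalIdeal M (z : ℂ) := Iff.rfl

theorem localIdeal_ne_top {p : ℕ} (hM : Cfsg.IsPModular p M) :
    localIdeal (isPrime_of_isPModular hM) ≠ ⊤ := by
  intro h
  rw [Ideal.eq_top_iff_one, mem_localIdeal] at h
  have h1 : Cfsg.MemLocalIdeal M ((1 : ℕ) : ℂ) := by
    rw [Nat.cast_one]
    exact h
  have h2 := (memLocalIdeal_natCast_iff hM 1).mp h1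
  exact hM.1.one_lt.ne' (Nat.dvd_one.mp h2)

/-- **Rank lemma**: if `A A' ≡ 1` modulo the local ideal, with all entries local integers, then
the inner dimension is at least the outer one. -/
theorem card_le_of_mul_congr_one {p : ℕ} (hM : Cfsg.IsPModular p M) {n m : Type*} [Fintype n]
    [Fintype m] [DecidableEq n] (A : n → m → ℂ) (A' : m → n → ℂ)
    (hA : ∀ i k, Cfsg.MemLocalRing M (A i k)) (hA' : ∀ k j, Cfsg.MemLocalRing M (A' k j))
    (h : ∀ i j, Cfsg.MemLocalIdeal M
      ((∑ k, A i k * A' k j) - (if i = j then (1 : ℂ) else 0))) :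
    Fintype.card n ≤ Fintype.card m := by
  classical
  have hMp := isPrime_of_isPModular hM
  haveI : Nontrivial (localSubring hMp ⧸ localIdeal hMp) :=
    Ideal.Quotient.nontrivial_iff.mpr (localIdeal_ne_top hM)
  let Ab : Matrix n m (localSubring hMp ⧸ localIdeal hMp) :=
    fun i k => Ideal.Quotient.mk _ ⟨A i k, hA i k⟩
  let Ab' : Matrix m n (localSubring hMp ⧸ localIdeal hMp) :=
    fun k j => Ideal.Quotient.mk _ ⟨A' k j, hA' k j⟩
  have hmul : Ab * Ab' = 1 := by
    ext i j
    rw [Matrix.mul_apply, Matrix.one_apply]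
    have h1 : ∑ k, Ab i k * Ab' k j
        = Ideal.Quotient.mk (localIdeal hMp)
          (∑ k, (⟨A i k, hA i k⟩ : localSubring hMp) * ⟨A' k j, hA' k j⟩) := by
      rw [map_sum]
      refine Finset.sum_congr rfl fun k _ => ?_
      rw [map_mul]
    rw [h1]
    have h2 : (if i = j then (1 : localSubring hMp ⧸ localIdeal hMp) else 0)
        = Ideal.Quotient.mk (localIdeal hMp) (if i = j then 1 else 0) := by
      split_ifs <;> simp
    rw [h2, Ideal.Quotient.eq, mem_localIdeal]
    have h3 : (((∑ k, (⟨A i k, hA i k⟩ : localSubring hMp) * ⟨A' k j, hA' k j⟩)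
        - (if i = j then 1 else 0) : localSubring hMp) : ℂ)
        = (∑ k, A i k * A' k j) - (if i = j then (1 : ℂ) else 0) := by
      push_cast
      congr 1
      split_ifs <;> simp
    rw [h3]
    exact h i j
  have hsurj : Function.Surjective (Matrix.mulVecLin Ab) := by
    intro w
    refine ⟨Ab'.mulVec w, ?_⟩
    rw [Matrix.mulVecLin_apply, Matrix.mulVec_mulVec, hmul, Matrix.one_mulVec]
  exact card_le_of_surjective (R := localSubring hMp ⧸ localIdeal hMp) _ hsurj

end LocalQuot

end Cfsg.Agent.Helper8
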