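import Mathlib
import Cfsg.Prelude.Def_Blocks
import Cfsg.Agent.Helper8.LocalQuot
import Cfsg.Agent.Helper8.BlockDefectClasses

set_option autoImplicit false
set_option linter.style.haveILetI false
set_option linter.unusedSectionVars false
set_option linter.unusedVariables false

/-! # The number of blocks of defect `σ` is at most the number of `p`-regular classes of
defect `σ` -/

namespace Cfsg.Agent.Helper8

open Cfsg Cfsg.Agent.Helper24 Cfsg.Agent.Helper5 Cfsg.Agent.Helper5.CC Cfsg.Agent.Helper5.Loc

section BlockCount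

variable {G : Type*} [Group G] [Fintype G] {M : Ideal Cfsg.AlgInt}

theorem card_blocks_le_card_classes {p : ℕ} [hp : Fact p.Prime] (hM : Cfsg.IsPModular p M)
    (σ : ℕ) :
    Nat.card {B : Set (Cfsg.IrrCharacter G) // Cfsg.IsPBlock M B ∧ Cfsg.blockDefect p B = σ}
      ≤ Nat.card {C : ConjClasses G // ∃ g : G, ConjClasses.mk g = C ∧ ¬ p ∣ orderOf g ∧
          (Nat.card (Subgroup.centralizer ({g} : Set G))).factorization p = σ} := by
  classical
  haveI : Fintype (Cfsg.IrrCharacter G) := Fintype.ofFinite _
  haveI : Fintype (ConjClasses G) := Fintype.ofFinite _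
  haveI : Fintype {B : Set (Cfsg.IrrCharacter G) //
    Cfsg.IsPBlock M B ∧ Cfsg.blockDefect p B = σ} := Fintype.ofFinite _
  have hMp := isPrime_of_isPModular hM
  rw [Nat.card_eq_fintype_card, Nat.card_eq_fintype_card]
  -- representatives of the blocks
  have hne : ∀ B : {B : Set (Cfsg.IrrCharacter G) //
      Cfsg.IsPBlock M B ∧ Cfsg.blockDefect p B = σ}, ∃ χ, χ ∈ B.1 :=
    fun B => IsPBlock.nonempty hMp B.2.1
  choose χ hχ using hne
  set P : ConjClasses G → Prop := fun C => ∃ g : G, ConjClasses.mk g = C ∧ ¬ p ∣ orderOf g ∧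
    (Nat.card (Subgroup.centralizer ({g} : Set G))).factorization p = σ with hP
  apply card_le_of_mul_congr_one hM
    (fun B (K : {C : ConjClasses G // P C}) => Cfsg.centralChar (χ B : G → ℂ) (rep K.1))
    (fun (K : {C : ConjClasses G // P C}) B' => Cfsg.blockCoeff B'.1 (rep K.1))
  · intro B K
    exact memLocalRing_centralChar hMp _ _
  · intro K B'
    exact osima hMp _ B'.2.1 _
  · intro B B'
    -- the exact identity over all classes
    have hact := act_blockCoeff B'.1 (χ B)
    rw [act_eq_sum_centralChar (isClassFunction_blockCoeff B'.1)] at hact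
    have hiff : (χ B ∈ B'.1) ↔ B = B' := by
      constructor
      · intro h
        apply Subtype.ext
        rw [IsPBlock_eq_blockOf hMp B.2.1 (hχ B), IsPBlock_eq_blockOf hMp B'.2.1 h]
      · intro h
        rw [← h]
        exact hχ B
    have hsplit := Finset.sum_filter_add_sum_filter_not (Finset.univ : Finset (ConjClasses G)) P
      (fun K => Cfsg.blockCoeff B'.1 (rep K) * Cfsg.centralChar (χ B : G → ℂ) (rep K))
    rw [hact] at hsplit
    have hsub : ∑ K ∈ Finset.univ.filter P,
        Cfsg.blockCoeff B'.1 (rep K) * Cfsg.centralChar (χ B : G → ℂ) (rep K)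
        = ∑ K : {C : ConjClasses G // P C},
          Cfsg.centralChar (χ B : G → ℂ) (rep K.1) * Cfsg.blockCoeff B'.1 (rep K.1) := by
      rw [Finset.sum_subtype (Finset.univ.filter P) (p := P) (fun x => by simp)]
      refine Finset.sum_congr rfl fun K _ => ?_
      ring
    rw [hsub] at hsplit
    have heq : (∑ K : {C : ConjClasses G // P C},
          Cfsg.centralChar (χ B : G → ℂ) (rep K.1) * Cfsg.blockCoeff B'.1 (rep K.1))
        - (if B = B' then (1 : ℂ) else 0)
        = - ∑ K ∈ Finset.univ.filter (fun K => ¬ P K),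
          Cfsg.blockCoeff B'.1 (rep K) * Cfsg.centralChar (χ B : G → ℂ) (rep K) := by
      have : (if B = B' then (1 : ℂ) else 0) = if χ B ∈ B'.1 then (1 : ℂ) else 0 := by
        by_cases h : B = B'
        · rw [if_pos h, if_pos (hiff.mpr h)]
        · rw [if_neg h, if_neg (fun h' => h (hiff.mp h'))]
      rw [this, ← hsplit]
      ring
    rw [heq]
    apply li_neg
    apply li_sum hMp
    intro K hK
    rw [Finset.mem_filter] at hK
    have hnP : ¬ P K := hK.2
    by_cases hsing : p ∣ orderOf (rep K)
    · rw [blockCoeff_eq_zero_of_singular hM B'.2.1 _ hsing, zero_mul]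
      exact memLocalIdeal_zero hMp
    have hd : (Nat.card (Subgroup.centralizer ({rep K} : Set G))).factorization p ≠ σ := by
      intro h
      exact hnP ⟨rep K, mk_rep K, hsing, h⟩
    by_cases ha : Cfsg.MemLocalIdeal M (Cfsg.blockCoeff B'.1 (rep K))
    · exact li_mul_right hMp ha (memLocalRing_centralChar hMp _ _)
    · have h1 := factorization_centralizer_le_defect hM _ B'.2.1 (rep K) ha
      rw [B'.2.2] at h1
      have h2 : Cfsg.MemLocalIdeal M (Cfsg.centralChar (χ B : G → ℂ) (rep K)) := by
        by_contra hcon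
        have := defect_le_factorization_centralizer hM _ B.2.1 (rep K) (χ B) (hχ B) hcon
        rw [B.2.2] at this
        omega
      exact li_mul_left hMp (osima hMp _ B'.2.1 _) h2

end BlockCount

end Cfsg.Agent.Helper8
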