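import Mathlib
import Cfsg.Prelude.Def_Blocks
import Cfsg.Agent.Helper5.ThirdMain
import Cfsg.Agent.Helper5.RegularCount
import Cfsg.Agent.Helper5.RestrictScalar
import Cfsg.Agent.Helper24.ColumnOrth
import Cfsg.Agent.Helper24.Span

/-!
# Principal blocks of central products

`G = U₁ U₂` with `[U₁, U₂] = 1` and `U₁ ∩ U₂` a `p`-group: `χ ∈ B₀(G)` iff its constituents
on `U₁`, `U₂` lie in the principal blocks.
-/

namespace Cfsg.Agent.Helper8.CentralProduct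

open Cfsg Cfsg.Agent.Helper24 Cfsg.Agent.Helper5.CC Cfsg.Agent.Helper5.Loc

variable {G : Type*} [Group G]

/-- Every element of `U₁ ⊔ U₂ = ⊤` is a product when the factors commute elementwise. -/
theorem exists_mul_of_sup_eq_top (U₁ U₂ : Subgroup G)
    (hcomm : ∀ u ∈ U₁, ∀ v ∈ U₂, u * v = v * u) (hgen : U₁ ⊔ U₂ = ⊤) (g : G) :
    ∃ v₁ ∈ U₁, ∃ v₂ ∈ U₂, g = v₁ * v₂ := by
  let S : Subgroup G :=
    { carrier := {g | ∃ v₁ ∈ U₁, ∃ v₂ ∈ U₂, g = v₁ * v₂}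
      mul_mem' := by
        rintro _ _ ⟨v₁, hv₁, v₂, hv₂, rfl⟩ ⟨w₁, hw₁, w₂, hw₂, rfl⟩
        refine ⟨v₁ * w₁, U₁.mul_mem hv₁ hw₁, v₂ * w₂, U₂.mul_mem hv₂ hw₂, ?_⟩
        calc v₁ * v₂ * (w₁ * w₂) = v₁ * (v₂ * w₁) * w₂ := by group
          _ = v₁ * (w₁ * v₂) * w₂ := by rw [hcomm w₁ hw₁ v₂ hv₂]
          _ = v₁ * w₁ * (v₂ * w₂) := by group
      one_mem' := ⟨1, U₁.one_mem, 1, U₂.one_mem, by simp⟩
      inv_mem' := by
        rintro _ ⟨v₁, hv₁, v₂, hv₂, rfl⟩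
        refine ⟨v₁⁻¹, U₁.inv_mem hv₁, v₂⁻¹, U₂.inv_mem hv₂, ?_⟩
        rw [mul_inv_rev, hcomm v₁⁻¹ (U₁.inv_mem hv₁) v₂⁻¹ (U₂.inv_mem hv₂)] }
  have h1 : U₁ ≤ S := fun u hu => ⟨u, hu, 1, U₂.one_mem, by simp⟩
  have h2 : U₂ ≤ S := fun u hu => ⟨1, U₁.one_mem, u, hu, by simp⟩
  have h3 : (⊤ : Subgroup G) ≤ S := by
    rw [← hgen]; exact sup_le h1 h2
  exact h3 (Subgroup.mem_top g)

theorem normal_left (U₁ U₂ : Subgroup G)
    (hcomm : ∀ u ∈ U₁, ∀ v ∈ U₂, u * v = v * u) (hgen : U₁ ⊔ U₂ = ⊤) : U₁.Normal := by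
  constructor
  intro n hn g
  obtain ⟨v₁, hv₁, v₂, hv₂, rfl⟩ := exists_mul_of_sup_eq_top U₁ U₂ hcomm hgen g
  have : v₁ * v₂ * n * (v₁ * v₂)⁻¹ = v₁ * n * v₁⁻¹ := by
    calc v₁ * v₂ * n * (v₁ * v₂)⁻¹ = v₁ * (v₂ * n) * v₂⁻¹ * v₁⁻¹ := by group
      _ = v₁ * (n * v₂) * v₂⁻¹ * v₁⁻¹ := by rw [hcomm n hn v₂ hv₂]
      _ = v₁ * n * v₁⁻¹ := by group
  rw [this]
  exact U₁.mul_mem (U₁.mul_mem hv₁ hn) (U₁.inv_mem hv₁)

variable [Fintype G]

/-- Product formula for irreducible characters of a central product. -/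
theorem irr_mul_formula (U₁ U₂ : Subgroup G)
    (hcomm : ∀ u ∈ U₁, ∀ v ∈ U₂, u * v = v * u) (hgen : U₁ ⊔ U₂ = ⊤) (χ : IrrCharacter G)
    {u₁ u₂ : G} (h1 : u₁ ∈ U₁) (h2 : u₂ ∈ U₂) :
    (χ : G → ℂ) 1 * (χ : G → ℂ) (u₁ * u₂) = (χ : G → ℂ) u₁ * (χ : G → ℂ) u₂ := by
  classical
  have h := irr_sum_mul_char_mul χ (classIndicator u₁) (isClassFunction_classIndicator u₁) u₂
  have hL : ∀ g : G, classIndicator u₁ g * (χ : G → ℂ) (g * u₂) =
      classIndicator u₁ g * (χ : G → ℂ) (u₁ * u₂) := by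
    intro g
    by_cases hg : IsConj u₁ g
    · congr 1
      obtain ⟨c, hc⟩ := isConj_iff.mp hg
      obtain ⟨v₁, hv₁, v₂, hv₂, rfl⟩ := exists_mul_of_sup_eq_top U₁ U₂ hcomm hgen c
      have e1 : g = v₁ * u₁ * v₁⁻¹ := by
        rw [← hc]
        calc v₁ * v₂ * u₁ * (v₁ * v₂)⁻¹ = v₁ * (v₂ * u₁) * v₂⁻¹ * v₁⁻¹ := by group
          _ = v₁ * (u₁ * v₂) * v₂⁻¹ * v₁⁻¹ := by rw [hcomm u₁ h1 v₂ hv₂]
          _ = v₁ * u₁ * v₁⁻¹ := by group
      have e2 : g * u₂ = v₁ * (u₁ * u₂) * v₁⁻¹ := by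
        rw [e1]
        calc v₁ * u₁ * v₁⁻¹ * u₂ = v₁ * u₁ * (v₁⁻¹ * u₂) := by group
          _ = v₁ * u₁ * (u₂ * v₁⁻¹) := by rw [hcomm v₁⁻¹ (U₁.inv_mem hv₁) u₂ h2]
          _ = v₁ * (u₁ * u₂) * v₁⁻¹ := by group
      rw [e2]
      exact isClassFunction_irr χ _ _
    · rw [classIndicator_of_not_isConj hg, zero_mul, zero_mul]
  have hR : ∀ g : G, classIndicator u₁ g * (χ : G → ℂ) g =
      classIndicator u₁ g * (χ : G → ℂ) u₁ :=
    fun g => classIndicator_mul u₁ _ (isClassFunction_irr χ) g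
  simp only [hL, hR] at h
  rw [← Finset.sum_mul, ← Finset.sum_mul, sum_classIndicator] at h
  have hn : (Nat.card {x : G // IsConj u₁ x} : ℂ) ≠ 0 := by
    have : Nonempty {x : G // IsConj u₁ x} := ⟨⟨u₁, IsConj.refl u₁⟩⟩
    exact_mod_cast (Nat.card_pos (α := {x : G // IsConj u₁ x})).ne'
  apply mul_left_cancel₀ hn
  calc (Nat.card {x : G // IsConj u₁ x} : ℂ) * ((χ : G → ℂ) 1 * (χ : G → ℂ) (u₁ * u₂))
      = (χ : G → ℂ) 1 * ((Nat.card {x : G // IsConj u₁ x} : ℂ) * (χ : G → ℂ) (u₁ * u₂)) := by ring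
    _ = (χ : G → ℂ) u₂ * ((Nat.card {x : G // IsConj u₁ x} : ℂ) * (χ : G → ℂ) u₁) := h
    _ = _ := by ring

/-- The sum over `p`-regular elements factors. -/
theorem sum_regular_mul (p : ℕ) [hp : Fact p.Prime] (U₁ U₂ : Subgroup G) [Fintype U₁] [Fintype U₂]
    (hcomm : ∀ u ∈ U₁, ∀ v ∈ U₂, u * v = v * u) (hgen : U₁ ⊔ U₂ = ⊤)
    (hZ : IsPGroup p ↥(U₁ ⊓ U₂)) (χ : IrrCharacter G) :
    (χ : G → ℂ) 1 * ∑ x : G, regInd p x * (χ : G → ℂ) x =
      (∑ u : U₁, regInd p u * (χ : G → ℂ) u) * (∑ v : U₂, regInd p v * (χ : G → ℂ) v) := by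
  classical
  set a := (Nat.card G).factorization p with ha
  set n' := Nat.card G / p ^ a with hn'
  have hGn : p ^ a * n' = Nat.card G := Nat.ordProj_mul_ordCompl_eq_self (Nat.card G) p
  have hn'cop : Nat.Coprime n' p :=
    ((Nat.Prime.coprime_iff_not_dvd hp.out).mpr
      (Nat.not_dvd_ordCompl hp.out Nat.card_pos.ne')).symm
  -- p-regular elements have order dividing n'
  have hreg : ∀ y : G, ¬ p ∣ orderOf y → y ^ n' = 1 := by
    intro y hy
    have h1 : orderOf y ∣ p ^ a * n' := by rw [hGn]; exact orderOf_dvd_natCard y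
    have h2 : Nat.Coprime (orderOf y) (p ^ a) :=
      Nat.Coprime.pow_right _ ((Nat.Prime.coprime_iff_not_dvd hp.out).mpr hy).symm
    exact orderOf_dvd_iff_pow_eq_one.mp (h2.dvd_of_dvd_mul_left h1)
  have hreg' : ∀ y : G, y ^ n' = 1 → ¬ p ∣ orderOf y := by
    intro y hy hdvd
    have h1 : orderOf y ∣ n' := orderOf_dvd_of_pow_eq_one hy
    exact (Nat.Prime.coprime_iff_not_dvd hp.out).mp hn'cop.symm (dvd_trans hdvd h1)
  rw [Finset.sum_mul_sum, Finset.mul_sum]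
  -- sums over filtered sets
  have hLs : ∑ x : G, (χ : G → ℂ) 1 * (regInd p x * (χ : G → ℂ) x) =
      ∑ x ∈ (Finset.univ : Finset G).filter (fun x => ¬ p ∣ orderOf x),
        (χ : G → ℂ) 1 * (χ : G → ℂ) x := by
    rw [Finset.sum_filter]
    refine Finset.sum_congr rfl ?_
    intro x _
    by_cases hx : p ∣ orderOf x
    · rw [regInd_of_dvd hx, if_neg (not_not.mpr hx)]; ring
    · rw [regInd_of_not_dvd hx, if_pos hx]; ring
  have hRs : ∑ u : U₁, ∑ v : U₂, regInd p u * (χ : G → ℂ) u * (regInd p v * (χ : G → ℂ) v) =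
      ∑ q ∈ (Finset.univ : Finset (U₁ × U₂)).filter
        (fun q => ¬ p ∣ orderOf (q.1 : G) ∧ ¬ p ∣ orderOf (q.2 : G)),
        (χ : G → ℂ) 1 * (χ : G → ℂ) ((q.1 : G) * (q.2 : G)) := by
    rw [← Finset.sum_product', Finset.sum_filter]
    refine Finset.sum_congr rfl ?_
    rintro ⟨u, v⟩ _
    simp only
    by_cases hu : p ∣ orderOf (u : G)
    · have : p ∣ orderOf u := by rwa [← Subgroup.orderOf_coe]
      rw [regInd_of_dvd this, if_neg (fun h => h.1 hu)]; ring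
    · have hu' : ¬ p ∣ orderOf u := by rwa [← Subgroup.orderOf_coe]
      by_cases hv : p ∣ orderOf (v : G)
      · have : p ∣ orderOf v := by rwa [← Subgroup.orderOf_coe]
        rw [regInd_of_dvd this, if_neg (fun h => h.2 hv)]; ring
      · have hv' : ¬ p ∣ orderOf v := by rwa [← Subgroup.orderOf_coe]
        rw [regInd_of_not_dvd hu', regInd_of_not_dvd hv', if_pos ⟨hu, hv⟩,
          irr_mul_formula U₁ U₂ hcomm hgen χ u.2 v.2]
        ring
  rw [hLs, hRs]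
  symm
  refine Finset.sum_bij (fun q _ => (q.1 : G) * (q.2 : G)) ?_ ?_ ?_ ?_
  · -- maps into the regular elements
    intro q hq
    rw [Finset.mem_filter] at hq ⊢
    refine ⟨Finset.mem_univ _, ?_⟩
    apply hreg'
    have hc : Commute (q.1 : G) (q.2 : G) := hcomm _ q.1.2 _ q.2.2
    rw [hc.mul_pow, hreg _ hq.2.1, hreg _ hq.2.2, one_mul]
  · -- injective
    intro q hq r hr heq
    rw [Finset.mem_filter] at hq hr
    -- z = r.1⁻¹ q.1 = r.2 q.2⁻¹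
    set z : G := (r.1 : G)⁻¹ * (q.1 : G) with hz
    have hz2 : z = (r.2 : G) * (q.2 : G)⁻¹ := by
      rw [hz]
      have : (q.1 : G) = (r.1 : G) * (r.2 : G) * (q.2 : G)⁻¹ := by
        rw [← heq]; group
      rw [this]; group
    have hzU₁ : z ∈ U₁ := U₁.mul_mem (U₁.inv_mem r.1.2) q.1.2
    have hzU₂ : z ∈ U₂ := by rw [hz2]; exact U₂.mul_mem r.2.2 (U₂.inv_mem q.2.2)
    have hq1 : (q.1 : G) = (r.1 : G) * z := by rw [hz]; group
    have hcz : Commute (r.1 : G) z := hcomm _ r.1.2 _ hzU₂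
    have hzn : z ^ n' = 1 := by
      have := hreg _ hq.2.1
      rw [hq1, hcz.mul_pow, hreg _ hr.2.1, one_mul] at this
      exact this
    obtain ⟨k, hk⟩ := (IsPGroup.iff_orderOf.mp hZ) ⟨z, Subgroup.mem_inf.mpr ⟨hzU₁, hzU₂⟩⟩
    have hk' : orderOf z = p ^ k := by
      rw [← hk, ← Subgroup.orderOf_coe]
    have hz1 : z = 1 := by
      have h1 : orderOf z ∣ n' := orderOf_dvd_of_pow_eq_one hzn
      have h2 : Nat.Coprime (orderOf z) n' := by
        rw [hk']; exact Nat.Coprime.pow_left _ hn'cop.symm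
      exact orderOf_eq_one_iff.mp (Nat.Coprime.eq_one_of_dvd h2 h1)
    have e1 : (q.1 : G) = (r.1 : G) := by rw [hq1, hz1, mul_one]
    have e2 : (q.2 : G) = (r.2 : G) := by
      rw [e1] at heq
      exact mul_left_cancel heq
    exact Prod.ext (Subtype.ext e1) (Subtype.ext e2)
  · -- surjective
    intro b hb
    rw [Finset.mem_filter] at hb
    obtain ⟨v₁, hv₁, v₂, hv₂, hbv⟩ := exists_mul_of_sup_eq_top U₁ U₂ hcomm hgen b
    obtain ⟨e, he1, he0⟩ := Nat.chineseRemainder (Nat.Coprime.pow_right a hn'cop) 1 0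
    have hbn : b ^ n' = 1 := hreg b hb.2
    have hbe : b ^ e = b := by
      have h1 : orderOf b ∣ n' := orderOf_dvd_of_pow_eq_one hbn
      have h2 : e ≡ 1 [MOD orderOf b] := Nat.ModEq.of_dvd h1 he1
      have := pow_eq_pow_iff_modEq.mpr h2
      rwa [pow_one] at this
    have hpe : p ^ a ∣ e := (Nat.modEq_zero_iff_dvd).mp he0
    have hpow : ∀ y : G, (y ^ e) ^ n' = 1 := by
      intro y
      rw [← pow_mul]
      apply orderOf_dvd_iff_pow_eq_one.mp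
      refine dvd_trans (orderOf_dvd_natCard y) ?_
      rw [← hGn]
      exact Nat.mul_dvd_mul_right hpe n'
    refine ⟨(⟨v₁ ^ e, U₁.pow_mem hv₁ e⟩, ⟨v₂ ^ e, U₂.pow_mem hv₂ e⟩), ?_, ?_⟩
    · rw [Finset.mem_filter]
      exact ⟨Finset.mem_univ _, hreg' _ (hpow v₁), hreg' _ (hpow v₂)⟩
    · simp only
      have hc : Commute v₁ v₂ := hcomm _ hv₁ _ hv₂
      rw [← hc.mul_pow, ← hbv, hbe]
  · intro q _
    rfl


variable {M : Ideal AlgInt}

/-- Principal block criterion: `χ ∈ B₀` iff its sum over `p`-regular elements is nonzero. -/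
theorem mem_principalBlock_iff {p : ℕ} [hp : Fact p.Prime] (hM : IsPModular p M)
    (χ : IrrCharacter G) : χ ∈ principalBlock M G ↔ act (regInd p) χ ≠ 0 := by
  haveI : Fintype (IrrCharacter G) := Fintype.ofFinite _
  have hMp := isPrime_of_isPModular hM
  constructor
  · intro hχ h0
    have hs : SameBlock M ((trivIrr G : IrrCharacter G) : G → ℂ) (χ : G → ℂ) := hχ
    have := act_sub_act_memLocalIdeal hMp (isClassFunction_regInd p) (lr_regInd hMp p) hs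
    rw [h0, sub_zero, act_regInd_trivIrr] at this
    exact not_memLocalIdeal_sum_regInd hM this
  · intro h
    by_contra hχ
    exact h (act_regInd_eq_zero_of_not_mem hM χ hχ)

/-- **Central products**: `χ` lies in the principal block iff its constituents on the two
factors do. -/
theorem mem_principalBlock_iff_of_central_product {p : ℕ} [hp : Fact p.Prime]
    (hM : IsPModular p M) (U₁ U₂ : Subgroup G) [Fintype U₁] [Fintype U₂]
    (hcomm : ∀ u ∈ U₁, ∀ v ∈ U₂, u * v = v * u) (hgen : U₁ ⊔ U₂ = ⊤)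
    (hZ : IsPGroup p ↥(U₁ ⊓ U₂)) (χ : IrrCharacter G) (ψ₁ : IrrCharacter U₁)
    (ψ₂ : IrrCharacter U₂)
    (h₁ : classInner (fun u : U₁ => (χ : G → ℂ) u) (ψ₁ : U₁ → ℂ) ≠ 0)
    (h₂ : classInner (fun u : U₂ => (χ : G → ℂ) u) (ψ₂ : U₂ → ℂ) ≠ 0) :
    χ ∈ principalBlock M G ↔ (ψ₁ ∈ principalBlock M U₁ ∧ ψ₂ ∈ principalBlock M U₂) := by
  have hn1 : U₁.Normal := normal_left U₁ U₂ hcomm hgen
  have hn2 : U₂.Normal :=
    normal_left U₂ U₁ (fun u hu v hv => (hcomm v hv u hu).symm) (by rw [sup_comm]; exact hgen)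
  rw [mem_principalBlock_iff hM, mem_principalBlock_iff hM, mem_principalBlock_iff hM]
  have hχ1 : (χ : G → ℂ) 1 ≠ 0 := irr_one_ne_zero χ
  have e1 := Cfsg.Agent.Helper5.RS.restrict_scalar_eq U₁ χ ψ₁ h₁ (regInd p)
    (isClassFunction_regInd p)
  have e2 := Cfsg.Agent.Helper5.RS.restrict_scalar_eq U₂ χ ψ₂ h₂ (regInd p)
    (isClassFunction_regInd p)
  have a1 : act (regInd p) ψ₁ = (∑ t : U₁, regInd p (t : G) * (χ : G → ℂ) t) / (χ : G → ℂ) 1 := by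
    rw [← e1, act]
    congr 1
    refine Finset.sum_congr rfl ?_
    intro t _
    rw [regInd_coe]
  have a2 : act (regInd p) ψ₂ = (∑ t : U₂, regInd p (t : G) * (χ : G → ℂ) t) / (χ : G → ℂ) 1 := by
    rw [← e2, act]
    congr 1
    refine Finset.sum_congr rfl ?_
    intro t _
    rw [regInd_coe]
  have hprod : act (regInd p) χ = act (regInd p) ψ₁ * act (regInd p) ψ₂ := by
    have h := sum_regular_mul p U₁ U₂ hcomm hgen hZ χ
    have h' : (∑ u : U₁, regInd p u * (χ : G → ℂ) u) =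
        ∑ t : U₁, regInd p (t : G) * (χ : G → ℂ) t := by
      refine Finset.sum_congr rfl ?_
      intro t _
      rw [regInd_coe]
    have h'' : (∑ u : U₂, regInd p u * (χ : G → ℂ) u) =
        ∑ t : U₂, regInd p (t : G) * (χ : G → ℂ) t := by
      refine Finset.sum_congr rfl ?_
      intro t _
      rw [regInd_coe]
    rw [h', h''] at h
    rw [a1, a2, act, div_mul_div_comm, ← h]
    field_simp
  rw [hprod, mul_ne_zero_iff]

end Cfsg.Agent.Helper8.CentralProduct
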