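import Mathlib
import Cfsg.Prelude.Def_Characters
import Cfsg.Prelude.Def_KGroupFacts
import Cfsg.Agent.Helper24.ProjLiftGL

/-!
Stem extensions through which all projective representations lift: the kernel of every other finite
stem extension is a homomorphic image of their kernel.
-/

set_option autoImplicit false

namespace Cfsg.Agent.Helper8.Stem

open Cfsg Cfsg.Agent.Helper24

open scoped commutatorElement

universe u v w

section Rep

/-- a matrix representation of a finite group in which a given non-identity element acts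
non-trivially and the centre acts by scalars -/
theorem exists_rep_ne_one {Δ : Type u} [Group Δ] [Finite Δ] (k : Δ) (hk : k ≠ 1) :
    ∃ (n : ℕ) (Xm : Δ →* GLn n), Xm k ≠ 1 ∧
      ∀ z ∈ Subgroup.center Δ, Xm z ∈ Subgroup.center (GLn n) := by
  classical
  haveI : Fintype Δ := Fintype.ofFinite Δ
  haveI : Fintype (IrrCharacter Δ) := Fintype.ofFinite _
  have hnc : ¬ IsConj k 1 := by
    intro hc
    rw [isConj_comm, isConj_one_right] at hc
    exact hk hc
  rw [isConj_iff_forall_irr] at hnc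
  push Not at hnc
  obtain ⟨χ, hχ⟩ := hnc
  obtain ⟨n, X, hXirr, hXχ⟩ := χ.2
  haveI := hXirr
  let Xm : Δ →* GLn n :=
    (Matrix.GeneralLinearGroup.toLin (n := Fin n) (R := ℂ)).symm.toMonoidHom.comp
      (MonoidHom.toHomUnits X)
  have hXm : ∀ g : Δ, ((Matrix.GeneralLinearGroup.toLin (Xm g) :
      LinearMap.GeneralLinearGroup ℂ (Fin n → ℂ)) : Module.End ℂ (Fin n → ℂ)) = X g := by
    intro g
    show ((Matrix.GeneralLinearGroup.toLin
      ((Matrix.GeneralLinearGroup.toLin (n := Fin n) (R := ℂ)).symm (MonoidHom.toHomUnits X g)) :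
      LinearMap.GeneralLinearGroup ℂ (Fin n → ℂ)) : Module.End ℂ (Fin n → ℂ)) = X g
    rw [MulEquiv.apply_symm_apply]
    rfl
  refine ⟨n, Xm, ?_, ?_⟩
  · intro h1
    have h2 : X k = 1 := by
      rw [← hXm k, h1, map_one]
      rfl
    apply hχ
    rw [← hXχ]
    show LinearMap.trace ℂ _ (X k) = LinearMap.trace ℂ _ (X 1)
    rw [h2]
    exact congrArg _ (map_one X).symm
  · intro z' hz'
    have hcomm : ∀ g : Δ, X z' ∘ₗ X g = X g ∘ₗ X z' := by
      intro g
      have h1 := Subgroup.mem_center_iff.mp hz' g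
      show X z' * X g = X g * X z'
      rw [← map_mul, ← map_mul, h1]
    obtain ⟨c, hc⟩ := Cfsg.Agent.Helper24.exists_scalar_of_commute X (X z') hcomm
    rw [Subgroup.mem_center_iff]
    intro A
    apply (Matrix.GeneralLinearGroup.toLin (n := Fin n) (R := ℂ)).injective
    apply Units.ext
    rw [map_mul, map_mul, Units.val_mul, Units.val_mul, hXm, hc]
    ext v
    simp

end Rep

section Fibre

variable {Q : Type u} {Γ : Type v} {Δ : Type w} [Group Q] [Group Γ] [Group Δ]

/-- the fibre product of two homomorphisms to `Q` -/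
def fibre (σ : Γ →* Q) (τ : Δ →* Q) : Subgroup (Γ × Δ) :=
  MonoidHom.eqLocus (σ.comp (MonoidHom.fst Γ Δ)) (τ.comp (MonoidHom.snd Γ Δ))

theorem mem_fibre (σ : Γ →* Q) (τ : Δ →* Q) (p : Γ × Δ) : p ∈ fibre σ τ ↔ σ p.1 = τ p.2 :=
  Iff.rfl

/-- first projection of the fibre product -/
def fibreFst (σ : Γ →* Q) (τ : Δ →* Q) : fibre σ τ →* Γ :=
  (MonoidHom.fst Γ Δ).comp (fibre σ τ).subtype

/-- second projection of the fibre product -/
def fibreSnd (σ : Γ →* Q) (τ : Δ →* Q) : fibre σ τ →* Δ :=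
  (MonoidHom.snd Γ Δ).comp (fibre σ τ).subtype

theorem fibreFst_surjective (σ : Γ →* Q) (τ : Δ →* Q) (hτ : Function.Surjective τ) :
    Function.Surjective (fibreFst σ τ) := by
  intro g
  obtain ⟨d, hd⟩ := hτ (σ g)
  exact ⟨⟨(g, d), hd.symm⟩, rfl⟩

theorem fibreSnd_surjective (σ : Γ →* Q) (τ : Δ →* Q) (hσ : Function.Surjective σ) :
    Function.Surjective (fibreSnd σ τ) := by
  intro d
  obtain ⟨g, hg⟩ := hσ (τ d)
  exact ⟨⟨(g, d), hg⟩, rfl⟩

/-- the image of the commutator subgroup under a surjective homomorphism -/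
theorem exists_mem_commutator_of_surjective {A B : Type*} [Group A] [Group B] (f : A →* B)
    (hf : Function.Surjective f) (b : B) (hb : b ∈ commutator B) :
    ∃ a ∈ commutator A, f a = b := by
  have h1 : (commutator A).map f = commutator B := by
    rw [commutator_def, Subgroup.map_commutator, Subgroup.map_top_of_surjective _ hf,
      ← commutator_def]
  rw [← h1] at hb
  obtain ⟨a, ha, rfl⟩ := hb
  exact ⟨a, ha, rfl⟩

end Fibre

section Main

variable {Q : Type u} {Γ : Type v} {Δ : Type w} [Group Q] [Group Γ] [Group Δ]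

/-- A subgroup of a product of two abelian subgroups projecting onto both with trivial intersection
with the second factor is the graph of a surjective homomorphism. -/
theorem exists_surjective_of_graph (A : Subgroup Γ) (B : Subgroup Δ) (D : Subgroup (Γ × Δ))
    (h1 : ∀ a ∈ A, ∃ b ∈ B, (a, b) ∈ D) (h2 : ∀ b ∈ B, ∃ a ∈ A, (a, b) ∈ D)
    (h3 : ∀ b : Δ, ((1 : Γ), b) ∈ D → b = 1) :
    ∃ π : A →* B, Function.Surjective π := by
  classical
  choose f hfB hfD using h1
  have huniq : ∀ (a : Γ) (b b' : Δ), (a, b) ∈ D → (a, b') ∈ D → b = b' := by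
    intro a b b' hb hb'
    have h4 : ((a, b)⁻¹ * (a, b') : Γ × Δ) ∈ D := D.mul_mem (D.inv_mem hb) hb'
    have h5 : ((a, b)⁻¹ * (a, b') : Γ × Δ) = (1, b⁻¹ * b') := by
      ext <;> simp
    rw [h5] at h4
    have := h3 _ h4
    exact inv_mul_eq_one.mp this
  refine ⟨{ toFun := fun a => ⟨f a.1 a.2, hfB a.1 a.2⟩
            map_one' := ?_
            map_mul' := ?_ }, ?_⟩
  · apply Subtype.ext
    exact huniq 1 _ 1 (hfD 1 A.one_mem) D.one_mem
  · intro a a'
    apply Subtype.ext
    have h4 : ((a.1, f a.1 a.2) * (a'.1, f a'.1 a'.2) : Γ × Δ) ∈ D :=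
      D.mul_mem (hfD a.1 a.2) (hfD a'.1 a'.2)
    exact huniq (a.1 * a'.1) _ _ (hfD _ (A.mul_mem a.2 a'.2)) h4
  · intro b
    obtain ⟨a, ha, hab⟩ := h2 b.1 b.2
    refine ⟨⟨a, ha⟩, ?_⟩
    apply Subtype.ext
    exact huniq a _ _ (hfD a ha) hab

/-- If all projective representations of `Q` lift through the stem extension `σ`, then the kernel of
every finite stem extension of `Q` is an image of the kernel of `σ`. -/
theorem exists_ker_surjection_of_lifts [Finite Δ] (σ : Γ →* Q) (hσ : IsStemExtension σ)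
    (hlift : ∀ (n : ℕ) (γ : Q →* (GLn n ⧸ Subgroup.center (GLn n))),
      ∃ ρ : Γ →* GLn n, (QuotientGroup.mk' (Subgroup.center (GLn n))).comp ρ = γ.comp σ)
    (τ : Δ →* Q) (hτ : IsStemExtension τ) :
    ∃ π : σ.ker →* τ.ker, Function.Surjective π := by
  classical
  -- the relevant subgroup of the product
  let D : Subgroup (Γ × Δ) := (commutator (fibre σ τ)).map (fibre σ τ).subtype
  apply exists_surjective_of_graph σ.ker τ.ker D
  · intro g hg
    obtain ⟨y, hy, hyg⟩ := exists_mem_commutator_of_surjective (fibreFst σ τ)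
      (fibreFst_surjective σ τ hτ.1) g (hσ.2.2 hg)
    refine ⟨(y : Γ × Δ).2, ?_, ?_⟩
    · rw [MonoidHom.mem_ker]
      have h1 : σ (y : Γ × Δ).1 = τ (y : Γ × Δ).2 := y.2
      have h2 : (y : Γ × Δ).1 = g := hyg
      rw [← h1, h2]
      exact MonoidHom.mem_ker.mp hg
    · refine ⟨y, hy, ?_⟩
      have h2 : (y : Γ × Δ).1 = g := hyg
      rw [← h2]
      rfl
  · intro d hd
    obtain ⟨y, hy, hyd⟩ := exists_mem_commutator_of_surjective (fibreSnd σ τ)
      (fibreSnd_surjective σ τ hσ.1) d (hτ.2.2 hd)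
    refine ⟨(y : Γ × Δ).1, ?_, ?_⟩
    · rw [MonoidHom.mem_ker]
      have h1 : σ (y : Γ × Δ).1 = τ (y : Γ × Δ).2 := y.2
      have h2 : (y : Γ × Δ).2 = d := hyd
      rw [h1, h2]
      exact MonoidHom.mem_ker.mp hd
    · refine ⟨y, hy, ?_⟩
      have h2 : (y : Γ × Δ).2 = d := hyd
      rw [← h2]
      rfl
  · intro k hk
    obtain ⟨y, hy, hyk⟩ := hk
    by_contra hne
    obtain ⟨n, Xm, hXk, hXc⟩ := exists_rep_ne_one k hne
    have hker : τ.ker ≤ ((QuotientGroup.mk' (Subgroup.center (GLn n))).comp Xm).ker := by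
      intro z' hz'
      rw [MonoidHom.mem_ker, MonoidHom.comp_apply, QuotientGroup.mk'_apply,
        QuotientGroup.eq_one_iff]
      exact hXc z' (hτ.2.1 hz')
    obtain ⟨ρ, hρ⟩ := hlift n (τ.liftOfSurjective hτ.1
      ⟨(QuotientGroup.mk' (Subgroup.center (GLn n))).comp Xm, hker⟩)
    have hmod : ∀ y : fibre σ τ, ((ρ.comp (fibreFst σ τ)) y)⁻¹ * (Xm.comp (fibreSnd σ τ)) y ∈
        Subgroup.center (GLn n) := by
      intro y
      rw [← QuotientGroup.eq]
      have h1 := congrArg (fun f : Γ →* (GLn n ⧸ Subgroup.center (GLn n)) =>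
        f (fibreFst σ τ y)) hρ
      simp only [MonoidHom.comp_apply, QuotientGroup.mk'_apply] at h1
      rw [MonoidHom.comp_apply, h1]
      have h2 : σ (fibreFst σ τ y) = τ (fibreSnd σ τ y) := y.2
      rw [h2, MonoidHom.liftOfRightInverse_comp_apply]
      rfl
    have h1 : (Xm.comp (fibreSnd σ τ)) y = (ρ.comp (fibreFst σ τ)) y :=
      eq_on_commutator_of_eq_mod_center _ _ hmod y hy
    have h3 : (y : Γ × Δ) = (1, k) := hyk
    have h4 : fibreSnd σ τ y = k := by
      show (y : Γ × Δ).2 = k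
      rw [h3]
    have h5 : fibreFst σ τ y = 1 := by
      show (y : Γ × Δ).1 = 1
      rw [h3]
    rw [MonoidHom.comp_apply, MonoidHom.comp_apply, h4, h5, map_one] at h1
    exact hXk h1

end Main

end Cfsg.Agent.Helper8.Stem
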