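import Mathlib
import Cfsg.Prelude.Def_KGroupFacts
import Cfsg.Agent.Helper8.CarryTwist
import Cfsg.Agent.Helper8.StemLift
import Cfsg.Agent.Helper20.StemGen

/-!
A Schur cover and its carry twist are not isomorphic over the group; hence two covers that are not
isomorphic over the group exist when the orders of the commutator quotient and of the multiplier
are not coprime.
-/

set_option autoImplicit false

namespace Cfsg.Agent.Helper8.CarryTwist

open Cfsg Cfsg.Agent.Helper8.Stem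

open scoped commutatorElement

universe u v

section NonIso

variable {Γ : Type u} [Group Γ] {n : ℕ} [NeZero n] {d : TwistData Γ n} {Q : Type v} [Group Q]
  (σ : Γ →* Q)

theorem z₀_eq_pow_of_equiv (hσ : σ d.z₀ = 1) (hker : ∀ g ∈ σ.ker, d.l g = 0)
    (hs : IsStemExtension σ) (e : Γ ≃* Tw d)
    (he : (Tw.proj σ d hσ).comp e.toMonoidHom = σ) (hn : 1 < n) (t : Γ) (ht : d.l t = 1)
    (htn : t ^ n ∈ commutator Γ) : ∃ u ∈ σ.ker, d.z₀ = u ^ n := by
  have hE1 : ∀ g, σ (e g).val = σ g := fun g => DFunLike.congr_fun he g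
  have hw : ∀ g, g⁻¹ * (e g).val ∈ σ.ker := by
    intro g
    rw [MonoidHom.mem_ker, map_mul, map_inv, hE1, inv_mul_cancel]
  have hl : ∀ g, d.l (e g).val = d.l g := by
    intro g
    have h1 := hker _ (hw g)
    rw [d.l_mul, d.l_inv] at h1
    have h2 : d.l (e g).val = d.l g + (-d.l g + d.l (e g).val) := by abel
    rw [h2, h1, add_zero]
  have hE2 : ∀ g h, (e (g * h)).val = (e g).val * (e h).val * d.z₀ ^ carry (d.l g) (d.l h) := by
    intro g h
    rw [map_mul, Tw.val_mul, hl, hl]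
  have hE3 : ∀ g h : Γ, (e ⁅g, h⁆).val = ⁅g, h⁆ := by
    intro g h
    rw [map_commutatorElement, Tw.val_commutator]
    have h1 : (e g).val = g * (g⁻¹ * (e g).val) := by group
    have h2 : (e h).val = h * (h⁻¹ * (e h).val) := by group
    rw [h1, h2, Cfsg.Agent.Helper20.commutatorElement_mul_central_left _ _ _ (hs.2.1 (hw g)),
      Cfsg.Agent.Helper20.commutatorElement_mul_central_right _ _ _ (hs.2.1 (hw h))]
  have hE4 : ∀ g ∈ commutator Γ, (e g).val = g := by
    intro g hg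
    have hg' := hg
    rw [commutator_eq_closure] at hg'
    induction hg' using Subgroup.closure_induction with
    | mem x hx =>
      obtain ⟨a, b, rfl⟩ := hx
      exact hE3 a b
    | one => rw [map_one, Tw.val_one]
    | mul x y hx hy hx' hy' =>
      have hxc : x ∈ commutator Γ := by rw [commutator_eq_closure]; exact hx
      have hyc : y ∈ commutator Γ := by rw [commutator_eq_closure]; exact hy
      rw [hE2, hx' hxc, hy' hyc, d.l_eq_zero_of_mem_commutator hxc, carry_zero_left, pow_zero,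
        mul_one]
    | inv x hx hx' =>
      have hxc : x ∈ commutator Γ := by rw [commutator_eq_closure]; exact hx
      have h1 : d.l (e x).val = 0 := by rw [hl, d.l_eq_zero_of_mem_commutator hxc]
      rw [map_inv, Tw.val_inv_of h1, hx' hxc]
  -- powers of `t`
  have hlt : ∀ k : ℕ, d.l (t ^ k) = (k : ZMod n) := by
    intro k
    induction k with
    | zero => rw [pow_zero, d.l_one, Nat.cast_zero]
    | succ k ih => rw [pow_succ, d.l_mul, ih, ht, Nat.cast_succ]
  have hone : (1 : ZMod n).val = 1 := ZMod.val_one'' (by omega)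
  have hE5 : ∀ k : ℕ, k < n → (e (t ^ k)).val = (e t).val ^ k := by
    intro k
    induction k with
    | zero =>
      intro _
      rw [pow_zero, pow_zero, map_one, Tw.val_one]
    | succ k ih =>
      intro hk
      have h1 : carry (d.l (t ^ k)) (d.l t) = 0 := by
        rw [hlt, ht, carry, hone, ZMod.val_natCast_of_lt (by omega)]
        exact Nat.div_eq_of_lt hk
      rw [pow_succ, hE2, ih (by omega), h1, pow_zero, mul_one, pow_succ]
  have h2 : (e (t ^ n)).val = (e t).val ^ n * d.z₀ := by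
    obtain ⟨k, rfl⟩ : ∃ k, n = k + 1 := ⟨n - 1, by omega⟩
    have h1 : carry (d.l (t ^ k)) (d.l t) = 1 := by
      rw [hlt, ht, carry, hone, ZMod.val_natCast_of_lt (by omega)]
      exact Nat.div_self (by omega)
    rw [pow_succ, hE2, hE5 k (by omega), h1, pow_one, pow_succ]
  rw [hE4 _ htn] at h2
  -- compare
  have h3 : (e t).val = t * (t⁻¹ * (e t).val) := by group
  have hc : Commute t (t⁻¹ * (e t).val) :=
    show t * (t⁻¹ * (e t).val) = (t⁻¹ * (e t).val) * t from
      Subgroup.mem_center_iff.mp (hs.2.1 (hw t)) t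
  rw [h3, hc.mul_pow, mul_assoc] at h2
  have h4 : (t⁻¹ * (e t).val) ^ n * d.z₀ = 1 := by
    have h5 : t ^ n * 1 = t ^ n * ((t⁻¹ * (e t).val) ^ n * d.z₀) := by rw [mul_one]; exact h2
    exact (mul_left_cancel h5).symm
  refine ⟨(t⁻¹ * (e t).val)⁻¹, Subgroup.inv_mem _ (hw t), ?_⟩
  rw [inv_pow]
  exact (eq_inv_of_mul_eq_one_right h4)

end NonIso

section Main

variable {Q : Type u} [Group Q] [Finite Q]

instance instFiniteTw {Γ : Type u} [Group Γ] [Finite Γ] {n : ℕ} (d : TwistData Γ n) :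
    Finite (Tw d) :=
  Finite.of_injective (fun x : Tw d => x.val) (fun _ _ h => Tw.ext' h)

theorem exists_not_equiv_of_not_coprime {A : Type v} [CommGroup A]
    (hA : HasSchurMultiplier Q A)
    (hnc : ¬ Nat.Coprime (Nat.card (Abelianization Q)) (Nat.card A)) :
    ∃ (Γ₁ Γ₂ : Type u) (_ : Group Γ₁) (_ : Finite Γ₁) (_ : Group Γ₂) (_ : Finite Γ₂)
      (σ₁ : Γ₁ →* Q) (σ₂ : Γ₂ →* Q), IsStemExtension σ₁ ∧ IsStemExtension σ₂ ∧
        Nonempty (σ₁.ker ≃* A) ∧ Nonempty (σ₂.ker ≃* A) ∧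
          ¬ ∃ e : Γ₁ ≃* Γ₂, σ₂.comp e.toMonoidHom = σ₁ := by
  classical
  obtain ⟨⟨Γ, i1, i2, σ, hs, ⟨e₁⟩⟩, -⟩ := hA
  obtain ⟨p, hp, hpm, hpa⟩ := Nat.Prime.not_coprime_iff_dvd.mp hnc
  haveI : Fact p.Prime := ⟨hp⟩
  -- a cyclic direct factor of the commutator quotient of order divisible by `p`
  obtain ⟨ι, hι, n, hn1, ⟨φ⟩⟩ :=
    CommGroup.equiv_prod_multiplicative_zmod_of_finite (Abelianization Q)
  have hcard : Nat.card (Abelianization Q) = ∏ i, n i := by
    rw [Nat.card_congr φ.toEquiv, Nat.card_pi]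
    refine Finset.prod_congr rfl (fun i _ => ?_)
    rw [Nat.card_congr (Multiplicative.toAdd : Multiplicative (ZMod (n i)) ≃ ZMod (n i)),
      Nat.card_zmod]
  rw [hcard] at hpm
  obtain ⟨i₀, -, hi₀⟩ := (Prime.dvd_finset_prod_iff hp.prime _).mp hpm
  haveI : NeZero (n i₀) := ⟨by have := hn1 i₀; omega⟩
  let lam : Γ →* Multiplicative (ZMod (n i₀)) :=
    (Pi.evalMonoidHom (fun i => Multiplicative (ZMod (n i))) i₀).comp
      (φ.toMonoidHom.comp (Abelianization.of.comp σ))
  have hlam : ∀ g, lam g = φ (Abelianization.of (σ g)) i₀ := fun g => rfl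
  -- an element of the kernel that is not an `n i₀`-th power
  have hcardk : Nat.card σ.ker = Nat.card A := Nat.card_congr e₁.toEquiv
  obtain ⟨c, hc⟩ := exists_prime_orderOf_dvd_card' (G := σ.ker) p (by rw [hcardk]; exact hpa)
  have hninj : ¬ Function.Injective (fun z : σ.ker => z ^ n i₀) := by
    intro hinj
    have h1 : c ^ n i₀ = (1 : σ.ker) ^ n i₀ := by
      rw [one_pow]
      exact orderOf_dvd_iff_pow_eq_one.mp (hc ▸ hi₀)
    have h2 : c = 1 := hinj h1
    rw [h2, orderOf_one] at hc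
    exact hp.one_lt.ne hc
  have hnsurj : ¬ Function.Surjective (fun z : σ.ker => z ^ n i₀) :=
    fun h => hninj (Finite.injective_iff_surjective.mpr h)
  obtain ⟨z₀, hz₀⟩ : ∃ z₀ : σ.ker, ∀ z : σ.ker, z ^ n i₀ ≠ z₀ := by
    by_contra hcon
    apply hnsurj
    intro z₀
    by_contra h3
    exact hcon ⟨z₀, fun z hz => h3 ⟨z, hz⟩⟩
  have hlamker : ∀ g ∈ σ.ker, lam g = 1 := by
    intro g hg
    rw [hlam, MonoidHom.mem_ker.mp hg, map_one, map_one]
    rfl
  let d : TwistData Γ (n i₀) :=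
    { lam := lam
      z₀ := z₀
      central := hs.2.1 z₀.2
      lam_z₀ := hlamker _ z₀.2 }
  have hσz : σ d.z₀ = 1 := MonoidHom.mem_ker.mp z₀.2
  have hker : ∀ g ∈ σ.ker, d.l g = 0 := by
    intro g hg
    show Multiplicative.toAdd (lam g) = 0
    rw [hlamker g hg]
    rfl
  refine ⟨Γ, Tw d, i1, i2, inferInstance, inferInstance, σ, Tw.proj σ d hσz, hs,
    Tw.isStemExtension_proj σ hσz hker hs, ⟨e₁⟩, ⟨(Tw.kerEquiv σ hσz hker).trans e₁⟩, ?_⟩
  rintro ⟨e, he⟩
  -- the element `t`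
  obtain ⟨x, hx⟩ := φ.surjective (Pi.mulSingle i₀ (Multiplicative.ofAdd (1 : ZMod (n i₀))))
  obtain ⟨q, hq⟩ := QuotientGroup.mk'_surjective (commutator Q) x
  obtain ⟨t, ht⟩ := hs.1 q
  have hφt : φ (Abelianization.of (σ t)) =
      Pi.mulSingle i₀ (Multiplicative.ofAdd (1 : ZMod (n i₀))) := by
    rw [ht]
    show φ (QuotientGroup.mk' (commutator Q) q) = _
    rw [hq, hx]
  have hlt : d.l t = 1 := by
    show Multiplicative.toAdd (lam t) = 1
    rw [hlam, hφt, Pi.mulSingle_eq_same]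
    rfl
  have htn : t ^ n i₀ ∈ commutator Γ := by
    have h1 : σ (t ^ n i₀) ∈ commutator Q := by
      rw [← Abelianization.ker_of, MonoidHom.mem_ker]
      apply φ.injective
      rw [map_pow σ, map_pow Abelianization.of, map_pow φ, hφt, map_one φ, ← Pi.mulSingle_pow,
        ← ofAdd_nsmul]
      have h2 : n i₀ • (1 : ZMod (n i₀)) = 0 := by
        rw [nsmul_eq_mul, mul_one]
        exact ZMod.natCast_self (n i₀)
      rw [h2]
      exact Pi.mulSingle_one i₀
    obtain ⟨c', hc', hcq⟩ := exists_mem_commutator_of_surjective σ hs.1 _ h1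
    have h3 : c'⁻¹ * t ^ n i₀ ∈ σ.ker := by
      rw [MonoidHom.mem_ker, map_mul, map_inv, hcq, inv_mul_cancel]
    have h4 : t ^ n i₀ = c' * (c'⁻¹ * t ^ n i₀) := by group
    rw [h4]
    exact Subgroup.mul_mem _ hc' (hs.2.2 h3)
  obtain ⟨u, hu, hzu⟩ := z₀_eq_pow_of_equiv σ hσz hker hs e he (hn1 i₀) t hlt htn
  exact hz₀ ⟨u, hu⟩ (Subtype.ext hzu.symm)

end Main

end Cfsg.Agent.Helper8.CarryTwist
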