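import Mathlib
import Cfsg.Prelude.Def_KGroupFacts
import Cfsg.Agent.Helper8.HopfMult
import Cfsg.Agent.Helper8.StemLift

/-!
Two Schur covers of a finite group whose commutator quotient has order coprime to the multiplier
are isomorphic over the group.
-/

set_option autoImplicit false

namespace Cfsg.Agent.Helper8.CoverUnique

open Cfsg Cfsg.Agent.Helper8.Stem Cfsg.Agent.Helper8.Hopf

universe u v

variable {Q : Type u} [Group Q] [Finite Q] {Γ₁ Γ₂ : Type u} [Group Γ₁] [Group Γ₂]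
  [Finite Γ₁] [Finite Γ₂] (σ₁ : Γ₁ →* Q) (σ₂ : Γ₂ →* Q)

theorem exists_equiv_of_coprime {A : Type v} [CommGroup A] (hA : HasSchurMultiplier Q A)
    (h₁ : IsStemExtension σ₁) (h₂ : IsStemExtension σ₂) (e₁ : σ₁.ker ≃* A) (e₂ : σ₂.ker ≃* A)
    (hcop : Nat.Coprime (Nat.card (Abelianization Q)) (Nat.card A)) :
    ∃ e : Γ₁ ≃* Γ₂, σ₂.comp e.toMonoidHom = σ₁ := by
  classical
  let ξ : fibre σ₁ σ₂ →* Q := σ₁.comp (fibreFst σ₁ σ₂)
  have hξ : Function.Surjective ξ := h₁.1.comp (fibreFst_surjective σ₁ σ₂ h₂.1)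
  have hfib : ∀ x : fibre σ₁ σ₂, σ₁ (x : Γ₁ × Γ₂).1 = σ₂ (x : Γ₁ × Γ₂).2 := fun x => x.2
  have hK : ∀ x : fibre σ₁ σ₂, x ∈ ξ.ker ↔
      (x : Γ₁ × Γ₂).1 ∈ σ₁.ker ∧ (x : Γ₁ × Γ₂).2 ∈ σ₂.ker := by
    intro x
    rw [MonoidHom.mem_ker, MonoidHom.mem_ker, MonoidHom.mem_ker]
    constructor
    · intro h
      have h3 : σ₁ (x : Γ₁ × Γ₂).1 = 1 := h
      exact ⟨h3, by rw [← hfib x]; exact h3⟩
    · intro h
      exact h.1
  have hKc : ξ.ker ≤ Subgroup.center (fibre σ₁ σ₂) := by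
    intro x hx
    obtain ⟨hx1, hx2⟩ := (hK x).mp hx
    rw [Subgroup.mem_center_iff]
    intro y
    apply Subtype.ext
    apply Prod.ext
    · exact Subgroup.mem_center_iff.mp (h₁.2.1 hx1) _
    · exact Subgroup.mem_center_iff.mp (h₂.2.1 hx2) _
  obtain ⟨π, hπ⟩ := exists_surjection_of_hasSchurMultiplier hA ξ hξ hKc
  haveI : Finite A := Finite.of_equiv _ e₁.toEquiv
  have hcardN : Nat.card ↥(ξ.ker ⊓ commutator (fibre σ₁ σ₂)) ≤ Nat.card A :=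
    Nat.card_le_card_of_surjective π hπ
  have hcard₁ : Nat.card σ₁.ker = Nat.card A := Nat.card_congr e₁.toEquiv
  have hcard₂ : Nat.card σ₂.ker = Nat.card A := Nat.card_congr e₂.toEquiv
  -- the projections of `N`
  let pr₁ : ↥(ξ.ker ⊓ commutator (fibre σ₁ σ₂)) →* σ₁.ker :=
    MonoidHom.codRestrict ((fibreFst σ₁ σ₂).comp (ξ.ker ⊓ commutator (fibre σ₁ σ₂)).subtype)
      σ₁.ker (fun x => ((hK x.1).mp (Subgroup.mem_inf.mp x.2).1).1)
  let pr₂ : ↥(ξ.ker ⊓ commutator (fibre σ₁ σ₂)) →* σ₂.ker :=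
    MonoidHom.codRestrict ((fibreSnd σ₁ σ₂).comp (ξ.ker ⊓ commutator (fibre σ₁ σ₂)).subtype)
      σ₂.ker (fun x => ((hK x.1).mp (Subgroup.mem_inf.mp x.2).1).2)
  have hpr₁s : Function.Surjective pr₁ := by
    intro z
    obtain ⟨x, hx, hxz⟩ := exists_mem_commutator_of_surjective (fibreFst σ₁ σ₂)
      (fibreFst_surjective σ₁ σ₂ h₂.1) (z : Γ₁) (h₁.2.2 z.2)
    have hxk : x ∈ ξ.ker := by
      rw [MonoidHom.mem_ker]
      show σ₁ (fibreFst σ₁ σ₂ x) = 1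
      rw [hxz]
      exact MonoidHom.mem_ker.mp z.2
    exact ⟨⟨x, Subgroup.mem_inf.mpr ⟨hxk, hx⟩⟩, Subtype.ext hxz⟩
  have hpr₂s : Function.Surjective pr₂ := by
    intro z
    obtain ⟨x, hx, hxz⟩ := exists_mem_commutator_of_surjective (fibreSnd σ₁ σ₂)
      (fibreSnd_surjective σ₁ σ₂ h₁.1) (z : Γ₂) (h₂.2.2 z.2)
    have hxk : x ∈ ξ.ker := by
      rw [MonoidHom.mem_ker]
      show σ₁ (x : Γ₁ × Γ₂).1 = 1
      rw [hfib x]
      show σ₂ (fibreSnd σ₁ σ₂ x) = 1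
      rw [hxz]
      exact MonoidHom.mem_ker.mp z.2
    exact ⟨⟨x, Subgroup.mem_inf.mpr ⟨hxk, hx⟩⟩, Subtype.ext hxz⟩
  have hpr₁ : Function.Injective pr₁ :=
    (hpr₁s.bijective_of_nat_card_le (hcardN.trans hcard₁.ge)).1
  have hpr₂ : Function.Injective pr₂ :=
    (hpr₂s.bijective_of_nat_card_le (hcardN.trans hcard₂.ge)).1
  -- exponents
  set m := Nat.card (Abelianization Q) with hm
  set a := Nat.card A with ha
  have hexp : ∀ x : fibre σ₁ σ₂, x ∈ ξ.ker → x ^ a = 1 := by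
    intro x hx
    obtain ⟨hx1, hx2⟩ := (hK x).mp hx
    apply Subtype.ext
    apply Prod.ext
    · have h3 : (⟨(x : Γ₁ × Γ₂).1, hx1⟩ : σ₁.ker) ^ Nat.card σ₁.ker = 1 := pow_card_eq_one'
      rw [hcard₁] at h3
      exact congrArg Subtype.val h3
    · have h3 : (⟨(x : Γ₁ × Γ₂).2, hx2⟩ : σ₂.ker) ^ Nat.card σ₂.ker = 1 := pow_card_eq_one'
      rw [hcard₂] at h3
      exact congrArg Subtype.val h3
  -- the subgroup `H`
  let H : Subgroup (fibre σ₁ σ₂) :=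
    (powMonoidHom m : Abelianization (fibre σ₁ σ₂) →* Abelianization (fibre σ₁ σ₂)).ker.comap
      Abelianization.of
  have hH : ∀ x : fibre σ₁ σ₂, x ∈ H ↔ x ^ m ∈ commutator (fibre σ₁ σ₂) := by
    intro x
    rw [← Abelianization.ker_of (fibre σ₁ σ₂), MonoidHom.mem_ker, map_pow]
    rfl
  have hcomH : commutator (fibre σ₁ σ₂) ≤ H := by
    intro x hx
    rw [hH]
    exact Subgroup.pow_mem _ hx _
  -- Bezout
  obtain ⟨u, v, huv⟩ : ∃ u v : ℤ, (m : ℤ) * u + (a : ℤ) * v = 1 := by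
    have h3 := Int.gcd_eq_gcd_ab (m : ℤ) (a : ℤ)
    rw [Int.gcd_natCast_natCast, hcop] at h3
    exact ⟨_, _, by rw [← h3]; rfl⟩
  -- the decomposition of the `m`-th power
  have hpow : ∀ x : fibre σ₁ σ₂, ∃ c ∈ commutator (fibre σ₁ σ₂), ∃ k ∈ ξ.ker, x ^ m = c * k := by
    intro x
    have hq : ξ (x ^ m) ∈ commutator Q := by
      rw [← Abelianization.ker_of, MonoidHom.mem_ker, map_pow, map_pow]
      exact pow_card_eq_one'
    obtain ⟨c, hc, hcq⟩ := exists_mem_commutator_of_surjective ξ hξ _ hq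
    refine ⟨c, hc, c⁻¹ * x ^ m, ?_, by group⟩
    rw [MonoidHom.mem_ker, map_mul, map_inv, hcq, inv_mul_cancel]
  have hHK : H ⊓ ξ.ker ≤ ξ.ker ⊓ commutator (fibre σ₁ σ₂) := by
    intro x hx
    obtain ⟨hx1, hx2⟩ := Subgroup.mem_inf.mp hx
    have h3 : x ^ m ∈ ξ.ker ⊓ commutator (fibre σ₁ σ₂) :=
      Subgroup.mem_inf.mpr ⟨Subgroup.pow_mem _ hx2 _, (hH x).mp hx1⟩
    have h4 : x = (x ^ m) ^ u * (x ^ a) ^ v := by
      rw [← zpow_natCast, ← zpow_natCast, ← zpow_mul, ← zpow_mul, ← zpow_add, huv, zpow_one]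
    rw [h4, hexp x hx2, one_zpow, mul_one]
    exact Subgroup.zpow_mem _ h3 _
  have hdec : ∀ x : fibre σ₁ σ₂, ∃ h ∈ H, ∃ k ∈ ξ.ker, x = h * k := by
    intro x
    obtain ⟨c, hc, k, hk, hck⟩ := hpow x
    have hkc : Commute c k := show c * k = k * c from Subgroup.mem_center_iff.mp (hKc hk) c
    have h3 : x ^ (m * a) ∈ commutator (fibre σ₁ σ₂) := by
      rw [pow_mul, hck, hkc.mul_pow, hexp k hk, mul_one]
      exact Subgroup.pow_mem _ hc _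
    have h4 : (x ^ a) ^ v ∈ H := by
      have h6 : ((x ^ a) ^ v) ^ m = (x ^ (m * a)) ^ v := by
        rw [← zpow_natCast x a, ← zpow_natCast _ m, ← zpow_natCast x (m * a), ← zpow_mul,
          ← zpow_mul, ← zpow_mul]
        congr 1
        push_cast
        ring
      rw [hH, h6]
      exact Subgroup.zpow_mem _ h3 _
    have h5 : x = (x ^ m) ^ u * (x ^ a) ^ v := by
      rw [← zpow_natCast, ← zpow_natCast, ← zpow_mul, ← zpow_mul, ← zpow_add, huv, zpow_one]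
    have hkz : ∀ g : fibre σ₁ σ₂, Commute g (k ^ u) := fun g =>
      ((Subgroup.mem_center_iff.mp (hKc (Subgroup.zpow_mem _ hk u)) g))
    refine ⟨c ^ u * (x ^ a) ^ v, Subgroup.mul_mem _ (hcomH (Subgroup.zpow_mem _ hc _)) h4,
      k ^ u, Subgroup.zpow_mem _ hk _, ?_⟩
    conv_lhs => rw [h5, hck, hkc.mul_zpow]
    rw [mul_assoc, mul_assoc, (hkz _).eq]
  have hNH : ξ.ker ⊓ commutator (fibre σ₁ σ₂) ≤ H := fun x hx => hcomH (Subgroup.mem_inf.mp hx).2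
  -- the two projections of `H`
  let f₁ : H →* Γ₁ := (fibreFst σ₁ σ₂).comp H.subtype
  let f₂ : H →* Γ₂ := (fibreSnd σ₁ σ₂).comp H.subtype
  have hf₁ : Function.Bijective f₁ := by
    constructor
    · rw [injective_iff_map_eq_one]
      intro h hh
      have hh' : ((h : fibre σ₁ σ₂) : Γ₁ × Γ₂).1 = 1 := hh
      have hk : (h : fibre σ₁ σ₂) ∈ ξ.ker := by
        rw [MonoidHom.mem_ker]
        show σ₁ ((h : fibre σ₁ σ₂) : Γ₁ × Γ₂).1 = 1
        rw [hh', map_one]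
      have hn := hHK (Subgroup.mem_inf.mpr ⟨h.2, hk⟩)
      have h3 : pr₁ ⟨(h : fibre σ₁ σ₂), hn⟩ = pr₁ 1 := by
        rw [map_one]
        exact Subtype.ext hh'
      have h4 := congrArg Subtype.val (hpr₁ h3)
      apply Subtype.ext
      exact h4
    · intro g
      obtain ⟨x, hx⟩ := fibreFst_surjective σ₁ σ₂ h₂.1 g
      obtain ⟨h, hh, k, hk, rfl⟩ := hdec x
      obtain ⟨n, hn⟩ := hpr₁s ⟨(k : Γ₁ × Γ₂).1, ((hK k).mp hk).1⟩
      refine ⟨⟨h * (n : fibre σ₁ σ₂), Subgroup.mul_mem _ hh (hNH n.2)⟩, ?_⟩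
      show fibreFst σ₁ σ₂ (h * (n : fibre σ₁ σ₂)) = g
      rw [← hx, map_mul, map_mul]
      congr 1
      exact congrArg Subtype.val hn
  have hf₂ : Function.Bijective f₂ := by
    constructor
    · rw [injective_iff_map_eq_one]
      intro h hh
      have hh' : ((h : fibre σ₁ σ₂) : Γ₁ × Γ₂).2 = 1 := hh
      have hk : (h : fibre σ₁ σ₂) ∈ ξ.ker := by
        rw [MonoidHom.mem_ker]
        show σ₁ ((h : fibre σ₁ σ₂) : Γ₁ × Γ₂).1 = 1
        rw [hfib, hh', map_one]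
      have hn := hHK (Subgroup.mem_inf.mpr ⟨h.2, hk⟩)
      have h3 : pr₂ ⟨(h : fibre σ₁ σ₂), hn⟩ = pr₂ 1 := by
        rw [map_one]
        exact Subtype.ext hh'
      have h4 := congrArg Subtype.val (hpr₂ h3)
      apply Subtype.ext
      exact h4
    · intro g
      obtain ⟨x, hx⟩ := fibreSnd_surjective σ₁ σ₂ h₁.1 g
      obtain ⟨h, hh, k, hk, rfl⟩ := hdec x
      obtain ⟨n, hn⟩ := hpr₂s ⟨(k : Γ₁ × Γ₂).2, ((hK k).mp hk).2⟩
      refine ⟨⟨h * (n : fibre σ₁ σ₂), Subgroup.mul_mem _ hh (hNH n.2)⟩, ?_⟩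
      show fibreSnd σ₁ σ₂ (h * (n : fibre σ₁ σ₂)) = g
      rw [← hx, map_mul, map_mul]
      congr 1
      exact congrArg Subtype.val hn
  refine ⟨(MulEquiv.ofBijective f₁ hf₁).symm.trans (MulEquiv.ofBijective f₂ hf₂), ?_⟩
  ext g
  obtain ⟨h, rfl⟩ := hf₁.2 g
  show σ₂ ((MulEquiv.ofBijective f₂ hf₂) ((MulEquiv.ofBijective f₁ hf₁).symm (f₁ h))) = σ₁ (f₁ h)
  have h3 : (MulEquiv.ofBijective f₁ hf₁).symm (f₁ h) = h :=
    (MulEquiv.ofBijective f₁ hf₁).symm_apply_apply h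
  rw [h3]
  exact (hfib (h : fibre σ₁ σ₂)).symm

end Cfsg.Agent.Helper8.CoverUnique
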