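import Mathlib
import Cfsg.Prelude.Def_Characters
import Cfsg.Prelude.Def_OddOrderChar
import Cfsg.Prelude.Def_OddOrderLocal
import Cfsg.Agent.Helper8.CyclicTIUnique
import Cfsg.Agent.Helper8.GaloisChar
import Cfsg.Agent.Helper8.Ind

/-!
The power maps act on the characters attached to a cyclic trivial-intersection configuration.
-/

set_option autoImplicit false

namespace Cfsg.Agent.Helper8

open scoped ComplexConjugate

variable {G : Type*} [Group G]

theorem hom_pow_apply {W : Type*} [Group W] (ω : W →* ℂˣ) (k : ℕ) (w : W) :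
    (ω ^ k) w = ω w ^ k := rfl

theorem hom_one_pow {W : Type*} [Group W] (k : ℕ) : (1 : W →* ℂˣ) ^ k = 1 := by
  ext w
  rw [hom_pow_apply, MonoidHom.one_apply, one_pow]

theorem hom_mul_pow {W : Type*} [Group W] (φ ψ : W →* ℂˣ) (k : ℕ) :
    (φ * ψ) ^ k = φ ^ k * ψ ^ k := by
  ext w
  rw [hom_pow_apply, MonoidHom.mul_apply, MonoidHom.mul_apply, hom_pow_apply, hom_pow_apply,
    mul_pow]

theorem pow_mul_eq_self_of_modEq [Finite G] {t t' : ℕ} (h : t * t' ≡ 1 [MOD Nat.card G]) (y : G) :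
    y ^ (t * t') = y := by
  have : y ^ (t * t') = y ^ 1 :=
    pow_eq_pow_iff_modEq.mpr (h.of_dvd (orderOf_dvd_natCard y))
  rwa [pow_one] at this

theorem coprime_of_mul_modEq_one {n t t' : ℕ} (h : t * t' ≡ 1 [MOD n]) : t.Coprime n := by
  have h1 : (t * t').Coprime n := by
    have := h.gcd_eq
    rw [Nat.gcd_one_left] at this
    exact this
  exact Nat.Coprime.coprime_mul_right h1

theorem ebz_pow [Finite G] (H : Subgroup G) (θ : H → ℂ) {t t' : ℕ}
    (h : t * t' ≡ 1 [MOD Nat.card G]) (y : G) :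
    Cfsg.extendByZero H (fun h => θ (h ^ t')) (y ^ t) = Cfsg.extendByZero H θ y := by
  have hy := pow_mul_eq_self_of_modEq h y
  by_cases hm : y ∈ H
  · rw [ebz_mem H _ (H.pow_mem hm t), ebz_mem H _ hm]
    congr 1
    apply Subtype.ext
    rw [Subgroup.coe_pow, ← pow_mul]
    exact hy
  · have hm' : y ^ t ∉ H := by
      intro hc
      apply hm
      have := H.pow_mem hc t'
      rwa [← pow_mul, hy] at this
    rw [ebz_not_mem H _ hm', ebz_not_mem H _ hm]

theorem indFun_pow [Fintype G] (H : Subgroup G) (θ : H → ℂ) {t t' : ℕ}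
    (h : t * t' ≡ 1 [MOD Nat.card G]) (g : G) :
    Cfsg.indFun H (fun h => θ (h ^ t')) (g ^ t) = Cfsg.indFun H θ g := by
  rw [indFun_def, indFun_def]
  congr 1
  apply Finset.sum_congr rfl
  intro x _
  have : x⁻¹ * g ^ t * x = (x⁻¹ * g * x) ^ t := by
    have := conj_pow (a := x⁻¹) (b := g) (i := t)
    rw [inv_inv] at this
    exact this.symm
  rw [this, ebz_pow H θ h]

theorem classInner_pow [Fintype G] (f k : G → ℂ) {t : ℕ} (ht : t.Coprime (Nat.card G)) :
    Cfsg.classInner (fun g => f (g ^ t)) (fun g => k (g ^ t)) = Cfsg.classInner f k := by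
  unfold Cfsg.classInner
  congr 1
  exact Equiv.sum_comp (powCoprime ht.symm) (fun g => f g * conj (k g))

/-- the transported family -/
theorem cyclicTIFamily_pow [Fintype G] {W₁ W₂ : Subgroup G}
    {χ : (↥(W₁ ⊔ W₂) →* ℂˣ) → (G → ℂ)} (hχ : Cfsg.IsCyclicTIFamily W₁ W₂ χ) {t t' : ℕ}
    (h : t * t' ≡ 1 [MOD Nat.card G]) :
    Cfsg.IsCyclicTIFamily W₁ W₂ (fun ω g => χ (ω ^ t') (g ^ t)) := by
  have ht : t.Coprime (Nat.card G) := coprime_of_mul_modEq_one h
  have hW : ∀ w : ↥(W₁ ⊔ W₂), w ^ (t * t') = w := by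
    intro w
    apply Subtype.ext
    rw [Subgroup.coe_pow]
    exact pow_mul_eq_self_of_modEq h (w : G)
  have hω : ∀ ω : ↥(W₁ ⊔ W₂) →* ℂˣ, (ω ^ t') ^ t = ω := by
    intro ω
    ext w
    rw [hom_pow_apply, hom_pow_apply, ← pow_mul, ← map_pow, mul_comm, hW]
  refine ⟨?_, ?_, ?_, ?_, ?_⟩
  · intro ω
    rcases hχ.irr_or_neg (ω ^ t') with h1 | h1
    · exact Or.inl (isIrrCharacter_pow_of_coprime t ht h1)
    · exact Or.inr (isIrrCharacter_pow_of_coprime t ht h1)
  · intro ω ω'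
    rw [classInner_pow _ _ ht, hχ.orthonormal]
    by_cases e : ω = ω'
    · rw [if_pos e, if_pos (by rw [e])]
    · rw [if_neg e, if_neg]
      intro e'
      apply e
      rw [← hω ω, ← hω ω', e']
  · funext g
    show χ (1 ^ t') (g ^ t) = 1
    rw [hom_one_pow, hχ.map_one]
  · intro ω w hw₁ hw₂
    show χ (ω ^ t') ((w : G) ^ t) = _
    have h1 : ((w ^ t : ↥(W₁ ⊔ W₂)) : G) ∉ W₁ := by
      intro hc
      apply hw₁
      have := W₁.pow_mem hc t'
      rw [← Subgroup.coe_pow, ← pow_mul, hW] at this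
      exact this
    have h2 : ((w ^ t : ↥(W₁ ⊔ W₂)) : G) ∉ W₂ := by
      intro hc
      apply hw₂
      have := W₂.pow_mem hc t'
      rw [← Subgroup.coe_pow, ← pow_mul, hW] at this
      exact this
    have := hχ.eq_on (ω ^ t') (w ^ t) h1 h2
    rw [Subgroup.coe_pow] at this
    rw [this, hom_pow_apply, ← map_pow, ← pow_mul, hW]
  · intro φ ψ hφ1 hψ1 hφ hψ
    have h1 := hχ.induced_eq (φ ^ t') (ψ ^ t')
      (fun e => hφ1 (by rw [← hω φ, e, hom_one_pow]))
      (fun e => hψ1 (by rw [← hω ψ, e, hom_one_pow]))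
      (fun w hw => by rw [hom_pow_apply, hφ w hw, one_pow])
      (fun w hw => by rw [hom_pow_apply, hψ w hw, one_pow])
    funext g
    have h2 := congrFun h1 (g ^ t)
    rw [← hom_mul_pow] at h2
    rw [← h2]
    have h3 := indFun_pow (W₁ ⊔ W₂)
      (fun w => 1 - (φ w : ℂ) - (ψ w : ℂ) + (φ w : ℂ) * (ψ w : ℂ)) h g
    rw [← h3]
    congr 1
    funext w
    simp only [hom_pow_apply, map_pow, Units.val_pow_eq_pow_val]

/-- **Galois action**, in the form of power maps. -/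
theorem cyclicTIFamily_galois [Fintype G] {W₁ W₂ : Subgroup G}
    (hW : Cfsg.IsSelfNormalizingCyclic W₁ W₂) (hodd : Odd (Nat.card ↥(W₁ ⊔ W₂)))
    {χ : (↥(W₁ ⊔ W₂) →* ℂˣ) → (G → ℂ)} (hχ : Cfsg.IsCyclicTIFamily W₁ W₂ χ) {t : ℕ}
    (ht : t.Coprime (Nat.card G)) (ω : ↥(W₁ ⊔ W₂) →* ℂˣ) (g : G) :
    χ ω (g ^ t) = χ (ω ^ t) g := by
  obtain ⟨t', ht'⟩ : ∃ t', t * t' ≡ 1 [MOD Nat.card G] := by
    by_cases h1 : Nat.card G = 1
    · exact ⟨0, by rw [h1]; exact Nat.modEq_one⟩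
    · have hpos : 0 < Nat.card G := Nat.card_pos
      obtain ⟨m, -, hm⟩ := Nat.exists_mul_mod_eq_one_of_coprime ht (by omega)
      refine ⟨m, ?_⟩
      unfold Nat.ModEq
      rw [hm, Nat.mod_eq_of_lt (by omega)]
  have huniq := cyclicTIFamily_unique hW hodd hχ (cyclicTIFamily_pow hχ ht')
  have h1 := congrFun (congrFun huniq (ω ^ t)) g
  have hWp : ∀ w : ↥(W₁ ⊔ W₂), w ^ (t * t') = w := by
    intro w
    apply Subtype.ext
    rw [Subgroup.coe_pow]
    exact pow_mul_eq_self_of_modEq ht' (w : G)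
  have h2 : (ω ^ t) ^ t' = ω := by
    ext w
    rw [hom_pow_apply, hom_pow_apply, ← pow_mul, ← map_pow, hWp]
  rw [h2] at h1
  exact h1.symm

end Cfsg.Agent.Helper8
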