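import Mathlib
import Cfsg.Prelude.Def_Blocks
import Cfsg.Agent.Helper8.PConjAction
import Cfsg.Agent.Helper8.CycFourier
import Cfsg.Agent.Helper23.CharGalois
import Cfsg.Agent.Helper24.RealChar
import Cfsg.Agent.Helper24.Orthogonality
import Cfsg.Agent.Helper24.Abelian

/-!
Sums of the twists of an irreducible character by the units `≡ 1 mod m`, where `|G| = m q` and
every prime divisor of `|G|` divides `m`.
-/

set_option autoImplicit false

namespace Cfsg.Agent.Helper8.PConj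

open Cfsg Cfsg.Agent.Helper24 Finset

section Sum

variable {G : Type*} [Group G] [Fintype G]

/-- the sum of the twists of `χ` by the units `≡ 1 mod m` -/
noncomputable def TW (m : ℕ) (hm : m ∣ Nat.card G) (χ : IrrCharacter G) (x : G) : ℂ :=
  ∑ᶠ w : oneMod (Nat.card G) m hm, (twist (w : (ZMod (Nat.card G))ˣ) χ : G → ℂ) x

theorem TW_eq_sum (m : ℕ) (hm : m ∣ Nat.card G) (χ : IrrCharacter G) (x : G)
    [Fintype (oneMod (Nat.card G) m hm)] :
    TW m hm χ x = ∑ w : oneMod (Nat.card G) m hm,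
      (twist (w : (ZMod (Nat.card G))ˣ) χ : G → ℂ) x := by
  unfold TW
  exact finsum_eq_sum_of_fintype _

theorem isClassFunction_TW (m : ℕ) (hm : m ∣ Nat.card G) (χ : IrrCharacter G) :
    IsClassFunction G (TW m hm χ) := by
  intro g h
  unfold TW
  congr 1
  funext w
  exact isClassFunction_irr _ g h

/-- evaluation through the enumeration of the units `≡ 1 mod m` -/
theorem TW_eq_range {m q : ℕ} (hN : Nat.card G = m * q) (hm2 : 2 ≤ m)
    (hcop : ∀ j, (1 + m * j).Coprime (Nat.card G)) (χ : IrrCharacter G) (x : G) :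
    TW m ⟨q, hN⟩ χ x = ∑ j ∈ range q, (χ : G → ℂ) (x ^ (1 + m * j)) := by
  haveI : NeZero (Nat.card G) := ⟨Nat.card_pos.ne'⟩
  obtain ⟨e, he⟩ := exists_equiv_oneMod hN hm2 hcop
  unfold TW
  rw [← finsum_comp_equiv e, finsum_eq_sum_of_fintype,
    ← Fin.sum_univ_eq_sum_range (fun j => (χ : G → ℂ) (x ^ (1 + m * j))) q]
  refine Finset.sum_congr rfl fun j _ => ?_
  rw [twist_apply, he j]

/-- the sum of twists is `q` times an algebraic integer -/
theorem exists_TW_eq_mul {m q : ℕ} (hN : Nat.card G = m * q) (hm2 : 2 ≤ m)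
    (hcop : ∀ j, (1 + m * j).Coprime (Nat.card G)) (χ : IrrCharacter G) (x : G) :
    ∃ t : ℂ, IsIntegral ℤ t ∧ TW m ⟨q, hN⟩ χ x = (q : ℂ) * t := by
  classical
  obtain ⟨n, ρ, hirr, hρ⟩ := χ.2
  have hchar : ∀ k : ℕ, (χ : G → ℂ) (x ^ k) =
      ∑ μ ∈ eigenFinset (ρ x), μ ^ k *
        (Module.finrank ℂ (Module.End.eigenspace (ρ x) μ) : ℂ) := by
    intro k
    rw [← hρ]
    exact Cfsg.Agent.Helper23.char_pow_eq_sum_eigen ρ x k
  have hroot : ∀ μ ∈ eigenFinset (ρ x), μ ^ Nat.card G = 1 := fun μ hμ =>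
    Cfsg.Agent.Helper23.eigen_pow_card ρ x hμ
  refine ⟨∑ μ ∈ (eigenFinset (ρ x)).filter (fun μ => μ ^ m = 1),
    μ * (Module.finrank ℂ (Module.End.eigenspace (ρ x) μ) : ℂ), ?_, ?_⟩
  · refine IsIntegral.sum _ fun μ hμ => ?_
    have hμ' := (Finset.mem_filter.mp hμ).1
    refine IsIntegral.mul ?_ (isIntegral_natCast _)
    exact IsIntegral.of_pow Nat.card_pos (by rw [hroot μ hμ']; exact isIntegral_one)
  · rw [TW_eq_range hN hm2 hcop χ x]
    simp_rw [hchar]
    rw [Finset.sum_comm, Finset.mul_sum, Finset.sum_filter]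
    refine Finset.sum_congr rfl fun μ hμ => ?_
    have hpow : (μ ^ m) ^ q = 1 := by rw [← pow_mul, ← hN, hroot μ hμ]
    have h1 : ∀ j ∈ range q, μ ^ (1 + m * j) *
        (Module.finrank ℂ (Module.End.eigenspace (ρ x) μ) : ℂ) =
        (μ * (Module.finrank ℂ (Module.End.eigenspace (ρ x) μ) : ℂ)) * (μ ^ m) ^ j := by
      intro j _
      rw [pow_add, pow_one, pow_mul]
      ring
    rw [Finset.sum_congr rfl h1, ← Finset.mul_sum, CycFourier.geom_root q _ hpow]
    split_ifs <;> ring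

/-- pairing the sum of twists with an irreducible character -/
theorem sum_TW_mul_inv (m : ℕ) (hm : m ∣ Nat.card G) (χ ψ : IrrCharacter G) :
    ∑ x : G, TW m hm χ x * (ψ : G → ℂ) x⁻¹ =
      (Nat.card G : ℂ) *
        (Nat.card {w : oneMod (Nat.card G) m hm // twist (w : (ZMod (Nat.card G))ˣ) χ = ψ} : ℂ) := by
  classical
  haveI : Fintype (oneMod (Nat.card G) m hm) := Fintype.ofFinite _
  have hcard : (Nat.card G : ℂ) ≠ 0 := by exact_mod_cast Nat.card_pos.ne'
  simp_rw [TW_eq_sum, Finset.sum_mul]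
  rw [Finset.sum_comm]
  have h1 : ∀ w : oneMod (Nat.card G) m hm,
      ∑ x : G, (twist (w : (ZMod (Nat.card G))ˣ) χ : G → ℂ) x * (ψ : G → ℂ) x⁻¹ =
        if twist (w : (ZMod (Nat.card G))ˣ) χ = ψ then (Nat.card G : ℂ) else 0 := by
    intro w
    have h2 := classInner_irr (twist (w : (ZMod (Nat.card G))ˣ) χ) ψ
    unfold classInner at h2
    have h3 : ∑ x : G, (twist (w : (ZMod (Nat.card G))ˣ) χ : G → ℂ) x * (ψ : G → ℂ) x⁻¹ =
        ∑ x : G, (twist (w : (ZMod (Nat.card G))ˣ) χ : G → ℂ) x *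
          (starRingEnd ℂ) ((ψ : G → ℂ) x) := by
      refine Finset.sum_congr rfl fun x _ => ?_
      rw [irr_inv]
    rw [h3]
    split_ifs with h
    · rw [if_pos h] at h2
      field_simp at h2
      rw [h2]
    · rw [if_neg h] at h2
      rcases mul_eq_zero.mp h2 with h4 | h4
      · exact absurd (inv_eq_zero.mp h4) hcard
      · exact h4
  rw [Finset.sum_congr rfl (fun w _ => h1 w), ← Finset.sum_filter, Finset.sum_const,
    nsmul_eq_mul, mul_comm]
  congr 1
  have h5 : Nat.card {w : oneMod (Nat.card G) m hm // twist (w : (ZMod (Nat.card G))ˣ) χ = ψ} =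
      (Finset.univ.filter (fun w : oneMod (Nat.card G) m hm =>
        twist (w : (ZMod (Nat.card G))ˣ) χ = ψ)).card :=
    (Nat.card_eq_fintype_card).trans (Fintype.card_subtype _)
  exact_mod_cast h5.symm

end Sum

end Cfsg.Agent.Helper8.PConj
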