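import Mathlib
import Cfsg.Prelude.Def_Blocks
import Cfsg.Agent.Helper8.PConjSum
import Cfsg.Agent.Helper24.Integrality

/-!
`r_W · χ(1)` divides `|G|`, where `r_W` is the number of twists of `χ` by units `≡ 1 mod m`.
-/

set_option autoImplicit false

namespace Cfsg.Agent.Helper8.PConj

open Cfsg Cfsg.Agent.Helper24 Finset

section Div

variable {G : Type*} [Group G] [Fintype G]

/-- the stabiliser of `χ` in the units modulo `|G|` -/
noncomputable def stab (χ : IrrCharacter G) : Subgroup (ZMod (Nat.card G))ˣ :=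
  @MulAction.stabilizer _ _ _ (galAction (G := G)) χ

theorem mem_stab (χ : IrrCharacter G) (k : (ZMod (Nat.card G))ˣ) :
    k ∈ stab χ ↔ twist k χ = χ := by
  unfold stab
  rw [@MulAction.mem_stabilizer_iff _ _ _ (galAction (G := G))]
  rfl

theorem card_orbit (χ : IrrCharacter G) (H : Subgroup (ZMod (Nat.card G))ˣ) :
    Nat.card {ψ : IrrCharacter G // ∃ k ∈ H, twist k χ = ψ} = (stab χ).relIndex H :=
  @card_orbit_subgroup _ _ _ (galAction (G := G)) H χ

theorem twist_inv_twist (k : (ZMod (Nat.card G))ˣ) (ψ : IrrCharacter G) :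
    twist k⁻¹ (twist k ψ) = ψ := by
  rw [← twist_mul, inv_mul_cancel, twist_one]

/-- all nonempty fibres of `w ↦ twist w χ` on a subgroup have the size of the stabiliser -/
theorem card_fiber (χ : IrrCharacter G) (H : Subgroup (ZMod (Nat.card G))ˣ) (w₀ : H) :
    Nat.card {w : H // twist (w : (ZMod (Nat.card G))ˣ) χ = twist (w₀ : (ZMod (Nat.card G))ˣ) χ} =
      Nat.card ((stab χ).subgroupOf H) := by
  apply Nat.card_congr
  refine ⟨fun w => ⟨w₀⁻¹ * w.1, ?_⟩, fun s => ⟨w₀ * s.1, ?_⟩, ?_, ?_⟩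
  · rw [Subgroup.mem_subgroupOf, mem_stab]
    show twist ((w₀ : (ZMod (Nat.card G))ˣ)⁻¹ * (w.1 : (ZMod (Nat.card G))ˣ)) χ = χ
    rw [twist_mul, w.2, twist_inv_twist]
  · have hs := s.2
    rw [Subgroup.mem_subgroupOf, mem_stab] at hs
    show twist ((w₀ : (ZMod (Nat.card G))ˣ) * (s.1 : (ZMod (Nat.card G))ˣ)) χ = _
    rw [twist_mul, hs]
  · intro w
    apply Subtype.ext
    show w₀ * (w₀⁻¹ * w.1) = w.1
    group
  · intro s
    apply Subtype.ext
    show w₀⁻¹ * (w₀ * s.1) = s.1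
    group

/-- the normalised sum of twists, as a class function with algebraic integer values -/
noncomputable def aW (m q : ℕ) (hm : m ∣ Nat.card G) (χ : IrrCharacter G) (x : G) : ℂ :=
  TW m hm χ x⁻¹ / (q : ℂ)

theorem isClassFunction_aW (m q : ℕ) (hm : m ∣ Nat.card G) (χ : IrrCharacter G) :
    IsClassFunction G (aW m q hm χ) := by
  intro g h
  unfold aW
  have : (h * g * h⁻¹)⁻¹ = h * g⁻¹ * h⁻¹ := by group
  rw [this, isClassFunction_TW m hm χ]

theorem isIntegral_aW {m q : ℕ} (hN : Nat.card G = m * q) (hm2 : 2 ≤ m)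
    (hcop : ∀ j, (1 + m * j).Coprime (Nat.card G)) (χ : IrrCharacter G) (x : G) :
    IsIntegral ℤ (aW m q ⟨q, hN⟩ χ x) := by
  obtain ⟨t, ht, hTt⟩ := exists_TW_eq_mul hN hm2 hcop χ x⁻¹
  have hq : (q : ℂ) ≠ 0 := by
    have : 0 < q := by
      rcases Nat.eq_zero_or_pos q with h | h
      · rw [h, mul_zero] at hN
        exact absurd hN Nat.card_pos.ne'
      · exact h
    exact_mod_cast this.ne'
  unfold aW
  rw [hTt, mul_div_cancel_left₀ _ hq]
  exact ht

theorem sum_aW_mul (m q : ℕ) (hm : m ∣ Nat.card G) (χ ψ : IrrCharacter G) :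
    ∑ x : G, aW m q hm χ x * (ψ : G → ℂ) x =
      (Nat.card G : ℂ) *
        (Nat.card {w : oneMod (Nat.card G) m hm // twist (w : (ZMod (Nat.card G))ˣ) χ = ψ} : ℂ)
        / (q : ℂ) := by
  rw [← sum_TW_mul_inv m hm χ ψ, Finset.sum_div]
  rw [← Equiv.sum_comp (Equiv.inv G)]
  refine Finset.sum_congr rfl fun x _ => ?_
  unfold aW
  simp only [Equiv.inv_apply, inv_inv]
  ring

/-- `r_W χ(1)` divides `|G|` -/
theorem relIndex_mul_irrDeg_dvd {m q : ℕ} (hN : Nat.card G = m * q) (hm2 : 2 ≤ m)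
    (hcop : ∀ j, (1 + m * j).Coprime (Nat.card G)) (χ : IrrCharacter G) :
    (stab χ).relIndex (oneMod (Nat.card G) m ⟨q, hN⟩) * irrDeg χ ∣ Nat.card G := by
  classical
  haveI : NeZero (Nat.card G) := ⟨Nat.card_pos.ne'⟩
  obtain ⟨W, hW⟩ : ∃ W, W = oneMod (Nat.card G) m ⟨q, hN⟩ := ⟨_, rfl⟩
  obtain ⟨e, -⟩ := exists_equiv_oneMod hN hm2 hcop
  have hcardW : Nat.card W = q := by
    rw [hW, ← Nat.card_congr e, Nat.card_fin]
  obtain ⟨rW, hrW⟩ : ∃ rW, rW = (stab χ).relIndex W := ⟨_, rfl⟩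
  obtain ⟨nW, hnW⟩ : ∃ nW, nW = Nat.card ((stab χ).subgroupOf W) := ⟨_, rfl⟩
  have hrn : rW * nW = q := by
    rw [hrW, hnW, Subgroup.relIndex, Subgroup.index_mul_card, hcardW]
  have hq0 : 0 < q := by
    rcases Nat.eq_zero_or_pos q with h | h
    · rw [h, mul_zero] at hN
      exact absurd hN Nat.card_pos.ne'
    · exact h
  have hr0 : 0 < rW := by
    rcases Nat.eq_zero_or_pos rW with h | h
    · rw [h, zero_mul] at hrn; omega
    · exact h
  have hn0 : 0 < nW := by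
    rcases Nat.eq_zero_or_pos nW with h | h
    · rw [h, mul_zero] at hrn; omega
    · exact h
  obtain ⟨n, ρ, hirr, hρ⟩ := χ.2
  haveI := hirr
  obtain ⟨c, hc, hcs⟩ := isIntegral_class_sum_div ρ (aW m q ⟨q, hN⟩ χ)
    (isClassFunction_aW m q ⟨q, hN⟩ χ) (fun g => isIntegral_aW hN hm2 hcop χ g)
  rw [hρ, sum_aW_mul m q ⟨q, hN⟩ χ χ] at hcs
  have hcnt : Nat.card {w : oneMod (Nat.card G) m ⟨q, hN⟩ //
      twist (w : (ZMod (Nat.card G))ˣ) χ = χ} = nW := by
    have h1 := card_fiber χ (oneMod (Nat.card G) m ⟨q, hN⟩) 1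
    simp only [OneMemClass.coe_one, twist_one] at h1
    rw [h1, hnW, hW]
  rw [hcnt] at hcs
  have hd : (Module.finrank ℂ (Fin n → ℂ) : ℂ) = (irrDeg χ : ℂ) := by
    rw [← irrDeg_spec χ, ← hρ, Representation.char_one]
  rw [hd] at hcs
  have hd0 : 0 < irrDeg χ := irrDeg_pos χ
  -- `c = N / (rW d)`
  have hc' : c = (((Nat.card G : ℚ) / ((rW : ℚ) * (irrDeg χ : ℚ)) : ℚ) : ℂ) := by
    have hqC : (q : ℂ) = (rW : ℂ) * (nW : ℂ) := by rw [← hrn]; push_cast; ring
    have hr0' : (rW : ℂ) ≠ 0 := by exact_mod_cast hr0.ne'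
    have hn0' : (nW : ℂ) ≠ 0 := by exact_mod_cast hn0.ne'
    have hd0' : (irrDeg χ : ℂ) ≠ 0 := by exact_mod_cast hd0.ne'
    push_cast
    rw [hqC] at hcs
    field_simp
    field_simp at hcs
    linear_combination hcs
  rw [hc'] at hc
  obtain ⟨z, hz⟩ := exists_int_of_isIntegral_ratCast hc
  have hr0q : (rW : ℚ) ≠ 0 := by exact_mod_cast hr0.ne'
  have hd0q : (irrDeg χ : ℚ) ≠ 0 := by exact_mod_cast hd0.ne'
  have h1 : (Nat.card G : ℚ) = (z : ℚ) * ((rW : ℚ) * (irrDeg χ : ℚ)) := by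
    rw [← hz]
    field_simp
  have h2 : (Nat.card G : ℤ) = z * ((rW : ℤ) * (irrDeg χ : ℤ)) := by exact_mod_cast h1
  have h3 : ((rW * irrDeg χ : ℕ) : ℤ) ∣ (Nat.card G : ℤ) := by
    rw [h2]; push_cast; exact dvd_mul_left _ _
  rw [← hW, ← hrW]
  exact Int.natCast_dvd_natCast.mp h3

end Div

end Cfsg.Agent.Helper8.PConj
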