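import Mathlib
import Cfsg.Prelude.Def_Blocks
import Cfsg.Agent.Helper8.PConjDiv

/-!
Galois conjugacy over the `d`-th roots of unity is the orbit of the units `≡ 1 mod d`.
-/

set_option autoImplicit false

namespace Cfsg.Agent.Helper8.PConj

open Cfsg Cfsg.Agent.Helper24 Finset

section Orbit

variable {G : Type*} [Group G] [Finite G]

/-- an automorphism of `ℂ` acts on the `N`-th roots of unity as a power coprime to `N` -/
theorem exists_pow_of_aut (N : ℕ) (hN : 0 < N) (σ : ℂ ≃+* ℂ) :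
    ∃ k : ℕ, k < N ∧ k.Coprime N ∧ ∀ μ : ℂ, μ ^ N = 1 → σ μ = μ ^ k := by
  haveI : NeZero N := ⟨hN.ne'⟩
  have hζ : IsPrimitiveRoot (Complex.exp (2 * Real.pi * Complex.I / N)) N :=
    Complex.isPrimitiveRoot_exp N hN.ne'
  obtain ⟨ζ, hζdef⟩ : ∃ ζ, ζ = Complex.exp (2 * Real.pi * Complex.I / N) := ⟨_, rfl⟩
  rw [← hζdef] at hζ
  have hσζ : IsPrimitiveRoot (σ ζ) N := hζ.map_of_injective σ.injective
  obtain ⟨k, hkN, hk⟩ := hζ.eq_pow_of_pow_eq_one hσζ.pow_eq_one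
  refine ⟨k, hkN, ?_, ?_⟩
  · rw [← hk] at hσζ
    exact (hζ.pow_iff_coprime hN k).mp hσζ
  · intro μ hμ
    obtain ⟨j, -, hj⟩ := hζ.eq_pow_of_pow_eq_one hμ
    rw [← hj, map_pow, ← hk, ← pow_mul, ← pow_mul, mul_comm]

/-- Galois conjugacy over the `d`-th roots of unity, in terms of twists -/
theorem conj_iff_twist (d : ℕ) (hd : d ∣ Nat.card G) (χ ψ : IrrCharacter G) :
    (∃ σ : ℂ ≃+* ℂ, σ (Complex.exp (2 * Real.pi * Complex.I / (d : ℕ))) =
        Complex.exp (2 * Real.pi * Complex.I / (d : ℕ)) ∧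
        (ψ : G → ℂ) = fun g => σ ((χ : G → ℂ) g)) ↔
      ∃ k ∈ oneMod (Nat.card G) d hd, twist k χ = ψ := by
  classical
  haveI : NeZero (Nat.card G) := ⟨Nat.card_pos.ne'⟩
  have hd0 : 0 < d := Nat.pos_of_dvd_of_pos hd Nat.card_pos
  have hζ : IsPrimitiveRoot (Complex.exp (2 * Real.pi * Complex.I / d)) d :=
    Complex.isPrimitiveRoot_exp d hd0.ne'
  obtain ⟨ζ, hζdef⟩ : ∃ ζ, ζ = Complex.exp (2 * Real.pi * Complex.I / d) := ⟨_, rfl⟩
  rw [← hζdef] at hζ ⊢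
  have hζN : ζ ^ Nat.card G = 1 := by
    obtain ⟨c, hc⟩ := hd
    rw [hc, pow_mul, hζ.pow_eq_one, one_pow]
  constructor
  · rintro ⟨σ, hσζ, hψ⟩
    obtain ⟨k, hkN, hkc, hk⟩ := exists_pow_of_aut (Nat.card G) Nat.card_pos σ
    have hval : ((ZMod.unitOfCoprime k hkc : (ZMod (Nat.card G))ˣ) : ZMod (Nat.card G)).val = k := by
      rw [ZMod.coe_unitOfCoprime, ZMod.val_natCast_of_lt hkN]
    refine ⟨ZMod.unitOfCoprime k hkc, ?_, ?_⟩
    · rw [mem_oneMod, hval]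
      have h1 : ζ ^ (k % d) = ζ ^ (1 % d) := by
        rw [← pow_eq_pow_mod _ hζ.pow_eq_one, ← pow_eq_pow_mod _ hζ.pow_eq_one, ← hk ζ hζN, hσζ,
          pow_one]
      exact hζ.pow_inj (Nat.mod_lt _ hd0) (Nat.mod_lt _ hd0) h1
    · apply Subtype.ext
      funext x
      rw [twist_apply, hval, hψ]
      obtain ⟨n, ρ, hirr, hρ⟩ := χ.2
      have h1 := Cfsg.Agent.Helper23.char_pow_eq_sum_eigen ρ x k
      have h2 := Cfsg.Agent.Helper23.char_pow_eq_sum_eigen ρ x 1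
      rw [pow_one] at h2
      rw [← hρ, h1]
      show _ = σ (ρ.character x)
      rw [h2, map_sum]
      refine (Finset.sum_congr rfl fun μ hμ => ?_).symm
      rw [map_mul, map_natCast, pow_one, hk μ (Cfsg.Agent.Helper23.eigen_pow_card ρ x hμ)]
  · rintro ⟨k, hk, hψ⟩
    obtain ⟨τ, hτ1, hτ2⟩ := exists_complex_aut_char G (k : ZMod (Nat.card G)).val
      (ZMod.val_coe_unit_coprime k)
    refine ⟨τ, ?_, ?_⟩
    · rw [hτ1 ζ hζN, pow_eq_pow_mod _ hζ.pow_eq_one, (mem_oneMod hd k).mp hk,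
        ← pow_eq_pow_mod _ hζ.pow_eq_one, pow_one]
    · funext x
      rw [← hψ, twist_apply, hτ2 _ (IsIrrCharacter.isCharacter χ.2)]

end Orbit

end Cfsg.Agent.Helper8.PConj
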