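import Mathlib
import Cfsg.Agent.Helper8.D1Main
import Cfsg.Agent.Helper8.PConjOrbit
import Cfsg.Agent.Helper5.D1QB
import Cfsg.Agent.Helper18.D1QT0
import Cfsg.Agent.Helper23.D1QT3
import Cfsg.Agent.Helper1.D1QT2

/-!
# Blocks of defect one: the Galois action (S4507)
-/

set_option autoImplicit false
set_option maxHeartbeats 1600000

namespace Cfsg.Agent.Helper8.D1

open Cfsg Cfsg.Agent.Helper24 Cfsg.Agent.Helper8.PConj

/-- powers by inverse units cancel -/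
theorem pow_val_inv_val {G : Type*} [Group G] [Finite G] (k : (ZMod (Nat.card G))ˣ) (g : G) :
    (g ^ ((k⁻¹ : (ZMod (Nat.card G))ˣ) : ZMod (Nat.card G)).val) ^ (k : ZMod (Nat.card G)).val = g := by
  rw [← pow_mul, ← pow_mod_natCard, ← ZMod.val_mul, ← Units.val_mul, inv_mul_cancel, Units.val_one,
    ZMod.val_one_eq_one_mod, pow_mod_natCard, pow_one]

/-- **S4507**. -/
theorem gal_main {G : Type*} [Group G] [Finite G] (p : ℕ) [Fact p.Prime] (M : Ideal Cfsg.AlgInt) (hM : Cfsg.IsPModular p M) (hdiv : p ∣ Nat.card G) (hsq : ¬ p ^ 2 ∣ Nat.card G) (B : Set (Cfsg.IrrCharacter G)) (hB : Cfsg.IsPBlock M B) (hd : 0 < Cfsg.blockDefect p B) : ∃ Y : Set (Cfsg.IrrCharacter G), Y ⊆ B ∧ Y.Nonempty ∧ (∀ θ ∈ Y, ∀ ψ : Cfsg.IrrCharacter G, (∃ σ : ℂ ≃+* ℂ, σ (Complex.exp (2 * Real.pi * Complex.I / ((Nat.card G / p ^ (Nat.card G).factorization p) : ℕ))) = Complex.exp (2 * Real.pi * Complex.I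 / ((Nat.card G / p ^ (Nat.card G).factorization p) : ℕ)) ∧ (ψ : G → ℂ) = fun g => σ ((θ : G → ℂ) g)) ↔ ψ ∈ Y) ∧ (∀ χ ∈ B, χ ∉ Y → ∀ ψ : Cfsg.IrrCharacter G, (∃ σ : ℂ ≃+* ℂ, σ (Complex.exp (2 * Real.pi * Complex.I / ((Nat.card G / p ^ (Nat.card G).factorization p) : ℕ))) = Complex.exp (2 * Real.pi * Complex.I / ((Nat.card G / p ^ (Nat.card G).factorization p) : ℕ)) ∧ (ψ : G → ℂ) = fun g => σ ((χ : G → ℂ) g)) → ψ = χ) ∧ Nat.card Y ∣ p - 1 ∧ Nat.card B = Nat.card Y + (p - 1) / Nat.card Y ∧ ∃ δ : Cfsg.IrrCharacter G → ℤ, (∀ χ ∈ B, δ χ = 1 ∨ δ χ = -1) ∧ ∀ x : G, ¬ p ∣ orderOf x → ∀ θ ∈ Y, (∑ᶠ χ ∈ B \ Y, (δ χ : ℂ) * (χ : G → ℂ) x) + (δ θ : ℂ) * (θ : G → ℂ) x = 0 := by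
  classical
  have hp : p.Prime := Fact.out
  let _ : Fintype (IrrCharacter G) := Fintype.ofFinite _
  obtain ⟨P, hP, hBP, b, θ, hind, hθ, hθP⟩ :=
    Cfsg.Agent.Helper5.D1Q.exists_root_data p M hM hdiv hsq B hB hd
  obtain ⟨T, hT⟩ := Cfsg.Agent.Helper18.D1QT0.exists_stab (P : Subgroup G)
    (θ : Subgroup.centralizer ((P : Subgroup G) : Set G) → ℂ)
  obtain ⟨hediv, -, hcard, Ψ, ε, w, hε, hΨB, -, hwΨ, hwX, hw0, hDΨ, hDne, hrigid, hYcard, -, -,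
    hrel⟩ := core p M hM P hP B hB hBP b hind θ hθ hθP T hT _ _ rfl rfl
  set e := (Subgroup.centralizer ((P : Subgroup G) : Set G)).relIndex T with he
  -- arithmetic of `|G|`
  have hfac : (Nat.card G).factorization p = 1 := by
    have h1 : 1 ≤ (Nat.card G).factorization p :=
      (hp.dvd_iff_one_le_factorization Nat.card_pos.ne').mp hdiv
    have h2 : ¬ 2 ≤ (Nat.card G).factorization p := by
      intro h
      exact hsq ((hp.pow_dvd_iff_le_factorization Nat.card_pos.ne').mpr h)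
    omega
  obtain ⟨d, hNd⟩ := hdiv
  have hdeq : Nat.card G / p ^ (Nat.card G).factorization p = d := by
    rw [hfac, pow_one, hNd, Nat.mul_div_cancel_left _ hp.pos]
  have hdN : d ∣ Nat.card G := ⟨p, by rw [hNd, mul_comm]⟩
  rw [hdeq]
  have hgal : ∀ χ ψ : IrrCharacter G, (∃ σ : ℂ ≃+* ℂ,
      σ (Complex.exp (2 * Real.pi * Complex.I / (d : ℕ))) =
        Complex.exp (2 * Real.pi * Complex.I / (d : ℕ)) ∧
        (ψ : G → ℂ) = fun g => σ ((χ : G → ℂ) g)) ↔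
      ∃ k ∈ oneMod (Nat.card G) d hdN, twist k χ = ψ := conj_iff_twist d hdN
  have hp1 : 0 < p - 1 := by have := hp.two_le; omega
  have hepos : 0 < e := Nat.pos_of_dvd_of_pos hediv hp1
  have hε0 : (ε : ℂ) ≠ 0 := by
    rcases hε with h | h <;> rw [h] <;> simp
  -- the exceptional family
  have hYB : {χ : IrrCharacter G | ∃ μ, NT p μ ∧ χ = Ψ μ} ⊆ B := by
    rintro χ ⟨μ, hμ, rfl⟩
    exact hΨB μ hμ
  have hYpos : 0 < (p - 1) / e := Nat.div_pos (Nat.le_of_dvd hp1 hediv) hepos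
  have hYne : ({χ : IrrCharacter G | ∃ μ, NT p μ ∧ χ = Ψ μ}).Nonempty := by
    have h1 : Nat.card ↥{χ : IrrCharacter G | ∃ μ, NT p μ ∧ χ = Ψ μ} ≠ 0 := by
      have : Nat.card ↥{χ : IrrCharacter G | ∃ μ, NT p μ ∧ χ = Ψ μ} = (p - 1) / e := hYcard
      omega
    by_contra hne
    rw [Set.not_nonempty_iff_eq_empty] at hne
    apply h1
    rw [hne]
    simp
  obtain ⟨χ₁, μ₁, hμ₁, -⟩ := hYne
  -- non-vanishing of some Dnum
  have hnz : ∀ χ ∈ B, ∃ μ, NT p μ ∧ Dnum (Subgroup.centralizer ((P : Subgroup G) : Set G)) μ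
      (θ : Subgroup.centralizer ((P : Subgroup G) : Set G) → ℂ) (χ : G → ℂ) ≠ 0 := by
    intro χ hχ
    by_cases hY : ∃ μ, NT p μ ∧ χ = Ψ μ
    · obtain ⟨μ, hμ, rfl⟩ := hY
      exact ⟨μ, hμ, by rw [hDΨ μ hμ]; exact hε0⟩
    · push Not at hY
      refine ⟨μ₁, hμ₁, ?_⟩
      rw [hDne μ₁ hμ₁ χ (hY μ₁ hμ₁)]
      rcases hwX χ hχ hY with h | h <;> rw [h] <;> simp
  -- NT is preserved by unit powers
  have hNTpow : ∀ (k : (ZMod (Nat.card G))ˣ) (μ : Subgroup.centralizer ((P : Subgroup G) : Set G) → ℂ),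
      NT p μ → NT p (fun c => μ (c ^ (k : ZMod (Nat.card G)).val)) := by
    intro k μ hμ
    refine ⟨Cfsg.Agent.Helper23.D1QT3.isPLin_pow hμ.1 _, ?_⟩
    obtain ⟨x, hx⟩ := hμ.2
    refine ⟨x ^ ((k⁻¹ : (ZMod (Nat.card G))ˣ) : ZMod (Nat.card G)).val, ?_⟩
    have h1 : (x ^ ((k⁻¹ : (ZMod (Nat.card G))ˣ) : ZMod (Nat.card G)).val) ^
        (k : ZMod (Nat.card G)).val = x := by
      apply Subtype.ext
      rw [Subgroup.coe_pow, Subgroup.coe_pow]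
      exact pow_val_inv_val k (x : G)
    simp only
    rw [h1]
    exact hx
  -- (A) the block is stable under twists
  have hA : ∀ χ ∈ B, ∀ k ∈ oneMod (Nat.card G) d hdN, twist k χ ∈ B := by
    intro χ hχ k hk
    by_contra hnot
    obtain ⟨μ, hμ, hμne⟩ := hnz χ hχ
    apply hμne
    rw [← Cfsg.Agent.Helper1.D1QT2.Dnum_twist P hP d hNd hdN θ hθP μ hμ.1 k hk χ]
    exact Cfsg.Agent.Helper5.D1Q.Dnum_eq_zero_of_not_mem hM P hP b B hind θ hθ _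
      (hNTpow k μ hμ).1 _ hnot
  -- every ν is a unit power
  have hsurj : ∀ (k : (ZMod (Nat.card G))ˣ) (ν : Subgroup.centralizer ((P : Subgroup G) : Set G) → ℂ),
      (fun c => (fun c' => ν (c' ^ ((k⁻¹ : (ZMod (Nat.card G))ˣ) : ZMod (Nat.card G)).val))
        (c ^ (k : ZMod (Nat.card G)).val)) = ν := by
    intro k ν
    funext c
    simp only
    congr 1
    apply Subtype.ext
    rw [Subgroup.coe_pow, Subgroup.coe_pow]
    have := pow_val_inv_val k⁻¹ (c : G)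
    rw [inv_inv] at this
    exact this
  -- (B) non-exceptional characters are fixed
  have hBfix : ∀ χ ∈ B, (∀ μ, NT p μ → χ ≠ Ψ μ) → ∀ k ∈ oneMod (Nat.card G) d hdN,
      twist k χ = χ := by
    intro χ hχ hχY k hk
    apply hrigid (twist k χ) (hA χ hχ k hk) χ hχ
    · intro x hx
      exact Cfsg.Agent.Helper1.D1QT2.twist_apply_regular d hNd hdN k hk χ x hx
    · intro ν hν
      have hμ := hNTpow k⁻¹ ν hν
      have h1 := Cfsg.Agent.Helper1.D1QT2.Dnum_twist P hP d hNd hdN θ hθP _ hμ.1 k hk χ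
      rw [hsurj k ν] at h1
      rw [h1, hDne _ hμ χ (hχY _ hμ), hDne ν hν χ (hχY ν hν)]
  -- (C) the exceptional family is stable
  have hC : ∀ μ₀, NT p μ₀ → ∀ k ∈ oneMod (Nat.card G) d hdN, ∃ ν, NT p ν ∧ twist k (Ψ μ₀) = Ψ ν := by
    intro μ₀ hμ₀ k hk
    by_contra hnot
    push Not at hnot
    have h1 := hBfix (twist k (Ψ μ₀)) (hA _ (hΨB μ₀ hμ₀) k hk) hnot k⁻¹ (Subgroup.inv_mem _ hk)
    rw [← twist_mul, inv_mul_cancel, twist_one] at h1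
    exact hnot μ₀ hμ₀ h1.symm
  refine ⟨{χ : IrrCharacter G | ∃ μ, NT p μ ∧ χ = Ψ μ}, hYB, ⟨_, μ₁, hμ₁, rfl⟩, ?_, ?_, ?_, ?_, ?_⟩
  · -- full p-conjugacy class
    rintro θ' ⟨μ₀, hμ₀, rfl⟩ ψ
    rw [hgal]
    constructor
    · rintro ⟨k, hk, rfl⟩
      obtain ⟨ν, hν, h⟩ := hC μ₀ hμ₀ k hk
      exact ⟨ν, hν, h⟩
    · rintro ⟨μ₂, hμ₂, rfl⟩
      obtain ⟨k, hk, hkeq⟩ := Cfsg.Agent.Helper23.D1QT3.exists_oneMod_pow P hP d hNd hdN μ₀ μ₂
        hμ₀.1 hμ₂.1 hμ₀.2 hμ₂.2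
      refine ⟨k, hk, ?_⟩
      obtain ⟨ν, hν, h⟩ := hC μ₀ hμ₀ k hk
      rw [h]
      by_contra hne
      have h1 := Cfsg.Agent.Helper1.D1QT2.Dnum_twist P hP d hNd hdN θ hθP μ₀ hμ₀.1 k hk (Ψ μ₀)
      rw [← hkeq, h, hDΨ μ₀ hμ₀, hDne μ₂ hμ₂ (Ψ ν) hne, hwΨ ν hν] at h1
      apply hε0
      rw [← h1]
      simp
  · intro χ hχ hχY ψ hψ
    rw [hgal] at hψ
    obtain ⟨k, hk, rfl⟩ := hψ
    exact hBfix χ hχ (fun μ hμ h => hχY ⟨μ, hμ, h⟩) k hk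
  · have : Nat.card ↥{χ : IrrCharacter G | ∃ μ, NT p μ ∧ χ = Ψ μ} = (p - 1) / e := hYcard
    rw [this]
    exact Nat.div_dvd_of_dvd hediv
  · have : Nat.card ↥{χ : IrrCharacter G | ∃ μ, NT p μ ∧ χ = Ψ μ} = (p - 1) / e := hYcard
    rw [this, hcard, Nat.div_div_self hediv hp1.ne']
    ring
  · refine ⟨fun χ => if (∃ μ, NT p μ ∧ χ = Ψ μ) then ε else w χ, ?_, ?_⟩
    · intro χ hχ
      by_cases hY : ∃ μ, NT p μ ∧ χ = Ψ μ
      · simp only [if_pos hY]; exact hε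
      · simp only [if_neg hY]
        push Not at hY
        exact hwX χ hχ hY
    · rintro x hx θ' ⟨μ, hμ, rfl⟩
      have h := hrel μ hμ x hx
      have hY : ∃ μ', NT p μ' ∧ Ψ μ = Ψ μ' := ⟨μ, hμ, rfl⟩
      simp only [if_pos hY]
      rw [← h]
      congr 1
      rw [finsum_mem_def, finsum_eq_sum_of_fintype]
      refine Finset.sum_congr rfl fun χ _ => ?_
      by_cases hχ : χ ∈ B \ {χ : IrrCharacter G | ∃ μ, NT p μ ∧ χ = Ψ μ}
      · rw [Set.indicator_of_mem hχ]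
        have : ¬ ∃ μ, NT p μ ∧ χ = Ψ μ := hχ.2
        rw [if_neg this]
      · rw [Set.indicator_of_notMem hχ]
        have hw : w χ = 0 := by
          by_cases hχB : χ ∈ B
          · have : χ ∈ {χ : IrrCharacter G | ∃ μ, NT p μ ∧ χ = Ψ μ} := by
              by_contra h'
              exact hχ ⟨hχB, h'⟩
            obtain ⟨μ', hμ', rfl⟩ := this
            exact hwΨ μ' hμ'
          · exact hw0 χ hχB
        rw [hw]
        simp
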