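import Mathlib
import Cfsg.Agent.Helper8.SectionExpand
import Cfsg.Agent.Helper8.BrauerFeit
import Cfsg.Agent.Helper5.BrauerFormula
import Cfsg.Agent.Helper5.ExtFirstMain
import Cfsg.Agent.Helper5.FirstMain
import Cfsg.Agent.Helper5.CentralDefect2
import Cfsg.Agent.Helper5.BlockOrth

/-!
# 2-blocks of defect one
-/

set_option autoImplicit false

namespace Cfsg.Agent.Helper8.DefOne

open Cfsg Cfsg.Agent.Helper24 Cfsg.Agent.Helper5 Cfsg.Agent.Helper5.CC Cfsg.Agent.Helper5.Loc
open Cfsg.Agent.Helper8.SecCore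

variable {G : Type*} [Group G]

theorem mem_zpowers_involution {x : G} (hx : orderOf x = 2) {y : G}
    (hy : y ∈ Subgroup.zpowers x) : y = 1 ∨ y = x := by
  obtain ⟨i, rfl⟩ := Subgroup.mem_zpowers_iff.mp hy
  rw [← zpow_mod_orderOf, hx]
  have h1 : (0 : ℤ) ≤ i % ((2 : ℕ) : ℤ) := Int.emod_nonneg _ (by norm_num)
  have h2 : i % ((2 : ℕ) : ℤ) < 2 := Int.emod_lt_of_pos _ (by norm_num)
  have : i % ((2 : ℕ) : ℤ) = 0 ∨ i % ((2 : ℕ) : ℤ) = 1 := by omega
  rcases this with h | h
  · left; rw [h, zpow_zero]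
  · right; rw [h, zpow_one]

/-- `N(⟨x⟩) = C(x)` for an involution `x`. -/
theorem normalizer_zpowers_eq (x : G) (hx : orderOf x = 2) :
    Subgroup.normalizer ((Subgroup.zpowers x : Subgroup G) : Set G) =
      Subgroup.centralizer ({x} : Set G) := by
  have hx1 : x ≠ 1 := by
    intro h; rw [h, orderOf_one] at hx; norm_num at hx
  ext n
  rw [Subgroup.mem_centralizer_iff]
  constructor
  · intro hn w hw
    rw [Set.mem_singleton_iff] at hw
    subst hw
    have h1 : n * w * n⁻¹ ∈ Subgroup.zpowers w :=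
      (Subgroup.mem_normalizer_iff.mp hn w).mp (Subgroup.mem_zpowers w)
    rcases mem_zpowers_involution hx h1 with h | h
    · exfalso
      apply hx1
      have := congrArg (fun t => n⁻¹ * t * n) h
      simpa [mul_assoc] using this
    · calc w * n = n * w * n⁻¹ * n := by rw [h]
        _ = n * w := by group
  · intro hn
    have hc : x * n = n * x := hn x (Set.mem_singleton x)
    rw [Subgroup.mem_normalizer_iff]
    intro h
    have hconj : ∀ y ∈ Subgroup.zpowers x, n * y * n⁻¹ = y := by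
      intro y hy
      rcases mem_zpowers_involution hx hy with rfl | rfl
      · group
      · rw [← hc]; group
    constructor
    · intro hh
      rw [hconj h hh]; exact hh
    · intro hh
      have := hconj _ hh
      have e : n * h * n⁻¹ = h := by
        have h2 : n * (n * h * n⁻¹) * n⁻¹ = n * h * n⁻¹ := this
        have := congrArg (fun t => n⁻¹ * t * n) h2
        simpa [mul_assoc] using this
      rw [← e]; exact hh

variable [Fintype G] {M : Ideal AlgInt}

/-- Uniqueness in the first main theorem, for a subgroup equal to the normalizer. -/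
theorem block_unique {p : ℕ} [Fact p.Prime] (hM : IsPModular p M)
    (D : Subgroup G) (hD : IsPGroup p D) (H : Subgroup G)
    (hH : H = Subgroup.normalizer (D : Set G)) [Fintype H] [Fintype (IrrCharacter H)]
    {b₁ b₂ : Set (IrrCharacter H)} {B : Set (IrrCharacter G)}
    (hb₁ : IsPBlock M b₁) (hb₂ : IsPBlock M b₂)
    (hD₁ : IsDefectGroup p M b₁ (D.subgroupOf H))
    (hind₁ : IsInducedBlock M H b₁ B) (hind₂ : IsInducedBlock M H b₂ B) : b₁ = b₂ := by
  subst hH
  exact block_eq_of_induced_eq hM D hD hb₁ hb₂ hD₁ hind₁ hind₂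

/-- **2-blocks of defect one.** -/
theorem defect_one [Fintype (IrrCharacter G)] (hM : IsPModular 2 M) (x : G) (hx : orderOf x = 2)
    (B : Set (IrrCharacter G)) (hB : IsPBlock M B)
    (hBD : IsDefectGroup 2 M B (Subgroup.zpowers x))
    (C : Subgroup G) (hC : C = Subgroup.centralizer ({x} : Set G)) [Fintype C]
    [Fintype (IrrCharacter C)]
    (b : Set (IrrCharacter C)) (hb : IsInducedBlock M C b B)
    (θ : IrrCharacter C) (hθ : θ ∈ b) :
    Nat.card B = 2 ∧
      (∀ χ ∈ B, ∀ ψ ∈ B, ∀ g : G, ¬ 2 ∣ orderOf g → (χ : G → ℂ) g = (ψ : G → ℂ) g) ∧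
      ∃ χ₁ ∈ B, ∃ χ₂ ∈ B, χ₁ ≠ χ₂ ∧ ∃ ε₁ ε₂ : ℤ, (ε₁ = 1 ∨ ε₁ = -1) ∧ (ε₂ = 1 ∨ ε₂ = -1) ∧
        ε₁ * ε₂ = -1 ∧
        ∀ y : C, ¬ 2 ∣ orderOf y →
          (χ₁ : G → ℂ) (x * y) = (ε₁ : ℂ) * (θ : C → ℂ) y ∧
          (χ₂ : G → ℂ) (x * y) = (ε₂ : ℂ) * (θ : C → ℂ) y := by
  classical
  haveI : Fact (Nat.Prime 2) := ⟨Nat.prime_two⟩
  have hMp := isPrime_of_isPModular hM
  set D : Subgroup G := Subgroup.zpowers x with hD
  have hmem : ∀ y : G, y ∈ C ↔ x * y = y * x := by
    intro y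
    rw [hC, Subgroup.mem_centralizer_iff]
    constructor
    · intro h; exact h x (Set.mem_singleton x)
    · intro h w hw
      rw [Set.mem_singleton_iff] at hw
      rw [hw]; exact h
  have hxC : x ∈ C := (hmem x).mpr rfl
  have hcomm : ∀ c : C, x * (c : G) = (c : G) * x := fun c => (hmem c).mp c.2
  have hx2 : x * x = 1 := by
    have := pow_orderOf_eq_one x
    rwa [hx, pow_two] at this
  have hcardD : Nat.card D = 2 := by rw [hD, Nat.card_zpowers, hx]
  have hDp : IsPGroup 2 D := IsPGroup.of_card (n := 1) (by rw [hcardD, pow_one])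
  have hDC : D ≤ C := by
    rw [hD, Subgroup.zpowers_le]; exact hxC
  have hNC : Subgroup.normalizer (D : Set G) = C := by rw [hC]; exact normalizer_zpowers_eq x hx
  have hCN : C ≤ Subgroup.normalizer (D : Set G) := by rw [hNC]
  have hbD : IsDefectGroup 2 M b (D.subgroupOf C) :=
    Cfsg.Agent.Helper5.EFM.isDefectGroup_of_induced' hM B D C hBD hDp hDC hCN b hb
  -- the blocks of `C` inducing `B`
  have hS : indSet M C B = b := by
    ext ψ
    constructor
    · intro hψ
      have := block_unique hM D hDp C hNC.symm hb.1 (isPBlock_blockOf ψ) hbD hb hψ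
      rw [this]
      exact mem_blockOf_self hMp ψ
    · intro hψ
      show IsInducedBlock M C (blockOf M (ψ : C → ℂ)) B
      rw [← IsPBlock_eq_blockOf hMp hb.1 hψ]
      exact hb
  -- the members of `b` agree on the 2-regular elements
  have hD'Z : D.subgroupOf C ≤ Subgroup.center C := by
    intro z hz
    rw [Subgroup.mem_subgroupOf] at hz
    rw [Subgroup.mem_center_iff]
    intro c
    apply Subtype.ext
    show (c : G) * (z : G) = (z : G) * (c : G)
    rcases mem_zpowers_involution hx hz with h | h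
    · rw [h]; simp
    · rw [h]; exact (hcomm c).symm
  have hD'p : IsPGroup 2 (D.subgroupOf C) := hDp.comap_subtype
  have heq : ∀ ψ ∈ b, ∀ y : C, ¬ 2 ∣ orderOf y → (ψ : C → ℂ) y = (θ : C → ℂ) y := by
    intro ψ hψ y hy
    have h1 := Cfsg.Agent.Helper5.CD.factorization_degree_of_central_defect hM hb.1 hbD hD'Z ψ hψ
    have h2 := Cfsg.Agent.Helper5.CD.factorization_degree_of_central_defect hM hb.1 hbD hD'Z θ hθ
    have hsame : SameBlock M (ψ : C → ℂ) (θ : C → ℂ) := by
      have e := IsPBlock_eq_blockOf hMp hb.1 hψ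
      rw [e] at hθ
      exact mem_blockOf_iff.mp hθ
    exact Cfsg.Agent.Helper5.CD.eq_on_regular hM (D.subgroupOf C) hD'p hD'Z ψ θ h1 h2 hsame y hy
  have hθ1 : (θ : C → ℂ) 1 ≠ 0 := irr_one_ne_zero θ
  have hone_reg : ¬ 2 ∣ orderOf (1 : C) := by rw [orderOf_one]; norm_num
  -- the integers `c χ`
  have hint : ∀ (χ : IrrCharacter G) (ψ : IrrCharacter C), ∃ n : ℤ,
      classInner (fun c : C => (χ : G → ℂ) (x * (c : G))) (ψ : C → ℂ) = (n : ℂ) :=
    fun χ ψ => classInner_shift_int C x hxC hcomm hx2 χ ψ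
  choose n hn using hint
  set cc : IrrCharacter G → ℤ := fun χ => ∑ ψ : IrrCharacter C, if ψ ∈ b then n χ ψ else 0
    with hcc
  have hexp : ∀ χ ∈ B, ∀ y : C, ¬ 2 ∣ orderOf y →
      (χ : G → ℂ) (x * (y : G)) = (cc χ : ℂ) * (θ : C → ℂ) y := by
    intro χ hχ y hy
    have h1 := section_expansion hM x ⟨1, by rw [hx, pow_one]⟩ C hxC hcomm (le_of_eq hC.symm) B hB χ y hy
    rw [if_pos hχ] at h1
    rw [h1, hcc]
    push_cast
    rw [Finset.sum_mul]
    refine Finset.sum_congr rfl fun ψ _ => ?_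
    by_cases hψ : ψ ∈ b
    · rw [if_pos (by rw [hS]; exact hψ), if_pos hψ, hn χ ψ, heq ψ hψ y hy]
    · rw [if_neg (by rw [hS]; exact hψ), if_neg hψ]
      simp
  have hxval : ∀ χ ∈ B, (χ : G → ℂ) x = (cc χ : ℂ) * (θ : C → ℂ) 1 := by
    intro χ hχ
    have := hexp χ hχ 1 hone_reg
    rwa [Subgroup.coe_one, mul_one] at this
  -- the sum of squares
  have hsumsq : ∑ χ : IrrCharacter G, (if χ ∈ B then (cc χ) ^ 2 else 0) = (Nat.card b : ℤ) := by
    have hbf := brauer_formula hM x ⟨1, by rw [hx, pow_one]⟩ C hxC hcomm (le_of_eq hC.symm) B hB 1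
      hone_reg
    have hSS : inducingSet M C B = b := hS
    rw [hSS, Subgroup.coe_one, mul_one, finsum_mem_eq_sum_ite, finsum_mem_eq_sum_ite] at hbf
    set t : ℂ := (θ : C → ℂ) 1 * (starRingEnd ℂ) ((θ : C → ℂ) 1) with ht
    have ht0 : t ≠ 0 := mul_ne_zero hθ1 ((map_ne_zero _).mpr hθ1)
    have hL : ∑ i : IrrCharacter G, (if i ∈ B then
        (i : G → ℂ) x * (starRingEnd ℂ) ((i : G → ℂ) x) else 0) =
        ((∑ χ : IrrCharacter G, (if χ ∈ B then (cc χ) ^ 2 else 0) : ℤ) : ℂ) * t := by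
      push_cast
      rw [Finset.sum_mul]
      refine Finset.sum_congr rfl fun χ _ => ?_
      by_cases hχ : χ ∈ B
      · rw [if_pos hχ, if_pos hχ, hxval χ hχ, map_mul, map_intCast, ht]
        ring
      · rw [if_neg hχ, if_neg hχ, zero_mul]
    have hR : ∑ i : IrrCharacter C, (if i ∈ b then
        (i : C → ℂ) 1 * (starRingEnd ℂ) ((i : C → ℂ) 1) else 0) = ((Nat.card b : ℤ) : ℂ) * t := by
      rw [Cfsg.Agent.Helper8.BF.natCard_eq_sum b]
      push_cast
      rw [Finset.sum_mul]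
      refine Finset.sum_congr rfl fun ψ _ => ?_
      by_cases hψ : ψ ∈ b
      · rw [if_pos hψ, if_pos hψ, heq ψ hψ 1 hone_reg, one_mul]
      · rw [if_neg hψ, if_neg hψ, zero_mul]
    rw [hL, hR] at hbf
    have := mul_right_cancel₀ ht0 hbf
    exact_mod_cast this
  -- bounds on the numbers of characters
  have hdefB : blockDefect 2 B = 1 := by
    have h1 := card_defectGroup hM hB hBD
    rw [hcardD] at h1
    have : (2 : ℕ) ^ 1 = 2 ^ blockDefect 2 B := by rw [← h1]; norm_num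
    exact (Nat.pow_right_injective (le_refl 2) this).symm
  have hkB : Nat.card B ≤ 2 := by
    have := Cfsg.Agent.Helper8.BF.four_mul_card_le hM hB
    rw [hdefB] at this
    omega
  have hdefb : blockDefect 2 b = 1 := by
    have h1 := card_defectGroup hM hb.1 hbD
    have h2 : Nat.card (D.subgroupOf C) = 2 := by
      rw [Nat.card_congr (Subgroup.subgroupOfEquivOfLe hDC).toEquiv, hcardD]
    rw [h2] at h1
    have : (2 : ℕ) ^ 1 = 2 ^ blockDefect 2 b := by rw [← h1]; norm_num
    exact (Nat.pow_right_injective (le_refl 2) this).symm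
  have hkb : Nat.card b ≤ 2 := by
    have := Cfsg.Agent.Helper8.BF.four_mul_card_le hM hb.1
    rw [hdefb] at this
    omega
  have hkb1 : 1 ≤ Nat.card b := by
    rw [Cfsg.Agent.Helper8.BF.natCard_eq_sum b]
    have : (if θ ∈ b then 1 else 0) ≤ ∑ ψ : IrrCharacter C, (if ψ ∈ b then 1 else 0) :=
      Finset.single_le_sum (f := fun ψ : IrrCharacter C => if ψ ∈ b then 1 else 0)
        (fun _ _ => Nat.zero_le _) (Finset.mem_univ θ)
    rwa [if_pos hθ] at this
  -- orthogonality
  have horth : ∀ g : G, ¬ 2 ∣ orderOf g →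
      ∑ χ : IrrCharacter G, (if χ ∈ B then (cc χ : ℂ) * (χ : G → ℂ) g else 0) = 0 := by
    intro g hg
    have h := block_orthogonality hM hB g x hg (by rw [hx])
    have e : ∑ χ : IrrCharacter G, (if χ ∈ B then (1 : ℂ) else 0) *
        ((χ : G → ℂ) g * (starRingEnd ℂ) ((χ : G → ℂ) x)) =
        (starRingEnd ℂ) ((θ : C → ℂ) 1) *
          ∑ χ : IrrCharacter G, (if χ ∈ B then (cc χ : ℂ) * (χ : G → ℂ) g else 0) := by
      rw [Finset.mul_sum]
      refine Finset.sum_congr rfl fun χ _ => ?_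
      by_cases hχ : χ ∈ B
      · rw [if_pos hχ, if_pos hχ, hxval χ hχ, map_mul, map_intCast]
        ring
      · rw [if_neg hχ, if_neg hχ, zero_mul, mul_zero]
    rw [e] at h
    rcases mul_eq_zero.mp h with h0 | h0
    · exact absurd h0 ((map_ne_zero _).mpr hθ1)
    · exact h0
  -- the block as a finset
  set FB : Finset (IrrCharacter G) := Finset.univ.filter (fun χ => χ ∈ B) with hFB
  have hFBmem : ∀ χ, χ ∈ FB ↔ χ ∈ B := by
    intro χ; rw [hFB, Finset.mem_filter]; simp
  have hFBcard : FB.card = Nat.card B := by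
    rw [Nat.card_eq_fintype_card, Fintype.card_subtype]
  have hsumsq' : ∑ χ ∈ FB, (cc χ) ^ 2 = (Nat.card b : ℤ) := by
    rw [← hsumsq, hFB, Finset.sum_filter]
  have horth' : ∀ g : G, ¬ 2 ∣ orderOf g → ∑ χ ∈ FB, (cc χ : ℂ) * (χ : G → ℂ) g = 0 := by
    intro g hg
    rw [← horth g hg, hFB, Finset.sum_filter]
  have hone_regG : ¬ 2 ∣ orderOf (1 : G) := by rw [orderOf_one]; norm_num
  obtain ⟨χ₀, hχ₀⟩ := IsPBlock.nonempty hMp hB
  have hpos : 0 < FB.card := Finset.card_pos.mpr ⟨χ₀, (hFBmem χ₀).mpr hχ₀⟩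
  have hcases : FB.card = 1 ∨ FB.card = 2 := by omega
  rcases hcases with h1 | h2
  · -- one character: impossible
    exfalso
    obtain ⟨χ, hχ⟩ := Finset.card_eq_one.mp h1
    have h0 := horth' 1 hone_regG
    rw [hχ, Finset.sum_singleton] at h0
    have hc0 : cc χ = 0 := by
      rcases mul_eq_zero.mp h0 with h | h
      · exact_mod_cast h
      · exact absurd h (irr_one_ne_zero χ)
    rw [hχ, Finset.sum_singleton, hc0] at hsumsq'
    have : (Nat.card b : ℤ) = 0 := by rw [← hsumsq']; norm_num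
    omega
  · obtain ⟨χ₁, χ₂, hne, hχ⟩ := Finset.card_eq_two.mp h2
    have hχ₁B : χ₁ ∈ B := (hFBmem χ₁).mp (by rw [hχ]; simp)
    have hχ₂B : χ₂ ∈ B := (hFBmem χ₂).mp (by rw [hχ]; simp)
    have hsq : (cc χ₁) ^ 2 + (cc χ₂) ^ 2 = (Nat.card b : ℤ) := by
      rw [← hsumsq', hχ, Finset.sum_pair hne]
    have ho : ∀ g : G, ¬ 2 ∣ orderOf g →
        (cc χ₁ : ℂ) * (χ₁ : G → ℂ) g + (cc χ₂ : ℂ) * (χ₂ : G → ℂ) g = 0 := by
      intro g hg
      have := horth' g hg
      rwa [hχ, Finset.sum_pair hne] at this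
    -- degrees
    have hd1 := irrDeg_spec χ₁
    have hd2 := irrDeg_spec χ₂
    have hp1 := irrDeg_pos χ₁
    have hp2 := irrDeg_pos χ₂
    have ho1 : cc χ₁ * (irrDeg χ₁ : ℤ) + cc χ₂ * (irrDeg χ₂ : ℤ) = 0 := by
      have := ho 1 hone_regG
      rw [hd1, hd2] at this
      exact_mod_cast this
    have hc1 : cc χ₁ ≠ 0 := by
      intro h
      rw [h, zero_mul, zero_add] at ho1
      have h2' : cc χ₂ = 0 := by
        rcases mul_eq_zero.mp ho1 with h' | h'
        · exact h'
        · exfalso; have : (irrDeg χ₂ : ℤ) ≠ 0 := by exact_mod_cast hp2.ne'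
          exact this h'
      have h0 : (Nat.card b : ℤ) = 0 := by rw [← hsq, h, h2']; norm_num
      have hkb1' : (1 : ℤ) ≤ (Nat.card b : ℤ) := by exact_mod_cast hkb1
      omega
    have hc2 : cc χ₂ ≠ 0 := by
      intro h
      rw [h, zero_mul, add_zero] at ho1
      have h1' : cc χ₁ = 0 := by
        rcases mul_eq_zero.mp ho1 with h' | h'
        · exact h'
        · exfalso; have : (irrDeg χ₁ : ℤ) ≠ 0 := by exact_mod_cast hp1.ne'
          exact this h'
      exact hc1 h1'
    have hs1 : 1 ≤ (cc χ₁) ^ 2 := by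
      have : 0 < (cc χ₁) ^ 2 := by positivity
      omega
    have hs2 : 1 ≤ (cc χ₂) ^ 2 := by
      have : 0 < (cc χ₂) ^ 2 := by positivity
      omega
    have hb2 : (Nat.card b : ℤ) ≤ 2 := by exact_mod_cast hkb
    have hq1 : (cc χ₁) ^ 2 = 1 := by omega
    have hq2 : (cc χ₂) ^ 2 = 1 := by omega
    have he1 : cc χ₁ = 1 ∨ cc χ₁ = -1 := by
      have : (cc χ₁ - 1) * (cc χ₁ + 1) = 0 := by ring_nf; ring_nf at hq1; omega
      rcases mul_eq_zero.mp this with h | h
      · left; omega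
      · right; omega
    have he2 : cc χ₂ = 1 ∨ cc χ₂ = -1 := by
      have : (cc χ₂ - 1) * (cc χ₂ + 1) = 0 := by ring_nf; ring_nf at hq2; omega
      rcases mul_eq_zero.mp this with h | h
      · left; omega
      · right; omega
    have hprod : cc χ₁ * cc χ₂ = -1 := by
      have hp1' : (0 : ℤ) < irrDeg χ₁ := by exact_mod_cast hp1
      have hp2' : (0 : ℤ) < irrDeg χ₂ := by exact_mod_cast hp2
      rcases he1 with h | h <;> rcases he2 with h' | h'
      · exfalso; rw [h, h'] at ho1; linarith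
      · rw [h, h']; norm_num
      · rw [h, h']; norm_num
      · exfalso; rw [h, h'] at ho1; linarith
    have hneg : cc χ₂ = - cc χ₁ := by
      rcases he1 with h | h <;> rcases he2 with h' | h'
      · exfalso; rw [h, h'] at hprod; norm_num at hprod
      · rw [h, h']
      · rw [h, h']; norm_num
      · exfalso; rw [h, h'] at hprod; norm_num at hprod
    have hagree : ∀ g : G, ¬ 2 ∣ orderOf g → (χ₁ : G → ℂ) g = (χ₂ : G → ℂ) g := by
      intro g hg
      have := ho g hg
      rw [hneg] at this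
      push_cast at this
      have hc1' : (cc χ₁ : ℂ) ≠ 0 := by exact_mod_cast hc1
      have h3 : (cc χ₁ : ℂ) * ((χ₁ : G → ℂ) g - (χ₂ : G → ℂ) g) = 0 := by linear_combination this
      rcases mul_eq_zero.mp h3 with h | h
      · exact absurd h hc1'
      · exact sub_eq_zero.mp h
    refine ⟨by rw [← hFBcard, h2], ?_, χ₁, hχ₁B, χ₂, hχ₂B, hne, cc χ₁, cc χ₂, he1, he2, hprod, ?_⟩
    · intro χ hχB ψ hψB g hg
      have h1 : χ ∈ FB := (hFBmem χ).mpr hχB
      have h2' : ψ ∈ FB := (hFBmem ψ).mpr hψB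
      rw [hχ, Finset.mem_insert, Finset.mem_singleton] at h1 h2'
      rcases h1 with rfl | rfl <;> rcases h2' with rfl | rfl
      · rfl
      · exact hagree g hg
      · exact (hagree g hg).symm
      · rfl
    · intro y hy
      exact ⟨hexp χ₁ hχ₁B y hy, hexp χ₂ hχ₂B y hy⟩

end Cfsg.Agent.Helper8.DefOne
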