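import Mathlib
import Cfsg.Agent.Helper24.DefectZero
import Cfsg.Agent.Helper24.SmallDegree
import Cfsg.Agent.Helper8.KleinCount
import Cfsg.Agent.S0158

/-!
# Characters of defect zero for `2` and all primes `p` with elements of order `2p`
-/

set_option autoImplicit false

namespace Cfsg.Agent.Helper8.DZInv

open Cfsg Cfsg.Agent.Helper24

variable {G : Type*} [Group G] [Fintype G]

/-- Squaring permutes the elements of odd order. -/
theorem sum_odd_sq [DecidableEq G] (f : G → ℂ) :
    ∑ g ∈ Finset.univ.filter (fun g : G => Odd (orderOf g)), f (g * g) =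
      ∑ g ∈ Finset.univ.filter (fun g : G => Odd (orderOf g)), f g := by
  have hord : ∀ g : G, Odd (orderOf g) → orderOf (g * g) = orderOf g := by
    intro g hg
    rw [← pow_two, orderOf_pow' g (by norm_num : (2 : ℕ) ≠ 0)]
    have : Nat.gcd (orderOf g) 2 = 1 := Nat.coprime_two_right.mpr hg
    rw [this, Nat.div_one]
  refine Finset.sum_nbij' (fun g => g * g) (fun k => k ^ ((orderOf k + 1) / 2)) ?_ ?_ ?_ ?_ ?_
  · intro g hg
    rw [Finset.mem_filter] at hg ⊢
    exact ⟨Finset.mem_univ _, by rw [hord g hg.2]; exact hg.2⟩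
  · intro k hk
    rw [Finset.mem_filter] at hk ⊢
    refine ⟨Finset.mem_univ _, ?_⟩
    exact Odd.of_dvd_nat hk.2 (orderOf_pow_dvd _)
  · intro g hg
    rw [Finset.mem_filter] at hg
    obtain ⟨m, hm⟩ := hg.2
    show (g * g) ^ ((orderOf (g * g) + 1) / 2) = g
    rw [hord g hg.2, hm]
    have : (2 * m + 1 + 1) / 2 = m + 1 := by omega
    rw [this, ← pow_two, ← pow_mul]
    have h2 : 2 * (m + 1) = orderOf g + 1 := by omega
    rw [h2, pow_succ, pow_orderOf_eq_one, one_mul]
  · intro k hk
    rw [Finset.mem_filter] at hk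
    obtain ⟨m, hm⟩ := hk.2
    show k ^ ((orderOf k + 1) / 2) * k ^ ((orderOf k + 1) / 2) = k
    rw [hm]
    have : (2 * m + 1 + 1) / 2 = m + 1 := by omega
    rw [this, ← pow_add]
    have h2 : m + 1 + (m + 1) = orderOf k + 1 := by omega
    rw [h2, pow_succ, pow_orderOf_eq_one, one_mul]
  · intro g _
    rfl

section Main

variable [Fintype (IrrCharacter G)] (χ : IrrCharacter G)
  (h2 : 2 ^ (Nat.card G).factorization 2 ∣ irrDeg χ)
  (hp : ∀ p : ℕ, p.Prime → p ≠ 2 → (∃ g : G, orderOf g = 2 * p) →
    p ^ (Nat.card G).factorization p ∣ irrDeg χ)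

/-- Vanishing at `q`-singular elements when the degree has the full `q`-part. -/
theorem vanish (q : ℕ) (hq : q.Prime) (hdeg : q ^ (Nat.card G).factorization q ∣ irrDeg χ)
    (g : G) (hg : q ∣ orderOf g) : (χ : G → ℂ) g = 0 :=
  irr_eq_zero_of_defect_zero χ q ((Nat.card G).factorization q) (irrDeg χ) hq
    (Nat.ordProj_dvd _ _) (Nat.pow_succ_factorization_not_dvd Nat.card_pos.ne' hq)
    (irrDeg_spec χ) hdeg g hg

include h2 hp in
/-- `χ(g²) = 0` unless `g` has odd order or is an involution. -/
theorem sq_vanish (g : G) (hodd : ¬ Odd (orderOf g)) (hinv : orderOf g ≠ 2) :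
    (χ : G → ℂ) (g * g) = 0 := by
  have hev : Even (orderOf g) := Nat.not_odd_iff_even.mp hodd
  obtain ⟨m, hm⟩ := hev
  have hm2 : orderOf g = 2 * m := by rw [hm]; ring
  have hpos : 0 < orderOf g := orderOf_pos g
  have hm1 : m ≠ 1 := by
    intro h; apply hinv; rw [hm2, h]
  have hm0 : m ≠ 0 := by
    intro h; rw [hm2, h] at hpos; exact absurd hpos (by norm_num)
  have hsq : orderOf (g * g) = m := by
    rw [← pow_two, orderOf_pow_of_dvd (by norm_num) (by rw [hm2]; exact dvd_mul_right 2 m), hm2]
    exact Nat.mul_div_cancel_left m (by norm_num)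
  by_cases hme : Even m
  · exact vanish χ 2 Nat.prime_two h2 (g * g) (by rw [hsq]; exact even_iff_two_dvd.mp hme)
  · obtain ⟨p, hpp, hpm⟩ := Nat.exists_prime_and_dvd hm1
    have hp2 : p ≠ 2 := by
      rintro rfl
      exact hme (even_iff_two_dvd.mpr hpm)
    obtain ⟨k, hk⟩ := hpm
    have hk0 : k ≠ 0 := by
      rintro rfl
      rw [mul_zero] at hk
      exact hm0 hk
    have hord : orderOf (g ^ k) = 2 * p := by
      rw [orderOf_pow_of_dvd hk0 (by rw [hm2, hk]; exact ⟨2 * p, by ring⟩), hm2, hk]
      have : 2 * (p * k) = (2 * p) * k := by ring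
      rw [this]
      exact Nat.mul_div_cancel _ (Nat.pos_of_ne_zero hk0)
    exact vanish χ p hpp (hp p hpp hp2 ⟨g ^ k, hord⟩) (g * g) (by rw [hsq, hk]; exact dvd_mul_right p k)

include h2 in
theorem two_dvd_irrDeg (heven : Even (Nat.card G)) : 2 ∣ irrDeg χ := by
  have h1 : 1 ≤ (Nat.card G).factorization 2 :=
    (Nat.Prime.dvd_iff_one_le_factorization Nat.prime_two Nat.card_pos.ne').mp
      (even_iff_two_dvd.mp heven)
  exact dvd_trans (dvd_pow_self 2 (by omega)) h2

include h2 in
theorem sum_eq_zero (heven : Even (Nat.card G)) : ∑ g : G, (χ : G → ℂ) g = 0 := by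
  have hne : χ ≠ trivIrr G := by
    intro h
    have h1 := two_dvd_irrDeg χ h2 heven
    have h3 : irrDeg (trivIrr G) = 1 := by
      have h4 := irrDeg_spec (trivIrr G)
      have h5 : ((trivIrr G : IrrCharacter G) : G → ℂ) 1 = 1 := rfl
      rw [h5] at h4
      exact_mod_cast h4.symm
    rw [h, h3] at h1
    omega
  have h1 := classInner_irr_ne hne
  unfold classInner at h1
  have hg : (Nat.card G : ℂ)⁻¹ ≠ 0 := by
    apply inv_ne_zero
    exact_mod_cast (Nat.card_pos (α := G)).ne'
  have h2 := (mul_eq_zero.mp h1).resolve_left hg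
  rw [← h2]
  refine Finset.sum_congr rfl fun g _ => ?_
  rw [trivIrr_apply, map_one, mul_one]

include h2 hp in
/-- `∑_g χ(g²) = #involutions · χ(1)`. -/
theorem sum_sq [DecidableEq G] (heven : Even (Nat.card G)) :
    ∑ g : G, (χ : G → ℂ) (g * g) =
      ((Finset.univ.filter (fun g : G => orderOf g = 2)).card : ℂ) * (irrDeg χ : ℂ) := by
  rw [← Finset.sum_filter_add_sum_filter_not Finset.univ (fun g : G => orderOf g = 2)]
  have hfirst : ∑ g ∈ Finset.univ.filter (fun g : G => orderOf g = 2), (χ : G → ℂ) (g * g) =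
      ((Finset.univ.filter (fun g : G => orderOf g = 2)).card : ℂ) * (irrDeg χ : ℂ) := by
    rw [Finset.sum_congr rfl (g := fun _ => (irrDeg χ : ℂ))]
    · rw [Finset.sum_const, nsmul_eq_mul]
    · intro g hg
      rw [Finset.mem_filter] at hg
      have := pow_orderOf_eq_one g
      rw [hg.2, pow_two] at this
      rw [this, irrDeg_spec]
  have hsecond : ∑ g ∈ Finset.univ.filter (fun g : G => ¬ orderOf g = 2),
      (χ : G → ℂ) (g * g) = 0 := by
    have hsub : Finset.univ.filter (fun g : G => Odd (orderOf g)) ⊆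
        Finset.univ.filter (fun g : G => ¬ orderOf g = 2) := by
      intro g hg
      rw [Finset.mem_filter] at hg ⊢
      refine ⟨Finset.mem_univ _, fun h => ?_⟩
      rw [h] at hg
      exact absurd hg.2 (by decide)
    rw [← Finset.sum_subset hsub]
    · rw [sum_odd_sq]
      rw [Finset.sum_subset (Finset.filter_subset _ Finset.univ)]
      · exact sum_eq_zero χ h2 heven
      · intro g _ hg
        rw [Finset.mem_filter] at hg
        have : ¬ Odd (orderOf g) := fun h => hg ⟨Finset.mem_univ _, h⟩
        exact vanish χ 2 Nat.prime_two h2 g (even_iff_two_dvd.mp (Nat.not_odd_iff_even.mp this))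
    · intro g hg hg'
      rw [Finset.mem_filter] at hg hg'
      exact sq_vanish χ h2 hp g (fun h => hg' ⟨Finset.mem_univ _, h⟩) hg.2
  rw [hfirst, hsecond, add_zero]

include h2 hp in
/-- The indicator is `1` and `#involutions · χ(1) = |G|`. -/
theorem card_invol_mul [DecidableEq G] (heven : Even (Nat.card G)) :
    (Finset.univ.filter (fun g : G => orderOf g = 2)).card * irrDeg χ = Nat.card G ∧
      (Nat.card G : ℂ)⁻¹ * ∑ g : G, (χ : G → ℂ) (g * g) = 1 := by
  haveI : Fact (Nat.Prime 2) := ⟨Nat.prime_two⟩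
  obtain ⟨n, ρ, hρ, hχρ⟩ := χ.2
  haveI := hρ
  have hFS := (Cfsg.Agent.S0158.result ρ).1
  rw [hχρ] at hFS
  have hsum := sum_sq χ h2 hp heven
  set I := (Finset.univ.filter (fun g : G => orderOf g = 2)).card with hI
  have hIpos : 0 < I := by
    rw [hI, Finset.card_pos]
    obtain ⟨t, ht⟩ := exists_prime_orderOf_dvd_card (G := G) 2
      (by rw [← Nat.card_eq_fintype_card]; exact even_iff_two_dvd.mp heven)
    exact ⟨t, by rw [Finset.mem_filter]; exact ⟨Finset.mem_univ _, ht⟩⟩
  have hxpos : 0 < irrDeg χ := irrDeg_pos χ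
  have hgpos : 0 < Nat.card G := Nat.card_pos
  have hg : (Nat.card G : ℂ) ≠ 0 := by exact_mod_cast hgpos.ne'
  rw [hsum] at hFS ⊢
  have hkey : ((I * irrDeg χ : ℕ) : ℂ) = (Nat.card G : ℂ) := by
    rcases hFS with h | h | h
    · exfalso
      have h1 := (mul_eq_zero.mp h).resolve_left (inv_ne_zero hg)
      have h2' : ((I * irrDeg χ : ℕ) : ℂ) = 0 := by push_cast; exact h1
      have h3 : I * irrDeg χ = 0 := by exact_mod_cast h2'
      have := Nat.mul_pos hIpos hxpos
      omega
    · rw [inv_mul_eq_iff_eq_mul₀ hg, mul_one] at h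
      push_cast; exact h
    · exfalso
      rw [inv_mul_eq_iff_eq_mul₀ hg] at h
      have h2' : ((I * irrDeg χ + Nat.card G : ℕ) : ℂ) = 0 := by
        push_cast; rw [h]; ring
      have h3 : I * irrDeg χ + Nat.card G = 0 := by exact_mod_cast h2'
      omega
  constructor
  · exact_mod_cast hkey
  · rw [inv_mul_eq_iff_eq_mul₀ hg, mul_one]
    push_cast at hkey
    exact hkey

include h2 hp in
/-- The order of the centralizer of an involution divides `χ(1)`, and `χ(1)` has the full
`p`-part of `|G|` for every prime divisor `p` of that order. -/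
theorem card_centralizer_dvd (s : G) (hs : orderOf s = 2) :
    Nat.card (Subgroup.centralizer ({s} : Set G)) ∣ irrDeg χ ∧
      ∀ p : ℕ, p.Prime → p ∣ Nat.card (Subgroup.centralizer ({s} : Set G)) →
        (Nat.card G).factorization p ≤ (irrDeg χ).factorization p := by
  have hx0 : irrDeg χ ≠ 0 := (irrDeg_pos χ).ne'
  have hc0 : Nat.card (Subgroup.centralizer ({s} : Set G)) ≠ 0 := Nat.card_pos.ne'
  have hG0 : Nat.card G ≠ 0 := Nat.card_pos.ne'
  have hfull : ∀ p : ℕ, p.Prime → p ∣ Nat.card (Subgroup.centralizer ({s} : Set G)) →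
      (Nat.card G).factorization p ≤ (irrDeg χ).factorization p := by
    intro p hpp hpc
    by_cases hp2 : p = 2
    · subst hp2
      exact (Nat.Prime.pow_dvd_iff_le_factorization Nat.prime_two hx0).mp h2
    · haveI : Fact p.Prime := ⟨hpp⟩
      obtain ⟨y, hy⟩ := exists_prime_orderOf_dvd_card' (G := Subgroup.centralizer ({s} : Set G))
        p hpc
      have hyG : orderOf (y : G) = p := by rw [Subgroup.orderOf_coe]; exact hy
      have hcomm : Commute s (y : G) := by
        have := (Subgroup.mem_centralizer_iff.mp y.2) s (Set.mem_singleton s)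
        exact this
      have hcop : Nat.Coprime (orderOf s) (orderOf (y : G)) := by
        rw [hs, hyG]
        exact (Nat.coprime_primes Nat.prime_two hpp).mpr (Ne.symm hp2)
      have hord : orderOf (s * (y : G)) = 2 * p := by
        rw [hcomm.orderOf_mul_eq_mul_orderOf_of_coprime hcop, hs, hyG]
      exact (Nat.Prime.pow_dvd_iff_le_factorization hpp hx0).mp
        (hp p hpp hp2 ⟨s * (y : G), hord⟩)
  refine ⟨?_, hfull⟩
  rw [← Nat.factorization_prime_le_iff_dvd hc0 hx0]
  intro p hpp
  by_cases hpc : p ∣ Nat.card (Subgroup.centralizer ({s} : Set G))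
  · have h1 : (Nat.card (Subgroup.centralizer ({s} : Set G))).factorization p ≤
        (Nat.card G).factorization p :=
      (Nat.factorization_le_iff_dvd hc0 hG0).mpr (Subgroup.card_subgroup_dvd_card _) p
    exact le_trans h1 (hfull p hpp hpc)
  · rw [Nat.factorization_eq_zero_of_not_dvd hpc]
    exact Nat.zero_le _

include h2 hp in
/-- **One class of involutions, with centralizers of order `χ(1)`, a Hall subgroup order.** -/
theorem main [DecidableEq G] (heven : Even (Nat.card G)) :
    (∀ s t : G, orderOf s = 2 → orderOf t = 2 → IsConj s t) ∧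
    (∀ s : G, orderOf s = 2 → Nat.card (Subgroup.centralizer ({s} : Set G)) = irrDeg χ ∧
      (Nat.card (Subgroup.centralizer ({s} : Set G))).Coprime
        (Subgroup.centralizer ({s} : Set G)).index) ∧
    (Nat.card G : ℂ)⁻¹ * ∑ g : G, (χ : G → ℂ) (g * g) = 1 := by
  classical
  obtain ⟨hIx, hFS⟩ := card_invol_mul χ h2 hp heven
  have hxpos : 0 < irrDeg χ := irrDeg_pos χ
  -- the key comparison for each involution
  have hkey : ∀ s : G, orderOf s = 2 →
      Finset.univ.filter (fun t : G => IsConj s t) =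
        Finset.univ.filter (fun g : G => orderOf g = 2) ∧
      Nat.card (Subgroup.centralizer ({s} : Set G)) = irrDeg χ := by
    intro s hs
    have hss : s * s = 1 := by
      have := pow_orderOf_eq_one s
      rw [hs, pow_two] at this
      exact this
    have hs1 : s ≠ 1 := by
      intro h; rw [h, orderOf_one] at hs; norm_num at hs
    have hsub : Finset.univ.filter (fun t : G => IsConj s t) ⊆
        Finset.univ.filter (fun g : G => orderOf g = 2) := by
      intro t ht
      rw [Finset.mem_filter] at ht ⊢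
      exact ⟨Finset.mem_univ _, Cfsg.Agent.Helper8.KleinCnt.orderOf_conj_eq_two hss hs1 ht.2⟩
    have hcl := Cfsg.Agent.Helper8.KleinCnt.card_class_mul s
    rw [← Finset.card_filter] at hcl
    have hdvd := (card_centralizer_dvd χ h2 hp s hs).1
    have hle : Nat.card (Subgroup.centralizer ({s} : Set G)) ≤ irrDeg χ :=
      Nat.le_of_dvd hxpos hdvd
    have hcard_le := Finset.card_le_card hsub
    set a := (Finset.univ.filter (fun t : G => IsConj s t)).card with ha
    set I := (Finset.univ.filter (fun g : G => orderOf g = 2)).card with hI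
    set c := Nat.card (Subgroup.centralizer ({s} : Set G)) with hc
    have hapos : 0 < a := by
      rw [ha, Finset.card_pos]
      exact ⟨s, by rw [Finset.mem_filter]; exact ⟨Finset.mem_univ _, IsConj.refl s⟩⟩
    have h1 : a * c ≤ a * irrDeg χ := Nat.mul_le_mul_left a hle
    have h2' : a * irrDeg χ ≤ I * irrDeg χ := Nat.mul_le_mul_right _ hcard_le
    have h3 : a * irrDeg χ = I * irrDeg χ := by omega
    have h4 : a = I := Nat.eq_of_mul_eq_mul_right hxpos h3
    have h5 : a * c = a * irrDeg χ := by omega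
    have h6 : c = irrDeg χ := Nat.eq_of_mul_eq_mul_left hapos h5
    exact ⟨Finset.eq_of_subset_of_card_le hsub (by rw [← hI, ← ha, h4]), h6⟩
  refine ⟨?_, ?_, hFS⟩
  · intro s t hs ht
    have h1 := (hkey s hs).1
    have h2' : t ∈ Finset.univ.filter (fun g : G => orderOf g = 2) := by
      rw [Finset.mem_filter]; exact ⟨Finset.mem_univ _, ht⟩
    rw [← h1, Finset.mem_filter] at h2'
    exact h2'.2
  · intro s hs
    refine ⟨(hkey s hs).2, ?_⟩
    apply Nat.coprime_of_dvd
    intro p hpp hpc hpi
    have hfull := (card_centralizer_dvd χ h2 hp s hs).2 p hpp hpc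
    have hmul := Subgroup.card_mul_index (Subgroup.centralizer ({s} : Set G))
    rw [(hkey s hs).2] at hmul hpc
    have hi0 : (Subgroup.centralizer ({s} : Set G)).index ≠ 0 := by
      intro h
      rw [h, mul_zero] at hmul
      exact Nat.card_pos.ne' hmul.symm
    have hfac : (Nat.card G).factorization p = (irrDeg χ).factorization p +
        ((Subgroup.centralizer ({s} : Set G)).index).factorization p := by
      rw [← hmul, Nat.factorization_mul hxpos.ne' hi0]
      rfl
    have h1 : 1 ≤ ((Subgroup.centralizer ({s} : Set G)).index).factorization p :=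
      (Nat.Prime.dvd_iff_one_le_factorization hpp hi0).mp hpi
    omega

end Main

end Cfsg.Agent.Helper8.DZInv
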