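import Mathlib
import Cfsg.Agent.Helper8.KleinOrder
import Cfsg.Agent.Helper8.CycFourier
import Cfsg.Agent.Helper24.BlichB
import Cfsg.Agent.Helper24.CharBasic
import Cfsg.Agent.Helper24.ColumnOrth

/-!
# Columns of the principal 2-block on a section with 2-nilpotent centralizer
-/

set_option autoImplicit false

namespace Cfsg.Agent.Helper8.DihCol

open Cfsg Cfsg.Agent.Helper24 Cfsg.Agent.Helper5 Cfsg.Agent.Helper5.Loc Finset

variable {G : Type*} [Group G] [Finite G]

/-- The values of a character on the powers of an element are given by natural Fourier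
coefficients. -/
theorem exists_coeff_char {χ : G → ℂ} (hχ : IsCharacter G χ) (σ : G) {q : ℕ}
    (hσ : orderOf σ = q) {ζ : ℂ} (hζ : IsPrimitiveRoot ζ q) :
    ∃ a : ℕ → ℕ, ∀ l : ℕ, χ (σ ^ l) = ∑ k ∈ range q, (a k : ℂ) * ζ ^ (k * l) := by
  classical
  obtain ⟨n, ρ, rfl⟩ := hχ
  have hq : 0 < q := by rw [← hσ]; exact orderOf_pos σ
  have hf := rho_iSup_eigenspace ρ σ
  have hroot : ∀ μ : {μ // μ ∈ eigenFinset (ρ σ)}, (μ : ℂ) ^ q = 1 := by
    intro μ
    rw [← hσ]
    exact rho_eigenvalue_pow ρ σ (mem_eigenFinset.mp μ.2)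
  obtain ⟨a, ha⟩ := Cfsg.Agent.Helper8.CycFourier.exists_coeff hq hζ
    (fun μ : {μ // μ ∈ eigenFinset (ρ σ)} =>
      Module.finrank ℂ (Module.End.eigenspace (ρ σ) (μ : ℂ)))
    (fun μ => (μ : ℂ)) hroot
  refine ⟨a, fun l => ?_⟩
  have h1 : ρ.character (σ ^ l) = LinearMap.trace ℂ _ ((ρ σ) ^ l) := by
    unfold Representation.character
    rw [map_pow]
  rw [h1, Cfsg.Agent.Helper24.Blich.trace_pow_eq_sum (ρ σ) hf l]
  have h2 := ha l
  rw [Finset.sum_coe_sort (eigenFinset (ρ σ))
    (fun μ => (Module.finrank ℂ (Module.End.eigenspace (ρ σ) μ) : ℂ) * μ ^ l)] at h2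
  have h3 : ∑ μ ∈ eigenFinset (ρ σ), μ ^ l *
      (Module.finrank ℂ (Module.End.eigenspace (ρ σ) μ) : ℂ) =
      ∑ μ ∈ eigenFinset (ρ σ), (Module.finrank ℂ (Module.End.eigenspace (ρ σ) μ) : ℂ) * μ ^ l :=
    Finset.sum_congr rfl fun μ _ => mul_comm _ _
  rw [h3, h2]
  exact Finset.sum_congr rfl fun k _ => by rw [pow_mul]

variable {M : Ideal AlgInt}

/-- A member of the principal `p`-block does not vanish at an element whose class has size prime
to `p`. -/
theorem ne_zero_of_mem_principalBlock {p : ℕ} (hM : IsPModular p M) {χ : IrrCharacter G}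
    (hχ : χ ∈ principalBlock M G) (z : G)
    (hz : ¬ p ∣ (Subgroup.centralizer ({z} : Set G)).index) : (χ : G → ℂ) z ≠ 0 := by
  intro h0
  have h1 := hχ z
  have h2 : centralChar (fun _ : G => (1 : ℂ)) z - centralChar (χ : G → ℂ) z =
      ((Subgroup.centralizer ({z} : Set G)).index : ℂ) := by
    unfold centralChar
    rw [h0]
    simp
  rw [h2, memLocalIdeal_natCast_iff hM] at h1
  exact hz h1

theorem orderOf_eq_of_isConj {x y : G} (h : IsConj x y) : orderOf y = orderOf x := by
  obtain ⟨g, rfl⟩ := isConj_iff.mp h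
  exact MulEquiv.orderOf_eq (MulAut.conj g) x

/-- an element `x c`, with `x` a `p`-element and `c ∈ O_{p'}(C(x))`, is conjugate to a `p`-element
only if `c = 1` -/
theorem eq_one_of_isConj {p : ℕ} [hp : Fact p.Prime] {x y : G} (hx : ∃ k : ℕ, orderOf x = p ^ k)
    (hy : ∃ k : ℕ, orderOf y = p ^ k) (c : ↥(Subgroup.centralizer ({x} : Set G)))
    (hc : c ∈ pPrimeCore p ↥(Subgroup.centralizer ({x} : Set G)))
    (hconj : IsConj (x * (c : G)) y) : c = 1 := by
  obtain ⟨kx, hkx⟩ := hx
  obtain ⟨ky, hky⟩ := hy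
  have hcop0 := Cfsg.Agent.Helper19.pPrimeCore_coprime (G := ↥(Subgroup.centralizer ({x} : Set G))) p
  have hdvd : orderOf c ∣ Nat.card (pPrimeCore p ↥(Subgroup.centralizer ({x} : Set G))) :=
    Subgroup.orderOf_dvd_natCard _ hc
  have hcop : (orderOf (c : G)).Coprime p := by
    rw [Subgroup.orderOf_coe]
    exact Nat.Coprime.coprime_dvd_left hdvd hcop0
  have hcomm : Commute x (c : G) := by
    have := c.2
    rw [Subgroup.mem_centralizer_iff] at this
    exact this x (Set.mem_singleton x)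
  have hord : orderOf (x * (c : G)) = orderOf x * orderOf (c : G) := by
    apply hcomm.orderOf_mul_eq_mul_orderOf_of_coprime
    rw [hkx]
    exact Nat.Coprime.pow_left kx hcop.symm
  have h1 := orderOf_eq_of_isConj hconj
  rw [hord, hky, hkx] at h1
  have h2 : orderOf (c : G) ∣ p ^ ky := ⟨p ^ kx, by rw [h1]; ring⟩
  have h3 : orderOf (c : G) = 1 :=
    Nat.eq_one_of_dvd_coprimes (Nat.Coprime.pow_right ky hcop) (dvd_refl _) h2
  rw [Subgroup.orderOf_coe, orderOf_eq_one_iff] at h3
  exact h3

/-- **The inner product of two columns of the principal block**, the first at a `p`-element with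
`p`-nilpotent centralizer. -/
theorem col_orth [Fintype G] [Fintype (IrrCharacter G)] {p : ℕ} [hp : Fact p.Prime]
    (hM : IsPModular p M) [DecidablePred (· ∈ principalBlock M G)] (x y : G)
    (hx : ∃ k : ℕ, orderOf x = p ^ k) (hy : ∃ k : ℕ, orderOf y = p ^ k)
    (hnc : ∃ k : ℕ, (pPrimeCore p ↥(Subgroup.centralizer ({x} : Set G))).index = p ^ k)
    [Decidable (IsConj x y)] :
    ∑ χ : IrrCharacter G, (if χ ∈ principalBlock M G then (χ : G → ℂ) x else 0) *
        (starRingEnd ℂ) ((χ : G → ℂ) y) =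
      if IsConj x y then
        ((pPrimeCore p ↥(Subgroup.centralizer ({x} : Set G))).index : ℂ) else 0 := by
  classical
  have hxC : x ∈ Subgroup.centralizer ({x} : Set G) := by
    rw [Subgroup.mem_centralizer_iff]
    intro w hw
    rw [Set.mem_singleton_iff] at hw
    rw [hw]
  have hcomm : ∀ c : ↥(Subgroup.centralizer ({x} : Set G)), x * (c : G) = (c : G) * x := by
    intro c
    have := c.2
    rw [Subgroup.mem_centralizer_iff] at this
    exact this x (Set.mem_singleton x)
  have hval := fun χ : IrrCharacter G => Cfsg.Agent.Helper8.KleinOrd.principal_section_value hM x hx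
    (Subgroup.centralizer ({x} : Set G)) hxC hcomm (le_refl _) hnc χ
  have hKne : (Nat.card (pPrimeCore p ↥(Subgroup.centralizer ({x} : Set G))) : ℂ) ≠ 0 := by
    exact_mod_cast (Nat.card_pos (α := (pPrimeCore p ↥(Subgroup.centralizer ({x} : Set G))))).ne'
  have h1 : ∀ χ : IrrCharacter G, (if χ ∈ principalBlock M G then (χ : G → ℂ) x else 0) *
      (starRingEnd ℂ) ((χ : G → ℂ) y) =
      ∑ c : ↥(Subgroup.centralizer ({x} : Set G)),
        (if c ∈ pPrimeCore p ↥(Subgroup.centralizer ({x} : Set G)) then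
          (Nat.card (pPrimeCore p ↥(Subgroup.centralizer ({x} : Set G))) : ℂ)⁻¹ *
            ((χ : G → ℂ) (x * (c : G)) * (starRingEnd ℂ) ((χ : G → ℂ) y)) else 0) := by
    intro χ
    rw [hval χ, Finset.mul_sum, Finset.sum_mul]
    refine Finset.sum_congr rfl fun c _ => ?_
    split_ifs
    · ring
    · ring
  rw [Finset.sum_congr rfl fun χ _ => h1 χ, Finset.sum_comm]
  have h2 : ∀ c : ↥(Subgroup.centralizer ({x} : Set G)),
      ∑ χ : IrrCharacter G,
        (if c ∈ pPrimeCore p ↥(Subgroup.centralizer ({x} : Set G)) then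
          (Nat.card (pPrimeCore p ↥(Subgroup.centralizer ({x} : Set G))) : ℂ)⁻¹ *
            ((χ : G → ℂ) (x * (c : G)) * (starRingEnd ℂ) ((χ : G → ℂ) y)) else 0) =
      if c = 1 then (if IsConj x y then
        ((pPrimeCore p ↥(Subgroup.centralizer ({x} : Set G))).index : ℂ) else 0) else 0 := by
    intro c
    by_cases hc : c ∈ pPrimeCore p ↥(Subgroup.centralizer ({x} : Set G))
    · simp only [if_pos hc]
      rw [← Finset.mul_sum, sum_irr_mul_conj]
      by_cases hc1 : c = 1
      · rw [if_pos hc1, hc1, Subgroup.coe_one, mul_one]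
        by_cases hconj : IsConj x y
        · rw [if_pos hconj, if_pos hconj]
          rw [inv_mul_eq_iff_eq_mul₀ hKne, ← Subgroup.card_mul_index
            (pPrimeCore p ↥(Subgroup.centralizer ({x} : Set G)))]
          push_cast
          ring
        · rw [if_neg hconj, if_neg hconj, mul_zero]
      · rw [if_neg hc1, if_neg (fun hconj => hc1 (eq_one_of_isConj hx hy c hc hconj)), mul_zero]
    · simp only [if_neg hc]
      rw [Finset.sum_const_zero]
      have hc1 : c ≠ 1 := by
        intro h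
        apply hc
        rw [h]
        exact Subgroup.one_mem _
      rw [if_neg hc1]
  rw [Finset.sum_congr rfl fun c _ => h2 c, Finset.sum_ite_eq' Finset.univ 1,
    if_pos (Finset.mem_univ _)]

end Cfsg.Agent.Helper8.DihCol
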