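import Mathlib
import Cfsg.Agent.Helper8.DihVec

/-!
# The combinatorial core of Brauer's theorem on dihedral Sylow 2-subgroups

Two families `c j`, `c' j` (`j ∈ J`) of integer vectors on a finite set `I`, with Gram matrices
`2 + δ`, `2 + δ`, `δ`, with `c j χ₀ = 1`, `c' j χ₀ = 0`, both orthogonal to a positive vector `d`
with `d χ₀ = 1`, where `|J| = 1` or `|J| ≥ 3`.  Then
`c j = e_{χ₀} + δ₁ e_{χ₁} - δ₁ e_{f j}`, `c' j = - δ₁ e_{f j} + a e_{χ₂} + b e_{χ₃}`.
-/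

set_option autoImplicit false

namespace Cfsg.Agent.Helper8.DihCore

open Finset Cfsg.Agent.Helper8.DihVec

variable {I J : Type*} [Fintype I] [DecidableEq I] [Fintype J] [DecidableEq J]

/-- the hypotheses -/
structure Hyp (c c' : J → I → ℤ) (d : I → ℤ) (χ0 : I) : Prop where
  hd : ∀ χ, 0 < d χ
  hd0 : d χ0 = 1
  hcc : ∀ j j', ∑ χ, c j χ * c j' χ = 2 + if j = j' then 1 else 0
  hcc2 : ∀ j j', ∑ χ, c' j χ * c' j' χ = 2 + if j = j' then 1 else 0
  hcc' : ∀ j j', ∑ χ, c j χ * c' j' χ = if j = j' then 1 else 0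
  hc0 : ∀ j, c j χ0 = 1
  hc0' : ∀ j, c' j χ0 = 0
  hcd : ∀ j, ∑ χ, c j χ * d χ = 0
  hcd' : ∀ j, ∑ χ, c' j χ * d χ = 0

variable {c c' : J → I → ℤ} {d : I → ℤ} {χ0 : I}

omit [DecidableEq I] in
theorem Hyp.norm (H : Hyp c c' d χ0) (j : J) : ∑ χ, c j χ ^ 2 = 3 := by
  have := H.hcc j j
  rw [if_pos rfl] at this
  have h3 : ∑ χ, c j χ ^ 2 = ∑ χ, c j χ * c j χ := Finset.sum_congr rfl fun χ _ => sq (c j χ)
  rw [h3, this]; norm_num

omit [DecidableEq I] in
theorem Hyp.norm' (H : Hyp c c' d χ0) (j : J) : ∑ χ, c' j χ ^ 2 = 3 := by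
  have := H.hcc2 j j
  rw [if_pos rfl] at this
  have h3 : ∑ χ, c' j χ ^ 2 = ∑ χ, c' j χ * c' j χ := Finset.sum_congr rfl fun χ _ => sq (c' j χ)
  rw [h3, this]; norm_num

theorem Hyp.entry (H : Hyp c c' d χ0) (j : J) (χ : I) : c j χ = 0 ∨ c j χ = 1 ∨ c j χ = -1 :=
  entry_of_norm_le_three (by rw [H.norm j]) χ

theorem Hyp.entry' (H : Hyp c c' d χ0) (j : J) (χ : I) :
    c' j χ = 0 ∨ c' j χ = 1 ∨ c' j χ = -1 :=
  entry_of_norm_le_three (by rw [H.norm' j]) χ

/-- decomposition of `c j` at a known support point -/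
theorem Hyp.decomp_at (H : Hyp c c' d χ0) (j : J) {x : I} (hx0 : x ≠ χ0) (hx : c j x ≠ 0) :
    ∃ y t, y ≠ χ0 ∧ y ≠ x ∧ (t = 1 ∨ t = -1) ∧
      ∀ χ, c j χ = ind χ0 1 χ + ind x (c j x) χ + ind y t χ := by
  have h0 : c j χ0 ≠ 0 := by rw [H.hc0 j]; norm_num
  obtain ⟨-, -, y, t, hy0, hyx, ht, hv⟩ := norm_three_at_two (H.norm j) hx0.symm h0 hx
  rw [H.hc0 j] at hv
  exact ⟨y, t, hy0, hyx, ht, hv⟩

/-- decomposition of `c j` -/
theorem Hyp.decomp (H : Hyp c c' d χ0) (j : J) :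
    ∃ x y s t, x ≠ χ0 ∧ y ≠ χ0 ∧ x ≠ y ∧ (s = 1 ∨ s = -1) ∧ (t = 1 ∨ t = -1) ∧
      ∀ χ, c j χ = ind χ0 1 χ + ind x s χ + ind y t χ := by
  have h0 : c j χ0 ≠ 0 := by rw [H.hc0 j]; norm_num
  obtain ⟨-, h2⟩ := norm_three_at (H.norm j) h0
  obtain ⟨x, hx⟩ := exists_ne_zero (v := del χ0 (c j)) (by rw [h2]; norm_num)
  have hx0 : x ≠ χ0 := by
    intro h
    rw [h, del_self] at hx
    exact hx rfl
  rw [del_ne _ hx0] at hx
  obtain ⟨y, t, hy0, hyx, ht, hv⟩ := H.decomp_at j hx0 hx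
  have hs : c j x = 1 ∨ c j x = -1 := by
    rcases H.entry j x with h | h | h
    · exact absurd h hx
    · exact Or.inl h
    · exact Or.inr h
  exact ⟨x, y, c j x, t, hx0, hy0, hyx.symm, hs, ht, hv⟩

/-- the degree relation -/
theorem Hyp.deg (H : Hyp c c' d χ0) (j : J) {x y : I} {s t : ℤ}
    (hv : ∀ χ, c j χ = ind χ0 1 χ + ind x s χ + ind y t χ) :
    1 + s * d x + t * d y = 0 := by
  have := H.hcd j
  rw [sum_three_mul hv, H.hd0] at this
  linarith

/-- the sign rule from the degree relation -/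
theorem sign_rule {s t p r : ℤ} (hs : s = 1 ∨ s = -1) (ht : t = 1 ∨ t = -1) (hp : 0 < p)
    (hr : 0 < r) (h : 1 + s * p + t * r = 0) : t = -s := by
  rcases hs with rfl | rfl <;> rcases ht with rfl | rfl <;> omega

/-- two distinct members share exactly one support point, with the same sign -/
theorem Hyp.pair (H : Hyp c c' d χ0) {j j' : J} (hjj' : j ≠ j') {x y : I} {s t : ℤ}
    (hs : s = 1 ∨ s = -1) (ht : t = 1 ∨ t = -1)
    (hv : ∀ χ, c j χ = ind χ0 1 χ + ind x s χ + ind y t χ) :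
    (c j' x = s ∧ c j' y = 0) ∨ (c j' x = 0 ∧ c j' y = t) := by
  have := H.hcc j j'
  rw [if_neg hjj', sum_three_mul hv, H.hc0 j'] at this
  rcases H.entry j' x with h1 | h1 | h1 <;> rcases H.entry j' y with h2 | h2 | h2 <;>
    rw [h1, h2] at this ⊢ <;> rcases hs with rfl | rfl <;> rcases ht with rfl | rfl <;> omega

/-- the sunflower lemma -/
theorem Hyp.sunflower_aux (H : Hyp c c' d χ0) {a b : J} (hab : a ≠ b) {x y : I} {s t : ℤ}
    (hx0 : x ≠ χ0) (hy0 : y ≠ χ0) (hxy : x ≠ y)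
    (hs : s = 1 ∨ s = -1) (ht : t = 1 ∨ t = -1)
    (hv : ∀ χ, c a χ = ind χ0 1 χ + ind x s χ + ind y t χ)
    (hbx : c b x = s) (hby : c b y = 0) (j : J) : c j x = s := by
  by_cases hja : j = a
  · rw [hja, hv x, ind_ne _ hx0, ind_self, ind_ne _ hxy]; ring
  by_cases hjb : j = b
  · rw [hjb]; exact hbx
  rcases H.pair (Ne.symm hja) hs ht hv with h | ⟨h1, h2⟩
  · exact h.1
  exfalso
  have hs0 : s ≠ 0 := by rcases hs with rfl | rfl <;> norm_num
  have ht0 : t ≠ 0 := by rcases ht with rfl | rfl <;> norm_num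
  have hbx' : c b x ≠ 0 := by rw [hbx]; exact hs0
  obtain ⟨z, r, hz0, hzx, hr, hvb⟩ := H.decomp_at b hx0 hbx'
  rw [hbx] at hvb
  have hr0 : r ≠ 0 := by rcases hr with rfl | rfl <;> norm_num
  have hzy : z ≠ y := by
    intro hzy
    have := hvb y
    rw [hby, ind_ne _ hy0, ind_ne _ hxy.symm, hzy, ind_self] at this
    apply hr0
    linarith
  have hjz : c j z = r := by
    have := H.hcc b j
    rw [if_neg (Ne.symm hjb), sum_three_mul hvb, H.hc0 j, h1] at this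
    rcases H.entry j z with h | h | h <;> rw [h] at this ⊢ <;> rcases hr with rfl | rfl <;> omega
  have hj0 : c j χ0 ≠ 0 := by rw [H.hc0 j]; norm_num
  have hjy : c j y ≠ 0 := by rw [h2]; exact ht0
  have hjz' : c j z ≠ 0 := by rw [hjz]; exact hr0
  have hvj := norm_three_at_three (H.norm j) hy0.symm hz0.symm hzy.symm hj0 hjy hjz'
  rw [H.hc0 j, h2, hjz] at hvj
  have e1 := H.deg a hv
  have e2 := H.deg b hvb
  have e3 := H.deg j hvj
  generalize s * d x = P at e1 e2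
  generalize t * d y = Q at e1 e3
  generalize r * d z = R at e2 e3
  omega

/-- the sunflower lemma: a common support point of all `c j` -/
theorem Hyp.sunflower (H : Hyp c c' d χ0) {a b : J} (hab : a ≠ b) :
    ∃ x s, x ≠ χ0 ∧ (s = 1 ∨ s = -1) ∧ ∀ j, c j x = s := by
  obtain ⟨x, y, s, t, hx0, hy0, hxy, hs, ht, hv⟩ := H.decomp a
  rcases H.pair hab hs ht hv with ⟨h1, h2⟩ | ⟨h1, h2⟩
  · exact ⟨x, s, hx0, hs, H.sunflower_aux hab hx0 hy0 hxy hs ht hv h1 h2⟩
  · have hv' : ∀ χ, c a χ = ind χ0 1 χ + ind y t χ + ind x s χ := by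
      intro χ; rw [hv χ]; ring
    exact ⟨y, t, hy0, ht, H.sunflower_aux hab hy0 hx0 hxy.symm ht hs hv' h2 h1⟩

/-- the conclusion -/
def Concl (c c' : J → I → ℤ) (χ0 : I) : Prop :=
  ∃ (χ₁ χ₂ χ₃ : I) (f : J → I) (δ₁ a b : ℤ), (δ₁ = 1 ∨ δ₁ = -1) ∧ (a = 1 ∨ a = -1) ∧
    (b = 1 ∨ b = -1) ∧ χ₁ ≠ χ0 ∧ χ₂ ≠ χ0 ∧ χ₃ ≠ χ0 ∧ χ₁ ≠ χ₂ ∧ χ₁ ≠ χ₃ ∧ χ₂ ≠ χ₃ ∧
    (∀ j, f j ≠ χ0 ∧ f j ≠ χ₁ ∧ f j ≠ χ₂ ∧ f j ≠ χ₃) ∧ Function.Injective f ∧
    (∀ j χ, c j χ = ind χ0 1 χ + ind χ₁ δ₁ χ - ind (f j) δ₁ χ) ∧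
    (∀ j χ, c' j χ = - ind (f j) δ₁ χ + ind χ₂ a χ + ind χ₃ b χ)

/-- the final stage: from an oriented sunflower to the conclusion -/
theorem Hyp.finish (H : Hyp c c' d χ0) [Nonempty J] {x : I} {s : ℤ} {y : J → I}
    (hs : s = 1 ∨ s = -1) (hx0 : x ≠ χ0) (hy : ∀ j, y j ≠ χ0 ∧ y j ≠ x)
    (hΔ : ∀ j χ, c j χ = ind χ0 1 χ + ind x s χ + ind (y j) (-s) χ)
    (hx' : ∀ j, c' j x = 0) : Concl c c' χ0 := by
  have hss : s * s = 1 := by rcases hs with rfl | rfl <;> norm_num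
  have hs0 : s ≠ 0 := by rcases hs with rfl | rfl <;> norm_num
  have hcx : ∀ j, c j x = s := by
    intro j
    rw [hΔ j x, ind_ne _ hx0, ind_self, ind_ne _ (hy j).2.symm]; ring
  have hcy : ∀ j, c j (y j) = -s := by
    intro j
    rw [hΔ j (y j), ind_ne _ (hy j).1, ind_ne _ (hy j).2, ind_self]; ring
  -- injectivity of `y`
  have hinj : Function.Injective y := by
    intro j j' hjj'
    by_contra hne
    have := H.hcc j j'
    rw [if_neg hne, sum_three_mul (hΔ j), H.hc0 j', hcx j', hjj', hcy j'] at this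
    nlinarith
  -- the values of `c'` on the `y`
  have hc'y : ∀ j j', c' j (y j') = if j' = j then -s else 0 := by
    intro j j'
    have := H.hcc' j' j
    rw [sum_three_mul (hΔ j'), H.hc0' j, hx' j] at this
    split_ifs at this ⊢ with h
    · rcases hs with rfl | rfl <;> linarith
    · have h2 : s * c' j (y j') = 0 := by linarith
      rcases mul_eq_zero.mp h2 with h3 | h3
      · exact absurd h3 hs0
      · exact h3
  -- the vectors `V j`
  set V : J → I → ℤ := fun j χ => c' j χ + ind (y j) s χ with hV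
  have hVV : ∀ j j', ∑ χ, V j χ * V j' χ = 2 := by
    intro j j'
    have h1 : ∀ χ, V j χ * V j' χ = c' j χ * c' j' χ + c' j χ * ind (y j') s χ +
        ind (y j) s χ * c' j' χ + ind (y j) s χ * ind (y j') s χ := by
      intro χ; simp only [hV]; ring
    rw [Finset.sum_congr rfl fun χ _ => h1 χ, Finset.sum_add_distrib, Finset.sum_add_distrib,
      Finset.sum_add_distrib, H.hcc2 j j', sum_mul_ind, sum_ind_mul, sum_ind_mul, hc'y j j',
      hc'y j' j]
    by_cases hjj' : j = j'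
    · subst hjj'
      rw [if_pos rfl, if_pos rfl, ind_self]
      nlinarith
    · rw [if_neg hjj', if_neg hjj', if_neg (Ne.symm hjj'), ind_ne _ (fun h => hjj' (hinj h))]
      ring
  have hVeq : ∀ j j' χ, V j χ = V j' χ := by
    intro j j' χ
    have h0 : ∑ χ, (V j χ - V j' χ) ^ 2 = 0 := by
      have h1 : ∀ χ, (V j χ - V j' χ) ^ 2 = V j χ * V j χ - V j χ * V j' χ - V j χ * V j' χ +
          V j' χ * V j' χ := by
        intro χ; ring
      rw [Finset.sum_congr rfl fun χ _ => h1 χ, Finset.sum_add_distrib, Finset.sum_sub_distrib,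
        Finset.sum_sub_distrib, hVV, hVV, hVV]
      norm_num
    have := eq_zero_of_norm_zero (v := fun χ => V j χ - V j' χ) h0 χ
    linarith
  obtain ⟨j₀⟩ := ‹Nonempty J›
  have hnorm : ∑ χ, V j₀ χ ^ 2 = 2 := by
    rw [← hVV j₀ j₀]
    exact Finset.sum_congr rfl fun χ _ => sq (V j₀ χ)
  obtain ⟨χ₂, χ₃, a, b, h23, ha, hb, hVd⟩ := norm_two hnorm
  have ha0 : a ≠ 0 := by rcases ha with rfl | rfl <;> norm_num
  have hb0 : b ≠ 0 := by rcases hb with rfl | rfl <;> norm_num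
  have hV2 : V j₀ χ₂ = a := by rw [hVd χ₂, ind_self, ind_ne _ h23]; ring
  have hV3 : V j₀ χ₃ = b := by rw [hVd χ₃, ind_self, ind_ne _ h23.symm]; ring
  have hV0 : V j₀ χ0 = 0 := by
    simp only [hV]
    rw [H.hc0' j₀, ind_ne _ (hy j₀).1.symm]; ring
  have hVx : V j₀ x = 0 := by
    simp only [hV]
    rw [hx' j₀, ind_ne _ (hy j₀).2.symm]; ring
  have hVy : ∀ j, V j₀ (y j) = 0 := by
    intro j
    rw [hVeq j₀ j (y j)]
    simp only [hV]
    rw [hc'y j j, if_pos rfl, ind_self]; ring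
  refine ⟨x, χ₂, χ₃, y, s, a, b, hs, ha, hb, hx0, ?_, ?_, ?_, ?_, h23, ?_, hinj, ?_, ?_⟩
  · intro h; rw [h, hV0] at hV2; exact ha0 hV2.symm
  · intro h; rw [h, hV0] at hV3; exact hb0 hV3.symm
  · intro h; rw [← h, hVx] at hV2; exact ha0 hV2.symm
  · intro h; rw [← h, hVx] at hV3; exact hb0 hV3.symm
  · intro j
    refine ⟨(hy j).1, (hy j).2, ?_, ?_⟩
    · intro h; rw [← h, hVy j] at hV2; exact ha0 hV2.symm
    · intro h; rw [← h, hVy j] at hV3; exact hb0 hV3.symm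
  · intro j χ
    rw [hΔ j χ]
    simp only [ind_apply]
    split_ifs <;> ring
  · intro j χ
    have h1 : c' j χ = V j χ - ind (y j) s χ := by simp only [hV]; ring
    rw [h1, hVeq j j₀ χ, hVd χ]; ring

/-- the case `|J| ≥ 3` -/
theorem Hyp.concl_of_three (H : Hyp c c' d χ0) (h3 : 3 ≤ Fintype.card J) : Concl c c' χ0 := by
  have hne : Nonempty J := by
    rw [← Fintype.card_pos_iff]; omega
  -- distinct triples
  have htriple : ∀ j : J, ∃ j' j'' : J, j' ≠ j ∧ j'' ≠ j ∧ j' ≠ j'' := by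
    intro j
    obtain ⟨j', hj'⟩ := Fintype.exists_ne_of_one_lt_card (by omega : 1 < Fintype.card J) j
    by_contra hcon
    push Not at hcon
    have hsub : (Finset.univ : Finset J) ⊆ {j, j'} := by
      intro k _
      by_cases hkj : k = j
      · rw [hkj]; exact Finset.mem_insert_self _ _
      · have := hcon j' k hj' hkj
        rw [this]
        exact Finset.mem_insert_of_mem (Finset.mem_singleton_self _)
    have := Finset.card_le_card hsub
    have h2 : ({j, j'} : Finset J).card ≤ 2 := Finset.card_le_two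
    rw [Finset.card_univ] at this
    omega
  obtain ⟨a⟩ := hne
  obtain ⟨b, -, hba, -⟩ := htriple a
  obtain ⟨x, s, hx0, hs, hcx⟩ := H.sunflower (Ne.symm hba)
  have hs0 : s ≠ 0 := by rcases hs with rfl | rfl <;> norm_num
  have hdec : ∀ j, ∃ y, y ≠ χ0 ∧ y ≠ x ∧ ∀ χ, c j χ = ind χ0 1 χ + ind x s χ + ind y (-s) χ := by
    intro j
    have hx : c j x ≠ 0 := by rw [hcx j]; exact hs0
    obtain ⟨y, t, hy0, hyx, ht, hv⟩ := H.decomp_at j hx0 hx
    rw [hcx j] at hv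
    have := sign_rule hs ht (H.hd x) (H.hd y) (H.deg j hv)
    rw [this] at hv
    exact ⟨y, hy0, hyx, hv⟩
  choose y hy0 hyx hΔ using hdec
  have hcy : ∀ j, c j (y j) = -s := by
    intro j
    rw [hΔ j (y j), ind_ne _ (hy0 j), ind_ne _ (hyx j), ind_self]; ring
  have hinj : Function.Injective y := by
    intro j j' hjj'
    by_contra hne
    have := H.hcc j j'
    rw [if_neg hne, sum_three_mul (hΔ j), H.hc0 j', hcx j', hjj', hcy j'] at this
    rcases hs with rfl | rfl <;> omega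
  haveI : Nonempty J := ⟨a⟩
  refine H.finish hs hx0 (fun j => ⟨hy0 j, hyx j⟩) hΔ ?_
  intro j
  by_contra hξ
  obtain ⟨j', j'', hj', hj'', hjj⟩ := htriple j
  have hval : ∀ k, k ≠ j → c' j (y k) = c' j x := by
    intro k hk
    have := H.hcc' k j
    rw [if_neg hk, sum_three_mul (hΔ k), H.hc0' j] at this
    rcases hs with rfl | rfl <;> linarith
  have h1 := hval j' hj'
  have h2 := hval j'' hj''
  have hv := norm_three_at_three (H.norm' j) (hyx j').symm (hyx j'').symm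
    (fun h => hjj (hinj h)) hξ (by rw [h1]; exact hξ) (by rw [h2]; exact hξ)
  have := H.hcd' j
  rw [sum_three_mul hv, h1, h2] at this
  have hpos : 0 < d x + d (y j') + d (y j'') := by
    have := H.hd x
    have := H.hd (y j')
    have := H.hd (y j'')
    linarith
  have h0 : c' j x * (d x + d (y j') + d (y j'')) = 0 := by linarith
  rcases mul_eq_zero.mp h0 with h | h
  · exact hξ h
  · omega

/-- the case `|J| = 1` -/
theorem Hyp.concl_of_one (H : Hyp c c' d χ0) (h1 : Fintype.card J = 1) : Concl c c' χ0 := by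
  have hne : Nonempty J := by
    rw [← Fintype.card_pos_iff]; omega
  have hsub : Subsingleton J := by
    rw [← Fintype.card_le_one_iff_subsingleton]; omega
  obtain ⟨j₀⟩ := hne
  obtain ⟨x, y, s, t, hx0, hy0, hxy, hs, ht, hv⟩ := H.decomp j₀
  have h := H.hcc' j₀ j₀
  rw [if_pos rfl, sum_three_mul hv, H.hc0' j₀] at h
  haveI : Nonempty J := ⟨j₀⟩
  have hcase : (c' j₀ x = s ∧ c' j₀ y = 0) ∨ (c' j₀ x = 0 ∧ c' j₀ y = t) := by
    rcases H.entry' j₀ x with h1 | h1 | h1 <;> rcases H.entry' j₀ y with h2 | h2 | h2 <;>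
      rw [h1, h2] at h ⊢ <;> rcases hs with rfl | rfl <;> rcases ht with rfl | rfl <;> omega
  rcases hcase with ⟨-, h2⟩ | ⟨h1, -⟩
  · -- `y` is the centre
    have hv' : ∀ χ, c j₀ χ = ind χ0 1 χ + ind y t χ + ind x s χ := by
      intro χ; rw [hv χ]; ring
    have hsign := sign_rule ht hs (H.hd y) (H.hd x) (H.deg j₀ hv')
    rw [hsign] at hv'
    refine H.finish (x := y) (s := t) (y := fun _ => x) ht hy0 (fun _ => ⟨hx0, hxy⟩) ?_ ?_
    · intro j χ
      rw [Subsingleton.elim j j₀]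
      exact hv' χ
    · intro j
      rw [Subsingleton.elim j j₀]
      exact h2
  · have hsign := sign_rule hs ht (H.hd x) (H.hd y) (H.deg j₀ hv)
    rw [hsign] at hv
    refine H.finish (x := x) (s := s) (y := fun _ => y) hs hx0 (fun _ => ⟨hy0, hxy.symm⟩) ?_ ?_
    · intro j χ
      rw [Subsingleton.elim j j₀]
      exact hv χ
    · intro j
      rw [Subsingleton.elim j j₀]
      exact h1

/-- **The combinatorial core.** -/
theorem Hyp.concl (H : Hyp c c' d χ0) (hJ : Fintype.card J = 1 ∨ 3 ≤ Fintype.card J) :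
    Concl c c' χ0 := by
  rcases hJ with h | h
  · exact H.concl_of_one h
  · exact H.concl_of_three h

end Cfsg.Agent.Helper8.DihCore
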