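import Mathlib

/-!
# Abstract dihedral data

A subgroup `P` of a group with an element `σ ∈ P` of order `m`, `|P| = 2m`, such that every element
of `P` outside `⟨σ⟩` is an involution inverting `σ`.  This is extracted from an isomorphism
`P ≃* DihedralGroup m` and an element of order `m ≥ 3`.
-/

set_option autoImplicit false

namespace Cfsg.Agent.Helper8.DihSetup

open Subgroup

variable {G : Type*} [Group G]

/-- abstract dihedral data -/
structure DS (P : Subgroup G) (σ : G) (m : ℕ) : Prop where
  mem : σ ∈ P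
  ord : orderOf σ = m
  card : Nat.card P = 2 * m
  inv : ∀ y ∈ P, y ∉ zpowers σ → y * y = 1 ∧ y * σ * y⁻¹ = σ⁻¹

/-- dihedral data from an isomorphism with a dihedral group -/
theorem ds_of_equiv (P : Subgroup G) (m : ℕ) (hm : 3 ≤ m) (e : P ≃* DihedralGroup m) (σ : G)
    (hσ : σ ∈ P) (hσo : orderOf σ = m) : DS P σ m := by
  haveI : NeZero m := ⟨by omega⟩
  refine ⟨hσ, hσo, by rw [Nat.card_congr e.toEquiv, DihedralGroup.nat_card], ?_⟩
  set x : P := ⟨σ, hσ⟩ with hx
  have hxo : orderOf x = m := by rw [← hσo, ← Subgroup.orderOf_coe]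
  -- the image of `σ` is a rotation
  obtain ⟨i, hi⟩ : ∃ i, e x = DihedralGroup.r i := by
    rcases hex : e x with i | i
    · exact ⟨i, rfl⟩
    · exfalso
      have h1 : orderOf (e x) = 2 := by rw [hex, DihedralGroup.orderOf_sr]
      rw [MulEquiv.orderOf_eq, hxo] at h1
      omega
  have hio : orderOf (DihedralGroup.r i) = m := by rw [← hi, MulEquiv.orderOf_eq, hxo]
  -- every rotation is a power of `r i`
  have hrot : zpowers (DihedralGroup.r i) = zpowers (DihedralGroup.r (1 : ZMod m)) := by
    apply Subgroup.eq_of_le_of_card_ge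
    · rw [zpowers_le]
      rw [mem_zpowers_iff]
      refine ⟨(ZMod.cast i : ℤ), ?_⟩
      rw [DihedralGroup.r_one_zpow, ZMod.intCast_zmod_cast]
    · rw [Nat.card_zpowers, Nat.card_zpowers, hio, DihedralGroup.orderOf_r_one]
  have hmemrot : ∀ k : ZMod m, DihedralGroup.r k ∈ zpowers (DihedralGroup.r i) := by
    intro k
    rw [hrot, mem_zpowers_iff]
    refine ⟨(ZMod.cast k : ℤ), ?_⟩
    rw [DihedralGroup.r_one_zpow, ZMod.intCast_zmod_cast]
  intro y hy hyσ
  -- the image of `y` is a reflection
  obtain ⟨k, hk⟩ : ∃ k, e ⟨y, hy⟩ = DihedralGroup.sr k := by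
    rcases hey : e ⟨y, hy⟩ with k | k
    · exfalso
      apply hyσ
      obtain ⟨j, hj⟩ := mem_zpowers_iff.mp (hmemrot k)
      have h1 : e (x ^ j) = e ⟨y, hy⟩ := by rw [map_zpow, hi, hj, hey]
      have h2 := e.injective h1
      have h3 : σ ^ j = y := by
        have := congrArg Subtype.val h2
        simpa [hx] using this
      rw [← h3]
      exact zpow_mem (mem_zpowers σ) j
    · exact ⟨k, rfl⟩
  constructor
  · have h1 : e (⟨y, hy⟩ * ⟨y, hy⟩) = e 1 := by
      rw [map_mul, hk, DihedralGroup.sr_mul_self, map_one]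
    have := congrArg Subtype.val (e.injective h1)
    simpa using this
  · have h1 : e (⟨y, hy⟩ * x * ⟨y, hy⟩⁻¹) = e x⁻¹ := by
      rw [map_mul, map_mul, map_inv, map_inv, hk, hi, DihedralGroup.inv_sr,
        DihedralGroup.sr_mul_r, DihedralGroup.sr_mul_sr, DihedralGroup.inv_r]
      congr 1
      ring
    have := congrArg Subtype.val (e.injective h1)
    simpa [hx] using this

end Cfsg.Agent.Helper8.DihSetup
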