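import Mathlib
import Cfsg.Prelude.Def_Solvable
import Cfsg.Agent.Helper8.DihSetup
import Cfsg.Agent.Helper19.Cores
import Cfsg.Agent.Helper16.CentSub

/-!
# Groups with dihedral Sylow 2-subgroups: basic consequences of the dihedral data
-/

set_option autoImplicit false

namespace Cfsg.Agent.Helper8.DihSetup

open Subgroup Cfsg

section cores

variable {H : Type*} [Group H] [Finite H]

/-- A normal complement of a Sylow `p`-subgroup is `O_{p'}`; in particular the index of
`O_{p'}(H)` is the order of the Sylow subgroup. -/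
theorem index_pPrimeCore_of_complement {p : ℕ} [hp : Fact p.Prime] (Q : Sylow p H)
    (N : Subgroup H) (hN : N.Normal) (hc : N.IsComplement' (Q : Subgroup H)) :
    (pPrimeCore p H).index = Nat.card Q := by
  have hcard : Nat.card N * Nat.card Q = Nat.card H := hc.card_mul_card
  have hidx : (Q : Subgroup H).index = Nat.card N := hc.index_eq_card
  have hcop : (Nat.card N).Coprime p := by
    rw [← hidx]
    exact ((Nat.Prime.coprime_iff_not_dvd hp.out).mpr Q.not_dvd_index).symm
  have hle : N ≤ pPrimeCore p H := le_sSup ⟨hN, hcop⟩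
  have hcop2 := Cfsg.Agent.Helper19.pPrimeCore_coprime (G := H) p
  obtain ⟨k, hk⟩ := (Q.isPGroup').exists_card_eq
  have hdvd : Nat.card (pPrimeCore p H) ∣ Nat.card N := by
    have h1 : Nat.card (pPrimeCore p H) ∣ Nat.card N * Nat.card Q := by
      rw [hcard]; exact Subgroup.card_subgroup_dvd_card _
    have h2 : (Nat.card (pPrimeCore p H)).Coprime (Nat.card Q) := by
      rw [hk]; exact Nat.Coprime.pow_right k hcop2
    exact h2.dvd_of_dvd_mul_right h1
  have heq : N = pPrimeCore p H :=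
    Subgroup.eq_of_le_of_card_ge hle (Nat.le_of_dvd Nat.card_pos hdvd)
  rw [← heq]
  exact hc.symm.index_eq_card

/-- With a cyclic Sylow 2-subgroup `Q` (of a group of even order), the index of `O_{2'}` is `|Q|`. -/
theorem index_pPrimeCore_of_cyclic (heven : 2 ∣ Nat.card H) (Q : Sylow 2 H) (hQ : IsCyclic Q) :
    (pPrimeCore 2 H).index = Nat.card Q := by
  haveI : Fact (Nat.Prime 2) := ⟨Nat.prime_two⟩
  have hmin : (Nat.card H).minFac = 2 := (Nat.minFac_eq_two_iff _).mpr heven
  have hcomp := IsCyclic.isComplement' hmin hQ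
  exact index_pPrimeCore_of_complement Q _ inferInstance hcomp

end cores

variable {G : Type*} [Group G]

section basic

variable {P : Subgroup G} {σ : G} {m : ℕ}

theorem DS.le (h : DS P σ m) : zpowers σ ≤ P := by
  rw [zpowers_le]; exact h.mem

/-- elements outside `⟨σ⟩` invert `⟨σ⟩` -/
theorem DS.inv_all (h : DS P σ m) {y : G} (hy : y ∈ P) (hyσ : y ∉ zpowers σ) {d : G}
    (hd : d ∈ zpowers σ) : y * d * y⁻¹ = d⁻¹ := by
  obtain ⟨j, rfl⟩ := mem_zpowers_iff.mp hd
  have h1 : y * σ ^ j * y⁻¹ = (y * σ * y⁻¹) ^ j := by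
    rw [conj_zpow]
  rw [h1, (h.inv y hy hyσ).2, inv_zpow]

/-- elements of `P` which are not involutions lie in `⟨σ⟩` -/
theorem DS.mem_of_sq_ne (h : DS P σ m) {y : G} (hy : y ∈ P) (hy2 : y * y ≠ 1) :
    y ∈ zpowers σ := by
  by_contra hyσ
  exact hy2 (h.inv y hy hyσ).1

/-- the centralizer in `P` of an element of `⟨σ⟩` of order at least 4 is `⟨σ⟩` -/
theorem DS.mem_of_commute (h : DS P σ m) {a : G} (ha : a ∈ zpowers σ) (ha2 : a * a ≠ 1) {y : G}
    (hy : y ∈ P) (hya : y * a = a * y) : y ∈ zpowers σ := by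
  by_contra hyσ
  have h1 := h.inv_all hy hyσ ha
  rw [hya, mul_inv_cancel_right] at h1
  apply ha2
  nth_rewrite 2 [h1]
  exact mul_inv_cancel a

theorem DS.card_zpowers (h : DS P σ m) : Nat.card (zpowers σ) = m := by
  rw [Nat.card_zpowers, h.ord]

/-- there is an element outside `⟨σ⟩` -/
theorem DS.exists_not_mem (h : DS P σ m) (hm : 0 < m) : ∃ τ ∈ P, τ ∉ zpowers σ := by
  by_contra hcon
  push Not at hcon
  have hle : P ≤ zpowers σ := fun y hy => hcon y hy
  have hfin : Finite (zpowers σ) := by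
    apply Nat.finite_of_card_ne_zero
    rw [h.card_zpowers]; omega
  have := Subgroup.card_le_of_le hle
  rw [h.card, h.card_zpowers] at this
  omega

/-- `σ` is conjugate to its inverse -/
theorem DS.isConj_pow_inv (h : DS P σ m) (hm : 0 < m) (l : ℕ) : IsConj (σ ^ l) (σ ^ l)⁻¹ := by
  obtain ⟨τ, hτ, hτσ⟩ := h.exists_not_mem hm
  rw [isConj_iff]
  exact ⟨τ, h.inv_all hτ hτσ (pow_mem (mem_zpowers σ) l)⟩

end basic

end Cfsg.Agent.Helper8.DihSetup
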