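import Mathlib
import Cfsg.Agent.Helper8.DihGroupA

/-!
# Groups with dihedral Sylow 2-subgroups: centralizers of elements of order at least 4
-/

set_option autoImplicit false

namespace Cfsg.Agent.Helper8.DihSetup

open Subgroup Cfsg

variable {G : Type*} [Group G] [Finite G] {P : Sylow 2 G} {σ : G} {m : ℕ}

/-- A 2-subgroup containing and centralizing an element `b ∈ ⟨σ⟩` of order at least 4 is conjugate
into `⟨σ⟩`. -/
theorem DS.conj_into (h : DS (P : Subgroup G) σ m) {b : G} (hb : b ∈ zpowers σ)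
    (hb2 : b * b ≠ 1) (R : Subgroup G) (hR : IsPGroup 2 R) (hbR : b ∈ R)
    (hRc : R ≤ centralizer ({b} : Set G)) :
    ∃ g : G, ∀ u ∈ R, g⁻¹ * u * g ∈ zpowers σ := by
  haveI : Fact (Nat.Prime 2) := ⟨Nat.prime_two⟩
  obtain ⟨P', hP'⟩ := hR.exists_le_sylow
  obtain ⟨g, hg⟩ := MulAction.exists_smul_eq G P P'
  refine ⟨g, ?_⟩
  have hmem : ∀ u ∈ R, g⁻¹ * u * g ∈ (P : Subgroup G) := by
    intro u hu
    have : u ∈ ((g • P : Sylow 2 G) : Subgroup G) := by rw [hg]; exact hP' hu
    exact (Cfsg.Agent.Helper16.CentSub.mem_smul_sylow P g u).mp this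
  have hb' : g⁻¹ * b * g ∈ zpowers σ := by
    apply h.mem_of_sq_ne (hmem b hbR)
    intro h1
    apply hb2
    have : g⁻¹ * (b * b) * g = 1 := by
      rw [← h1]; group
    have h2 : b * b = g * (g⁻¹ * (b * b) * g) * g⁻¹ := by group
    rw [h2, this]; group
  have hb2' : g⁻¹ * b * g * (g⁻¹ * b * g) ≠ 1 := by
    intro h1
    apply hb2
    have : g⁻¹ * (b * b) * g = 1 := by
      rw [← h1]; group
    have h2 : b * b = g * (g⁻¹ * (b * b) * g) * g⁻¹ := by group
    rw [h2, this]; group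
  intro u hu
  apply h.mem_of_commute hb' hb2' (hmem u hu)
  have hub : u * b = b * u := by
    have := hRc hu
    rw [mem_centralizer_iff] at this
    exact (this b (Set.mem_singleton b)).symm
  calc g⁻¹ * u * g * (g⁻¹ * b * g) = g⁻¹ * (u * b) * g := by group
    _ = g⁻¹ * (b * u) * g := by rw [hub]
    _ = g⁻¹ * b * g * (g⁻¹ * u * g) := by group

/-- Such a 2-subgroup has order at most `m`. -/
theorem DS.card_le (h : DS (P : Subgroup G) σ m) {b : G} (hb : b ∈ zpowers σ)
    (hb2 : b * b ≠ 1) (R : Subgroup G) (hR : IsPGroup 2 R) (hbR : b ∈ R)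
    (hRc : R ≤ centralizer ({b} : Set G)) : Nat.card R ≤ m := by
  obtain ⟨g, hg⟩ := h.conj_into hb hb2 R hR hbR hRc
  have hle : R.map (MulAut.conj g⁻¹).toMonoidHom ≤ zpowers σ := by
    rintro _ ⟨u, hu, rfl⟩
    have := hg u hu
    simpa [MulAut.conj_apply] using this
  have h1 := Subgroup.card_le_of_le hle
  rw [Subgroup.card_map_of_injective (MulAut.conj g⁻¹).injective, h.card_zpowers] at h1
  exact h1

omit [Finite G] in
theorem mem_centralizer_singleton {x y : G} :
    y ∈ centralizer ({x} : Set G) ↔ x * y = y * x := by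
  rw [mem_centralizer_iff]
  constructor
  · intro h; exact h x (Set.mem_singleton x)
  · intro h w hw
    rw [Set.mem_singleton_iff] at hw
    rw [hw]; exact h

omit [Finite G] in
theorem zpowers_le_centralizer {b : G} (hb : b ∈ zpowers σ) :
    zpowers σ ≤ centralizer ({b} : Set G) := by
  rw [zpowers_le, mem_centralizer_singleton]
  obtain ⟨j, rfl⟩ := mem_zpowers_iff.mp hb
  exact ((Commute.refl σ).zpow_left j).eq

/-- **The Sylow 2-subgroup of the centralizer of an element of `⟨σ⟩` of order at least 4** is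
`⟨σ⟩`. -/
theorem DS.sylow_centralizer (h : DS (P : Subgroup G) σ m) (k : ℕ) (hmk : m = 2 ^ k)
    {b : G} (hb : b ∈ zpowers σ) (hb2 : b * b ≠ 1) :
    ∃ Q : Sylow 2 ↥(centralizer ({b} : Set G)),
      (Q : Subgroup ↥(centralizer ({b} : Set G))) =
        (zpowers σ).subgroupOf (centralizer ({b} : Set G)) ∧ Nat.card Q = m := by
  haveI : Fact (Nat.Prime 2) := ⟨Nat.prime_two⟩
  set C := centralizer ({b} : Set G) with hC
  have hDC : zpowers σ ≤ C := zpowers_le_centralizer hb
  have e : ((zpowers σ).subgroupOf C) ≃* (zpowers σ) := Subgroup.subgroupOfEquivOfLe hDC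
  have hcardD : Nat.card ((zpowers σ).subgroupOf C) = m := by
    rw [Nat.card_congr e.toEquiv, h.card_zpowers]
  have hDp : IsPGroup 2 ((zpowers σ).subgroupOf C) := IsPGroup.of_card (n := k) (by rw [hcardD, hmk])
  obtain ⟨Q, hQ⟩ := hDp.exists_le_sylow
  have hRp : IsPGroup 2 ((Q : Subgroup C).map C.subtype) := Q.isPGroup'.map C.subtype
  have hbR : b ∈ (Q : Subgroup C).map C.subtype := by
    refine ⟨⟨b, hDC hb⟩, hQ ?_, rfl⟩
    rw [mem_subgroupOf]
    exact hb
  have hRc : (Q : Subgroup C).map C.subtype ≤ C := by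
    rintro _ ⟨u, -, rfl⟩
    exact u.2
  have hle := h.card_le hb hb2 _ hRp hbR hRc
  rw [Subgroup.card_map_of_injective C.subtype_injective] at hle
  have heq : (zpowers σ).subgroupOf C = (Q : Subgroup C) :=
    Subgroup.eq_of_le_of_card_ge hQ (by rw [hcardD]; exact hle)
  exact ⟨Q, heq.symm, by rw [← hcardD, heq]⟩

/-- all Sylow 2-subgroups of such a centralizer have order `m` -/
theorem DS.card_sylow_centralizer (h : DS (P : Subgroup G) σ m) (k : ℕ) (hmk : m = 2 ^ k)
    {b : G} (hb : b ∈ zpowers σ) (hb2 : b * b ≠ 1)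
    (Q : Sylow 2 ↥(centralizer ({b} : Set G))) : Nat.card Q = m := by
  haveI : Fact (Nat.Prime 2) := ⟨Nat.prime_two⟩
  obtain ⟨Q₀, -, hQ₀⟩ := h.sylow_centralizer k hmk hb hb2
  rw [Sylow.card_eq_multiplicity] at hQ₀ ⊢
  exact hQ₀

/-- **The index of `O_{2'}` in the centralizer of an element of `⟨σ⟩` of order at least 4.** -/
theorem DS.index_pPrimeCore_centralizer (h : DS (P : Subgroup G) σ m) (k : ℕ) (hk : 1 ≤ k)
    (hmk : m = 2 ^ k) {b : G} (hb : b ∈ zpowers σ) (hb2 : b * b ≠ 1) :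
    (pPrimeCore 2 ↥(centralizer ({b} : Set G))).index = m := by
  haveI : Fact (Nat.Prime 2) := ⟨Nat.prime_two⟩
  obtain ⟨Q, hQ, hQc⟩ := h.sylow_centralizer k hmk hb hb2
  have hDC : zpowers σ ≤ centralizer ({b} : Set G) := zpowers_le_centralizer hb
  have e : ((zpowers σ).subgroupOf (centralizer ({b} : Set G))) ≃* (zpowers σ) :=
    Subgroup.subgroupOfEquivOfLe hDC
  have hcyc : IsCyclic (Q : Subgroup ↥(centralizer ({b} : Set G))) := by
    rw [hQ]
    exact isCyclic_of_surjective e.symm e.symm.surjective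
  have heven : 2 ∣ Nat.card ↥(centralizer ({b} : Set G)) := by
    have h1 : Nat.card Q ∣ Nat.card ↥(centralizer ({b} : Set G)) :=
      Subgroup.card_subgroup_dvd_card _
    rw [hQc, hmk] at h1
    exact dvd_trans (dvd_pow_self 2 (by omega)) h1
  rw [index_pPrimeCore_of_cyclic heven Q hcyc, hQc]

end Cfsg.Agent.Helper8.DihSetup
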