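import Mathlib
import Cfsg.Agent.Helper8.DihGroupB
import Cfsg.Agent.Helper3.DihKlein

/-!
# Groups with dihedral Sylow 2-subgroups: fusion in the cyclic maximal subgroup
-/

set_option autoImplicit false

namespace Cfsg.Agent.Helper8.DihSetup

open Subgroup Cfsg

variable {G : Type*} [Group G] [Finite G] {P : Sylow 2 G} {σ : G} {m : ℕ}

/-- in a finite group, `n D n⁻¹ ≤ D` implies `n ∈ N(D)` -/
theorem mem_normalizer_of_conj_le (D : Subgroup G) (n : G)
    (hn : ∀ d ∈ D, n * d * n⁻¹ ∈ D) : n ∈ normalizer (D : Set G) := by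
  have hle : D.map (MulAut.conj n).toMonoidHom ≤ D := by
    rintro _ ⟨d, hd, rfl⟩
    exact hn d hd
  have heq : D.map (MulAut.conj n).toMonoidHom = D :=
    Subgroup.eq_of_le_of_card_ge hle
      (by rw [Subgroup.card_map_of_injective (MulAut.conj n).injective])
  rw [mem_normalizer_iff]
  intro x
  constructor
  · exact hn x
  · intro hx
    rw [← heq] at hx
    obtain ⟨d, hd, hdx⟩ := hx
    have : d = x := by
      have h1 : n * d * n⁻¹ = n * x * n⁻¹ := hdx
      have h2 : d = n⁻¹ * (n * d * n⁻¹) * n := by group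
      rw [h2, h1]; group
    rw [← this]; exact hd

/-- the automorphism group of a cyclic 2-group is a 2-group -/
theorem isPGroup_mulAut_zpowers (k : ℕ) (hσ : orderOf σ = 2 ^ k) :
    IsPGroup 2 (MulAut (zpowers σ)) := by
  haveI : Fact (Nat.Prime 2) := ⟨Nat.prime_two⟩
  have hcard : Nat.card (zpowers σ) = 2 ^ k := by rw [Nat.card_zpowers, hσ]
  have h1 : Nat.card (MulAut (zpowers σ)) = Nat.totient (2 ^ k) := by
    rw [IsCyclic.card_mulAut, hcard]
  rcases Nat.eq_zero_or_pos k with hk | hk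
  · rw [hk, pow_zero, Nat.totient_one] at h1
    exact IsPGroup.of_card (n := 0) (by rw [h1, pow_zero])
  · rw [Nat.totient_prime_pow Nat.prime_two hk] at h1
    exact IsPGroup.of_card (n := k - 1) (by rw [h1]; norm_num)

/-- `P` normalizes `⟨σ⟩` -/
theorem DS.le_normalizer (h : DS (P : Subgroup G) σ m) :
    (P : Subgroup G) ≤ normalizer ((zpowers σ : Subgroup G) : Set G) := by
  intro y hy
  apply mem_normalizer_of_conj_le
  intro d hd
  by_cases hyσ : y ∈ zpowers σ
  · exact mul_mem (mul_mem hyσ hd) (inv_mem hyσ)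
  · rw [h.inv_all hy hyσ hd]
    exact inv_mem hd

/-- `⟨σ⟩` is extremal in `P` -/
theorem DS.isExt (h : DS (P : Subgroup G) σ m) :
    Cfsg.Agent.Helper10.IsExt 2 (P : Subgroup G) (zpowers σ) := by
  unfold Cfsg.Agent.Helper10.IsExt
  rw [inf_eq_left.mpr h.le_normalizer]
  intro hdvd
  apply P.not_dvd_index
  rw [← Subgroup.relIndex_mul_index h.le_normalizer]
  exact dvd_mul_of_dvd_left hdvd _

/-- **Fusion in `⟨σ⟩`.**  Two elements of `⟨σ⟩`, of order at least 4, which are conjugate in `G`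
are equal or inverse to each other. -/
theorem DS.eq_or_eq_inv_of_isConj (h : DS (P : Subgroup G) σ m) (k : ℕ) (hmk : m = 2 ^ k)
    {a b : G} (ha : a ∈ zpowers σ) (hb : b ∈ zpowers σ) (ha2 : a * a ≠ 1) (hconj : IsConj a b) :
    b = a ∨ b = a⁻¹ := by
  haveI : Fact (Nat.Prime 2) := ⟨Nat.prime_two⟩
  obtain ⟨g, hg⟩ := isConj_iff.mp hconj
  have hb2 : b * b ≠ 1 := by
    intro h1
    apply ha2
    have : g * (a * a) * g⁻¹ = 1 := by
      rw [← h1, ← hg]; group
    have h2 : a * a = g⁻¹ * (g * (a * a) * g⁻¹) * g := by group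
    rw [h2, this]; group
  have hDC : zpowers σ ≤ centralizer ({b} : Set G) := zpowers_le_centralizer hb
  -- the conjugate of `⟨σ⟩` lies in the centralizer of `b`
  have hRC : (zpowers σ).map (MulAut.conj g).toMonoidHom ≤ centralizer ({b} : Set G) := by
    rintro _ ⟨d, hd, rfl⟩
    rw [mem_centralizer_singleton]
    have hda : d * a = a * d := by
      have := zpowers_le_centralizer ha hd
      rw [mem_centralizer_singleton] at this
      exact this.symm
    show b * (g * d * g⁻¹) = g * d * g⁻¹ * b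
    rw [← hg]
    calc g * a * g⁻¹ * (g * d * g⁻¹) = g * (a * d) * g⁻¹ := by group
      _ = g * (d * a) * g⁻¹ := by rw [hda]
      _ = g * d * g⁻¹ * (g * a * g⁻¹) := by group
  -- both are Sylow 2-subgroups of the centralizer
  obtain ⟨Q₁, hQ₁, hQ₁c⟩ := h.sylow_centralizer k hmk hb hb2
  have hmult : m = 2 ^ (Nat.card ↥(centralizer ({b} : Set G))).factorization 2 := by
    rw [← hQ₁c, Sylow.card_eq_multiplicity]
  have hcard₂ : Nat.card (((zpowers σ).map (MulAut.conj g).toMonoidHom).subgroupOf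
      (centralizer ({b} : Set G))) = 2 ^ (Nat.card ↥(centralizer ({b} : Set G))).factorization 2 := by
    rw [← hmult, Nat.card_congr (Subgroup.subgroupOfEquivOfLe hRC).toEquiv,
      Subgroup.card_map_of_injective (MulAut.conj g).injective, h.card_zpowers]
  set Q₂ : Sylow 2 ↥(centralizer ({b} : Set G)) := Sylow.ofCard _ hcard₂ with hQ₂
  obtain ⟨c, hc⟩ := MulAction.exists_smul_eq ↥(centralizer ({b} : Set G)) Q₂ Q₁
  -- the element `n = c g` normalizes `⟨σ⟩` and conjugates `a` to `b`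
  have hnD : ∀ d ∈ zpowers σ, (c : G) * g * d * ((c : G) * g)⁻¹ ∈ zpowers σ := by
    intro d hd
    have hmem : g * d * g⁻¹ ∈ centralizer ({b} : Set G) := hRC ⟨d, hd, rfl⟩
    have h1 : (⟨g * d * g⁻¹, hmem⟩ : ↥(centralizer ({b} : Set G))) ∈
        (Q₂ : Subgroup ↥(centralizer ({b} : Set G))) := by
      rw [hQ₂, Sylow.coe_ofCard, mem_subgroupOf]
      exact ⟨d, hd, rfl⟩
    have h2 : c * ⟨g * d * g⁻¹, hmem⟩ * c⁻¹ ∈
        ((c • Q₂ : Sylow 2 ↥(centralizer ({b} : Set G))) :
          Subgroup ↥(centralizer ({b} : Set G))) := by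
      rw [Cfsg.Agent.Helper16.CentSub.mem_smul_sylow]
      have : c⁻¹ * (c * ⟨g * d * g⁻¹, hmem⟩ * c⁻¹) * c = ⟨g * d * g⁻¹, hmem⟩ := by group
      rw [this]
      exact h1
    rw [hc, hQ₁, mem_subgroupOf] at h2
    have h3 : ((c * ⟨g * d * g⁻¹, hmem⟩ * c⁻¹ : ↥(centralizer ({b} : Set G))) : G) =
        (c : G) * g * d * ((c : G) * g)⁻¹ := by
      push_cast
      group
    rw [← h3]
    exact h2
  have hn : (c : G) * g ∈ normalizer ((zpowers σ : Subgroup G) : Set G) :=
    mem_normalizer_of_conj_le _ _ hnD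
  have hna : (c : G) * g * a * ((c : G) * g)⁻¹ = b := by
    have hcb : b * (c : G) = (c : G) * b := mem_centralizer_singleton.mp c.2
    calc (c : G) * g * a * ((c : G) * g)⁻¹ = (c : G) * (g * a * g⁻¹) * (c : G)⁻¹ := by group
      _ = (c : G) * b * (c : G)⁻¹ := by rw [hg]
      _ = b := by rw [← hcb, mul_inv_cancel_right]
  -- `N(⟨σ⟩) = C(⟨σ⟩) P`
  obtain ⟨c', hc', s, hs, hcs⟩ := Cfsg.Agent.Helper3.DihKlein.exists_mul_of_aut_pgroup
    (P : Subgroup G) (zpowers σ) P.isPGroup'
    (isPGroup_mulAut_zpowers k (by rw [h.ord, hmk])) h.isExt _ hn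
  have hsa : s * a * s⁻¹ = a ∨ s * a * s⁻¹ = a⁻¹ := by
    by_cases hsσ : s ∈ zpowers σ
    · left
      have := zpowers_le_centralizer ha hsσ
      rw [mem_centralizer_singleton] at this
      rw [← this, mul_inv_cancel_right]
    · right
      exact h.inv_all hs hsσ ha
  have hfix : ∀ d ∈ zpowers σ, c' * d * c'⁻¹ = d := by
    intro d hd
    rw [mem_centralizer_iff] at hc'
    rw [← hc' d hd, mul_inv_cancel_right]
  have hb' : b = c' * (s * a * s⁻¹) * c'⁻¹ := by
    rw [← hna, hcs]; group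
  rcases hsa with h1 | h1
  · left
    rw [hb', h1, hfix a ha]
  · right
    rw [hb', h1, hfix _ (inv_mem ha)]

end Cfsg.Agent.Helper8.DihSetup
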