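import Mathlib
import Cfsg.Agent.Helper8.DihGroupC
import Cfsg.Agent.Helper18.DihSylow
import Cfsg.Agent.S0071

/-!
# Groups with dihedral Sylow 2-subgroups: the centralizer of the central involution
-/

set_option autoImplicit false

namespace Cfsg.Agent.Helper8.DihSetup

open Subgroup Cfsg

variable {G : Type*} [Group G] [Finite G] {P : Sylow 2 G} {σ : G} {m : ℕ}

/-- elements of `⟨σ⟩` are natural powers -/
theorem DS.exists_pow (h : DS (P : Subgroup G) σ m) {d : G} (hd : d ∈ zpowers σ) :
    ∃ j, j < m ∧ σ ^ j = d := by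
  classical
  rw [mem_zpowers_iff_mem_range_orderOf, Finset.mem_image] at hd
  obtain ⟨j, hj, hjd⟩ := hd
  rw [Finset.mem_range, h.ord] at hj
  exact ⟨j, hj, hjd⟩

/-- the involution of `⟨σ⟩` -/
theorem DS.invol_unique (h : DS (P : Subgroup G) σ m) {d : G} (hd : d ∈ zpowers σ)
    (hd2 : d * d = 1) (hd1 : d ≠ 1) : d = σ ^ (m / 2) := by
  obtain ⟨j, hj, rfl⟩ := h.exists_pow hd
  have h1 : σ ^ (2 * j) = 1 := by rw [two_mul, pow_add]; exact hd2
  have h2 : m ∣ 2 * j := by rw [← h.ord]; exact orderOf_dvd_of_pow_eq_one h1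
  obtain ⟨c, hc⟩ := h2
  have hj0 : j ≠ 0 := by
    intro h0
    apply hd1
    rw [h0, pow_zero]
  have hc1 : c = 1 := by
    rcases Nat.lt_or_ge c 1 with h3 | h3
    · have : c = 0 := by omega
      rw [this] at hc
      omega
    rcases Nat.lt_or_ge c 2 with h4 | h4
    · omega
    · have : m * 2 ≤ m * c := Nat.mul_le_mul_left m h4
      omega
  rw [hc1, mul_one] at hc
  have : j = m / 2 := by omega
  rw [this]

/-- the central involution `z = σ^{m/2}` -/
theorem DS.z_props (h : DS (P : Subgroup G) σ m) (hm : 2 ≤ m) (hev : 2 ∣ m) :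
    σ ^ (m / 2) ∈ zpowers σ ∧ σ ^ (m / 2) ≠ 1 ∧ σ ^ (m / 2) * σ ^ (m / 2) = 1 ∧
      ∀ y ∈ (P : Subgroup G), y * σ ^ (m / 2) = σ ^ (m / 2) * y := by
  have hz : σ ^ (m / 2) ∈ zpowers σ := pow_mem (mem_zpowers σ) _
  have hz2 : σ ^ (m / 2) * σ ^ (m / 2) = 1 := by
    rw [← pow_add]
    have : m / 2 + m / 2 = m := by omega
    rw [this, ← h.ord, pow_orderOf_eq_one]
  have hz1 : σ ^ (m / 2) ≠ 1 := by
    intro h1
    have := orderOf_dvd_of_pow_eq_one h1
    rw [h.ord] at this
    have := Nat.le_of_dvd (by omega) this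
    omega
  refine ⟨hz, hz1, hz2, ?_⟩
  intro y hy
  by_cases hyσ : y ∈ zpowers σ
  · have := zpowers_le_centralizer hz hyσ
    rw [mem_centralizer_singleton] at this
    exact this.symm
  · have h1 := h.inv_all hy hyσ hz
    have h2 : (σ ^ (m / 2))⁻¹ = σ ^ (m / 2) := inv_eq_of_mul_eq_one_left hz2
    rw [h2] at h1
    calc y * σ ^ (m / 2) = y * σ ^ (m / 2) * y⁻¹ * y := by group
      _ = σ ^ (m / 2) * y := by rw [h1]

/-- the product of two elements of `P` outside `⟨σ⟩` lies in `⟨σ⟩` -/
theorem DS.mul_mem (h : DS (P : Subgroup G) σ m) (hm : 3 ≤ m) {y y' : G}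
    (hy : y ∈ (P : Subgroup G)) (hy' : y' ∈ (P : Subgroup G)) (hyσ : y ∉ zpowers σ)
    (hyσ' : y' ∉ zpowers σ) : y * y' ∈ zpowers σ := by
  by_contra hcon
  have h1 := (h.inv y hy hyσ).2
  have h2 := (h.inv y' hy' hyσ').2
  have h3 := (h.inv (y * y') (Subgroup.mul_mem _ hy hy') hcon).2
  have h4 : y * y' * σ * (y * y')⁻¹ = σ := by
    calc y * y' * σ * (y * y')⁻¹ = y * (y' * σ * y'⁻¹) * y⁻¹ := by group
      _ = y * σ⁻¹ * y⁻¹ := by rw [h2]
      _ = (y * σ * y⁻¹)⁻¹ := by group
      _ = σ := by rw [h1, inv_inv]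
  rw [h4] at h3
  have h5 : σ ^ 2 = 1 := by
    rw [pow_two]
    nth_rewrite 1 [h3]
    exact inv_mul_cancel σ
  have := orderOf_dvd_of_pow_eq_one h5
  rw [h.ord] at this
  have := Nat.le_of_dvd (by norm_num) this
  omega

/-- every four-subgroup of `P` contains the central involution -/
theorem DS.z_mem_klein (h : DS (P : Subgroup G) σ m) (hm : 3 ≤ m) (U : Subgroup G)
    (hU : IsKleinFour U) (hUP : U ≤ (P : Subgroup G)) : σ ^ (m / 2) ∈ U := by
  classical
  haveI : Finite U := Nat.finite_of_card_ne_zero (by rw [hU.card_four]; norm_num)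
  haveI : Fintype U := Fintype.ofFinite U
  have hcard : Fintype.card U = 4 := by rw [← Nat.card_eq_fintype_card]; exact hU.card_four
  obtain ⟨u, hu⟩ := Fintype.exists_ne_of_one_lt_card (by omega : 1 < Fintype.card U) 1
  obtain ⟨v, hv1, hvu⟩ : ∃ v : U, v ≠ 1 ∧ v ≠ u := by
    by_contra hcon
    push Not at hcon
    have hsub : (Finset.univ : Finset U) ⊆ {1, u} := by
      intro w _
      by_cases hw : w = 1
      · rw [hw]; exact Finset.mem_insert_self _ _
      · rw [hcon w hw]
        exact Finset.mem_insert_of_mem (Finset.mem_singleton_self _)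
    have := Finset.card_le_card hsub
    have h2 : ({1, u} : Finset U).card ≤ 2 := Finset.card_le_two
    rw [Finset.card_univ] at this
    omega
  have hsq : ∀ w : U, (w : G) * (w : G) = 1 := by
    intro w
    have := IsKleinFour.mul_self w
    exact congrArg Subtype.val this
  have hne1 : ∀ w : U, w ≠ 1 → (w : G) ≠ 1 := by
    intro w hw h1
    apply hw
    exact Subtype.ext h1
  by_cases huσ : (u : G) ∈ zpowers σ
  · rw [← h.invol_unique huσ (hsq u) (hne1 u hu)]
    exact u.2
  by_cases hvσ : (v : G) ∈ zpowers σ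
  · rw [← h.invol_unique hvσ (hsq v) (hne1 v hv1)]
    exact v.2
  have huv := h.mul_mem hm (hUP u.2) (hUP v.2) huσ hvσ
  have huv1 : u * v ≠ 1 := by
    intro h1
    apply hvu
    have h2 : v = u⁻¹ := (eq_inv_of_mul_eq_one_right h1)
    rw [h2, IsKleinFour.inv_eq_self]
  have := h.invol_unique huv (hsq (u * v)) (hne1 (u * v) huv1)
  rw [← this]
  exact (u * v).2

/-- **Odd-order elements of `C(z)` normalizing a subgroup of `P` centralize it.** -/
theorem DS.frobenius_aux (h : DS (P : Subgroup G) σ m) (hm : 3 ≤ m)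
    (e : (P : Subgroup G) ≃* DihedralGroup m) (Q : Subgroup G) (hQP : Q ≤ (P : Subgroup G))
    (g : G) (hg : g ∈ normalizer (Q : Set G)) (hgz : g * σ ^ (m / 2) = σ ^ (m / 2) * g)
    (hodd : Nat.Coprime (orderOf g) 2) : g ∈ centralizer (Q : Set G) := by
  haveI : Fact (Nat.Prime 2) := ⟨Nat.prime_two⟩
  obtain ⟨a, ha⟩ := (P.isPGroup').exists_card_eq
  rcases Cfsg.Agent.Helper18.DihSylow.subgroup_dichotomy (P : Subgroup G) m e a ha Q hQP with
    hA | hK
  · exact Cfsg.Agent.Helper18.DihSylow.mem_centralizer_of_aut_pgroup Q hA g hg hodd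
  · -- the four-group case
    have hz := h.z_mem_klein hm Q hK hQP
    have hev : 2 ∣ m := by
      have h1 : 2 * m = 2 ^ a := by rw [← h.card]; exact ha
      rcases Nat.even_or_odd m with he | ho
      · exact even_iff_two_dvd.mp he
      · exfalso
        have h2 : m ∣ 2 ^ a := ⟨2, by rw [← h1]; ring⟩
        obtain ⟨j, -, hj⟩ := (Nat.dvd_prime_pow Nat.prime_two).mp h2
        rcases Nat.eq_zero_or_pos j with h0 | h0
        · rw [h0, pow_zero] at hj; omega
        · have : Even m := by rw [hj]; exact (Nat.even_pow' h0.ne').mpr even_two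
          exact (Nat.not_even_iff_odd.mpr ho) this
    obtain ⟨-, hz1, -, -⟩ := h.z_props (by omega) hev
    set z := σ ^ (m / 2) with hzdef
    -- `g²` fixes every element of `Q`
    have hconj_mem : ∀ u ∈ Q, g * u * g⁻¹ ∈ Q := fun u hu => (mem_normalizer_iff.mp hg u).mp hu
    have hgz' : g * z * g⁻¹ = z := by rw [hgz, mul_inv_cancel_right]
    have hkey : ∀ u ∈ Q, g * u * g⁻¹ = u ∨ g * u * g⁻¹ = z * u := by
      intro u hu
      by_cases hu1 : u = 1
      · left; rw [hu1]; group
      by_cases huz : u = z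
      · left; rw [huz]; exact hgz'
      by_cases hfix : g * u * g⁻¹ = u
      · exact Or.inl hfix
      right
      have hw1 : g * u * g⁻¹ ≠ 1 := by
        intro h1
        exact hu1 (conj_eq_one_iff.mp h1)
      have hwz : g * u * g⁻¹ ≠ z := by
        intro h1
        apply huz
        have h2 : g * u * g⁻¹ = g * z * g⁻¹ := by rw [h1, hgz']
        exact mul_left_cancel (mul_right_cancel h2)
      have := IsKleinFour.eq_mul_of_ne_all (G := Q) (x := ⟨z, hz⟩) (y := ⟨u, hu⟩)
        (z := ⟨g * u * g⁻¹, hconj_mem u hu⟩)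
        (fun h1 => hz1 (congrArg Subtype.val h1))
        (fun h1 => hu1 (congrArg Subtype.val h1))
        (fun h1 => huz (congrArg Subtype.val h1).symm)
        (fun h1 => hw1 (congrArg Subtype.val h1))
        (fun h1 => hwz (congrArg Subtype.val h1))
        (fun h1 => hfix (congrArg Subtype.val h1))
      exact congrArg Subtype.val this
    have hsqfix : ∀ u ∈ Q, g ^ 2 * u * (g ^ 2)⁻¹ = u := by
      intro u hu
      have hzu : z * u ∈ Q := Subgroup.mul_mem _ hz hu
      have hzz : z * z = 1 := by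
        have := IsKleinFour.mul_self (G := Q) ⟨z, hz⟩
        exact congrArg Subtype.val this
      have e1 : g ^ 2 * u * (g ^ 2)⁻¹ = g * (g * u * g⁻¹) * g⁻¹ := by rw [pow_two]; group
      rw [e1]
      rcases hkey u hu with h1 | h1
      · rw [h1, h1]
      · rw [h1]
        have e2 : g * (z * u) * g⁻¹ = (g * z * g⁻¹) * (g * u * g⁻¹) := by group
        rw [e2, hgz', h1, ← mul_assoc, hzz, one_mul]
    -- `g` is a power of `g²`
    have hodd' : Odd (orderOf g) := Nat.Coprime.odd_of_right hodd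
    obtain ⟨r, hr⟩ := hodd'
    have hgpow : (g ^ 2) ^ (r + 1) = g := by
      rw [← pow_mul]
      have : 2 * (r + 1) = orderOf g + 1 := by omega
      rw [this, pow_succ, pow_orderOf_eq_one, one_mul]
    rw [mem_centralizer_iff]
    intro u hu
    have hcomm : Commute (g ^ 2) u := by
      have := hsqfix u hu
      show g ^ 2 * u = u * g ^ 2
      calc g ^ 2 * u = g ^ 2 * u * (g ^ 2)⁻¹ * g ^ 2 := by group
        _ = u * g ^ 2 := by rw [this]
    have := hcomm.pow_left (r + 1)
    rw [hgpow] at this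
    exact this.eq.symm

/-- **The centralizer of the central involution has a normal 2-complement**: the index of
`O_{2'}` is `2m = |P|`. -/
theorem DS.index_pPrimeCore_centralizer_z (h : DS (P : Subgroup G) σ m) (hm : 3 ≤ m)
    (hev : 2 ∣ m) (e : (P : Subgroup G) ≃* DihedralGroup m) :
    (pPrimeCore 2 ↥(centralizer ({σ ^ (m / 2)} : Set G))).index = 2 * m := by
  haveI : Fact (Nat.Prime 2) := ⟨Nat.prime_two⟩
  obtain ⟨-, -, -, hzc⟩ := h.z_props (by omega) hev
  have hPC : (P : Subgroup G) ≤ centralizer ({σ ^ (m / 2)} : Set G) := by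
    intro y hy
    rw [mem_centralizer_singleton]
    exact (hzc y hy).symm
  have hScard : Nat.card (P.subtype hPC) = 2 * m := by
    rw [← h.card]
    exact Nat.card_congr (Subgroup.subgroupOfEquivOfLe hPC).toEquiv
  have hfrob := (Cfsg.Agent.S0071.result (P.subtype hPC)).mpr (by
    intro Q hQS g hg hodd
    have hQ'P : Q.map (centralizer ({σ ^ (m / 2)} : Set G)).subtype ≤ (P : Subgroup G) := by
      rintro _ ⟨x, hx, rfl⟩
      have := hQS hx
      rw [Sylow.coe_subtype, mem_subgroupOf] at this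
      exact this
    have hg' : (g : G) ∈ normalizer
        ((Q.map (centralizer ({σ ^ (m / 2)} : Set G)).subtype : Subgroup G) : Set G) := by
      apply mem_normalizer_of_conj_le
      rintro _ ⟨x, hx, rfl⟩
      refine ⟨g * x * g⁻¹, (mem_normalizer_iff.mp hg x).mp hx, ?_⟩
      simp
    have hgz : (g : G) * σ ^ (m / 2) = σ ^ (m / 2) * (g : G) :=
      (mem_centralizer_singleton.mp g.2).symm
    have hodd' : Nat.Coprime (orderOf (g : G)) 2 := by
      rw [Subgroup.orderOf_coe]; exact hodd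
    have hcent := h.frobenius_aux hm e _ hQ'P (g : G) hg' hgz hodd'
    rw [mem_centralizer_iff] at hcent ⊢
    intro x hx
    apply Subtype.ext
    have := hcent (x : G) ⟨x, hx, rfl⟩
    simpa using this)
  obtain ⟨N, hN, hc⟩ := hfrob
  rw [index_pPrimeCore_of_complement (P.subtype hPC) N hN hc, hScard]

end Cfsg.Agent.Helper8.DihSetup
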