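import Mathlib
import Cfsg.Agent.Helper8.DihGroupD

/-!
# Groups with dihedral Sylow 2-subgroups: the facts on the powers of `σ` in index form
-/

set_option autoImplicit false

namespace Cfsg.Agent.Helper8.DihSetup

open Subgroup Cfsg

variable {G : Type*} [Group G] [Finite G] {P : Sylow 2 G} {σ : G} {m : ℕ}

omit [Finite G] in
theorem DS.pow_eq_pow (h : DS (P : Subgroup G) σ m) {l l' : ℕ} (hl : l < m) (hl' : l' < m)
    (heq : σ ^ l = σ ^ l') : l = l' := by
  rw [pow_eq_pow_iff_modEq, h.ord] at heq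
  have := Nat.ModEq.eq_of_lt_of_lt heq hl hl'
  exact this

omit [Finite G] in
theorem DS.pow_mul_self_ne (h : DS (P : Subgroup G) σ m) {l : ℕ} (hl0 : 0 < l) (hl : l < m)
    (hne : 2 * l ≠ m) : σ ^ l * σ ^ l ≠ 1 := by
  intro h1
  rw [← pow_add] at h1
  have h2 := orderOf_dvd_of_pow_eq_one h1
  rw [h.ord] at h2
  obtain ⟨c, hc⟩ := h2
  have hc1 : c = 1 := by
    rcases Nat.lt_or_ge c 1 with h3 | h3
    · have : c = 0 := by omega
      rw [this] at hc
      omega
    rcases Nat.lt_or_ge c 2 with h4 | h4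
    · omega
    · have : m * 2 ≤ m * c := Nat.mul_le_mul_left m h4
      omega
  rw [hc1] at hc
  omega

omit [Finite G] in
theorem DS.pow_inv (h : DS (P : Subgroup G) σ m) {l : ℕ} (hl : l ≤ m) :
    (σ ^ l)⁻¹ = σ ^ (m - l) := by
  apply inv_eq_of_mul_eq_one_right
  rw [← pow_add, Nat.add_sub_cancel' hl, ← h.ord, pow_orderOf_eq_one]

/-- **Fusion of the powers of `σ`.** -/
theorem DS.isConj_pow_iff (h : DS (P : Subgroup G) σ m) (k : ℕ) (hmk : m = 2 ^ k)
    {l l' : ℕ} (hl0 : 0 < l) (hl : l < m) (hl0' : 0 < l') (hl' : l' < m) :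
    IsConj (σ ^ l) (σ ^ l') ↔ (l' = l ∨ l + l' = m) := by
  constructor
  · intro hconj
    by_cases h2l : 2 * l = m
    · -- the involution
      left
      have h1 : σ ^ l * σ ^ l = 1 := by
        rw [← pow_add, ← two_mul, h2l, ← h.ord, pow_orderOf_eq_one]
      obtain ⟨g, hg⟩ := isConj_iff.mp hconj
      have h2 : σ ^ l' * σ ^ l' = 1 := by
        rw [← hg]
        calc g * σ ^ l * g⁻¹ * (g * σ ^ l * g⁻¹) = g * (σ ^ l * σ ^ l) * g⁻¹ := by group
          _ = 1 := by rw [h1]; group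
      by_contra hne
      exact h.pow_mul_self_ne hl0' hl' (by omega) h2
    · have ha2 := h.pow_mul_self_ne hl0 hl h2l
      rcases h.eq_or_eq_inv_of_isConj k hmk (pow_mem (mem_zpowers σ) l)
        (pow_mem (mem_zpowers σ) l') ha2 hconj with h1 | h1
      · left
        exact h.pow_eq_pow hl' hl h1
      · right
        rw [h.pow_inv hl.le] at h1
        have := h.pow_eq_pow hl' (by omega) h1
        omega
  · rintro (h1 | h1)
    · rw [h1]
    · have : σ ^ l' = (σ ^ l)⁻¹ := by
        rw [h.pow_inv hl.le]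
        congr 1
        omega
      rw [this]
      exact h.isConj_pow_inv (by omega) l

/-- **The index of `O_{2'}` in the centralizer of a power of `σ`.** -/
theorem DS.index_pPrimeCore_pow (h : DS (P : Subgroup G) σ m) (k : ℕ) (hk : 2 ≤ k)
    (hmk : m = 2 ^ k) (e : (P : Subgroup G) ≃* DihedralGroup m) {l : ℕ} (hl0 : 0 < l)
    (hl : l < m) :
    (pPrimeCore 2 ↥(centralizer ({σ ^ l} : Set G))).index = if 2 * l = m then 2 * m else m := by
  have hm4 : 4 ≤ m := by
    rw [hmk]
    calc 4 = 2 ^ 2 := by norm_num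
      _ ≤ 2 ^ k := Nat.pow_le_pow_right (by norm_num) hk
  have hev : 2 ∣ m := by rw [hmk]; exact dvd_pow_self 2 (by omega)
  by_cases h2l : 2 * l = m
  · rw [if_pos h2l]
    have : l = m / 2 := by omega
    rw [this]
    exact h.index_pPrimeCore_centralizer_z (by omega) hev e
  · rw [if_neg h2l]
    exact h.index_pPrimeCore_centralizer k (by omega) hmk (pow_mem (mem_zpowers σ) l)
      (h.pow_mul_self_ne hl0 hl h2l)

end Cfsg.Agent.Helper8.DihSetup
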