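import Mathlib
import Cfsg.Agent.Helper8.CycFourier

/-!
# Finite Fourier analysis for columns indexed by a cyclic group

`v χ l = ∑_{k<q} a χ k ζ^{kl}` (`χ ∈ I`) with the column orthogonality
`∑_χ v χ l conj (v χ l') = q ([l' = l] + [l + l' = q])` for `0 < l, l' < q`.  Then the Gram matrix of
the differences `a · k₁ - a · k₂` is explicitly known.
-/

set_option autoImplicit false

namespace Cfsg.Agent.Helper8.DihFourier

open Finset Cfsg.Agent.Helper8.CycFourier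

variable {q : ℕ} {ζ : ℂ}

theorem conj_root (hq : 0 < q) (hζ : IsPrimitiveRoot ζ q) : (starRingEnd ℂ) ζ = ζ⁻¹ := by
  have hnorm : ‖ζ‖ = 1 := Complex.norm_eq_one_of_pow_eq_one hζ.pow_eq_one hq.ne'
  exact (Complex.inv_eq_conj hnorm).symm

/-- `∑_{l<q} (ζ^{k'} ζ^{-k})^l = q [k' = k]` -/
theorem sum_pow_mul_inv (hq : 0 < q) (hζ : IsPrimitiveRoot ζ q) {k k' : ℕ} (hk : k < q)
    (hk' : k' < q) :
    ∑ l ∈ range q, ζ ^ (k' * l) * (ζ⁻¹) ^ (k * l) = if k' = k then (q : ℂ) else 0 := by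
  have hζ0 : ζ ≠ 0 := hζ.ne_zero hq.ne'
  have h1 : ∀ l, ζ ^ (k' * l) * (ζ⁻¹) ^ (k * l) = (ζ ^ k' * (ζ ^ k)⁻¹) ^ l := by
    intro l
    rw [mul_pow, pow_mul, inv_pow, inv_pow, pow_mul]
  rw [Finset.sum_congr rfl fun l _ => h1 l]
  have hpow : (ζ ^ k' * (ζ ^ k)⁻¹) ^ q = 1 := by
    rw [mul_pow, inv_pow, ← pow_mul, ← pow_mul, mul_comm k' q, mul_comm k q, pow_mul, pow_mul,
      hζ.pow_eq_one, one_pow, one_pow, inv_one, mul_one]
  rw [geom_root q _ hpow]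
  have hiff : ζ ^ k' * (ζ ^ k)⁻¹ = 1 ↔ k' = k := by
    rw [mul_inv_eq_one₀ (pow_ne_zero k hζ0)]
    constructor
    · intro h
      exact hζ.pow_inj hk' hk h
    · intro h; rw [h]
  by_cases h : k' = k
  · rw [if_pos h, if_pos (hiff.mpr h)]
  · rw [if_neg h, if_neg (fun h' => h (hiff.mp h'))]

/-- `∑_{l<q} (ζ^{-(k+k')})^l = q [q ∣ k + k']` -/
theorem sum_inv_pow_add (hq : 0 < q) (hζ : IsPrimitiveRoot ζ q) (k k' : ℕ) :
    ∑ l ∈ range q, (ζ⁻¹) ^ (k * l) * (ζ⁻¹) ^ (k' * l) = if q ∣ k + k' then (q : ℂ) else 0 := by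
  have h1 : ∀ l, (ζ⁻¹) ^ (k * l) * (ζ⁻¹) ^ (k' * l) = ((ζ⁻¹) ^ (k + k')) ^ l := by
    intro l
    rw [← pow_add, ← pow_mul, add_mul]
  rw [Finset.sum_congr rfl fun l _ => h1 l]
  have hpow : ((ζ⁻¹) ^ (k + k')) ^ q = 1 := by
    rw [← pow_mul, mul_comm, pow_mul, inv_pow, hζ.pow_eq_one, inv_one, one_pow]
  rw [geom_root q _ hpow]
  have hiff : (ζ⁻¹) ^ (k + k') = 1 ↔ q ∣ k + k' := by
    rw [inv_pow, inv_eq_one]
    exact hζ.pow_eq_one_iff_dvd _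
  by_cases h : q ∣ k + k'
  · rw [if_pos h, if_pos (hiff.mpr h)]
  · rw [if_neg h, if_neg (fun h' => h (hiff.mp h'))]

section inversion

variable (a : ℕ → ℂ) (v : ℕ → ℂ)

/-- Fourier inversion -/
theorem inversion (hq : 0 < q) (hζ : IsPrimitiveRoot ζ q)
    (hv : ∀ l, l < q → v l = ∑ k ∈ range q, a k * ζ ^ (k * l)) {k : ℕ} (hk : k < q) :
    ∑ l ∈ range q, v l * (ζ⁻¹) ^ (k * l) = (q : ℂ) * a k := by
  have h1 : ∀ l ∈ range q, v l * (ζ⁻¹) ^ (k * l) =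
      ∑ k' ∈ range q, a k' * (ζ ^ (k' * l) * (ζ⁻¹) ^ (k * l)) := by
    intro l hl
    rw [hv l (Finset.mem_range.mp hl), Finset.sum_mul]
    exact Finset.sum_congr rfl fun k' _ => by ring
  rw [Finset.sum_congr rfl h1, Finset.sum_comm]
  have h2 : ∀ k' ∈ range q, ∑ l ∈ range q, a k' * (ζ ^ (k' * l) * (ζ⁻¹) ^ (k * l)) =
      if k' = k then (q : ℂ) * a k else 0 := by
    intro k' hk'
    rw [← Finset.mul_sum, sum_pow_mul_inv hq hζ hk (Finset.mem_range.mp hk')]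
    split_ifs with h
    · rw [h]; ring
    · ring
  rw [Finset.sum_congr rfl h2, Finset.sum_ite_eq' (range q) k, if_pos (Finset.mem_range.mpr hk)]

/-- the punctured transform -/
noncomputable def punct (ζ : ℂ) (q : ℕ) (v : ℕ → ℂ) (k : ℕ) : ℂ :=
  ∑ l ∈ Ico 1 q, v l * (ζ⁻¹) ^ (k * l)

theorem punct_eq (hq : 0 < q) (hζ : IsPrimitiveRoot ζ q)
    (hv : ∀ l, l < q → v l = ∑ k ∈ range q, a k * ζ ^ (k * l)) {k : ℕ} (hk : k < q) :
    punct ζ q v k = (q : ℂ) * a k - v 0 := by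
  have h := inversion a v hq hζ hv hk
  rw [Finset.range_eq_Ico, Finset.sum_eq_sum_Ico_succ_bot hq] at h
  simp only [mul_zero, pow_zero, mul_one, zero_add] at h
  unfold punct
  rw [← h]; ring

/-- `η^{(q-k) l} = (η^{k l})⁻¹` for a `q`-th root of unity `η` -/
theorem pow_sub_mul {η : ℂ} (hη : η ^ q = 1) {k : ℕ} (hk : k ≤ q) (l : ℕ) :
    η ^ ((q - k) * l) = (η ^ (k * l))⁻¹ := by
  apply eq_inv_of_mul_eq_one_left
  rw [← pow_add, ← add_mul, Nat.sub_add_cancel hk, pow_mul, hη, one_pow]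

/-- `η^{k (q-l)} = (η^{k l})⁻¹` for a `q`-th root of unity `η` -/
theorem pow_mul_sub {η : ℂ} (hη : η ^ q = 1) (k : ℕ) {l : ℕ} (hl : l ≤ q) :
    η ^ (k * (q - l)) = (η ^ (k * l))⁻¹ := by
  apply eq_inv_of_mul_eq_one_left
  rw [← pow_add, ← mul_add, Nat.sub_add_cancel hl, mul_comm, pow_mul, hη, one_pow]

/-- symmetry of the coefficients -/
theorem coeff_symm (hq : 0 < q) (hζ : IsPrimitiveRoot ζ q)
    (hv : ∀ l, l < q → v l = ∑ k ∈ range q, a k * ζ ^ (k * l))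
    (hsym : ∀ l, 0 < l → l < q → v (q - l) = v l) {k : ℕ} (hk0 : 0 < k) (hk : k < q) :
    a (q - k) = a k := by
  have hη : (ζ⁻¹) ^ q = 1 := by rw [inv_pow, hζ.pow_eq_one, inv_one]
  have h1 := punct_eq a v hq hζ hv hk
  have h2 := punct_eq a v hq hζ hv (show q - k < q by omega)
  have h3 : punct ζ q v (q - k) = punct ζ q v k := by
    unfold punct
    have hrefl := Finset.sum_Ico_reflect (fun l => v l * (ζ⁻¹) ^ (k * l)) 1
      (show q ≤ q + 1 by omega)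
    rw [show q + 1 - q = 1 by omega, show q + 1 - 1 = q by omega] at hrefl
    rw [← hrefl]
    refine Finset.sum_congr rfl fun l hl => ?_
    rw [Finset.mem_Ico] at hl
    rw [hsym l (by omega) hl.2, pow_sub_mul hη hk.le, pow_mul_sub hη k hl.2.le]
  have hq0 : (q : ℂ) ≠ 0 := by exact_mod_cast hq.ne'
  have : (q : ℂ) * a (q - k) = (q : ℂ) * a k := by
    have : (q : ℂ) * a (q - k) - v 0 = (q : ℂ) * a k - v 0 := by rw [← h1, ← h2, h3]
    linear_combination this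
  exact mul_left_cancel₀ hq0 this

end inversion

section gram

variable {I : Type*} [Fintype I]

/-- the Gram function `g(k, k') = [k = k'] + [q ∣ k + k']` -/
def gg (q k k' : ℕ) : ℤ := (if k = k' then 1 else 0) + (if q ∣ k + k' then 1 else 0)

theorem sum_Ico_eq_sub (f : ℕ → ℂ) (hq : 0 < q) :
    ∑ l ∈ Ico 1 q, f l = ∑ l ∈ range q, f l - f 0 := by
  rw [Finset.range_eq_Ico, Finset.sum_eq_sum_Ico_succ_bot hq]
  ring

/-- the Gram matrix of the punctured transforms -/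
theorem punct_gram (hq : 0 < q) (hζ : IsPrimitiveRoot ζ q) (v : I → ℕ → ℂ)
    (horth : ∀ l l', 0 < l → l < q → 0 < l' → l' < q →
      ∑ χ, v χ l * (starRingEnd ℂ) (v χ l') =
        (q : ℂ) * ((if l' = l then 1 else 0) + (if l + l' = q then 1 else 0)))
    {k k' : ℕ} (hk : k < q) (hk' : k' < q) :
    ∑ χ, punct ζ q (v χ) k * (starRingEnd ℂ) (punct ζ q (v χ) k') =
      (q : ℂ) ^ 2 * (gg q k k' : ℂ) - 2 * q := by
  have hconj : ∀ χ, (starRingEnd ℂ) (punct ζ q (v χ) k') =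
      ∑ l' ∈ Ico 1 q, (starRingEnd ℂ) (v χ l') * ζ ^ (k' * l') := by
    intro χ
    unfold punct
    rw [map_sum]
    refine Finset.sum_congr rfl fun l' _ => ?_
    rw [map_mul, map_pow, map_inv₀, conj_root hq hζ, inv_inv]
  have h1 : ∀ χ, punct ζ q (v χ) k * (starRingEnd ℂ) (punct ζ q (v χ) k') =
      ∑ l ∈ Ico 1 q, ∑ l' ∈ Ico 1 q,
        (ζ⁻¹) ^ (k * l) * ζ ^ (k' * l') * (v χ l * (starRingEnd ℂ) (v χ l')) := by
    intro χ
    rw [hconj χ]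
    unfold punct
    rw [Finset.sum_mul_sum]
    exact Finset.sum_congr rfl fun l _ => Finset.sum_congr rfl fun l' _ => by ring
  rw [Finset.sum_congr rfl fun χ _ => h1 χ, Finset.sum_comm]
  have h2 : ∀ l ∈ Ico 1 q, ∑ χ, ∑ l' ∈ Ico 1 q,
      (ζ⁻¹) ^ (k * l) * ζ ^ (k' * l') * (v χ l * (starRingEnd ℂ) (v χ l')) =
      (q : ℂ) * (ζ ^ (k' * l) * (ζ⁻¹) ^ (k * l) + (ζ⁻¹) ^ (k * l) * (ζ⁻¹) ^ (k' * l)) := by
    intro l hl
    rw [Finset.mem_Ico] at hl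
    rw [Finset.sum_comm]
    have h3 : ∀ l' ∈ Ico 1 q, ∑ χ,
        (ζ⁻¹) ^ (k * l) * ζ ^ (k' * l') * (v χ l * (starRingEnd ℂ) (v χ l')) =
        ((q : ℂ) * (ζ⁻¹) ^ (k * l) * ζ ^ (k' * l')) * (if l = l' then 1 else 0) +
        ((q : ℂ) * (ζ⁻¹) ^ (k * l) * ζ ^ (k' * l')) * (if q - l = l' then 1 else 0) := by
      intro l' hl'
      rw [Finset.mem_Ico] at hl'
      rw [← Finset.mul_sum, horth l l' (by omega) hl.2 (by omega) hl'.2]
      have e1 : (if l' = l then (1 : ℂ) else 0) = if l = l' then 1 else 0 := by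
        by_cases h : l' = l
        · rw [if_pos h, if_pos h.symm]
        · rw [if_neg h, if_neg (fun h' => h h'.symm)]
      have e2 : (if l + l' = q then (1 : ℂ) else 0) = if q - l = l' then 1 else 0 := by
        by_cases h : l + l' = q
        · rw [if_pos h, if_pos (by omega)]
        · rw [if_neg h, if_neg (by omega)]
      rw [e1, e2]; ring
    rw [Finset.sum_congr rfl h3, Finset.sum_add_distrib, Finset.sum_mul_boole,
      Finset.sum_mul_boole, if_pos (Finset.mem_Ico.mpr ⟨hl.1, hl.2⟩),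
      if_pos (Finset.mem_Ico.mpr ⟨by omega, by omega⟩),
      pow_mul_sub hζ.pow_eq_one k' hl.2.le, ← inv_pow]
    ring
  rw [Finset.sum_congr rfl h2, ← Finset.mul_sum, Finset.sum_add_distrib,
    sum_Ico_eq_sub _ hq, sum_Ico_eq_sub _ hq, sum_pow_mul_inv hq hζ hk hk',
    sum_inv_pow_add hq hζ k k']
  simp only [mul_zero, pow_zero, mul_one]
  unfold gg
  have e1 : (if k' = k then (q : ℂ) else 0) = (q : ℂ) * ((if k = k' then (1 : ℤ) else 0) : ℤ) := by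
    by_cases h : k' = k
    · rw [if_pos h, if_pos h.symm]; push_cast; ring
    · rw [if_neg h, if_neg (fun h' => h h'.symm)]; push_cast; ring
  have e2 : (if q ∣ k + k' then (q : ℂ) else 0) =
      (q : ℂ) * ((if q ∣ k + k' then (1 : ℤ) else 0) : ℤ) := by
    by_cases h : q ∣ k + k'
    · rw [if_pos h, if_pos h]; push_cast; ring
    · rw [if_neg h, if_neg h]; push_cast; ring
  rw [e1, e2]
  push_cast
  ring

end gram

section diff

variable {I : Type*} [Fintype I]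

/-- the Gram matrix of the coefficient differences -/
theorem diff_gram (hq : 0 < q) (hζ : IsPrimitiveRoot ζ q) (a : I → ℕ → ℤ) (v : I → ℕ → ℂ)
    (hv : ∀ χ l, l < q → v χ l = ∑ k ∈ range q, (a χ k : ℂ) * ζ ^ (k * l))
    (horth : ∀ l l', 0 < l → l < q → 0 < l' → l' < q →
      ∑ χ, v χ l * (starRingEnd ℂ) (v χ l') =
        (q : ℂ) * ((if l' = l then 1 else 0) + (if l + l' = q then 1 else 0)))
    {k₁ k₂ k₃ k₄ : ℕ} (h₁ : k₁ < q) (h₂ : k₂ < q) (h₃ : k₃ < q) (h₄ : k₄ < q) :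
    ∑ χ, (a χ k₁ - a χ k₂) * (a χ k₃ - a χ k₄) =
      gg q k₁ k₃ - gg q k₁ k₄ - gg q k₂ k₃ + gg q k₂ k₄ := by
  have hq0 : (q : ℂ) ≠ 0 := by exact_mod_cast hq.ne'
  have hP : ∀ χ k, k < q → punct ζ q (v χ) k = (q : ℂ) * (a χ k : ℂ) - v χ 0 := by
    intro χ k hk
    exact punct_eq (fun k => (a χ k : ℂ)) (v χ) hq hζ (hv χ) hk
  have hterm : ∀ χ, (q : ℂ) ^ 2 * (((a χ k₁ - a χ k₂) * (a χ k₃ - a χ k₄) : ℤ) : ℂ) =
      punct ζ q (v χ) k₁ * (starRingEnd ℂ) (punct ζ q (v χ) k₃) -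
      punct ζ q (v χ) k₁ * (starRingEnd ℂ) (punct ζ q (v χ) k₄) -
      punct ζ q (v χ) k₂ * (starRingEnd ℂ) (punct ζ q (v χ) k₃) +
      punct ζ q (v χ) k₂ * (starRingEnd ℂ) (punct ζ q (v χ) k₄) := by
    intro χ
    have hreal : (starRingEnd ℂ) (punct ζ q (v χ) k₃ - punct ζ q (v χ) k₄) =
        (q : ℂ) * ((a χ k₃ : ℂ) - (a χ k₄ : ℂ)) := by
      rw [hP χ k₃ h₃, hP χ k₄ h₄]
      have : (q : ℂ) * (a χ k₃ : ℂ) - v χ 0 - ((q : ℂ) * (a χ k₄ : ℂ) - v χ 0) =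
          (q : ℂ) * ((a χ k₃ : ℂ) - (a χ k₄ : ℂ)) := by ring
      rw [this, map_mul, map_natCast, map_sub, map_intCast, map_intCast]
    have h12 : punct ζ q (v χ) k₁ - punct ζ q (v χ) k₂ =
        (q : ℂ) * ((a χ k₁ : ℂ) - (a χ k₂ : ℂ)) := by
      rw [hP χ k₁ h₁, hP χ k₂ h₂]; ring
    have : punct ζ q (v χ) k₁ * (starRingEnd ℂ) (punct ζ q (v χ) k₃) -
      punct ζ q (v χ) k₁ * (starRingEnd ℂ) (punct ζ q (v χ) k₄) -
      punct ζ q (v χ) k₂ * (starRingEnd ℂ) (punct ζ q (v χ) k₃) +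
      punct ζ q (v χ) k₂ * (starRingEnd ℂ) (punct ζ q (v χ) k₄) =
      (punct ζ q (v χ) k₁ - punct ζ q (v χ) k₂) *
        (starRingEnd ℂ) (punct ζ q (v χ) k₃ - punct ζ q (v χ) k₄) := by
      rw [map_sub]; ring
    rw [this, hreal, h12]
    push_cast
    ring
  have hsum : (q : ℂ) ^ 2 * ((∑ χ, (a χ k₁ - a χ k₂) * (a χ k₃ - a χ k₄) : ℤ) : ℂ) =
      (q : ℂ) ^ 2 * ((gg q k₁ k₃ - gg q k₁ k₄ - gg q k₂ k₃ + gg q k₂ k₄ : ℤ) : ℂ) := by
    rw [Int.cast_sum, Finset.mul_sum, Finset.sum_congr rfl fun χ _ => hterm χ,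
      Finset.sum_add_distrib, Finset.sum_sub_distrib, Finset.sum_sub_distrib,
      punct_gram hq hζ v horth h₁ h₃, punct_gram hq hζ v horth h₁ h₄,
      punct_gram hq hζ v horth h₂ h₃, punct_gram hq hζ v horth h₂ h₄]
    push_cast
    ring
  have := mul_left_cancel₀ (pow_ne_zero 2 hq0) hsum
  exact_mod_cast this

/-- orthogonality of the coefficient differences to a vector orthogonal to the columns -/
theorem diff_orth (hq : 0 < q) (hζ : IsPrimitiveRoot ζ q) (a : I → ℕ → ℤ) (v : I → ℕ → ℂ)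
    (hv : ∀ χ l, l < q → v χ l = ∑ k ∈ range q, (a χ k : ℂ) * ζ ^ (k * l))
    (e : I → ℂ) (he : ∀ l, 0 < l → l < q → ∑ χ, v χ l * e χ = 0)
    {k₁ k₂ : ℕ} (h₁ : k₁ < q) (h₂ : k₂ < q) :
    ∑ χ, ((a χ k₁ - a χ k₂ : ℤ) : ℂ) * e χ = 0 := by
  have hq0 : (q : ℂ) ≠ 0 := by exact_mod_cast hq.ne'
  have hP : ∀ χ k, k < q → punct ζ q (v χ) k = (q : ℂ) * (a χ k : ℂ) - v χ 0 := by
    intro χ k hk
    exact punct_eq (fun k => (a χ k : ℂ)) (v χ) hq hζ (hv χ) hk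
  have hterm : ∀ χ, (q : ℂ) * (((a χ k₁ - a χ k₂ : ℤ) : ℂ) * e χ) =
      ∑ l ∈ Ico 1 q, ((ζ⁻¹) ^ (k₁ * l) - (ζ⁻¹) ^ (k₂ * l)) * (v χ l * e χ) := by
    intro χ
    have h12 : (q : ℂ) * ((a χ k₁ - a χ k₂ : ℤ) : ℂ) =
        punct ζ q (v χ) k₁ - punct ζ q (v χ) k₂ := by
      rw [hP χ k₁ h₁, hP χ k₂ h₂]; push_cast; ring
    rw [← mul_assoc, h12]
    unfold punct
    rw [← Finset.sum_sub_distrib, Finset.sum_mul]
    exact Finset.sum_congr rfl fun l _ => by ring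
  have hsum : (q : ℂ) * ∑ χ, ((a χ k₁ - a χ k₂ : ℤ) : ℂ) * e χ = 0 := by
    rw [Finset.mul_sum, Finset.sum_congr rfl fun χ _ => hterm χ, Finset.sum_comm]
    refine Finset.sum_eq_zero fun l hl => ?_
    rw [Finset.mem_Ico] at hl
    rw [← Finset.mul_sum, he l (by omega) hl.2, mul_zero]
  rcases mul_eq_zero.mp hsum with h | h
  · exact absurd h hq0
  · exact h

/-- values away from `0` only depend on the coefficient differences -/
theorem value_of_diff (hq : 0 < q) (hζ : IsPrimitiveRoot ζ q) (a : ℕ → ℤ) (v : ℕ → ℂ)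
    (hv : ∀ l, l < q → v l = ∑ k ∈ range q, (a k : ℂ) * ζ ^ (k * l)) (m : ℤ) {l : ℕ}
    (hl0 : 0 < l) (hl : l < q) :
    v l = ∑ k ∈ range q, ((a k - m : ℤ) : ℂ) * ζ ^ (k * l) := by
  rw [hv l hl]
  have hne : ζ ^ l ≠ 1 := hζ.pow_ne_one_of_pos_of_lt hl0.ne' hl
  have hpow : (ζ ^ l) ^ q = 1 := by
    rw [← pow_mul, mul_comm, pow_mul, hζ.pow_eq_one, one_pow]
  have h0 : ∑ k ∈ range q, ζ ^ (k * l) = 0 := by
    have := geom_root q _ hpow
    rw [if_neg hne] at this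
    rw [← this]
    exact Finset.sum_congr rfl fun k _ => by rw [mul_comm, pow_mul]
  have h1 : ∀ k ∈ range q, ((a k - m : ℤ) : ℂ) * ζ ^ (k * l) =
      (a k : ℂ) * ζ ^ (k * l) - (m : ℂ) * ζ ^ (k * l) := by
    intro k _; push_cast; ring
  rw [Finset.sum_congr rfl h1, Finset.sum_sub_distrib, ← Finset.mul_sum, h0, mul_zero, sub_zero]

end diff

end Cfsg.Agent.Helper8.DihFourier
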