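import Mathlib
import Cfsg.Agent.Helper8.DihFourier
import Cfsg.Agent.Helper8.DihCore
import Cfsg.Agent.Helper24.Abelian
import Cfsg.Agent.Helper24.Linear
import Cfsg.Agent.Helper5.ThirdMain

/-!
# The principal 2-block for dihedral Sylow 2-subgroups: from the columns to the characters
-/

set_option autoImplicit false

namespace Cfsg.Agent.Helper8.DihMain

open Cfsg Cfsg.Agent.Helper24 Cfsg.Agent.Helper5 Cfsg.Agent.Helper5.CC Finset
open Cfsg.Agent.Helper8.DihFourier Cfsg.Agent.Helper8.DihVec Cfsg.Agent.Helper8.DihCore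

variable {G : Type*} [Group G] [Fintype G] [Fintype (IrrCharacter G)]

open Classical in
/-- the column of the principal block at `σ ^ l` -/
noncomputable def col (M : Ideal AlgInt) (σ : G) (χ : IrrCharacter G) (l : ℕ) : ℂ :=
  if χ ∈ principalBlock M G then (χ : G → ℂ) (σ ^ l) else 0

theorem col_of_mem {M : Ideal AlgInt} {σ : G} {χ : IrrCharacter G} (h : χ ∈ principalBlock M G)
    (l : ℕ) : col M σ χ l = (χ : G → ℂ) (σ ^ l) := by
  unfold col; rw [if_pos h]

theorem col_of_not_mem {M : Ideal AlgInt} {σ : G} {χ : IrrCharacter G}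
    (h : χ ∉ principalBlock M G) (l : ℕ) : col M σ χ l = 0 := by
  unfold col; rw [if_neg h]

/-- the data extracted from the group theory and the block theory -/
structure Data (M : Ideal AlgInt) (σ : G) (ζ : ℂ) (m hh : ℕ) (a : IrrCharacter G → ℕ → ℤ) :
    Prop where
  hprime : M.IsPrime
  hmh : m = 2 * hh
  hh2 : 2 ≤ hh
  hJ : hh - 1 = 1 ∨ 3 ≤ hh - 1
  hζ : IsPrimitiveRoot ζ m
  hv : ∀ χ l, col M σ χ l = ∑ k ∈ range m, (a χ k : ℂ) * ζ ^ (k * l)
  horth : ∀ l l', 0 < l → l < m → 0 < l' → l' < m →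
    ∑ χ, col M σ χ l * (starRingEnd ℂ) (col M σ χ l') =
      (m : ℂ) * ((if l' = l then 1 else 0) + (if l + l' = m then 1 else 0))
  hreg : ∀ ρ : G, ¬ 2 ∣ orderOf ρ → ∀ l, 0 < l → l < m →
    ∑ χ, col M σ χ l * (starRingEnd ℂ) ((χ : G → ℂ) ρ) = 0
  hsym : ∀ χ l, 0 < l → l < m → col M σ χ (m - l) = col M σ χ l
  hz : ∀ χ ∈ principalBlock M G, (χ : G → ℂ) (σ ^ hh) ≠ 0

variable {M : Ideal AlgInt} {σ : G} {ζ : ℂ} {m hh : ℕ} {a : IrrCharacter G → ℕ → ℤ}

theorem Data.hm (D : Data M σ ζ m hh a) : 0 < m := by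
  have := D.hmh; have := D.hh2; omega

/-- coefficients vanish outside the principal block -/
theorem Data.coeff_out (D : Data M σ ζ m hh a) {χ : IrrCharacter G}
    (hχ : χ ∉ principalBlock M G) {k : ℕ} (hk : k < m) : a χ k = 0 := by
  have h := inversion (fun k => (a χ k : ℂ)) (col M σ χ) D.hm D.hζ (fun l _ => D.hv χ l) hk
  simp only [col_of_not_mem hχ, zero_mul, Finset.sum_const_zero] at h
  have hm0 : (m : ℂ) ≠ 0 := by exact_mod_cast D.hm.ne'
  rcases mul_eq_zero.mp h.symm with h1 | h1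
  · exact absurd h1 hm0
  · exact_mod_cast h1

/-- coefficients of the trivial character -/
theorem Data.coeff_triv (D : Data M σ ζ m hh a) {k : ℕ} (hk : k < m) :
    a (trivIrr G) k = if k = 0 then 1 else 0 := by
  have h := inversion (fun k => (a (trivIrr G) k : ℂ)) (col M σ (trivIrr G)) D.hm D.hζ
    (fun l _ => D.hv (trivIrr G) l) hk
  have h1 : ∀ l, col M σ (trivIrr G) l = 1 := by
    intro l
    rw [col_of_mem (trivIrr_mem_principalBlock D.hprime)]
    rfl
  have h2 := sum_inv_pow_add D.hm D.hζ k 0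
  simp only [zero_mul, pow_zero, mul_one, add_zero] at h2
  simp only [h1, one_mul] at h
  rw [h2] at h
  have hm0 : (m : ℂ) ≠ 0 := by exact_mod_cast D.hm.ne'
  by_cases hk0 : k = 0
  · rw [if_pos hk0]
    rw [if_pos (by rw [hk0]; exact dvd_zero m)] at h
    have : (m : ℂ) * 1 = (m : ℂ) * (a (trivIrr G) k : ℂ) := by rw [mul_one]; exact h
    have := mul_left_cancel₀ hm0 this
    exact_mod_cast this.symm
  · rw [if_neg hk0]
    rw [if_neg (Nat.not_dvd_of_pos_of_lt (Nat.pos_of_ne_zero hk0) hk)] at h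
    rcases mul_eq_zero.mp h.symm with h3 | h3
    · exact absurd h3 hm0
    · exact_mod_cast h3

/-- symmetry of the coefficients -/
theorem Data.coeff_symm (D : Data M σ ζ m hh a) (χ : IrrCharacter G) {k : ℕ} (hk0 : 0 < k)
    (hk : k < m) : a χ (m - k) = a χ k := by
  have := DihFourier.coeff_symm (fun k => (a χ k : ℂ)) (col M σ χ) D.hm D.hζ
    (fun l _ => D.hv χ l) (D.hsym χ) hk0 hk
  exact_mod_cast this

/-- the Gram matrix of coefficient differences -/
theorem Data.gram (D : Data M σ ζ m hh a) {k₁ k₂ k₃ k₄ : ℕ} (h₁ : k₁ < m) (h₂ : k₂ < m)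
    (h₃ : k₃ < m) (h₄ : k₄ < m) :
    ∑ χ, (a χ k₁ - a χ k₂) * (a χ k₃ - a χ k₄) =
      gg m k₁ k₃ - gg m k₁ k₄ - gg m k₂ k₃ + gg m k₂ k₄ :=
  diff_gram D.hm D.hζ a (col M σ) (fun χ l _ => D.hv χ l) D.horth h₁ h₂ h₃ h₄

/-- orthogonality of coefficient differences to the values at a 2-regular element -/
theorem Data.orth (D : Data M σ ζ m hh a) (ρ : G) (hρ : ¬ 2 ∣ orderOf ρ) {k₁ k₂ : ℕ}
    (h₁ : k₁ < m) (h₂ : k₂ < m) :
    ∑ χ : IrrCharacter G, ((a χ k₁ - a χ k₂ : ℤ) : ℂ) * (χ : G → ℂ) ρ = 0 := by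
  have h := diff_orth D.hm D.hζ a (col M σ) (fun χ l _ => D.hv χ l)
    (fun χ => (starRingEnd ℂ) ((χ : G → ℂ) ρ)) (D.hreg ρ hρ) h₁ h₂
  have h2 := congrArg (starRingEnd ℂ) h
  rw [map_sum, map_zero] at h2
  rw [← h2]
  refine Finset.sum_congr rfl fun χ _ => ?_
  rw [map_mul, Complex.conj_conj, map_intCast]

/-- values from coefficient differences -/
theorem Data.value (D : Data M σ ζ m hh a) {χ : IrrCharacter G} (hχ : χ ∈ principalBlock M G)
    {l : ℕ} (hl0 : 0 < l) (hl : l < m) :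
    (χ : G → ℂ) (σ ^ l) = ∑ k ∈ range m, ((a χ k - a χ 0 : ℤ) : ℂ) * ζ ^ (k * l) := by
  rw [← col_of_mem hχ]
  exact value_of_diff D.hm D.hζ (a χ) (col M σ χ) (fun l _ => D.hv χ l) (a χ 0) hl0 hl

/-! ### Evaluation of the Gram function -/

theorem gg_zero_zero (m : ℕ) : gg m 0 0 = 2 := by
  unfold gg; simp

theorem gg_zero_pos {m x : ℕ} (h0 : 0 < x) (hx : x < m) : gg m 0 x = 0 := by
  unfold gg
  rw [if_neg (by omega), zero_add, Nat.zero_add, if_neg (Nat.not_dvd_of_pos_of_lt h0 hx)]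

theorem gg_pos_zero {m x : ℕ} (h0 : 0 < x) (hx : x < m) : gg m x 0 = 0 := by
  unfold gg
  rw [if_neg (by omega), Nat.add_zero, if_neg (Nat.not_dvd_of_pos_of_lt h0 hx)]
  simp

theorem gg_half_half {m hh : ℕ} (hmh : m = 2 * hh) : gg m hh hh = 2 := by
  unfold gg
  rw [if_pos rfl, if_pos ⟨1, by omega⟩]
  norm_num

theorem gg_ne {m x y : ℕ} (hxy : x ≠ y) (h0 : 0 < x + y) (hlt : x + y < m) : gg m x y = 0 := by
  unfold gg
  rw [if_neg hxy, if_neg (Nat.not_dvd_of_pos_of_lt h0 hlt)]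
  simp

theorem gg_small {m x y : ℕ} (h0 : 0 < x + y) (hlt : x + y < m) :
    gg m x y = if x = y then 1 else 0 := by
  unfold gg
  rw [if_neg (Nat.not_dvd_of_pos_of_lt h0 hlt), add_zero]

/-! ### The two families of integer vectors -/

/-- `c j χ = a χ 0 - a χ (j + 1)` -/
def cc (a : IrrCharacter G → ℕ → ℤ) {hh : ℕ} (j : Fin (hh - 1)) (χ : IrrCharacter G) : ℤ :=
  a χ 0 - a χ ((j : ℕ) + 1)

/-- `c' j χ = a χ hh - a χ (j + 1)` -/
def cc' (a : IrrCharacter G → ℕ → ℤ) (hh : ℕ) (j : Fin (hh - 1)) (χ : IrrCharacter G) : ℤ :=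
  a χ hh - a χ ((j : ℕ) + 1)

theorem Data.hyp (D : Data M σ ζ m hh a) :
    DihCore.Hyp (cc a (hh := hh)) (cc' a hh) (fun χ => (irrDeg χ : ℤ)) (trivIrr G) := by
  have hm := D.hm
  have hmh := D.hmh
  have hh2 := D.hh2
  have hidx : ∀ j : Fin (hh - 1), 0 < (j : ℕ) + 1 ∧ (j : ℕ) + 1 < hh := fun j => ⟨by omega, by omega⟩
  have hdeg1 : irrDeg (trivIrr G) = 1 := by
    have h1 := irrDeg_spec (trivIrr G)
    have h2 : ((trivIrr G : IrrCharacter G) : G → ℂ) 1 = 1 := rfl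
    rw [h2] at h1
    exact_mod_cast h1.symm
  have horth1 : ∀ {k₁ k₂ : ℕ}, k₁ < m → k₂ < m →
      ∑ χ : IrrCharacter G, (a χ k₁ - a χ k₂) * (irrDeg χ : ℤ) = 0 := by
    intro k₁ k₂ h₁ h₂
    have := D.orth 1 (by rw [orderOf_one]; norm_num) h₁ h₂
    have h3 : ∀ χ : IrrCharacter G, ((a χ k₁ - a χ k₂ : ℤ) : ℂ) * (χ : G → ℂ) 1 =
        (((a χ k₁ - a χ k₂) * (irrDeg χ : ℤ) : ℤ) : ℂ) := by
      intro χ
      rw [irrDeg_spec]; push_cast; ring
    rw [Finset.sum_congr rfl fun χ _ => h3 χ, ← Int.cast_sum] at this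
    exact_mod_cast this
  refine ⟨fun χ => by exact_mod_cast irrDeg_pos χ, by rw [hdeg1]; rfl, ?_, ?_, ?_, ?_, ?_, ?_, ?_⟩
  · intro j j'
    obtain ⟨h1, h2⟩ := hidx j
    obtain ⟨h1', h2'⟩ := hidx j'
    unfold cc
    rw [D.gram hm (by omega) hm (by omega), gg_zero_zero, gg_zero_pos h1' (by omega),
      gg_pos_zero h1 (by omega), gg_small (by omega) (by omega)]
    by_cases hjj : j = j'
    · rw [if_pos hjj, if_pos (by rw [hjj])]; ring
    · rw [if_neg hjj, if_neg (fun h => hjj (Fin.ext (by omega)))]; ring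
  · intro j j'
    obtain ⟨h1, h2⟩ := hidx j
    obtain ⟨h1', h2'⟩ := hidx j'
    unfold cc'
    rw [D.gram (by omega) (by omega) (by omega) (by omega), gg_half_half hmh,
      gg_ne (by omega) (by omega) (by omega), gg_ne (by omega) (by omega) (by omega),
      gg_small (by omega) (by omega)]
    by_cases hjj : j = j'
    · rw [if_pos hjj, if_pos (by rw [hjj])]; ring
    · rw [if_neg hjj, if_neg (fun h => hjj (Fin.ext (by omega)))]; ring
  · intro j j'
    obtain ⟨h1, h2⟩ := hidx j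
    obtain ⟨h1', h2'⟩ := hidx j'
    unfold cc cc'
    rw [D.gram hm (by omega) (by omega) (by omega), gg_zero_pos (by omega) (by omega),
      gg_zero_pos h1' (by omega), gg_ne (by omega) (by omega) (by omega),
      gg_small (by omega) (by omega)]
    by_cases hjj : j = j'
    · rw [if_pos hjj, if_pos (by rw [hjj])]; ring
    · rw [if_neg hjj, if_neg (fun h => hjj (Fin.ext (by omega)))]; ring
  · intro j
    obtain ⟨h1, h2⟩ := hidx j
    unfold cc
    rw [D.coeff_triv hm, D.coeff_triv (by omega : (j : ℕ) + 1 < m), if_pos rfl, if_neg (by omega)]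
    ring
  · intro j
    obtain ⟨h1, h2⟩ := hidx j
    unfold cc'
    rw [D.coeff_triv (by omega : hh < m), D.coeff_triv (by omega : (j : ℕ) + 1 < m),
      if_neg (by omega), if_neg (by omega)]
    ring
  · intro j
    obtain ⟨h1, h2⟩ := hidx j
    exact horth1 hm (by omega)
  · intro j
    obtain ⟨h1, h2⟩ := hidx j
    exact horth1 (by omega) (by omega)

/-- the profile of the coefficients of a character -/
theorem Data.profile (D : Data M σ ζ m hh a) (χ : IrrCharacter G) (F : ℕ → ℤ)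
    (h1 : ∀ j : Fin (hh - 1), cc a j χ = - F ((j : ℕ) + 1))
    (h2 : ∀ j : Fin (hh - 1), cc' a hh j χ - cc a j χ = F hh) (h3 : F 0 = 0)
    (h4 : ∀ k, hh < k → k < m → F k = F (m - k)) {k : ℕ} (hk : k < m) :
    a χ k - a χ 0 = F k := by
  have hm := D.hm
  have hmh := D.hmh
  have hh2 := D.hh2
  have hsmall : ∀ k, 0 < k → k < hh → a χ k - a χ 0 = F k := by
    intro k hk0 hkh
    have := h1 ⟨k - 1, by omega⟩
    unfold cc at this
    simp only at this
    rw [Nat.sub_add_cancel hk0] at this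
    linarith
  rcases Nat.eq_zero_or_pos k with hk0 | hk0
  · rw [hk0, h3]; ring
  rcases Nat.lt_or_ge k hh with hkh | hkh
  · exact hsmall k hk0 hkh
  rcases Nat.eq_or_lt_of_le hkh with hkh' | hkh'
  · rw [← hkh']
    have := h2 ⟨0, by omega⟩
    unfold cc cc' at this
    linarith
  · rw [h4 k hkh' hk, ← hsmall (m - k) (by omega) (by omega)]
    have := D.coeff_symm χ (k := m - k) (by omega) (by omega)
    rw [show m - (m - k) = k by omega] at this
    rw [this]

/-! ### Evaluation lemmas -/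

omit [Fintype G] [Fintype (IrrCharacter G)] in
theorem sum_pow_eq_zero (hm : 0 < m) (hζ : IsPrimitiveRoot ζ m) {l : ℕ} (hl0 : 0 < l)
    (hl : l < m) : ∑ k ∈ range m, ζ ^ (k * l) = 0 := by
  have hne : ζ ^ l ≠ 1 := hζ.pow_ne_one_of_pos_of_lt hl0.ne' hl
  have hpow : (ζ ^ l) ^ m = 1 := by
    rw [← pow_mul, mul_comm, pow_mul, hζ.pow_eq_one, one_pow]
  have := Cfsg.Agent.Helper8.CycFourier.geom_root m _ hpow
  rw [if_neg hne] at this
  rw [← this]
  exact Finset.sum_congr rfl fun k _ => by rw [mul_comm, pow_mul]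

omit [Fintype G] [Fintype (IrrCharacter G)] in
theorem sum_ite_mul {k₀ : ℕ} (hk₀ : k₀ < m) (s : ℤ) (g : ℕ → ℂ) :
    ∑ k ∈ range m, (((if k = k₀ then s else 0 : ℤ)) : ℂ) * g k = (s : ℂ) * g k₀ := by
  rw [Finset.sum_eq_single k₀]
  · rw [if_pos rfl]
  · intro k _ hk
    rw [if_neg hk]; simp
  · intro h
    exact absurd (Finset.mem_range.mpr hk₀) h

theorem sum_ind_mul_complex {I : Type*} [Fintype I] [DecidableEq I] (x : I) (s : ℤ)
    (w : I → ℂ) : ∑ χ, ((ind x s χ : ℤ) : ℂ) * w χ = (s : ℂ) * w x := by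
  rw [Finset.sum_eq_single x]
  · rw [ind_self]
  · intro χ _ hχ
    rw [ind_ne _ hχ]; simp
  · intro h
    exact absurd (Finset.mem_univ x) h

omit [Fintype G] [Fintype (IrrCharacter G)] in
theorem pow_half (hζ : IsPrimitiveRoot ζ m) (hmh : m = 2 * hh) (hh0 : 0 < hh) :
    ζ ^ hh = -1 := by
  have h2 : IsPrimitiveRoot (ζ ^ hh) 2 := hζ.pow (by omega) (by rw [hmh]; ring)
  exact h2.eq_neg_one_of_two_right

end Cfsg.Agent.Helper8.DihMain
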