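import Mathlib
import Cfsg.Agent.Helper8.DihMain

/-!
# The principal 2-block for dihedral Sylow 2-subgroups: the main theorem from the data
-/

set_option autoImplicit false

namespace Cfsg.Agent.Helper8.DihMain

open Cfsg Cfsg.Agent.Helper24 Cfsg.Agent.Helper5 Cfsg.Agent.Helper5.CC Finset
open Cfsg.Agent.Helper8.DihFourier Cfsg.Agent.Helper8.DihVec Cfsg.Agent.Helper8.DihCore

variable {G : Type*} [Group G] [Fintype G] [Fintype (IrrCharacter G)]
variable {M : Ideal AlgInt} {σ : G} {ζ : ℂ} {m hh : ℕ} {a : IrrCharacter G → ℕ → ℤ}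

/-- the explicit description of the two families of vectors -/
structure Core (a : IrrCharacter G → ℕ → ℤ) (hh : ℕ) (χ₁ χ₂ χ₃ : IrrCharacter G)
    (f : Fin (hh - 1) → IrrCharacter G) (δ₁ sa sb : ℤ) : Prop where
  hδ₁ : δ₁ = 1 ∨ δ₁ = -1
  hsa : sa = 1 ∨ sa = -1
  hsb : sb = 1 ∨ sb = -1
  h10 : χ₁ ≠ trivIrr G
  h20 : χ₂ ≠ trivIrr G
  h30 : χ₃ ≠ trivIrr G
  h12 : χ₁ ≠ χ₂
  h13 : χ₁ ≠ χ₃
  h23 : χ₂ ≠ χ₃
  hf : ∀ j, f j ≠ trivIrr G ∧ f j ≠ χ₁ ∧ f j ≠ χ₂ ∧ f j ≠ χ₃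
  hinj : Function.Injective f
  hc : ∀ j χ, cc a j χ = ind (trivIrr G) 1 χ + ind χ₁ δ₁ χ - ind (f j) δ₁ χ
  hc' : ∀ j χ, cc' a hh j χ = - ind (f j) δ₁ χ + ind χ₂ sa χ + ind χ₃ sb χ

theorem Data.exists_core (D : Data M σ ζ m hh a) :
    ∃ χ₁ χ₂ χ₃ f δ₁ sa sb, Core a hh χ₁ χ₂ χ₃ f δ₁ sa sb := by
  classical
  have hJ' : Fintype.card (Fin (hh - 1)) = 1 ∨ 3 ≤ Fintype.card (Fin (hh - 1)) := by
    rw [Fintype.card_fin]; exact D.hJ
  obtain ⟨χ₁, χ₂, χ₃, f, δ₁, sa, sb, hδ₁, hsa, hsb, h10, h20, h30, h12, h13, h23, hf, hinj, hc,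
    hc'⟩ := D.hyp.concl hJ'
  exact ⟨χ₁, χ₂, χ₃, f, δ₁, sa, sb, hδ₁, hsa, hsb, h10, h20, h30, h12, h13, h23, hf, hinj, hc, hc'⟩

variable {χ₁ χ₂ χ₃ : IrrCharacter G} {f : Fin (hh - 1) → IrrCharacter G} {δ₁ sa sb : ℤ}

section

variable (D : Data M σ ζ m hh a) (C : Core a hh χ₁ χ₂ χ₃ f δ₁ sa sb)

include D C

theorem Core.cc_one (j : Fin (hh - 1)) : cc a j χ₁ = δ₁ := by
  classical
  rw [C.hc j χ₁, ind_ne _ C.h10, ind_self, ind_ne _ (C.hf j).2.1.symm]; ring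

theorem Core.cc'_one (j : Fin (hh - 1)) : cc' a hh j χ₁ = 0 := by
  classical
  rw [C.hc' j χ₁, ind_ne _ (C.hf j).2.1.symm, ind_ne _ C.h12, ind_ne _ C.h13]; ring

theorem Core.cc_two (j : Fin (hh - 1)) : cc a j χ₂ = 0 := by
  classical
  rw [C.hc j χ₂, ind_ne _ C.h20, ind_ne _ C.h12.symm, ind_ne _ (C.hf j).2.2.1.symm]; ring

theorem Core.cc'_two (j : Fin (hh - 1)) : cc' a hh j χ₂ = sa := by
  classical
  rw [C.hc' j χ₂, ind_ne _ (C.hf j).2.2.1.symm, ind_self, ind_ne _ C.h23]; ring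

theorem Core.cc_three (j : Fin (hh - 1)) : cc a j χ₃ = 0 := by
  classical
  rw [C.hc j χ₃, ind_ne _ C.h30, ind_ne _ C.h13.symm, ind_ne _ (C.hf j).2.2.2.symm]; ring

theorem Core.cc'_three (j : Fin (hh - 1)) : cc' a hh j χ₃ = sb := by
  classical
  rw [C.hc' j χ₃, ind_ne _ (C.hf j).2.2.2.symm, ind_ne _ C.h23.symm, ind_self]; ring

theorem Core.cc_f (j i : Fin (hh - 1)) : cc a j (f i) = if i = j then -δ₁ else 0 := by
  classical
  rw [C.hc j (f i), ind_ne _ (C.hf i).1, ind_ne _ (C.hf i).2.1]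
  by_cases hij : i = j
  · rw [if_pos hij, hij, ind_self]; ring
  · rw [if_neg hij, ind_ne _ (fun h => hij (C.hinj h))]; ring

theorem Core.cc'_f (j i : Fin (hh - 1)) : cc' a hh j (f i) = if i = j then -δ₁ else 0 := by
  classical
  rw [C.hc' j (f i), ind_ne _ (C.hf i).2.2.1, ind_ne _ (C.hf i).2.2.2]
  by_cases hij : i = j
  · rw [if_pos hij, hij, ind_self]; ring
  · rw [if_neg hij, ind_ne _ (fun h => hij (C.hinj h))]; ring

theorem Core.cc_other {χ : IrrCharacter G} (h0 : χ ≠ trivIrr G) (h1 : χ ≠ χ₁)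
    (hfχ : ∀ j, χ ≠ f j) (j : Fin (hh - 1)) : cc a j χ = 0 := by
  classical
  rw [C.hc j χ, ind_ne _ h0, ind_ne _ h1, ind_ne _ (hfχ j)]; ring

theorem Core.cc'_other {χ : IrrCharacter G} (h2 : χ ≠ χ₂) (h3 : χ ≠ χ₃)
    (hfχ : ∀ j, χ ≠ f j) (j : Fin (hh - 1)) : cc' a hh j χ = 0 := by
  classical
  rw [C.hc' j χ, ind_ne _ h2, ind_ne _ h3, ind_ne _ (hfχ j)]; ring

/-- membership in the principal block from a nonzero entry -/
theorem Core.mem_of_cc {χ : IrrCharacter G} (j : Fin (hh - 1)) (h : cc a j χ ≠ 0) :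
    χ ∈ principalBlock M G := by
  by_contra hχ
  apply h
  have hm := D.hm
  have hmh := D.hmh
  unfold cc
  rw [D.coeff_out hχ hm, D.coeff_out hχ (by omega : (j : ℕ) + 1 < m)]; ring

theorem Core.mem_of_cc' {χ : IrrCharacter G} (j : Fin (hh - 1)) (h : cc' a hh j χ ≠ 0) :
    χ ∈ principalBlock M G := by
  by_contra hχ
  apply h
  have hm := D.hm
  have hmh := D.hmh
  have hh2 := D.hh2
  unfold cc'
  rw [D.coeff_out hχ (by omega : hh < m), D.coeff_out hχ (by omega : (j : ℕ) + 1 < m)]; ring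

theorem Core.j₀ : Nonempty (Fin (hh - 1)) := by
  have hh2 := D.hh2
  exact ⟨⟨0, by omega⟩⟩

theorem Core.mem_one : χ₁ ∈ principalBlock M G := by
  obtain ⟨j⟩ := C.j₀ D
  refine C.mem_of_cc D j ?_
  rw [C.cc_one D j]
  rcases C.hδ₁ with h | h <;> rw [h] <;> norm_num

theorem Core.mem_two : χ₂ ∈ principalBlock M G := by
  obtain ⟨j⟩ := C.j₀ D
  refine C.mem_of_cc' D j ?_
  rw [C.cc'_two D j]
  rcases C.hsa with h | h <;> rw [h] <;> norm_num

theorem Core.mem_three : χ₃ ∈ principalBlock M G := by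
  obtain ⟨j⟩ := C.j₀ D
  refine C.mem_of_cc' D j ?_
  rw [C.cc'_three D j]
  rcases C.hsb with h | h <;> rw [h] <;> norm_num

theorem Core.mem_f (i : Fin (hh - 1)) : f i ∈ principalBlock M G := by
  refine C.mem_of_cc D i ?_
  rw [C.cc_f D i i, if_pos rfl]
  rcases C.hδ₁ with h | h <;> rw [h] <;> norm_num

/-- the values of `χ₁` -/
theorem Core.value_one {l : ℕ} (hl0 : 0 < l) (hl : l < m) : (χ₁ : G → ℂ) (σ ^ l) = δ₁ := by
  have hm := D.hm
  have hprof : ∀ k, k < m → a χ₁ k - a χ₁ 0 = -δ₁ + if k = 0 then δ₁ else 0 := by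
    intro k hk
    refine D.profile χ₁ (fun k => -δ₁ + if k = 0 then δ₁ else 0) ?_ ?_ ?_ ?_ hk
    · intro j
      rw [C.cc_one D j]
      rw [if_neg (by omega)]; ring
    · intro j
      have hh2 := D.hh2
      rw [C.cc_one D j, C.cc'_one D j]
      rw [if_neg (by omega)]; ring
    · simp
    · intro k hk1 hk2
      rw [if_neg (by omega), if_neg (by omega)]
  rw [D.value (C.mem_one D) hl0 hl]
  have h1 : ∀ k ∈ range m, ((a χ₁ k - a χ₁ 0 : ℤ) : ℂ) * ζ ^ (k * l) =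
      -(δ₁ : ℂ) * ζ ^ (k * l) + (((if k = 0 then δ₁ else 0 : ℤ)) : ℂ) * ζ ^ (k * l) := by
    intro k hk
    rw [hprof k (Finset.mem_range.mp hk)]
    push_cast
    ring
  rw [Finset.sum_congr rfl h1, Finset.sum_add_distrib, ← Finset.mul_sum,
    sum_pow_eq_zero hm D.hζ hl0 hl, sum_ite_mul hm]
  simp

/-- the values of `χ₂` and `χ₃` -/
theorem Core.value_two_aux {χ : IrrCharacter G} {s : ℤ} (hχ : χ ∈ principalBlock M G)
    (h1 : ∀ j : Fin (hh - 1), cc a j χ = 0) (h2 : ∀ j : Fin (hh - 1), cc' a hh j χ = s)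
    {l : ℕ} (hl0 : 0 < l) (hl : l < m) :
    (χ : G → ℂ) (σ ^ l) = ((-s : ℤ) : ℂ) * (-1) ^ (l + 1) := by
  have hm := D.hm
  have hmh := D.hmh
  have hh2 := D.hh2
  have hprof : ∀ k, k < m → a χ k - a χ 0 = if k = hh then s else 0 := by
    intro k hk
    refine D.profile χ (fun k => if k = hh then s else 0) ?_ ?_ ?_ ?_ hk
    · intro j
      rw [h1 j]
      rw [if_neg (by omega)]; ring
    · intro j
      rw [h1 j, h2 j]
      simp
    · rw [if_neg (by omega)]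
    · intro k hk1 hk2
      rw [if_neg (by omega), if_neg (by omega)]
  rw [D.value hχ hl0 hl]
  have h3 : ∀ k ∈ range m, ((a χ k - a χ 0 : ℤ) : ℂ) * ζ ^ (k * l) =
      (((if k = hh then s else 0 : ℤ)) : ℂ) * ζ ^ (k * l) := by
    intro k hk
    rw [hprof k (Finset.mem_range.mp hk)]
  rw [Finset.sum_congr rfl h3, sum_ite_mul (by omega : hh < m), pow_mul,
    pow_half D.hζ hmh (by omega), pow_succ]
  push_cast
  ring

theorem Core.value_two {l : ℕ} (hl0 : 0 < l) (hl : l < m) :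
    (χ₂ : G → ℂ) (σ ^ l) = ((-sa : ℤ) : ℂ) * (-1) ^ (l + 1) :=
  C.value_two_aux D (C.mem_two D) (C.cc_two D) (C.cc'_two D) hl0 hl

theorem Core.value_three {l : ℕ} (hl0 : 0 < l) (hl : l < m) :
    (χ₃ : G → ℂ) (σ ^ l) = ((-sb : ℤ) : ℂ) * (-1) ^ (l + 1) :=
  C.value_two_aux D (C.mem_three D) (C.cc_three D) (C.cc'_three D) hl0 hl

/-- the values of `f i` -/
theorem Core.value_f (i : Fin (hh - 1)) {l : ℕ} (hl0 : 0 < l) (hl : l < m) :
    (f i : G → ℂ) (σ ^ l) =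
      δ₁ * (ζ ^ (((i : ℕ) + 1) * l) + (ζ ^ (((i : ℕ) + 1) * l))⁻¹) := by
  have hm := D.hm
  have hmh := D.hmh
  have hh2 := D.hh2
  have hi : (i : ℕ) + 1 < hh := by omega
  have hprof : ∀ k, k < m → a (f i) k - a (f i) 0 =
      (if k = (i : ℕ) + 1 then δ₁ else 0) + (if k = m - ((i : ℕ) + 1) then δ₁ else 0) := by
    intro k hk
    refine D.profile (f i) (fun k => (if k = (i : ℕ) + 1 then δ₁ else 0) +
      (if k = m - ((i : ℕ) + 1) then δ₁ else 0)) ?_ ?_ ?_ ?_ hk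
    · intro j
      rw [C.cc_f D j i]
      rw [if_neg (by omega : ¬ (j : ℕ) + 1 = m - ((i : ℕ) + 1))]
      by_cases hij : i = j
      · rw [if_pos hij, if_pos (by rw [hij])]; ring
      · rw [if_neg hij, if_neg (fun h => hij (Fin.ext (by omega)))]; ring
    · intro j
      rw [C.cc_f D j i, C.cc'_f D j i]
      rw [if_neg (by omega : ¬ hh = (i : ℕ) + 1), if_neg (by omega : ¬ hh = m - ((i : ℕ) + 1))]
      ring
    · rw [if_neg (by omega), if_neg (by omega)]; ring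
    · intro k hk1 hk2
      rw [if_neg (by omega : ¬ k = (i : ℕ) + 1),
        if_neg (by omega : ¬ m - k = m - ((i : ℕ) + 1))]
      by_cases hk3 : k = m - ((i : ℕ) + 1)
      · rw [if_pos hk3, if_pos (by omega)]; ring
      · rw [if_neg hk3, if_neg (by omega)]
  rw [D.value (C.mem_f D i) hl0 hl]
  have h3 : ∀ k ∈ range m, ((a (f i) k - a (f i) 0 : ℤ) : ℂ) * ζ ^ (k * l) =
      (((if k = (i : ℕ) + 1 then δ₁ else 0 : ℤ)) : ℂ) * ζ ^ (k * l) +
      (((if k = m - ((i : ℕ) + 1) then δ₁ else 0 : ℤ)) : ℂ) * ζ ^ (k * l) := by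
    intro k hk
    rw [hprof k (Finset.mem_range.mp hk)]
    push_cast
    ring
  rw [Finset.sum_congr rfl h3, Finset.sum_add_distrib, sum_ite_mul (by omega : (i : ℕ) + 1 < m),
    sum_ite_mul (by omega : m - ((i : ℕ) + 1) < m),
    pow_sub_mul D.hζ.pow_eq_one (by omega : (i : ℕ) + 1 ≤ m)]
  ring

/-- other characters of the principal block vanish on the nontrivial powers of `σ` -/
theorem Core.value_other {χ : IrrCharacter G} (hχ : χ ∈ principalBlock M G)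
    (h1 : ∀ j : Fin (hh - 1), cc a j χ = 0) (h2 : ∀ j : Fin (hh - 1), cc' a hh j χ = 0)
    {l : ℕ} (hl0 : 0 < l) (hl : l < m) : (χ : G → ℂ) (σ ^ l) = 0 := by
  have := C.value_two_aux D hχ h1 h2 hl0 hl
  rw [this]
  simp

end

end Cfsg.Agent.Helper8.DihMain
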