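import Mathlib
import Cfsg.Agent.Helper8.DihMain2

/-!
# The principal 2-block for dihedral Sylow 2-subgroups: assembling the statement
-/

set_option autoImplicit false

namespace Cfsg.Agent.Helper8.DihMain

open Cfsg Cfsg.Agent.Helper24 Cfsg.Agent.Helper5 Cfsg.Agent.Helper5.CC Finset
open Cfsg.Agent.Helper8.DihFourier Cfsg.Agent.Helper8.DihVec Cfsg.Agent.Helper8.DihCore

variable {G : Type*} [Group G] [Fintype G] [Fintype (IrrCharacter G)]
variable {M : Ideal AlgInt} {σ : G} {ζ : ℂ} {m hh : ℕ} {a : IrrCharacter G → ℕ → ℤ}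
variable {χ₁ χ₂ χ₃ : IrrCharacter G} {f : Fin (hh - 1) → IrrCharacter G} {δ₁ sa sb : ℤ}

section

variable (D : Data M σ ζ m hh a) (C : Core a hh χ₁ χ₂ χ₃ f δ₁ sa sb)

include D C

/-- the principal block is exactly the list -/
theorem Core.mem_iff (χ : IrrCharacter G) :
    χ ∈ principalBlock M G ↔
      (χ = trivIrr G ∨ χ = χ₁ ∨ χ = χ₂ ∨ χ = χ₃ ∨ ∃ j, χ = f j) := by
  constructor
  · intro hχ
    by_contra hcon
    push Not at hcon
    obtain ⟨h0, h1, h2, h3, hfχ⟩ := hcon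
    have hm := D.hm
    have hmh := D.hmh
    have hh2 := D.hh2
    have := C.value_other D hχ (C.cc_other D h0 h1 hfχ) (C.cc'_other D h2 h3 hfχ)
      (by omega : 0 < hh) (by omega : hh < m)
    exact D.hz χ hχ this
  · rintro (h | h | h | h | ⟨j, h⟩)
    · rw [h]; exact trivIrr_mem_principalBlock D.hprime
    · rw [h]; exact C.mem_one D
    · rw [h]; exact C.mem_two D
    · rw [h]; exact C.mem_three D
    · rw [h]; exact C.mem_f D j

/-- the number of characters in the principal block -/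
theorem Core.card_eq : Nat.card (principalBlock M G) = 3 + hh := by
  classical
  have hh2 := D.hh2
  set F : Finset (IrrCharacter G) :=
    insert (trivIrr G) (insert χ₁ (insert χ₂ (insert χ₃ (Finset.univ.image f)))) with hF
  have hset : principalBlock M G = ↑F := by
    ext χ
    rw [C.mem_iff D χ, hF]
    simp only [Finset.coe_insert, Finset.coe_image, Finset.coe_univ, Set.image_univ,
      Set.mem_insert_iff, Set.mem_range]
    constructor
    · rintro (h | h | h | h | ⟨j, h⟩)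
      · exact Or.inl h
      · exact Or.inr (Or.inl h)
      · exact Or.inr (Or.inr (Or.inl h))
      · exact Or.inr (Or.inr (Or.inr (Or.inl h)))
      · exact Or.inr (Or.inr (Or.inr (Or.inr ⟨j, h.symm⟩)))
    · rintro (h | h | h | h | ⟨j, h⟩)
      · exact Or.inl h
      · exact Or.inr (Or.inl h)
      · exact Or.inr (Or.inr (Or.inl h))
      · exact Or.inr (Or.inr (Or.inr (Or.inl h)))
      · exact Or.inr (Or.inr (Or.inr (Or.inr ⟨j, h.symm⟩)))
  have hcardF : F.card = 3 + hh := by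
    have h4 : (Finset.univ.image f).card = hh - 1 := by
      rw [Finset.card_image_of_injective _ C.hinj, Finset.card_univ, Fintype.card_fin]
    have h3 : χ₃ ∉ Finset.univ.image f := by
      intro h
      obtain ⟨j, -, hj⟩ := Finset.mem_image.mp h
      exact (C.hf j).2.2.2 hj
    have h2 : χ₂ ∉ insert χ₃ (Finset.univ.image f) := by
      intro h
      rcases Finset.mem_insert.mp h with h | h
      · exact C.h23 h
      · obtain ⟨j, -, hj⟩ := Finset.mem_image.mp h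
        exact (C.hf j).2.2.1 hj
    have h1 : χ₁ ∉ insert χ₂ (insert χ₃ (Finset.univ.image f)) := by
      intro h
      rcases Finset.mem_insert.mp h with h | h
      · exact C.h12 h
      rcases Finset.mem_insert.mp h with h | h
      · exact C.h13 h
      · obtain ⟨j, -, hj⟩ := Finset.mem_image.mp h
        exact (C.hf j).2.1 hj
    have h0 : trivIrr G ∉ insert χ₁ (insert χ₂ (insert χ₃ (Finset.univ.image f))) := by
      intro h
      rcases Finset.mem_insert.mp h with h | h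
      · exact C.h10 h.symm
      rcases Finset.mem_insert.mp h with h | h
      · exact C.h20 h.symm
      rcases Finset.mem_insert.mp h with h | h
      · exact C.h30 h.symm
      · obtain ⟨j, -, hj⟩ := Finset.mem_image.mp h
        exact (C.hf j).1 hj
    rw [hF, Finset.card_insert_of_notMem h0, Finset.card_insert_of_notMem h1,
      Finset.card_insert_of_notMem h2, Finset.card_insert_of_notMem h3, h4]
    omega
  rw [hset, _root_.Nat.card_coe_set_eq, Set.ncard_coe_finset, hcardF]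

/-- the relations on 2-regular elements -/
theorem Core.regular (ρ : G) (hρ : ¬ 2 ∣ orderOf ρ) (j : Fin (hh - 1)) :
    1 + (δ₁ : ℂ) * (χ₁ : G → ℂ) ρ = (δ₁ : ℂ) * (f j : G → ℂ) ρ ∧
      (δ₁ : ℂ) * (f j : G → ℂ) ρ = (sa : ℂ) * (χ₂ : G → ℂ) ρ + (sb : ℂ) * (χ₃ : G → ℂ) ρ := by
  classical
  have hm := D.hm
  have hmh := D.hmh
  have hh2 := D.hh2
  have hj : (j : ℕ) + 1 < m := by omega
  constructor
  · have h1 := D.orth ρ hρ hm hj
    have h2 : ∀ χ : IrrCharacter G, ((a χ 0 - a χ ((j : ℕ) + 1) : ℤ) : ℂ) * (χ : G → ℂ) ρ =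
        ((ind (trivIrr G) 1 χ : ℤ) : ℂ) * (χ : G → ℂ) ρ + ((ind χ₁ δ₁ χ : ℤ) : ℂ) * (χ : G → ℂ) ρ -
          ((ind (f j) δ₁ χ : ℤ) : ℂ) * (χ : G → ℂ) ρ := by
      intro χ
      have := C.hc j χ
      unfold cc at this
      rw [this]
      push_cast
      ring
    rw [Finset.sum_congr rfl fun χ _ => h2 χ, Finset.sum_sub_distrib, Finset.sum_add_distrib,
      sum_ind_mul_complex, sum_ind_mul_complex, sum_ind_mul_complex] at h1
    have h3 : ((trivIrr G : IrrCharacter G) : G → ℂ) ρ = 1 := rfl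
    rw [h3] at h1
    push_cast at h1
    linear_combination h1
  · have h1 := D.orth ρ hρ (by omega : hh < m) hj
    have h2 : ∀ χ : IrrCharacter G, ((a χ hh - a χ ((j : ℕ) + 1) : ℤ) : ℂ) * (χ : G → ℂ) ρ =
        - (((ind (f j) δ₁ χ : ℤ) : ℂ) * (χ : G → ℂ) ρ) +
          ((ind χ₂ sa χ : ℤ) : ℂ) * (χ : G → ℂ) ρ + ((ind χ₃ sb χ : ℤ) : ℂ) * (χ : G → ℂ) ρ := by
      intro χ
      have := C.hc' j χ
      unfold cc' at this
      rw [this]
      push_cast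
      ring
    rw [Finset.sum_congr rfl fun χ _ => h2 χ, Finset.sum_add_distrib, Finset.sum_add_distrib,
      Finset.sum_neg_distrib, sum_ind_mul_complex, sum_ind_mul_complex,
      sum_ind_mul_complex] at h1
    linear_combination -h1

end

/-- **Brauer's theorem on the principal 2-block for dihedral Sylow 2-subgroups**, from the
data. -/
theorem Data.main (D : Data M σ ζ m hh a) :
    Nat.card (Cfsg.principalBlock M G) = 3 + hh ∧ ∃ (χ₁ χ₂ χ₃ : Cfsg.IrrCharacter G) (χ' : Fin (hh - 1) → Cfsg.IrrCharacter G) (δ₁ δ₂ δ₃ : ℤ), (δ₁ = 1 ∨ δ₁ = -1) ∧ (δ₂ = 1 ∨ δ₂ = -1) ∧ (δ₃ = 1 ∨ δ₃ = -1) ∧ Function.Injective χ' ∧ (χ₁ : G → ℂ) ≠ (fun _ => 1) ∧ (χ₂ : G → ℂ) ≠ (fun _ => 1) ∧ (χ₃ : G → ℂ) ≠ (fun _ => 1) ∧ χ₁ ≠ χ₂ ∧ χ₁ ≠ χ₃ ∧ χ₂ ≠ χ₃ ∧ (∀ j, χ' j ≠ χ₁ ∧ χ' j ≠ χ₂ ∧ χ' j ≠ χ₃ ∧ (χ' j : G → ℂ) ≠ (fun _ => 1)) ∧ Cfsg.principalBlock M G = {χ : Cfsg.IrrCharacter G | (χ : G → ℂ) = (fun _ => 1) ∨ χ = χ₁ ∨ χ = χ₂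 ∨ χ = χ₃ ∨ ∃ j, χ = χ' j} ∧ (∀ l : ℕ, 0 < l → l < m → (χ₁ : G → ℂ) (σ ^ l) = δ₁ ∧ (χ₂ : G → ℂ) (σ ^ l) = δ₂ * (-1) ^ (l + 1) ∧ (χ₃ : G → ℂ) (σ ^ l) = δ₃ * (-1) ^ (l + 1) ∧ ∀ j : Fin (hh - 1), (χ' j : G → ℂ) (σ ^ l) = δ₁ * (ζ ^ (((j : ℕ) + 1) * l) + (ζ ^ (((j : ℕ) + 1) * l))⁻¹)) ∧ ∀ ρ : G, Odd (orderOf ρ) → ∀ j : Fin (hh - 1), 1 + δ₁ * (χ₁ : G → ℂ) ρ = -δ₂ * (χ₂ : G → ℂ) ρ - δ₃ * (χ₃ : G → ℂ) ρ ∧ 1 + δ₁ * (χ₁ : G → ℂ) ρ = δ₁ * (χ' j : G → ℂ) ρ := by
  obtain ⟨χ₁, χ₂, χ₃, f, δ₁, sa, sb, C⟩ := D.exists_core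
  have htriv : ∀ χ : IrrCharacter G, (χ : G → ℂ) = (fun _ => 1) ↔ χ = trivIrr G := by
    intro χ
    constructor
    · intro h; exact Subtype.ext h
    · intro h; rw [h]; rfl
  refine ⟨C.card_eq D, χ₁, χ₂, χ₃, f, δ₁, -sa, -sb, C.hδ₁, ?_, ?_, C.hinj, ?_, ?_, ?_, C.h12,
    C.h13, C.h23, ?_, ?_, ?_, ?_⟩
  · rcases C.hsa with h | h <;> rw [h] <;> norm_num
  · rcases C.hsb with h | h <;> rw [h] <;> norm_num
  · rw [Ne, htriv]; exact C.h10
  · rw [Ne, htriv]; exact C.h20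
  · rw [Ne, htriv]; exact C.h30
  · intro j
    refine ⟨(C.hf j).2.1, (C.hf j).2.2.1, (C.hf j).2.2.2, ?_⟩
    rw [Ne, htriv]; exact (C.hf j).1
  · ext χ
    rw [C.mem_iff D χ, Set.mem_ofPred_eq, htriv]
  · intro l hl0 hl
    exact ⟨C.value_one D hl0 hl, C.value_two D hl0 hl, C.value_three D hl0 hl,
      fun j => C.value_f D j hl0 hl⟩
  · intro ρ hρ j
    have hρ' : ¬ 2 ∣ orderOf ρ := by
      rw [← even_iff_two_dvd, Nat.not_even_iff_odd]; exact hρ
    obtain ⟨h1, h2⟩ := C.regular D ρ hρ' j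
    constructor
    · rw [h1, h2]
      push_cast
      ring
    · exact h1

end Cfsg.Agent.Helper8.DihMain
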