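import Mathlib
import Cfsg.Agent.Helper8.DihMain3
import Cfsg.Agent.Helper8.DihGroupE
import Cfsg.Agent.Helper8.DihCol
import Cfsg.Agent.Helper5.BlockOrth

/-!
# The principal 2-block for dihedral Sylow 2-subgroups: the data from the group theory
-/

set_option autoImplicit false

namespace Cfsg.Agent.Helper8.DihMain

open Cfsg Cfsg.Agent.Helper24 Cfsg.Agent.Helper5 Cfsg.Agent.Helper5.CC Cfsg.Agent.Helper5.Loc
open Cfsg.Agent.Helper8.DihSetup Cfsg.Agent.Helper8.DihCol Finset

variable {G : Type*} [Group G] [Fintype G] [Fintype (IrrCharacter G)]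

theorem exists_data (M : Ideal AlgInt) (hM : IsPModular 2 M) (k : ℕ) (hk : 2 ≤ k)
    (P : Sylow 2 G) (e : (P : Subgroup G) ≃* DihedralGroup (2 ^ k)) (σ : G)
    (hσ : σ ∈ (P : Subgroup G)) (hσo : orderOf σ = 2 ^ k) (ζ : ℂ)
    (hζ : IsPrimitiveRoot ζ (2 ^ k)) :
    ∃ a : IrrCharacter G → ℕ → ℤ, Data M σ ζ (2 ^ k) (2 ^ (k - 1)) a := by
  classical
  haveI : Fact (Nat.Prime 2) := ⟨Nat.prime_two⟩
  have hMp := isPrime_of_isPModular hM
  have hmh : 2 ^ k = 2 * 2 ^ (k - 1) := by
    rw [← pow_succ']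
    congr 1
    omega
  have hh2 : 2 ≤ 2 ^ (k - 1) := by
    calc 2 = 2 ^ 1 := by norm_num
      _ ≤ 2 ^ (k - 1) := Nat.pow_le_pow_right (by norm_num) (by omega)
  have hm4 : 4 ≤ 2 ^ k := by omega
  have hDS : DS (P : Subgroup G) σ (2 ^ k) := ds_of_equiv _ _ (by omega) e σ hσ hσo
  -- the coefficients
  have hcoeff : ∀ χ : IrrCharacter G, ∃ a : ℕ → ℤ, ∀ l : ℕ,
      col M σ χ l = ∑ k' ∈ range (2 ^ k), (a k' : ℂ) * ζ ^ (k' * l) := by
    intro χ
    by_cases hχ : χ ∈ principalBlock M G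
    · obtain ⟨a, ha⟩ := exists_coeff_char (IsIrrCharacter.isCharacter χ.2) σ hσo hζ
      refine ⟨fun k' => (a k' : ℤ), fun l => ?_⟩
      rw [col_of_mem hχ, ha l]
      exact Finset.sum_congr rfl fun k' _ => by push_cast; rfl
    · refine ⟨fun _ => 0, fun l => ?_⟩
      rw [col_of_not_mem hχ]
      simp
  choose a ha using hcoeff
  have hpow2 : ∀ l : ℕ, ∃ j : ℕ, orderOf (σ ^ l) = 2 ^ j := by
    intro l
    have h1 : orderOf (σ ^ l) ∣ 2 ^ k := by rw [← hσo]; exact orderOf_pow_dvd l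
    obtain ⟨j, -, hj⟩ := (Nat.dvd_prime_pow Nat.prime_two).mp h1
    exact ⟨j, hj⟩
  have hne1 : ∀ l : ℕ, 0 < l → l < 2 ^ k → σ ^ l ≠ 1 := by
    intro l hl0 hl
    exact pow_ne_one_of_lt_orderOf hl0.ne' (by rw [hσo]; exact hl)
  have heven : ∀ l : ℕ, 0 < l → l < 2 ^ k → 2 ∣ orderOf (σ ^ l) := by
    intro l hl0 hl
    obtain ⟨j, hj⟩ := hpow2 l
    rcases Nat.eq_zero_or_pos j with h0 | h0
    · exfalso
      rw [h0, pow_zero, orderOf_eq_one_iff] at hj
      exact hne1 l hl0 hl hj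
    · rw [hj]; exact dvd_pow_self 2 h0.ne'
  refine ⟨a, hMp, hmh, hh2, ?_, hζ, ha, ?_, ?_, ?_, ?_⟩
  · -- the size of the index set
    rcases Nat.eq_or_lt_of_le hk with h2 | h2
    · left; rw [← h2]; norm_num
    · right
      have : 2 ^ 2 ≤ 2 ^ (k - 1) := Nat.pow_le_pow_right (by norm_num) (by omega)
      omega
  · -- column orthogonality
    intro l l' hl0 hl hl0' hl'
    have hterm : ∀ χ : IrrCharacter G, col M σ χ l * (starRingEnd ℂ) (col M σ χ l') =
        (if χ ∈ principalBlock M G then (χ : G → ℂ) (σ ^ l) else 0) *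
          (starRingEnd ℂ) ((χ : G → ℂ) (σ ^ l')) := by
      intro χ
      by_cases hχ : χ ∈ principalBlock M G
      · rw [col_of_mem hχ, col_of_mem hχ, if_pos hχ]
      · rw [col_of_not_mem hχ, if_neg hχ, zero_mul, zero_mul]
    have hidx := hDS.index_pPrimeCore_pow k hk rfl e hl0 hl
    have hnc : ∃ j : ℕ, (pPrimeCore 2 ↥(Subgroup.centralizer ({σ ^ l} : Set G))).index = 2 ^ j := by
      rw [hidx]
      split_ifs
      · exact ⟨k + 1, by rw [pow_succ']⟩
      · exact ⟨k, rfl⟩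
    rw [Finset.sum_congr rfl fun χ _ => hterm χ,
      col_orth hM (σ ^ l) (σ ^ l') (hpow2 l) (hpow2 l') hnc, hidx]
    have hconj := hDS.isConj_pow_iff k rfl hl0 hl hl0' hl'
    by_cases h1 : l' = l
    · rw [if_pos (hconj.mpr (Or.inl h1)), if_pos h1]
      by_cases h2 : l + l' = 2 ^ k
      · rw [if_pos h2, if_pos (by omega)]
        push_cast; ring
      · rw [if_neg h2, if_neg (by omega)]
        push_cast; ring
    · rw [if_neg h1]
      by_cases h2 : l + l' = 2 ^ k
      · rw [if_pos (hconj.mpr (Or.inr h2)), if_pos h2, if_neg (by omega)]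
        push_cast; ring
      · rw [if_neg h2, if_neg (fun h => by rcases hconj.mp h with h3 | h3 <;> omega)]
        ring
  · -- orthogonality with 2-regular elements
    intro ρ hρ l hl0 hl
    have h1 := block_orthogonality hM (isPBlock_principalBlock (M := M) (G := G)) ρ (σ ^ l) hρ
      (heven l hl0 hl)
    have h2 := congrArg (starRingEnd ℂ) h1
    rw [map_sum, map_zero] at h2
    rw [← h2]
    refine Finset.sum_congr rfl fun χ _ => ?_
    by_cases hχ : χ ∈ principalBlock M G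
    · rw [col_of_mem hχ, if_pos hχ, map_mul, map_mul, map_one, Complex.conj_conj]
      ring
    · rw [col_of_not_mem hχ, if_neg hχ, zero_mul, zero_mul, map_zero]
  · -- symmetry
    intro χ l hl0 hl
    by_cases hχ : χ ∈ principalBlock M G
    · rw [col_of_mem hχ, col_of_mem hχ, ← hDS.pow_inv hl.le]
      exact (IsClassFunction.eq_of_isConj (isClassFunction_irr χ)
        (hDS.isConj_pow_inv (by omega) l)).symm
    · rw [col_of_not_mem hχ, col_of_not_mem hχ]
  · -- non-vanishing at the central involution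
    intro χ hχ
    have hev : 2 ∣ 2 ^ k := dvd_pow_self 2 (by omega)
    have hhalf : 2 ^ (k - 1) = 2 ^ k / 2 := by omega
    obtain ⟨-, -, -, hzc⟩ := hDS.z_props (by omega) hev
    rw [← hhalf] at hzc
    have hPC : (P : Subgroup G) ≤ Subgroup.centralizer ({σ ^ 2 ^ (k - 1)} : Set G) := by
      intro y hy
      rw [mem_centralizer_singleton]
      exact (hzc y hy).symm
    apply ne_zero_of_mem_principalBlock hM hχ
    intro hdvd
    exact P.not_dvd_index (dvd_trans hdvd (Subgroup.index_dvd_of_le hPC))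

end Cfsg.Agent.Helper8.DihMain
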