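import Mathlib
import Cfsg.Agent.Helper8.KleinOrder

/-!
# Values of the principal block on a section with `p`-nilpotent centralizer: the strong form
-/

set_option autoImplicit false

namespace Cfsg.Agent.Helper8.DihOrd

open Cfsg Cfsg.Agent.Helper24 Cfsg.Agent.Helper5 Cfsg.Agent.Helper5.CC Cfsg.Agent.Helper5.Loc

variable {M : Ideal AlgInt}

/-- If the centralizer of the `p`-element `x` has a normal `p`-complement, then every character
`χ` of the principal block satisfies `χ(xρ) = χ(x)` for all `p`-regular `ρ` commuting with `x`. -/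
theorem principal_section_const {G : Type*} [Group G] [Fintype G] [Fintype (IrrCharacter G)]
    {p : ℕ} [hp : Fact p.Prime] (hM : IsPModular p M) (x : G) (hx : ∃ k : ℕ, orderOf x = p ^ k)
    (hnc : ∃ k : ℕ, (pPrimeCore p ↥(Subgroup.centralizer ({x} : Set G))).index = p ^ k)
    (χ : IrrCharacter G) (hχ : χ ∈ principalBlock M G) (ρ : G) (hρx : x * ρ = ρ * x)
    (hρ : ¬ p ∣ orderOf ρ) :
    (χ : G → ℂ) (x * ρ) = (χ : G → ℂ) x := by
  classical
  haveI : Fintype (IrrCharacter ↥(Subgroup.centralizer ({x} : Set G))) := Fintype.ofFinite _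
  have hmem : ∀ y : G, y ∈ Subgroup.centralizer ({x} : Set G) ↔ x * y = y * x := by
    intro y
    rw [Subgroup.mem_centralizer_iff]
    constructor
    · intro h; exact h x (Set.mem_singleton x)
    · intro h w hw
      rw [Set.mem_singleton_iff] at hw
      rw [hw]; exact h
  have hxC : x ∈ Subgroup.centralizer ({x} : Set G) := (hmem x).mpr rfl
  have hcomm : ∀ c : ↥(Subgroup.centralizer ({x} : Set G)), x * (c : G) = (c : G) * x :=
    fun c => (hmem c).mp c.2
  have hset : Cfsg.Agent.Helper8.SecCore.indSet M (Subgroup.centralizer ({x} : Set G))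
      (principalBlock M G) = principalBlock M ↥(Subgroup.centralizer ({x} : Set G)) :=
    inducingSet_principalBlock (M := M) hM x hx _ hxC hcomm (le_refl _)
  have hB := Cfsg.Agent.S0939.result p M hM hnc
  set y : ↥(Subgroup.centralizer ({x} : Set G)) := ⟨ρ, (hmem ρ).mpr hρx⟩ with hy
  have hyo : ¬ p ∣ orderOf y := by
    rw [← Subgroup.orderOf_coe]; exact hρ
  have hyK : y ∈ pPrimeCore p ↥(Subgroup.centralizer ({x} : Set G)) := by
    by_contra hcon
    exact hyo (Cfsg.Agent.Helper8.KleinOrd.dvd_orderOf_of_not_mem hnc y hcon)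
  have hexp1 := Cfsg.Agent.Helper8.SecCore.section_expansion hM x hx _ hxC hcomm (le_refl _)
    (principalBlock M G) isPBlock_principalBlock χ y hyo
  have hexp2 := Cfsg.Agent.Helper8.SecCore.section_expansion hM x hx _ hxC hcomm (le_refl _)
    (principalBlock M G) isPBlock_principalBlock χ (1 : ↥(Subgroup.centralizer ({x} : Set G)))
    (by rw [orderOf_one]; exact fun h => hp.out.one_lt.ne' (Nat.dvd_one.mp h))
  rw [if_pos hχ] at hexp1 hexp2
  simp only [Subgroup.coe_one, mul_one] at hexp2
  rw [show (y : G) = ρ from rfl] at hexp1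
  rw [hexp1, hexp2]
  refine Finset.sum_congr rfl fun ψ _ => ?_
  by_cases hψ : ψ ∈ Cfsg.Agent.Helper8.SecCore.indSet M (Subgroup.centralizer ({x} : Set G))
      (principalBlock M G)
  · rw [if_pos hψ, if_pos hψ]
    have hψ' : ψ ∈ {χ : IrrCharacter ↥(Subgroup.centralizer ({x} : Set G)) |
        ∀ n ∈ pPrimeCore p ↥(Subgroup.centralizer ({x} : Set G)),
          (χ : ↥(Subgroup.centralizer ({x} : Set G)) → ℂ) n =
          (χ : ↥(Subgroup.centralizer ({x} : Set G)) → ℂ) 1} := by
      rw [← hB, ← hset]; exact hψ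
    rw [hψ' y hyK]
  · rw [if_neg hψ, if_neg hψ]

end Cfsg.Agent.Helper8.DihOrd
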