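import Mathlib

/-!
# Counting pairs of involutions through the involution of the cyclic group they generate
-/

set_option autoImplicit false

namespace Cfsg.Agent.Helper8.DihOrd

open Finset Subgroup

variable {G : Type*} [Group G] [Fintype G] [DecidableEq G]

/-- the involutions of a finite group -/
noncomputable def invs (G : Type*) [Group G] [Fintype G] [DecidableEq G] : Finset G :=
  Finset.univ.filter (fun s => orderOf s = 2)

omit [DecidableEq G] in
theorem mem_invs [DecidableEq G] {s : G} : s ∈ invs G ↔ orderOf s = 2 := by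
  unfold invs
  rw [Finset.mem_filter]
  exact ⟨fun h => h.2, fun h => ⟨Finset.mem_univ _, h⟩⟩

theorem conj_mem_invs (g : G) {s : G} : g * s * g⁻¹ ∈ invs G ↔ s ∈ invs G := by
  rw [mem_invs, mem_invs]
  have : orderOf (g * s * g⁻¹) = orderOf s := by
    have := MulEquiv.orderOf_eq (MulAut.conj g) s
    rwa [MulAut.conj_apply] at this
  rw [this]

omit [Fintype G] [DecidableEq G] in
theorem conj_mem_zpowers (g w u : G) :
    g * w * g⁻¹ ∈ zpowers (g * u * g⁻¹) ↔ w ∈ zpowers u := by
  rw [mem_zpowers_iff, mem_zpowers_iff]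
  constructor
  · rintro ⟨k, hk⟩
    refine ⟨k, ?_⟩
    rw [conj_zpow] at hk
    have : u ^ k = g⁻¹ * (g * u ^ k * g⁻¹) * g := by group
    rw [this, hk]; group
  · rintro ⟨k, hk⟩
    exact ⟨k, by rw [conj_zpow, hk]⟩

/-- a cyclic group of even order has exactly one involution -/
theorem card_invs_zpowers (u : G) (hu : Even (orderOf u)) :
    ((invs G).filter (fun w => w ∈ zpowers u)).card = 1 := by
  obtain ⟨k, hk⟩ := hu
  have hk0 : 0 < k := by
    have := orderOf_pos u
    omega
  rw [Finset.card_eq_one]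
  refine ⟨u ^ k, ?_⟩
  ext w
  rw [Finset.mem_filter, Finset.mem_singleton, mem_invs]
  constructor
  · rintro ⟨hw2, hw⟩
    rw [← mem_powers_iff_mem_zpowers, mem_powers_iff_mem_range_orderOf, Finset.mem_image] at hw
    obtain ⟨j, hj, rfl⟩ := hw
    rw [Finset.mem_range] at hj
    have h1 : (u ^ j) ^ 2 = 1 := by rw [← hw2]; exact pow_orderOf_eq_one _
    rw [← pow_mul] at h1
    have h2 : orderOf u ∣ j * 2 := orderOf_dvd_of_pow_eq_one h1
    rw [hk] at h2 hj
    have h3 : k ∣ j := by
      have : k * 2 ∣ j * 2 := by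
        rw [show k * 2 = k + k by ring]; exact h2
      exact Nat.dvd_of_mul_dvd_mul_right (by norm_num) this
    obtain ⟨c, rfl⟩ := h3
    have hc : c = 0 ∨ c = 1 := by
      have : c < 2 := by
        by_contra hcon
        push Not at hcon
        have : k * 2 ≤ k * c := Nat.mul_le_mul_left k hcon
        omega
      omega
    rcases hc with rfl | rfl
    · exfalso
      rw [mul_zero, pow_zero, orderOf_one] at hw2
      omega
    · rw [mul_one]
  · rintro rfl
    refine ⟨?_, pow_mem (mem_zpowers u) k⟩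
    rw [orderOf_pow, hk]
    have : (k + k).gcd k = k := Nat.gcd_eq_right ⟨2, by ring⟩
    rw [this, show k + k = 2 * k by ring]
    exact Nat.mul_div_cancel 2 hk0

/-- **Pairs of involutions, sorted by the involution in the cyclic group generated by their
product.** -/
theorem sum_pairs_eq (z : G) (hone : ∀ s : G, orderOf s = 2 → IsConj z s)
    (F : G → ℂ) (hF : ∀ g u : G, F (g * u * g⁻¹) = F u)
    (hodd : ∀ u : G, Odd (orderOf u) → F u = 0) :
    ∑ s ∈ invs G, ∑ t ∈ invs G, F (s * t) =
      ((invs G).card : ℂ) * ∑ s ∈ invs G, ∑ t ∈ invs G,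
        (if z ∈ zpowers (s * t) then F (s * t) else 0) := by
  have hT : ∀ w ∈ invs G, ∑ s ∈ invs G, ∑ t ∈ invs G,
      (if w ∈ zpowers (s * t) then F (s * t) else 0) =
      ∑ s ∈ invs G, ∑ t ∈ invs G, (if z ∈ zpowers (s * t) then F (s * t) else 0) := by
    intro w hw
    obtain ⟨g, hg⟩ := isConj_iff.mp (hone w (mem_invs.mp hw))
    symm
    refine Finset.sum_equiv (MulAut.conj g).toEquiv ?_ ?_
    · intro s
      simp only [MulEquiv.toEquiv_eq_coe, EquivLike.coe_coe, MulAut.conj_apply]
      exact (conj_mem_invs g).symm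
    · intro s _
      refine Finset.sum_equiv (MulAut.conj g).toEquiv ?_ ?_
      · intro t
        simp only [MulEquiv.toEquiv_eq_coe, EquivLike.coe_coe, MulAut.conj_apply]
        exact (conj_mem_invs g).symm
      · intro t _
        show (if z ∈ zpowers (s * t) then F (s * t) else 0) =
          (if w ∈ zpowers (g * s * g⁻¹ * (g * t * g⁻¹)) then F (g * s * g⁻¹ * (g * t * g⁻¹))
            else 0)
        have h1 : g * s * g⁻¹ * (g * t * g⁻¹) = g * (s * t) * g⁻¹ := by group
        have hFeq : F (g * s * g⁻¹ * (g * t * g⁻¹)) = F (s * t) := by rw [h1, hF]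
        have hiff : w ∈ zpowers (g * s * g⁻¹ * (g * t * g⁻¹)) ↔ z ∈ zpowers (s * t) := by
          rw [h1, ← hg, conj_mem_zpowers]
        by_cases hz : z ∈ zpowers (s * t)
        · rw [if_pos hz, if_pos (hiff.mpr hz), hFeq]
        · rw [if_neg hz, if_neg (fun h => hz (hiff.mp h))]
  have hsum : ∑ w ∈ invs G, ∑ s ∈ invs G, ∑ t ∈ invs G,
      (if w ∈ zpowers (s * t) then F (s * t) else 0) =
      ∑ s ∈ invs G, ∑ t ∈ invs G, F (s * t) := by
    rw [Finset.sum_comm]
    refine Finset.sum_congr rfl fun s _ => ?_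
    rw [Finset.sum_comm]
    refine Finset.sum_congr rfl fun t _ => ?_
    rw [← Finset.sum_filter, Finset.sum_const, nsmul_eq_mul]
    rcases Nat.even_or_odd (orderOf (s * t)) with he | ho
    · rw [card_invs_zpowers (s * t) he]
      simp
    · rw [hodd _ ho, mul_zero]
  rw [← hsum, Finset.sum_congr rfl hT, Finset.sum_const, nsmul_eq_mul]

end Cfsg.Agent.Helper8.DihOrd
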