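import Mathlib
import Cfsg.Agent.Helper8.DihOrdB

/-!
# A group with a normal 2-complement and a dihedral Sylow 2-subgroup with central involution:
the retraction onto the Sylow subgroup and the non-central involutions
-/

set_option autoImplicit false

namespace Cfsg.Agent.Helper8.DihOrd

open Finset Subgroup

variable {H : Type*} [Group H]

/-- The setting: `Q = ⟨σ, τ⟩` dihedral of order `2q`, `z = σ^(q/2)` central in `H`, `r` a
retraction of `H` onto `Q` with kernel `K` of odd order. -/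
structure Ret (Q : Subgroup H) (σ τ : H) (q : ℕ) (K : Subgroup H) (r : H →* H) : Prop where
  hq : 4 ≤ q
  heven : 2 ∣ q
  pgroup : IsPGroup 2 Q
  σ_mem : σ ∈ Q
  τ_mem : τ ∈ Q
  ord : orderOf σ = q
  τ_sq : τ * τ = 1
  rel : τ * σ * τ⁻¹ = σ⁻¹
  elems : ∀ y ∈ Q, (∃ i : ℕ, y = σ ^ i) ∨ (∃ i : ℕ, y = τ * σ ^ i)
  central : ∀ y : H, y * σ ^ (q / 2) = σ ^ (q / 2) * y
  odd : Odd (Nat.card K)
  range : ∀ u : H, r u ∈ Q
  retr : ∀ x ∈ Q, r x = x
  ker : ∀ u : H, r u = 1 ↔ u ∈ K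

variable {Q : Subgroup H} {σ τ : H} {q : ℕ} {K : Subgroup H} {r : H →* H}

theorem Ret.τ_inv (h : Ret Q σ τ q K r) : τ⁻¹ = τ := inv_eq_of_mul_eq_one_left h.τ_sq

theorem Ret.τ_conj (h : Ret Q σ τ q K r) (i : ℕ) : τ * σ ^ i * τ = (σ ^ i)⁻¹ := by
  have h1 : τ * σ ^ i * τ⁻¹ = (σ ^ i)⁻¹ := by
    rw [← conj_pow, h.rel, inv_pow]
  rwa [h.τ_inv] at h1

theorem Ret.pow_q (h : Ret Q σ τ q K r) : σ ^ q = 1 := by
  rw [← h.ord]; exact pow_orderOf_eq_one σ

theorem Ret.inv_pow_eq (h : Ret Q σ τ q K r) (i : ℕ) : (σ ^ i)⁻¹ = σ ^ ((q - 1) * i) := by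
  apply inv_eq_of_mul_eq_one_left
  rw [← pow_add, show (q - 1) * i + i = q * i by
    have := h.hq
    obtain ⟨c, hc⟩ : ∃ c, q = c + 1 := ⟨q - 1, by omega⟩
    rw [hc]; simp; ring, pow_mul, h.pow_q, one_pow]

/-- the product of two reflections -/
theorem Ret.refl_mul (h : Ret Q σ τ q K r) (a b : ℕ) :
    τ * σ ^ a * (τ * σ ^ b) = σ ^ ((q - 1) * a + b) := by
  rw [pow_add, ← h.inv_pow_eq, ← h.τ_conj]
  group

theorem Ret.z_sq (h : Ret Q σ τ q K r) : σ ^ (q / 2) * σ ^ (q / 2) = 1 := by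
  rw [← pow_add]
  have : q / 2 + q / 2 = q := by
    have := h.heven; omega
  rw [this, h.pow_q]

theorem Ret.z_ne_one (h : Ret Q σ τ q K r) : σ ^ (q / 2) ≠ 1 := by
  apply pow_ne_one_of_lt_orderOf
  · have := h.hq; omega
  · rw [h.ord]; have := h.hq; omega

/-- `K` contains no involution -/
theorem Ret.eq_one_of_sq [Finite H] (h : Ret Q σ τ q K r) {x : H} (hx : x ∈ K) (hx2 : x * x = 1) :
    x = 1 := by
  have h1 : orderOf x ∣ 2 := orderOf_dvd_of_pow_eq_one (by rw [pow_two]; exact hx2)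
  have h2 : orderOf x ∣ Nat.card K := by
    have := orderOf_dvd_natCard (⟨x, hx⟩ : K)
    rwa [← Subgroup.orderOf_coe] at this
  have h3 : orderOf x = 1 := by
    rcases (Nat.dvd_prime Nat.prime_two).mp h1 with h4 | h4
    · exact h4
    · exfalso
      rw [h4] at h2
      obtain ⟨c, hc⟩ := h.odd
      omega
  exact orderOf_eq_one_iff.mp h3

/-- an involution mapped to `z` is `z` -/
theorem Ret.eq_z_of_map [Finite H] (h : Ret Q σ τ q K r) {w : H} (hw2 : w * w = 1)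
    (hw : r w = σ ^ (q / 2)) : w = σ ^ (q / 2) := by
  have hzQ : σ ^ (q / 2) ∈ Q := pow_mem h.σ_mem _
  have h1 : r (w * (σ ^ (q / 2))⁻¹) = 1 := by
    rw [map_mul, map_inv, h.retr _ hzQ, hw, mul_inv_cancel]
  have h2 : w * (σ ^ (q / 2))⁻¹ ∈ K := (h.ker _).mp h1
  have hzinv : (σ ^ (q / 2))⁻¹ = σ ^ (q / 2) := inv_eq_of_mul_eq_one_left h.z_sq
  have h3 : w * (σ ^ (q / 2))⁻¹ * (w * (σ ^ (q / 2))⁻¹) = 1 := by
    rw [hzinv]
    calc w * σ ^ (q / 2) * (w * σ ^ (q / 2)) = w * (σ ^ (q / 2) * w) * σ ^ (q / 2) := by group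
      _ = w * (w * σ ^ (q / 2)) * σ ^ (q / 2) := by rw [h.central w]
      _ = (w * w) * (σ ^ (q / 2) * σ ^ (q / 2)) := by group
      _ = 1 := by rw [hw2, h.z_sq, one_mul]
  have h4 := h.eq_one_of_sq h2 h3
  exact mul_inv_eq_one.mp h4

/-- the only involution among the powers of `σ` is `z` -/
theorem Ret.pow_invol (h : Ret Q σ τ q K r) {i : ℕ} (hi2 : σ ^ i * σ ^ i = 1) (hi1 : σ ^ i ≠ 1) :
    σ ^ i = σ ^ (q / 2) := by
  rw [← pow_add] at hi2
  have h1 : orderOf σ ∣ i + i := orderOf_dvd_of_pow_eq_one hi2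
  rw [h.ord] at h1
  obtain ⟨m, hm⟩ := h.heven
  have hm2 : q / 2 = m := by omega
  rw [hm2]
  have h2 : m ∣ i := by
    have : m * 2 ∣ i * 2 := by
      rw [show m * 2 = q by omega, show i * 2 = i + i by ring]; exact h1
    exact Nat.dvd_of_mul_dvd_mul_right (by norm_num) this
  obtain ⟨c, rfl⟩ := h2
  have hz2 : σ ^ m * σ ^ m = 1 := by rw [← hm2]; exact h.z_sq
  rcases Nat.even_or_odd c with ⟨d, hd⟩ | ⟨d, hd⟩
  · exfalso
    apply hi1
    rw [hd, pow_mul, ← two_mul, pow_mul, pow_two, hz2, one_pow]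
  · rw [hd, pow_mul, pow_add, pow_mul, pow_two, hz2, one_pow, one_mul, pow_one]

/-- a non-central involution is mapped to a reflection -/
theorem Ret.map_invol [Finite H] (h : Ret Q σ τ q K r) {s : H} (hs2 : s * s = 1) (hs1 : s ≠ 1)
    (hsz : s ≠ σ ^ (q / 2)) : ∃ i : ℕ, r s = τ * σ ^ i := by
  have hr2 : r s * r s = 1 := by rw [← map_mul, hs2, map_one]
  have hr1 : r s ≠ 1 := by
    intro h1
    exact hs1 (h.eq_one_of_sq ((h.ker s).mp h1) hs2)
  rcases h.elems (r s) (h.range s) with ⟨i, hi⟩ | ⟨i, hi⟩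
  · exfalso
    rw [hi] at hr2 hr1
    have := h.pow_invol hr2 hr1
    rw [← hi] at this
    exact hsz (h.eq_z_of_map hs2 this)
  · exact ⟨i, hi⟩

omit [Group H] in
theorem mem_zpowers_of_sq {H : Type*} [Group H] {x w : H} (hx : x * x = 1) (hw : w ∈ zpowers x) :
    w = 1 ∨ w = x := by
  obtain ⟨k, rfl⟩ := mem_zpowers_iff.mp hw
  have h2 : x ^ (2 : ℤ) = 1 := by
    rw [show (2 : ℤ) = 1 + 1 by norm_num, zpow_add, zpow_one]; exact hx
  have hk : k = k % 2 + 2 * (k / 2) := (Int.emod_add_mul_ediv k 2).symm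
  rw [hk, zpow_add, zpow_mul, h2, one_zpow, mul_one]
  rcases Int.emod_two_eq_zero_or_one k with h0 | h0
  · left; rw [h0, zpow_zero]
  · right; rw [h0, zpow_one]

/-- if the involution `z` lies in the group generated by the product of two involutions `s, t`,
then `s ≠ z` and `t ≠ z` -/
theorem Ret.ne_z_of_mem (h : Ret Q σ τ q K r) {s t : H} (hs2 : s * s = 1) (ht2 : t * t = 1)
    (hs1 : s ≠ 1) (ht1 : t ≠ 1) (hz : σ ^ (q / 2) ∈ zpowers (s * t)) :
    s ≠ σ ^ (q / 2) ∧ t ≠ σ ^ (q / 2) := by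
  constructor
  · intro hsz
    have h1 : s * t * (s * t) = 1 := by
      calc s * t * (s * t) = s * (t * s) * t := by group
        _ = s * (s * t) * t := by rw [hsz, h.central t]
        _ = (s * s) * (t * t) := by group
        _ = 1 := by rw [hs2, ht2, one_mul]
    rcases mem_zpowers_of_sq h1 hz with h2 | h2
    · exact h.z_ne_one h2
    · apply ht1
      have : s * 1 = s * t := by rw [mul_one]; rw [← hsz] at h2; exact h2
      exact (mul_left_cancel this).symm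
  · intro htz
    have h1 : s * t * (s * t) = 1 := by
      calc s * t * (s * t) = s * (t * s) * t := by group
        _ = s * (s * t) * t := by rw [htz, ← h.central s]
        _ = (s * s) * (t * t) := by group
        _ = 1 := by rw [hs2, ht2, one_mul]
    rcases mem_zpowers_of_sq h1 hz with h2 | h2
    · exact h.z_ne_one h2
    · apply hs1
      have : 1 * t = s * t := by rw [one_mul]; rw [← htz] at h2; exact h2
      exact (mul_right_cancel this).symm

/-- if `r u` is a nontrivial power of `σ` then `z ∈ ⟨u⟩` -/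
theorem Ret.z_mem_zpowers [Finite H] (h : Ret Q σ τ q K r) {u : H} {l : ℕ} (hu : r u = σ ^ l)
    (hu1 : r u ≠ 1) : σ ^ (q / 2) ∈ zpowers u := by
  -- the order of `u` is even
  have h1 : orderOf (r u) ∣ orderOf u := orderOf_map_dvd r u
  obtain ⟨j, hj⟩ : ∃ j : ℕ, orderOf (r u) = 2 ^ j := by
    obtain ⟨j, hj⟩ := h.pgroup ⟨r u, h.range u⟩
    have h2 : (r u) ^ 2 ^ j = 1 := by
      have := congrArg Subtype.val hj
      simpa using this
    obtain ⟨j', -, hj'⟩ := (Nat.dvd_prime_pow Nat.prime_two).mp (orderOf_dvd_of_pow_eq_one h2)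
    exact ⟨j', hj'⟩
  have hj0 : j ≠ 0 := by
    intro h0
    rw [h0, pow_zero, orderOf_eq_one_iff] at hj
    exact hu1 hj
  have heven : 2 ∣ orderOf u := dvd_trans (by rw [hj]; exact dvd_pow_self 2 hj0) h1
  obtain ⟨m, hm⟩ := heven
  have hm0 : 0 < m := by
    have := orderOf_pos u
    omega
  have hw2 : u ^ m * u ^ m = 1 := by
    rw [← pow_add, show m + m = orderOf u by omega, pow_orderOf_eq_one]
  have hw1 : u ^ m ≠ 1 := by
    apply pow_ne_one_of_lt_orderOf hm0.ne'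
    omega
  have hrw2 : r (u ^ m) * r (u ^ m) = 1 := by rw [← map_mul, hw2, map_one]
  have hrw1 : r (u ^ m) ≠ 1 := by
    intro h3
    exact hw1 (h.eq_one_of_sq ((h.ker _).mp h3) hw2)
  have hrw : r (u ^ m) = σ ^ (l * m) := by rw [map_pow, hu, pow_mul]
  rw [hrw] at hrw2 hrw1
  have h4 := h.pow_invol hrw2 hrw1
  rw [← hrw] at h4
  have h5 := h.eq_z_of_map hw2 h4
  rw [← h5]
  exact pow_mem (mem_zpowers u) m

end Cfsg.Agent.Helper8.DihOrd
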