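import Mathlib
import Cfsg.Agent.Helper8.DihOrdC

/-!
# The sum over pairs of non-central involutions
-/

set_option autoImplicit false

namespace Cfsg.Agent.Helper8.DihOrd

open Finset Subgroup

variable {H : Type*} [Group H] [Fintype H] [DecidableEq H]
variable {Q : Subgroup H} {σ τ : H} {q : ℕ} {K : Subgroup H} {r : H →* H}

/-- the non-central involutions -/
noncomputable def ncInvs (H : Type*) [Group H] [Fintype H] [DecidableEq H] (z : H) : Finset H :=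
  (invs H).filter (fun s => s ≠ z)

theorem mem_ncInvs {z s : H} : s ∈ ncInvs H z ↔ (s * s = 1 ∧ s ≠ 1) ∧ s ≠ z := by
  unfold ncInvs
  rw [Finset.mem_filter, mem_invs, orderOf_eq_prime_iff, pow_two]

theorem mem_invs' {s : H} : s ∈ invs H ↔ s * s = 1 ∧ s ≠ 1 := by
  rw [mem_invs, orderOf_eq_prime_iff, pow_two]

theorem Ret.conj_mem_ncInvs (h : Ret Q σ τ q K r) (g : H) {s : H} :
    g * s * g⁻¹ ∈ ncInvs H (σ ^ (q / 2)) ↔ s ∈ ncInvs H (σ ^ (q / 2)) := by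
  unfold ncInvs
  rw [Finset.mem_filter, Finset.mem_filter, conj_mem_invs]
  have : g * s * g⁻¹ = σ ^ (q / 2) ↔ s = σ ^ (q / 2) := by
    constructor
    · intro h1
      have h2 : s = g⁻¹ * (g * s * g⁻¹) * g := by group
      rw [h2, h1, mul_assoc, ← h.central g, ← mul_assoc, inv_mul_cancel, one_mul]
    · intro h1
      rw [h1, h.central g, mul_assoc, mul_inv_cancel, mul_one]
  rw [Ne, Ne, this]

variable {ζ : ℂ} {F : H → ℂ}

/-- the value of `F` on a product of two non-central involutions -/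
theorem Ret.value_mul (h : Ret Q σ τ q K r) (hζ : IsPrimitiveRoot ζ q)
    (hFr : ∀ u : H, F u = F (r u)) (hFσ : ∀ l : ℕ, F (σ ^ l) = 2 - ζ ^ l - (ζ ^ l)⁻¹)
    {s t : H} {a b : ℕ} (hs : r s = τ * σ ^ a) (ht : r t = τ * σ ^ b) :
    F (s * t) = 2 - (ζ ^ a)⁻¹ * ζ ^ b - ζ ^ a * (ζ ^ b)⁻¹ := by
  have hinv : (ζ ^ a)⁻¹ = ζ ^ ((q - 1) * a) := by
    apply inv_eq_of_mul_eq_one_left
    rw [← pow_add, show (q - 1) * a + a = q * a by
      have := h.hq
      obtain ⟨c, hc⟩ : ∃ c, q = c + 1 := ⟨q - 1, by omega⟩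
      rw [hc]; simp; ring, pow_mul, hζ.pow_eq_one, one_pow]
  rw [hFr, map_mul, hs, ht, h.refl_mul, hFσ, pow_add, ← hinv, mul_inv, inv_inv]

/-- `F` vanishes on products of non-central involutions not generating `z` -/
theorem Ret.value_eq_zero (h : Ret Q σ τ q K r)
    (hFr : ∀ u : H, F u = F (r u)) (hFσ : ∀ l : ℕ, F (σ ^ l) = 2 - ζ ^ l - (ζ ^ l)⁻¹)
    {s t : H} {a b : ℕ} (hs : r s = τ * σ ^ a) (ht : r t = τ * σ ^ b)
    (hz : σ ^ (q / 2) ∉ zpowers (s * t)) : F (s * t) = 0 := by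
  have h1 : r (s * t) = σ ^ ((q - 1) * a + b) := by rw [map_mul, hs, ht, h.refl_mul]
  have h2 : r (s * t) = 1 := by
    by_contra hcon
    exact hz (h.z_mem_zpowers h1 hcon)
  rw [hFr, h2, ← pow_zero σ, hFσ, pow_zero, inv_one]
  norm_num

/-- **The sum over pairs of involutions generating `z`.** -/
theorem Ret.sum_pairs (h : Ret Q σ τ q K r) (hζ : IsPrimitiveRoot ζ q)
    (hFr : ∀ u : H, F u = F (r u)) (hFσ : ∀ l : ℕ, F (σ ^ l) = 2 - ζ ^ l - (ζ ^ l)⁻¹) :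
    ∑ s ∈ invs H, ∑ t ∈ invs H,
      (if σ ^ (q / 2) ∈ zpowers (s * t) then F (s * t) else 0) =
      2 * ((ncInvs H (σ ^ (q / 2))).card : ℂ) ^ 2 := by
  have hex : ∀ s : H, s ∈ ncInvs H (σ ^ (q / 2)) → ∃ i : ℕ, r s = τ * σ ^ i := by
    intro s hs
    rw [mem_ncInvs] at hs
    exact h.map_invol hs.1.1 hs.1.2 hs.2
  choose! a ha using hex
  -- reduction to the non-central involutions
  have hred : ∑ s ∈ invs H, ∑ t ∈ invs H,
      (if σ ^ (q / 2) ∈ zpowers (s * t) then F (s * t) else 0) =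
      ∑ s ∈ ncInvs H (σ ^ (q / 2)), ∑ t ∈ ncInvs H (σ ^ (q / 2)), F (s * t) := by
    have hI : ncInvs H (σ ^ (q / 2)) = (invs H).filter (fun s => s ≠ σ ^ (q / 2)) := rfl
    rw [hI, Finset.sum_filter]
    refine Finset.sum_congr rfl fun s hs => ?_
    rw [mem_invs'] at hs
    by_cases hsz : s ≠ σ ^ (q / 2)
    · rw [if_pos hsz, Finset.sum_filter]
      refine Finset.sum_congr rfl fun t ht => ?_
      rw [mem_invs'] at ht
      by_cases htz : t ≠ σ ^ (q / 2)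
      · rw [if_pos htz]
        by_cases hz : σ ^ (q / 2) ∈ zpowers (s * t)
        · rw [if_pos hz]
        · rw [if_neg hz]
          exact (h.value_eq_zero hFr hFσ (ha s (mem_ncInvs.mpr ⟨hs, hsz⟩))
            (ha t (mem_ncInvs.mpr ⟨ht, htz⟩)) hz).symm
      · rw [if_neg htz]
        rw [if_neg]
        intro hz
        exact htz (h.ne_z_of_mem hs.1 ht.1 hs.2 ht.2 hz).2
    · rw [if_neg hsz]
      refine Finset.sum_eq_zero fun t ht => ?_
      rw [mem_invs'] at ht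
      rw [if_neg]
      intro hz
      exact hsz (h.ne_z_of_mem hs.1 ht.1 hs.2 ht.2 hz).1
  rw [hred]
  -- the values
  have hval : ∀ s ∈ ncInvs H (σ ^ (q / 2)), ∀ t ∈ ncInvs H (σ ^ (q / 2)),
      F (s * t) = 2 - (ζ ^ a s)⁻¹ * ζ ^ a t - ζ ^ a s * (ζ ^ a t)⁻¹ := by
    intro s hs t ht
    exact h.value_mul hζ hFr hFσ (ha s hs) (ha t ht)
  rw [Finset.sum_congr rfl fun s hs => Finset.sum_congr rfl fun t ht => hval s hs t ht]
  -- the sum of the angles vanishes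
  have hστ : σ⁻¹ * τ = τ * σ := by
    have h1 := h.τ_conj 1
    rw [pow_one] at h1
    rw [← h1]
    calc τ * σ * τ * τ = τ * σ * (τ * τ) := by group
      _ = τ * σ := by rw [h.τ_sq, mul_one]
  have hZ : ∑ s ∈ ncInvs H (σ ^ (q / 2)), ζ ^ a s = 0 := by
    have hshift : ∀ s ∈ ncInvs H (σ ^ (q / 2)), ζ ^ a (σ⁻¹ * s * σ) = ζ ^ 2 * ζ ^ a s := by
      intro s hs
      have hs' : σ⁻¹ * s * σ ∈ ncInvs H (σ ^ (q / 2)) := by
        have := (h.conj_mem_ncInvs σ⁻¹).mpr hs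
        rwa [inv_inv] at this
      have h1 := ha _ hs'
      rw [map_mul, map_mul, map_inv, h.retr σ h.σ_mem, ha s hs] at h1
      have h2 : σ⁻¹ * (τ * σ ^ a s) * σ = τ * σ ^ (a s + 2) := by
        calc σ⁻¹ * (τ * σ ^ a s) * σ = (σ⁻¹ * τ) * σ ^ a s * σ := by group
          _ = τ * σ * σ ^ a s * σ := by rw [hστ]
          _ = τ * σ ^ (a s + 2) := by
            rw [pow_add, pow_two]
            have : σ * σ ^ a s = σ ^ a s * σ := by rw [← pow_succ, ← pow_succ']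
            calc τ * σ * σ ^ a s * σ = τ * (σ * σ ^ a s) * σ := by group
              _ = τ * (σ ^ a s * σ) * σ := by rw [this]
              _ = τ * (σ ^ a s * (σ * σ)) := by group
      rw [h2] at h1
      have h3 : σ ^ (a s + 2) = σ ^ a (σ⁻¹ * s * σ) := mul_left_cancel h1
      rw [pow_eq_pow_iff_modEq, h.ord] at h3
      rw [← pow_add, add_comm 2]
      have h4 : (a s + 2) % q = a (σ⁻¹ * s * σ) % q := h3
      rw [← pow_mod_orderOf ζ (a (σ⁻¹ * s * σ)), ← pow_mod_orderOf ζ (a s + 2), ← hζ.eq_orderOf, h4]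
    have hsum : ∑ s ∈ ncInvs H (σ ^ (q / 2)), ζ ^ a s =
        ∑ s ∈ ncInvs H (σ ^ (q / 2)), ζ ^ a (σ⁻¹ * s * σ) := by
      symm
      refine Finset.sum_equiv (MulAut.conj σ⁻¹).toEquiv ?_ ?_
      · intro s
        show s ∈ ncInvs H (σ ^ (q / 2)) ↔ σ⁻¹ * s * σ⁻¹⁻¹ ∈ ncInvs H (σ ^ (q / 2))
        exact (h.conj_mem_ncInvs σ⁻¹).symm
      · intro s _
        show ζ ^ a (σ⁻¹ * s * σ) = ζ ^ a (σ⁻¹ * s * σ⁻¹⁻¹)
        rw [inv_inv]
    rw [Finset.sum_congr rfl hshift, ← Finset.mul_sum] at hsum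
    have hne : ζ ^ 2 ≠ 1 := hζ.pow_ne_one_of_pos_of_lt (by norm_num) (by have := h.hq; omega)
    have h4 : (1 - ζ ^ 2) * ∑ s ∈ ncInvs H (σ ^ (q / 2)), ζ ^ a s = 0 := by
      rw [sub_mul, one_mul, ← hsum, sub_self]
    rcases mul_eq_zero.mp h4 with h5 | h5
    · exfalso
      exact hne (sub_eq_zero.mp h5).symm
    · exact h5
  -- the double sum
  have hinner : ∀ s ∈ ncInvs H (σ ^ (q / 2)), ∑ t ∈ ncInvs H (σ ^ (q / 2)),
      (2 - (ζ ^ a s)⁻¹ * ζ ^ a t - ζ ^ a s * (ζ ^ a t)⁻¹) =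
      2 * ((ncInvs H (σ ^ (q / 2))).card : ℂ) -
        ζ ^ a s * ∑ t ∈ ncInvs H (σ ^ (q / 2)), (ζ ^ a t)⁻¹ := by
    intro s _
    rw [Finset.sum_sub_distrib, Finset.sum_sub_distrib, Finset.sum_const, nsmul_eq_mul,
      ← Finset.mul_sum, ← Finset.mul_sum, hZ, mul_zero, sub_zero]
    ring
  rw [Finset.sum_congr rfl hinner, Finset.sum_sub_distrib, Finset.sum_const, nsmul_eq_mul,
    ← Finset.sum_mul, hZ, zero_mul, sub_zero]
  ring

end Cfsg.Agent.Helper8.DihOrd
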