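import Mathlib
import Cfsg.Agent.Helper8.DihOrdD
import Cfsg.Agent.Helper24.Classes

/-!
# The number of non-central involutions
-/

set_option autoImplicit false

namespace Cfsg.Agent.Helper8.DihOrd

open Finset Subgroup

variable {H : Type*} [Group H]
variable {Q : Subgroup H} {σ τ : H} {q : ℕ} {K : Subgroup H} {r : H →* H}

theorem Ret.pow_τ (h : Ret Q σ τ q K r) (i : ℕ) : σ ^ i * τ = τ * (σ ^ i)⁻¹ := by
  rw [← h.τ_conj i]
  calc σ ^ i * τ = (τ * τ) * σ ^ i * τ := by rw [h.τ_sq, one_mul]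
    _ = τ * (τ * σ ^ i * τ) := by group

theorem Ret.inv_pow_τ (h : Ret Q σ τ q K r) (i : ℕ) : (σ ^ i)⁻¹ * τ = τ * σ ^ i := by
  have h1 := h.pow_τ i
  calc (σ ^ i)⁻¹ * τ = (σ ^ i)⁻¹ * (τ * (σ ^ i)⁻¹) * σ ^ i := by group
    _ = (σ ^ i)⁻¹ * (σ ^ i * τ) * σ ^ i := by rw [h1]
    _ = τ * σ ^ i := by group

theorem Ret.σ_sq_ne (h : Ret Q σ τ q K r) : σ * σ ≠ 1 := by
  intro h1
  have h2 : orderOf σ ∣ 2 := orderOf_dvd_of_pow_eq_one (by rw [pow_two]; exact h1)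
  rw [h.ord] at h2
  have := Nat.le_of_dvd (by norm_num) h2
  have := h.hq
  omega

theorem Ret.not_commute (h : Ret Q σ τ q K r) : τ * σ ≠ σ * τ := by
  intro h1
  have h2 := h.rel
  rw [h1, mul_inv_cancel_right] at h2
  apply h.σ_sq_ne
  nth_rewrite 1 [h2]
  exact inv_mul_cancel σ

theorem Ret.refl_sq (h : Ret Q σ τ q K r) (i : ℕ) : τ * σ ^ i * (τ * σ ^ i) = 1 := by
  calc τ * σ ^ i * (τ * σ ^ i) = (τ * σ ^ i * τ) * σ ^ i := by group
    _ = 1 := by rw [h.τ_conj, inv_mul_cancel]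

variable [Fintype H] [DecidableEq H]

theorem Ret.τ_mem_ncInvs (h : Ret Q σ τ q K r) : τ ∈ ncInvs H (σ ^ (q / 2)) := by
  rw [mem_ncInvs]
  refine ⟨⟨h.τ_sq, ?_⟩, ?_⟩
  · intro h1
    apply h.not_commute
    rw [h1, one_mul, mul_one]
  · intro h1
    apply h.not_commute
    rw [h1]
    exact (h.central σ).symm

theorem Ret.στ_mem_ncInvs (h : Ret Q σ τ q K r) : σ * τ ∈ ncInvs H (σ ^ (q / 2)) := by
  have h0 : σ * τ = τ * σ⁻¹ := by
    have := h.pow_τ 1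
    rwa [pow_one] at this
  rw [mem_ncInvs]
  refine ⟨⟨?_, ?_⟩, ?_⟩
  · calc σ * τ * (σ * τ) = σ * τ * (τ * σ⁻¹) := by rw [← h0]
      _ = σ * (τ * τ) * σ⁻¹ := by group
      _ = 1 := by rw [h.τ_sq, mul_one, mul_inv_cancel]
  · intro h1
    apply h.not_commute
    have h2 : τ = σ⁻¹ := eq_inv_of_mul_eq_one_right h1
    rw [h2, inv_mul_cancel, mul_inv_cancel]
  · intro h1
    apply h.not_commute
    calc τ * σ = σ⁻¹ * (σ * τ) * σ := by group
      _ = σ⁻¹ * (σ ^ (q / 2) * σ) := by rw [h1, mul_assoc]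
      _ = σ⁻¹ * (σ * σ ^ (q / 2)) := by rw [h.central σ]
      _ = σ ^ (q / 2) := by group
      _ = σ * τ := h1.symm

/-- a non-central involution is conjugate to its image under the retraction -/
theorem Ret.isConj_map (h : Ret Q σ τ q K r) {s : H} (hs : s ∈ ncInvs H (σ ^ (q / 2))) :
    IsConj (r s) s := by
  rw [mem_ncInvs] at hs
  obtain ⟨i, hi⟩ := h.map_invol hs.1.1 hs.1.2 hs.2
  have hp2 : r s * r s = 1 := by rw [hi]; exact h.refl_sq i
  have hpinv : (r s)⁻¹ = r s := inv_eq_of_mul_eq_one_left hp2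
  have hpQ : r s ∈ Q := h.range s
  -- `k = p⁻¹ s ∈ K` is inverted by `p`
  have hkK : (r s)⁻¹ * s ∈ K := by
    rw [← h.ker, map_mul, map_inv, h.retr _ hpQ, inv_mul_cancel]
  have hkinv : r s * ((r s)⁻¹ * s) * (r s)⁻¹ = ((r s)⁻¹ * s)⁻¹ := by
    rw [eq_inv_iff_mul_eq_one, hpinv]
    calc r s * (r s * s) * r s * (r s * s) = (r s * r s) * s * (r s * r s) * s := by group
      _ = 1 := by rw [hp2, one_mul, mul_one, hs.1.1]
  -- the order of `k` is odd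
  have hodd : Odd (orderOf ((r s)⁻¹ * s)) := by
    have h2 : orderOf ((r s)⁻¹ * s) ∣ Nat.card K := by
      have := orderOf_dvd_natCard (⟨_, hkK⟩ : K)
      rwa [← Subgroup.orderOf_coe] at this
    exact Odd.of_dvd_nat h.odd h2
  obtain ⟨j, hj⟩ := hodd
  -- the square root `m = k^(j+1)` of `k`
  have hm2 : ((r s)⁻¹ * s) ^ (j + 1) * ((r s)⁻¹ * s) ^ (j + 1) = (r s)⁻¹ * s := by
    rw [← pow_add, show j + 1 + (j + 1) = orderOf ((r s)⁻¹ * s) + 1 by omega, pow_succ,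
      pow_orderOf_eq_one, one_mul]
  have hminv : r s * ((r s)⁻¹ * s) ^ (j + 1) * (r s)⁻¹ = (((r s)⁻¹ * s) ^ (j + 1))⁻¹ := by
    rw [← conj_pow, hkinv, inv_pow]
  rw [isConj_iff]
  refine ⟨(((r s)⁻¹ * s) ^ (j + 1))⁻¹, ?_⟩
  rw [inv_inv]
  calc (((r s)⁻¹ * s) ^ (j + 1))⁻¹ * r s * ((r s)⁻¹ * s) ^ (j + 1)
      = (((r s)⁻¹ * s) ^ (j + 1))⁻¹ * (r s * ((r s)⁻¹ * s) ^ (j + 1) * (r s)⁻¹) * r s := by group
    _ = (((r s)⁻¹ * s) ^ (j + 1))⁻¹ * (((r s)⁻¹ * s) ^ (j + 1))⁻¹ * r s := by rw [hminv]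
    _ = (((r s)⁻¹ * s) ^ (j + 1) * ((r s)⁻¹ * s) ^ (j + 1))⁻¹ * r s := by group
    _ = ((r s)⁻¹ * s)⁻¹ * r s := by rw [hm2]
    _ = s⁻¹ * (r s * r s) := by group
    _ = s := by rw [hp2, mul_one]; exact inv_eq_of_mul_eq_one_left hs.1.1

/-- a reflection of `Q` is conjugate to `τ` or to `σ τ` -/
theorem Ret.refl_isConj (h : Ret Q σ τ q K r) (i : ℕ) :
    IsConj τ (τ * σ ^ i) ∨ IsConj (σ * τ) (τ * σ ^ i) := by
  rcases Nat.even_or_odd i with ⟨j, hj⟩ | ⟨j, hj⟩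
  · left
    rw [isConj_iff]
    refine ⟨(σ ^ j)⁻¹, ?_⟩
    rw [inv_inv, h.inv_pow_τ, hj, pow_add, mul_assoc]
  · right
    rw [isConj_iff]
    refine ⟨(σ ^ (j + 1))⁻¹, ?_⟩
    rw [inv_inv, hj]
    calc (σ ^ (j + 1))⁻¹ * (σ * τ) * σ ^ (j + 1) = (σ ^ j)⁻¹ * τ * σ ^ (j + 1) := by
          rw [pow_succ]; group
      _ = τ * σ ^ j * σ ^ (j + 1) := by rw [h.inv_pow_τ]
      _ = τ * σ ^ (2 * j + 1) := by
          rw [mul_assoc, ← pow_add]
          congr 2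
          ring

/-- `τ` and `σ τ` are not conjugate -/
theorem Ret.not_isConj (h : Ret Q σ τ q K r) : ¬ IsConj τ (σ * τ) := by
  intro hc
  obtain ⟨c, hc⟩ := isConj_iff.mp hc
  have h1 : r c * τ * (r c)⁻¹ = σ * τ := by
    have := congrArg r hc
    rwa [map_mul, map_mul, map_inv, map_mul, h.retr τ h.τ_mem, h.retr σ h.σ_mem] at this
  have h0 : σ * τ = τ * σ⁻¹ := by
    have := h.pow_τ 1
    rwa [pow_one] at this
  obtain ⟨m, hm⟩ := h.heven
  rcases h.elems (r c) (h.range c) with ⟨i, hi⟩ | ⟨i, hi⟩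
  · rw [hi, h.pow_τ, h0, mul_assoc] at h1
    have h2 : (σ ^ i)⁻¹ * (σ ^ i)⁻¹ = σ⁻¹ := mul_left_cancel h1
    have h3 : σ ^ (i + i) = σ ^ 1 := by
      rw [pow_one, pow_add, ← inv_inj, mul_inv_rev, h2]
    rw [pow_eq_pow_iff_modEq, h.ord] at h3
    have h4 : (i + i) % 2 = 1 % 2 := Nat.ModEq.of_dvd h.heven h3
    omega
  · have h2 : (τ * σ ^ i)⁻¹ = (σ ^ i)⁻¹ * τ := by rw [mul_inv_rev, h.τ_inv]
    rw [hi, h2] at h1
    have h3 : τ * σ ^ i * τ * ((σ ^ i)⁻¹ * τ) = (σ ^ i)⁻¹ * (σ ^ i)⁻¹ * τ := by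
      rw [h.τ_conj]; group
    rw [h3] at h1
    have h4 : (σ ^ i)⁻¹ * (σ ^ i)⁻¹ = σ := mul_right_cancel h1
    have h5 : σ ^ (i + i + 1) = σ ^ 0 := by
      rw [pow_zero]
      calc σ ^ (i + i + 1) = σ ^ i * σ ^ i * σ := by rw [pow_succ, pow_add]
        _ = σ ^ i * σ ^ i * ((σ ^ i)⁻¹ * (σ ^ i)⁻¹) := by rw [h4]
        _ = 1 := by group
    rw [pow_eq_pow_iff_modEq, h.ord] at h5
    have h6 : (i + i + 1) % 2 = 0 % 2 := Nat.ModEq.of_dvd h.heven h5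
    omega

/-- **The number of non-central involutions.** -/
theorem Ret.card_ncInvs (h : Ret Q σ τ q K r) :
    ((ncInvs H (σ ^ (q / 2))).card : ℚ) =
      (Nat.card H : ℚ) / (Nat.card (centralizer ({τ} : Set H)) : ℚ) +
      (Nat.card H : ℚ) / (Nat.card (centralizer ({σ * τ} : Set H)) : ℚ) := by
  classical
  have hset : ncInvs H (σ ^ (q / 2)) =
      Finset.univ.filter (fun s => IsConj τ s) ∪ Finset.univ.filter (fun s => IsConj (σ * τ) s) := by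
    ext s
    rw [Finset.mem_union, Finset.mem_filter, Finset.mem_filter]
    constructor
    · intro hs
      have h1 := h.isConj_map hs
      have hs' := mem_ncInvs.mp hs
      obtain ⟨i, hi⟩ := h.map_invol hs'.1.1 hs'.1.2 hs'.2
      rw [hi] at h1
      rcases h.refl_isConj i with h2 | h2
      · left; exact ⟨Finset.mem_univ _, h2.trans h1⟩
      · right; exact ⟨Finset.mem_univ _, h2.trans h1⟩
    · rintro (⟨-, hs⟩ | ⟨-, hs⟩)
      · obtain ⟨c, rfl⟩ := isConj_iff.mp hs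
        exact (h.conj_mem_ncInvs c).mpr h.τ_mem_ncInvs
      · obtain ⟨c, rfl⟩ := isConj_iff.mp hs
        exact (h.conj_mem_ncInvs c).mpr h.στ_mem_ncInvs
  have hdisj : Disjoint (Finset.univ.filter (fun s : H => IsConj τ s))
      (Finset.univ.filter (fun s : H => IsConj (σ * τ) s)) := by
    rw [Finset.disjoint_left]
    intro s hs1 hs2
    rw [Finset.mem_filter] at hs1 hs2
    exact h.not_isConj (hs1.2.trans hs2.2.symm)
  rw [hset, Finset.card_union_of_disjoint hdisj, Cfsg.Agent.Helper24.card_filter_isConj,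
    Cfsg.Agent.Helper24.card_filter_isConj]
  have h1 := Cfsg.Agent.Helper24.card_conj_mul_card_centralizer τ
  have h2 := Cfsg.Agent.Helper24.card_conj_mul_card_centralizer (σ * τ)
  have hc1 : (Nat.card (centralizer ({τ} : Set H)) : ℚ) ≠ 0 := by
    exact_mod_cast (Nat.card_pos (α := (centralizer ({τ} : Set H)))).ne'
  have hc2 : (Nat.card (centralizer ({σ * τ} : Set H)) : ℚ) ≠ 0 := by
    exact_mod_cast (Nat.card_pos (α := (centralizer ({σ * τ} : Set H)))).ne'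
  have h1' : (Nat.card H : ℚ) = (Nat.card {x : H // IsConj τ x} : ℚ) *
      (Nat.card (centralizer ({τ} : Set H)) : ℚ) := by
    rw [← h1]; push_cast; ring
  have h2' : (Nat.card H : ℚ) = (Nat.card {x : H // IsConj (σ * τ) x} : ℚ) *
      (Nat.card (centralizer ({σ * τ} : Set H)) : ℚ) := by
    rw [← h2]; push_cast; ring
  have e1 : (Nat.card H : ℚ) / (Nat.card (centralizer ({τ} : Set H)) : ℚ) =
      (Nat.card {x : H // IsConj τ x} : ℚ) := by
    rw [h1']; field_simp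
  have e2 : (Nat.card H : ℚ) / (Nat.card (centralizer ({σ * τ} : Set H)) : ℚ) =
      (Nat.card {x : H // IsConj (σ * τ) x} : ℚ) := by
    rw [h2']; field_simp
  rw [e1, e2]
  push_cast
  rfl

end Cfsg.Agent.Helper8.DihOrd
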