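import Mathlib
import Cfsg.Prelude.Def_Solvable
import Cfsg.Agent.Helper19.Cores
import Cfsg.Agent.Helper18.FocalFusion
import Cfsg.Agent.Helper16.CentSub

/-!
# The retraction onto a Sylow subgroup with a normal complement
-/

set_option autoImplicit false

namespace Cfsg.Agent.Helper8.DihOrd

open Subgroup Cfsg

variable {H : Type*} [Group H] [Finite H]

/-- If the index of `O_{2'}(H)` is the order of the Sylow 2-subgroup `Q`, then there is a
retraction of `H` onto `Q` with kernel `O_{2'}(H)`. -/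
theorem exists_retraction (Q : Sylow 2 H) (hidx : (pPrimeCore 2 H).index = Nat.card Q) :
    ∃ r : H →* H, (∀ u : H, r u ∈ (Q : Subgroup H)) ∧ (∀ x ∈ (Q : Subgroup H), r x = x) ∧
      ∀ u : H, r u = 1 ↔ u ∈ pPrimeCore 2 H := by
  haveI : Fact (Nat.Prime 2) := ⟨Nat.prime_two⟩
  have hcop := Cfsg.Agent.Helper19.pPrimeCore_coprime (G := H) 2
  obtain ⟨n, hn⟩ := (Q.isPGroup').exists_card_eq
  have hc : (Q : Subgroup H).IsComplement' (pPrimeCore 2 H) := by
    apply isComplement'_of_coprime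
    · rw [← hidx, mul_comm]; exact Subgroup.card_mul_index _
    · rw [hn]; exact (Nat.Coprime.pow_right n hcop).symm
  refine ⟨(Q : Subgroup H).subtype.comp
    ((hc.QuotientMulEquiv).toMonoidHom.comp (QuotientGroup.mk' (pPrimeCore 2 H))), ?_, ?_, ?_⟩
  · intro u
    exact Subtype.property _
  · intro x hx
    have h1 : hc.QuotientMulEquiv ((QuotientGroup.mk' (pPrimeCore 2 H)) x) = ⟨x, hx⟩ := by
      have h2 : hc.QuotientMulEquiv.symm ⟨x, hx⟩ = (QuotientGroup.mk' (pPrimeCore 2 H)) x := rfl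
      exact ((MulEquiv.symm_apply_eq _).mp h2).symm
    show ((hc.QuotientMulEquiv ((QuotientGroup.mk' (pPrimeCore 2 H)) x) : (Q : Subgroup H)) : H) = x
    rw [h1]
  · intro u
    show ((hc.QuotientMulEquiv ((QuotientGroup.mk' (pPrimeCore 2 H)) u) : (Q : Subgroup H)) : H) = 1
      ↔ u ∈ pPrimeCore 2 H
    rw [OneMemClass.coe_eq_one, MulEquiv.map_eq_one_iff, QuotientGroup.mk'_apply,
      QuotientGroup.eq_one_iff]

/-- Every 2-element is conjugate into a given Sylow 2-subgroup. -/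
theorem exists_conj_mem (Q : Sylow 2 H) (x : H) (hx : ∃ k : ℕ, orderOf x = 2 ^ k) :
    ∃ g : H, g⁻¹ * x * g ∈ (Q : Subgroup H) := by
  haveI : Fact (Nat.Prime 2) := ⟨Nat.prime_two⟩
  obtain ⟨k, hk⟩ := hx
  have hR : IsPGroup 2 (zpowers x) := by
    apply IsPGroup.of_card (n := k)
    rw [Nat.card_zpowers, hk]
  obtain ⟨P', hP'⟩ := hR.exists_le_sylow
  obtain ⟨g, hg⟩ := MulAction.exists_smul_eq H Q P'
  refine ⟨g, ?_⟩
  have : x ∈ ((g • Q : Sylow 2 H) : Subgroup H) := by rw [hg]; exact hP' (mem_zpowers x)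
  exact (Cfsg.Agent.Helper16.CentSub.mem_smul_sylow Q g x).mp this

/-- A class function which is constant along the odd-order part of the centralizer of every
element of the Sylow subgroup factors through the retraction. -/
theorem eq_retraction (Q : Sylow 2 H) (r : H →* H) (hrange : ∀ u : H, r u ∈ (Q : Subgroup H))
    (hretr : ∀ x ∈ (Q : Subgroup H), r x = x) {A : Type*} (F : H → A)
    (hF : ∀ g u : H, F (g * u * g⁻¹) = F u)
    (hsec : ∀ p ∈ (Q : Subgroup H), ∀ ρ : H, p * ρ = ρ * p → Odd (orderOf ρ) → F (p * ρ) = F p)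
    (u : H) : F u = F (r u) := by
  haveI : Fact (Nat.Prime 2) := ⟨Nat.prime_two⟩
  obtain ⟨x, y, huxy, hx, hy, hxo, hcop⟩ := Cfsg.Agent.Helper18.exists_pPart_decomp 2 u
  have hyodd : Odd (orderOf y) := Nat.Coprime.odd_of_right hcop
  -- `r y = 1`
  have hry : r y = 1 := by
    obtain ⟨j, hj⟩ := (Q.isPGroup') ⟨r y, hrange y⟩
    have h2 : (r y) ^ 2 ^ j = 1 := by
      have := congrArg Subtype.val hj
      simpa using this
    have h3 : orderOf (r y) ∣ 2 ^ j := orderOf_dvd_of_pow_eq_one h2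
    have h4 : orderOf (r y) ∣ orderOf y := orderOf_map_dvd r y
    have h5 : (orderOf y).Coprime (2 ^ j) := Nat.Coprime.pow_right j hcop
    exact orderOf_eq_one_iff.mp (Nat.eq_one_of_dvd_coprimes h5 h4 h3)
  -- `x` is conjugate to `π₀ ∈ Q`
  obtain ⟨g, hg⟩ := exists_conj_mem Q x hxo
  have hxy : x * y = y * x := by
    obtain ⟨a, rfl⟩ := mem_zpowers_iff.mp hx
    obtain ⟨b, rfl⟩ := mem_zpowers_iff.mp hy
    rw [← zpow_add, ← zpow_add, add_comm]
  have h1 : F u = F (g⁻¹ * x * g) := by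
    have h2 : u = g * (g⁻¹ * x * g * (g⁻¹ * y * g)) * g⁻¹ := by rw [huxy]; group
    rw [h2, hF]
    apply hsec _ hg
    · calc g⁻¹ * x * g * (g⁻¹ * y * g) = g⁻¹ * (x * y) * g := by group
        _ = g⁻¹ * (y * x) * g := by rw [hxy]
        _ = g⁻¹ * y * g * (g⁻¹ * x * g) := by group
    · have : orderOf (g⁻¹ * y * g) = orderOf y := by
        have := MulEquiv.orderOf_eq (MulAut.conj g⁻¹) y
        rwa [MulAut.conj_apply, inv_inv] at this
      rw [this]; exact hyodd
  have h2 : r u = r g * (g⁻¹ * x * g) * (r g)⁻¹ := by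
    rw [huxy, map_mul, hry, mul_one]
    have h3 : x = g * (g⁻¹ * x * g) * g⁻¹ := by group
    nth_rewrite 1 [h3]
    rw [map_mul, map_mul, map_inv, hretr _ hg]
  rw [h1, h2, hF]

end Cfsg.Agent.Helper8.DihOrd
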