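import Mathlib
import Cfsg.Agent.Helper5.ClassMul
import Cfsg.Agent.Helper24.Orthogonality
import Cfsg.Agent.Helper24.Regular
import Cfsg.Agent.Helper8.DihOrdB

/-!
# The sum of an irreducible character over products of two involutions (one class)
-/

set_option autoImplicit false

namespace Cfsg.Agent.Helper8.DihOrd

open Cfsg Cfsg.Agent.Helper24 Cfsg.Agent.Helper5 Cfsg.Agent.Helper5.CC Finset

variable {G : Type*} [Group G] [Fintype G] [DecidableEq G] [Fintype (IrrCharacter G)]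

theorem sum_irr_pairs (z : G) (hz : orderOf z = 2) (hone : ∀ s : G, orderOf s = 2 → IsConj z s)
    (ψ : IrrCharacter G) :
    ∑ s ∈ invs G, ∑ t ∈ invs G, (ψ : G → ℂ) (s * t) =
      ((Subgroup.centralizer ({z} : Set G)).index : ℂ) ^ 2 * (ψ : G → ℂ) z ^ 2 /
        (ψ : G → ℂ) 1 := by
  classical
  have hinv : ∀ s : G, s ∈ invs G ↔ IsConj z s := by
    intro s
    rw [mem_invs]
    constructor
    · exact hone s
    · intro h
      obtain ⟨c, rfl⟩ := isConj_iff.mp h
      have := MulEquiv.orderOf_eq (MulAut.conj c) z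
      rw [MulAut.conj_apply] at this
      rw [this, hz]
  have hg : (Nat.card G : ℂ) ≠ 0 := by exact_mod_cast (Nat.card_pos (α := G)).ne'
  have hmul : ∀ u : G, (Nat.card {t : G // IsConj z t ∧ IsConj z (t⁻¹ * u)} : ℂ) =
      (Nat.card G : ℂ)⁻¹ * ∑ χ : IrrCharacter G,
        centralChar (χ : G → ℂ) z * centralChar (χ : G → ℂ) z *
          ((χ : G → ℂ) 1 * (starRingEnd ℂ) ((χ : G → ℂ) u)) := by
    intro u
    rw [← Cfsg.Agent.Helper5.ClassMul.conv_classIndicator_apply,
      Cfsg.Agent.Helper5.ClassMul.conv_classIndicator_eq]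
  -- the left side as a sum over `u`
  have hL : ∑ s ∈ invs G, ∑ t ∈ invs G, (ψ : G → ℂ) (s * t) =
      ∑ u : G, (Nat.card {t : G // IsConj z t ∧ IsConj z (t⁻¹ * u)} : ℂ) * (ψ : G → ℂ) u := by
    have h1 : ∀ u : G, (Nat.card {t : G // IsConj z t ∧ IsConj z (t⁻¹ * u)} : ℂ) =
        ∑ t : G, if (IsConj z t ∧ IsConj z (t⁻¹ * u)) then 1 else 0 := by
      intro u
      rw [Finset.sum_boole, Nat.card_eq_fintype_card, Fintype.card_subtype]
    simp only [h1, Finset.sum_mul]
    have hR : ∑ u : G, ∑ t : G, (if (IsConj z t ∧ IsConj z (t⁻¹ * u)) then (1 : ℂ) else 0) *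
        (ψ : G → ℂ) u = ∑ t : G, ∑ u : G,
          (if (IsConj z t ∧ IsConj z (t⁻¹ * u)) then (1 : ℂ) else 0) * (ψ : G → ℂ) u :=
      Finset.sum_comm
    rw [hR]
    have hI : invs G = Finset.univ.filter (fun s => IsConj z s) := by
      ext s
      rw [hinv, Finset.mem_filter]
      exact ⟨fun h => ⟨Finset.mem_univ _, h⟩, fun h => h.2⟩
    rw [hI, Finset.sum_filter]
    refine Finset.sum_congr rfl fun s _ => ?_
    by_cases hs : IsConj z s
    · rw [if_pos hs, Finset.sum_filter]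
      symm
      refine Fintype.sum_equiv (Equiv.mulLeft s⁻¹) _ _ ?_
      intro u
      show (if (IsConj z s ∧ IsConj z (s⁻¹ * u)) then (1 : ℂ) else 0) * (ψ : G → ℂ) u =
        if IsConj z (s⁻¹ * u) then (ψ : G → ℂ) (s * (s⁻¹ * u)) else 0
      by_cases hu : IsConj z (s⁻¹ * u)
      · rw [if_pos ⟨hs, hu⟩, if_pos hu, one_mul, mul_inv_cancel_left]
      · rw [if_neg (fun h => hu h.2), if_neg hu, zero_mul]
    · rw [if_neg hs]
      symm
      refine Finset.sum_eq_zero fun u _ => ?_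
      rw [if_neg (fun h => hs h.1), zero_mul]
  rw [hL]
  simp only [hmul, Finset.mul_sum, Finset.sum_mul]
  rw [Finset.sum_comm]
  have hterm : ∀ χ : IrrCharacter G, ∑ u : G, (Nat.card G : ℂ)⁻¹ *
      (centralChar (χ : G → ℂ) z * centralChar (χ : G → ℂ) z *
        ((χ : G → ℂ) 1 * (starRingEnd ℂ) ((χ : G → ℂ) u))) * (ψ : G → ℂ) u =
      centralChar (χ : G → ℂ) z * centralChar (χ : G → ℂ) z * (χ : G → ℂ) 1 *
        classInner (ψ : G → ℂ) (χ : G → ℂ) := by
    intro χ
    unfold classInner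
    rw [Finset.mul_sum, Finset.mul_sum]
    refine Finset.sum_congr rfl fun u _ => ?_
    ring
  rw [Finset.sum_congr rfl fun χ _ => hterm χ]
  rw [Finset.sum_eq_single ψ]
  · rw [classInner_irr_self, mul_one]
    have h1 : (ψ : G → ℂ) 1 ≠ 0 := irr_one_ne_zero ψ
    unfold centralChar
    field_simp
  · intro χ _ hχ
    rw [classInner_irr_ne (Ne.symm hχ), mul_zero]
  · intro h
    exact absurd (Finset.mem_univ ψ) h

end Cfsg.Agent.Helper8.DihOrd
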