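import Mathlib
import Cfsg.Agent.Helper11.DihedralLift

/-!
# A subgroup generated by a dihedral pair is dihedral
-/

set_option autoImplicit false

namespace Cfsg.Agent.Helper8.DihOrd

open Subgroup Cfsg.Agent.Helper11

variable {G : Type*} [Group G]

theorem exists_equiv_of_gens (P : Subgroup G) (q : ℕ) (hq : 3 ≤ q) (σ τ : G) (hσ : σ ∈ P)
    (hτ : τ ∈ P) (hσo : orderOf σ = q) (hτo : orderOf τ = 2) (hrel : τ * σ * τ⁻¹ = σ⁻¹)
    (hgen : closure ({σ, τ} : Set G) = P) :
    Nonempty (P ≃* DihedralGroup q) ∧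
      ∀ y ∈ P, (∃ i : ℕ, y = σ ^ i) ∨ (∃ i : ℕ, y = τ * σ ^ i) := by
  haveI : NeZero q := ⟨by omega⟩
  have hb : τ * τ = 1 := by
    have := pow_orderOf_eq_one τ
    rwa [hτo, pow_two] at this
  have hτinv : τ⁻¹ = τ := inv_eq_of_mul_eq_one_left hb
  have hab : τ * σ * τ = σ⁻¹ := by rwa [hτinv] at hrel
  have ha : σ ^ q = 1 := by rw [← hσo]; exact pow_orderOf_eq_one σ
  have hσ2 : σ * σ ≠ 1 := by
    intro h1
    have h2 : orderOf σ ∣ 2 := orderOf_dvd_of_pow_eq_one (by rw [pow_two]; exact h1)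
    rw [hσo] at h2
    have := Nat.le_of_dvd (by norm_num) h2
    omega
  have hba : τ ∉ zpowers σ := by
    intro h1
    obtain ⟨k, hk⟩ := mem_zpowers_iff.mp h1
    have h2 : τ * σ = σ * τ := by
      rw [← hk, ← zpow_add_one, ← zpow_one_add]
      congr 1
      ring
    rw [h2, mul_inv_cancel_right] at hrel
    apply hσ2
    nth_rewrite 1 [hrel]
    exact inv_mul_cancel σ
  have hinj := dihedralLift_injective q σ τ ha hb hab hσo hba
  have hmemr : ∀ i : ZMod q, (zmodPow q σ ha i).toMul = σ ^ i.val := by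
    intro i
    rw [zmodPow_eq_zpow, ← ZMod.natCast_val, zpow_natCast]
  have hrange : (dihedralLift q σ τ ha hb hab).range = P := by
    apply le_antisymm
    · rintro _ ⟨x, rfl⟩
      rcases x with i | i
      · rw [dihedralLift_r, hmemr]
        exact pow_mem hσ _
      · rw [dihedralLift_sr, hmemr]
        exact mul_mem hτ (pow_mem hσ _)
    · rw [← hgen, closure_le]
      intro y hy
      rcases hy with rfl | hy
      · refine ⟨DihedralGroup.r 1, ?_⟩
        rw [dihedralLift_r]
        have := zmodPow_intCast q y ha 1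
        rwa [Int.cast_one, zpow_one] at this
      · rw [Set.mem_singleton_iff] at hy
        subst hy
        refine ⟨DihedralGroup.sr 0, ?_⟩
        rw [dihedralLift_sr, zmodPow_zero, mul_one]
  constructor
  · exact ⟨((MonoidHom.ofInjective hinj).trans (MulEquiv.subgroupCongr hrange)).symm⟩
  · intro y hy
    rw [← hrange] at hy
    obtain ⟨x, rfl⟩ := hy
    rcases x with i | i
    · left
      exact ⟨i.val, by rw [dihedralLift_r, hmemr]⟩
    · right
      exact ⟨i.val, by rw [dihedralLift_sr, hmemr]⟩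

end Cfsg.Agent.Helper8.DihOrd
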