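import Mathlib
import Cfsg.Agent.Helper8.DihOrdB

/-!
# Transfer between a group and the centralizer of an involution
-/

set_option autoImplicit false

namespace Cfsg.Agent.Helper8.DihOrd

open Finset Subgroup

variable {G : Type*} [Group G] [Fintype G] [DecidableEq G]

/-- a sum over the involutions of `G` of a function vanishing outside the subgroup `C` -/
theorem sum_invs_subgroup (C : Subgroup G) [Fintype C] [DecidableEq C] {A : Type*}
    [AddCommMonoid A] (h : G → A) (hh : ∀ s ∈ invs G, s ∉ C → h s = 0) :
    ∑ s ∈ invs G, h s = ∑ s ∈ invs C, h (s : G) := by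
  classical
  have h1 : ∑ s ∈ invs G, h s = ∑ s ∈ (invs G).filter (fun s => s ∈ C), h s := by
    symm
    apply Finset.sum_subset (Finset.filter_subset _ _)
    intro s hs hs'
    apply hh s hs
    intro hC
    exact hs' (Finset.mem_filter.mpr ⟨hs, hC⟩)
  rw [h1]
  symm
  refine Finset.sum_bij (fun a _ => (a : G)) ?_ ?_ ?_ ?_
  · intro a ha
    rw [Finset.mem_filter, mem_invs]
    rw [mem_invs] at ha
    exact ⟨by rw [Subgroup.orderOf_coe]; exact ha, a.2⟩
  · intro a _ b _ hab
    exact Subtype.ext hab
  · intro b hb
    rw [Finset.mem_filter, mem_invs] at hb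
    refine ⟨⟨b, hb.2⟩, ?_, rfl⟩
    rw [mem_invs, ← Subgroup.orderOf_coe]
    exact hb.1
  · intro a _
    rfl

omit [Fintype G] [DecidableEq G] in
theorem coe_mem_zpowers (C : Subgroup G) (w u : C) :
    (w : G) ∈ zpowers (u : G) ↔ w ∈ zpowers u := by
  rw [mem_zpowers_iff, mem_zpowers_iff]
  constructor
  · rintro ⟨k, hk⟩
    exact ⟨k, Subtype.ext (by rw [Subgroup.coe_zpow]; exact hk)⟩
  · rintro ⟨k, hk⟩
    exact ⟨k, by rw [← hk, Subgroup.coe_zpow]⟩

omit [Fintype G] [DecidableEq G] in
/-- the centralizer of `y` inside the centralizer of `z` -/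
theorem card_centralizer_in_centralizer (z y : G)
    (hy : y ∈ centralizer ({z} : Set G)) :
    Nat.card (centralizer ({(⟨y, hy⟩ : centralizer ({z} : Set G))} :
      Set (centralizer ({z} : Set G)))) = Nat.card (centralizer ({z, y} : Set G)) := by
  have hmap : (centralizer ({(⟨y, hy⟩ : centralizer ({z} : Set G))} :
      Set (centralizer ({z} : Set G)))).map (centralizer ({z} : Set G)).subtype =
      centralizer ({z, y} : Set G) := by
    ext x
    rw [Subgroup.mem_map]
    constructor
    · rintro ⟨c, hc, rfl⟩
      rw [mem_centralizer_iff] at hc ⊢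
      intro w hw
      rcases hw with rfl | hw
      · have := c.2
        rw [mem_centralizer_iff] at this
        exact this w (Set.mem_singleton w)
      · rw [Set.mem_singleton_iff] at hw
        subst hw
        have := hc ⟨w, hy⟩ (Set.mem_singleton _)
        exact congrArg Subtype.val this
    · intro hx
      rw [mem_centralizer_iff] at hx
      have hxC : x ∈ centralizer ({z} : Set G) := by
        rw [mem_centralizer_iff]
        intro w hw
        rw [Set.mem_singleton_iff] at hw
        subst hw
        exact hx w (Set.mem_insert _ _)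
      refine ⟨⟨x, hxC⟩, ?_, rfl⟩
      rw [mem_centralizer_iff]
      intro w hw
      rw [Set.mem_singleton_iff] at hw
      subst hw
      apply Subtype.ext
      exact hx y (Set.mem_insert_of_mem _ (Set.mem_singleton y))
  rw [← hmap, Subgroup.card_map_of_injective (Subgroup.subtype_injective _)]

end Cfsg.Agent.Helper8.DihOrd
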