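import Mathlib
import Cfsg.Agent.Helper8.DihOrdE
import Cfsg.Agent.Helper8.DihOrdF
import Cfsg.Agent.Helper8.DihOrdI

/-!
# The sum over pairs of involutions: the group-theoretic evaluation
-/

set_option autoImplicit false

namespace Cfsg.Agent.Helper8.DihOrd

open Finset Subgroup Cfsg

variable {G : Type*} [Group G] [Fintype G] [DecidableEq G]

/-- the retraction data for the centralizer of the central involution -/
theorem exists_ret (P : Sylow 2 G) (q : ℕ) (hq : 4 ≤ q) (heven : 2 ∣ q) (σ τ : G)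
    (hσ : σ ∈ (P : Subgroup G)) (hτ : τ ∈ (P : Subgroup G)) (hσo : orderOf σ = q)
    (hτ2 : τ * τ = 1) (hrel : τ * σ * τ⁻¹ = σ⁻¹)
    (helems : ∀ y ∈ (P : Subgroup G), (∃ i : ℕ, y = σ ^ i) ∨ (∃ i : ℕ, y = τ * σ ^ i))
    (hcard : Nat.card P = 2 * q)
    (C : Subgroup G) (hC : C = centralizer ({σ ^ (q / 2)} : Set G))
    (hidx : (pPrimeCore 2 ↥C).index = 2 * q) :
    ∃ (hσC : σ ∈ C) (hτC : τ ∈ C) (hPC : (P : Subgroup G) ≤ C) (r : C →* C),
      Ret ((P.subtype hPC : Sylow 2 C) : Subgroup C) ⟨σ, hσC⟩ ⟨τ, hτC⟩ q (pPrimeCore 2 ↥C) r := by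
  haveI : Fact (Nat.Prime 2) := ⟨Nat.prime_two⟩
  have hmemC : ∀ y : G, y ∈ C ↔ y * σ ^ (q / 2) = σ ^ (q / 2) * y := by
    intro y
    rw [hC, mem_centralizer_iff]
    constructor
    · intro h; exact (h _ (Set.mem_singleton _)).symm
    · intro h w hw
      rw [Set.mem_singleton_iff] at hw
      rw [hw]; exact h.symm
  have hz2 : σ ^ (q / 2) * σ ^ (q / 2) = 1 := by
    rw [← pow_add, show q / 2 + q / 2 = q by omega, ← hσo, pow_orderOf_eq_one]
  have hσC : σ ∈ C := by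
    rw [hmemC, ← pow_succ', ← pow_succ]
  have hτinv : τ⁻¹ = τ := inv_eq_of_mul_eq_one_left hτ2
  have hτC : τ ∈ C := by
    rw [hmemC]
    have h1 : τ * σ ^ (q / 2) * τ⁻¹ = (σ ^ (q / 2))⁻¹ := by
      rw [← conj_pow, hrel, inv_pow]
    have h2 : (σ ^ (q / 2))⁻¹ = σ ^ (q / 2) := inv_eq_of_mul_eq_one_left hz2
    rw [h2] at h1
    calc τ * σ ^ (q / 2) = τ * σ ^ (q / 2) * τ⁻¹ * τ := by group
      _ = σ ^ (q / 2) * τ := by rw [h1]
  have hPC : (P : Subgroup G) ≤ C := by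
    intro y hy
    rcases helems y hy with ⟨i, rfl⟩ | ⟨i, rfl⟩
    · exact pow_mem hσC i
    · exact mul_mem hτC (pow_mem hσC i)
  have hScard : Nat.card (P.subtype hPC : Sylow 2 C) = 2 * q := by
    rw [← hcard]
    exact Nat.card_congr (Subgroup.subgroupOfEquivOfLe hPC).toEquiv
  obtain ⟨r, hr1, hr2, hr3⟩ := exists_retraction (P.subtype hPC : Sylow 2 C)
    (by rw [hidx, hScard])
  refine ⟨hσC, hτC, hPC, r, ?_⟩
  have hmemQ : ∀ y : C, y ∈ ((P.subtype hPC : Sylow 2 C) : Subgroup C) ↔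
      (y : G) ∈ (P : Subgroup G) := by
    intro y
    rw [Sylow.coe_subtype, mem_subgroupOf]
  refine ⟨hq, heven, (P.subtype hPC).isPGroup', (hmemQ _).mpr hσ, (hmemQ _).mpr hτ, ?_, ?_, ?_, ?_,
    ?_, ?_, hr1, hr2, hr3⟩
  · rw [← hσo, ← Subgroup.orderOf_coe]
  · exact Subtype.ext hτ2
  · exact Subtype.ext hrel
  · intro y hy
    rcases helems (y : G) ((hmemQ y).mp hy) with ⟨i, hi⟩ | ⟨i, hi⟩
    · left
      exact ⟨i, Subtype.ext (by rw [hi]; rfl)⟩
    · right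
      exact ⟨i, Subtype.ext (by rw [hi]; rfl)⟩
  · intro y
    apply Subtype.ext
    exact (hmemC y).mp y.2
  · exact Nat.Coprime.odd_of_right (Cfsg.Agent.Helper19.pPrimeCore_coprime (G := ↥C) 2)

end Cfsg.Agent.Helper8.DihOrd
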