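import Mathlib
import Cfsg.Agent.Helper8.DihOrdJ

/-!
# The sum over pairs of involutions: the group-theoretic evaluation, final form
-/

set_option autoImplicit false

namespace Cfsg.Agent.Helper8.DihOrd

open Finset Subgroup Cfsg

variable {G : Type*} [Group G] [Fintype G] [DecidableEq G]

theorem group_side (P : Sylow 2 G) (q : ℕ) (hq : 4 ≤ q) (heven : 2 ∣ q) (σ τ : G)
    (hσ : σ ∈ (P : Subgroup G)) (hτ : τ ∈ (P : Subgroup G)) (hσo : orderOf σ = q)
    (hτ2 : τ * τ = 1) (hrel : τ * σ * τ⁻¹ = σ⁻¹)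
    (helems : ∀ y ∈ (P : Subgroup G), (∃ i : ℕ, y = σ ^ i) ∨ (∃ i : ℕ, y = τ * σ ^ i))
    (hcard : Nat.card P = 2 * q)
    (hidx : (pPrimeCore 2 ↥(centralizer ({σ ^ (q / 2)} : Set G))).index = 2 * q)
    (hone : ∀ s : G, orderOf s = 2 → IsConj (σ ^ (q / 2)) s)
    (ζ : ℂ) (hζ : IsPrimitiveRoot ζ q) (F : G → ℂ) (hF : ∀ g u : G, F (g * u * g⁻¹) = F u)
    (hsec : ∀ p ∈ (P : Subgroup G), ∀ ρ : G, p * ρ = ρ * p → Odd (orderOf ρ) → F (p * ρ) = F p)
    (hFσ : ∀ l : ℕ, F (σ ^ l) = 2 - ζ ^ l - (ζ ^ l)⁻¹) :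
    ∑ s ∈ invs G, ∑ t ∈ invs G, F (s * t) =
      ((invs G).card : ℂ) * (2 *
        ((Nat.card (centralizer ({σ ^ (q / 2)} : Set G)) : ℂ) /
            (Nat.card (centralizer ({σ ^ (q / 2), τ} : Set G)) : ℂ) +
          (Nat.card (centralizer ({σ ^ (q / 2)} : Set G)) : ℂ) /
            (Nat.card (centralizer ({σ ^ (q / 2), σ * τ} : Set G)) : ℂ)) ^ 2) := by
  classical
  have hodd : ∀ u : G, Odd (orderOf u) → F u = 0 := by
    intro u hu
    have h1 := hsec 1 (one_mem _) u (by rw [one_mul, mul_one]) hu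
    rw [one_mul] at h1
    rw [h1, ← pow_zero σ, hFσ, pow_zero, inv_one]
    norm_num
  rw [sum_pairs_eq (σ ^ (q / 2)) hone F hF hodd]
  congr 1
  obtain ⟨C, hC⟩ : ∃ C : Subgroup G, C = centralizer ({σ ^ (q / 2)} : Set G) := ⟨_, rfl⟩
  rw [← hC] at hidx ⊢
  obtain ⟨hσC, hτC, hPC, r, R⟩ := exists_ret P q hq heven σ τ hσ hτ hσo hτ2 hrel helems hcard C hC
    hidx
  have hmemC : ∀ y : G, y ∈ C ↔ y * σ ^ (q / 2) = σ ^ (q / 2) * y := by
    intro y
    rw [hC, mem_centralizer_iff]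
    constructor
    · intro h; exact (h _ (Set.mem_singleton _)).symm
    · intro h w hw
      rw [Set.mem_singleton_iff] at hw
      rw [hw]; exact h.symm
  -- an involution inverting an element centralizes the involution it generates
  have hcent : ∀ s t : G, s * s = 1 → t * t = 1 → σ ^ (q / 2) ∈ zpowers (s * t) →
      s ∈ C ∧ t ∈ C := by
    intro s t hs2 ht2 hz
    have hz2 : σ ^ (q / 2) * σ ^ (q / 2) = 1 := by
      have := R.z_sq
      have h1 := congrArg Subtype.val this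
      simpa using h1
    have hzinv : (σ ^ (q / 2))⁻¹ = σ ^ (q / 2) := inv_eq_of_mul_eq_one_left hz2
    obtain ⟨k, hk⟩ := mem_zpowers_iff.mp hz
    have hsinv : s⁻¹ = s := inv_eq_of_mul_eq_one_left hs2
    have htinv : t⁻¹ = t := inv_eq_of_mul_eq_one_left ht2
    have h1 : s * (s * t) * s⁻¹ = (s * t)⁻¹ := by
      rw [mul_inv_rev, hsinv, htinv]
      calc s * (s * t) * s = (s * s) * t * s := by group
        _ = t * s := by rw [hs2, one_mul]
    have h2 : t * (s * t) * t⁻¹ = (s * t)⁻¹ := by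
      rw [mul_inv_rev, hsinv, htinv]
      calc t * (s * t) * t = t * s * (t * t) := by group
        _ = t * s := by rw [ht2, mul_one]
    have h3 : s * σ ^ (q / 2) * s⁻¹ = σ ^ (q / 2) := by
      rw [← hk, ← conj_zpow, h1, inv_zpow, hk, hzinv]
    have h4 : t * σ ^ (q / 2) * t⁻¹ = σ ^ (q / 2) := by
      rw [← hk, ← conj_zpow, h2, inv_zpow, hk, hzinv]
    constructor
    · rw [hmemC]
      calc s * σ ^ (q / 2) = s * σ ^ (q / 2) * s⁻¹ * s := by group
        _ = σ ^ (q / 2) * s := by rw [h3]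
    · rw [hmemC]
      calc t * σ ^ (q / 2) = t * σ ^ (q / 2) * t⁻¹ * t := by group
        _ = σ ^ (q / 2) * t := by rw [h4]
  have hinv2 : ∀ s : G, s ∈ invs G → s * s = 1 := by
    intro s hs
    rw [mem_invs] at hs
    have := pow_orderOf_eq_one s
    rwa [hs, pow_two] at this
  -- transfer the sum to `C`
  have htrans : ∑ s ∈ invs G, ∑ t ∈ invs G,
      (if σ ^ (q / 2) ∈ zpowers (s * t) then F (s * t) else 0) =
      ∑ s ∈ invs C, ∑ t ∈ invs C,
        (if (⟨σ, hσC⟩ : C) ^ (q / 2) ∈ zpowers (s * t) then F ((s * t : C) : G) else 0) := by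
    rw [sum_invs_subgroup C]
    · refine Finset.sum_congr rfl fun s hs => ?_
      rw [sum_invs_subgroup C]
      · refine Finset.sum_congr rfl fun t ht => ?_
        have hiff : σ ^ (q / 2) ∈ zpowers ((s : G) * (t : G)) ↔
            (⟨σ, hσC⟩ : C) ^ (q / 2) ∈ zpowers (s * t) := by
          rw [← coe_mem_zpowers]
          rfl
        by_cases hz : σ ^ (q / 2) ∈ zpowers ((s : G) * (t : G))
        · rw [if_pos hz, if_pos (hiff.mp hz)]
          rfl
        · rw [if_neg hz, if_neg (fun h => hz (hiff.mpr h))]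
      · intro t ht htC
        rw [if_neg]
        intro hz
        have hs' : (s : G) ∈ invs G := by
          rw [mem_invs, Subgroup.orderOf_coe]; exact mem_invs.mp hs
        exact htC (hcent _ _ (hinv2 _ hs') (hinv2 _ ht) hz).2
    · intro s hs hsC
      refine Finset.sum_eq_zero fun t ht => ?_
      rw [if_neg]
      intro hz
      exact hsC (hcent _ _ (hinv2 _ hs) (hinv2 _ ht) hz).1
  rw [htrans]
  -- the function on `C`
  have hFr : ∀ u : C, F (u : G) = F ((r u : C) : G) := by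
    apply eq_retraction (P.subtype hPC : Sylow 2 C) r R.range R.retr (fun u : C => F (u : G))
    · intro g u
      show F ((g * u * g⁻¹ : C) : G) = F (u : G)
      rw [Subgroup.coe_mul, Subgroup.coe_mul, Subgroup.coe_inv, hF]
    · intro p hp ρ hpρ hρ
      show F ((p * ρ : C) : G) = F (p : G)
      rw [Subgroup.coe_mul]
      apply hsec
      · rw [Sylow.coe_subtype, mem_subgroupOf] at hp
        exact hp
      · have := congrArg Subtype.val hpρ
        simpa using this
      · rw [Subgroup.orderOf_coe]; exact hρ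
  have hFσ' : ∀ l : ℕ, F (((⟨σ, hσC⟩ : C) ^ l : C) : G) = 2 - ζ ^ l - (ζ ^ l)⁻¹ := by
    intro l
    rw [Subgroup.coe_pow]
    exact hFσ l
  rw [R.sum_pairs (F := fun u : C => F (u : G)) hζ hFr hFσ']
  congr 1
  have hN := R.card_ncInvs
  subst hC
  have hc1 := card_centralizer_in_centralizer (σ ^ (q / 2)) τ hτC
  have hc2 := card_centralizer_in_centralizer (σ ^ (q / 2)) (σ * τ) (mul_mem hσC hτC)
  have hc2' : Nat.card (centralizer ({(⟨σ, hσC⟩ * ⟨τ, hτC⟩ :
      centralizer ({σ ^ (q / 2)} : Set G))} : Set (centralizer ({σ ^ (q / 2)} : Set G)))) =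
      Nat.card (centralizer ({σ ^ (q / 2), σ * τ} : Set G)) := hc2
  rw [hc1, hc2'] at hN
  have hN' := congrArg (fun x : ℚ => (x : ℂ)) hN
  simp only [Rat.cast_natCast, Rat.cast_add, Rat.cast_div] at hN'
  rw [hN']

end Cfsg.Agent.Helper8.DihOrd
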