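import Mathlib
import Cfsg.Agent.Helper8.DihOrdA
import Cfsg.Agent.Helper8.DihOrdK
import Cfsg.Agent.Helper8.DihOrdH
import Cfsg.Agent.Helper8.DihFinal

/-!
# Dihedral Sylow 2-subgroups with one class of involutions: the section values of the
principal block
-/

set_option autoImplicit false

namespace Cfsg.Agent.Helper8.DihOrd

open Finset Subgroup Cfsg Cfsg.Agent.Helper24 Cfsg.Agent.Helper5 Cfsg.Agent.Helper5.CC
open Cfsg.Agent.Helper8.DihSetup

variable {G : Type*} [Group G] [Fintype G] [DecidableEq G]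

/-- the group-theoretic hypotheses -/
structure DSetup (P : Sylow 2 G) (σ τ : G) (k : ℕ) : Prop where
  hk : 2 ≤ k
  hσ : σ ∈ (P : Subgroup G)
  hτ : τ ∈ (P : Subgroup G)
  hσo : orderOf σ = 2 ^ k
  hτ2 : τ * τ = 1
  hrel : τ * σ * τ⁻¹ = σ⁻¹
  helems : ∀ y ∈ (P : Subgroup G), (∃ i : ℕ, y = σ ^ i) ∨ (∃ i : ℕ, y = τ * σ ^ i)
  hequiv : Nonempty ((P : Subgroup G) ≃* DihedralGroup (2 ^ k))
  hconj : IsConj (σ ^ (2 ^ k / 2)) τ ∧ IsConj (σ ^ (2 ^ k / 2)) (σ * τ)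

variable {P : Sylow 2 G} {σ τ : G} {k : ℕ}

theorem DSetup.hq (S : DSetup P σ τ k) : 4 ≤ 2 ^ k := by
  calc 4 = 2 ^ 2 := by norm_num
    _ ≤ 2 ^ k := Nat.pow_le_pow_right (by norm_num) S.hk

theorem DSetup.heven (S : DSetup P σ τ k) : 2 ∣ 2 ^ k := dvd_pow_self 2 (by have := S.hk; omega)

theorem DSetup.ds (S : DSetup P σ τ k) : DS (P : Subgroup G) σ (2 ^ k) := by
  obtain ⟨e⟩ := S.hequiv
  exact ds_of_equiv _ _ (by have := S.hq; omega) e σ S.hσ S.hσo

theorem DSetup.hidx (S : DSetup P σ τ k) :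
    (pPrimeCore 2 ↥(centralizer ({σ ^ (2 ^ k / 2)} : Set G))).index = 2 * 2 ^ k := by
  obtain ⟨e⟩ := S.hequiv
  exact S.ds.index_pPrimeCore_centralizer_z (by have := S.hq; omega) S.heven e

/-- the facts about `P` obtained from the retraction structure on `C(z)` -/
theorem DSetup.facts (S : DSetup P σ τ k) :
    (∀ i : ℕ, σ ^ i * σ ^ i = 1 → σ ^ i ≠ 1 → σ ^ i = σ ^ (2 ^ k / 2)) ∧
    (∀ i : ℕ, IsConj τ (τ * σ ^ i) ∨ IsConj (σ * τ) (τ * σ ^ i)) ∧
    (∀ i : ℕ, τ * σ ^ i * (τ * σ ^ i) = 1) := by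
  classical
  haveI : Fintype ↥(centralizer ({σ ^ (2 ^ k / 2)} : Set G)) := Fintype.ofFinite _
  obtain ⟨hσC, hτC, hPC, r, R⟩ := exists_ret P (2 ^ k) S.hq S.heven σ τ S.hσ S.hτ S.hσo S.hτ2
    S.hrel S.helems S.ds.card _ rfl S.hidx
  refine ⟨?_, ?_, ?_⟩
  · intro i hi2 hi1
    have h1 := R.pow_invol (i := i) (Subtype.ext (by simpa using hi2))
      (fun h => hi1 (by simpa using congrArg Subtype.val h))
    simpa using congrArg Subtype.val h1
  · intro i
    rcases R.refl_isConj i with h1 | h1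
    · left
      have := (centralizer ({σ ^ (2 ^ k / 2)} : Set G)).subtype.map_isConj h1
      simpa using this
    · right
      have := (centralizer ({σ ^ (2 ^ k / 2)} : Set G)).subtype.map_isConj h1
      simpa using this
  · intro i
    have h1 := R.refl_sq i
    simpa using congrArg Subtype.val h1

/-- all involutions are conjugate to the central involution of `P` -/
theorem DSetup.hone (S : DSetup P σ τ k) (s : G) (hs : orderOf s = 2) :
    IsConj (σ ^ (2 ^ k / 2)) s := by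
  obtain ⟨h1, h2, -⟩ := S.facts
  obtain ⟨g, hg⟩ := exists_conj_mem P s ⟨1, by rw [hs, pow_one]⟩
  have hs2 : s * s = 1 := by
    have := pow_orderOf_eq_one s
    rwa [hs, pow_two] at this
  have hs1 : s ≠ 1 := by
    intro h
    rw [h, orderOf_one] at hs
    omega
  have hy2 : g⁻¹ * s * g * (g⁻¹ * s * g) = 1 := by
    calc g⁻¹ * s * g * (g⁻¹ * s * g) = g⁻¹ * (s * s) * g := by group
      _ = 1 := by rw [hs2]; group
  have hy1 : g⁻¹ * s * g ≠ 1 := by
    intro h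
    apply hs1
    have : s = g * (g⁻¹ * s * g) * g⁻¹ := by group
    rw [this, h]; group
  have hys : IsConj (g⁻¹ * s * g) s := by
    rw [isConj_iff]
    exact ⟨g, by group⟩
  rcases S.helems _ hg with ⟨i, hi⟩ | ⟨i, hi⟩
  · rw [hi] at hy2 hy1
    have := h1 i hy2 hy1
    rw [← hi] at this
    rw [← this]
    exact hys
  · rcases h2 i with h3 | h3
    · rw [← hi] at h3
      exact (S.hconj.1.trans h3).trans hys
    · rw [← hi] at h3
      exact (S.hconj.2.trans h3).trans hys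

/-- every non-identity element of `P` is conjugate to a non-identity power of `σ` -/
theorem DSetup.conj_pow (S : DSetup P σ τ k) {p : G} (hp : p ∈ (P : Subgroup G)) (hp1 : p ≠ 1) :
    ∃ l : ℕ, 0 < l ∧ l < 2 ^ k ∧ IsConj (σ ^ l) p := by
  obtain ⟨-, -, h3⟩ := S.facts
  have hq := S.hq
  rcases S.helems p hp with ⟨i, hi⟩ | ⟨i, hi⟩
  · refine ⟨i % 2 ^ k, ?_, Nat.mod_lt _ (by omega), ?_⟩
    · rcases Nat.eq_zero_or_pos (i % 2 ^ k) with h0 | h0
      · exfalso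
        apply hp1
        rw [hi, ← pow_mod_orderOf, S.hσo, h0, pow_zero]
      · exact h0
    · have h4 : σ ^ i = σ ^ (i % 2 ^ k) := by rw [← S.hσo, pow_mod_orderOf]
      rw [hi, h4]
  · refine ⟨2 ^ k / 2, by omega, by omega, ?_⟩
    apply S.hone
    rw [orderOf_eq_prime_iff, pow_two]
    exact ⟨by rw [hi]; exact h3 i, hp1⟩

variable [Fintype (IrrCharacter G)] {M : Ideal AlgInt}

/-- the section property of the characters of the principal block -/
theorem DSetup.sec (S : DSetup P σ τ k) (hM : IsPModular 2 M) (ψ : IrrCharacter G)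
    (hψ : ψ ∈ principalBlock M G) {p : G} (hp : p ∈ (P : Subgroup G)) (hp1 : p ≠ 1) (ρ : G)
    (hpρ : p * ρ = ρ * p) (hρ : Odd (orderOf ρ)) :
    (ψ : G → ℂ) (p * ρ) = (ψ : G → ℂ) p := by
  haveI : Fact (Nat.Prime 2) := ⟨Nat.prime_two⟩
  obtain ⟨l, hl0, hl, hc⟩ := S.conj_pow hp hp1
  obtain ⟨g, hg⟩ := isConj_iff.mp hc
  obtain ⟨e⟩ := S.hequiv
  have hx : ∃ j : ℕ, orderOf (σ ^ l) = 2 ^ j := by
    have h1 : orderOf (σ ^ l) ∣ 2 ^ k := by rw [← S.hσo]; exact orderOf_pow_dvd l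
    obtain ⟨j, -, hj⟩ := (Nat.dvd_prime_pow Nat.prime_two).mp h1
    exact ⟨j, hj⟩
  have hnc : ∃ j : ℕ, (pPrimeCore 2 ↥(centralizer ({σ ^ l} : Set G))).index = 2 ^ j := by
    rw [S.ds.index_pPrimeCore_pow k S.hk rfl e hl0 hl]
    split_ifs
    · exact ⟨k + 1, by rw [pow_succ']⟩
    · exact ⟨k, rfl⟩
  have hρ' : ¬ 2 ∣ orderOf (g⁻¹ * ρ * g) := by
    have : orderOf (g⁻¹ * ρ * g) = orderOf ρ := by
      have := MulEquiv.orderOf_eq (MulAut.conj g⁻¹) ρ
      rwa [MulAut.conj_apply, inv_inv] at this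
    rw [this, ← even_iff_two_dvd, Nat.not_even_iff_odd]
    exact hρ
  have hcomm : σ ^ l * (g⁻¹ * ρ * g) = g⁻¹ * ρ * g * σ ^ l := by
    have h1 : σ ^ l = g⁻¹ * p * g := by rw [← hg]; group
    rw [h1]
    calc g⁻¹ * p * g * (g⁻¹ * ρ * g) = g⁻¹ * (p * ρ) * g := by group
      _ = g⁻¹ * (ρ * p) * g := by rw [hpρ]
      _ = g⁻¹ * ρ * g * (g⁻¹ * p * g) := by group
  have h1 := principal_section_const hM (σ ^ l) hx hnc ψ hψ (g⁻¹ * ρ * g) hcomm hρ'
  have h2 : p * ρ = g * (σ ^ l * (g⁻¹ * ρ * g)) * g⁻¹ := by rw [← hg]; group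
  rw [h2, isClassFunction_irr ψ _ g, h1, ← hg, isClassFunction_irr ψ _ g]

end Cfsg.Agent.Helper8.DihOrd
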