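import Mathlib
import Cfsg.Agent.Helper8.DihOrdL
import Cfsg.Agent.Helper8.DihOrdG

/-!
# Brauer's order formula for dihedral Sylow 2-subgroups with one class of involutions
-/

set_option autoImplicit false

namespace Cfsg.Agent.Helper8.DihOrd

open Finset Subgroup Cfsg Cfsg.Agent.Helper24 Cfsg.Agent.Helper5 Cfsg.Agent.Helper5.CC
open Cfsg.Agent.Helper8.DihSetup Cfsg.Agent.Helper8.DihMain

variable {G : Type*} [Group G] [Fintype G] [DecidableEq G] [Fintype (IrrCharacter G)]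
variable {P : Sylow 2 G} {σ τ : G} {k : ℕ} {M : Ideal AlgInt}

/-- identification of the character `χ₁` -/
theorem identify {ζ : ℂ} {a : IrrCharacter G → ℕ → ℤ}
    (D : Data M σ ζ (2 ^ k) (2 ^ (k - 1)) a)
    {χ₁ χ₂ χ₃ : IrrCharacter G} {f : Fin (2 ^ (k - 1) - 1) → IrrCharacter G} {δ₁ sa sb : ℤ}
    (C : Core a (2 ^ (k - 1)) χ₁ χ₂ χ₃ f δ₁ sa sb)
    (χ : IrrCharacter G) (hχ : χ ∈ principalBlock M G) (h1 : χ ≠ trivIrr G) (δ : ℤ)
    (hδ : δ = 1 ∨ δ = -1)
    (hval : ∀ l : ℕ, 0 < l → l < 2 ^ k → (χ : G → ℂ) (σ ^ l) = δ) :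
    χ = χ₁ ∧ δ = δ₁ := by
  have hm := D.hm
  have hmh := D.hmh
  have hh2 := D.hh2
  have hone : ∀ {s : ℤ}, (s = 1 ∨ s = -1) → ∀ {χ' : IrrCharacter G},
      (∀ l : ℕ, 0 < l → l < 2 ^ k → (χ' : G → ℂ) (σ ^ l) = ((-s : ℤ) : ℂ) * (-1) ^ (l + 1)) →
      χ = χ' → False := by
    intro s hs χ' hv h
    have e1 := hv 1 (by norm_num) (by omega)
    have e2 := hv 2 (by norm_num) (by omega)
    rw [← h, hval 1 (by norm_num) (by omega)] at e1
    rw [← h, hval 2 (by norm_num) (by omega)] at e2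
    rw [e1] at e2
    rcases hs with rfl | rfl <;> norm_num at e2
  rcases (C.mem_iff D χ).mp hχ with h | h | h | h | ⟨j, h⟩
  · exact absurd h h1
  · refine ⟨h, ?_⟩
    have e1 := C.value_one D (l := 1) (by norm_num) (by omega)
    rw [← h, hval 1 (by norm_num) (by omega)] at e1
    exact_mod_cast e1
  · exfalso
    exact hone C.hsa (fun l hl0 hl => C.value_two D hl0 hl) h
  · exfalso
    exact hone C.hsb (fun l hl0 hl => C.value_three D hl0 hl) h
  · exfalso
    have e1 := C.value_f D j (l := 2 ^ (k - 1)) (by omega) (by omega)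
    rw [← h, hval _ (by omega) (by omega), pow_mul', pow_half D.hζ hmh (by omega)] at e1
    rcases neg_one_pow_eq_or ℂ ((j : ℕ) + 1) with h2 | h2 <;> rw [h2] at e1 <;>
      rcases hδ with rfl | rfl <;> rcases C.hδ₁ with h3 | h3 <;> rw [h3] at e1 <;>
      norm_num at e1

end Cfsg.Agent.Helper8.DihOrd
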