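import Mathlib
import Cfsg.Agent.Helper8.DihOrdM

/-!
# Brauer's order formula for dihedral Sylow 2-subgroups with one class of involutions: the
main identity
-/

set_option autoImplicit false

namespace Cfsg.Agent.Helper8.DihOrd

open Finset Subgroup Cfsg Cfsg.Agent.Helper24 Cfsg.Agent.Helper5 Cfsg.Agent.Helper5.CC
open Cfsg.Agent.Helper8.DihSetup Cfsg.Agent.Helper8.DihMain

variable {G : Type*} [Group G] [Fintype G] [DecidableEq G] [Fintype (IrrCharacter G)]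
variable {P : Sylow 2 G} {σ τ : G} {k : ℕ} {M : Ideal AlgInt}

omit [Fintype G] [DecidableEq G] [Fintype (IrrCharacter G)] [Group G] in
/-- the final algebra -/
theorem final_algebra (I cz c1 c2 x : ℂ) (δ : ℤ) (hδ : δ = 1 ∨ δ = -1)
    (hG : I ^ 2 * 1 ^ 2 / 1 + (δ : ℂ) * (I ^ 2 * (δ : ℂ) ^ 2 / x) -
        (δ : ℂ) * (I ^ 2 * (-2 * (δ : ℂ)) ^ 2 / (x + δ)) =
      I * (2 * (cz / c1 + cz / c2) ^ 2))
    (hIne : I ≠ 0) (hczne : cz ≠ 0) (hc1ne : c1 ≠ 0) (hc2ne : c2 ≠ 0) (hxne : x ≠ 0)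
    (hf1ne : x + δ ≠ 0) :
    I * cz * (x - δ) ^ 2 = 2 * x * (x + δ) * cz ^ 3 * (1 / c1 + 1 / c2) ^ 2 := by
  have key : I * (I * (x - δ) ^ 2) = I * (2 * (cz / c1 + cz / c2) ^ 2 * x * (x + δ)) := by
    rcases hδ with rfl | rfl
    · push_cast at hG hf1ne ⊢
      field_simp at hG ⊢
      linear_combination hG
    · push_cast at hG hf1ne ⊢
      field_simp at hG ⊢
      linear_combination hG
  have key2 := mul_left_cancel₀ hIne key
  have : I * cz * (x - δ) ^ 2 = cz * (I * (x - δ) ^ 2) := by ring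
  rw [this, key2]
  field_simp

set_option maxHeartbeats 400000 in
theorem main_identity (S : DSetup P σ τ k) (hM : IsPModular 2 M)
    (χ : IrrCharacter G) (hχ : χ ∈ principalBlock M G) (h1 : χ ≠ trivIrr G) (δ : ℤ)
    (hδ : δ = 1 ∨ δ = -1)
    (hval : ∀ l : ℕ, 0 < l → l < 2 ^ k → (χ : G → ℂ) (σ ^ l) = δ) :
    (irrDeg χ : ℂ) + δ ≠ 0 ∧
    (Nat.card G : ℂ) * ((irrDeg χ : ℂ) - δ) ^ 2 =
      2 * (irrDeg χ : ℂ) * ((irrDeg χ : ℂ) + δ) *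
        (Nat.card (centralizer ({σ ^ (2 ^ k / 2)} : Set G)) : ℂ) ^ 3 *
        (1 / (Nat.card (centralizer ({σ ^ (2 ^ k / 2), τ} : Set G)) : ℂ) +
          1 / (Nat.card (centralizer ({σ ^ (2 ^ k / 2), σ * τ} : Set G)) : ℂ)) ^ 2 := by
  classical
  have hq := S.hq
  have hk := S.hk
  have hhalf : 2 ^ k / 2 = 2 ^ (k - 1) := by
    obtain ⟨c, hc⟩ : ∃ c, k = c + 1 := ⟨k - 1, by omega⟩
    rw [hc, pow_succ]; simp
  have hζ : IsPrimitiveRoot (Complex.exp (2 * Real.pi * Complex.I / ((2 ^ k : ℕ) : ℂ))) (2 ^ k) :=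
    Complex.isPrimitiveRoot_exp (2 ^ k) (by omega)
  obtain ⟨ζ, hζ'⟩ : ∃ ζ : ℂ, ζ = Complex.exp (2 * Real.pi * Complex.I / ((2 ^ k : ℕ) : ℂ)) :=
    ⟨_, rfl⟩
  rw [← hζ'] at hζ
  obtain ⟨e⟩ := S.hequiv
  obtain ⟨a, D⟩ := exists_data M hM k S.hk P e σ S.hσ S.hσo ζ hζ
  obtain ⟨χ₁, χ₂, χ₃, f, δ₁, sa, sb, C⟩ := D.exists_core
  obtain ⟨rfl, rfl⟩ := identify D C χ hχ h1 δ hδ hval
  have hm := D.hm
  have hmh := D.hmh
  have hh2 := D.hh2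
  have hd2 : (δ : ℂ) * (δ : ℂ) = 1 := by
    rcases hδ with rfl | rfl <;> norm_num
  -- the second character
  obtain ⟨j₀, hj₀⟩ : ∃ j₀ : Fin (2 ^ (k - 1) - 1), (j₀ : ℕ) = 0 := ⟨⟨0, by omega⟩, rfl⟩
  have hfmem := C.mem_f D j₀
  have hχmem := C.mem_one D
  have hreg : ∀ ρ : G, Odd (orderOf ρ) →
      1 + (δ : ℂ) * (χ : G → ℂ) ρ - (δ : ℂ) * (f j₀ : G → ℂ) ρ = 0 := by
    intro ρ hρ
    have hρ' : ¬ 2 ∣ orderOf ρ := by
      rw [← even_iff_two_dvd, Nat.not_even_iff_odd]; exact hρ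
    rw [(C.regular D ρ hρ' j₀).1, sub_self]
  have hfval : ∀ l : ℕ, 0 < l → l < 2 ^ k →
      (f j₀ : G → ℂ) (σ ^ l) = δ * (ζ ^ l + (ζ ^ l)⁻¹) := by
    intro l hl0 hl
    have := C.value_f D j₀ hl0 hl
    rw [hj₀, zero_add, one_mul] at this
    exact this
  -- the class function
  have hΔcf : ∀ g u : G, 1 + (δ : ℂ) * (χ : G → ℂ) (g * u * g⁻¹) -
      (δ : ℂ) * (f j₀ : G → ℂ) (g * u * g⁻¹) =
      1 + (δ : ℂ) * (χ : G → ℂ) u - (δ : ℂ) * (f j₀ : G → ℂ) u := by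
    intro g u
    rw [isClassFunction_irr χ u g, isClassFunction_irr (f j₀) u g]
  have hΔsec : ∀ p ∈ (P : Subgroup G), ∀ ρ : G, p * ρ = ρ * p → Odd (orderOf ρ) →
      1 + (δ : ℂ) * (χ : G → ℂ) (p * ρ) - (δ : ℂ) * (f j₀ : G → ℂ) (p * ρ) =
      1 + (δ : ℂ) * (χ : G → ℂ) p - (δ : ℂ) * (f j₀ : G → ℂ) p := by
    intro p hp ρ hpρ hρ
    by_cases hp1 : p = 1
    · rw [hp1, one_mul, hreg ρ hρ, hreg 1 (by rw [orderOf_one]; exact odd_one)]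
    · rw [S.sec hM χ hχmem hp hp1 ρ hpρ hρ, S.sec hM (f j₀) hfmem hp hp1 ρ hpρ hρ]
  have hΔσ : ∀ l : ℕ, 1 + (δ : ℂ) * (χ : G → ℂ) (σ ^ l) - (δ : ℂ) * (f j₀ : G → ℂ) (σ ^ l) =
      2 - ζ ^ l - (ζ ^ l)⁻¹ := by
    intro l
    have h4 : σ ^ l = σ ^ (l % 2 ^ k) := by rw [← S.hσo, pow_mod_orderOf]
    have h5 : ζ ^ l = ζ ^ (l % 2 ^ k) := by
      have := pow_mod_orderOf ζ l
      rw [← hζ.eq_orderOf] at this
      exact this.symm
    rw [h4, h5]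
    rcases Nat.eq_zero_or_pos (l % 2 ^ k) with h0 | h0
    · rw [h0, pow_zero, pow_zero, hreg 1 (by rw [orderOf_one]; exact odd_one), inv_one]
      norm_num
    · have hl : l % 2 ^ k < 2 ^ k := Nat.mod_lt _ (by omega)
      rw [hval _ h0 hl, hfval _ h0 hl]
      linear_combination (1 - ζ ^ (l % 2 ^ k) - (ζ ^ (l % 2 ^ k))⁻¹) * hd2
  -- the group side
  have hG := group_side P (2 ^ k) S.hq S.heven σ τ S.hσ S.hτ S.hσo S.hτ2 S.hrel S.helems S.ds.card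
    S.hidx S.hone ζ hζ
    (fun u => 1 + (δ : ℂ) * (χ : G → ℂ) u - (δ : ℂ) * (f j₀ : G → ℂ) u) hΔcf hΔsec hΔσ
  -- the character side
  obtain ⟨-, hz1, hzz, -⟩ := S.ds.z_props (by omega) S.heven
  have hz2 : orderOf (σ ^ (2 ^ k / 2)) = 2 := by
    rw [orderOf_eq_prime_iff]
    exact ⟨by rw [pow_two]; exact hzz, hz1⟩
  have hC0 := sum_irr_pairs _ hz2 S.hone (trivIrr G)
  have hC1 := sum_irr_pairs _ hz2 S.hone χ
  have hCf := sum_irr_pairs _ hz2 S.hone (f j₀)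
  have hsplit : ∑ s ∈ invs G, ∑ t ∈ invs G,
      (1 + (δ : ℂ) * (χ : G → ℂ) (s * t) - (δ : ℂ) * (f j₀ : G → ℂ) (s * t)) =
      ∑ s ∈ invs G, ∑ t ∈ invs G, ((trivIrr G : IrrCharacter G) : G → ℂ) (s * t) +
        (δ : ℂ) * ∑ s ∈ invs G, ∑ t ∈ invs G, (χ : G → ℂ) (s * t) -
        (δ : ℂ) * ∑ s ∈ invs G, ∑ t ∈ invs G, (f j₀ : G → ℂ) (s * t) := by
    simp only [Finset.sum_add_distrib, Finset.sum_sub_distrib, Finset.mul_sum]
    rfl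
  rw [hsplit, hC0, hC1, hCf] at hG
  have hχz : (χ : G → ℂ) (σ ^ (2 ^ k / 2)) = δ := hval _ (by omega) (by omega)
  have hfz : (f j₀ : G → ℂ) (σ ^ (2 ^ k / 2)) = -2 * δ := by
    rw [hfval _ (by omega) (by omega), hhalf, pow_half D.hζ hmh (by omega)]
    norm_num
    ring
  have hχ1 : (χ : G → ℂ) 1 = (irrDeg χ : ℂ) := irrDeg_spec χ
  have hf1 : (f j₀ : G → ℂ) 1 = (irrDeg χ : ℂ) + δ := by
    have := hreg 1 (by rw [orderOf_one]; exact odd_one)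
    rw [hχ1] at this
    linear_combination (-(δ : ℂ)) * this + ((irrDeg χ : ℂ) - (f j₀ : G → ℂ) 1) * hd2
  have hf1ne : (irrDeg χ : ℂ) + δ ≠ 0 := by
    rw [← hf1]; exact irr_one_ne_zero (f j₀)
  have hxne : (irrDeg χ : ℂ) ≠ 0 := by
    rw [← hχ1]; exact irr_one_ne_zero χ
  have htriv1 : ((trivIrr G : IrrCharacter G) : G → ℂ) (σ ^ (2 ^ k / 2)) = 1 := rfl
  have htriv2 : ((trivIrr G : IrrCharacter G) : G → ℂ) 1 = 1 := rfl
  rw [hχz, hfz, hχ1, hf1, htriv1, htriv2] at hG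
  -- the number of involutions
  have hinvs : ((invs G).card : ℂ) =
      ((centralizer ({σ ^ (2 ^ k / 2)} : Set G)).index : ℂ) := by
    have hI : invs G = Finset.univ.filter (fun s => IsConj (σ ^ (2 ^ k / 2)) s) := by
      ext s
      rw [Finset.mem_filter, mem_invs]
      constructor
      · intro h; exact ⟨Finset.mem_univ _, S.hone s h⟩
      · rintro ⟨-, h⟩
        obtain ⟨c, rfl⟩ := isConj_iff.mp h
        have := MulEquiv.orderOf_eq (MulAut.conj c) (σ ^ (2 ^ k / 2))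
        rw [MulAut.conj_apply] at this
        rw [this, hz2]
    rw [hI, card_filter_isConj, index_centralizer_eq_card_conj]
  rw [hinvs] at hG
  have hidxmul : ((centralizer ({σ ^ (2 ^ k / 2)} : Set G)).index : ℂ) *
      (Nat.card (centralizer ({σ ^ (2 ^ k / 2)} : Set G)) : ℂ) = (Nat.card G : ℂ) := by
    rw [← Nat.cast_mul, Subgroup.index_mul_card]
  have hgne : (Nat.card G : ℂ) ≠ 0 := by exact_mod_cast (Nat.card_pos (α := G)).ne'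
  have hIne : ((centralizer ({σ ^ (2 ^ k / 2)} : Set G)).index : ℂ) ≠ 0 := by
    intro h
    rw [h, zero_mul] at hidxmul
    exact hgne hidxmul.symm
  have hczne : (Nat.card (centralizer ({σ ^ (2 ^ k / 2)} : Set G)) : ℂ) ≠ 0 :=
    Nat.cast_ne_zero.mpr (Nat.card_pos (α := (centralizer ({σ ^ (2 ^ k / 2)} : Set G)))).ne'
  have hc1ne : (Nat.card (centralizer ({σ ^ (2 ^ k / 2), τ} : Set G)) : ℂ) ≠ 0 :=
    Nat.cast_ne_zero.mpr (Nat.card_pos (α := (centralizer ({σ ^ (2 ^ k / 2), τ} : Set G)))).ne'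
  have hc2ne : (Nat.card (centralizer ({σ ^ (2 ^ k / 2), σ * τ} : Set G)) : ℂ) ≠ 0 :=
    Nat.cast_ne_zero.mpr
      (Nat.card_pos (α := (centralizer ({σ ^ (2 ^ k / 2), σ * τ} : Set G)))).ne'
  refine ⟨hf1ne, ?_⟩
  rw [← hidxmul]
  exact final_algebra _ _ _ _ _ δ hδ hG hIne hczne hc1ne hc2ne hxne hf1ne

end Cfsg.Agent.Helper8.DihOrd
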