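import Mathlib
import Cfsg.Prelude.Def_Characters
import Cfsg.Agent.Helper8.GaloisChar
import Cfsg.Agent.Helper24.Clifford
import Cfsg.Agent.Helper24.InducedNormal

/-!
Power maps (Galois conjugation) and Clifford theory: constituents of a fixed character over a
normal subgroup of index prime to `p`.
-/

set_option autoImplicit false
set_option linter.unusedSectionVars false
set_option linter.style.haveILetI false

namespace Cfsg.Agent.Helper8

section PowMap

variable {G : Type*} [Group G] [Fintype G] (N : Subgroup G) [hN : N.Normal] [Fintype N]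

/-- the power map on functions on `N` -/
def powFun (k : ℕ) (f : N → ℂ) : N → ℂ := fun n => f (n ^ k)

theorem powFun_conjFun (k : ℕ) (f : N → ℂ) (g : G) :
    powFun N k (Cfsg.Agent.Helper24.conjFun N f g) = Cfsg.Agent.Helper24.conjFun N (powFun N k f) g := by
  funext n
  show f ⟨g * ((n ^ k : N) : G) * g⁻¹, _⟩ = f ((⟨g * (n : G) * g⁻¹, _⟩ : N) ^ k)
  have e : (⟨g * ((n ^ k : N) : G) * g⁻¹, hN.conj_mem _ (n ^ k).2 g⟩ : N)
      = (⟨g * (n : G) * g⁻¹, hN.conj_mem n n.2 g⟩ : N) ^ k := by
    apply Subtype.ext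
    simp only [Subgroup.coe_pow]
    rw [conj_pow]
  rw [e]

theorem conjFun_conjFun_mul (f : N → ℂ) (a b : G) :
    Cfsg.Agent.Helper24.conjFun N (Cfsg.Agent.Helper24.conjFun N f a) b
      = Cfsg.Agent.Helper24.conjFun N f (a * b) := by
  funext n
  show f ⟨a * ((⟨b * (n : G) * b⁻¹, _⟩ : N) : G) * a⁻¹, _⟩ = f ⟨a * b * (n : G) * (a * b)⁻¹, _⟩
  congr 1
  apply Subtype.ext
  simp only
  group

theorem conjFun_of_mem {f : N → ℂ} (hf : Cfsg.IsClassFunction N f) {h : G} (hh : h ∈ N) :
    Cfsg.Agent.Helper24.conjFun N f h = f := by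
  funext n
  show f ⟨h * (n : G) * h⁻¹, _⟩ = f n
  have e : (⟨h * (n : G) * h⁻¹, hN.conj_mem n n.2 h⟩ : N) = (⟨h, hh⟩ : N) * n * (⟨h, hh⟩ : N)⁻¹ :=
    Subtype.ext (by simp)
  rw [e, hf]

theorem powFun_iterate (k j : ℕ) (f : N → ℂ) :
    (powFun N k)^[j] f = fun n => f (n ^ (k ^ j)) := by
  induction j generalizing f with
  | zero => simp
  | succ j ih =>
    rw [Function.iterate_succ, Function.comp_apply, ih]
    funext n
    show f ((n ^ (k ^ j)) ^ k) = f (n ^ (k ^ (j + 1)))
    rw [← pow_mul, pow_succ]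

end PowMap

section Main

variable {G : Type*} [Group G] [Fintype G]

/-- **Constituents of a power-map fixed character over a normal subgroup of index prime to `p`
are fixed by a power map of `p`-power order.** -/
theorem constituent_pow_fixed (p : ℕ) [hp : Fact p.Prime] (N : Subgroup G) [hN : N.Normal]
    [Fintype N] (hidx : ¬ p ∣ N.index) (k e : ℕ) (hk : Nat.Coprime k (Nat.card G))
    (hke : k ^ (p ^ e) ≡ 1 [MOD Nat.card G]) (χ : Cfsg.IrrCharacter G)
    (hχ : ∀ g : G, (χ : G → ℂ) (g ^ k) = (χ : G → ℂ) g) (θ : Cfsg.IrrCharacter N)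
    (hθ : Cfsg.classInner (fun n : N => (χ : G → ℂ) n) (θ : N → ℂ) ≠ 0) :
    ∀ n : N, (θ : N → ℂ) (n ^ k) = (θ : N → ℂ) n := by
  classical
  have hkN : Nat.Coprime k (Nat.card N) :=
    Nat.Coprime.coprime_dvd_right (Subgroup.card_subgroup_dvd_card N) hk
  have hθirr := θ.2
  have hpwirr : Cfsg.IsIrrCharacter N (powFun N k (θ : N → ℂ)) :=
    isIrrCharacter_pow_of_coprime k hkN hθirr
  -- the power map of `θ` is a constituent of the restriction
  have hconst : Cfsg.classInner (fun n : N => (χ : G → ℂ) n) (powFun N k (θ : N → ℂ)) ≠ 0 := by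
    have h1 : Cfsg.classInner (fun n : N => (χ : G → ℂ) n) (powFun N k (θ : N → ℂ))
        = Cfsg.classInner (fun n : N => (χ : G → ℂ) n) (θ : N → ℂ) := by
      unfold Cfsg.classInner
      congr 1
      rw [← Equiv.sum_comp (powCoprime hkN.symm)
        (fun n => (χ : G → ℂ) n * (starRingEnd ℂ) ((θ : N → ℂ) n))]
      apply Finset.sum_congr rfl
      intro n _
      show (χ : G → ℂ) n * _ = (χ : G → ℂ) ((n ^ k : N) : G) * _
      rw [Subgroup.coe_pow, hχ]
      rfl
    rw [h1]
    exact hθ
  -- hence a conjugate of `θ`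
  obtain ⟨g₀, hg₀⟩ : ∃ g₀ : G, powFun N k (θ : N → ℂ)
      = Cfsg.Agent.Helper24.conjFun N (θ : N → ℂ) g₀ := by
    by_contra hcon
    push Not at hcon
    exact hconst (Cfsg.Agent.Helper24.classInner_restrict_eq_zero_of_not_conj N χ.2 hθirr hθ
      hpwirr hcon)
  -- iterates
  have hiter : ∀ j : ℕ, (powFun N k)^[j] (θ : N → ℂ)
      = Cfsg.Agent.Helper24.conjFun N (θ : N → ℂ) (g₀ ^ j) := by
    intro j
    induction j with
    | zero =>
      simp only [Function.iterate_zero, id_eq, pow_zero]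
      exact (conjFun_of_mem N
        (Cfsg.Agent.Helper24.IsCharacter.isClassFunction
          (Cfsg.Agent.Helper24.IsIrrCharacter.isCharacter hθirr)) N.one_mem).symm
    | succ j ih =>
      rw [Function.iterate_succ', Function.comp_apply, ih, powFun_conjFun, hg₀,
        conjFun_conjFun_mul, ← pow_succ']
  -- the two periods
  have hper1 : (powFun N k)^[p ^ e] (θ : N → ℂ) = (θ : N → ℂ) := by
    rw [powFun_iterate]
    funext n
    have h1 : orderOf n ∣ Nat.card G :=
      (orderOf_dvd_natCard n).trans (Subgroup.card_subgroup_dvd_card N)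
    have h2 : k ^ (p ^ e) ≡ 1 [MOD orderOf n] := hke.of_dvd h1
    rw [← pow_mod_orderOf, h2, pow_mod_orderOf, pow_one]
  have hper2 : (powFun N k)^[N.index] (θ : N → ℂ) = (θ : N → ℂ) := by
    rw [hiter]
    exact conjFun_of_mem N
      (Cfsg.Agent.Helper24.IsCharacter.isClassFunction
        (Cfsg.Agent.Helper24.IsIrrCharacter.isCharacter hθirr)) (Subgroup.pow_index_mem N g₀)
  have hcop : Nat.Coprime (p ^ e) N.index :=
    Nat.Coprime.pow_left e ((Nat.Prime.coprime_iff_not_dvd hp.out).mpr hidx)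
  -- multiples of periods are periods
  have hmult : ∀ (a : ℕ), (powFun N k)^[a] (θ : N → ℂ) = (θ : N → ℂ) →
      ∀ u : ℕ, (powFun N k)^[u * a] (θ : N → ℂ) = (θ : N → ℂ) := by
    intro a ha u
    induction u with
    | zero => simp
    | succ u ih =>
      rw [Nat.succ_mul, Function.iterate_add, Function.comp_apply, ha, ih]
  have hidxpos : 0 < N.index := Nat.pos_of_ne_zero Subgroup.index_ne_zero_of_finite
  by_cases hone : N.index = 1
  · have := hper2
    rw [hone, Function.iterate_one] at this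
    intro n
    exact congrFun this n
  obtain ⟨u, -, hu⟩ := Nat.exists_mul_mod_eq_one_of_coprime hcop (by omega)
  -- `u * p^e = v * index + 1`
  have hdecomp : p ^ e * u = N.index * (p ^ e * u / N.index) + 1 := by
    have := Nat.div_add_mod (p ^ e * u) N.index
    rw [hu] at this
    exact this.symm
  have h1 := hmult (p ^ e) hper1 u
  rw [mul_comm, hdecomp, Function.iterate_succ', Function.comp_apply, mul_comm,
    hmult N.index hper2] at h1
  intro n
  exact congrFun h1 n

end Main

end Cfsg.Agent.Helper8
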