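import Mathlib

/-!
# The part of a class-two group inverted (modulo `Z`) by an involutory automorphism
(steps (d), (e), (h) of the proof of `two_level_core`, S3795)
-/

set_option autoImplicit false

namespace Cfsg.Agent.Helper8.GrossQ2

open Subgroup

variable {Γ : Type*} [Group Γ]

/-- `Q2 = {g ∈ Q | b g b⁻¹ g ∈ Z}`: the elements of `Q` inverted by `b` modulo `Z` -/
def invPart (Q Z : Subgroup Γ) (b : Γ) (hZQ : Z ≤ Q) (hZc : ∀ z ∈ Z, ∀ g ∈ Q, z * g = g * z)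
    (hcomm : ∀ g ∈ Q, ∀ h ∈ Q, g * h * g⁻¹ * h⁻¹ ∈ Z) : Subgroup Γ where
  carrier := {g | g ∈ Q ∧ b * g * b⁻¹ * g ∈ Z}
  one_mem' := ⟨Q.one_mem, by simp [Z.one_mem]⟩
  mul_mem' := by
    rintro g h ⟨hg, hg'⟩ ⟨hh, hh'⟩
    refine ⟨Q.mul_mem hg hh, ?_⟩
    -- b g h b⁻¹ g h = (b g b⁻¹ g) g⁻¹ (b h b⁻¹ h) h⁻¹ g h = z_g z_h (g⁻¹ h⁻¹ g h)
    have h1 : g⁻¹ * h⁻¹ * g⁻¹⁻¹ * h⁻¹⁻¹ ∈ Z := hcomm _ (Q.inv_mem hg) _ (Q.inv_mem hh)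
    have h2 : b * (g * h) * b⁻¹ * (g * h) =
        (b * g * b⁻¹ * g) * (g⁻¹ * (b * h * b⁻¹ * h) * g) * (g⁻¹ * h⁻¹ * g⁻¹⁻¹ * h⁻¹⁻¹) := by
      group
    rw [h2]
    have h3 : g⁻¹ * (b * h * b⁻¹ * h) * g = b * h * b⁻¹ * h := by
      have := hZc _ hh' g hg
      rw [mul_assoc, this]; group
    rw [h3]
    exact Z.mul_mem (Z.mul_mem hg' hh') h1
  inv_mem' := by
    rintro g ⟨hg, hg'⟩
    refine ⟨Q.inv_mem hg, ?_⟩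
    -- b g⁻¹ b⁻¹ g⁻¹ = g (b g b⁻¹ g)⁻¹ g⁻¹ = (b g b⁻¹ g)⁻¹
    have h1 : b * g⁻¹ * b⁻¹ * g⁻¹ = g * (b * g * b⁻¹ * g)⁻¹ * g⁻¹ := by group
    rw [h1]
    have h2 := hZc _ (Z.inv_mem hg') g hg
    have h3 : g * (b * g * b⁻¹ * g)⁻¹ * g⁻¹ = (b * g * b⁻¹ * g)⁻¹ := by
      rw [← h2]; group
    rw [h3]
    exact Z.inv_mem hg'

section inv

variable {Q Z : Subgroup Γ} {b : Γ} {hZQ : Z ≤ Q} {hZc : ∀ z ∈ Z, ∀ g ∈ Q, z * g = g * z}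
  {hcomm : ∀ g ∈ Q, ∀ h ∈ Q, g * h * g⁻¹ * h⁻¹ ∈ Z}

theorem mem_invPart {g : Γ} :
    g ∈ invPart Q Z b hZQ hZc hcomm ↔ g ∈ Q ∧ b * g * b⁻¹ * g ∈ Z := Iff.rfl

theorem invPart_le : invPart Q Z b hZQ hZc hcomm ≤ Q := fun _ hg => hg.1

/-- `Z ≤ Q2` when `b` centralises `Z` -/
theorem le_invPart (hbZ : ∀ z ∈ Z, b * z = z * b) : Z ≤ invPart Q Z b hZQ hZc hcomm := by
  intro z hz
  refine ⟨hZQ hz, ?_⟩
  have : b * z * b⁻¹ * z = z * z := by rw [hbZ z hz]; group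
  rw [this]
  exact Z.mul_mem hz hz

/-- `g (b g b⁻¹)⁻¹ ∈ Q2` for every `g ∈ Q` when `b² = 1` -/
theorem comm_mem_invPart (hbQ : ∀ g ∈ Q, b * g * b⁻¹ ∈ Q) (hb2 : b * b = 1) {g : Γ} (hg : g ∈ Q) :
    g * (b * g * b⁻¹)⁻¹ ∈ invPart Q Z b hZQ hZc hcomm := by
  refine ⟨Q.mul_mem hg (Q.inv_mem (hbQ g hg)), ?_⟩
  have hb2' : b⁻¹ * b⁻¹ = 1 := by rw [← mul_inv_rev, hb2, inv_one]
  have : b * (g * (b * g * b⁻¹)⁻¹) * b⁻¹ * (g * (b * g * b⁻¹)⁻¹) = 1 := by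
    calc b * (g * (b * g * b⁻¹)⁻¹) * b⁻¹ * (g * (b * g * b⁻¹)⁻¹)
        = b * g * b * g⁻¹ * (b⁻¹ * b⁻¹) * g * b * g⁻¹ * b⁻¹ := by group
      _ = b * g * (b * b) * g⁻¹ * b⁻¹ := by rw [hb2']; group
      _ = 1 := by rw [hb2]; group
  rw [this]
  exact Z.one_mem

/-- `Q2` is normalised by elements commuting with `b` and normalising `Q` and `Z` -/
theorem conj_mem_invPart {t : Γ} (htb : t * b = b * t) (htQ : ∀ g ∈ Q, t * g * t⁻¹ ∈ Q)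
    (htZ : ∀ z ∈ Z, t * z * t⁻¹ ∈ Z) {g : Γ} (hg : g ∈ invPart Q Z b hZQ hZc hcomm) :
    t * g * t⁻¹ ∈ invPart Q Z b hZQ hZc hcomm := by
  refine ⟨htQ g hg.1, ?_⟩
  have h1 := htZ _ hg.2
  have e : b * (t * g * t⁻¹) * b⁻¹ * (t * g * t⁻¹) = t * (b * g * b⁻¹ * g) * t⁻¹ := by
    have htb' : b * t = t * b := htb.symm
    have h2 : t⁻¹ * b⁻¹ = b⁻¹ * t⁻¹ := by
      rw [← mul_inv_rev, ← mul_inv_rev, htb']
    calc b * (t * g * t⁻¹) * b⁻¹ * (t * g * t⁻¹)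
        = (b * t) * g * (t⁻¹ * b⁻¹) * t * g * t⁻¹ := by group
      _ = (t * b) * g * (b⁻¹ * t⁻¹) * t * g * t⁻¹ := by rw [htb', h2]
      _ = t * (b * g * b⁻¹ * g) * t⁻¹ := by group
  rw [e]
  exact h1

/-- step (e): `Q2` is normalised by `d` when `[b, d]` centralises `Q` and `d` normalises `Q`, `Z` -/
theorem conj_mem_invPart_of_comm {d : Γ} (hdQ : ∀ g ∈ Q, d * g * d⁻¹ ∈ Q)
    (hdZ : ∀ z ∈ Z, d * z * d⁻¹ ∈ Z)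
    (hc : ∀ g ∈ Q, (b * d * b⁻¹ * d⁻¹) * g = g * (b * d * b⁻¹ * d⁻¹)) {g : Γ}
    (hg : g ∈ invPart Q Z b hZQ hZc hcomm) :
    d * g * d⁻¹ ∈ invPart Q Z b hZQ hZc hcomm := by
  refine ⟨hdQ g hg.1, ?_⟩
  set c := b * d * b⁻¹ * d⁻¹ with hcdef
  have hbg : b * g * b⁻¹ ∈ Q := by
    have h1 : b * g * b⁻¹ = (b * g * b⁻¹ * g) * g⁻¹ := by group
    rw [h1]
    exact Q.mul_mem (hZQ hg.2) (Q.inv_mem hg.1)
  have h2 := hc _ (hdQ _ hbg)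
  have e : b * (d * g * d⁻¹) * b⁻¹ * (d * g * d⁻¹) =
      c * (d * (b * g * b⁻¹) * d⁻¹) * c⁻¹ * (d * g * d⁻¹) := by
    rw [hcdef]; group
  rw [e, h2]
  have e2 : d * (b * g * b⁻¹) * d⁻¹ * c * c⁻¹ * (d * g * d⁻¹) = d * (b * g * b⁻¹ * g) * d⁻¹ := by
    group
  rw [e2]
  exact hdZ _ hg.2

end inv

section classTwo

variable {Q Z : Subgroup Γ} (hZc : ∀ z ∈ Z, ∀ g ∈ Q, z * g = g * z)
  (hcomm : ∀ g ∈ Q, ∀ h ∈ Q, g * h * g⁻¹ * h⁻¹ ∈ Z)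

include hZc hcomm

/-- bimultiplicativity of commutators in `Q` (class two modulo the central subgroup `Z`) -/
theorem comm_mul_right {a b c : Γ} (ha : a ∈ Q) (hb : b ∈ Q) (hc : c ∈ Q) :
    a * (b * c) * a⁻¹ * (b * c)⁻¹ = (a * b * a⁻¹ * b⁻¹) * (a * c * a⁻¹ * c⁻¹) := by
  have hz := hZc _ (hcomm a ha c hc) b⁻¹ (Q.inv_mem hb)
  have h1 : a * (b * c) * a⁻¹ * (b * c)⁻¹ = a * b * a⁻¹ * ((a * c * a⁻¹ * c⁻¹) * b⁻¹) := by group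
  rw [h1, hz]
  group

theorem comm_mul_left {a b c : Γ} (ha : a ∈ Q) (hb : b ∈ Q) (hc : c ∈ Q) :
    (a * b) * c * (a * b)⁻¹ * c⁻¹ = (a * c * a⁻¹ * c⁻¹) * (b * c * b⁻¹ * c⁻¹) := by
  have hz := hZc _ (hcomm b hb c hc) a ha
  have hz2 := hZc _ (hcomm b hb c hc) _ (hcomm a ha c hc |> fun h => (by
    have : a * c * a⁻¹ * c⁻¹ ∈ Q := Q.mul_mem (Q.mul_mem (Q.mul_mem ha hc) (Q.inv_mem ha)) (Q.inv_mem hc)
    exact this))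
  calc (a * b) * c * (a * b)⁻¹ * c⁻¹ = a * (b * c * b⁻¹ * c⁻¹) * (c * a⁻¹ * c⁻¹) := by group
    _ = (b * c * b⁻¹ * c⁻¹) * a * (c * a⁻¹ * c⁻¹) := by rw [hz]
    _ = (b * c * b⁻¹ * c⁻¹) * (a * c * a⁻¹ * c⁻¹) := by group
    _ = (a * c * a⁻¹ * c⁻¹) * (b * c * b⁻¹ * c⁻¹) := hz2

/-- commutators with an inverse on the right -/
theorem comm_inv_right {a b : Γ} (ha : a ∈ Q) (hb : b ∈ Q) :
    a * b⁻¹ * a⁻¹ * b⁻¹⁻¹ = (a * b * a⁻¹ * b⁻¹)⁻¹ := by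
  have h1 := comm_mul_right hZc hcomm ha hb (Q.inv_mem hb)
  rw [mul_inv_cancel] at h1
  have h2 : a * 1 * a⁻¹ * 1⁻¹ = 1 := by group
  rw [h2] at h1
  exact eq_inv_of_mul_eq_one_right h1.symm

/-- commutators with an inverse on the left -/
theorem comm_inv_left {a b : Γ} (ha : a ∈ Q) (hb : b ∈ Q) :
    a⁻¹ * b * a⁻¹⁻¹ * b⁻¹ = (a * b * a⁻¹ * b⁻¹)⁻¹ := by
  have h1 := comm_mul_left hZc hcomm ha (Q.inv_mem ha) hb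
  rw [mul_inv_cancel] at h1
  have h2 : (1 : Γ) * b * 1⁻¹ * b⁻¹ = 1 := by group
  rw [h2] at h1
  exact eq_inv_of_mul_eq_one_right h1.symm

/-- a central factor on the left does not change the commutator -/
theorem comm_central_mul_left {z a b : Γ} (hz : z ∈ Z) (ha : a ∈ Q) (hb : b ∈ Q) :
    (z * a) * b * (z * a)⁻¹ * b⁻¹ = a * b * a⁻¹ * b⁻¹ := by
  have h1 := hZc z hz (a * b * a⁻¹) (Q.mul_mem (Q.mul_mem ha hb) (Q.inv_mem ha))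
  calc (z * a) * b * (z * a)⁻¹ * b⁻¹ = z * (a * b * a⁻¹) * z⁻¹ * b⁻¹ := by group
    _ = (a * b * a⁻¹) * z * z⁻¹ * b⁻¹ := by rw [h1]
    _ = a * b * a⁻¹ * b⁻¹ := by group

end classTwo

section stepH

variable {Q Z : Subgroup Γ} {b : Γ} {hZQ : Z ≤ Q} {hZc : ∀ z ∈ Z, ∀ g ∈ Q, z * g = g * z}
  {hcomm : ∀ g ∈ Q, ∀ h ∈ Q, g * h * g⁻¹ * h⁻¹ ∈ Z}

/-- step (h), first half: if `Q2 ≤ Z` then `b` centralises `Q` (for `Q` without involutions) -/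
theorem centralizes_of_invPart_le (hbQ : ∀ g ∈ Q, b * g * b⁻¹ ∈ Q) (hb2 : b * b = 1)
    (hbZ : ∀ z ∈ Z, b * z = z * b) (hodd : ∀ g ∈ Q, g * g = 1 → g = 1)
    (hle : invPart Q Z b hZQ hZc hcomm ≤ Z) {g : Γ} (hg : g ∈ Q) : b * g * b⁻¹ = g := by
  set w := g * (b * g * b⁻¹)⁻¹ with hw
  have hwZ : w ∈ Z := hle (comm_mem_invPart hbQ hb2 hg)
  have hwQ : w ∈ Q := hZQ hwZ
  have hb2' : b⁻¹ * b⁻¹ = 1 := by rw [← mul_inv_rev, hb2, inv_one]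
  -- b g b⁻¹ = w⁻¹ g
  have h1 : b * g * b⁻¹ = w⁻¹ * g := by rw [hw]; group
  -- apply b again
  have h2 : g = b * (b * g * b⁻¹) * b⁻¹ := by
    calc g = (b * b) * g * (b⁻¹ * b⁻¹) := by rw [hb2, hb2']; group
      _ = b * (b * g * b⁻¹) * b⁻¹ := by group
  have h3 : b * w⁻¹ * b⁻¹ = w⁻¹ := by
    have := hbZ _ (Z.inv_mem hwZ)
    rw [this]; group
  have h4 : g = w⁻¹ * w⁻¹ * g := by
    conv_lhs => rw [h2, h1]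
    calc b * (w⁻¹ * g) * b⁻¹ = (b * w⁻¹ * b⁻¹) * (b * g * b⁻¹) := by group
      _ = w⁻¹ * (w⁻¹ * g) := by rw [h3, h1]
      _ = w⁻¹ * w⁻¹ * g := by group
  have h5 : w⁻¹ * w⁻¹ = 1 := by
    have : w⁻¹ * w⁻¹ * g = 1 * g := by rw [← h4, one_mul]
    exact mul_right_cancel this
  have h6 : w⁻¹ = 1 := hodd _ (Q.inv_mem hwQ) h5
  rw [h1, h6, one_mul]

/-- step (h), second half: an element `g0 ∈ Q2` not central in `Q` does not commute with some element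
of `Q2` -/
theorem exists_invPart_not_commute (hbQ : ∀ g ∈ Q, b * g * b⁻¹ ∈ Q) (hb2 : b * b = 1)
    (hbZ : ∀ z ∈ Z, b * z = z * b) (hodd : ∀ g ∈ Q, g * g = 1 → g = 1)
    {g0 y' : Γ} (hg0 : g0 ∈ invPart Q Z b hZQ hZc hcomm) (hy' : y' ∈ Q) (hne : g0 * y' ≠ y' * g0) :
    ∃ y ∈ invPart Q Z b hZQ hZc hcomm, g0 * y ≠ y * g0 := by
  have hg0Q : g0 ∈ Q := hg0.1
  set u := b * y' * b⁻¹ with hu
  have huQ : u ∈ Q := hbQ y' hy'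
  refine ⟨y' * u⁻¹, comm_mem_invPart hbQ hb2 hy', ?_⟩
  intro hcommute
  -- the commutator c(g0, y' u⁻¹) = c(g0,y') * c(g0,u)⁻¹
  set c1 := g0 * y' * g0⁻¹ * y'⁻¹ with hc1
  have hc1Z : c1 ∈ Z := hcomm g0 hg0Q y' hy'
  have hc1ne : c1 ≠ 1 := by
    intro h
    apply hne
    calc g0 * y' = c1 * (y' * g0) := by rw [hc1]; group
      _ = y' * g0 := by rw [h, one_mul]
  have hb2' : b⁻¹ * b⁻¹ = 1 := by rw [← mul_inv_rev, hb2, inv_one]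
  have hbinv : b⁻¹ = b := inv_eq_of_mul_eq_one_left hb2
  -- c(g0, u) = b c(b⁻¹ g0 b, y') b⁻¹
  have hz0 : b * g0 * b⁻¹ * g0 ∈ Z := hg0.2
  have hbg0 : b⁻¹ * g0 * b = (b * g0 * b⁻¹ * g0) * g0⁻¹ := by
    have : b⁻¹ * g0 * b = b * g0 * b⁻¹ := by
      conv_lhs => rw [hbinv]
      conv_rhs => rw [hbinv]
    rw [this]; group
  have h1 : g0 * u * g0⁻¹ * u⁻¹ = b * ((b⁻¹ * g0 * b) * y' * (b⁻¹ * g0 * b)⁻¹ * y'⁻¹) * b⁻¹ := by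
    rw [hu]; group
  have h2 : (b⁻¹ * g0 * b) * y' * (b⁻¹ * g0 * b)⁻¹ * y'⁻¹ = c1⁻¹ := by
    rw [hbg0, comm_central_mul_left hZc hcomm hz0 (Q.inv_mem hg0Q) hy']
    have := comm_inv_left hZc hcomm hg0Q hy'
    rw [this]
  have h3 : g0 * u * g0⁻¹ * u⁻¹ = c1⁻¹ := by
    rw [h1, h2]
    have := hbZ _ (Z.inv_mem hc1Z)
    rw [this]; group
  have h4 : g0 * (y' * u⁻¹) * g0⁻¹ * (y' * u⁻¹)⁻¹ = c1 * c1 := by
    rw [comm_mul_right hZc hcomm hg0Q hy' (Q.inv_mem huQ), comm_inv_right hZc hcomm hg0Q huQ, h3,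
      inv_inv]
  have h5 : g0 * (y' * u⁻¹) * g0⁻¹ * (y' * u⁻¹)⁻¹ = 1 := by
    rw [hcommute]; group
  rw [h4] at h5
  exact hc1ne (hodd c1 (hZQ hc1Z) h5)

end stepH

end Cfsg.Agent.Helper8.GrossQ2
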