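import Mathlib
import Cfsg.Agent.Helper25.HT3371Defs

set_option autoImplicit false

namespace Cfsg.Agent.HT3371

namespace ABCYC

/-- a subgroup of prime order `p` is generated by an element of order `p` -/
theorem exists_zpowers_of_card {G : Type*} [Group G] (p : ℕ) [hp : Fact p.Prime]
    (H : Subgroup G) (hH : Nat.card H = p) :
    ∃ a : G, orderOf a = p ∧ H = Subgroup.zpowers a := by
  haveI : Finite H := Nat.finite_of_card_ne_zero (by rw [hH]; exact hp.out.ne_zero)
  have hnt : Nontrivial H := by
    rw [← Finite.one_lt_card_iff_nontrivial, hH]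
    exact hp.out.one_lt
  obtain ⟨x, hx⟩ := exists_ne (1 : H)
  have hox : orderOf x = p := by
    have hdvd : orderOf x ∣ p := hH ▸ orderOf_dvd_natCard x
    rcases (Nat.dvd_prime hp.out).1 hdvd with h1 | h1
    · exact absurd (orderOf_eq_one_iff.1 h1) hx
    · exact h1
  refine ⟨(x : G), ?_, ?_⟩
  · rw [Subgroup.orderOf_coe, hox]
  · have hle : Subgroup.zpowers (x : G) ≤ H := by
      rw [Subgroup.zpowers_le]
      exact x.2
    symm
    apply Subgroup.eq_of_le_of_card_ge hle
    rw [hH, Nat.card_zpowers, Subgroup.orderOf_coe, hox]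

/-- a nontrivial finite `p`-group has a central element of order `p` -/
theorem exists_central {G : Type*} [Group G] [Finite G] (p : ℕ) [hp : Fact p.Prime]
    (hG : IsPGroup p G) [Nontrivial G] :
    ∃ z : G, orderOf z = p ∧ ∀ g : G, g * z = z * g := by
  haveI : Nontrivial (Subgroup.center G) := hG.center_nontrivial
  have hdvd : p ∣ Nat.card (Subgroup.center G) := by
    obtain ⟨n, hn⟩ := (hG.to_subgroup (Subgroup.center G)).exists_card_eq
    have hn0 : n ≠ 0 := by
      rintro rfl
      rw [pow_zero] at hn
      have := Finite.one_lt_card_iff_nontrivial.2 ‹Nontrivial (Subgroup.center G)›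
      omega
    rw [hn]
    exact dvd_pow_self p hn0
  obtain ⟨z, hz⟩ := exists_prime_orderOf_dvd_card' p hdvd
  refine ⟨(z : G), ?_, ?_⟩
  · rw [Subgroup.orderOf_coe, hz]
  · intro g
    exact (Subgroup.mem_center_iff.1 z.2 g)

/-- in a finite cyclic group, an element killed by `p` is a power of any element of order `p` -/
theorem mem_zpowers_of_cyclic {B : Type*} [Group B] [Finite B] [IsCyclic B] (p : ℕ)
    [hp : Fact p.Prime] (a z : B) (ha : orderOf a = p) (hz : z ^ p = 1) :
    z ∈ Subgroup.zpowers a := by
  classical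
  haveI : Fintype B := Fintype.ofFinite B
  have hS : (Finset.univ.filter (fun x : B => x ^ p = 1)).card ≤ p :=
    IsCyclic.card_pow_eq_one_le hp.out.pos
  have hinj : Set.InjOn (fun i : ℕ => a ^ i) (Finset.range p : Set ℕ) := by
    intro i hi j hj hij
    simp only [Finset.coe_range, Set.mem_Iio] at hi hj
    have hij' : a ^ i = a ^ j := hij
    rw [pow_inj_mod, ha, Nat.mod_eq_of_lt hi, Nat.mod_eq_of_lt hj] at hij'
    exact hij'
  have hTcard : ((Finset.range p).image (fun i : ℕ => a ^ i)).card = p := by
    rw [Finset.card_image_of_injOn hinj, Finset.card_range]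
  have hTS : (Finset.range p).image (fun i : ℕ => a ^ i) ⊆
      Finset.univ.filter (fun x : B => x ^ p = 1) := by
    intro x hx
    obtain ⟨i, -, rfl⟩ := Finset.mem_image.1 hx
    rw [Finset.mem_filter]
    refine ⟨Finset.mem_univ _, ?_⟩
    rw [← pow_mul, mul_comm, pow_mul, ← ha, pow_orderOf_eq_one, one_pow]
  have heq := Finset.eq_of_subset_of_card_le hTS (by rw [hTcard]; exact hS)
  have hzS : z ∈ Finset.univ.filter (fun x : B => x ^ p = 1) := by
    rw [Finset.mem_filter]
    exact ⟨Finset.mem_univ _, hz⟩
  rw [← heq] at hzS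
  obtain ⟨i, -, rfl⟩ := Finset.mem_image.1 hzS
  exact Subgroup.npow_mem_zpowers a i

end ABCYC

theorem uniqP_of_abelian_cyclic {G : Type*} [Group G] [Finite G] (p : ℕ) [Fact p.Prime]
    (hG : IsPGroup p G) (h : ∀ B : Subgroup G, IsMulCommutative B → IsCyclic B) :
    UniqP G p := by
  have hp : p.Prime := Fact.out
  have key : ∀ z : G, orderOf z = p → (∀ g : G, g * z = z * g) →
      ∀ H : Subgroup G, Nat.card H = p → H = Subgroup.zpowers z := by
    intro z hz hzc H hH
    obtain ⟨a, ha, rfl⟩ := ABCYC.exists_zpowers_of_card p H hH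
    have hcomm : ∀ x ∈ ({a, z} : Set G), ∀ y ∈ ({a, z} : Set G), x * y = y * x := by
      intro x hx y hy
      rcases hx with rfl | hx
      · rcases hy with rfl | hy
        · rfl
        · rw [Set.mem_singleton_iff] at hy
          subst hy
          exact hzc x
      · rw [Set.mem_singleton_iff] at hx
        subst hx
        exact (hzc y).symm
    have hBc : IsMulCommutative (Subgroup.closure ({a, z} : Set G)) :=
      Subgroup.isMulCommutative_closure hcomm
    haveI : IsCyclic (Subgroup.closure ({a, z} : Set G)) := h _ hBc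
    have haB : a ∈ Subgroup.closure ({a, z} : Set G) :=
      Subgroup.subset_closure (Set.mem_insert _ _)
    have hzB : z ∈ Subgroup.closure ({a, z} : Set G) :=
      Subgroup.subset_closure (Set.mem_insert_of_mem _ rfl)
    have hmem : (⟨a, haB⟩ : Subgroup.closure ({a, z} : Set G)) ∈
        Subgroup.zpowers (⟨z, hzB⟩ : Subgroup.closure ({a, z} : Set G)) := by
      apply ABCYC.mem_zpowers_of_cyclic p
      · rw [← Subgroup.orderOf_coe]
        exact hz
      · apply Subtype.ext
        rw [Subgroup.coe_pow, Subgroup.coe_one]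
        show a ^ p = 1
        rw [← ha, pow_orderOf_eq_one]
    have hmem' : a ∈ Subgroup.zpowers z := by
      obtain ⟨k, hk⟩ := Subgroup.mem_zpowers_iff.1 hmem
      rw [Subgroup.mem_zpowers_iff]
      refine ⟨k, ?_⟩
      have := congrArg (Subtype.val) hk
      simpa using this
    have hle : Subgroup.zpowers a ≤ Subgroup.zpowers z := by
      rw [Subgroup.zpowers_le]
      exact hmem'
    apply Subgroup.eq_of_le_of_card_ge hle
    rw [Nat.card_zpowers, Nat.card_zpowers, ha, hz]
  intro H K hH hK
  haveI : Nontrivial G := by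
    obtain ⟨a, ha, -⟩ := ABCYC.exists_zpowers_of_card p H hH
    refine ⟨⟨a, 1, ?_⟩⟩
    rintro rfl
    rw [orderOf_one] at ha
    exact hp.one_lt.ne ha
  obtain ⟨z, hz, hzc⟩ := ABCYC.exists_central p hG
  rw [key z hz hzc H hH, key z hz hzc K hK]

end Cfsg.Agent.HT3371
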