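import Mathlib
import Cfsg.Agent.Helper25.HT3371Defs

set_option autoImplicit false

namespace Cfsg.Agent.HT3371

namespace QUAT

open QuaternionGroup

/-- in `ZMod (2 * n)`, `n ≠ 0`, an element `i ≠ 0` with `i + i = 0` is `n` -/
theorem eq_n_of_add_self {n : ℕ} (hn : n ≠ 0) (i : ZMod (2 * n)) (hi : i ≠ 0)
    (h2 : i + i = 0) : i = (n : ZMod (2 * n)) := by
  haveI : NeZero (2 * n) := ⟨by omega⟩
  have hlt : i.val < 2 * n := ZMod.val_lt i
  have hi0 : i.val ≠ 0 := by
    intro h
    exact hi ((ZMod.val_eq_zero i).1 h)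
  have hcast : ((i.val + i.val : ℕ) : ZMod (2 * n)) = 0 := by
    rw [Nat.cast_add, ZMod.natCast_zmod_val, h2]
  rw [ZMod.natCast_eq_zero_iff] at hcast
  obtain ⟨c, hc⟩ := hcast
  have hval : i.val = n := by
    have hc1 : c = 1 := by
      rcases c with _ | _ | c
      · omega
      · rfl
      · exfalso
        have : 2 * n * (c + 1 + 1) = 2 * n * c + 2 * n + 2 * n := by ring
        omega
    subst hc1
    omega
  have h3 : ((i.val : ℕ) : ZMod (2 * n)) = i := ZMod.natCast_zmod_val i
  rw [← h3]
  exact congrArg (fun k : ℕ => (k : ZMod (2 * n))) hval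

/-- the only involution of `QuaternionGroup n`, `n ≠ 0`, is `a n` -/
theorem eq_a_n_of_sq {n : ℕ} (hn : n ≠ 0) (t : QuaternionGroup n) (ht1 : t ≠ 1)
    (ht : t * t = 1) : t = a (n : ZMod (2 * n)) := by
  haveI : NeZero (2 * n) := ⟨by omega⟩
  rcases t with i | i
  · rw [a_mul_a, one_def] at ht
    have h2 : i + i = 0 := by
      injection ht
    have hi : i ≠ 0 := by
      rintro rfl
      exact ht1 a_zero
    rw [eq_n_of_add_self hn i hi h2]
  · exfalso
    rw [xa_mul_xa, one_def] at ht
    have h2 : (n : ZMod (2 * n)) + i - i = 0 := by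
      injection ht
    rw [add_sub_cancel_right, ZMod.natCast_eq_zero_iff] at h2
    obtain ⟨c, hc⟩ := h2
    rcases c with _ | c
    · omega
    · have : 2 * n * (c + 1) = 2 * n * c + 2 * n := by ring
      omega

/-- a finite group is not isomorphic to `QuaternionGroup 0` -/
theorem ne_zero_of_finite {G : Type*} [Group G] [Finite G] (n : ℕ)
    (e : G ≃* QuaternionGroup n) : n ≠ 0 := by
  haveI : Finite (QuaternionGroup n) := Finite.of_equiv G e.toEquiv
  have hpos : 0 < orderOf (a 1 : QuaternionGroup n) := orderOf_pos _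
  rw [orderOf_a_one] at hpos
  omega

/-- a subgroup of order two consists of `1` and an involution -/
theorem exists_of_card_two {G : Type*} [Group G] (H : Subgroup G) (hH : Nat.card H = 2) :
    ∃ t : G, t ≠ 1 ∧ t * t = 1 ∧ H = Subgroup.zpowers t := by
  haveI : Finite H := Nat.finite_of_card_ne_zero (by rw [hH]; norm_num)
  have hnt : Nontrivial H := by
    rw [← Finite.one_lt_card_iff_nontrivial, hH]
    norm_num
  obtain ⟨x, hx⟩ := exists_ne (1 : H)
  have hox : orderOf x = 2 := by
    have hdvd : orderOf x ∣ 2 := hH ▸ orderOf_dvd_natCard x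
    rcases (Nat.dvd_prime Nat.prime_two).1 hdvd with h1 | h1
    · exact absurd (orderOf_eq_one_iff.1 h1) hx
    · exact h1
  have hox' : orderOf (x : G) = 2 := by rw [Subgroup.orderOf_coe, hox]
  refine ⟨(x : G), ?_, ?_, ?_⟩
  · intro h
    apply hx
    exact Subtype.ext h
  · rw [← sq, ← hox', pow_orderOf_eq_one]
  · have hle : Subgroup.zpowers (x : G) ≤ H := by
      rw [Subgroup.zpowers_le]
      exact x.2
    symm
    apply Subgroup.eq_of_le_of_card_ge hle
    rw [hH, Nat.card_zpowers, hox']

end QUAT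

theorem uniqP_of_quaternion {G : Type*} [Group G] [Finite G] (n : ℕ)
    (e : G ≃* QuaternionGroup n) : UniqP G 2 := by
  have hn : n ≠ 0 := QUAT.ne_zero_of_finite n e
  have key : ∀ H : Subgroup G, Nat.card H = 2 →
      H = Subgroup.zpowers (e.symm (QuaternionGroup.a (n : ZMod (2 * n)))) := by
    intro H hH
    obtain ⟨t, ht1, ht2, rfl⟩ := QUAT.exists_of_card_two H hH
    have h1 : e t ≠ 1 := by
      intro h
      apply ht1
      apply e.injective
      rw [h, map_one]
    have h2 : e t * e t = 1 := by rw [← map_mul, ht2, map_one]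
    have h3 := QUAT.eq_a_n_of_sq hn (e t) h1 h2
    rw [← h3, MulEquiv.symm_apply_apply]
  intro H K hH hK
  rw [key H hH, key K hK]

end Cfsg.Agent.HT3371
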