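import Mathlib
import Cfsg.Agent.Helper25.HT3371Defs

set_option autoImplicit false

namespace Cfsg.Agent.HT3371

namespace SEMIFPF

/-- a nontrivial element of a `p`-group has a power of order `p` -/
theorem exists_pow_order {G : Type*} [Group G] (p : ℕ) [hp : Fact p.Prime]
    (hG : IsPGroup p G) (g : G) (hg : g ≠ 1) : ∃ m : ℕ, orderOf (g ^ m) = p := by
  obtain ⟨k, hk⟩ := (IsPGroup.iff_orderOf.1 hG) g
  have hk0 : k ≠ 0 := by
    rintro rfl
    rw [pow_zero, orderOf_eq_one_iff] at hk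
    exact hg hk
  obtain ⟨j, rfl⟩ := Nat.exists_eq_succ_of_ne_zero hk0
  refine ⟨p ^ j, ?_⟩
  have hdvd : p ^ j ∣ orderOf g := by
    rw [hk]
    exact pow_dvd_pow p (Nat.le_succ j)
  rw [orderOf_pow_of_dvd (pow_ne_zero j hp.out.ne_zero) hdvd, hk, pow_succ,
    Nat.mul_div_cancel_left _ (pow_pos hp.out.pos j)]

/-- if all subgroups of order `p` coincide, each of them is normal -/
theorem normal_of_uniqP {G : Type*} [Group G] (p : ℕ) (huniq : UniqP G p)
    (N : Subgroup G) (hN : Nat.card N = p) : N.Normal := by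
  refine ⟨fun n hn h => ?_⟩
  have hcard : Nat.card (N.map (MulAut.conj h).toMonoidHom) = p := by
    rw [Subgroup.card_map_of_injective (MulAut.conj h).injective, hN]
  have heq : N.map (MulAut.conj h).toMonoidHom = N := huniq _ _ hcard hN
  have hmem : h * n * h⁻¹ ∈ N.map (MulAut.conj h).toMonoidHom :=
    ⟨n, hn, by simp [MulAut.conj_apply]⟩
  rw [heq] at hmem
  exact hmem

end SEMIFPF

theorem semireg_of_uniqP {q : ℕ} {V : Type*} [AddCommGroup V] [Module (ZMod q) V]
    {G : Type*} [Group G] [Finite G] (ρ : G →* (V ≃ₗ[ZMod q] V)) (p : ℕ) [Fact p.Prime]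
    (hG : IsPGroup p G) (huniq : UniqP G p) (hfpf : NormalFpf ρ) : Semireg ρ := by
  have hp : p.Prime := Fact.out
  intro v hv g hg
  by_contra hg1
  obtain ⟨m, hm⟩ := SEMIFPF.exists_pow_order p hG g hg1
  have hgs : g ∈ stab ρ v := hg
  have hys : g ^ m ∈ stab ρ v := pow_mem hgs m
  have hcard : Nat.card (Subgroup.zpowers (g ^ m)) = p := by
    rw [Nat.card_zpowers, hm]
  have hnorm : (Subgroup.zpowers (g ^ m)).Normal :=
    SEMIFPF.normal_of_uniqP p huniq _ hcard
  have hne : Subgroup.zpowers (g ^ m) ≠ ⊥ := by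
    intro hbot
    rw [hbot, Subgroup.card_bot] at hcard
    exact hp.one_lt.ne hcard
  have hle : Subgroup.zpowers (g ^ m) ≤ stab ρ v := by
    rw [Subgroup.zpowers_le]
    exact hys
  exact hv (hfpf _ hnorm hne v (fun n hn => hle hn))

end Cfsg.Agent.HT3371
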