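import Mathlib
import Cfsg.Agent.Helper25.HT3371Defs

set_option autoImplicit false

namespace Cfsg.Agent.HT3371

namespace UNIQ

/-- a subgroup of prime order `p` is generated by an element of order `p` -/
theorem exists_zpowers_of_card {G : Type*} [Group G] (p : ℕ) [hp : Fact p.Prime]
    (H : Subgroup G) (hH : Nat.card H = p) :
    ∃ a : G, orderOf a = p ∧ H = Subgroup.zpowers a := by
  haveI : Finite H := Nat.finite_of_card_ne_zero (by rw [hH]; exact hp.out.ne_zero)
  have hnt : Nontrivial H := by
    rw [← Finite.one_lt_card_iff_nontrivial, hH]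
    exact hp.out.one_lt
  obtain ⟨x, hx⟩ := exists_ne (1 : H)
  have hox : orderOf x = p := by
    have hdvd : orderOf x ∣ p := hH ▸ orderOf_dvd_natCard x
    rcases (Nat.dvd_prime hp.out).1 hdvd with h1 | h1
    · exact absurd (orderOf_eq_one_iff.1 h1) hx
    · exact h1
  refine ⟨(x : G), ?_, ?_⟩
  · rw [Subgroup.orderOf_coe, hox]
  · have hle : Subgroup.zpowers (x : G) ≤ H := by
      rw [Subgroup.zpowers_le]
      exact x.2
    symm
    apply Subgroup.eq_of_le_of_card_ge hle
    rw [hH, Nat.card_zpowers, Subgroup.orderOf_coe, hox]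

/-- a nontrivial finite `p`-group has a central element of order `p` -/
theorem exists_central {G : Type*} [Group G] [Finite G] (p : ℕ) [hp : Fact p.Prime]
    (hG : IsPGroup p G) [Nontrivial G] :
    ∃ z : G, orderOf z = p ∧ ∀ g : G, g * z = z * g := by
  haveI : Nontrivial (Subgroup.center G) := hG.center_nontrivial
  have hdvd : p ∣ Nat.card (Subgroup.center G) := by
    obtain ⟨n, hn⟩ := (hG.to_subgroup (Subgroup.center G)).exists_card_eq
    have hn0 : n ≠ 0 := by
      rintro rfl
      rw [pow_zero] at hn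
      have := Finite.one_lt_card_iff_nontrivial.2 ‹Nontrivial (Subgroup.center G)›
      omega
    rw [hn]
    exact dvd_pow_self p hn0
  obtain ⟨z, hz⟩ := exists_prime_orderOf_dvd_card' p hdvd
  refine ⟨(z : G), ?_, ?_⟩
  · rw [Subgroup.orderOf_coe, hz]
  · intro g
    exact (Subgroup.mem_center_iff.1 z.2 g)

end UNIQ

theorem uniqP_of_mem_zpowers {G : Type*} [Group G] [Finite G] (p : ℕ) [Fact p.Prime]
    (hG : IsPGroup p G)
    (hmem : ∀ a z : G, a * z = z * a → orderOf a = p → orderOf z = p → a ∈ Subgroup.zpowers z) :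
    UniqP G p := by
  have hp : p.Prime := Fact.out
  have key : ∀ z : G, orderOf z = p → (∀ g : G, g * z = z * g) →
      ∀ H : Subgroup G, Nat.card H = p → H = Subgroup.zpowers z := by
    intro z hz hzc H hH
    obtain ⟨a, ha, rfl⟩ := UNIQ.exists_zpowers_of_card p H hH
    have hle : Subgroup.zpowers a ≤ Subgroup.zpowers z := by
      rw [Subgroup.zpowers_le]
      exact hmem a z (hzc a) ha hz
    apply Subgroup.eq_of_le_of_card_ge hle
    rw [Nat.card_zpowers, Nat.card_zpowers, ha, hz]
  intro H K hH hK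
  haveI : Nontrivial G := by
    obtain ⟨a, ha, -⟩ := UNIQ.exists_zpowers_of_card p H hH
    refine ⟨⟨a, 1, ?_⟩⟩
    rintro rfl
    rw [orderOf_one] at ha
    exact hp.one_lt.ne ha
  obtain ⟨z, hz, hzc⟩ := UNIQ.exists_central p hG
  rw [key z hz hzc H hH, key z hz hzc K hK]

end Cfsg.Agent.HT3371
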