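import Mathlib
import Cfsg.Agent.Helper18.K2P.Defs
import Cfsg.Agent.Helper18.K2P.Defs2
import Cfsg.Agent.Helper18.K2P.QB
import Cfsg.Agent.Helper18.K2P.RACT
import Cfsg.Agent.Helper18.K2P.STAB
import Cfsg.Agent.Helper18.K2P.OMEGA
import Cfsg.Agent.Helper8.K2PG
import Cfsg.Agent.Helper1.K2PPAIRF
import Cfsg.Agent.Helper7.K2MSMOVE

set_option autoImplicit false
set_option linter.unusedSectionVars false
set_option linter.unusedVariables false

/-! # S5692, chapter K2P, chapter B, piece B1 (helper8): a non-block `InA` vector with a singular nonzero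
component gives a frame Siegel element (`B.SING`).  Also the symmetry `e ↔ f` of the block model (`BP.symm8`,
`SiegF.symm8`) and the change of the block vector of `InA` (`B.SING.aux_changeb`). -/

namespace Cfsg.Agent.K2P

open Matrix Cfsg.Agent.OC2P Cfsg.Agent.Helper28.Sg Cfsg.Agent.Helper28.Spin
  Cfsg.Agent.Helper12.OrthGen Cfsg.Agent.K2M

variable {F : Type*} [Field F] [Fintype F] {t : ℕ} {Q : QuadraticForm F (Fin t × Fin 2 → F)}
  {q : QuadraticForm F (Fin 2 → F)} {e f : Fin 2 → F} {M : Subgroup (OG Q)}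

omit [Fintype F] in
/-- the block model with `e`, `f` exchanged -/
theorem BP.symm8 (bp : BP Q q e f) : BP Q q f e :=
  { toBM0 := bp.toBM0, qe := bp.qf, qf := bp.qe, ef := PLANE.polar_fe bp }

omit [Fintype F] in
theorem SiegF.symm8 (h : SiegF Q q f e M) : SiegF Q q e f M := by
  obtain ⟨i, u, w, hu, hue, hw0, hwi, hw⟩ := h
  exact ⟨i, u, w, hu, hue.symm, hw0, hwi, hw⟩

/-- the block vector of `InA` can be moved to any block -/
theorem B.SING.aux_changeb (bp : BP Q q e f) (ht : 3 ≤ t) (hM : HasMO M)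
    {a : Fin t × Fin 2 → F} (ha : InA M a) (k : Fin t) :
    ∃ (y : Fin 2 → F) (ha' : Q a ≠ 0) (hb : Q (binj k y) ≠ 0),
      reflO Q a ha' * reflO Q (binj k y) hb ∈ M := by
  obtain ⟨b, ha', hb, ⟨k0, hbk⟩, hQ, hab⟩ := ha
  obtain ⟨y, hy⟩ := UNIV.main bp (Q a)
  have hb' : Q (binj k y) ≠ 0 := by rw [QB.Q_binj bp.toBM0, hy]; exact ha'
  have hbeq : b = binj k0 (bproj k0 b) := QB.mem_Dblk_iff'.mp hbk
  have hb0 : Q (binj k0 (bproj k0 b)) ≠ 0 := by rw [← hbeq]; exact hb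
  have hqb : q (bproj k0 b) = Q a := by
    rw [← QB.Q_binj bp.toBM0 k0, ← hbeq, hQ]
  have h1 : reflO Q (binj k0 (bproj k0 b)) hb0 * reflO Q (binj k y) hb' ∈ M :=
    OMEGA.pair_mem bp.toBM0 ht hM k0 k _ _ hb0 hb' ⟨Q a, by rw [hqb, hy]⟩
  have h2 : reflO Q b hb = reflO Q (binj k0 (bproj k0 b)) hb0 := reflO_congr' hbeq hb hb0
  refine ⟨y, ha', hb', ?_⟩
  have h3 : reflO Q a ha' * reflO Q (binj k y) hb' =
      (reflO Q a ha' * reflO Q b hb) * (reflO Q b hb * reflO Q (binj k y) hb') := by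
    rw [mul_assoc, ← mul_assoc (reflO Q b hb), reflO_mul_self, one_mul]
  rw [h3]
  apply M.mul_mem hab
  rw [h2]
  exact h1

/-- a nonzero square different from `1` -/
theorem B.SING.aux_sq (hq : 7 ≤ Fintype.card F) : ∃ lam : F, lam ≠ 0 ∧ lam ≠ 1 ∧ IsSquare lam := by
  classical
  obtain ⟨s, h0, h1, h2, -, -⟩ := PAIRF.exists_avoid hq (0 : F) 1 (-1) 0 0
  refine ⟨s * s, mul_ne_zero h0 h0, ?_, ⟨s, rfl⟩⟩
  intro h
  have h3 : (s - 1) * (s + 1) = 0 := by linear_combination h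
  rcases mul_eq_zero.mp h3 with h4 | h4
  · exact h1 (sub_eq_zero.mp h4)
  · exact h2 (eq_neg_of_add_eq_zero_left h4)

/-- the case `a_i = α e` -/
theorem B.SING.aux_e (bp : BP Q q e f) (ht : 3 ≤ t) (hq : 7 ≤ Fintype.card F) (hM : HasMO M)
    {a : Fin t × Fin 2 → F} (ha : InA M a) (hab : ¬ IsBlk a) {i : Fin t} {α : F} (hα : α ≠ 0)
    (hi : bproj i a = α • e) : SiegF Q q e f M := by
  classical
  -- a block `k ≠ i`
  obtain ⟨k, hki⟩ : ∃ k : Fin t, k ≠ i := by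
    by_cases h0 : i = ⟨0, by omega⟩
    · refine ⟨⟨1, by omega⟩, ?_⟩
      rw [h0]; intro h; simp [Fin.ext_iff] at h
    · exact ⟨⟨0, by omega⟩, fun h => h0 h.symm⟩
  obtain ⟨yb, ha', hb, hrab⟩ := B.SING.aux_changeb bp ht hM ha k
  obtain ⟨lam, hl0, hl1, hlsq⟩ := B.SING.aux_sq (F := F) hq
  have hm : TOR.rho bp i lam hl0 ∈ M := TOR.mem bp ht hM i hl0 hlsq
  have hmb : mt Q (TOR.rho bp i lam hl0) *ᵥ binj k yb = binj k yb :=
    TOR.fix bp i hl0 (bproj_binj_ne (Ne.symm hki) yb)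
  have hma : mt Q (TOR.rho bp i lam hl0) *ᵥ a = a + ((lam - 1) * α) • binj i e := by
    rw [TOR.mulVec bp i hl0, hi, QuadraticMap.polar_smul_left, QuadraticMap.polar_smul_left, bp.ef,
      PLANE.polar_ee bp]
    simp only [smul_eq_mul, mul_one, mul_zero, zero_smul, add_zero]
  have hQma : Q (mt Q (TOR.rho bp i lam hl0) *ᵥ a) = Q a := Q_isom _ a
  have hQma' : Q (mt Q (TOR.rho bp i lam hl0) *ᵥ a) ≠ 0 := by rw [hQma]; exact ha'
  have hrel := SMOVE.main ha' hb hrab hm hmb hQma'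
  have hzeq : a - mt Q (TOR.rho bp i lam hl0) *ᵥ a = ((1 - lam) * α) • binj i e := by
    rw [hma]
    have : ((1 - lam) * α) • binj i e = -(((lam - 1) * α) • binj i e) := by
      rw [← neg_smul]; congr 1; ring
    rw [this]; abel
  have hQe : Q (binj i e) = 0 := by rw [QB.Q_binj bp.toBM0, bp.qe]
  have hz : Q (a - mt Q (TOR.rho bp i lam hl0) *ᵥ a) = 0 := by
    rw [hzeq, QuadraticMap.map_smul, hQe, smul_zero]
  have hw := STOSIEG.main ha' hQma' hQma hz hrel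
  -- rescale the centre
  have hc0 : (1 - lam) * α ≠ 0 := mul_ne_zero (sub_ne_zero.mpr (Ne.symm hl1)) hα
  have hcu : Q (((1 - lam) * α) • binj i e) = 0 := by rw [← hzeq]; exact hz
  have hw1 : (-(Q a)⁻¹) • a ∈ Rad M (((1 - lam) * α) • binj i e) hcu :=
    mem_Rad_of_eq hcu hw hzeq rfl
  have hw2 : ((1 - lam) * α) • ((-(Q a)⁻¹) • a) ∈ Rad M (binj i e) hQe :=
    Rad_smul_left hQe _ hcu hw1
  -- remove the component `i`
  obtain ⟨c, hc⟩ : ∃ c : F, c = ((1 - lam) * α) * (-(Q a)⁻¹) := ⟨_, rfl⟩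
  have hcne : c ≠ 0 := by
    rw [hc]; exact mul_ne_zero hc0 (neg_ne_zero.mpr (inv_ne_zero ha'))
  have hw3 : c • a ∈ Rad M (binj i e) hQe := by
    rw [hc, mul_smul]; exact hw2
  have hw4 : c • a - (c * α) • binj i e ∈ Rad M (binj i e) hQe :=
    (Rad M (binj i e) hQe).sub_mem hw3 (smul_self_mem_Rad hQe _)
  refine ⟨i, e, c • a - (c * α) • binj i e, hQe, Or.inl rfl, ?_, ?_, hw4⟩
  · intro h0
    apply hab
    refine ⟨i, QB.mem_Dblk_iff.mpr ?_⟩
    intro i' hi'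
    have h1 : bproj i' (c • a - (c * α) • binj i e) = 0 := by rw [h0]; rfl
    rw [QB.bproj_sub, QB.bproj_smul, QB.bproj_smul, bproj_binj_ne hi', smul_zero, sub_zero] at h1
    exact (smul_eq_zero.mp h1).resolve_left hcne
  · rw [QB.bproj_sub, QB.bproj_smul, QB.bproj_smul, bproj_binj, hi, mul_smul, sub_self]

/-- B1: a non-block `InA` vector with a singular nonzero component gives a frame Siegel element -/
theorem B.SING (bp : BP Q q e f) (ht : 3 ≤ t) (hq : 7 ≤ Fintype.card F) (hM : HasMO M)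
    {a : Fin t × Fin 2 → F} (ha : InA M a) (hab : ¬ IsBlk a) {i : Fin t} (hi0 : bproj i a ≠ 0)
    (hiq : q (bproj i a) = 0) : SiegF Q q e f M := by
  rcases PLANE.sing bp hiq with ⟨α, hα⟩ | ⟨α, hα⟩
  · have hα0 : α ≠ 0 := by
      rintro rfl
      rw [zero_smul] at hα
      exact hi0 hα
    exact B.SING.aux_e bp ht hq hM ha hab hα0 hα
  · have hα0 : α ≠ 0 := by
      rintro rfl
      rw [zero_smul] at hα
      exact hi0 hα
    exact SiegF.symm8 (B.SING.aux_e (BP.symm8 bp) ht hq hM ha hab hα0 hα)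

end Cfsg.Agent.K2P
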