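import Mathlib
import Cfsg.Agent.Helper18.K2P.Defs
import Cfsg.Agent.Helper18.K2P.Defs2
import Cfsg.Agent.Helper18.K2P.QB
import Cfsg.Agent.Helper18.K2P.RACT
import Cfsg.Agent.Helper18.K2P.STAB
import Cfsg.Agent.Helper18.K2P.OMEGA
import Cfsg.Agent.Helper18.K2P.BASIS
import Cfsg.Agent.Helper8.K2PG
import Cfsg.Agent.Helper8.K2PROT
import Cfsg.Agent.Helper8.K2PBSING
import Cfsg.Agent.Helper1.K2PPAIRF
import Cfsg.Agent.Helper7.K2MSMOVE

set_option autoImplicit false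
set_option linter.unusedSectionVars false
set_option linter.unusedVariables false

/-! # S5692, chapter K2P, chapter B, piece B4 (helper8): `B.FOUR` (four nonsingular components whose norms have
a square product, and a fifth nonzero component, give `SiegOut`), via block-diagonal torus elements
(`B.FOUR.TorBy`) and the general step `B.FOUR.aux_core`. -/

namespace Cfsg.Agent.K2P

open Matrix Cfsg.Agent.OC2P Cfsg.Agent.Helper28.Sg Cfsg.Agent.Helper28.Spin
  Cfsg.Agent.Helper12.OrthGen Cfsg.Agent.K2M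

variable {F : Type*} [Field F] [Fintype F] {t : ℕ} {Q : QuadraticForm F (Fin t × Fin 2 → F)}
  {q : QuadraticForm F (Fin 2 → F)} {e f : Fin 2 → F} {M : Subgroup (OG Q)}

/-- `g` acts on the block `i` as the rotation `rotV (ν i)`, for every `i` -/
def B.FOUR.TorBy (q : QuadraticForm F (Fin 2 → F)) (e f : Fin 2 → F) (g : OG Q) (ν : Fin t → F) : Prop :=
  ∀ x i, bproj i (mt Q g *ᵥ x) = rotV q e f (ν i) (bproj i x)

theorem B.FOUR.tor_rho (bp : BP Q q e f) (i : Fin t) {lam : F} (hl : lam ≠ 0) :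
    B.FOUR.TorBy q e f (TOR.rho bp i lam hl) (Function.update (fun _ => (1 : F)) i lam) := by
  intro x j
  rw [ROT.aux_rho bp i hl, QB.bproj_add]
  by_cases hj : j = i
  · subst hj
    rw [bproj_binj, Function.update_self]
    abel
  · rw [bproj_binj_ne hj, add_zero, Function.update_of_ne hj, BASIS.rotV_one bp]

omit [Fintype F] in
theorem B.FOUR.tor_mul (bp : BP Q q e f) {g g' : OG Q} {ν ν' : Fin t → F}
    (h : B.FOUR.TorBy q e f g ν) (h' : B.FOUR.TorBy q e f g' ν') :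
    B.FOUR.TorBy q e f (g * g') (fun i => ν i * ν' i) := by
  intro x i
  rw [mt_mul_mulVec, h, h', BASIS.rotV_rotV bp]

omit [Fintype F] in
theorem B.FOUR.aux_q_sub (bp : BP Q q e f) (ν : F) (y : Fin 2 → F) :
    q (y - rotV q e f ν y) = (1 - ν) * (1 - ν⁻¹) * q y := by
  obtain ⟨c, d, rfl⟩ := BASIS.span bp y
  rw [BASIS.rotV_comb bp]
  have h : c • e + d • f - ((ν * c) • e + (ν⁻¹ * d) • f) =
      ((1 - ν) * c) • e + ((1 - ν⁻¹) * d) • f := by module
  rw [h, BASIS.q_comb bp, BASIS.q_comb bp]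
  ring

/-- the general torus step -/
theorem B.FOUR.aux_core (bp : BP Q q e f) (ht : 3 ≤ t) (hM : HasMO M) {a : Fin t × Fin 2 → F}
    (ha : InA M a) {m : OG Q} (hm : m ∈ M) {N : Fin t → F} (hN : B.FOUR.TorBy q e f m N)
    (I : Finset (Fin t)) (hI : I.card ≤ 4) (hNI : ∀ i, i ∉ I → N i = 1) {k : Fin t} (hk : k ∉ I)
    (hak : bproj k a ≠ 0)
    (hQz : ∑ i, (1 - N i) * (1 - (N i)⁻¹) * q (bproj i a) = 0) {i0 : Fin t}
    (hi0 : (1 - N i0) * (1 - (N i0)⁻¹) * q (bproj i0 a) ≠ 0) : SiegOut M := by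
  classical
  obtain ⟨yb, ha', hb, hrab⟩ := B.SING.aux_changeb bp ht hM ha k
  have hmb : mt Q m *ᵥ binj k yb = binj k yb := by
    apply QB.ext
    intro i
    rw [hN]
    by_cases hi : i = k
    · subst hi
      rw [bproj_binj, hNI i hk, BASIS.rotV_one bp]
    · rw [bproj_binj_ne hi, BASIS.rotV_zero]
  have hQma : Q (mt Q m *ᵥ a) = Q a := Q_isom m a
  have hQma' : Q (mt Q m *ᵥ a) ≠ 0 := by rw [hQma]; exact ha'
  have hrel := SMOVE.main ha' hb hrab hm hmb hQma'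
  have hzi : ∀ i, bproj i (a - mt Q m *ᵥ a) = bproj i a - rotV q e f (N i) (bproj i a) := by
    intro i
    rw [QB.bproj_sub, hN]
  have hqz : ∀ i, q (bproj i (a - mt Q m *ᵥ a)) = (1 - N i) * (1 - (N i)⁻¹) * q (bproj i a) := by
    intro i
    rw [hzi, B.FOUR.aux_q_sub bp]
  have hz : Q (a - mt Q m *ᵥ a) = 0 := by
    rw [bp.sum]
    simp_rw [hqz]
    exact hQz
  have hw := STOSIEG.main ha' hQma' hQma hz hrel
  refine ⟨a - mt Q m *ᵥ a, (-(Q a)⁻¹) • a, hz, I, k, ?_, hI, ?_, hk, hw, ?_⟩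
  · intro h0
    apply hi0
    rw [← hqz, h0, QB.bproj_zero, map_zero]
  · intro i hi
    rw [hzi, hNI i hi, BASIS.rotV_one bp, sub_self]
  · rw [QB.bproj_smul]
    exact smul_ne_zero (neg_ne_zero.mpr (inv_ne_zero ha')) hak

/-- the pairing equation in the shape of the torus step -/
theorem B.FOUR.aux_pair {n n' lam mu : F} (hl : lam ≠ 0) (hm : mu ≠ 0)
    (h : n * (1 - lam) ^ 2 * mu + n' * (1 - mu) ^ 2 * lam = 0) :
    (1 - lam) * (1 - lam⁻¹) * n + (1 - mu) * (1 - mu⁻¹) * n' = 0 := by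
  have h1 : (1 - lam) * (1 - lam⁻¹) * n + (1 - mu) * (1 - mu⁻¹) * n' =
      -(n * (1 - lam) ^ 2 * mu + n' * (1 - mu) ^ 2 * lam) / (lam * mu) := by
    field_simp
    ring
  rw [h1, h, neg_zero, zero_div]

/-- B4 -/
theorem B.FOUR (bp : BP Q q e f) (ht : 5 ≤ t) (hq : 7 ≤ Fintype.card F) (hM : HasMO M)
    {a : Fin t × Fin 2 → F} (ha : InA M a) (c : Fin 5 → Fin t) (hc : Function.Injective c)
    (hne : ∀ s : Fin 4, q (bproj (c s.castSucc) a) ≠ 0)
    (hsq : IsSquare (q (bproj (c 0) a) * q (bproj (c 1) a) * q (bproj (c 2) a) * q (bproj (c 3) a)))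
    (h4 : bproj (c 4) a ≠ 0) : SiegOut M := by
  classical
  have hn0 : q (bproj (c 0) a) ≠ 0 := hne 0
  have hn1 : q (bproj (c 1) a) ≠ 0 := hne 1
  have hn2 : q (bproj (c 2) a) ≠ 0 := hne 2
  have hn3 : q (bproj (c 3) a) ≠ 0 := hne 3
  obtain ⟨lam, mu, s, hl0, hl1, hm0, hm1, hP, hLM⟩ := PAIRF.main hq hn0 hn1
  obtain ⟨lam', mu', s', hl0', hl1', hm0', hm1', hP', hLM'⟩ := PAIRF.main hq hn2 hn3
  have h01 : c 0 ≠ c 1 := fun h => by simpa using hc h
  have h02 : c 0 ≠ c 2 := fun h => by simpa using hc h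
  have h03 : c 0 ≠ c 3 := fun h => by simpa using hc h
  have h04 : c 0 ≠ c 4 := fun h => by simpa using hc h
  have h12 : c 1 ≠ c 2 := fun h => by simpa using hc h
  have h13 : c 1 ≠ c 3 := fun h => by simpa using hc h
  have h14 : c 1 ≠ c 4 := fun h => by simpa using hc h
  have h23 : c 2 ≠ c 3 := fun h => by simpa using hc h
  have h24 : c 2 ≠ c 4 := fun h => by simpa using hc h
  have h34 : c 3 ≠ c 4 := fun h => by simpa using hc h
  have hlm0 : lam * mu ≠ 0 := mul_ne_zero hl0 hm0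
  have hlml0 : lam * mu * lam' ≠ 0 := mul_ne_zero hlm0 hl0'
  -- the three pairs
  have hg1 : TOR.rho bp (c 0) lam hl0 * TOR.rho bp (c 1) lam⁻¹ (inv_ne_zero hl0) ∈ M :=
    TOR.mem2 bp (by omega) hM h01 hl0 (inv_ne_zero hl0) ⟨1, by rw [mul_inv_cancel₀ hl0, mul_one]⟩
  have hg2 : TOR.rho bp (c 1) (lam * mu) hlm0 * TOR.rho bp (c 2) (lam * mu)⁻¹ (inv_ne_zero hlm0) ∈ M :=
    TOR.mem2 bp (by omega) hM h12 hlm0 (inv_ne_zero hlm0) ⟨1, by rw [mul_inv_cancel₀ hlm0, mul_one]⟩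
  have hg3 : TOR.rho bp (c 2) (lam * mu * lam') hlml0 * TOR.rho bp (c 3) mu' hm0' ∈ M := by
    apply TOR.mem2 bp (by omega) hM h23 hlml0 hm0'
    obtain ⟨r, hr⟩ := hsq
    refine ⟨r * s * s', ?_⟩
    have : lam * mu * lam' * mu' = (lam * mu) * (lam' * mu') := by ring
    rw [this, hLM, hLM']
    linear_combination (s ^ 2 * s' ^ 2) * hr
  have hm : TOR.rho bp (c 0) lam hl0 * TOR.rho bp (c 1) lam⁻¹ (inv_ne_zero hl0) *
      (TOR.rho bp (c 1) (lam * mu) hlm0 * TOR.rho bp (c 2) (lam * mu)⁻¹ (inv_ne_zero hlm0)) *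
      (TOR.rho bp (c 2) (lam * mu * lam') hlml0 * TOR.rho bp (c 3) mu' hm0') ∈ M :=
    M.mul_mem (M.mul_mem hg1 hg2) hg3
  have hT := B.FOUR.tor_mul bp (B.FOUR.tor_mul bp
    (B.FOUR.tor_mul bp (B.FOUR.tor_rho bp (c 0) hl0) (B.FOUR.tor_rho bp (c 1) (inv_ne_zero hl0)))
    (B.FOUR.tor_mul bp (B.FOUR.tor_rho bp (c 1) hlm0) (B.FOUR.tor_rho bp (c 2) (inv_ne_zero hlm0))))
    (B.FOUR.tor_mul bp (B.FOUR.tor_rho bp (c 2) hlml0) (B.FOUR.tor_rho bp (c 3) hm0'))
  obtain ⟨N, hNdef⟩ : ∃ N : Fin t → F, N = fun i =>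
      Function.update (fun _ => (1 : F)) (c 0) lam i *
        Function.update (fun _ => (1 : F)) (c 1) lam⁻¹ i *
      (Function.update (fun _ => (1 : F)) (c 1) (lam * mu) i *
        Function.update (fun _ => (1 : F)) (c 2) (lam * mu)⁻¹ i) *
      (Function.update (fun _ => (1 : F)) (c 2) (lam * mu * lam') i *
        Function.update (fun _ => (1 : F)) (c 3) mu' i) := ⟨_, rfl⟩
  rw [← hNdef] at hT
  have hN0 : N (c 0) = lam := by
    rw [hNdef]
    simp [h01, h02, h03]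
  have hN1 : N (c 1) = mu := by
    rw [hNdef]
    simp [h01.symm, h12, h13]
    field_simp
  have hN2 : N (c 2) = lam' := by
    rw [hNdef]
    simp [h02.symm, h12.symm, h23]
    field_simp
  have hN3 : N (c 3) = mu' := by
    rw [hNdef]
    simp [h03.symm, h13.symm, h23.symm]
  have hNo : ∀ i, i ∉ ({c 0, c 1, c 2, c 3} : Finset (Fin t)) → N i = 1 := by
    intro i hi
    simp only [Finset.mem_insert, Finset.mem_singleton, not_or] at hi
    rw [hNdef]
    simp [hi.1, hi.2.1, hi.2.2.1, hi.2.2.2]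
  have hk : c 4 ∉ ({c 0, c 1, c 2, c 3} : Finset (Fin t)) := by
    simp only [Finset.mem_insert, Finset.mem_singleton, not_or]
    exact ⟨h04.symm, h14.symm, h24.symm, h34.symm⟩
  -- the sum
  have hsum : ∑ i, (1 - N i) * (1 - (N i)⁻¹) * q (bproj i a) = 0 := by
    have hinj : Function.Injective (fun s : Fin 4 => c s.castSucc) :=
      fun x y hxy => Fin.castSucc_injective _ (hc hxy)
    rw [← Fintype.sum_of_injective (fun s : Fin 4 => c s.castSucc) hinj
      (fun s => (1 - N (c s.castSucc)) * (1 - (N (c s.castSucc))⁻¹) * q (bproj (c s.castSucc) a))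
      (fun i => (1 - N i) * (1 - (N i)⁻¹) * q (bproj i a)) ?_ (fun s => rfl)]
    · rw [Fin.sum_univ_four]
      show (1 - N (c 0)) * (1 - (N (c 0))⁻¹) * q (bproj (c 0) a) +
        (1 - N (c 1)) * (1 - (N (c 1))⁻¹) * q (bproj (c 1) a) +
        (1 - N (c 2)) * (1 - (N (c 2))⁻¹) * q (bproj (c 2) a) +
        (1 - N (c 3)) * (1 - (N (c 3))⁻¹) * q (bproj (c 3) a) = 0
      rw [hN0, hN1, hN2, hN3, add_assoc, B.FOUR.aux_pair hl0 hm0 hP, B.FOUR.aux_pair hl0' hm0' hP',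
        add_zero]
    · intro i hi
      have hi' : i ∉ ({c 0, c 1, c 2, c 3} : Finset (Fin t)) := by
        simp only [Finset.mem_insert, Finset.mem_singleton, not_or]
        refine ⟨?_, ?_, ?_, ?_⟩
        · rintro rfl; exact hi ⟨0, rfl⟩
        · rintro rfl; exact hi ⟨1, rfl⟩
        · rintro rfl; exact hi ⟨2, rfl⟩
        · rintro rfl; exact hi ⟨3, rfl⟩
      rw [hNo i hi', sub_self, zero_mul, zero_mul]
  refine B.FOUR.aux_core bp (by omega) hM ha hm hT ({c 0, c 1, c 2, c 3} : Finset (Fin t))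
    Finset.card_le_four hNo hk h4 hsum (i0 := c 0) ?_
  rw [hN0]
  refine mul_ne_zero (mul_ne_zero (sub_ne_zero.mpr (Ne.symm hl1)) ?_) hn0
  rw [sub_ne_zero]
  intro h
  apply hl1
  have := inv_eq_one.mp h.symm
  exact this

end Cfsg.Agent.K2P
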