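import Mathlib
import Cfsg.Prelude.Def_Blocks
import Cfsg.Prelude.Def_BlockRank
import Cfsg.Agent.Helper23.ContribH

/-!
# Columns of truncated generalized decomposition numbers and their class functions

For weights `w` on `Irr(C)` the column `T_τ = ∑_θ w_θ D_{τθ}` (with `D` the truncated generalized
decomposition numbers of the `p`-element `x`, `C = C_G(x)`) is the family of coefficients of the
class function on `G` supported on the `p`-section of `x` with values `∑_θ w_θ conj θ(c)` at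
`x c`.  When these values are local integers, `|G| T_χ / χ(1)` is constant modulo the local ideal
on every block.
-/

set_option autoImplicit false
set_option linter.unusedSectionVars false
set_option linter.unusedVariables false
set_option linter.unusedSimpArgs false
set_option linter.unnecessarySimpa false
set_option linter.style.haveILetI false

namespace Cfsg.Agent.Helper8.KB

open Cfsg Cfsg.Agent.Helper24 Cfsg.Agent.Helper5 Cfsg.Agent.Helper5.CC Cfsg.Agent.Helper5.Loc
open Cfsg.Agent.Helper8.SecCore Cfsg.Agent.Helper23.SubTr Cfsg.Agent.Helper23.CM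

variable {G : Type*} [Group G] [Fintype G] {M : Ideal AlgInt}

/-- The weighted column `T_τ = ∑_θ w_θ D_{τθ}`. -/
noncomputable def col (p : ℕ) (x : G) (C : Subgroup G) [Fintype C] [Fintype (IrrCharacter C)]
    (w : IrrCharacter C → ℂ) (τ : IrrCharacter G) : ℂ :=
  ∑ θ : IrrCharacter C, w θ * dnum p x C τ θ

/-- The class function `g ↦ ∑_τ T_τ conj τ(g)` on `G`. -/
noncomputable def colFun [Fintype (IrrCharacter G)] (p : ℕ) (x : G) (C : Subgroup G) [Fintype C]
    [Fintype (IrrCharacter C)] (w : IrrCharacter C → ℂ) (g : G) : ℂ :=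
  ∑ τ : IrrCharacter G, col p x C w τ * (starRingEnd ℂ) ((τ : G → ℂ) g)

theorem isClassFunction_colFun [Fintype (IrrCharacter G)] (p : ℕ) (x : G) (C : Subgroup G)
    [Fintype C] [Fintype (IrrCharacter C)] (w : IrrCharacter C → ℂ) :
    IsClassFunction G (colFun p x C w) := by
  haveI : Finite G := Finite.of_fintype G
  intro g h
  simp only [colFun]
  refine Finset.sum_congr rfl fun τ _ => ?_
  rw [isClassFunction_irr τ g h]

/-- The scalar by which `colFun` acts on `χ`. -/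
theorem act_colFun [Fintype (IrrCharacter G)] (p : ℕ) (x : G) (C : Subgroup G) [Fintype C]
    [Fintype (IrrCharacter C)] (w : IrrCharacter C → ℂ) (χ : IrrCharacter G) :
    act (colFun p x C w) χ = (Nat.card G : ℂ) * col p x C w χ / (χ : G → ℂ) 1 := by
  classical
  haveI : Finite G := Finite.of_fintype G
  have hG0 : (Nat.card G : ℂ) ≠ 0 := by exact_mod_cast (Nat.card_pos (α := G)).ne'
  rw [act]
  congr 1
  simp only [colFun]
  have h1 : ∀ t : G, (∑ τ : IrrCharacter G, col p x C w τ * (starRingEnd ℂ) ((τ : G → ℂ) t)) *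
      (χ : G → ℂ) t = ∑ τ : IrrCharacter G, col p x C w τ *
        ((χ : G → ℂ) t * (starRingEnd ℂ) ((τ : G → ℂ) t)) := by
    intro t
    rw [Finset.sum_mul]
    refine Finset.sum_congr rfl fun τ _ => ?_
    ring
  rw [Finset.sum_congr rfl (fun t _ => h1 t), Finset.sum_comm]
  have h2 : ∀ τ : IrrCharacter G, ∑ t : G, col p x C w τ *
      ((χ : G → ℂ) t * (starRingEnd ℂ) ((τ : G → ℂ) t)) =
      col p x C w τ * ((Nat.card G : ℂ) * (if χ = τ then 1 else 0)) := by
    intro τ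
    rw [← Finset.mul_sum, ← classInner_irr χ τ, classInner, ← mul_assoc (Nat.card G : ℂ),
      mul_inv_cancel₀ hG0, one_mul]
  rw [Finset.sum_congr rfl (fun τ _ => h2 τ), Finset.sum_eq_single χ]
  · rw [if_pos rfl]; ring
  · intro τ _ hτ
    rw [if_neg (fun h => hτ h.symm)]; ring
  · intro h; exact absurd (Finset.mem_univ _) h

/-- The expansion of `θ` on the `p`-regular elements through the Gram matrix. -/
theorem sum_gram_mul_irr {H : Type*} [Group H] [Fintype H] [Fintype (IrrCharacter H)] (p : ℕ)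
    (θ : IrrCharacter H) (c : H) :
    ∑ ψ : IrrCharacter H, gram p θ ψ * (ψ : H → ℂ) c = rr p c * (θ : H → ℂ) c := by
  haveI : Finite H := Finite.of_fintype H
  have h := IsClassFunction.eq_sum_classInner (isClassFunction_rr_mul p (isClassFunction_irr θ))
  have h2 := congrFun h c
  simp only [Finset.sum_apply, Pi.smul_apply, smul_eq_mul] at h2
  rw [h2]
  rfl

/-- The value of `colFun` at `x c₀` for `p`-regular `c₀`. -/
theorem colFun_mul_reg [Fintype (IrrCharacter G)] {p : ℕ} [hp : Fact p.Prime] (x : G)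
    (hx : ∃ k : ℕ, orderOf x = p ^ k) (C : Subgroup G) [Fintype C] [Fintype (IrrCharacter C)]
    (hcomm : ∀ c : C, x * (c : G) = (c : G) * x)
    (hcent : Subgroup.centralizer ({x} : Set G) ≤ C) (w : IrrCharacter C → ℂ)
    (c₀ : C) (hc₀ : ¬ p ∣ orderOf c₀) :
    colFun p x C w (x * (c₀ : G)) =
      ∑ θ : IrrCharacter C, w θ * (starRingEnd ℂ) ((θ : C → ℂ) c₀) := by
  classical
  haveI : Finite G := Finite.of_fintype G
  haveI : Finite C := Finite.of_fintype C
  simp only [colFun, col]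
  simp_rw [Finset.sum_mul]
  rw [Finset.sum_comm]
  refine Finset.sum_congr rfl fun θ _ => ?_
  simp_rw [mul_assoc]
  rw [← Finset.mul_sum]
  congr 1
  -- ∑_τ D_{τθ} conj τ(x c₀) = conj θ(c₀)
  have h1 : ∀ τ : IrrCharacter G, dnum p x C τ θ * (starRingEnd ℂ) ((τ : G → ℂ) (x * (c₀ : G))) =
      (Nat.card C : ℂ)⁻¹ * ∑ c : C, (if p ∣ orderOf c then (0 : ℂ) else 1) *
        (starRingEnd ℂ) ((θ : C → ℂ) c) *
        ((τ : G → ℂ) (x * (c : G)) * (starRingEnd ℂ) ((τ : G → ℂ) (x * (c₀ : G)))) := by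
    intro τ
    simp only [dnum]
    rw [mul_assoc, Finset.sum_mul]
    congr 1
    refine Finset.sum_congr rfl fun c _ => ?_
    ring
  rw [Finset.sum_congr rfl (fun τ _ => h1 τ), ← Finset.mul_sum, Finset.sum_comm]
  have h2 : ∀ c : C, ∑ τ : IrrCharacter G, (if p ∣ orderOf c then (0 : ℂ) else 1) *
        (starRingEnd ℂ) ((θ : C → ℂ) c) *
        ((τ : G → ℂ) (x * (c : G)) * (starRingEnd ℂ) ((τ : G → ℂ) (x * (c₀ : G)))) =
      ∑ ψ : IrrCharacter C, (starRingEnd ℂ) ((ψ : C → ℂ) c₀) *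
        ((if p ∣ orderOf c then (0 : ℂ) else 1) * (ψ : C → ℂ) c *
          (starRingEnd ℂ) ((θ : C → ℂ) c)) := by
    intro c
    rw [← Finset.mul_sum]
    by_cases hc : p ∣ orderOf c
    · simp only [if_pos hc, zero_mul, mul_zero, Finset.sum_const_zero]
    · rw [sum_irr_section_eq x hx C hcomm hcent c c₀ hc hc₀, Finset.mul_sum]
      refine Finset.sum_congr rfl fun ψ _ => ?_
      simp only [if_neg hc]
      ring
  rw [Finset.sum_congr rfl (fun c _ => h2 c), Finset.sum_comm, Finset.mul_sum]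
  have h3 : ∀ ψ : IrrCharacter C, (Nat.card C : ℂ)⁻¹ * ∑ c : C,
      (starRingEnd ℂ) ((ψ : C → ℂ) c₀) *
        ((if p ∣ orderOf c then (0 : ℂ) else 1) * (ψ : C → ℂ) c *
          (starRingEnd ℂ) ((θ : C → ℂ) c)) =
      (starRingEnd ℂ) (gram p θ ψ * (ψ : C → ℂ) c₀) := by
    intro ψ
    rw [map_mul, gram_conj, ← Finset.mul_sum]
    simp only [gram, classInner, rr]
    ring
  rw [Finset.sum_congr rfl (fun ψ _ => h3 ψ), ← map_sum, sum_gram_mul_irr, rr_of_not_dvd hc₀,
    one_mul]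

/-- `colFun` vanishes outside the `p`-section of `x`. -/
theorem colFun_eq_zero [Fintype (IrrCharacter G)] {p : ℕ} (x : G)
    (C : Subgroup G) [Fintype C] [Fintype (IrrCharacter C)] (w : IrrCharacter C → ℂ) (g : G)
    (hg : ∀ c₀ : C, ¬ p ∣ orderOf c₀ → ¬ IsConj (x * (c₀ : G)) g) :
    colFun p x C w g = 0 := by
  classical
  haveI : Finite G := Finite.of_fintype G
  simp only [colFun, col]
  simp_rw [Finset.sum_mul]
  rw [Finset.sum_comm]
  apply Finset.sum_eq_zero
  intro θ _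
  simp_rw [mul_assoc]
  rw [← Finset.mul_sum]
  have h1 : ∀ τ : IrrCharacter G, dnum p x C τ θ * (starRingEnd ℂ) ((τ : G → ℂ) g) =
      (Nat.card C : ℂ)⁻¹ * ∑ c : C, (if p ∣ orderOf c then (0 : ℂ) else 1) *
        (starRingEnd ℂ) ((θ : C → ℂ) c) *
        ((τ : G → ℂ) (x * (c : G)) * (starRingEnd ℂ) ((τ : G → ℂ) g)) := by
    intro τ
    simp only [dnum]
    rw [mul_assoc, Finset.sum_mul]
    congr 1
    refine Finset.sum_congr rfl fun c _ => ?_
    ring
  rw [Finset.sum_congr rfl (fun τ _ => h1 τ), ← Finset.mul_sum, Finset.sum_comm]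
  have h2 : ∀ c : C, ∑ τ : IrrCharacter G, (if p ∣ orderOf c then (0 : ℂ) else 1) *
        (starRingEnd ℂ) ((θ : C → ℂ) c) *
        ((τ : G → ℂ) (x * (c : G)) * (starRingEnd ℂ) ((τ : G → ℂ) g)) = 0 := by
    intro c
    rw [← Finset.mul_sum]
    by_cases hc : p ∣ orderOf c
    · simp only [if_pos hc, zero_mul]
    · rw [sum_irr_mul_conj, if_neg (hg c hc), mul_zero]
  rw [Finset.sum_congr rfl (fun c _ => h2 c), Finset.sum_const_zero, mul_zero, mul_zero]

/-- `colFun` has local values as soon as `c ↦ ∑_θ w_θ conj θ(c)` has on the `p`-regular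
elements of `C`. -/
theorem lr_colFun [Fintype (IrrCharacter G)] {p : ℕ} [hp : Fact p.Prime] (hMp : M.IsPrime) (x : G)
    (hx : ∃ k : ℕ, orderOf x = p ^ k) (C : Subgroup G) [Fintype C] [Fintype (IrrCharacter C)]
    (hcomm : ∀ c : C, x * (c : G) = (c : G) * x)
    (hcent : Subgroup.centralizer ({x} : Set G) ≤ C) (w : IrrCharacter C → ℂ)
    (hφ : ∀ c₀ : C, ¬ p ∣ orderOf c₀ →
      MemLocalRing M (∑ θ : IrrCharacter C, w θ * (starRingEnd ℂ) ((θ : C → ℂ) c₀)))
    (g : G) : MemLocalRing M (colFun p x C w g) := by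
  classical
  by_cases h : ∃ c₀ : C, ¬ p ∣ orderOf c₀ ∧ IsConj (x * (c₀ : G)) g
  · obtain ⟨c₀, hc₀, hconj⟩ := h
    obtain ⟨t, ht⟩ := isConj_iff.mp hconj
    rw [← ht, isClassFunction_colFun p x C w (x * (c₀ : G)) t,
      colFun_mul_reg x hx C hcomm hcent w c₀ hc₀]
    exact hφ c₀ hc₀
  · rw [colFun_eq_zero x C w g (fun c₀ hc₀ hcon => h ⟨c₀, hc₀, hcon⟩)]
    exact memLocalRing_zero hMp

/-- **Transfer of units along a block.** -/
theorem col_unit_transfer [Fintype (IrrCharacter G)] {p : ℕ} [hp : Fact p.Prime]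
    (hM : IsPModular p M) (x : G)
    (hx : ∃ k : ℕ, orderOf x = p ^ k) (C : Subgroup G) [Fintype C] [Fintype (IrrCharacter C)]
    (hcomm : ∀ c : C, x * (c : G) = (c : G) * x)
    (hcent : Subgroup.centralizer ({x} : Set G) ≤ C) (w : IrrCharacter C → ℂ)
    (hφ : ∀ c₀ : C, ¬ p ∣ orderOf c₀ →
      MemLocalRing M (∑ θ : IrrCharacter C, w θ * (starRingEnd ℂ) ((θ : C → ℂ) c₀)))
    {B : Set (IrrCharacter G)} (hB : IsPBlock M B) (ψ χ : IrrCharacter G) (hψ : ψ ∈ B)
    (hχ : χ ∈ B)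
    (hu : ¬ MemLocalIdeal M ((Nat.card G : ℂ) * col p x C w ψ / (ψ : G → ℂ) 1)) :
    ¬ MemLocalIdeal M ((Nat.card G : ℂ) * col p x C w χ / (χ : G → ℂ) 1) := by
  have hMp := isPrime_of_isPModular hM
  have h1 := act_sub_act_memLocalIdeal hMp (isClassFunction_colFun p x C w)
    (lr_colFun hMp x hx C hcomm hcent w hφ) (sameBlock_of_mem hMp hB hχ hψ)
  rw [act_colFun, act_colFun] at h1
  intro h2
  apply hu
  have := li_sub hMp h2 h1
  rwa [sub_sub_cancel] at this

theorem col_ne_zero_of_unit [Fintype (IrrCharacter G)] {p : ℕ} [hp : Fact p.Prime]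
    (hM : IsPModular p M) (x : G)
    (hx : ∃ k : ℕ, orderOf x = p ^ k) (C : Subgroup G) [Fintype C] [Fintype (IrrCharacter C)]
    (hcomm : ∀ c : C, x * (c : G) = (c : G) * x)
    (hcent : Subgroup.centralizer ({x} : Set G) ≤ C) (w : IrrCharacter C → ℂ)
    (hφ : ∀ c₀ : C, ¬ p ∣ orderOf c₀ →
      MemLocalRing M (∑ θ : IrrCharacter C, w θ * (starRingEnd ℂ) ((θ : C → ℂ) c₀)))
    {B : Set (IrrCharacter G)} (hB : IsPBlock M B) (ψ χ : IrrCharacter G) (hψ : ψ ∈ B)
    (hχ : χ ∈ B)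
    (hu : ¬ MemLocalIdeal M ((Nat.card G : ℂ) * col p x C w ψ / (ψ : G → ℂ) 1)) :
    col p x C w χ ≠ 0 := by
  have hMp := isPrime_of_isPModular hM
  intro h0
  apply col_unit_transfer hM x hx C hcomm hcent w hφ hB ψ χ hψ hχ hu
  rw [h0, mul_zero, zero_div]
  exact memLocalIdeal_zero hMp

end Cfsg.Agent.Helper8.KB
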