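import Mathlib
import Cfsg.Prelude.Def_Blocks
import Cfsg.Prelude.Def_BlockRank
import Cfsg.Agent.Helper8.KB1

/-!
# Major subsections: every row of generalized decomposition numbers is non-zero

* `pow_mul_contrib_not_li`: `p^d m_{χχ'}` is a local unit for `χ, χ'` of height zero.
* `col_rowW_ne_zero`: for a major subsection `(x, e)` of `B` the number
  `∑_{θ ∈ e} a_{χθ} θ(1)` is non-zero for every `χ ∈ B` (Brauer).
-/

set_option autoImplicit false
set_option linter.unusedSectionVars false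
set_option linter.unusedVariables false
set_option linter.unusedSimpArgs false
set_option linter.unnecessarySimpa false
set_option linter.style.haveILetI false

namespace Cfsg.Agent.Helper8.KB

open Cfsg Cfsg.Agent.Helper24 Cfsg.Agent.Helper5 Cfsg.Agent.Helper5.CC Cfsg.Agent.Helper5.Loc
open Cfsg.Agent.Helper8.SecCore Cfsg.Agent.Helper23.SubTr Cfsg.Agent.Helper23.CM
open Cfsg.Agent.Helper8.HZI Cfsg.Agent.Helper8.IndHt

variable {G : Type*} [Group G] [Fintype G] {M : Ideal AlgInt}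

/-- `|C|_{p'} p^d m_{χχ'} = ∑_{θ ∈ e} a_{χθ} u_θ W_θ`. -/
theorem mm_pow_contrib_eq [Fintype (IrrCharacter G)] {p : ℕ} [hp : Fact p.Prime]
    (hM : IsPModular p M) (x : G)
    (C : Subgroup G) [Fintype C] [Fintype (IrrCharacter C)]
    (hcomm : ∀ c : C, x * (c : G) = (c : G) * x)
    {e : Set (IrrCharacter C)} [DecidablePred (· ∈ e)] (he : IsPBlock M e)
    (χ χ' : IrrCharacter G) :
    (mm C p : ℂ) * ((p : ℂ) ^ blockDefect p e * contrib p x C e χ χ') =
      ∑ θ : IrrCharacter C, if θ ∈ e then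
        acoef x C χ θ * (cofac p e θ : ℂ) * act (vfun p x⁻¹ C χ') θ else 0 := by
  classical
  haveI : Finite G := Finite.of_fintype G
  haveI : Finite C := Finite.of_fintype C
  have hMp := isPrime_of_isPModular hM
  obtain ⟨θ₀, hθ₀, hθ₀v⟩ := exists_minVal p (IsPBlock.nonempty hMp he)
  set mv := minVal p e with hmv
  set a := (Nat.card C).factorization p with ha
  have hmva : mv ≤ a := by
    rw [← hθ₀v]; exact factorization_irrDeg_le_card p θ₀
  have hd : blockDefect p e = a - mv := blockDefect_eq p e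
  have hp0 : (p : ℂ) ≠ 0 := by exact_mod_cast hp.out.pos.ne'
  have hpmv : (p : ℂ) ^ mv ≠ 0 := pow_ne_zero _ hp0
  have hpa : (p : ℂ) ^ a ≠ 0 := pow_ne_zero _ hp0
  have hmm0 : (mm C p : ℂ) ≠ 0 := by
    have : mm C p ≠ 0 := fun h0 => (not_dvd_mm (G := C) p) (h0 ▸ dvd_zero p)
    exact_mod_cast this
  have hNC : (Nat.card C : ℂ) = (p : ℂ) ^ a * (mm C p : ℂ) := by
    have := Nat.ordProj_mul_ordCompl_eq_self (Nat.card C) p
    rw [← ha] at this
    have h2 : (Nat.card C : ℂ) = ((p ^ a * mm C p : ℕ) : ℂ) := by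
      congr 1; exact this.symm
    rw [h2]; push_cast; ring
  have hθ1 : ∀ θ ∈ e, (θ : C → ℂ) 1 = (p : ℂ) ^ mv * (cofac p e θ : ℂ) := by
    intro θ hθ
    rw [irrDeg_spec, cofac_spec p hθ]; push_cast; ring
  have hpd : (p : ℂ) ^ a = (p : ℂ) ^ blockDefect p e * (p : ℂ) ^ mv := by
    rw [hd, ← pow_add, Nat.sub_add_cancel hmva]
  rw [contrib_eq_sum_acoef hM x C hcomm e he χ χ', Finset.mul_sum, Finset.mul_sum]
  refine Finset.sum_congr rfl fun θ _ => ?_
  by_cases hθ : θ ∈ e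
  swap
  · rw [if_neg hθ, if_neg hθ, mul_zero, mul_zero]
  rw [if_pos hθ, if_pos hθ, conj_dnum_eq_act p x C hcomm χ' θ, hθ1 θ hθ, hNC, hpd]
  have h1 := pow_ne_zero (blockDefect p e) hp0
  field_simp

/-- **`p^d m_{χχ'}` is a local unit for `χ`, `χ'` of height zero.** -/
theorem pow_mul_contrib_not_li [Fintype (IrrCharacter G)] {p : ℕ} [hp : Fact p.Prime]
    (hM : IsPModular p M) (x : G) (k : ℕ) (hxk : x ^ (p ^ k) = 1)
    (C : Subgroup G) [Fintype C] [Fintype (IrrCharacter C)] (hxC : x ∈ C)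
    (hcomm : ∀ c : C, x * (c : G) = (c : G) * x)
    {e : Set (IrrCharacter C)} [DecidablePred (· ∈ e)] {B : Set (IrrCharacter G)}
    (hind : IsInducedBlock M C e B)
    (χ χ' : IrrCharacter G) (hχ : χ ∈ B) (hχ' : χ' ∈ B)
    (hmin : ∀ ξ ∈ B, (irrDeg χ).factorization p ≤ (irrDeg ξ).factorization p)
    (hmin' : ∀ ξ ∈ B, (irrDeg χ').factorization p ≤ (irrDeg ξ).factorization p) :
    ¬ MemLocalIdeal M ((p : ℂ) ^ blockDefect p e * contrib p x C e χ χ') := by
  classical
  haveI : Finite G := Finite.of_fintype G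
  haveI : Finite C := Finite.of_fintype C
  have hMp := isPrime_of_isPModular hM
  have he : IsPBlock M e := hind.1
  obtain ⟨θ₀, hθ₀⟩ := IsPBlock.nonempty hMp he
  have hcomm' : ∀ c : C, x⁻¹ * (c : G) = (c : G) * x⁻¹ := by
    intro c
    have := hcomm c
    calc x⁻¹ * (c : G) = x⁻¹ * ((c : G) * x) * x⁻¹ := by group
      _ = x⁻¹ * (x * (c : G)) * x⁻¹ := by rw [this]
      _ = (c : G) * x⁻¹ := by group
  have hxk' : x⁻¹ ^ (p ^ k) = 1 := by rw [inv_pow, hxk, inv_one]
  set W : IrrCharacter C → ℂ := fun θ => act (vfun p x⁻¹ C χ') θ with hW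
  have hW_lr : ∀ θ, MemLocalRing M (W θ) := fun θ =>
    act_lr hMp (isClassFunction_vfun p x⁻¹ C hcomm' χ') (lr_vfun hMp p x⁻¹ C χ') θ
  have hW_diff : ∀ θ ∈ e, MemLocalIdeal M (W θ - W θ₀) := fun θ hθ =>
    act_sub_act_memLocalIdeal hMp (isClassFunction_vfun p x⁻¹ C hcomm' χ')
      (lr_vfun hMp p x⁻¹ C χ') (sameBlock_of_mem hMp he hθ hθ₀)
  have hW₀ : ¬ MemLocalIdeal M (W θ₀) :=
    act_vfun_not_li hM x⁻¹ k hxk' C hcomm' hind χ' hχ' hmin' θ₀ hθ₀
  have hlr_ac : ∀ (θ : IrrCharacter C), MemLocalRing M (acoef x C χ θ) :=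
    fun θ => memLocalRing_of_isIntegral hMp (isIntegral_acoef x C hxC hcomm χ θ)
  set A : ℂ := ∑ θ : IrrCharacter C,
    if θ ∈ e then acoef x C χ θ * (cofac p e θ : ℂ) else 0 with hA
  have hA_lr : MemLocalRing M A := by
    refine lr_sum hMp _ _ fun θ _ => ?_
    split_ifs
    · exact lr_mul hMp (hlr_ac θ) (memLocalRing_natCast hMp _)
    · exact memLocalRing_zero hMp
  have hA_nli : ¬ MemLocalIdeal M A :=
    sum_acoef_cofac_not_li hM x k hxk C hxC hcomm hind χ hχ hmin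
  intro hli
  have h1 : MemLocalIdeal M ((mm C p : ℂ) *
      ((p : ℂ) ^ blockDefect p e * contrib p x C e χ χ')) :=
    li_mul_left hMp (memLocalRing_natCast hMp _) hli
  rw [mm_pow_contrib_eq hM x C hcomm he χ χ'] at h1
  have h2 : A * W θ₀ = (∑ θ : IrrCharacter C, if θ ∈ e then
        acoef x C χ θ * (cofac p e θ : ℂ) * W θ else 0) -
      ∑ θ : IrrCharacter C,
        (if θ ∈ e then acoef x C χ θ * (cofac p e θ : ℂ) * (W θ - W θ₀) else 0) := by
    rw [hA, Finset.sum_mul, ← Finset.sum_sub_distrib]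
    refine Finset.sum_congr rfl fun θ _ => ?_
    split_ifs <;> ring
  have h3 : MemLocalIdeal M (A * W θ₀) := by
    rw [h2]
    refine li_sub hMp h1 (li_sum hMp _ _ fun θ _ => ?_)
    by_cases hθ : θ ∈ e
    · rw [if_pos hθ]
      exact li_mul_left hMp (lr_mul hMp (hlr_ac θ) (memLocalRing_natCast hMp _)) (hW_diff θ hθ)
    · rw [if_neg hθ]; exact memLocalIdeal_zero hMp
  rcases li_of_mul hMp hA_lr (hW_lr θ₀) h3 with h | h
  · exact hA_nli h
  · exact hW₀ h

/-- The row weight `u_θ / p^d` on the block `e`. -/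
noncomputable def rowW (p : ℕ) {H : Type*} [Group H] [Finite H] (e : Set (IrrCharacter H))
    [DecidablePred (· ∈ e)] (θ : IrrCharacter H) : ℂ :=
  if θ ∈ e then (cofac p e θ : ℂ) / (p : ℂ) ^ blockDefect p e else 0

/-- The class function of the row weight is `|H|_{p'}` times the block idempotent. -/
theorem sum_rowW_mul_conj {H : Type*} [Group H] [Fintype H] [Fintype (IrrCharacter H)]
    {p : ℕ} [hp : Fact p.Prime] (hMp : M.IsPrime)
    (e : Set (IrrCharacter H)) [DecidablePred (· ∈ e)] (he : IsPBlock M e) (c₀ : H) :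
    ∑ θ : IrrCharacter H, rowW p e θ * (starRingEnd ℂ) ((θ : H → ℂ) c₀) =
      (mm H p : ℂ) * blockCoeff e c₀ := by
  classical
  haveI : Finite H := Finite.of_fintype H
  obtain ⟨θ₀, hθ₀, hθ₀v⟩ := exists_minVal p (IsPBlock.nonempty hMp he)
  set mv := minVal p e with hmv
  set a := (Nat.card H).factorization p with ha
  have hmva : mv ≤ a := by
    rw [← hθ₀v]; exact factorization_irrDeg_le_card p θ₀
  have hd : blockDefect p e = a - mv := blockDefect_eq p e
  have hp0 : (p : ℂ) ≠ 0 := by exact_mod_cast hp.out.pos.ne'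
  have hpmv : (p : ℂ) ^ mv ≠ 0 := pow_ne_zero _ hp0
  have hpa : (p : ℂ) ^ a ≠ 0 := pow_ne_zero _ hp0
  have hpd0 : (p : ℂ) ^ blockDefect p e ≠ 0 := pow_ne_zero _ hp0
  have hmm0 : (mm H p : ℂ) ≠ 0 := by
    have : mm H p ≠ 0 := fun h0 => (not_dvd_mm (G := H) p) (h0 ▸ dvd_zero p)
    exact_mod_cast this
  have hNC : (Nat.card H : ℂ) = (p : ℂ) ^ a * (mm H p : ℂ) := by
    have := Nat.ordProj_mul_ordCompl_eq_self (Nat.card H) p
    rw [← ha] at this
    have h2 : (Nat.card H : ℂ) = ((p ^ a * mm H p : ℕ) : ℂ) := by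
      congr 1; exact this.symm
    rw [h2]; push_cast; ring
  have hθ1 : ∀ θ ∈ e, (θ : H → ℂ) 1 = (p : ℂ) ^ mv * (cofac p e θ : ℂ) := by
    intro θ hθ
    rw [irrDeg_spec, cofac_spec p hθ]; push_cast; ring
  have hpd : (p : ℂ) ^ a = (p : ℂ) ^ blockDefect p e * (p : ℂ) ^ mv := by
    rw [hd, ← pow_add, Nat.sub_add_cancel hmva]
  rw [blockCoeff_eq, Finset.mul_sum, Finset.mul_sum]
  refine Finset.sum_congr rfl fun θ _ => ?_
  by_cases hθ : θ ∈ e
  · rw [rowW, if_pos hθ, if_pos hθ, hθ1 θ hθ, hNC, hpd]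
    field_simp
  · rw [rowW, if_neg hθ, if_neg hθ]; ring

/-- The column of the row weight is `p^{-d} ∑_{θ ∈ e} a_{χθ} u_θ`. -/
theorem col_rowW [Fintype (IrrCharacter G)] {p : ℕ} [hp : Fact p.Prime]
    (hM : IsPModular p M) (x : G)
    (C : Subgroup G) [Fintype C] [Fintype (IrrCharacter C)]
    (hcomm : ∀ c : C, x * (c : G) = (c : G) * x)
    {e : Set (IrrCharacter C)} [DecidablePred (· ∈ e)] (he : IsPBlock M e)
    (χ : IrrCharacter G) :
    col p x C (rowW p e) χ = ((p : ℂ) ^ blockDefect p e)⁻¹ *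
      ∑ θ : IrrCharacter C, if θ ∈ e then acoef x C χ θ * (cofac p e θ : ℂ) else 0 := by
  classical
  haveI : Finite G := Finite.of_fintype G
  haveI : Finite C := Finite.of_fintype C
  have hMp := isPrime_of_isPModular hM
  set mv := minVal p e with hmv
  have hp0 : (p : ℂ) ≠ 0 := by exact_mod_cast hp.out.pos.ne'
  have hpmv : (p : ℂ) ^ mv ≠ 0 := pow_ne_zero _ hp0
  have hθ1 : ∀ θ ∈ e, (θ : C → ℂ) 1 = (p : ℂ) ^ mv * (cofac p e θ : ℂ) := by
    intro θ hθ
    rw [irrDeg_spec, cofac_spec p hθ]; push_cast; ring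
  -- ∑_{θ ∈ e} Γ_{θ'θ} u_θ = [θ' ∈ e] u_θ'
  have hΓu : ∀ θ' : IrrCharacter C, ∑ θ : IrrCharacter C,
      (if θ ∈ e then gram p θ' θ * (cofac p e θ : ℂ) else 0) =
      if θ' ∈ e then (cofac p e θ' : ℂ) else 0 := by
    intro θ'
    by_cases hθ' : θ' ∈ e
    · rw [if_pos hθ']
      apply mul_left_cancel₀ hpmv
      rw [← hθ1 θ' hθ', Finset.mul_sum]
      have h1 := sum_gram_mul_irr p θ' (1 : C)
      have h2 : rr p (1 : C) = 1 := by
        apply rr_of_not_dvd
        rw [orderOf_one]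
        exact hp.out.one_lt.ne' ∘ Nat.dvd_one.mp
      rw [h2, one_mul] at h1
      rw [← h1]
      refine Finset.sum_congr rfl fun θ _ => ?_
      by_cases hθ : θ ∈ e
      · rw [if_pos hθ, hθ1 θ hθ]; ring
      · rw [if_neg hθ, gram_eq_zero hM he hθ' hθ]; ring
    · rw [if_neg hθ']
      apply Finset.sum_eq_zero
      intro θ _
      by_cases hθ : θ ∈ e
      · rw [if_pos hθ, gram_eq_zero' hM he hθ' hθ, zero_mul]
      · rw [if_neg hθ]
  simp only [col]
  have h3 : ∀ θ : IrrCharacter C, rowW p e θ * dnum p x C χ θ =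
      ((p : ℂ) ^ blockDefect p e)⁻¹ * ∑ θ' : IrrCharacter C, acoef x C χ θ' *
        (if θ ∈ e then gram p θ' θ * (cofac p e θ : ℂ) else 0) := by
    intro θ
    by_cases hθ : θ ∈ e
    · rw [rowW, if_pos hθ, dnum_eq_sum_gram p x C hcomm χ θ, Finset.mul_sum, Finset.mul_sum]
      refine Finset.sum_congr rfl fun θ' _ => ?_
      rw [if_pos hθ]; ring
    · rw [rowW, if_neg hθ, zero_mul]
      simp only [if_neg hθ, mul_zero, Finset.sum_const_zero]
  rw [Finset.sum_congr rfl (fun θ _ => h3 θ), ← Finset.mul_sum, Finset.sum_comm]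
  congr 1
  refine Finset.sum_congr rfl fun θ' _ => ?_
  rw [← Finset.mul_sum, hΓu θ']
  split_ifs <;> ring

/-- **Brauer: for a major subsection all rows are non-zero.** -/
theorem col_rowW_ne_zero [Fintype (IrrCharacter G)] {p : ℕ} [hp : Fact p.Prime]
    (hM : IsPModular p M) (x : G) (hx : ∃ k : ℕ, orderOf x = p ^ k)
    (C : Subgroup G) [Fintype C] [Fintype (IrrCharacter C)] (hxC : x ∈ C)
    (hcomm : ∀ c : C, x * (c : G) = (c : G) * x)
    (hcent : Subgroup.centralizer ({x} : Set G) ≤ C)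
    {e : Set (IrrCharacter C)} [DecidablePred (· ∈ e)] {B : Set (IrrCharacter G)}
    (hind : IsInducedBlock M C e B) (hdef : blockDefect p e = blockDefect p B)
    (χ : IrrCharacter G) (hχ : χ ∈ B) :
    col p x C (rowW p e) χ ≠ 0 := by
  classical
  haveI : Finite G := Finite.of_fintype G
  haveI : Finite C := Finite.of_fintype C
  have hMp := isPrime_of_isPModular hM
  have he : IsPBlock M e := hind.1
  have hB : IsPBlock M B := hind.2.1
  obtain ⟨k₀, hk₀⟩ := hx
  have hxk : x ^ (p ^ k₀) = 1 := by rw [← hk₀]; exact pow_orderOf_eq_one x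
  obtain ⟨ψ, hψ, hψv⟩ := exists_minVal p (IsPBlock.nonempty hMp hB)
  have hmin : ∀ ξ ∈ B, (irrDeg ψ).factorization p ≤ (irrDeg ξ).factorization p := by
    intro ξ hξ; rw [hψv]; exact minVal_le p hξ
  refine col_ne_zero_of_unit hM x ⟨k₀, hk₀⟩ C hcomm hcent (rowW p e) ?_ hB ψ χ hψ hχ ?_
  · intro c₀ _
    rw [sum_rowW_mul_conj hMp e he c₀]
    exact lr_mul hMp (memLocalRing_natCast hMp _) (osima hMp e he c₀)
  · -- the unit at ψ
    set A : ℂ := ∑ θ : IrrCharacter C,
      if θ ∈ e then acoef x C ψ θ * (cofac p e θ : ℂ) else 0 with hA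
    have hA_nli : ¬ MemLocalIdeal M A :=
      sum_acoef_cofac_not_li hM x k₀ hxk C hxC hcomm hind ψ hψ hmin
    have hA_lr : MemLocalRing M A := by
      refine lr_sum hMp _ _ fun θ _ => ?_
      split_ifs
      · exact lr_mul hMp (memLocalRing_of_isIntegral hMp (isIntegral_acoef x C hxC hcomm ψ θ))
          (memLocalRing_natCast hMp _)
      · exact memLocalRing_zero hMp
    set mv := minVal p B with hmv
    set a := (Nat.card G).factorization p with ha
    have hmva : mv ≤ a := by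
      rw [← hψv]; exact factorization_irrDeg_le_card p ψ
    have hd : blockDefect p B = a - mv := blockDefect_eq p B
    have hp0 : (p : ℂ) ≠ 0 := by exact_mod_cast hp.out.pos.ne'
    have hpmv : (p : ℂ) ^ mv ≠ 0 := pow_ne_zero _ hp0
    have hpd0 : (p : ℂ) ^ blockDefect p e ≠ 0 := pow_ne_zero _ hp0
    have hNG : (Nat.card G : ℂ) = (p : ℂ) ^ a * (mm G p : ℂ) := by
      have := Nat.ordProj_mul_ordCompl_eq_self (Nat.card G) p
      rw [← ha] at this
      have h2 : (Nat.card G : ℂ) = ((p ^ a * mm G p : ℕ) : ℂ) := by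
        congr 1; exact this.symm
      rw [h2]; push_cast; ring
    have hψ1 : (ψ : G → ℂ) 1 = (p : ℂ) ^ mv * (cofac p B ψ : ℂ) := by
      rw [irrDeg_spec, cofac_spec p hψ]; push_cast; ring
    have hc0 : (cofac p B ψ : ℂ) ≠ 0 := by
      intro h0
      have h1 := irr_one_ne_zero ψ
      rw [hψ1, h0, mul_zero] at h1
      exact h1 rfl
    have hpd : (p : ℂ) ^ a = (p : ℂ) ^ blockDefect p e * (p : ℂ) ^ mv := by
      rw [hdef, hd, ← pow_add, Nat.sub_add_cancel hmva]
    have hval : (Nat.card G : ℂ) * col p x C (rowW p e) ψ / (ψ : G → ℂ) 1 =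
        (mm G p : ℂ) * A / (cofac p B ψ : ℂ) := by
      rw [col_rowW hM x C hcomm he ψ, ← hA, hNG, hψ1, hpd]
      field_simp
    rw [hval]
    intro hli
    have h1 : MemLocalIdeal M ((mm G p : ℂ) * A) := by
      have := li_mul_left hMp (memLocalRing_natCast hMp (cofac p B ψ)) hli
      rwa [mul_div_cancel₀ _ hc0] at this
    rcases li_of_mul hMp (memLocalRing_natCast hMp _) hA_lr h1 with h | h
    · exact (not_dvd_mm (G := G) p) ((memLocalIdeal_natCast_iff hM _).mp h)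
    · exact hA_nli h

end Cfsg.Agent.Helper8.KB
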