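import Mathlib

/-!
# Lattices spanned by the rows of a rational projection of trace at most two

For a symmetric idempotent rational matrix `Γ` with `N Γ` integral and trace at most `2`, the
lattice spanned by the rows of `Γ` has a basis `v₁, v₂` (possibly `v₂ = 0`) which is reduced in the
sense of Gauss: `2 |v₁ · v₂| ≤ v₁ · v₁, v₂ · v₂`.
-/

set_option autoImplicit false
set_option linter.unusedSectionVars false
set_option linter.unusedVariables false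
set_option linter.unusedSimpArgs false
set_option linter.unnecessarySimpa false
set_option linter.style.haveILetI false

namespace Cfsg.Agent.Helper8.KB

open Module

variable {I : Type*} [Fintype I] [DecidableEq I]

/-- A generating pair of the row lattice of `Γ` with its integral coordinates. -/
structure LatData (Γ : I → I → ℚ) where
  v₁ : I → ℚ
  v₂ : I → ℚ
  m : I → ℤ
  n : I → ℤ
  t₁ : I → ℤ
  t₂ : I → ℤ
  hΓ : ∀ θ ψ, Γ θ ψ = (m θ : ℚ) * v₁ ψ + (n θ : ℚ) * v₂ ψ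
  hv₁ : ∀ ψ, v₁ ψ = ∑ θ, (t₁ θ : ℚ) * Γ θ ψ
  hv₂ : ∀ ψ, v₂ ψ = ∑ θ, (t₂ θ : ℚ) * Γ θ ψ

namespace LatData

variable {Γ : I → I → ℚ}

/-- `v₁ · v₁`. -/
def qA (D : LatData Γ) : ℚ := ∑ ψ, D.v₁ ψ * D.v₁ ψ
/-- `v₁ · v₂`. -/
def qB (D : LatData Γ) : ℚ := ∑ ψ, D.v₁ ψ * D.v₂ ψ
/-- `v₂ · v₂`. -/
def qC (D : LatData Γ) : ℚ := ∑ ψ, D.v₂ ψ * D.v₂ ψ

theorem qA_nonneg (D : LatData Γ) : 0 ≤ D.qA :=
  Finset.sum_nonneg fun ψ _ => mul_self_nonneg _

theorem qC_nonneg (D : LatData Γ) : 0 ≤ D.qC :=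
  Finset.sum_nonneg fun ψ _ => mul_self_nonneg _

/-- Exchange the two vectors. -/
def swap (D : LatData Γ) : LatData Γ where
  v₁ := D.v₂
  v₂ := D.v₁
  m := D.n
  n := D.m
  t₁ := D.t₂
  t₂ := D.t₁
  hΓ := fun θ ψ => by rw [D.hΓ θ ψ]; ring
  hv₁ := D.hv₂
  hv₂ := D.hv₁

theorem swap_qA (D : LatData Γ) : D.swap.qA = D.qC := rfl
theorem swap_qC (D : LatData Γ) : D.swap.qC = D.qA := rfl
theorem swap_qB (D : LatData Γ) : D.swap.qB = D.qB := by
  simp only [qB, swap]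
  exact Finset.sum_congr rfl fun ψ _ => mul_comm _ _

/-- Replace `v₂` by `v₂ - s v₁`. -/
def shear (D : LatData Γ) (s : ℤ) : LatData Γ where
  v₁ := D.v₁
  v₂ := fun ψ => D.v₂ ψ - (s : ℚ) * D.v₁ ψ
  m := fun θ => D.m θ + s * D.n θ
  n := D.n
  t₁ := D.t₁
  t₂ := fun θ => D.t₂ θ - s * D.t₁ θ
  hΓ := fun θ ψ => by rw [D.hΓ θ ψ]; push_cast; ring
  hv₁ := D.hv₁
  hv₂ := fun ψ => by
    rw [D.hv₂ ψ, D.hv₁ ψ, Finset.mul_sum, ← Finset.sum_sub_distrib]
    refine Finset.sum_congr rfl fun θ _ => ?_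
    push_cast; ring

theorem shear_qA (D : LatData Γ) (s : ℤ) : (D.shear s).qA = D.qA := rfl

theorem shear_qB (D : LatData Γ) (s : ℤ) : (D.shear s).qB = D.qB - s * D.qA := by
  simp only [qB, qA, shear]
  rw [Finset.mul_sum, ← Finset.sum_sub_distrib]
  refine Finset.sum_congr rfl fun ψ _ => ?_
  ring

theorem shear_qC (D : LatData Γ) (s : ℤ) :
    (D.shear s).qC = D.qC - 2 * s * D.qB + s ^ 2 * D.qA := by
  simp only [qB, qA, qC, shear]
  rw [Finset.mul_sum, Finset.mul_sum, ← Finset.sum_sub_distrib, ← Finset.sum_add_distrib]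
  refine Finset.sum_congr rfl fun ψ _ => ?_
  ring

end LatData

section Proj

variable {Γ : I → I → ℚ} (hsymm : ∀ θ ψ, Γ θ ψ = Γ ψ θ)
  (hidem : ∀ θ ψ, ∑ η, Γ θ η * Γ η ψ = Γ θ ψ)

include hsymm hidem in
/-- The dot product of two vectors of the row lattice. -/
theorem dot_eq (t s : I → ℚ) :
    ∑ ψ, (∑ θ, t θ * Γ θ ψ) * (∑ η, s η * Γ η ψ) = ∑ θ, ∑ η, t θ * s η * Γ θ η := by
  have h1 : ∀ ψ, (∑ θ, t θ * Γ θ ψ) * (∑ η, s η * Γ η ψ) =
      ∑ θ, ∑ η, t θ * s η * (Γ θ ψ * Γ ψ η) := by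
    intro ψ
    rw [Finset.sum_mul_sum]
    refine Finset.sum_congr rfl fun θ _ => Finset.sum_congr rfl fun η _ => ?_
    rw [hsymm η ψ]; ring
  rw [Finset.sum_congr rfl (fun ψ _ => h1 ψ), Finset.sum_comm]
  refine Finset.sum_congr rfl fun θ _ => ?_
  rw [Finset.sum_comm]
  refine Finset.sum_congr rfl fun η _ => ?_
  rw [← Finset.mul_sum, hidem θ η]

variable {N : ℕ} (hint : ∀ θ ψ, ∃ k : ℤ, (N : ℚ) * Γ θ ψ = k)

include hsymm hidem hint in
theorem exists_int_dot (t s : I → ℤ) :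
    ∃ k : ℤ, (N : ℚ) * ∑ ψ, (∑ θ, (t θ : ℚ) * Γ θ ψ) * (∑ η, (s η : ℚ) * Γ η ψ) = k := by
  choose g hg using hint
  refine ⟨∑ θ, ∑ η, t θ * s η * g θ η, ?_⟩
  rw [dot_eq hsymm hidem, Finset.mul_sum]
  push_cast
  refine Finset.sum_congr rfl fun θ _ => ?_
  rw [Finset.mul_sum]
  refine Finset.sum_congr rfl fun η _ => ?_
  rw [← hg θ η]; ring

include hsymm hidem hint in
theorem LatData.exists_int_qA (D : LatData Γ) : ∃ k : ℤ, (N : ℚ) * D.qA = k := by
  obtain ⟨k, hk⟩ := exists_int_dot hsymm hidem hint D.t₁ D.t₁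
  refine ⟨k, ?_⟩
  rw [← hk, LatData.qA]
  congr 1
  refine Finset.sum_congr rfl fun ψ _ => ?_
  rw [D.hv₁ ψ]

include hsymm hidem hint in
theorem LatData.exists_int_qB (D : LatData Γ) : ∃ k : ℤ, (N : ℚ) * D.qB = k := by
  obtain ⟨k, hk⟩ := exists_int_dot hsymm hidem hint D.t₁ D.t₂
  refine ⟨k, ?_⟩
  rw [← hk, LatData.qB]
  congr 1
  refine Finset.sum_congr rfl fun ψ _ => ?_
  rw [D.hv₁ ψ, D.hv₂ ψ]

include hsymm hidem hint in
theorem LatData.exists_int_qC (D : LatData Γ) : ∃ k : ℤ, (N : ℚ) * D.qC = k := by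
  obtain ⟨k, hk⟩ := exists_int_dot hsymm hidem hint D.t₂ D.t₂
  refine ⟨k, ?_⟩
  rw [← hk, LatData.qC]
  congr 1
  refine Finset.sum_congr rfl fun ψ _ => ?_
  rw [D.hv₂ ψ]

include hsymm hidem hint in
theorem LatData.exists_nat_measure (D : LatData Γ) :
    ∃ μ : ℕ, (N : ℚ) * (D.qA + D.qC) = μ := by
  obtain ⟨a, ha⟩ := D.exists_int_qA hsymm hidem hint
  obtain ⟨c, hc⟩ := D.exists_int_qC hsymm hidem hint
  have h0 : (0 : ℚ) ≤ (N : ℚ) * (D.qA + D.qC) :=
    mul_nonneg (Nat.cast_nonneg N) (add_nonneg D.qA_nonneg D.qC_nonneg)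
  have h1 : (N : ℚ) * (D.qA + D.qC) = ((a + c : ℤ) : ℚ) := by
    push_cast; rw [← ha, ← hc]; ring
  have h2 : (0 : ℤ) ≤ a + c := by
    rw [h1] at h0; exact_mod_cast h0
  refine ⟨(a + c).toNat, ?_⟩
  rw [h1]
  have : ((a + c).toNat : ℤ) = a + c := Int.toNat_of_nonneg h2
  exact_mod_cast this.symm

include hsymm hidem in
theorem LatData.sum_t₁_v₁ (D : LatData Γ) : ∑ θ, (D.t₁ θ : ℚ) * D.v₁ θ = D.qA := by
  have h1 := dot_eq hsymm hidem (fun θ => (D.t₁ θ : ℚ)) (fun θ => (D.t₁ θ : ℚ))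
  have h2 : D.qA = ∑ θ, ∑ η, (D.t₁ θ : ℚ) * (D.t₁ η : ℚ) * Γ θ η := by
    rw [← h1, LatData.qA]
    refine Finset.sum_congr rfl fun ψ _ => ?_
    rw [D.hv₁ ψ]
  rw [h2]
  refine Finset.sum_congr rfl fun θ _ => ?_
  rw [D.hv₁ θ, Finset.mul_sum]
  refine Finset.sum_congr rfl fun η _ => ?_
  rw [hsymm η θ]; ring

include hsymm hidem in
theorem LatData.sum_t₁_v₂ (D : LatData Γ) : ∑ θ, (D.t₁ θ : ℚ) * D.v₂ θ = D.qB := by
  have h1 := dot_eq hsymm hidem (fun θ => (D.t₁ θ : ℚ)) (fun θ => (D.t₂ θ : ℚ))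
  have h2 : D.qB = ∑ θ, ∑ η, (D.t₁ θ : ℚ) * (D.t₂ η : ℚ) * Γ θ η := by
    rw [← h1, LatData.qB]
    refine Finset.sum_congr rfl fun ψ _ => ?_
    rw [D.hv₁ ψ, D.hv₂ ψ]
  rw [h2]
  refine Finset.sum_congr rfl fun θ _ => ?_
  rw [D.hv₂ θ, Finset.mul_sum]
  refine Finset.sum_congr rfl fun η _ => ?_
  rw [hsymm η θ]; ring

include hsymm hidem in
theorem LatData.sum_t₂_v₁ (D : LatData Γ) : ∑ θ, (D.t₂ θ : ℚ) * D.v₁ θ = D.qB := by
  have := D.swap.sum_t₁_v₂ hsymm hidem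
  rw [D.swap_qB] at this
  exact this

include hsymm hidem in
theorem LatData.sum_t₂_v₂ (D : LatData Γ) : ∑ θ, (D.t₂ θ : ℚ) * D.v₂ θ = D.qC := by
  have := D.swap.sum_t₁_v₁ hsymm hidem
  rw [D.swap_qA] at this
  exact this

include hsymm hidem hint in
/-- Gauss reduction by descent. -/
theorem LatData.exists_reduced (hN : 0 < N) :
    ∀ (μ : ℕ) (D : LatData Γ), 0 < D.qA * D.qC - D.qB ^ 2 → (N : ℚ) * (D.qA + D.qC) = μ →
      ∃ D' : LatData Γ, 0 < D'.qA ∧ 0 < D'.qC ∧ 2 * |D'.qB| ≤ D'.qA ∧ 2 * |D'.qB| ≤ D'.qC := by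
  intro μ
  induction μ using Nat.strong_induction_on with
  | _ μ ih =>
    -- the one-sided step
    have step : ∀ D : LatData Γ, 0 < D.qA * D.qC - D.qB ^ 2 → (N : ℚ) * (D.qA + D.qC) = μ →
        D.qA < 2 * |D.qB| →
        ∃ D' : LatData Γ, 0 < D'.qA ∧ 0 < D'.qC ∧ 2 * |D'.qB| ≤ D'.qA ∧ 2 * |D'.qB| ≤ D'.qC := by
      intro D hdisc hμ hlt
      have hNq : (0 : ℚ) < N := by exact_mod_cast hN
      obtain ⟨s, hs1, hs2⟩ : ∃ s : ℤ, (s : ℚ) ^ 2 = 1 ∧ (s : ℚ) * D.qB = |D.qB| := by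
        rcases le_total 0 D.qB with h | h
        · exact ⟨1, by norm_num, by rw [abs_of_nonneg h]; push_cast; ring⟩
        · exact ⟨-1, by norm_num, by rw [abs_of_nonpos h]; push_cast; ring⟩
      set D' := D.shear s with hD'
      have hA' : D'.qA = D.qA := D.shear_qA s
      have hB' : D'.qB = D.qB - s * D.qA := D.shear_qB s
      have hC' : D'.qC = D.qC - 2 * |D.qB| + D.qA := by
        rw [hD', D.shear_qC s, hs1, mul_assoc, hs2]; ring
      have hdisc' : 0 < D'.qA * D'.qC - D'.qB ^ 2 := by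
        have : D'.qA * D'.qC - D'.qB ^ 2 = D.qA * D.qC - D.qB ^ 2 := by
          rw [hA', hB', D.shear_qC s]; ring
        rw [this]; exact hdisc
      obtain ⟨μ', hμ'⟩ := D'.exists_nat_measure hsymm hidem hint
      have hlt' : μ' < μ := by
        have h1 : (N : ℚ) * (D'.qA + D'.qC) < (N : ℚ) * (D.qA + D.qC) := by
          apply mul_lt_mul_of_pos_left _ hNq
          rw [hA', hC']; linarith
        rw [hμ, hμ'] at h1
        exact_mod_cast h1
      exact ih μ' hlt' D' hdisc' hμ'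
    intro D hdisc hμ
    have hA0 : 0 < D.qA := by
      rcases (D.qA_nonneg).lt_or_eq with h | h
      · exact h
      · rw [← h] at hdisc
        have := sq_nonneg D.qB
        linarith
    have hC0 : 0 < D.qC := by
      rcases (D.qC_nonneg).lt_or_eq with h | h
      · exact h
      · rw [← h] at hdisc
        have := sq_nonneg D.qB
        linarith
    by_cases h1 : D.qA < 2 * |D.qB|
    · exact step D hdisc hμ h1
    by_cases h2 : D.qC < 2 * |D.qB|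
    · have hdisc' : 0 < D.swap.qA * D.swap.qC - D.swap.qB ^ 2 := by
        rw [D.swap_qA, D.swap_qC, D.swap_qB]; linarith
      have hμ' : (N : ℚ) * (D.swap.qA + D.swap.qC) = μ := by
        rw [D.swap_qA, D.swap_qC, ← hμ]; ring
      exact step D.swap hdisc' hμ' (by rw [D.swap_qA, D.swap_qB]; exact h2)
    · exact ⟨D, hA0, hC0, not_lt.mp h1, not_lt.mp h2⟩

end Proj

/-- **Existence of a reduced generating pair.** -/
theorem exists_reduced_data (Γ : I → I → ℚ) (hsymm : ∀ θ ψ, Γ θ ψ = Γ ψ θ)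
    (hidem : ∀ θ ψ, ∑ η, Γ θ η * Γ η ψ = Γ θ ψ) (N : ℕ) (hN : 0 < N)
    (hint : ∀ θ ψ, ∃ k : ℤ, (N : ℚ) * Γ θ ψ = k) (htr : ∑ θ, Γ θ θ ≤ 2) :
    ∃ D : LatData Γ, (D.v₂ = 0 ∧ D.n = 0) ∨
      (0 < D.qA ∧ 0 < D.qC ∧ 2 * |D.qB| ≤ D.qA ∧ 2 * |D.qB| ≤ D.qC) := by
  classical
  -- the row lattice
  set row : I → I → ℚ := fun θ => Γ θ with hrow
  set Λ : Submodule ℤ (I → ℚ) := Submodule.span ℤ (Set.range row) with hΛ
  haveI : Module.Finite ℤ Λ := Module.Finite.span_of_finite ℤ (Set.finite_range row)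
  -- the projection
  set A : Matrix I I ℚ := Matrix.of Γ with hA
  set f : (I → ℚ) →ₗ[ℚ] (I → ℚ) := Matrix.toLin' A with hf
  have hAA : A * A = A := by
    ext θ ψ
    simp only [Matrix.mul_apply, hA, Matrix.of_apply]
    exact hidem θ ψ
  have hfid : IsIdempotentElem f := by
    show f * f = f
    rw [hf, Module.End.mul_eq_comp, ← Matrix.toLin'_mul, hAA]
  have hproj := LinearMap.IsIdempotentElem.isProj_range f hfid
  have htrace : (finrank ℚ (LinearMap.range f) : ℚ) = ∑ θ, Γ θ θ := by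
    rw [← hproj.trace, hf, Matrix.trace_toLin'_eq]
    simp only [Matrix.trace, Matrix.diag, hA, Matrix.of_apply]
  have hrank : finrank ℚ (LinearMap.range f) ≤ 2 := by
    have : (finrank ℚ (LinearMap.range f) : ℚ) ≤ 2 := by rw [htrace]; exact htr
    exact_mod_cast this
  have hrow_mem : ∀ θ, row θ ∈ LinearMap.range f := by
    intro θ
    refine ⟨Pi.single θ 1, ?_⟩
    ext ψ
    simp only [hf, Matrix.toLin'_apply, Matrix.mulVec_single, hA, hrow, MulOpposite.op_one,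
      Pi.smul_apply, Matrix.col_apply, Matrix.of_apply, one_smul]
    exact hsymm ψ θ
  have hΛle : ∀ v ∈ Λ, v ∈ LinearMap.range f := by
    intro v hv
    refine Submodule.span_induction (p := fun v _ => v ∈ LinearMap.range f) ?_ ?_ ?_ ?_ hv
    · rintro _ ⟨θ, rfl⟩; exact hrow_mem θ
    · exact Submodule.zero_mem _
    · intro x y _ _ hx hy; exact Submodule.add_mem _ hx hy
    · intro a x _ hx
      have : a • x = (a : ℚ) • x := by
        ext ψ; simp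
      rw [this]; exact Submodule.smul_mem _ _ hx
  -- a basis
  obtain ⟨r, hr⟩ : ∃ r : ℕ, finrank ℤ Λ = r := ⟨_, rfl⟩
  set bs : Basis (Fin r) ℤ Λ := (Module.finBasis ℤ Λ).reindex (finCongr hr) with hbs
  set bv : Fin r → I → ℚ := fun i => ((bs i : Λ) : I → ℚ) with hbv
  have hli : LinearIndependent ℚ bv := by
    have h1 : LinearIndependent ℤ bv := by
      have := bs.linearIndependent.map' Λ.subtype (Submodule.ker_subtype Λ)
      exact this
    exact (LinearIndependent.iff_fractionRing ℤ ℚ).mp h1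
  have hr2 : r ≤ 2 := by
    have h1 : finrank ℚ (Submodule.span ℚ (Set.range bv)) = r := by
      rw [finrank_span_eq_card hli, Fintype.card_fin]
    have h2 : Submodule.span ℚ (Set.range bv) ≤ LinearMap.range f := by
      rw [Submodule.span_le]
      rintro _ ⟨i, rfl⟩
      exact hΛle _ (bs i).2
    have h3 := Submodule.finrank_mono h2
    omega
  -- coordinates of rows
  have hrowΛ : ∀ θ, row θ ∈ Λ := fun θ => Submodule.subset_span ⟨θ, rfl⟩
  have hrepr : ∀ θ ψ, Γ θ ψ = ∑ i, ((bs.repr ⟨row θ, hrowΛ θ⟩ i : ℤ) : ℚ) * bv i ψ := by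
    intro θ ψ
    have h1 := bs.sum_repr ⟨row θ, hrowΛ θ⟩
    have h3 : ((∑ i, (bs.repr ⟨row θ, hrowΛ θ⟩ i) • bs i : Λ) : I → ℚ) ψ = row θ ψ := by rw [h1]
    show row θ ψ = _
    rw [← h3, Submodule.coe_sum, Finset.sum_apply]
    refine Finset.sum_congr rfl fun i _ => ?_
    rw [Submodule.coe_smul, Pi.smul_apply, zsmul_eq_mul]
  have hbvΛ : ∀ i, ∃ t : I → ℤ, ∀ ψ, bv i ψ = ∑ θ, (t θ : ℚ) * Γ θ ψ := by
    intro i
    have h1 : bv i ∈ Λ := (bs i).2
    obtain ⟨t, ht⟩ := (Submodule.mem_span_range_iff_exists_fun ℤ).mp h1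
    refine ⟨t, fun ψ => ?_⟩
    have h2 := congrFun ht ψ
    rw [Finset.sum_apply] at h2
    rw [← h2]
    refine Finset.sum_congr rfl fun θ _ => ?_
    rw [Pi.smul_apply, zsmul_eq_mul]
  obtain rfl | rfl | rfl : r = 0 ∨ r = 1 ∨ r = 2 := by omega
  · -- rank 0
    have hΓ0 : ∀ θ ψ, Γ θ ψ = 0 := by
      intro θ ψ; rw [hrepr θ ψ]; simp
    refine ⟨⟨0, 0, 0, 0, 0, 0, ?_, ?_, ?_⟩, Or.inl ⟨rfl, rfl⟩⟩
    · intro θ ψ; simp [hΓ0]
    · intro ψ; simp
    · intro ψ; simp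
  · -- rank 1
    obtain ⟨t, ht⟩ := hbvΛ 0
    refine ⟨⟨bv 0, 0, fun θ => bs.repr ⟨row θ, hrowΛ θ⟩ 0, 0, t, 0, ?_, ht, ?_⟩,
      Or.inl ⟨rfl, rfl⟩⟩
    · intro θ ψ
      rw [hrepr θ ψ]; simp
    · intro ψ; simp
  · -- rank 2
    obtain ⟨t₁, ht₁⟩ := hbvΛ 0
    obtain ⟨t₂, ht₂⟩ := hbvΛ 1
    have hΓ₀ : ∀ θ ψ, Γ θ ψ = ((bs.repr ⟨row θ, hrowΛ θ⟩ 0 : ℤ) : ℚ) * bv 0 ψ +
        ((bs.repr ⟨row θ, hrowΛ θ⟩ 1 : ℤ) : ℚ) * bv 1 ψ := by
      intro θ ψ
      rw [hrepr θ ψ, Fin.sum_univ_two]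
    set D₀ : LatData Γ := ⟨bv 0, bv 1, fun θ => bs.repr ⟨row θ, hrowΛ θ⟩ 0,
      fun θ => bs.repr ⟨row θ, hrowΛ θ⟩ 1, t₁, t₂, hΓ₀, ht₁, ht₂⟩ with hD₀
    -- positivity of the discriminant
    have hdisc : 0 < D₀.qA * D₀.qC - D₀.qB ^ 2 := by
      set a := D₀.qA with ha
      set b := D₀.qB with hb
      set c := D₀.qC with hc
      have hv0 : bv 0 ≠ 0 := hli.ne_zero 0
      have ha0 : 0 < a := by
        rcases (D₀.qA_nonneg).lt_or_eq with h | h
        · exact h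
        · exfalso
          apply hv0
          ext ψ
          have h1 : ∑ ψ, bv 0 ψ * bv 0 ψ = 0 := h.symm
          have h2 := (Finset.sum_eq_zero_iff_of_nonneg (fun ψ _ => mul_self_nonneg (bv 0 ψ))).mp h1
            ψ (Finset.mem_univ ψ)
          exact mul_self_eq_zero.mp h2
      -- w = a v₂ - b v₁
      set w : I → ℚ := fun ψ => a * bv 1 ψ - b * bv 0 ψ with hw
      have hww : ∑ ψ, w ψ * w ψ = a * (a * c - b ^ 2) := by
        have : ∀ ψ, w ψ * w ψ = a ^ 2 * (bv 1 ψ * bv 1 ψ) - 2 * a * b * (bv 0 ψ * bv 1 ψ) +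
            b ^ 2 * (bv 0 ψ * bv 0 ψ) := by
          intro ψ; simp only [hw]; ring
        rw [Finset.sum_congr rfl (fun ψ _ => this ψ), Finset.sum_add_distrib,
          Finset.sum_sub_distrib, ← Finset.mul_sum, ← Finset.mul_sum, ← Finset.mul_sum]
        show a ^ 2 * D₀.qC - 2 * a * b * D₀.qB + b ^ 2 * D₀.qA = _
        rw [← ha, ← hb, ← hc]; ring
      have hw0 : w ≠ 0 := by
        intro h0
        have h1 : (-b) • bv 0 + a • bv 1 = 0 := by
          ext ψ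
          have := congrFun h0 ψ
          simp only [hw, Pi.zero_apply] at this
          simp only [Pi.add_apply, Pi.smul_apply, smul_eq_mul, Pi.zero_apply]
          linarith
        have h2 := (LinearIndependent.pair_iff.mp
          (by
            have := hli
            have e : bv = ![bv 0, bv 1] := by
              ext i ψ; fin_cases i <;> rfl
            rw [e] at this; exact this)) (-b) a h1
        exact ha0.ne' h2.2
      have hwpos : 0 < ∑ ψ, w ψ * w ψ := by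
        rcases (Finset.sum_nonneg (fun ψ _ => mul_self_nonneg (w ψ))).lt_or_eq with h | h
        · exact h
        · exfalso
          apply hw0
          ext ψ
          have h2 := (Finset.sum_eq_zero_iff_of_nonneg (fun ψ _ => mul_self_nonneg (w ψ))).mp
            h.symm ψ (Finset.mem_univ ψ)
          exact mul_self_eq_zero.mp h2
      rw [hww] at hwpos
      exact (mul_pos_iff_of_pos_left ha0).mp hwpos
    obtain ⟨μ, hμ⟩ := D₀.exists_nat_measure hsymm hidem hint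
    obtain ⟨D', h⟩ := LatData.exists_reduced hsymm hidem hint hN μ D₀ hdisc hμ
    exact ⟨D', Or.inr h⟩

end Cfsg.Agent.Helper8.KB
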