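import Mathlib
import Cfsg.Agent.Helper23.GaloisConj

/-!
# The Galois average of a reduced binary Hermitian form on algebraic integers

For a reduced positive binary form `(a, b, c)` with `a, c ≥ 2` and algebraic integers `X, Y` of a
number field `K ⊆ ℂ`, not both zero, the sum over the embeddings `σ` of
`a |σX|² + 2 b Re(σX conj σY) + c |σY|²` is at least `2 [K : ℚ]`.
-/

set_option autoImplicit false
set_option linter.unusedSectionVars false
set_option linter.unusedVariables false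
set_option linter.unusedSimpArgs false
set_option linter.unnecessarySimpa false
set_option linter.style.haveILetI false

namespace Cfsg.Agent.Helper8.KB

open Cfsg.Agent.Helper23

/-- The binary Hermitian form. -/
noncomputable def hform (a b c : ℝ) (u v : ℂ) : ℝ :=
  a * ‖u‖ ^ 2 + 2 * b * (u * (starRingEnd ℂ) v).re + c * ‖v‖ ^ 2

theorem mul_hform (a b c : ℝ) (u v : ℂ) :
    a * hform a b c u v = ‖(a : ℂ) * u + (b : ℂ) * v‖ ^ 2 + (a * c - b ^ 2) * ‖v‖ ^ 2 := by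
  simp only [hform, ← Complex.normSq_eq_norm_sq, Complex.normSq_apply, Complex.add_re,
    Complex.add_im, Complex.mul_re, Complex.mul_im, Complex.ofReal_re, Complex.ofReal_im,
    Complex.conj_re, Complex.conj_im]
  ring

theorem hform_zero_right (a b c : ℝ) (u : ℂ) : hform a b c u 0 = a * ‖u‖ ^ 2 := by
  simp [hform]

theorem hform_zero_left (a b c : ℝ) (v : ℂ) : hform a b c 0 v = c * ‖v‖ ^ 2 := by
  simp [hform]

/-- The complex value `a X X̄ + b (X Ȳ + X̄ Y) + c Y Ȳ` is the real number `hform`. -/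
theorem hform_eq (a b c : ℝ) (u v : ℂ) :
    ((hform a b c u v : ℝ) : ℂ) = (a : ℂ) * (u * (starRingEnd ℂ) u) +
      (b : ℂ) * (u * (starRingEnd ℂ) v + v * (starRingEnd ℂ) u) +
      (c : ℂ) * (v * (starRingEnd ℂ) v) := by
  apply Complex.ext
  · simp only [hform, ← Complex.normSq_eq_norm_sq, Complex.normSq_apply, Complex.ofReal_re,
      Complex.add_re, Complex.mul_re, Complex.ofReal_im, Complex.conj_re, Complex.conj_im,
      Complex.mul_im, Complex.add_im]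
    ring
  · simp only [hform, Complex.ofReal_im, Complex.add_im, Complex.mul_im, Complex.ofReal_re,
      Complex.mul_re, Complex.conj_re, Complex.conj_im, Complex.add_re]
    ring

theorem int_ineq_one {a b c : ℤ} (ha : 2 ≤ a) (hc : 2 ≤ c) (hba : 2 * |b| ≤ a)
    (hbc : 2 * |b| ≤ c) : 2 * a ≤ 1 + (a * c - b ^ 2) := by
  have hb2 : b ^ 2 = |b| ^ 2 := (sq_abs b).symm
  have h0 : 0 ≤ |b| := abs_nonneg b
  rcases hc.lt_or_eq with h | h
  · -- c ≥ 3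
    have h4 : 4 * |b| ^ 2 ≤ a * c := by nlinarith
    nlinarith
  · -- c = 2
    have hb1 : |b| ≤ 1 := by omega
    have : |b| ^ 2 ≤ 1 := by nlinarith
    rw [hb2, ← h]; nlinarith

theorem int_ineq_two {a b c : ℤ} (ha : 2 ≤ a) (hc : 2 ≤ c) (hba : 2 * |b| ≤ a)
    (hbc : 2 * |b| ≤ c) : 2 * b ^ 2 ≤ (a * c - b ^ 2) * a := by
  have hb2 : b ^ 2 = |b| ^ 2 := (sq_abs b).symm
  have h0 : 0 ≤ |b| := abs_nonneg b
  have h4 : 4 * |b| ^ 2 ≤ a * c := by nlinarith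
  rw [hb2]
  nlinarith [sq_nonneg |b|]

/-- **The Galois average of a reduced binary form.** -/
theorem two_card_le_sum_hform (K : IntermediateField ℚ ℂ) [FiniteDimensional ℚ K] (X Y : K)
    (hX : IsIntegral ℤ X) (hY : IsIntegral ℤ Y) (hXY : X ≠ 0 ∨ Y ≠ 0) (a b c : ℤ)
    (ha : 2 ≤ a) (hc : 2 ≤ c) (hba : 2 * |b| ≤ a) (hbc : 2 * |b| ≤ c) :
    2 * (Fintype.card (K →ₐ[ℚ] ℂ) : ℝ) ≤
      ∑ σ : K →ₐ[ℚ] ℂ, hform a b c (σ X) (σ Y) := by
  classical
  set E : ℝ := (Fintype.card (K →ₐ[ℚ] ℂ) : ℝ) with hE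
  have hE0 : 0 ≤ E := Nat.cast_nonneg _
  have haR : (2 : ℝ) ≤ a := by exact_mod_cast ha
  have hcR : (2 : ℝ) ≤ c := by exact_mod_cast hc
  have ha0 : (0 : ℝ) < a := by linarith
  by_cases hY0 : Y = 0
  · -- Y = 0
    have hX0 : X ≠ 0 := by
      rcases hXY with h | h
      · exact h
      · exact absurd hY0 h
    have h1 := card_le_sum_norm_sq K X hX0 hX
    have h2 : ∀ σ : K →ₐ[ℚ] ℂ, hform a b c (σ X) (σ Y) = a * ‖σ X‖ ^ 2 := by
      intro σ; rw [hY0, map_zero, hform_zero_right]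
    rw [Finset.sum_congr rfl (fun σ _ => h2 σ), ← Finset.mul_sum]
    nlinarith
  have hYs := card_le_sum_norm_sq K Y hY0 hY
  set T : K := (a : K) * X + (b : K) * Y with hT
  have hTint : IsIntegral ℤ T := by
    refine IsIntegral.add (IsIntegral.mul ?_ hX) (IsIntegral.mul ?_ hY)
    · exact isIntegral_algebraMap (R := ℤ) (A := K) (x := a) |> fun h => by simpa using h
    · exact isIntegral_algebraMap (R := ℤ) (A := K) (x := b) |> fun h => by simpa using h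
  have hσT : ∀ σ : K →ₐ[ℚ] ℂ, σ T = ((a : ℝ) : ℂ) * σ X + ((b : ℝ) : ℂ) * σ Y := by
    intro σ
    rw [hT, map_add, map_mul, map_mul, map_intCast, map_intCast]
    push_cast; ring
  -- a * ∑ H = ∑ |σT|² + n ∑ |σY|²
  have hsum : (a : ℝ) * ∑ σ : K →ₐ[ℚ] ℂ, hform a b c (σ X) (σ Y) =
      ∑ σ : K →ₐ[ℚ] ℂ, ‖σ T‖ ^ 2 + ((a : ℝ) * c - (b : ℝ) ^ 2) * ∑ σ : K →ₐ[ℚ] ℂ, ‖σ Y‖ ^ 2 := by
    rw [Finset.mul_sum, Finset.mul_sum, ← Finset.sum_add_distrib]
    refine Finset.sum_congr rfl fun σ _ => ?_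
    rw [mul_hform, hσT]
  have hn1 : (2 : ℝ) * a ≤ 1 + ((a : ℝ) * c - (b : ℝ) ^ 2) := by
    exact_mod_cast int_ineq_one ha hc hba hbc
  have hn2 : (2 : ℝ) * (b : ℝ) ^ 2 ≤ ((a : ℝ) * c - (b : ℝ) ^ 2) * a := by
    exact_mod_cast int_ineq_two ha hc hba hbc
  have hnpos : (0 : ℝ) ≤ (a : ℝ) * c - (b : ℝ) ^ 2 := by nlinarith
  by_cases hT0 : T = 0
  swap
  · -- T ≠ 0
    have hTs := card_le_sum_norm_sq K T hT0 hTint
    have h3 : (a : ℝ) * (2 * E) ≤ (a : ℝ) * ∑ σ : K →ₐ[ℚ] ℂ, hform a b c (σ X) (σ Y) := by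
      rw [hsum]
      have : ((a : ℝ) * c - (b : ℝ) ^ 2) * E ≤
          ((a : ℝ) * c - (b : ℝ) ^ 2) * ∑ σ : K →ₐ[ℚ] ℂ, ‖σ Y‖ ^ 2 :=
        mul_le_mul_of_nonneg_left hYs hnpos
      nlinarith
    exact le_of_mul_le_mul_left h3 ha0
  · -- T = 0
    have hT0' : ∀ σ : K →ₐ[ℚ] ℂ, ‖σ T‖ ^ 2 = 0 := by
      intro σ; rw [hT0, map_zero, norm_zero]; ring
    rw [Finset.sum_congr rfl (fun σ _ => hT0' σ), Finset.sum_const_zero, zero_add] at hsum
    by_cases hb0 : b = 0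
    · -- b = 0: n = a c
      have h3 : (a : ℝ) * (2 * E) ≤ (a : ℝ) * ∑ σ : K →ₐ[ℚ] ℂ, hform a b c (σ X) (σ Y) := by
        rw [hsum, hb0]
        have h5 : (a : ℝ) * c * E ≤ (a : ℝ) * c * ∑ σ : K →ₐ[ℚ] ℂ, ‖σ Y‖ ^ 2 :=
          mul_le_mul_of_nonneg_left hYs (by positivity)
        have h6 : (a : ℝ) * E * 2 ≤ (a : ℝ) * E * c :=
          mul_le_mul_of_nonneg_left hcR (by positivity)
        have h7 : ((a : ℝ) * c - (((0 : ℤ) : ℝ)) ^ 2) = (a : ℝ) * c := by push_cast; ring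
        rw [h7]
        linarith
      exact le_of_mul_le_mul_left h3 ha0
    · -- b ≠ 0: X ≠ 0 and a²|σX|² = b²|σY|²
      have hbR : (b : ℝ) ≠ 0 := by exact_mod_cast hb0
      have hX0 : X ≠ 0 := by
        intro h0
        rw [hT, h0, mul_zero, zero_add] at hT0
        rcases mul_eq_zero.mp hT0 with h | h
        · exact hb0 (by exact_mod_cast h)
        · exact hY0 h
      have hXs := card_le_sum_norm_sq K X hX0 hX
      have hrel : ∀ σ : K →ₐ[ℚ] ℂ, (b : ℝ) ^ 2 * ‖σ Y‖ ^ 2 = (a : ℝ) ^ 2 * ‖σ X‖ ^ 2 := by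
        intro σ
        have h1 := hσT σ
        rw [hT0, map_zero] at h1
        have h2 : ((b : ℝ) : ℂ) * σ Y = -(((a : ℝ) : ℂ) * σ X) := by
          linear_combination -h1
        have h3 := congrArg (fun z : ℂ => ‖z‖ ^ 2) h2
        simp only [norm_neg, norm_mul, Complex.norm_real, Real.norm_eq_abs, mul_pow,
          sq_abs] at h3
        exact h3
      have hsumrel : (b : ℝ) ^ 2 * ∑ σ : K →ₐ[ℚ] ℂ, ‖σ Y‖ ^ 2 =
          (a : ℝ) ^ 2 * ∑ σ : K →ₐ[ℚ] ℂ, ‖σ X‖ ^ 2 := by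
        rw [Finset.mul_sum, Finset.mul_sum]
        exact Finset.sum_congr rfl fun σ _ => hrel σ
      have hb2pos : (0 : ℝ) < (b : ℝ) ^ 2 := by positivity
      have h3 : ((b : ℝ) ^ 2 * a) * (2 * E) ≤
          ((b : ℝ) ^ 2 * a) * ∑ σ : K →ₐ[ℚ] ℂ, hform a b c (σ X) (σ Y) := by
        have e1 : ((b : ℝ) ^ 2 * a) * ∑ σ : K →ₐ[ℚ] ℂ, hform a b c (σ X) (σ Y) =
            ((a : ℝ) * c - (b : ℝ) ^ 2) * ((a : ℝ) ^ 2 * ∑ σ : K →ₐ[ℚ] ℂ, ‖σ X‖ ^ 2) := by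
          rw [mul_assoc, hsum, ← hsumrel]; ring
        rw [e1]
        have h4 : ((a : ℝ) * c - (b : ℝ) ^ 2) * ((a : ℝ) ^ 2 * E) ≤
            ((a : ℝ) * c - (b : ℝ) ^ 2) * ((a : ℝ) ^ 2 * ∑ σ : K →ₐ[ℚ] ℂ, ‖σ X‖ ^ 2) :=
          mul_le_mul_of_nonneg_left (mul_le_mul_of_nonneg_left hXs (by positivity)) hnpos
        have h5 : (b : ℝ) ^ 2 * a * (2 * E) ≤ ((a : ℝ) * c - (b : ℝ) ^ 2) * ((a : ℝ) ^ 2 * E) := by
          have : (2 : ℝ) * (b : ℝ) ^ 2 * a ≤ ((a : ℝ) * c - (b : ℝ) ^ 2) * a * a :=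
            mul_le_mul_of_nonneg_right hn2 ha0.le
          nlinarith
        linarith
      exact le_of_mul_le_mul_left h3 (by positivity)

end Cfsg.Agent.Helper8.KB
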