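import Mathlib
import Cfsg.Prelude.Def_Blocks
import Cfsg.Prelude.Def_BlockRank
import Cfsg.Agent.Helper8.KB2
import Cfsg.Agent.Helper8.KB3
import Cfsg.Agent.Helper8.KB4

/-!
# The rational Gram matrix of a block on the `p`-regular elements
-/

set_option autoImplicit false
set_option linter.unusedSectionVars false
set_option linter.unusedVariables false
set_option linter.unusedSimpArgs false
set_option linter.unnecessarySimpa false
set_option linter.style.haveILetI false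

namespace Cfsg.Agent.Helper8.KB

open Cfsg Cfsg.Agent.Helper24 Cfsg.Agent.Helper5 Cfsg.Agent.Helper5.CC Cfsg.Agent.Helper5.Loc
open Cfsg.Agent.Helper8.SecCore Cfsg.Agent.Helper23.SubTr Cfsg.Agent.Helper23.CM
open Cfsg.Agent.Helper8.HZI Cfsg.Agent.Helper8.IndHt Cfsg.Agent.Helper23

/-- The Gram matrix of a block is a rational symmetric idempotent matrix of trace `l(e)` with
denominator `p^d`. -/
theorem exists_gq {H : Type*} [Group H] [Fintype H] [Fintype (IrrCharacter H)]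
    {M : Ideal AlgInt} {p : ℕ} [hp : Fact p.Prime] (hM : IsPModular p M)
    (e : Set (IrrCharacter H)) [DecidablePred (· ∈ e)] (he : IsPBlock M e) :
    ∃ gq : IrrCharacter H → IrrCharacter H → ℚ,
      (∀ θ ψ, ((gq θ ψ : ℚ) : ℂ) = if θ ∈ e ∧ ψ ∈ e then gram p θ ψ else 0) ∧
      (∀ θ ψ, gq θ ψ = gq ψ θ) ∧
      (∀ θ ψ, ∑ η, gq θ η * gq η ψ = gq θ ψ) ∧
      (∀ θ ψ, ∃ k : ℤ, ((p ^ blockDefect p e : ℕ) : ℚ) * gq θ ψ = k) ∧
      (∑ θ, gq θ θ = (blockRank p e : ℚ)) := by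
  classical
  haveI : Finite H := Finite.of_fintype H
  set d := blockDefect p e with hd
  have hp0 : (p : ℂ) ≠ 0 := by exact_mod_cast hp.out.pos.ne'
  have hpd0 : (p : ℂ) ^ d ≠ 0 := pow_ne_zero _ hp0
  have hpq0 : (p : ℚ) ^ d ≠ 0 := pow_ne_zero _ (by exact_mod_cast hp.out.pos.ne')
  have hgex : ∀ θ θ' : IrrCharacter H, ∃ n : ℤ, θ' ∈ e → (p : ℂ) ^ d * gram p θ θ' = n := by
    intro θ θ'
    by_cases h : θ' ∈ e
    · obtain ⟨n, hn⟩ := exists_int_pow_mul_gram p e θ θ' h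
      exact ⟨n, fun _ => hn⟩
    · exact ⟨0, fun h' => absurd h' h⟩
  choose g hg using hgex
  set gq : IrrCharacter H → IrrCharacter H → ℚ := fun θ ψ =>
    if θ ∈ e ∧ ψ ∈ e then (g θ ψ : ℚ) / (p : ℚ) ^ d else 0 with hgq
  have hcast : ∀ θ ψ, ((gq θ ψ : ℚ) : ℂ) = if θ ∈ e ∧ ψ ∈ e then gram p θ ψ else 0 := by
    intro θ ψ
    simp only [hgq]
    by_cases h : θ ∈ e ∧ ψ ∈ e
    · rw [if_pos h, if_pos h]
      push_cast
      rw [← hg θ ψ h.2]
      field_simp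
    · rw [if_neg h, if_neg h]; simp
  have hinj : Function.Injective ((↑) : ℚ → ℂ) := Rat.cast_injective
  have hsymm : ∀ θ ψ, gq θ ψ = gq ψ θ := by
    intro θ ψ
    apply hinj
    rw [hcast, hcast]
    by_cases h : θ ∈ e ∧ ψ ∈ e
    · rw [if_pos h, if_pos ⟨h.2, h.1⟩]
      have h1 := hcast θ ψ
      rw [if_pos h] at h1
      rw [← gram_conj p θ ψ, ← h1, map_ratCast]
    · rw [if_neg h, if_neg (fun h' => h ⟨h'.2, h'.1⟩)]
  refine ⟨gq, hcast, hsymm, ?_, ?_, ?_⟩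
  · intro θ ψ
    apply hinj
    push_cast
    simp_rw [hcast]
    by_cases h : θ ∈ e ∧ ψ ∈ e
    · rw [if_pos h, ← gram_sq p θ ψ]
      refine Finset.sum_congr rfl fun η _ => ?_
      by_cases hη : η ∈ e
      · rw [if_pos ⟨h.1, hη⟩, if_pos ⟨hη, h.2⟩]
      · rw [if_neg (show ¬(θ ∈ e ∧ η ∈ e) from fun h' => hη h'.2), zero_mul,
          gram_eq_zero hM he h.1 hη, zero_mul]
    · rw [if_neg h]
      apply Finset.sum_eq_zero
      intro η _
      by_cases h1 : θ ∈ e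
      · have h2 : ψ ∉ e := fun h2 => h ⟨h1, h2⟩
        rw [if_neg (show ¬(η ∈ e ∧ ψ ∈ e) from fun h' => h2 h'.2), mul_zero]
      · rw [if_neg (show ¬(θ ∈ e ∧ η ∈ e) from fun h' => h1 h'.1), zero_mul]
  · intro θ ψ
    by_cases h : θ ∈ e ∧ ψ ∈ e
    · refine ⟨g θ ψ, ?_⟩
      simp only [hgq, if_pos h]
      push_cast
      field_simp
    · refine ⟨0, ?_⟩
      simp only [hgq, if_neg h]
      simp
  · apply hinj
    push_cast
    simp_rw [hcast]
    rw [Cfsg.Agent.Helper8.RankTr.blockRank_eq_sum hM he]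
    refine Finset.sum_congr rfl fun ψ _ => ?_
    by_cases hψ : ψ ∈ e
    · rw [if_pos ⟨hψ, hψ⟩, if_pos hψ]
      simp only [gram, classInner]
      congr 1
      refine Finset.sum_congr rfl fun c _ => ?_
      rw [Cfsg.Agent.Helper8.RankTr.pRegularPart_fun]
      simp only [rr]
      split_ifs <;> simp
    · rw [if_neg (fun h' => hψ h'.1), if_neg hψ]


section Coord

variable {G : Type*} [Group G] [Fintype G] {M : Ideal AlgInt}

/-- The coordinate `∑_{θ ∈ e} m_θ a_{χθ}` of the row of `χ`. -/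
noncomputable def coord (C : Subgroup G) [Fintype C] [Fintype (IrrCharacter C)]
    (e : Set (IrrCharacter C)) [DecidablePred (· ∈ e)] (m : IrrCharacter C → ℤ) (y : G)
    (χ : IrrCharacter G) : ℂ :=
  ∑ θ : IrrCharacter C, if θ ∈ e then (m θ : ℂ) * acoef y C χ θ else 0

/-- Integer weights supported on `e`. -/
noncomputable def wt {J : Type*} (e : Set J) [DecidablePred (· ∈ e)] (t : J → ℤ) (θ : J) : ℂ :=
  if θ ∈ e then (t θ : ℂ) else 0

theorem isIntegral_coord (C : Subgroup G) [Fintype C] [Fintype (IrrCharacter C)]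
    (e : Set (IrrCharacter C)) [DecidablePred (· ∈ e)] (m : IrrCharacter C → ℤ) (y : G)
    (hyC : y ∈ C) (hcomm : ∀ c : C, y * (c : G) = (c : G) * y) (χ : IrrCharacter G) :
    IsIntegral ℤ (coord C e m y χ) := by
  refine IsIntegral.sum _ fun θ _ => ?_
  split_ifs
  · refine IsIntegral.mul ?_ (isIntegral_acoef y C hyC hcomm χ θ)
    exact isIntegral_algebraMap (R := ℤ) (A := ℂ) (x := m θ) |> fun h => by simpa using h
  · exact isIntegral_zero

/-- Galois conjugates of the coordinates. -/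
theorem rel_coord (C : Subgroup G) [Fintype C] [Fintype (IrrCharacter C)]
    (e : Set (IrrCharacter C)) [DecidablePred (· ∈ e)] (m : IrrCharacter C → ℤ) (x : G)
    (hxC : x ∈ C) (hcomm : ∀ c : C, x * (c : G) = (c : G) * x)
    (σ : cyclo (Nat.card G) →ₐ[ℚ] ℂ) (k : ℕ)
    (hk : ∀ (μ : ℂ) (hμ : μ ^ Nat.card G = 1), σ ⟨μ, mem_cyclo hμ⟩ = μ ^ k)
    (χ : IrrCharacter G) :
    Rel σ (coord C e m x χ) (coord C e m (x ^ k) χ) := by
  classical
  haveI : Finite G := Finite.of_fintype G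
  simp only [coord]
  refine Rel.sum _ _ _ fun θ _ => ?_
  by_cases hθ : θ ∈ e
  swap
  · rw [if_neg hθ, if_neg hθ]; exact Rel.zero σ
  rw [if_pos hθ, if_pos hθ]
  obtain ⟨lam, hlam1, -, hlam⟩ := exists_acoef_pow x C hxC hcomm θ
  obtain ⟨n, hn⟩ := rmult_nat C χ θ
  have h1 := hlam χ 1
  rw [pow_one, pow_one] at h1
  rw [h1, hlam χ k, hn]
  have hlamN : lam ^ Nat.card G = 1 := by
    obtain ⟨c, hc⟩ := orderOf_dvd_natCard x
    rw [hc, pow_mul, hlam1, one_pow]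
  refine Rel.mul ?_ (Rel.mul ⟨mem_cyclo hlamN, hk lam hlamN⟩ (Rel.natCast σ n))
  have := Rel.ratCast σ (m θ : ℚ)
  simpa using this

variable {p : ℕ} [hp : Fact p.Prime]

theorem LatData.v₁_eq_zero {J : Type*} [Fintype J] [DecidableEq J] {e : Set J}
    [DecidablePred (· ∈ e)] {gq : J → J → ℚ} {Γc : J → J → ℂ}
    (hcast : ∀ θ ψ, ((gq θ ψ : ℚ) : ℂ) = if θ ∈ e ∧ ψ ∈ e then Γc θ ψ else 0)
    (D : LatData gq) {ψ : J} (hψ : ψ ∉ e) : D.v₁ ψ = 0 := by
  rw [D.hv₁ ψ]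
  apply Finset.sum_eq_zero
  intro θ _
  have h1 := hcast θ ψ
  rw [if_neg (fun h => hψ h.2)] at h1
  have h2 : gq θ ψ = 0 := by exact_mod_cast h1
  rw [h2, mul_zero]

theorem LatData.v₂_eq_zero {J : Type*} [Fintype J] [DecidableEq J] {e : Set J}
    [DecidablePred (· ∈ e)] {gq : J → J → ℚ} {Γc : J → J → ℂ}
    (hcast : ∀ θ ψ, ((gq θ ψ : ℚ) : ℂ) = if θ ∈ e ∧ ψ ∈ e then Γc θ ψ else 0)
    (D : LatData gq) {ψ : J} (hψ : ψ ∉ e) : D.v₂ ψ = 0 :=
  D.swap.v₁_eq_zero hcast hψ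

/-- The rows in the coordinates of the lattice basis. -/
theorem dnum_eq_coord (hM : IsPModular p M) (y : G) (C : Subgroup G) [Fintype C]
    [Fintype (IrrCharacter C)] (hcomm : ∀ c : C, y * (c : G) = (c : G) * y)
    {e : Set (IrrCharacter C)} [DecidablePred (· ∈ e)] (he : IsPBlock M e)
    {gq : IrrCharacter C → IrrCharacter C → ℚ}
    (hcast : ∀ θ ψ, ((gq θ ψ : ℚ) : ℂ) = if θ ∈ e ∧ ψ ∈ e then gram p θ ψ else 0)
    (D : LatData gq) (χ : IrrCharacter G) (ψ : IrrCharacter C) (hψ : ψ ∈ e) :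
    dnum p y C χ ψ = coord C e D.m y χ * (D.v₁ ψ : ℂ) + coord C e D.n y χ * (D.v₂ ψ : ℂ) := by
  classical
  rw [dnum_eq_sum_gram p y C hcomm χ ψ]
  simp only [coord]
  rw [Finset.sum_mul, Finset.sum_mul, ← Finset.sum_add_distrib]
  refine Finset.sum_congr rfl fun θ _ => ?_
  by_cases hθ : θ ∈ e
  · rw [if_pos hθ, if_pos hθ]
    have h1 := hcast θ ψ
    rw [if_pos ⟨hθ, hψ⟩, D.hΓ θ ψ] at h1
    rw [← h1]
    push_cast
    ring
  · rw [if_neg hθ, if_neg hθ, gram_eq_zero' hM he hθ hψ]; ring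

/-- The contributions in the coordinates of the lattice basis. -/
theorem contrib_eq_coord (hM : IsPModular p M) (y : G) (C : Subgroup G) [Fintype C]
    [Fintype (IrrCharacter C)] (hcomm : ∀ c : C, y * (c : G) = (c : G) * y)
    {e : Set (IrrCharacter C)} [DecidablePred (· ∈ e)] (he : IsPBlock M e)
    {gq : IrrCharacter C → IrrCharacter C → ℚ}
    (hcast : ∀ θ ψ, ((gq θ ψ : ℚ) : ℂ) = if θ ∈ e ∧ ψ ∈ e then gram p θ ψ else 0)
    (D : LatData gq) (χ χ' : IrrCharacter G) :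
    contrib p y C e χ χ' =
      (D.qA : ℂ) * (coord C e D.m y χ * (starRingEnd ℂ) (coord C e D.m y χ')) +
      (D.qB : ℂ) * (coord C e D.m y χ * (starRingEnd ℂ) (coord C e D.n y χ') +
        coord C e D.n y χ * (starRingEnd ℂ) (coord C e D.m y χ')) +
      (D.qC : ℂ) * (coord C e D.n y χ * (starRingEnd ℂ) (coord C e D.n y χ')) := by
  classical
  simp only [contrib, LatData.qA, LatData.qB, LatData.qC]
  push_cast
  rw [Finset.sum_mul, Finset.sum_mul, Finset.sum_mul, ← Finset.sum_add_distrib,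
    ← Finset.sum_add_distrib]
  refine Finset.sum_congr rfl fun ψ _ => ?_
  by_cases hψ : ψ ∈ e
  · rw [if_pos hψ, dnum_eq_coord hM y C hcomm he hcast D χ ψ hψ,
      dnum_eq_coord hM y C hcomm he hcast D χ' ψ hψ]
    simp only [map_add, map_mul, map_ratCast]
    ring
  · rw [if_neg hψ, D.v₁_eq_zero hcast hψ, D.v₂_eq_zero hcast hψ]
    push_cast; ring

end Coord

end Cfsg.Agent.Helper8.KB
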