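import Mathlib
import Cfsg.Prelude.Def_Blocks
import Cfsg.Prelude.Def_BlockRank
import Cfsg.Agent.Helper8.KB5

/-!
# Columns with integer weights and the column bound
-/

set_option autoImplicit false
set_option linter.unusedSectionVars false
set_option linter.unusedVariables false
set_option linter.unusedSimpArgs false
set_option linter.unnecessarySimpa false
set_option linter.style.haveILetI false

namespace Cfsg.Agent.Helper8.KB

open Cfsg Cfsg.Agent.Helper24 Cfsg.Agent.Helper5 Cfsg.Agent.Helper5.CC Cfsg.Agent.Helper5.Loc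
open Cfsg.Agent.Helper8.SecCore Cfsg.Agent.Helper23.SubTr Cfsg.Agent.Helper23.CM
open Cfsg.Agent.Helper8.HZI Cfsg.Agent.Helper8.IndHt Cfsg.Agent.Helper23

variable {G : Type*} [Group G] [Fintype G] {M : Ideal AlgInt} {p : ℕ} [hp : Fact p.Prime]

/-- The column of integer weights in the lattice coordinates. -/
theorem col_wt (hM : IsPModular p M) (y : G) (C : Subgroup G) [Fintype C]
    [Fintype (IrrCharacter C)] (hcomm : ∀ c : C, y * (c : G) = (c : G) * y)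
    {e : Set (IrrCharacter C)} [DecidablePred (· ∈ e)] (he : IsPBlock M e)
    {gq : IrrCharacter C → IrrCharacter C → ℚ}
    (hcast : ∀ θ ψ, ((gq θ ψ : ℚ) : ℂ) = if θ ∈ e ∧ ψ ∈ e then gram p θ ψ else 0)
    (D : LatData gq) (t : IrrCharacter C → ℤ) (χ : IrrCharacter G) :
    col p y C (wt e t) χ =
      coord C e D.m y χ * ((∑ θ, (t θ : ℚ) * D.v₁ θ : ℚ) : ℂ) +
      coord C e D.n y χ * ((∑ θ, (t θ : ℚ) * D.v₂ θ : ℚ) : ℂ) := by
  classical
  simp only [col]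
  push_cast
  rw [Finset.mul_sum, Finset.mul_sum, ← Finset.sum_add_distrib]
  refine Finset.sum_congr rfl fun θ _ => ?_
  by_cases hθ : θ ∈ e
  · rw [wt, if_pos hθ, dnum_eq_coord hM y C hcomm he hcast D χ θ hθ]; ring
  · rw [wt, if_neg hθ, D.v₁_eq_zero hcast hθ, D.v₂_eq_zero hcast hθ]
    push_cast; ring

/-- The norm of a column. -/
theorem sum_col_mul_conj [Fintype (IrrCharacter G)] (y : G) (hy : ∃ k : ℕ, orderOf y = p ^ k)
    (C : Subgroup G) [Fintype C] [Fintype (IrrCharacter C)]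
    (hcomm : ∀ c : C, y * (c : G) = (c : G) * y)
    (hcent : Subgroup.centralizer ({y} : Set G) ≤ C) (w : IrrCharacter C → ℂ) :
    ∑ χ : IrrCharacter G, col p y C w χ * (starRingEnd ℂ) (col p y C w χ) =
      ∑ θ : IrrCharacter C, ∑ θ' : IrrCharacter C,
        w θ * (starRingEnd ℂ) (w θ') * gram p θ' θ := by
  classical
  simp only [col, map_sum, map_mul]
  simp_rw [Finset.sum_mul_sum]
  rw [Finset.sum_comm]
  refine Finset.sum_congr rfl fun θ _ => ?_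
  rw [Finset.sum_comm]
  refine Finset.sum_congr rfl fun θ' _ => ?_
  rw [← sum_dnum_mul_conj y hy C hcomm hcent θ θ', Finset.mul_sum]
  refine Finset.sum_congr rfl fun χ _ => ?_
  ring

/-- The norm of a column of integer weights. -/
theorem sum_norm_sq_col_wt [Fintype (IrrCharacter G)] (y : G)
    (hy : ∃ k : ℕ, orderOf y = p ^ k)
    (C : Subgroup G) [Fintype C] [Fintype (IrrCharacter C)]
    (hcomm : ∀ c : C, y * (c : G) = (c : G) * y)
    (hcent : Subgroup.centralizer ({y} : Set G) ≤ C)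
    {e : Set (IrrCharacter C)} [DecidablePred (· ∈ e)]
    {gq : IrrCharacter C → IrrCharacter C → ℚ}
    (hcast : ∀ θ ψ, ((gq θ ψ : ℚ) : ℂ) = if θ ∈ e ∧ ψ ∈ e then gram p θ ψ else 0)
    (t : IrrCharacter C → ℤ) :
    ∑ χ : IrrCharacter G, ‖col p y C (wt e t) χ‖ ^ 2 =
      ((∑ θ, ∑ θ', (t θ : ℚ) * (t θ' : ℚ) * gq θ' θ : ℚ) : ℝ) := by
  classical
  have h1 := sum_col_mul_conj (p := p) y hy C hcomm hcent (wt e t)
  have h2 : ((∑ χ : IrrCharacter G, ‖col p y C (wt e t) χ‖ ^ 2 : ℝ) : ℂ) =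
      (((∑ θ, ∑ θ', (t θ : ℚ) * (t θ' : ℚ) * gq θ' θ : ℚ) : ℝ) : ℂ) := by
    push_cast
    have h3 : ∀ χ : IrrCharacter G, ((‖col p y C (wt e t) χ‖ : ℝ) : ℂ) ^ 2 =
        col p y C (wt e t) χ * (starRingEnd ℂ) (col p y C (wt e t) χ) := by
      intro χ
      rw [Complex.mul_conj, Complex.normSq_eq_norm_sq]
      push_cast; rfl
    rw [Finset.sum_congr rfl (fun χ _ => h3 χ), h1]
    refine Finset.sum_congr rfl fun θ _ => Finset.sum_congr rfl fun θ' _ => ?_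
    rw [hcast θ' θ]
    by_cases h : θ' ∈ e ∧ θ ∈ e
    · rw [if_pos h, wt, wt, if_pos h.1, if_pos h.2, map_intCast]
    · rw [if_neg h, mul_zero]
      by_cases h1 : θ ∈ e
      · have h2 : θ' ∉ e := fun h2 => h ⟨h2, h1⟩
        rw [wt, wt, if_neg h2, map_zero, mul_zero, zero_mul]
      · rw [wt, if_neg h1, zero_mul, zero_mul]
  exact_mod_cast h2

/-- **Brauer: for a major subsection, no row of coordinates vanishes.** -/
theorem coord_ne_zero [Fintype (IrrCharacter G)] (hM : IsPModular p M) (x : G)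
    (hx : ∃ k : ℕ, orderOf x = p ^ k)
    (C : Subgroup G) [Fintype C] [Fintype (IrrCharacter C)] (hxC : x ∈ C)
    (hcomm : ∀ c : C, x * (c : G) = (c : G) * x)
    (hcent : Subgroup.centralizer ({x} : Set G) ≤ C)
    {e : Set (IrrCharacter C)} [DecidablePred (· ∈ e)] {B : Set (IrrCharacter G)}
    (hind : IsInducedBlock M C e B) (hdef : blockDefect p e = blockDefect p B)
    {gq : IrrCharacter C → IrrCharacter C → ℚ}
    (hcast : ∀ θ ψ, ((gq θ ψ : ℚ) : ℂ) = if θ ∈ e ∧ ψ ∈ e then gram p θ ψ else 0)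
    (D : LatData gq) (χ : IrrCharacter G) (hχ : χ ∈ B) :
    coord C e D.m x χ ≠ 0 ∨ coord C e D.n x χ ≠ 0 := by
  classical
  haveI : Finite C := Finite.of_fintype C
  by_contra hcon
  push Not at hcon
  apply col_rowW_ne_zero hM x hx C hxC hcomm hcent hind hdef χ hχ
  simp only [col]
  apply Finset.sum_eq_zero
  intro θ _
  by_cases hθ : θ ∈ e
  · rw [dnum_eq_coord hM x C hcomm hind.1 hcast D χ θ hθ, hcon.1, hcon.2]; ring
  · rw [rowW, if_neg hθ, zero_mul]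

/-- The scaling factor `|G| / (p^d ψ(1))` is a local unit for `ψ` of height zero. -/
theorem not_li_card_mul_div (hM : IsPModular p M) {B : Set (IrrCharacter G)}
    (ψ : IrrCharacter G) (hψ : ψ ∈ B)
    (hψv : (irrDeg ψ).factorization p = minVal p B) (z : ℂ) (hz : MemLocalRing M z)
    (hzn : ¬ MemLocalIdeal M z) :
    ¬ MemLocalIdeal M ((Nat.card G : ℂ) * (z / (p : ℂ) ^ blockDefect p B) / (ψ : G → ℂ) 1) := by
  classical
  haveI : Finite G := Finite.of_fintype G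
  have hMp := isPrime_of_isPModular hM
  set mv := minVal p B with hmv
  set a := (Nat.card G).factorization p with ha
  have hmva : mv ≤ a := by
    rw [← hψv]; exact factorization_irrDeg_le_card p ψ
  have hd : blockDefect p B = a - mv := blockDefect_eq p B
  have hp0 : (p : ℂ) ≠ 0 := by exact_mod_cast hp.out.pos.ne'
  have hpmv : (p : ℂ) ^ mv ≠ 0 := pow_ne_zero _ hp0
  have hpd0 : (p : ℂ) ^ blockDefect p B ≠ 0 := pow_ne_zero _ hp0
  have hNG : (Nat.card G : ℂ) = (p : ℂ) ^ a * (mm G p : ℂ) := by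
    have := Nat.ordProj_mul_ordCompl_eq_self (Nat.card G) p
    rw [← ha] at this
    have h2 : (Nat.card G : ℂ) = ((p ^ a * mm G p : ℕ) : ℂ) := by
      congr 1; exact this.symm
    rw [h2]; push_cast; ring
  have hψ1 : (ψ : G → ℂ) 1 = (p : ℂ) ^ mv * (cofac p B ψ : ℂ) := by
    rw [irrDeg_spec, cofac_spec p hψ]; push_cast; ring
  have hc0 : (cofac p B ψ : ℂ) ≠ 0 := by
    intro h0
    have h1 := irr_one_ne_zero ψ
    rw [hψ1, h0, mul_zero] at h1
    exact h1 rfl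
  have hpd : (p : ℂ) ^ a = (p : ℂ) ^ blockDefect p B * (p : ℂ) ^ mv := by
    rw [hd, ← pow_add, Nat.sub_add_cancel hmva]
  have hval : (Nat.card G : ℂ) * (z / (p : ℂ) ^ blockDefect p B) / (ψ : G → ℂ) 1 =
      (mm G p : ℂ) * z / (cofac p B ψ : ℂ) := by
    rw [hNG, hψ1, hpd]
    field_simp
  rw [hval]
  intro hli
  have h1 : MemLocalIdeal M ((mm G p : ℂ) * z) := by
    have := li_mul_left hMp (memLocalRing_natCast hMp (cofac p B ψ)) hli
    rwa [mul_div_cancel₀ _ hc0] at this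
  rcases li_of_mul hMp (memLocalRing_natCast hMp _) hz h1 with h | h
  · exact (not_dvd_mm (G := G) p) ((memLocalIdeal_natCast_iff hM _).mp h)
  · exact hzn h

/-- **The column bound.** If the column of the integer weights `t` is `q` times a coordinate `Z`
that vanishes nowhere on `B`, and `q` is the norm of the column, then `#B q ≤ 1`. -/
theorem card_mul_le_one [Fintype (IrrCharacter G)] (hM : IsPModular p M) (x : G)
    (hx : ∃ k : ℕ, orderOf x = p ^ k)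
    (C : Subgroup G) [Fintype C] [Fintype (IrrCharacter C)] (hxC : x ∈ C)
    (hcomm : ∀ c : C, x * (c : G) = (c : G) * x)
    (hcent : Subgroup.centralizer ({x} : Set G) ≤ C)
    {e : Set (IrrCharacter C)} [DecidablePred (· ∈ e)]
    {gq : IrrCharacter C → IrrCharacter C → ℚ}
    (hcast : ∀ θ ψ, ((gq θ ψ : ℚ) : ℂ) = if θ ∈ e ∧ ψ ∈ e then gram p θ ψ else 0)
    (t mc : IrrCharacter C → ℤ) (q : ℚ) (hq : 0 < q)
    (h1 : ∀ k : ℕ, k.Coprime (Nat.card G) → ∀ χ : IrrCharacter G,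
      col p (x ^ k) C (wt e t) χ = (q : ℂ) * coord C e mc (x ^ k) χ)
    (h2 : ∑ θ, ∑ θ', (t θ : ℚ) * (t θ' : ℚ) * gq θ' θ = q)
    (S : Finset (IrrCharacter G)) (h4 : ∀ χ ∈ S, coord C e mc x χ ≠ 0) :
    (S.card : ℝ) * (q : ℝ) ≤ 1 := by
  classical
  haveI : Finite G := Finite.of_fintype G
  set N := Nat.card G with hN
  have hNpos : 0 < N := Nat.card_pos
  haveI hfd : FiniteDimensional ℚ (cyclo N) := finiteDimensional_cyclo N hNpos
  set E := Fintype.card (cyclo N →ₐ[ℚ] ℂ) with hE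
  have hEpos : 0 < E := Fintype.card_pos_iff.mpr ⟨(cyclo N).val⟩
  have hEr : (0 : ℝ) < E := by exact_mod_cast hEpos
  have hqr : (0 : ℝ) < (q : ℝ) := by exact_mod_cast hq
  set kf : (cyclo N →ₐ[ℚ] ℂ) → ℕ := fun σ => kexp N hNpos σ with hkf
  have hkc : ∀ σ, (kf σ).Coprime N := fun σ => kexp_coprime N hNpos σ
  have hks : ∀ σ (μ : ℂ) (hμ : μ ^ N = 1), σ ⟨μ, mem_cyclo hμ⟩ = μ ^ kf σ :=
    fun σ μ hμ => kexp_spec N hNpos σ μ hμ
  have hrel : ∀ (σ : cyclo N →ₐ[ℚ] ℂ) (χ : IrrCharacter G),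
      Rel σ (coord C e mc x χ) (coord C e mc (x ^ kf σ) χ) :=
    fun σ χ => rel_coord C e mc x hxC hcomm σ (kf σ) (hks σ) χ
  have hmem : ∀ χ : IrrCharacter G, coord C e mc x χ ∈ cyclo N :=
    fun χ => (hrel (cyclo N).val χ).1
  let Z : IrrCharacter G → cyclo N := fun χ => ⟨_, hmem χ⟩
  have hσZ : ∀ (σ : cyclo N →ₐ[ℚ] ℂ) (χ : IrrCharacter G),
      σ (Z χ) = coord C e mc (x ^ kf σ) χ := by
    intro σ χ
    obtain ⟨hu, h⟩ := hrel σ χ
    exact h
  -- lower bound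
  have hlow : ∀ χ ∈ S, (E : ℝ) ≤ ∑ σ : cyclo N →ₐ[ℚ] ℂ, ‖σ (Z χ)‖ ^ 2 := by
    intro χ hχ
    apply card_le_sum_norm_sq (cyclo N) (Z χ)
    · intro h0
      have h5 : ((Z χ : cyclo N) : ℂ) = 0 := by rw [h0]; rfl
      exact h4 χ hχ h5
    · have h5 : IsIntegral ℤ ((algebraMap (cyclo N) ℂ) (Z χ)) :=
        isIntegral_coord C e mc x hxC hcomm χ
      exact (isIntegral_algebraMap_iff (algebraMap (cyclo N) ℂ).injective).mp h5
  -- upper bound
  have hup : ∀ σ : cyclo N →ₐ[ℚ] ℂ, (q : ℝ) * ∑ χ ∈ S, ‖σ (Z χ)‖ ^ 2 ≤ 1 := by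
    intro σ
    obtain ⟨hx', hcent'⟩ := pow_hyps x hx C hcent (kf σ) (hkc σ)
    have h5 := sum_norm_sq_col_wt (p := p) (x ^ kf σ) hx' C (comm_pow hcomm (kf σ)) hcent'
      hcast t
    rw [h2] at h5
    have h6 : ∀ χ : IrrCharacter G, ‖col p (x ^ kf σ) C (wt e t) χ‖ ^ 2 =
        (q : ℝ) ^ 2 * ‖σ (Z χ)‖ ^ 2 := by
      intro χ
      rw [h1 (kf σ) (hkc σ) χ, hσZ σ χ, norm_mul, mul_pow]
      congr 1
      rw [show ((q : ℂ)) = (((q : ℝ)) : ℂ) by push_cast; rfl, Complex.norm_real,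
        Real.norm_eq_abs, sq_abs]
    rw [Finset.sum_congr rfl (fun χ _ => h6 χ), ← Finset.mul_sum] at h5
    have h7 : (q : ℝ) * ∑ χ : IrrCharacter G, ‖σ (Z χ)‖ ^ 2 = 1 := by
      have : (q : ℝ) * ((q : ℝ) * ∑ χ : IrrCharacter G, ‖σ (Z χ)‖ ^ 2) = (q : ℝ) * 1 := by
        calc (q : ℝ) * ((q : ℝ) * ∑ χ : IrrCharacter G, ‖σ (Z χ)‖ ^ 2)
            = (q : ℝ) ^ 2 * ∑ χ : IrrCharacter G, ‖σ (Z χ)‖ ^ 2 := by ring
          _ = (q : ℝ) := h5
          _ = (q : ℝ) * 1 := (mul_one _).symm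
      exact mul_left_cancel₀ hqr.ne' this
    rw [← h7]
    apply mul_le_mul_of_nonneg_left _ hqr.le
    exact Finset.sum_le_sum_of_subset_of_nonneg (Finset.subset_univ S)
      (fun χ _ _ => by positivity)
  -- combine
  have h8 : (q : ℝ) * ((S.card : ℝ) * E) ≤ E := by
    calc (q : ℝ) * ((S.card : ℝ) * E) = (q : ℝ) * ∑ χ ∈ S, (E : ℝ) := by
          simp only [Finset.sum_const, nsmul_eq_mul]
      _ ≤ (q : ℝ) * ∑ χ ∈ S, ∑ σ : cyclo N →ₐ[ℚ] ℂ, ‖σ (Z χ)‖ ^ 2 :=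
          mul_le_mul_of_nonneg_left (Finset.sum_le_sum hlow) hqr.le
      _ = ∑ σ : cyclo N →ₐ[ℚ] ℂ, (q : ℝ) * ∑ χ ∈ S, ‖σ (Z χ)‖ ^ 2 := by
          rw [Finset.sum_comm, Finset.mul_sum]
      _ ≤ ∑ σ : cyclo N →ₐ[ℚ] ℂ, (1 : ℝ) := Finset.sum_le_sum fun σ _ => hup σ
      _ = E := by simp only [Finset.sum_const, Finset.card_univ, nsmul_eq_mul, mul_one, ← hE]
  have h9 : ((S.card : ℝ) * (q : ℝ)) * E ≤ 1 * E := by
    rw [one_mul]; linarith [h8]
  exact le_of_mul_le_mul_right h9 hEr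

end Cfsg.Agent.Helper8.KB
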