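import Mathlib
import Cfsg.Prelude.Def_Blocks
import Cfsg.Prelude.Def_BlockRank
import Cfsg.Agent.Helper8.KB6

/-!
# `k(B) ≤ p^d` for a major subsection `(x, e)` with `l(e) ≤ 2`
-/

set_option autoImplicit false
set_option linter.unusedSectionVars false
set_option linter.unusedVariables false
set_option linter.unusedSimpArgs false
set_option linter.unnecessarySimpa false
set_option linter.style.haveILetI false

namespace Cfsg.Agent.Helper8.KB

open Cfsg Cfsg.Agent.Helper24 Cfsg.Agent.Helper5 Cfsg.Agent.Helper5.CC Cfsg.Agent.Helper5.Loc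
open Cfsg.Agent.Helper8.SecCore Cfsg.Agent.Helper23.SubTr Cfsg.Agent.Helper23.CM
open Cfsg.Agent.Helper8.HZI Cfsg.Agent.Helper8.IndHt Cfsg.Agent.Helper23

variable {G : Type*} [Group G] [Fintype G] {M : Ideal AlgInt} {p : ℕ} [hp : Fact p.Prime]

theorem hform_nonneg {a b c : ℝ} (ha : 0 < a) (hn : b ^ 2 ≤ a * c) (u v : ℂ) :
    0 ≤ hform a b c u v := by
  have h1 := mul_hform a b c u v
  have h2 : 0 ≤ a * hform a b c u v := by
    rw [h1]
    have : 0 ≤ (a * c - b ^ 2) * ‖v‖ ^ 2 := mul_nonneg (by linarith) (by positivity)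
    positivity
  exact nonneg_of_mul_nonneg_right h2 ha

/-- Some truncated decomposition number of `χ ∈ B` is non-zero (major subsection). -/
theorem exists_dnum_ne_zero [Fintype (IrrCharacter G)] (hM : IsPModular p M) (x : G)
    (hx : ∃ k : ℕ, orderOf x = p ^ k)
    (C : Subgroup G) [Fintype C] [Fintype (IrrCharacter C)] (hxC : x ∈ C)
    (hcomm : ∀ c : C, x * (c : G) = (c : G) * x)
    (hcent : Subgroup.centralizer ({x} : Set G) ≤ C)
    {e : Set (IrrCharacter C)} [DecidablePred (· ∈ e)] {B : Set (IrrCharacter G)}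
    (hind : IsInducedBlock M C e B) (hdef : blockDefect p e = blockDefect p B)
    (χ : IrrCharacter G) (hχ : χ ∈ B) : ∃ ψ ∈ e, dnum p x C χ ψ ≠ 0 := by
  classical
  haveI : Finite C := Finite.of_fintype C
  by_contra hcon
  push Not at hcon
  apply col_rowW_ne_zero hM x hx C hxC hcomm hcent hind hdef χ hχ
  simp only [col]
  apply Finset.sum_eq_zero
  intro θ _
  by_cases hθ : θ ∈ e
  · rw [hcon θ hθ, mul_zero]
  · rw [rowW, if_neg hθ, zero_mul]

/-- The weights of an integer vector have integral class function. -/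
theorem lr_sum_wt (hMp : M.IsPrime) {H : Type*} [Group H] [Fintype H] [Fintype (IrrCharacter H)]
    (e : Set (IrrCharacter H)) [DecidablePred (· ∈ e)] (t : IrrCharacter H → ℤ) (c₀ : H) :
    MemLocalRing M (∑ θ : IrrCharacter H, wt e t θ * (starRingEnd ℂ) ((θ : H → ℂ) c₀)) := by
  haveI : Finite H := Finite.of_fintype H
  apply memLocalRing_of_isIntegral hMp
  refine IsIntegral.sum _ fun θ _ => ?_
  refine IsIntegral.mul ?_ ((irr_isIntegral θ c₀).map (starRingEnd ℂ).toIntAlgHom)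
  rw [wt]
  split_ifs
  · exact isIntegral_algebraMap (R := ℤ) (A := ℂ) (x := t θ) |> fun h => by simpa using h
  · exact isIntegral_zero

/-- **The case of a basis vector of norm `p^{-d}`.** -/
theorem card_le_of_unit_norm [Fintype (IrrCharacter G)] (hM : IsPModular p M) (x : G)
    (hx : ∃ k : ℕ, orderOf x = p ^ k)
    (C : Subgroup G) [Fintype C] [Fintype (IrrCharacter C)] (hxC : x ∈ C)
    (hcomm : ∀ c : C, x * (c : G) = (c : G) * x)
    (hcent : Subgroup.centralizer ({x} : Set G) ≤ C)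
    {e : Set (IrrCharacter C)} [DecidablePred (· ∈ e)] {B : Set (IrrCharacter G)}
    (hind : IsInducedBlock M C e B) (hdef : blockDefect p e = blockDefect p B)
    {gq : IrrCharacter C → IrrCharacter C → ℚ}
    (hcast : ∀ θ ψ, ((gq θ ψ : ℚ) : ℂ) = if θ ∈ e ∧ ψ ∈ e then gram p θ ψ else 0)
    (hsymm : ∀ θ ψ, gq θ ψ = gq ψ θ) (hidem : ∀ θ ψ, ∑ η, gq θ η * gq η ψ = gq θ ψ)
    (D : LatData gq) (hA : ((p ^ blockDefect p e : ℕ) : ℚ) * D.qA = 1) (hB : D.qB = 0)
    (hC : 0 < D.qC) (cc : ℤ) (hCint : ((p ^ blockDefect p e : ℕ) : ℚ) * D.qC = cc)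
    (S : Finset (IrrCharacter G)) (hS : ∀ χ ∈ S, χ ∈ B) :
    S.card ≤ p ^ blockDefect p e := by
  classical
  haveI : Finite G := Finite.of_fintype G
  haveI : Finite C := Finite.of_fintype C
  have hMp := isPrime_of_isPModular hM
  have he : IsPBlock M e := hind.1
  have hBb : IsPBlock M B := hind.2.1
  set d := blockDefect p e with hd
  have hNq : (0 : ℚ) < ((p ^ d : ℕ) : ℚ) := by
    exact_mod_cast pow_pos hp.out.pos d
  have hNr : (0 : ℝ) < ((p ^ d : ℕ) : ℝ) := by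
    exact_mod_cast pow_pos hp.out.pos d
  have hp0 : (p : ℂ) ≠ 0 := by exact_mod_cast hp.out.pos.ne'
  have hpd0 : (p : ℂ) ^ d ≠ 0 := pow_ne_zero _ hp0
  obtain ⟨k₀, hk₀⟩ := hx
  have hxk : x ^ (p ^ k₀) = 1 := by rw [← hk₀]; exact pow_orderOf_eq_one x
  obtain ⟨ψ, hψ, hψv⟩ := exists_minVal p (IsPBlock.nonempty hMp hBb)
  have hmin : ∀ ξ ∈ B, (irrDeg ψ).factorization p ≤ (irrDeg ξ).factorization p := by
    intro ξ hξ; rw [hψv]; exact minVal_le p hξ
  have hU := pow_mul_contrib_not_li hM x k₀ hxk C hxC hcomm hind ψ ψ hψ hψ hmin hmin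
  set X := coord C e D.m x ψ with hX
  set Y := coord C e D.n x ψ with hY
  have hXi : IsIntegral ℤ X := isIntegral_coord C e D.m x hxC hcomm ψ
  have hYi : IsIntegral ℤ Y := isIntegral_coord C e D.n x hxC hcomm ψ
  have hAc : (p : ℂ) ^ d * (D.qA : ℂ) = 1 := by
    have : (((((p ^ d : ℕ) : ℚ) * D.qA : ℚ)) : ℂ) = ((1 : ℚ) : ℂ) := by rw [hA]
    push_cast at this
    exact this
  have hCc : (p : ℂ) ^ d * (D.qC : ℂ) = (cc : ℂ) := by
    have : (((((p ^ d : ℕ) : ℚ) * D.qC : ℚ)) : ℂ) = ((cc : ℚ) : ℂ) := by rw [hCint]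
    push_cast at this
    exact this
  have hqA : (D.qA : ℂ) = 1 / (p : ℂ) ^ d := by
    rw [eq_div_iff hpd0, mul_comm]; exact hAc
  have hqC : (D.qC : ℂ) = (cc : ℂ) / (p : ℂ) ^ d := by
    rw [eq_div_iff hpd0, mul_comm]; exact hCc
  have hqApos : 0 < D.qA := by
    by_contra h
    have h1 : D.qA ≤ 0 := not_lt.mp h
    have h2 : ((p ^ d : ℕ) : ℚ) * D.qA ≤ 0 := mul_nonpos_of_nonneg_of_nonpos hNq.le h1
    rw [hA] at h2
    linarith
  have hUeq : (p : ℂ) ^ d * contrib p x C e ψ ψ =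
      X * (starRingEnd ℂ) X + ((cc : ℂ) * Y) * (starRingEnd ℂ) Y := by
    rw [contrib_eq_coord hM x C hcomm he hcast D ψ ψ, hB, ← hX, ← hY, mul_add, mul_add,
      ← mul_assoc, hAc, ← mul_assoc ((p : ℂ) ^ d) (D.qC : ℂ), hCc]
    push_cast; ring
  rw [hUeq] at hU
  have hXc_lr : MemLocalRing M ((starRingEnd ℂ) X) :=
    memLocalRing_of_isIntegral hMp (hXi.map (starRingEnd ℂ).toIntAlgHom)
  have hYc_lr : MemLocalRing M ((starRingEnd ℂ) Y) :=
    memLocalRing_of_isIntegral hMp (hYi.map (starRingEnd ℂ).toIntAlgHom)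
  have hX_lr : MemLocalRing M X := memLocalRing_of_isIntegral hMp hXi
  have hcY_lr : MemLocalRing M ((cc : ℂ) * Y) :=
    lr_mul hMp (memLocalRing_intCast hMp cc) (memLocalRing_of_isIntegral hMp hYi)
  have hcases : ¬ MemLocalIdeal M X ∨ ¬ MemLocalIdeal M ((cc : ℂ) * Y) := by
    by_contra hcon
    push Not at hcon
    exact hU (li_add hMp (li_mul_right hMp hcon.1 hXc_lr) (li_mul_right hMp hcon.2 hYc_lr))
  have hcop1 : (1 : ℕ).Coprime (Nat.card G) := Nat.coprime_one_left _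
  have hhx : ∃ k : ℕ, orderOf x = p ^ k := ⟨k₀, hk₀⟩
  rcases hcases with hXn | hYn
  · -- the first coordinate is a unit at ψ
    have h1 : ∀ k : ℕ, k.Coprime (Nat.card G) → ∀ χ : IrrCharacter G,
        col p (x ^ k) C (wt e D.t₁) χ = (D.qA : ℂ) * coord C e D.m (x ^ k) χ := by
      intro k _ χ
      rw [col_wt hM (x ^ k) C (comm_pow hcomm k) he hcast D D.t₁ χ, D.sum_t₁_v₁ hsymm hidem,
        D.sum_t₁_v₂ hsymm hidem, hB]
      push_cast; ring
    have h2 : ∑ θ, ∑ θ', (D.t₁ θ : ℚ) * (D.t₁ θ' : ℚ) * gq θ' θ = D.qA := by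
      rw [← D.sum_t₁_v₁ hsymm hidem]
      refine Finset.sum_congr rfl fun θ _ => ?_
      rw [D.hv₁ θ, Finset.mul_sum]
      refine Finset.sum_congr rfl fun θ' _ => ?_
      ring
    have h4 : ∀ χ ∈ S, coord C e D.m x χ ≠ 0 := by
      intro χ hχ h0
      have h5 := col_ne_zero_of_unit hM x hhx C hcomm hcent (wt e D.t₁)
        (fun c₀ _ => lr_sum_wt hMp e D.t₁ c₀) hBb ψ χ hψ (hS χ hχ) ?_
      · have h6 := h1 1 hcop1 χ
        rw [pow_one] at h6
        rw [h6, h0, mul_zero] at h5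
        exact h5 rfl
      · have h6 := h1 1 hcop1 ψ
        rw [pow_one] at h6
        rw [h6, hqA, ← hX, one_div, mul_comm ((p : ℂ) ^ d)⁻¹ X, ← div_eq_mul_inv, hdef]
        exact not_li_card_mul_div hM ψ hψ hψv X hX_lr hXn
    have h5 := card_mul_le_one hM x hhx C hxC hcomm hcent hcast D.t₁ D.m D.qA hqApos h1 h2 S h4
    have h6 : ((p ^ d : ℕ) : ℝ) * (D.qA : ℝ) = 1 := by exact_mod_cast hA
    have h7 : (S.card : ℝ) ≤ ((p ^ d : ℕ) : ℝ) := by
      calc (S.card : ℝ) = ((p ^ d : ℕ) : ℝ) * ((S.card : ℝ) * (D.qA : ℝ)) := by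
            rw [mul_left_comm, h6, mul_one]
        _ ≤ ((p ^ d : ℕ) : ℝ) * 1 := mul_le_mul_of_nonneg_left h5 hNr.le
        _ = _ := mul_one _
    exact_mod_cast h7
  · -- the second coordinate is a unit at ψ
    have h1 : ∀ k : ℕ, k.Coprime (Nat.card G) → ∀ χ : IrrCharacter G,
        col p (x ^ k) C (wt e D.t₂) χ = (D.qC : ℂ) * coord C e D.n (x ^ k) χ := by
      intro k _ χ
      rw [col_wt hM (x ^ k) C (comm_pow hcomm k) he hcast D D.t₂ χ, D.sum_t₂_v₁ hsymm hidem,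
        D.sum_t₂_v₂ hsymm hidem, hB]
      push_cast; ring
    have h2 : ∑ θ, ∑ θ', (D.t₂ θ : ℚ) * (D.t₂ θ' : ℚ) * gq θ' θ = D.qC := by
      rw [← D.sum_t₂_v₂ hsymm hidem]
      refine Finset.sum_congr rfl fun θ _ => ?_
      rw [D.hv₂ θ, Finset.mul_sum]
      refine Finset.sum_congr rfl fun θ' _ => ?_
      ring
    have h4 : ∀ χ ∈ S, coord C e D.n x χ ≠ 0 := by
      intro χ hχ h0
      have h5 := col_ne_zero_of_unit hM x hhx C hcomm hcent (wt e D.t₂)
        (fun c₀ _ => lr_sum_wt hMp e D.t₂ c₀) hBb ψ χ hψ (hS χ hχ) ?_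
      · have h6 := h1 1 hcop1 χ
        rw [pow_one] at h6
        rw [h6, h0, mul_zero] at h5
        exact h5 rfl
      · have h6 := h1 1 hcop1 ψ
        rw [pow_one] at h6
        rw [h6, hqC, ← hY, div_mul_eq_mul_div, hdef]
        exact not_li_card_mul_div hM ψ hψ hψv _ hcY_lr hYn
    have h5 := card_mul_le_one hM x hhx C hxC hcomm hcent hcast D.t₂ D.n D.qC hC h1 h2 S h4
    have h6 : ((p ^ d : ℕ) : ℝ) * (D.qC : ℝ) = (cc : ℝ) := by exact_mod_cast hCint
    have hcc1 : (1 : ℝ) ≤ (cc : ℝ) := by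
      have h8 : (0 : ℚ) < (cc : ℚ) := by rw [← hCint]; exact mul_pos hNq hC
      have h9 : (0 : ℤ) < cc := by exact_mod_cast h8
      exact_mod_cast h9
    have h7 : (S.card : ℝ) ≤ ((p ^ d : ℕ) : ℝ) := by
      calc (S.card : ℝ) ≤ (S.card : ℝ) * (cc : ℝ) := by
            have : (0 : ℝ) ≤ (S.card : ℝ) := Nat.cast_nonneg _
            nlinarith
        _ = ((p ^ d : ℕ) : ℝ) * ((S.card : ℝ) * (D.qC : ℝ)) := by rw [← h6]; ring
        _ ≤ ((p ^ d : ℕ) : ℝ) * 1 := mul_le_mul_of_nonneg_left h5 hNr.le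
        _ = _ := mul_one _
    exact_mod_cast h7

end Cfsg.Agent.Helper8.KB
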