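import Mathlib
import Cfsg.Prelude.Def_Blocks
import Cfsg.Prelude.Def_BlockRank
import Cfsg.Agent.Helper8.KB7

/-!
# `k(B) ≤ p^d` for a major subsection `(x, e)` with `l(e) ≤ 2`: the main theorem
-/

set_option autoImplicit false
set_option linter.unusedSectionVars false
set_option linter.unusedVariables false
set_option linter.unusedSimpArgs false
set_option linter.unnecessarySimpa false
set_option linter.style.haveILetI false

namespace Cfsg.Agent.Helper8.KB

open Cfsg Cfsg.Agent.Helper24 Cfsg.Agent.Helper5 Cfsg.Agent.Helper5.CC Cfsg.Agent.Helper5.Loc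
open Cfsg.Agent.Helper8.SecCore Cfsg.Agent.Helper23.SubTr Cfsg.Agent.Helper23.CM
open Cfsg.Agent.Helper8.HZI Cfsg.Agent.Helper8.IndHt Cfsg.Agent.Helper23

variable {G : Type*} [Group G] [Fintype G] {M : Ideal AlgInt} {p : ℕ} [hp : Fact p.Prime]

theorem card_le_of_mul_le_one (n N : ℕ) (hN : 0 < N) (q : ℚ) (k : ℤ) (hq : 0 < q)
    (hk : (N : ℚ) * q = k) (h : (n : ℝ) * (q : ℝ) ≤ 1) : n ≤ N := by
  have hNq : (0 : ℚ) < N := by exact_mod_cast hN
  have hk0 : (0 : ℚ) < (k : ℚ) := by rw [← hk]; exact mul_pos hNq hq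
  have hk1 : (1 : ℤ) ≤ k := by
    have : (0 : ℤ) < k := by exact_mod_cast hk0
    omega
  have hkr : (N : ℝ) * (q : ℝ) = (k : ℝ) := by exact_mod_cast hk
  have hk1r : (1 : ℝ) ≤ (k : ℝ) := by exact_mod_cast hk1
  have hn0 : (0 : ℝ) ≤ n := Nat.cast_nonneg n
  have : (n : ℝ) ≤ N := by
    calc (n : ℝ) ≤ n * k := by nlinarith
      _ = N * (n * q) := by rw [← hkr]; ring
      _ ≤ N * 1 := mul_le_mul_of_nonneg_left h (Nat.cast_nonneg N)
      _ = N := mul_one _
  exact_mod_cast this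

/-- **The reduced case `a, c ≥ 2`.** -/
theorem card_le_of_reduced [Fintype (IrrCharacter G)] (hM : IsPModular p M) (x : G)
    (hx : ∃ k : ℕ, orderOf x = p ^ k)
    (C : Subgroup G) [Fintype C] [Fintype (IrrCharacter C)] (hxC : x ∈ C)
    (hcomm : ∀ c : C, x * (c : G) = (c : G) * x)
    (hcent : Subgroup.centralizer ({x} : Set G) ≤ C)
    {e : Set (IrrCharacter C)} [DecidablePred (· ∈ e)] {B : Set (IrrCharacter G)}
    (hind : IsInducedBlock M C e B) (hdef : blockDefect p e = blockDefect p B)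
    (hl : blockRank p e ≤ 2)
    {gq : IrrCharacter C → IrrCharacter C → ℚ}
    (hcast : ∀ θ ψ, ((gq θ ψ : ℚ) : ℂ) = if θ ∈ e ∧ ψ ∈ e then gram p θ ψ else 0)
    (D : LatData gq) (a b c : ℤ)
    (ha : ((p ^ blockDefect p e : ℕ) : ℚ) * D.qA = a)
    (hb : ((p ^ blockDefect p e : ℕ) : ℚ) * D.qB = b)
    (hc : ((p ^ blockDefect p e : ℕ) : ℚ) * D.qC = c)
    (ha2 : 2 ≤ a) (hc2 : 2 ≤ c) (hba : 2 * |b| ≤ a) (hbc : 2 * |b| ≤ c)
    (S : Finset (IrrCharacter G)) (hS : ∀ χ ∈ S, χ ∈ B) :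
    S.card ≤ p ^ blockDefect p e := by
  classical
  haveI : Finite G := Finite.of_fintype G
  haveI : Finite C := Finite.of_fintype C
  have hMp := isPrime_of_isPModular hM
  have he : IsPBlock M e := hind.1
  set d := blockDefect p e with hd
  set N := Nat.card G with hN
  have hNpos : 0 < N := Nat.card_pos
  haveI hfd : FiniteDimensional ℚ (cyclo N) := finiteDimensional_cyclo N hNpos
  set E := Fintype.card (cyclo N →ₐ[ℚ] ℂ) with hE
  have hEpos : 0 < E := Fintype.card_pos_iff.mpr ⟨(cyclo N).val⟩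
  have hEr : (0 : ℝ) < E := by exact_mod_cast hEpos
  set kf : (cyclo N →ₐ[ℚ] ℂ) → ℕ := fun σ => kexp N hNpos σ with hkf
  have hkc : ∀ σ, (kf σ).Coprime N := fun σ => kexp_coprime N hNpos σ
  have hks : ∀ σ (μ : ℂ) (hμ : μ ^ N = 1), σ ⟨μ, mem_cyclo hμ⟩ = μ ^ kf σ :=
    fun σ μ hμ => kexp_spec N hNpos σ μ hμ
  -- casts
  have hAc : (((a : ℤ) : ℝ) : ℂ) = (p : ℂ) ^ d * (D.qA : ℂ) := by
    have : (((((p ^ d : ℕ) : ℚ) * D.qA : ℚ)) : ℂ) = ((a : ℚ) : ℂ) := by rw [ha]
    push_cast at this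
    rw [this]; push_cast; rfl
  have hBc : (((b : ℤ) : ℝ) : ℂ) = (p : ℂ) ^ d * (D.qB : ℂ) := by
    have : (((((p ^ d : ℕ) : ℚ) * D.qB : ℚ)) : ℂ) = ((b : ℚ) : ℂ) := by rw [hb]
    push_cast at this
    rw [this]; push_cast; rfl
  have hCc : (((c : ℤ) : ℝ) : ℂ) = (p : ℂ) ^ d * (D.qC : ℂ) := by
    have : (((((p ^ d : ℕ) : ℚ) * D.qC : ℚ)) : ℂ) = ((c : ℚ) : ℂ) := by rw [hc]
    push_cast at this
    rw [this]; push_cast; rfl
  -- the form is p^d times the diagonal contribution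
  have hformC : ∀ (y : G) (hcy : ∀ c : C, y * (c : G) = (c : G) * y) (χ : IrrCharacter G),
      ((hform a b c (coord C e D.m y χ) (coord C e D.n y χ) : ℝ) : ℂ) =
        (p : ℂ) ^ d * contrib p y C e χ χ := by
    intro y hcy χ
    rw [hform_eq, contrib_eq_coord hM y C hcy he hcast D χ χ, hAc, hBc, hCc]
    ring
  have haR : (0 : ℝ) < (a : ℝ) := by
    have : (0 : ℤ) < a := by omega
    exact_mod_cast this
  have hnR : ((b : ℤ) : ℝ) ^ 2 ≤ (a : ℝ) * (c : ℝ) := by
    have hb2 : b ^ 2 = |b| ^ 2 := (sq_abs b).symm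
    have h0 : 0 ≤ |b| := abs_nonneg b
    have : b ^ 2 ≤ a * c := by rw [hb2]; nlinarith
    exact_mod_cast this
  -- total sum for each embedding
  have hsumall : ∀ σ : cyclo N →ₐ[ℚ] ℂ, ∑ χ : IrrCharacter G,
      hform a b c (coord C e D.m (x ^ kf σ) χ) (coord C e D.n (x ^ kf σ) χ) =
      (p : ℝ) ^ d * (blockRank p e : ℝ) := by
    intro σ
    obtain ⟨hx', hcent'⟩ := pow_hyps x hx C hcent (kf σ) (hkc σ)
    have h1 := contrib_trace hM (x ^ kf σ) hx' C (comm_pow hcomm (kf σ)) hcent' e he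
    have h2 : ((∑ χ : IrrCharacter G,
        hform a b c (coord C e D.m (x ^ kf σ) χ) (coord C e D.n (x ^ kf σ) χ) : ℝ) : ℂ) =
        (((p : ℝ) ^ d * (blockRank p e : ℝ) : ℝ) : ℂ) := by
      push_cast
      rw [Finset.sum_congr rfl (fun χ _ => hformC (x ^ kf σ) (comm_pow hcomm (kf σ)) χ),
        ← Finset.mul_sum, h1]
    exact_mod_cast h2
  -- the elements of the cyclotomic field
  have hrelX : ∀ (σ : cyclo N →ₐ[ℚ] ℂ) (χ : IrrCharacter G),
      Rel σ (coord C e D.m x χ) (coord C e D.m (x ^ kf σ) χ) :=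
    fun σ χ => rel_coord C e D.m x hxC hcomm σ (kf σ) (hks σ) χ
  have hrelY : ∀ (σ : cyclo N →ₐ[ℚ] ℂ) (χ : IrrCharacter G),
      Rel σ (coord C e D.n x χ) (coord C e D.n (x ^ kf σ) χ) :=
    fun σ χ => rel_coord C e D.n x hxC hcomm σ (kf σ) (hks σ) χ
  have hmemX : ∀ χ : IrrCharacter G, coord C e D.m x χ ∈ cyclo N :=
    fun χ => (hrelX (cyclo N).val χ).1
  have hmemY : ∀ χ : IrrCharacter G, coord C e D.n x χ ∈ cyclo N :=
    fun χ => (hrelY (cyclo N).val χ).1
  let X : IrrCharacter G → cyclo N := fun χ => ⟨_, hmemX χ⟩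
  let Y : IrrCharacter G → cyclo N := fun χ => ⟨_, hmemY χ⟩
  have hσX : ∀ (σ : cyclo N →ₐ[ℚ] ℂ) (χ : IrrCharacter G),
      σ (X χ) = coord C e D.m (x ^ kf σ) χ := by
    intro σ χ
    obtain ⟨hu, h⟩ := hrelX σ χ
    exact h
  have hσY : ∀ (σ : cyclo N →ₐ[ℚ] ℂ) (χ : IrrCharacter G),
      σ (Y χ) = coord C e D.n (x ^ kf σ) χ := by
    intro σ χ
    obtain ⟨hu, h⟩ := hrelY σ χ
    exact h
  -- lower bound
  have hlow : ∀ χ ∈ S, 2 * (E : ℝ) ≤ ∑ σ : cyclo N →ₐ[ℚ] ℂ,
      hform a b c (coord C e D.m (x ^ kf σ) χ) (coord C e D.n (x ^ kf σ) χ) := by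
    intro χ hχ
    have hXi : IsIntegral ℤ (X χ) := by
      have h5 : IsIntegral ℤ ((algebraMap (cyclo N) ℂ) (X χ)) :=
        isIntegral_coord C e D.m x hxC hcomm χ
      exact (isIntegral_algebraMap_iff (algebraMap (cyclo N) ℂ).injective).mp h5
    have hYi : IsIntegral ℤ (Y χ) := by
      have h5 : IsIntegral ℤ ((algebraMap (cyclo N) ℂ) (Y χ)) :=
        isIntegral_coord C e D.n x hxC hcomm χ
      exact (isIntegral_algebraMap_iff (algebraMap (cyclo N) ℂ).injective).mp h5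
    have hne : X χ ≠ 0 ∨ Y χ ≠ 0 := by
      rcases coord_ne_zero hM x hx C hxC hcomm hcent hind hdef hcast D χ (hS χ hχ) with h | h
      · left
        intro h0
        have h5 : ((X χ : cyclo N) : ℂ) = 0 := by rw [h0]; rfl
        exact h h5
      · right
        intro h0
        have h5 : ((Y χ : cyclo N) : ℂ) = 0 := by rw [h0]; rfl
        exact h h5
    have h6 := two_card_le_sum_hform (cyclo N) (X χ) (Y χ) hXi hYi hne a b c ha2 hc2 hba hbc
    rw [Finset.sum_congr rfl (fun σ _ => by rw [hσX σ χ, hσY σ χ])] at h6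
    exact h6
  -- combine
  have hlr : (blockRank p e : ℝ) ≤ 2 := by exact_mod_cast hl
  have hpd0 : (0 : ℝ) ≤ (p : ℝ) ^ d := by positivity
  have h8 : (S.card : ℝ) * (2 * E) ≤ E * ((p : ℝ) ^ d * 2) := by
    calc (S.card : ℝ) * (2 * E) = ∑ χ ∈ S, (2 * (E : ℝ)) := by
          simp only [Finset.sum_const, nsmul_eq_mul]
      _ ≤ ∑ χ ∈ S, ∑ σ : cyclo N →ₐ[ℚ] ℂ,
            hform a b c (coord C e D.m (x ^ kf σ) χ) (coord C e D.n (x ^ kf σ) χ) :=
          Finset.sum_le_sum hlow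
      _ = ∑ σ : cyclo N →ₐ[ℚ] ℂ, ∑ χ ∈ S,
            hform a b c (coord C e D.m (x ^ kf σ) χ) (coord C e D.n (x ^ kf σ) χ) :=
          Finset.sum_comm
      _ ≤ ∑ σ : cyclo N →ₐ[ℚ] ℂ, ∑ χ : IrrCharacter G,
            hform a b c (coord C e D.m (x ^ kf σ) χ) (coord C e D.n (x ^ kf σ) χ) :=
          Finset.sum_le_sum fun σ _ =>
            Finset.sum_le_sum_of_subset_of_nonneg (Finset.subset_univ S)
              (fun χ _ _ => hform_nonneg haR hnR _ _)
      _ = ∑ σ : cyclo N →ₐ[ℚ] ℂ, (p : ℝ) ^ d * (blockRank p e : ℝ) :=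
          Finset.sum_congr rfl fun σ _ => hsumall σ
      _ = E * ((p : ℝ) ^ d * (blockRank p e : ℝ)) := by
          simp only [Finset.sum_const, Finset.card_univ, nsmul_eq_mul, ← hE]
      _ ≤ E * ((p : ℝ) ^ d * 2) :=
          mul_le_mul_of_nonneg_left (mul_le_mul_of_nonneg_left hlr hpd0) hEr.le
  have h9 : (S.card : ℝ) * (2 * E) ≤ (p : ℝ) ^ d * (2 * E) := by linarith
  have h10 : (S.card : ℝ) ≤ (p : ℝ) ^ d := le_of_mul_le_mul_right h9 (by positivity)
  exact_mod_cast h10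

/-- **Main theorem.** For a major subsection `(x, e)` of `B` with `l(e) ≤ 2`, `k(B) ≤ p^d`. -/
theorem card_le_pow_defect [Fintype (IrrCharacter G)] (hM : IsPModular p M) (x : G)
    (hx : ∃ k : ℕ, orderOf x = p ^ k)
    (C : Subgroup G) [Fintype C] [Fintype (IrrCharacter C)] (hxC : x ∈ C)
    (hcomm : ∀ c : C, x * (c : G) = (c : G) * x)
    (hcent : Subgroup.centralizer ({x} : Set G) ≤ C)
    {e : Set (IrrCharacter C)} [DecidablePred (· ∈ e)] {B : Set (IrrCharacter G)}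
    (hind : IsInducedBlock M C e B) (hdef : blockDefect p e = blockDefect p B)
    (hl : blockRank p e ≤ 2)
    (S : Finset (IrrCharacter G)) (hS : ∀ χ ∈ S, χ ∈ B) :
    S.card ≤ p ^ blockDefect p e := by
  classical
  haveI : Finite G := Finite.of_fintype G
  haveI : Finite C := Finite.of_fintype C
  have hMp := isPrime_of_isPModular hM
  have he : IsPBlock M e := hind.1
  obtain ⟨gq, hcast, hsymm, hidem, hint, htr⟩ := exists_gq hM e he
  set d := blockDefect p e with hd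
  have hNpos : 0 < p ^ d := pow_pos hp.out.pos d
  have hNq : (0 : ℚ) < ((p ^ d : ℕ) : ℚ) := by exact_mod_cast hNpos
  have htr2 : ∑ θ, gq θ θ ≤ 2 := by
    rw [htr]; exact_mod_cast hl
  obtain ⟨D, hD⟩ := exists_reduced_data gq hsymm hidem (p ^ d) hNpos hint htr2
  obtain ⟨a, ha⟩ := D.exists_int_qA hsymm hidem hint
  obtain ⟨b, hb⟩ := D.exists_int_qB hsymm hidem hint
  obtain ⟨c, hc⟩ := D.exists_int_qC hsymm hidem hint
  rcases S.eq_empty_or_nonempty with rfl | ⟨χ₀, hχ₀⟩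
  · simp
  rcases hD with ⟨hv2, hn⟩ | ⟨hA0, hC0, hBA, hBC⟩
  · -- rank at most one
    have hYzero : ∀ (y : G) (χ : IrrCharacter G), coord C e D.n y χ = 0 := by
      intro y χ
      simp only [coord, hn, Pi.zero_apply, Int.cast_zero, zero_mul, ite_self,
        Finset.sum_const_zero]
    have hX : ∀ χ ∈ S, coord C e D.m x χ ≠ 0 := by
      intro χ hχ
      rcases coord_ne_zero hM x hx C hxC hcomm hcent hind hdef hcast D χ (hS χ hχ) with h | h
      · exact h
      · exact absurd (hYzero x χ) h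
    have hqB : D.qB = 0 := by
      simp only [LatData.qB, hv2, Pi.zero_apply, mul_zero, Finset.sum_const_zero]
    have hqA : 0 < D.qA := by
      obtain ⟨ψ, hψe, hne⟩ := exists_dnum_ne_zero hM x hx C hxC hcomm hcent hind hdef χ₀
        (hS χ₀ hχ₀)
      rw [dnum_eq_coord hM x C hcomm he hcast D χ₀ ψ hψe, hYzero, zero_mul, add_zero] at hne
      have hv1 : D.v₁ ψ ≠ 0 := by
        intro h0
        apply hne
        rw [h0]; simp
      have h1 : D.v₁ ψ * D.v₁ ψ ≤ D.qA :=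
        Finset.single_le_sum (f := fun ψ => D.v₁ ψ * D.v₁ ψ)
          (fun ψ _ => mul_self_nonneg _) (Finset.mem_univ ψ)
      have h2 : 0 < D.v₁ ψ * D.v₁ ψ := mul_self_pos.mpr hv1
      linarith
    have h1 : ∀ k : ℕ, k.Coprime (Nat.card G) → ∀ χ : IrrCharacter G,
        col p (x ^ k) C (wt e D.t₁) χ = (D.qA : ℂ) * coord C e D.m (x ^ k) χ := by
      intro k _ χ
      rw [col_wt hM (x ^ k) C (comm_pow hcomm k) he hcast D D.t₁ χ, D.sum_t₁_v₁ hsymm hidem,
        D.sum_t₁_v₂ hsymm hidem, hqB]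
      push_cast; ring
    have h2 : ∑ θ, ∑ θ', (D.t₁ θ : ℚ) * (D.t₁ θ' : ℚ) * gq θ' θ = D.qA := by
      rw [← D.sum_t₁_v₁ hsymm hidem]
      refine Finset.sum_congr rfl fun θ _ => ?_
      rw [D.hv₁ θ, Finset.mul_sum]
      refine Finset.sum_congr rfl fun θ' _ => ?_
      ring
    have h5 := card_mul_le_one hM x hx C hxC hcomm hcent hcast D.t₁ D.m D.qA hqA h1 h2 S hX
    exact card_le_of_mul_le_one S.card (p ^ d) hNpos D.qA a hqA ha h5
  · -- rank two, reduced
    have haq : (0 : ℚ) < (a : ℚ) := by rw [← ha]; exact mul_pos hNq hA0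
    have hcq : (0 : ℚ) < (c : ℚ) := by rw [← hc]; exact mul_pos hNq hC0
    have ha0 : 0 < a := by exact_mod_cast haq
    have hc0 : 0 < c := by exact_mod_cast hcq
    have hbaq : 2 * |(b : ℚ)| ≤ (a : ℚ) := by
      rw [← ha, ← hb, abs_mul, abs_of_pos hNq]
      have := mul_le_mul_of_nonneg_left hBA hNq.le
      linarith
    have hbcq : 2 * |(b : ℚ)| ≤ (c : ℚ) := by
      rw [← hc, ← hb, abs_mul, abs_of_pos hNq]
      have := mul_le_mul_of_nonneg_left hBC hNq.le
      linarith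
    have hba : 2 * |b| ≤ a := by exact_mod_cast hbaq
    have hbc : 2 * |b| ≤ c := by exact_mod_cast hbcq
    by_cases ha1 : a = 1
    · have hb0 : b = 0 := by
        have : |b| = 0 := by
          have h0 := abs_nonneg b
          omega
        exact abs_eq_zero.mp this
      have hqB : D.qB = 0 := by
        rw [hb0] at hb
        have : ((p ^ d : ℕ) : ℚ) * D.qB = 0 := by rw [hb]; simp
        rcases mul_eq_zero.mp this with h | h
        · exact absurd h hNq.ne'
        · exact h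
      rw [ha1] at ha
      exact card_le_of_unit_norm hM x hx C hxC hcomm hcent hind hdef hcast hsymm hidem D
        (by rw [ha]; simp) hqB hC0 c hc S hS
    by_cases hc1 : c = 1
    · have hb0 : b = 0 := by
        have : |b| = 0 := by
          have h0 := abs_nonneg b
          omega
        exact abs_eq_zero.mp this
      have hqB : D.qB = 0 := by
        rw [hb0] at hb
        have : ((p ^ d : ℕ) : ℚ) * D.qB = 0 := by rw [hb]; simp
        rcases mul_eq_zero.mp this with h | h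
        · exact absurd h hNq.ne'
        · exact h
      rw [hc1] at hc
      exact card_le_of_unit_norm hM x hx C hxC hcomm hcent hind hdef hcast hsymm hidem D.swap
        (by rw [D.swap_qA, hc]; simp) (by rw [D.swap_qB]; exact hqB)
        (by rw [D.swap_qC]; exact hA0) a (by rw [D.swap_qC]; exact ha) S hS
    · have ha2 : 2 ≤ a := by omega
      have hc2 : 2 ≤ c := by omega
      exact card_le_of_reduced hM x hx C hxC hcomm hcent hind hdef hl hcast D a b c ha hb hc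
        ha2 hc2 hba hbc S hS

end Cfsg.Agent.Helper8.KB
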