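import Mathlib
import Cfsg.Prelude.Def_Blocks
import Cfsg.Agent.Helper5.LocalRing
import Cfsg.Agent.Helper5.PElementCongr

/-!
# A `2`-adic lemma in `ℤ[ζ]`, `ζ^{2^t} = -1`

If `S ∈ ℤ[X]` has degree `< 2^t` and `S(ζ) ∈ 2^h R_M` (local ring at a prime `M` over `2`),
then `2^h` divides all coefficients of `S`.
-/

set_option autoImplicit false
set_option linter.unusedSectionVars false
set_option linter.unusedVariables false
set_option linter.unusedSimpArgs false
set_option linter.unnecessarySimpa false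
set_option linter.style.haveILetI false

namespace Cfsg.Agent.Helper8.KC

open Cfsg Cfsg.Agent.Helper5 Cfsg.Agent.Helper5.Loc Polynomial

variable {M : Ideal AlgInt}

theorem two_li (hM : IsPModular 2 M) : MemLocalIdeal M (2 : ℂ) := by
  have := (memLocalIdeal_natCast_iff hM 2).mpr (dvd_refl 2)
  simpa using this

theorem zeta_sub_one_li (hM : IsPModular 2 M) (ζ : ℂ) (t : ℕ) (hζ : ζ ^ (2 ^ t) = -1) :
    MemLocalIdeal M (ζ - 1) := by
  haveI : Fact (Nat.Prime 2) := ⟨Nat.prime_two⟩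
  apply pPowRoot_sub_one_memLocalIdeal hM ζ (t + 1)
  rw [pow_succ, pow_mul, hζ]; norm_num

theorem zeta_isIntegral (ζ : ℂ) (t : ℕ) (hζ : ζ ^ (2 ^ t) = -1) : IsIntegral ℤ ζ := by
  apply IsIntegral.of_pow (n := 2 ^ t) (by positivity)
  rw [hζ]
  exact isIntegral_one.neg

/-- An integer in the local ideal is even. -/
theorem even_of_intCast_li (hM : IsPModular 2 M) (z : ℤ) (h : MemLocalIdeal M (z : ℂ)) :
    (2 : ℤ) ∣ z := by
  have hMp := isPrime_of_isPModular hM
  by_contra hodd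
  have h1 : z % 2 = 1 := by omega
  have h2 : z = 2 * (z / 2) + 1 := by omega
  apply not_memLocalIdeal_one hMp (M := M)
  have h3 : (1 : ℂ) = (z : ℂ) - (2 : ℂ) * ((z / 2 : ℤ) : ℂ) := by
    have : ((z : ℤ) : ℂ) = ((2 * (z / 2) + 1 : ℤ) : ℂ) := by rw [← h2]
    rw [this]; push_cast; ring
  rw [h3]
  exact li_sub hMp h (li_mul_right hMp (two_li hM) (memLocalRing_intCast hMp _))

/-- `2 = (ζ - 1)^{2^t} v` with `v` in the local ring. -/
theorem two_eq_pow_mul (hM : IsPModular 2 M) (ζ : ℂ) (t : ℕ) (hζ : ζ ^ (2 ^ t) = -1) :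
    ∃ v : ℂ, MemLocalRing M v ∧ (2 : ℂ) = (ζ - 1) ^ (2 ^ t) * v := by
  classical
  have hMp := isPrime_of_isPModular hM
  set π := ζ - 1 with hπ
  have hπli : MemLocalIdeal M π := zeta_sub_one_li hM ζ t hζ
  have hπlr : MemLocalRing M π := li_lr hπli
  set n := 2 ^ t with hn
  have hnpos : 0 < n := by positivity
  -- binomial expansion
  have h1 : (π + 1) ^ n = -1 := by rw [hπ, sub_add_cancel, hζ]
  rw [add_pow] at h1
  simp only [one_pow, mul_one] at h1
  -- the middle coefficients are even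
  choose! cf hcf using fun m : ℕ => fun h : m ≠ 0 ∧ m ≠ n =>
    (Nat.prime_two.dvd_choose_pow (n := t) h.1 (by rw [← hn]; exact h.2))
  set w : ℂ := 1 + ∑ m ∈ (Finset.range n).filter (· ≠ 0), π ^ m * (cf m : ℂ) with hw
  have hsum : ∑ m ∈ Finset.range (n + 1), π ^ m * ((n.choose m : ℕ) : ℂ) =
      π ^ n + (2 * w - 1) := by
    rw [Finset.sum_range_succ, Nat.choose_self, Nat.cast_one, mul_one, add_comm]
    congr 1
    rw [← Finset.sum_filter_add_sum_filter_not (Finset.range n) (· ≠ 0)]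
    have hz : ∑ m ∈ (Finset.range n).filter (fun m => ¬ m ≠ 0), π ^ m * ((n.choose m : ℕ) : ℂ)
        = 1 := by
      have : (Finset.range n).filter (fun m => ¬ m ≠ 0) = {0} := by
        ext m
        simp only [Finset.mem_filter, Finset.mem_range, not_not, Finset.mem_singleton]
        constructor
        · intro h; exact h.2
        · intro h; rw [h]; exact ⟨hnpos, rfl⟩
      rw [this, Finset.sum_singleton]
      simp
    rw [hz, hw, mul_add, mul_one, Finset.mul_sum]
    have : ∑ m ∈ (Finset.range n).filter (· ≠ 0), π ^ m * ((n.choose m : ℕ) : ℂ) =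
        ∑ m ∈ (Finset.range n).filter (· ≠ 0), 2 * (π ^ m * (cf m : ℂ)) := by
      refine Finset.sum_congr rfl fun m hm => ?_
      rw [Finset.mem_filter, Finset.mem_range] at hm
      have h2 := hcf m ⟨hm.2, hm.1.ne⟩
      rw [← hn] at h2
      rw [h2]; push_cast; ring
    rw [this]; ring
  rw [hsum] at h1
  have hwlr : MemLocalRing M w := by
    refine lr_add hMp (memLocalRing_one hMp) (lr_sum hMp _ _ fun m _ => ?_)
    exact lr_mul hMp (lr_pow hMp hπlr m) (memLocalRing_natCast hMp _)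
  have hw1 : MemLocalIdeal M (w - 1) := by
    rw [hw, add_sub_cancel_left]
    refine li_sum hMp _ _ fun m hm => ?_
    rw [Finset.mem_filter] at hm
    obtain ⟨m', rfl⟩ := Nat.exists_eq_succ_of_ne_zero hm.2
    rw [pow_succ, mul_assoc]
    exact li_mul_left hMp (lr_pow hMp hπlr m')
      (li_mul_right hMp hπli (memLocalRing_natCast hMp _))
  have hπn : π ^ n = -(2 * w) := by linear_combination h1
  have hwnli : ¬ MemLocalIdeal M w := by
    intro h
    apply not_memLocalIdeal_one hMp (M := M)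
    have := li_sub hMp h hw1
    rwa [sub_sub_cancel] at this
  have hw0 : w ≠ 0 := by
    intro h0
    apply hwnli
    rw [h0]; exact memLocalIdeal_zero hMp
  refine ⟨-w⁻¹, lr_neg (lr_inv_of_not_li hwlr hwnli), ?_⟩
  rw [hπn]
  field_simp

theorem zeta_ne_one (ζ : ℂ) (t : ℕ) (hζ : ζ ^ (2 ^ t) = -1) : ζ - 1 ≠ 0 := by
  intro h
  have h1 : ζ = 1 := by linear_combination h
  rw [h1, one_pow] at hζ
  norm_num at hζ

/-- Key induction: if `deg S < m ≤ 2^t` and `S(ζ) ∈ (ζ-1)^m R_M` then `2 ∣ S`. -/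
theorem C_two_dvd_of_aeval_eq_pow_mul (hM : IsPModular 2 M) (ζ : ℂ) (t : ℕ)
    (hζ : ζ ^ (2 ^ t) = -1) :
    ∀ m : ℕ, m ≤ 2 ^ t → ∀ S : ℤ[X], S.degree < (m : WithBot ℕ) →
      (∃ y : ℂ, MemLocalRing M y ∧ aeval ζ S = (ζ - 1) ^ m * y) → (C 2 : ℤ[X]) ∣ S := by
  classical
  have hMp := isPrime_of_isPModular hM
  have hπli : MemLocalIdeal M (ζ - 1) := zeta_sub_one_li hM ζ t hζ
  have hπlr : MemLocalRing M (ζ - 1) := li_lr hπli
  have hπ0 : ζ - 1 ≠ 0 := zeta_ne_one ζ t hζ
  have hζint : IsIntegral ℤ ζ := zeta_isIntegral ζ t hζ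
  obtain ⟨v, hv, h2v⟩ := two_eq_pow_mul hM ζ t hζ
  intro m
  induction m with
  | zero =>
    intro _ S hS _
    have : S = 0 := by
      rw [← Polynomial.degree_eq_bot]
      have : S.degree < (0 : WithBot ℕ) := by exact_mod_cast hS
      exact Nat.WithBot.lt_zero_iff.mp this
    rw [this]; exact dvd_zero _
  | succ m ih =>
    intro hm S hS ⟨y, hy, hSy⟩
    set q : ℤ[X] := X - C 1 with hq
    have hqm : q.Monic := monic_X_sub_C 1
    set S₁ := S /ₘ q with hS₁
    have hdecomp : C (eval 1 S) + q * S₁ = S := by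
      have := modByMonic_add_div S q
      rw [hq, modByMonic_X_sub_C_eq_C_eval] at this
      exact this
    have haev : aeval ζ S = ((eval 1 S : ℤ) : ℂ) + (ζ - 1) * aeval ζ S₁ := by
      conv_lhs => rw [← hdecomp]
      rw [map_add, map_mul, hq, map_sub, aeval_X, aeval_C]
      simp
    have hS₁lr : MemLocalRing M (aeval ζ S₁) := by
      apply memLocalRing_of_isIntegral hMp
      rw [aeval_def, eval₂_eq_sum_range]
      refine IsIntegral.sum _ fun i _ => ?_
      refine IsIntegral.mul ?_ (hζint.pow i)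
      exact isIntegral_algebraMap
    -- eval 1 S is even
    have hev : MemLocalIdeal M ((eval 1 S : ℤ) : ℂ) := by
      have h1 : ((eval 1 S : ℤ) : ℂ) = (ζ - 1) * ((ζ - 1) ^ m * y) - (ζ - 1) * aeval ζ S₁ := by
        rw [← mul_assoc, ← pow_succ', ← hSy, haev]; ring
      rw [h1]
      exact li_sub hMp (li_mul_right hMp hπli (lr_mul hMp (lr_pow hMp hπlr m) hy))
        (li_mul_right hMp hπli hS₁lr)
    obtain ⟨c, hc⟩ := even_of_intCast_li hM _ hev
    -- degree of S₁
    have hdeg₁ : S₁.degree < (m : WithBot ℕ) := by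
      by_cases hS0 : S = 0
      · rw [hS₁, hS0, zero_divByMonic, degree_zero]
        exact WithBot.bot_lt_coe m
      · have h1 : S₁.degree < S.degree := by
          apply degree_divByMonic_lt S q hS0
          rw [hq, degree_X_sub_C]; exact zero_lt_one
        have h2 : S.degree ≤ (m : WithBot ℕ) := by
          rw [Polynomial.degree_le_iff_coeff_zero]
          intro k hk
          apply Polynomial.coeff_eq_zero_of_degree_lt
          refine lt_of_lt_of_le hS ?_
          have : m < k := by exact_mod_cast hk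
          exact_mod_cast this
        exact lt_of_lt_of_le h1 h2
    -- S₁(ζ) = π^m y'
    have hk : m + 1 + (2 ^ t - (m + 1)) = 2 ^ t := by omega
    have hS₁eq : aeval ζ S₁ = (ζ - 1) ^ m * (y - (ζ - 1) ^ (2 ^ t - (m + 1)) * v * (c : ℂ)) := by
      apply mul_left_cancel₀ hπ0
      have h2c : ((eval 1 S : ℤ) : ℂ) = (ζ - 1) ^ (m + 1) * ((ζ - 1) ^ (2 ^ t - (m + 1)) * v * c) := by
        rw [hc]; push_cast
        rw [← mul_assoc, ← mul_assoc, ← pow_add, hk, ← h2v]
      have h3 : (ζ - 1) * aeval ζ S₁ = (ζ - 1) ^ (m + 1) * y - ((eval 1 S : ℤ) : ℂ) := by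
        rw [← hSy, haev]; ring
      rw [h3, h2c, pow_succ]; ring
    have hdvd := ih (by omega) S₁ hdeg₁
      ⟨_, lr_sub hMp hy (lr_mul hMp (lr_mul hMp (lr_pow hMp hπlr _) hv)
        (memLocalRing_intCast hMp c)), hS₁eq⟩
    obtain ⟨T, hT⟩ := hdvd
    refine ⟨C c + q * T, ?_⟩
    rw [← hdecomp, hc, hT]
    simp only [map_mul, C_ofNat]
    ring

/-- **The `2`-adic lemma.** -/
theorem C_two_pow_dvd (hM : IsPModular 2 M) (ζ : ℂ) (t : ℕ) (hζ : ζ ^ (2 ^ t) = -1) :
    ∀ (h : ℕ) (S : ℤ[X]), S.degree < ((2 ^ t : ℕ) : WithBot ℕ) →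
      (∃ y : ℂ, MemLocalRing M y ∧ aeval ζ S = 2 ^ h * y) → (C (2 ^ h) : ℤ[X]) ∣ S := by
  classical
  have hMp := isPrime_of_isPModular hM
  obtain ⟨v, hv, h2v⟩ := two_eq_pow_mul hM ζ t hζ
  intro h
  induction h with
  | zero =>
    intro S _ _
    simp
  | succ h ih =>
    intro S hS ⟨y, hy, hSy⟩
    have h1 : (C 2 : ℤ[X]) ∣ S := by
      apply C_two_dvd_of_aeval_eq_pow_mul hM ζ t hζ (2 ^ t) le_rfl S hS
      refine ⟨v * (2 ^ h * y), lr_mul hMp hv (lr_mul hMp (lr_pow hMp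
        (by simpa using memLocalRing_natCast hMp 2) h) hy), ?_⟩
      rw [hSy, ← mul_assoc, ← h2v, pow_succ]; ring
    obtain ⟨T, hT⟩ := h1
    have hTdeg : T.degree < ((2 ^ t : ℕ) : WithBot ℕ) := by
      have : S.degree = T.degree := by
        rw [hT, degree_mul, degree_C (by norm_num : (2 : ℤ) ≠ 0), zero_add]
      rw [← this]; exact hS
    have hTy : aeval ζ T = 2 ^ h * y := by
      have h2 : aeval ζ S = 2 * aeval ζ T := by
        rw [hT, map_mul, aeval_C]; simp
      have : (2 : ℂ) * aeval ζ T = 2 * (2 ^ h * y) := by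
        rw [← h2, hSy, pow_succ]; ring
      exact mul_left_cancel₀ two_ne_zero this
    obtain ⟨U, hU⟩ := ih T hTdeg ⟨y, hy, hTy⟩
    refine ⟨U, ?_⟩
    rw [hT, hU, pow_succ, map_mul]
    simp only [C_ofNat]
    ring

/-- The `2`-adic lemma for coefficient functions. -/
theorem two_pow_dvd_coeff (hM : IsPModular 2 M) (ζ : ℂ) (t : ℕ) (hζ : ζ ^ (2 ^ t) = -1)
    (s : ℕ → ℤ) (h : ℕ) (y : ℂ) (hy : MemLocalRing M y)
    (hs : ∑ a ∈ Finset.range (2 ^ t), (s a : ℂ) * ζ ^ a = 2 ^ h * y) :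
    ∀ a < 2 ^ t, (2 : ℤ) ^ h ∣ s a := by
  classical
  set S : ℤ[X] := ∑ a ∈ Finset.range (2 ^ t), C (s a) * X ^ a with hS
  have hcoeff : ∀ k, S.coeff k = if k < 2 ^ t then s k else 0 := by
    intro k
    rw [hS, finset_sum_coeff]
    simp only [coeff_C_mul_X_pow]
    rw [Finset.sum_ite_eq]
    simp only [Finset.mem_range]
  have hdeg : S.degree < ((2 ^ t : ℕ) : WithBot ℕ) := by
    rw [degree_lt_iff_coeff_zero]
    intro k hk
    rw [hcoeff k, if_neg (by omega)]
  have haev : aeval ζ S = ∑ a ∈ Finset.range (2 ^ t), (s a : ℂ) * ζ ^ a := by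
    rw [hS, map_sum]
    refine Finset.sum_congr rfl fun a _ => ?_
    rw [map_mul, aeval_C, map_pow, aeval_X]
    simp
  have hdvd := C_two_pow_dvd hM ζ t hζ h S hdeg ⟨y, hy, by rw [haev, hs]⟩
  intro a ha
  have h1 := (C_dvd_iff_dvd_coeff _ _).mp hdvd a
  rw [hcoeff a, if_pos ha] at h1
  exact h1

end Cfsg.Agent.Helper8.KC
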