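import Mathlib
import Cfsg.Prelude.Def_Blocks
import Cfsg.Agent.Helper23.ContribG

/-!
# Coordinates of `2`-power roots of unity in the power basis of a primitive `2n`-th root
-/

set_option autoImplicit false
set_option linter.unusedSectionVars false
set_option linter.unusedVariables false
set_option linter.unusedSimpArgs false
set_option linter.unnecessarySimpa false
set_option linter.style.haveILetI false

namespace Cfsg.Agent.Helper8.KC

open Cfsg Cfsg.Agent.Helper23.CM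

theorem eps_neg (w : ℂ) : eps (-w) = -eps w := by
  classical
  simp only [eps]
  by_cases h1 : w = 1
  · subst h1
    rw [if_neg (by norm_num), if_pos rfl, if_pos rfl]
  · by_cases h2 : w = -1
    · subst h2
      rw [if_pos (by norm_num), if_neg (by norm_num), if_pos rfl]
      norm_num
    · have h3 : ¬ (-w = 1) := fun h => h2 (by linear_combination -h)
      have h4 : ¬ (-w = -1) := fun h => h1 (by linear_combination -h)
      rw [if_neg h3, if_neg h4, if_neg h1, if_neg h2, neg_zero]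

variable {ζ : ℂ} {n : ℕ}

/-- The coordinate of `μ` at `ζ^a`. -/
noncomputable def kap (ζ μ : ℂ) (a : ℕ) : ℤ := eps (μ * (starRingEnd ℂ) (ζ ^ a))

theorem kap_zero (ζ μ : ℂ) : kap ζ μ 0 = eps μ := by
  simp [kap]

theorem pow_half_eq_neg_one (hn : 0 < n) (hζ : IsPrimitiveRoot ζ (2 * n)) : ζ ^ n = -1 := by
  have h1 : (ζ ^ n) ^ 2 = 1 := by rw [← pow_mul, mul_comm, hζ.pow_eq_one]
  have h2 : ζ ^ n ≠ 1 := by
    intro h
    have := (hζ.pow_eq_one_iff_dvd n).mp h
    have := Nat.le_of_dvd hn this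
    omega
  have h3 : (ζ ^ n - 1) * (ζ ^ n + 1) = 0 := by linear_combination h1
  rcases mul_eq_zero.mp h3 with h | h
  · exact absurd (by linear_combination h) h2
  · linear_combination h

theorem conj_zeta_pow (hn : 0 < n) (hζ : IsPrimitiveRoot ζ (2 * n)) (a : ℕ) :
    ζ ^ a * (starRingEnd ℂ) (ζ ^ a) = 1 := by
  have h1 : ‖ζ ^ a‖ = 1 := by
    apply Complex.norm_eq_one_of_pow_eq_one (n := 2 * n)
    · rw [← pow_mul, mul_comm, pow_mul, hζ.pow_eq_one, one_pow]
    · omega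
  rw [← Complex.inv_eq_conj h1]
  apply mul_inv_cancel₀
  intro h0
  rw [h0, norm_zero] at h1
  exact zero_ne_one h1

/-- `ε(ζ^a conj ζ^b) = δ_{ab}` for `a, b < n`. -/
theorem eps_pow_conj_pow (hn : 0 < n) (hζ : IsPrimitiveRoot ζ (2 * n)) {a b : ℕ} (ha : a < n)
    (hb : b < n) : eps (ζ ^ a * (starRingEnd ℂ) (ζ ^ b)) = if a = b then 1 else 0 := by
  classical
  have hb1 := conj_zeta_pow hn hζ b
  have hb0 : ζ ^ b ≠ 0 := by
    intro h0; rw [h0, zero_mul] at hb1; exact zero_ne_one hb1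
  by_cases hab : a = b
  · subst hab
    rw [if_pos rfl, conj_zeta_pow hn hζ a, eps_one]
  · rw [if_neg hab]
    simp only [eps]
    have h1 : ¬ (ζ ^ a * (starRingEnd ℂ) (ζ ^ b) = 1) := by
      intro h
      apply hab
      apply hζ.pow_inj (by omega) (by omega)
      have : ζ ^ a * (starRingEnd ℂ) (ζ ^ b) * ζ ^ b = ζ ^ b := by rw [h, one_mul]
      rw [mul_assoc, mul_comm ((starRingEnd ℂ) (ζ ^ b)), hb1, mul_one] at this
      exact this
    have h2 : ¬ (ζ ^ a * (starRingEnd ℂ) (ζ ^ b) = -1) := by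
      intro h
      have h3 : ζ ^ a = ζ ^ (b + n) := by
        have : ζ ^ a * (starRingEnd ℂ) (ζ ^ b) * ζ ^ b = -ζ ^ b := by rw [h, neg_one_mul]
        rw [mul_assoc, mul_comm ((starRingEnd ℂ) (ζ ^ b)), hb1, mul_one] at this
        rw [this, pow_add, pow_half_eq_neg_one hn hζ]; ring
      have := hζ.pow_inj (by omega) (by omega) h3
      omega
    rw [if_neg h1, if_neg h2]

/-- Normal form of a `2n`-th root of unity. -/
theorem exists_rep (hn : 0 < n) (hζ : IsPrimitiveRoot ζ (2 * n)) (μ : ℂ) (hμ : μ ^ (2 * n) = 1) :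
    ∃ a₀ < n, ∃ ε : ℤ, (ε = 1 ∨ ε = -1) ∧ μ = (ε : ℂ) * ζ ^ a₀ ∧
      ∀ a < n, kap ζ μ a = if a₀ = a then ε else 0 := by
  classical
  haveI : NeZero (2 * n) := ⟨by omega⟩
  obtain ⟨i, hi, hiμ⟩ := hζ.eq_pow_of_pow_eq_one hμ
  by_cases hin : i < n
  · refine ⟨i, hin, 1, Or.inl rfl, by rw [← hiμ]; simp, ?_⟩
    intro a ha
    rw [kap, ← hiμ, eps_pow_conj_pow hn hζ hin ha]
  · refine ⟨i - n, by omega, -1, Or.inr rfl, ?_, ?_⟩
    · rw [← hiμ]
      have : i = (i - n) + n := by omega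
      conv_lhs => rw [this, pow_add, pow_half_eq_neg_one hn hζ]
      push_cast; ring
    · intro a ha
      have h1 : μ = -(ζ ^ (i - n)) := by
        rw [← hiμ]
        have : i = (i - n) + n := by omega
        conv_lhs => rw [this, pow_add, pow_half_eq_neg_one hn hζ]
        ring
      rw [kap, h1, neg_mul, eps_neg, eps_pow_conj_pow hn hζ (by omega) ha]
      split_ifs <;> simp

/-- Powers of `μ` in the power basis. -/
theorem pow_eq_sum_kap (hn : 0 < n) (hζ : IsPrimitiveRoot ζ (2 * n)) (μ : ℂ)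
    (hμ : μ ^ (2 * n) = 1) (k : ℕ) (hk : Odd k ∨ μ = 1) :
    μ ^ k = ∑ a ∈ Finset.range n, (kap ζ μ a : ℂ) * ζ ^ (a * k) := by
  classical
  obtain ⟨a₀, ha₀, ε, hε, hμε, hkap⟩ := exists_rep hn hζ μ hμ
  have h1 : ∑ a ∈ Finset.range n, (kap ζ μ a : ℂ) * ζ ^ (a * k) =
      ∑ a ∈ Finset.range n, if a₀ = a then (ε : ℂ) * ζ ^ (a₀ * k) else 0 := by
    refine Finset.sum_congr rfl fun a ha => ?_
    rw [hkap a (Finset.mem_range.mp ha)]
    split_ifs with h
    · rw [h]
    · simp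
  rw [h1, Finset.sum_ite_eq, if_pos (Finset.mem_range.mpr ha₀)]
  rcases hk with hk | hk
  · rw [hμε, mul_pow, ← pow_mul]
    congr 1
    rcases hε with h | h
    · rw [h]; simp
    · rw [h]; push_cast; exact hk.neg_one_pow
  · -- μ = 1
    have h2 : ε = 1 ∧ a₀ = 0 := by
      rcases hε with h | h
      · refine ⟨h, ?_⟩
        rw [hk, h] at hμε
        have : ζ ^ a₀ = ζ ^ 0 := by rw [pow_zero]; push_cast at hμε; rw [one_mul] at hμε; exact hμε.symm
        exact hζ.pow_inj (by omega) (by omega) this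
      · exfalso
        rw [hk, h] at hμε
        have : ζ ^ a₀ = ζ ^ n := by
          rw [pow_half_eq_neg_one hn hζ]
          push_cast at hμε
          linear_combination hμε
        have := hζ.pow_inj (by omega) (by omega) this
        omega
    rw [hk, h2.1, h2.2]; simp

/-- `ε(μ conj μ') = ∑_a κ(μ,a) κ(μ',a)`. -/
theorem eps_mul_conj_eq_sum (hn : 0 < n) (hζ : IsPrimitiveRoot ζ (2 * n)) (μ μ' : ℂ)
    (hμ : μ ^ (2 * n) = 1) (hμ' : μ' ^ (2 * n) = 1) :
    eps (μ * (starRingEnd ℂ) μ') = ∑ a ∈ Finset.range n, kap ζ μ a * kap ζ μ' a := by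
  classical
  obtain ⟨a₀, ha₀, ε, hε, hμε, hkap⟩ := exists_rep hn hζ μ hμ
  obtain ⟨a₁, ha₁, ε', hε', hμε', hkap'⟩ := exists_rep hn hζ μ' hμ'
  have h1 : ∑ a ∈ Finset.range n, kap ζ μ a * kap ζ μ' a =
      ∑ a ∈ Finset.range n, if a₀ = a then (if a₁ = a₀ then ε * ε' else 0) else 0 := by
    refine Finset.sum_congr rfl fun a ha => ?_
    rw [hkap a (Finset.mem_range.mp ha), hkap' a (Finset.mem_range.mp ha)]
    by_cases h : a₀ = a
    · subst h
      rw [if_pos rfl, if_pos rfl]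
      split_ifs <;> simp
    · rw [if_neg h, if_neg h, zero_mul]
  rw [h1, Finset.sum_ite_eq, if_pos (Finset.mem_range.mpr ha₀)]
  have h2 : μ * (starRingEnd ℂ) μ' =
      ((ε * ε' : ℤ) : ℂ) * (ζ ^ a₀ * (starRingEnd ℂ) (ζ ^ a₁)) := by
    rw [hμε, hμε', map_mul, map_intCast]
    push_cast; ring
  rw [h2]
  have h3 : eps (ζ ^ a₀ * (starRingEnd ℂ) (ζ ^ a₁)) = if a₀ = a₁ then 1 else 0 :=
    eps_pow_conj_pow hn hζ ha₀ ha₁
  have hcases : ε * ε' = 1 ∨ ε * ε' = -1 := by
    rcases hε with h | h <;> rcases hε' with h' | h' <;> rw [h, h'] <;> simp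
  rcases hcases with h | h
  · rw [h]
    push_cast
    rw [one_mul, h3]
    by_cases hab : a₀ = a₁
    · rw [if_pos hab, if_pos hab.symm]
    · rw [if_neg hab, if_neg (fun h' => hab h'.symm)]
  · rw [h]
    push_cast
    rw [neg_one_mul, eps_neg, h3]
    by_cases hab : a₀ = a₁
    · rw [if_pos hab, if_pos hab.symm]
    · rw [if_neg hab, if_neg (fun h' => hab h'.symm), neg_zero]

/-- Antisymmetry under complex conjugation. -/
theorem kap_conj (hn : 0 < n) (hζ : IsPrimitiveRoot ζ (2 * n)) (μ : ℂ)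
    (hμ : μ ^ (2 * n) = 1) {a : ℕ} (ha0 : 0 < a) (ha : a < n) :
    kap ζ ((starRingEnd ℂ) μ) a = -kap ζ μ (n - a) := by
  classical
  have h1 : (starRingEnd ℂ) μ * (starRingEnd ℂ) (ζ ^ a) =
      (starRingEnd ℂ) (-(μ * (starRingEnd ℂ) (ζ ^ (n - a)))) := by
    have h2 : ζ ^ a * ζ ^ (n - a) = -1 := by
      rw [← pow_add, Nat.add_sub_cancel' ha.le, pow_half_eq_neg_one hn hζ]
    have h3 := conj_zeta_pow hn hζ (n - a)
    have h4 : ζ ^ a = -(starRingEnd ℂ) (ζ ^ (n - a)) := by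
      have : ζ ^ a * (ζ ^ (n - a) * (starRingEnd ℂ) (ζ ^ (n - a))) =
          -(starRingEnd ℂ) (ζ ^ (n - a)) := by
        rw [← mul_assoc, h2]; ring
      rw [h3, mul_one] at this
      exact this
    rw [map_neg, map_mul, Complex.conj_conj, h4, map_neg, Complex.conj_conj]
    ring
  rw [kap, h1, eps_conj, eps_neg, kap]

end Cfsg.Agent.Helper8.KC
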