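import Mathlib
import Cfsg.Prelude.Def_Blocks
import Cfsg.Agent.Helper8.KC2

/-!
# Integer combinations of `2`-power roots of unity: coefficients and Galois averages
-/

set_option autoImplicit false
set_option linter.unusedSectionVars false
set_option linter.unusedVariables false
set_option linter.unusedSimpArgs false
set_option linter.unnecessarySimpa false
set_option linter.style.haveILetI false

namespace Cfsg.Agent.Helper8.KC

open Cfsg Cfsg.Agent.Helper23 Cfsg.Agent.Helper23.CM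

variable {ζ : ℂ} {n : ℕ} {ι ι' : Type*} [Fintype ι] [Fintype ι']

/-- The coefficient at `ζ^a` of `∑ c_i μ_i`. -/
noncomputable def coef (ζ : ℂ) (c : ι → ℤ) (μ : ι → ℂ) (a : ℕ) : ℤ :=
  ∑ i, c i * kap ζ (μ i) a

theorem coef_zero (ζ : ℂ) (c : ι → ℤ) (μ : ι → ℂ) : coef ζ c μ 0 = ∑ i, c i * eps (μ i) := by
  simp only [coef, kap_zero]

/-- (T1) -/
theorem sum_pow_eq_sum_coef (hn : 0 < n) (hζ : IsPrimitiveRoot ζ (2 * n)) (c : ι → ℤ)
    (μ : ι → ℂ) (hμ : ∀ i, μ i ^ (2 * n) = 1) (k : ℕ) (hk : Odd k ∨ ∀ i, μ i = 1) :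
    ∑ i, (c i : ℂ) * μ i ^ k = ∑ a ∈ Finset.range n, (coef ζ c μ a : ℂ) * ζ ^ (a * k) := by
  classical
  have h1 : ∀ i, (c i : ℂ) * μ i ^ k =
      ∑ a ∈ Finset.range n, ((c i * kap ζ (μ i) a : ℤ) : ℂ) * ζ ^ (a * k) := by
    intro i
    rw [pow_eq_sum_kap hn hζ (μ i) (hμ i) k (hk.imp id (fun h => h i)), Finset.mul_sum]
    refine Finset.sum_congr rfl fun a _ => ?_
    push_cast; ring
  rw [Finset.sum_congr rfl (fun i _ => h1 i), Finset.sum_comm]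
  refine Finset.sum_congr rfl fun a _ => ?_
  simp only [coef]
  push_cast
  rw [Finset.sum_mul]

/-- (T3) -/
theorem sum_sum_eps_eq (hn : 0 < n) (hζ : IsPrimitiveRoot ζ (2 * n)) (c : ι → ℤ)
    (μ : ι → ℂ) (hμ : ∀ i, μ i ^ (2 * n) = 1) (c' : ι' → ℤ) (μ' : ι' → ℂ)
    (hμ' : ∀ i, μ' i ^ (2 * n) = 1) :
    ∑ i, ∑ i', c i * c' i' * eps (μ i * (starRingEnd ℂ) (μ' i')) =
      ∑ a ∈ Finset.range n, coef ζ c μ a * coef ζ c' μ' a := by
  classical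
  simp only [coef]
  have h1 : ∀ a : ℕ, (∑ i, c i * kap ζ (μ i) a) * (∑ i', c' i' * kap ζ (μ' i') a) =
      ∑ i, ∑ i', (c i * kap ζ (μ i) a) * (c' i' * kap ζ (μ' i') a) :=
    fun a => Finset.sum_mul_sum _ _ _ _
  have h0 : ∀ i i', c i * c' i' * eps (μ i * (starRingEnd ℂ) (μ' i')) =
      ∑ a ∈ Finset.range n, (c i * kap ζ (μ i) a) * (c' i' * kap ζ (μ' i') a) := by
    intro i i'
    rw [eps_mul_conj_eq_sum hn hζ (μ i) (μ' i') (hμ i) (hμ' i'), Finset.mul_sum]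
    refine Finset.sum_congr rfl fun a _ => ?_
    ring
  have h2 : ∀ i, ∑ i', c i * c' i' * eps (μ i * (starRingEnd ℂ) (μ' i')) =
      ∑ a ∈ Finset.range n, ∑ i', (c i * kap ζ (μ i) a) * (c' i' * kap ζ (μ' i') a) := by
    intro i
    rw [Finset.sum_congr rfl (fun i' _ => h0 i i'), Finset.sum_comm]
  rw [Finset.sum_congr rfl (fun i _ => h2 i), Finset.sum_comm]
  exact Finset.sum_congr rfl fun a _ => (h1 a).symm

section Galois

variable (N : ℕ) (hN : 0 < N) [FiniteDimensional ℚ (cyclo N)]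

/-- (G1) -/
theorem sum_sigma_sum_pow (j : ℕ) (hjN : 2 ^ j ∣ N) (c : ι → ℤ) (μ : ι → ℂ)
    (hμj : ∀ i, μ i ^ (2 ^ j) = 1) :
    ∑ σ : cyclo N →ₐ[ℚ] ℂ, ∑ i, (c i : ℂ) * μ i ^ kexp N hN σ =
      (Fintype.card (cyclo N →ₐ[ℚ] ℂ) : ℂ) * ((coef ζ c μ 0 : ℤ) : ℂ) := by
  classical
  rw [Finset.sum_comm, coef_zero]
  push_cast
  rw [Finset.mul_sum]
  refine Finset.sum_congr rfl fun i _ => ?_
  rw [← Finset.mul_sum, sum_pow_kexp N hN (μ i) j (hμj i) hjN]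
  ring

/-- (G2) -/
theorem sum_sigma_mul_conj (hn : 0 < n) (hζ : IsPrimitiveRoot ζ (2 * n)) (j : ℕ)
    (hjN : 2 ^ j ∣ N) (hjn : 2 ^ j ∣ 2 * n) (c : ι → ℤ) (μ : ι → ℂ)
    (hμj : ∀ i, μ i ^ (2 ^ j) = 1) (c' : ι' → ℤ) (μ' : ι' → ℂ)
    (hμj' : ∀ i, μ' i ^ (2 ^ j) = 1) :
    ∑ σ : cyclo N →ₐ[ℚ] ℂ, (∑ i, (c i : ℂ) * μ i ^ kexp N hN σ) *
        (starRingEnd ℂ) (∑ i', (c' i' : ℂ) * μ' i' ^ kexp N hN σ) =
      (Fintype.card (cyclo N →ₐ[ℚ] ℂ) : ℂ) *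
        ((∑ a ∈ Finset.range n, coef ζ c μ a * coef ζ c' μ' a : ℤ) : ℂ) := by
  classical
  have hμ : ∀ i, μ i ^ (2 * n) = 1 := by
    intro i
    obtain ⟨r, hr⟩ := hjn
    rw [hr, pow_mul, hμj i, one_pow]
  have hμ' : ∀ i, μ' i ^ (2 * n) = 1 := by
    intro i
    obtain ⟨r, hr⟩ := hjn
    rw [hr, pow_mul, hμj' i, one_pow]
  rw [← sum_sum_eps_eq hn hζ c μ hμ c' μ' hμ']
  have h1 : ∀ σ : cyclo N →ₐ[ℚ] ℂ, (∑ i, (c i : ℂ) * μ i ^ kexp N hN σ) *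
        (starRingEnd ℂ) (∑ i', (c' i' : ℂ) * μ' i' ^ kexp N hN σ) =
      ∑ i, ∑ i', ((c i * c' i' : ℤ) : ℂ) *
        (μ i * (starRingEnd ℂ) (μ' i')) ^ kexp N hN σ := by
    intro σ
    rw [map_sum, Finset.sum_mul_sum]
    refine Finset.sum_congr rfl fun i _ => ?_
    refine Finset.sum_congr rfl fun i' _ => ?_
    rw [map_mul, map_intCast, map_pow, mul_pow]
    push_cast; ring
  rw [Finset.sum_congr rfl (fun σ _ => h1 σ), Finset.sum_comm]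
  push_cast
  rw [Finset.mul_sum]
  refine Finset.sum_congr rfl fun i _ => ?_
  rw [Finset.sum_comm, Finset.mul_sum]
  refine Finset.sum_congr rfl fun i' _ => ?_
  rw [← Finset.mul_sum]
  have h2 : (μ i * (starRingEnd ℂ) (μ' i')) ^ (2 ^ j) = 1 := by
    rw [mul_pow, ← map_pow, hμj i, hμj' i', map_one, mul_one]
  rw [sum_pow_kexp N hN _ j h2 hjN]
  push_cast; ring

end Galois

end Cfsg.Agent.Helper8.KC
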