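import Mathlib
import Cfsg.Prelude.Def_Blocks
import Cfsg.Prelude.Def_BlockRank
import Cfsg.Agent.Helper8.KB2
import Cfsg.Agent.Helper8.KC3

/-!
# Contributions as columns of integral weights; valuations of the contributions
-/

set_option autoImplicit false
set_option linter.unusedSectionVars false
set_option linter.unusedVariables false
set_option linter.unusedSimpArgs false
set_option linter.unnecessarySimpa false
set_option linter.style.haveILetI false

namespace Cfsg.Agent.Helper8.KC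

open Cfsg Cfsg.Agent.Helper24 Cfsg.Agent.Helper5 Cfsg.Agent.Helper5.CC Cfsg.Agent.Helper5.Loc
open Cfsg.Agent.Helper8.SecCore Cfsg.Agent.Helper23.SubTr Cfsg.Agent.Helper23.CM
open Cfsg.Agent.Helper8.HZI Cfsg.Agent.Helper8.IndHt Cfsg.Agent.Helper23 Cfsg.Agent.Helper8.KB

variable {G : Type*} [Group G] [Fintype G] {M : Ideal AlgInt}

/-- The integer coefficient family of `2^d m_{χχ'}`. -/
def cc {J : Type*} (e : Set J) [DecidablePred (· ∈ e)] (n n' : J → ℕ) (g : J → J → ℤ)
    (q : J × J) : ℤ :=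
  if q.1 ∈ e ∧ q.2 ∈ e then (n q.1 : ℤ) * (n' q.2 : ℤ) * g q.1 q.2 else 0

/-- The roots of unity of `2^d m_{χχ'}`. -/
noncomputable def mu {J : Type*} (lam : J → ℂ) (q : J × J) : ℂ :=
  lam q.1 * (starRingEnd ℂ) (lam q.2)

theorem mu_pow {J : Type*} (lam : J → ℂ) (m : ℕ) (hlam : ∀ θ, lam θ ^ m = 1) (q : J × J) :
    mu lam q ^ m = 1 := by
  rw [mu, mul_pow, ← map_pow, hlam, hlam, map_one, mul_one]

/-- `2^d m^{x^k}_{χχ'}` as an integer combination of roots of unity. -/
theorem pow_contrib_eq_sum [Fintype (IrrCharacter G)] (hM : IsPModular 2 M) (x : G)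
    (C : Subgroup G) [Fintype C] [Fintype (IrrCharacter C)]
    (hcomm : ∀ c : C, x * (c : G) = (c : G) * x)
    (e : Set (IrrCharacter C)) [DecidablePred (· ∈ e)] (he : IsPBlock M e)
    (χ χ' : IrrCharacter G)
    (lam : IrrCharacter C → ℂ) (n n' : IrrCharacter C → ℕ)
    (hlam : ∀ θ k, acoef (x ^ k) C χ θ = lam θ ^ k * (n θ : ℂ))
    (hlam' : ∀ θ k, acoef (x ^ k) C χ' θ = lam θ ^ k * (n' θ : ℂ))
    (g : IrrCharacter C → IrrCharacter C → ℤ)
    (hg : ∀ θ θ', θ' ∈ e → (2 : ℂ) ^ (blockDefect 2 e) * gram 2 θ θ' = g θ θ') (k : ℕ) :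
    (2 : ℂ) ^ (blockDefect 2 e) * contrib 2 (x ^ k) C e χ χ' =
      ∑ q : IrrCharacter C × IrrCharacter C, (cc e n n' g q : ℂ) * mu lam q ^ k := by
  classical
  haveI : Fact (Nat.Prime 2) := ⟨Nat.prime_two⟩
  rw [contrib_eq_sum_gram hM (x ^ k) C (comm_pow hcomm k) e he χ χ', Finset.mul_sum,
    Fintype.sum_prod_type]
  refine Finset.sum_congr rfl fun θ _ => ?_
  rw [Finset.mul_sum]
  refine Finset.sum_congr rfl fun θ' _ => ?_
  simp only [cc, mu]
  by_cases h : θ ∈ e ∧ θ' ∈ e
  swap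
  · rw [if_neg h, if_neg h, mul_zero]; simp
  rw [if_pos h, if_pos h, hlam θ k, hlam' θ' k]
  push_cast
  rw [← hg θ θ' h.2]
  simp only [map_mul, map_pow, Complex.conj_natCast, mul_pow]
  ring

/-- The integral weights whose column is the contribution column of `χ'`. -/
noncomputable def wgt (x : G) (C : Subgroup G) [Fintype C] (e : Set (IrrCharacter C))
    [DecidablePred (· ∈ e)] (χ' : IrrCharacter G) (θ : IrrCharacter C) : ℂ :=
  if θ ∈ e then (starRingEnd ℂ) (acoef x C χ' θ) else 0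

theorem col_wgt [Fintype (IrrCharacter G)] {p : ℕ} [hp : Fact p.Prime] (hM : IsPModular p M)
    (x : G) (C : Subgroup G) [Fintype C] [Fintype (IrrCharacter C)]
    (hcomm : ∀ c : C, x * (c : G) = (c : G) * x)
    (e : Set (IrrCharacter C)) [DecidablePred (· ∈ e)] (he : IsPBlock M e)
    (χ χ' : IrrCharacter G) :
    col p x C (wgt x C e χ') χ = contrib p x C e χ χ' := by
  rw [← contrib_conj p x C e χ' χ, contrib_eq_sum_acoef hM x C hcomm e he χ' χ, map_sum]
  simp only [col, wgt]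
  refine Finset.sum_congr rfl fun θ _ => ?_
  split_ifs
  · rw [map_mul, Complex.conj_conj]
  · rw [zero_mul, map_zero]

theorem lr_sum_wgt (hMp : M.IsPrime) (x : G) (C : Subgroup G) [Fintype C]
    [Fintype (IrrCharacter C)] (hxC : x ∈ C) (hcomm : ∀ c : C, x * (c : G) = (c : G) * x)
    (e : Set (IrrCharacter C)) [DecidablePred (· ∈ e)] (χ' : IrrCharacter G) (c₀ : C) :
    MemLocalRing M (∑ θ : IrrCharacter C, wgt x C e χ' θ * (starRingEnd ℂ) ((θ : C → ℂ) c₀)) := by
  haveI : Finite C := Finite.of_fintype C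
  apply memLocalRing_of_isIntegral hMp
  refine IsIntegral.sum _ fun θ _ => ?_
  refine IsIntegral.mul ?_ ((irr_isIntegral θ c₀).map (starRingEnd ℂ).toIntAlgHom)
  rw [wgt]
  split_ifs
  · exact (isIntegral_acoef x C hxC hcomm χ' θ).map (starRingEnd ℂ).toIntAlgHom
  · exact isIntegral_zero

/-- The central character value attached to the contribution column. -/
noncomputable def omg (p : ℕ) (x : G) (C : Subgroup G) [Fintype C] [Fintype (IrrCharacter C)]
    (e : Set (IrrCharacter C)) [DecidablePred (· ∈ e)] (χ χ' : IrrCharacter G) : ℂ :=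
  (Nat.card G : ℂ) * contrib p x C e χ χ' / (χ : G → ℂ) 1

theorem lr_omg [Fintype (IrrCharacter G)] {p : ℕ} [hp : Fact p.Prime] (hM : IsPModular p M)
    (x : G) (hx : ∃ k : ℕ, orderOf x = p ^ k)
    (C : Subgroup G) [Fintype C] [Fintype (IrrCharacter C)] (hxC : x ∈ C)
    (hcomm : ∀ c : C, x * (c : G) = (c : G) * x)
    (hcent : Subgroup.centralizer ({x} : Set G) ≤ C)
    (e : Set (IrrCharacter C)) [DecidablePred (· ∈ e)] (he : IsPBlock M e)
    (χ χ' : IrrCharacter G) : MemLocalRing M (omg p x C e χ χ') := by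
  have hMp := isPrime_of_isPModular hM
  have h1 := act_lr hMp (isClassFunction_colFun p x C (wgt x C e χ'))
    (lr_colFun hMp x hx C hcomm hcent (wgt x C e χ')
      (fun c₀ _ => lr_sum_wgt hMp x C hxC hcomm e χ' c₀)) χ
  rw [act_colFun, col_wgt hM x C hcomm e he χ χ'] at h1
  exact h1

theorem omg_sub_li [Fintype (IrrCharacter G)] {p : ℕ} [hp : Fact p.Prime] (hM : IsPModular p M)
    (x : G) (hx : ∃ k : ℕ, orderOf x = p ^ k)
    (C : Subgroup G) [Fintype C] [Fintype (IrrCharacter C)] (hxC : x ∈ C)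
    (hcomm : ∀ c : C, x * (c : G) = (c : G) * x)
    (hcent : Subgroup.centralizer ({x} : Set G) ≤ C)
    (e : Set (IrrCharacter C)) [DecidablePred (· ∈ e)] (he : IsPBlock M e)
    {B : Set (IrrCharacter G)} (hB : IsPBlock M B) (χ ψ χ' : IrrCharacter G) (hχ : χ ∈ B)
    (hψ : ψ ∈ B) : MemLocalIdeal M (omg p x C e χ χ' - omg p x C e ψ χ') := by
  have hMp := isPrime_of_isPModular hM
  have h1 := act_sub_act_memLocalIdeal hMp (isClassFunction_colFun p x C (wgt x C e χ'))
    (lr_colFun hMp x hx C hcomm hcent (wgt x C e χ')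
      (fun c₀ _ => lr_sum_wgt hMp x C hxC hcomm e χ' c₀)) (sameBlock_of_mem hMp hB hχ hψ)
  rw [act_colFun, act_colFun, col_wgt hM x C hcomm e he χ χ',
    col_wgt hM x C hcomm e he ψ χ'] at h1
  exact h1

/-- `2^d m_{χχ'} = 2^{h(χ)} y` with `y` local, and `y` is in the local ideal iff `ω_χ` is. -/
theorem exists_val [Fintype (IrrCharacter G)] {p : ℕ} [hp : Fact p.Prime] (hM : IsPModular p M)
    (x : G) (hx : ∃ k : ℕ, orderOf x = p ^ k)
    (C : Subgroup G) [Fintype C] [Fintype (IrrCharacter C)] (hxC : x ∈ C)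
    (hcomm : ∀ c : C, x * (c : G) = (c : G) * x)
    (hcent : Subgroup.centralizer ({x} : Set G) ≤ C)
    (e : Set (IrrCharacter C)) [DecidablePred (· ∈ e)] (he : IsPBlock M e)
    {B : Set (IrrCharacter G)} (hB : IsPBlock M B) (hdef : blockDefect p e = blockDefect p B)
    (χ χ' : IrrCharacter G) (hχ : χ ∈ B) :
    ∃ y : ℂ, MemLocalRing M y ∧
      (p : ℂ) ^ blockDefect p e * contrib p x C e χ χ' =
        (p : ℂ) ^ blockHeight p B (χ : G → ℂ) * y ∧
      (MemLocalIdeal M y ↔ MemLocalIdeal M (omg p x C e χ χ')) := by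
  classical
  haveI : Finite G := Finite.of_fintype G
  have hMp := isPrime_of_isPModular hM
  have hω := lr_omg hM x hx C hxC hcomm hcent e he χ χ'
  set ω := omg p x C e χ χ' with hωdef
  set mv := minVal p B with hmv
  set a := (Nat.card G).factorization p with ha
  set h := blockHeight p B (χ : G → ℂ) with hh
  have hmvχ : mv ≤ (irrDeg χ).factorization p := minVal_le p hχ
  have hχa : (irrDeg χ).factorization p ≤ a := factorization_irrDeg_le_card p χ
  have hd : blockDefect p B = a - mv := blockDefect_eq p B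
  have hhe : h = (irrDeg χ).factorization p - mv := blockHeight_eq p B χ
  have hp0 : (p : ℂ) ≠ 0 := by exact_mod_cast hp.out.pos.ne'
  have hNG : (Nat.card G : ℂ) = (p : ℂ) ^ a * (mm G p : ℂ) := by
    have := Nat.ordProj_mul_ordCompl_eq_self (Nat.card G) p
    rw [← ha] at this
    have h2 : (Nat.card G : ℂ) = ((p ^ a * mm G p : ℕ) : ℂ) := by
      congr 1; exact this.symm
    rw [h2]; push_cast; ring
  -- the degree
  set u := irrDeg χ / p ^ (irrDeg χ).factorization p with hu
  have hudeg : irrDeg χ = p ^ (irrDeg χ).factorization p * u :=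
    (Nat.ordProj_mul_ordCompl_eq_self (irrDeg χ) p).symm
  have hunot : ¬ p ∣ u := Nat.not_dvd_ordCompl hp.out (irrDeg_pos χ).ne'
  have hχ1 : (χ : G → ℂ) 1 = (p : ℂ) ^ (mv + h) * (u : ℂ) := by
    rw [irrDeg_spec]
    have : mv + h = (irrDeg χ).factorization p := by omega
    rw [this]
    exact_mod_cast hudeg
  have hmm0 : (mm G p : ℂ) ≠ 0 := by
    have : mm G p ≠ 0 := fun h0 => (not_dvd_mm (G := G) p) (h0 ▸ dvd_zero p)
    exact_mod_cast this
  have hu0 : (u : ℂ) ≠ 0 := by
    have : u ≠ 0 := fun h0 => hunot (h0 ▸ dvd_zero p)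
    exact_mod_cast this
  have hmmlr : MemLocalRing M ((mm G p : ℂ)⁻¹) :=
    memLocalRing_inv_natCast hM (not_dvd_mm (G := G) p)
  refine ⟨(u : ℂ) * ω * (mm G p : ℂ)⁻¹,
    lr_mul hMp (lr_mul hMp (memLocalRing_natCast hMp u) hω) hmmlr, ?_, ?_⟩
  · have hpa : (p : ℂ) ^ a = (p : ℂ) ^ blockDefect p e * (p : ℂ) ^ mv := by
      rw [hdef, hd, ← pow_add, Nat.sub_add_cancel (hmvχ.trans hχa)]
    rw [hωdef, omg, hNG, hχ1, hpa, pow_add]
    have h1 := pow_ne_zero mv hp0
    have h2 := pow_ne_zero h hp0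
    field_simp
  · constructor
    · intro hy
      have h1 : MemLocalIdeal M ((u : ℂ) * ω) := by
        have := li_mul_right hMp hy (memLocalRing_natCast hMp (mm G p))
        rwa [mul_assoc, inv_mul_cancel₀ hmm0, mul_one] at this
      rcases li_of_mul hMp (memLocalRing_natCast hMp u) hω h1 with h2 | h2
      · exact absurd ((memLocalIdeal_natCast_iff hM u).mp h2) hunot
      · exact h2
    · intro hy
      exact li_mul_right hMp (li_mul_left hMp (memLocalRing_natCast hMp u) hy) hmmlr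

end Cfsg.Agent.Helper8.KC
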