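import Mathlib
import Cfsg.Prelude.Def_Blocks
import Cfsg.Prelude.Def_BlockRank
import Cfsg.Agent.Helper8.KC1
import Cfsg.Agent.Helper8.KC4

/-!
# Integer coordinates of the contributions of a `2`-subsection
-/

set_option autoImplicit false
set_option linter.unusedSectionVars false
set_option linter.unusedVariables false
set_option linter.unusedSimpArgs false
set_option linter.unnecessarySimpa false
set_option linter.style.haveILetI false

namespace Cfsg.Agent.Helper8.KC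

open Cfsg Cfsg.Agent.Helper24 Cfsg.Agent.Helper5 Cfsg.Agent.Helper5.CC Cfsg.Agent.Helper5.Loc
open Cfsg.Agent.Helper8.SecCore Cfsg.Agent.Helper23.SubTr Cfsg.Agent.Helper23.CM
open Cfsg.Agent.Helper8.HZI Cfsg.Agent.Helper8.IndHt Cfsg.Agent.Helper23 Cfsg.Agent.Helper8.KB

variable {G : Type*} [Group G] [Fintype G] {M : Ideal AlgInt}

/-- Antisymmetry of the coefficients of a real combination. -/
theorem coef_antisymm {J : Type*} [Fintype J] {ζ : ℂ} {n : ℕ} (hn : 0 < n)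
    (hζ : IsPrimitiveRoot ζ (2 * n)) (e : Set J) [DecidablePred (· ∈ e)] (nn : J → ℕ)
    (g : J → J → ℤ) (hgs : ∀ θ θ', θ ∈ e → θ' ∈ e → g θ θ' = g θ' θ) (lam : J → ℂ)
    (hlam : ∀ θ, lam θ ^ (2 * n) = 1) {a : ℕ} (ha0 : 0 < a) (ha : a < n) :
    coef ζ (cc e nn nn g) (mu lam) a = -coef ζ (cc e nn nn g) (mu lam) (n - a) := by
  classical
  simp only [coef]
  rw [← Finset.sum_neg_distrib]
  refine Fintype.sum_equiv (Equiv.prodComm J J) _ _ fun q => ?_
  obtain ⟨θ, θ'⟩ := q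
  have h0 : Equiv.prodComm J J (θ, θ') = (θ', θ) := rfl
  rw [h0]
  have h1 : cc e nn nn g (θ', θ) = cc e nn nn g (θ, θ') := by
    show (if θ' ∈ e ∧ θ ∈ e then (nn θ' : ℤ) * (nn θ : ℤ) * g θ' θ else 0) =
      if θ ∈ e ∧ θ' ∈ e then (nn θ : ℤ) * (nn θ' : ℤ) * g θ θ' else 0
    by_cases h : θ ∈ e ∧ θ' ∈ e
    · rw [if_pos h, if_pos ⟨h.2, h.1⟩, hgs θ' θ h.2 h.1]; ring
    · rw [if_neg h, if_neg (fun h' => h ⟨h'.2, h'.1⟩)]
  have h2 : (starRingEnd ℂ) (mu lam (θ', θ)) = mu lam (θ, θ') := by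
    simp only [mu, map_mul, Complex.conj_conj]
    ring
  have h3 : mu lam (θ', θ) ^ (2 * n) = 1 := mu_pow lam (2 * n) hlam _
  rw [h1]
  have h4 : kap ζ (mu lam (θ, θ')) a = -kap ζ (mu lam (θ', θ)) (n - a) := by
    have := kap_conj hn hζ (mu lam (θ', θ)) h3 ha0 ha
    rw [h2] at this
    exact this
  rw [h4]; ring

/-- The sum of the coefficients of a real combination is the constant coefficient. -/
theorem sum_coef_eq {J : Type*} [Fintype J] {ζ : ℂ} {n : ℕ} (hn : 0 < n)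
    (hζ : IsPrimitiveRoot ζ (2 * n)) (e : Set J) [DecidablePred (· ∈ e)] (nn : J → ℕ)
    (g : J → J → ℤ) (hgs : ∀ θ θ', θ ∈ e → θ' ∈ e → g θ θ' = g θ' θ) (lam : J → ℂ)
    (hlam : ∀ θ, lam θ ^ (2 * n) = 1) :
    ∑ a ∈ Finset.range n, coef ζ (cc e nn nn g) (mu lam) a =
      coef ζ (cc e nn nn g) (mu lam) 0 := by
  classical
  set f := coef ζ (cc e nn nn g) (mu lam) with hf
  obtain ⟨m, rfl⟩ : ∃ m, n = m + 1 := ⟨n - 1, by omega⟩
  rw [Finset.sum_range_succ']
  have h1 : ∑ k ∈ Finset.range m, f (k + 1) = 0 := by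
    have h2 : ∑ k ∈ Finset.range m, f (k + 1) = ∑ k ∈ Finset.range m, f (m - k) := by
      rw [← Finset.sum_range_reflect]
      refine Finset.sum_congr rfl fun k hk => ?_
      rw [Finset.mem_range] at hk
      congr 1
      omega
    have h3 : ∑ k ∈ Finset.range m, f (k + 1) = -∑ k ∈ Finset.range m, f (m - k) := by
      rw [← Finset.sum_neg_distrib]
      refine Finset.sum_congr rfl fun k hk => ?_
      rw [Finset.mem_range] at hk
      have := coef_antisymm hn hζ e nn g hgs lam hlam (a := k + 1) (by omega) (by omega)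
      rw [← hf] at this
      rw [this]
      congr 2
      omega
    rw [← h2] at h3
    linarith
  rw [h1, zero_add]

/-- **Integer coordinates of the contributions.** -/
theorem exists_coords [Fintype (IrrCharacter G)] (hM : IsPModular 2 M) (x : G) (j : ℕ)
    (hxj : orderOf x = 2 ^ j)
    (C : Subgroup G) [Fintype C] [Fintype (IrrCharacter C)] (hxC : x ∈ C)
    (hcomm : ∀ c : C, x * (c : G) = (c : G) * x)
    (e : Set (IrrCharacter C)) [DecidablePred (· ∈ e)] (he : IsPBlock M e)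
    (hN : 0 < Nat.card G) [FiniteDimensional ℚ (cyclo (Nat.card G))] :
    ∃ (ζ : ℂ) (t : ℕ) (s : IrrCharacter G → IrrCharacter G → ℕ → ℤ),
      ζ ^ (2 ^ t) = -1 ∧
      (∀ χ χ' k, k.Coprime (Nat.card G) →
        (2 : ℂ) ^ blockDefect 2 e * contrib 2 (x ^ k) C e χ χ' =
          ∑ a ∈ Finset.range (2 ^ t), (s χ χ' a : ℂ) * ζ ^ (a * k)) ∧
      (∀ χ χ', ∑ σ : cyclo (Nat.card G) →ₐ[ℚ] ℂ,
          (2 : ℂ) ^ blockDefect 2 e * contrib 2 (x ^ kexp (Nat.card G) hN σ) C e χ χ' =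
        (Fintype.card (cyclo (Nat.card G) →ₐ[ℚ] ℂ) : ℂ) * (s χ χ' 0 : ℂ)) ∧
      (∀ χ χ', ∑ σ : cyclo (Nat.card G) →ₐ[ℚ] ℂ,
          ((2 : ℂ) ^ blockDefect 2 e * contrib 2 (x ^ kexp (Nat.card G) hN σ) C e χ χ') *
          (starRingEnd ℂ)
            ((2 : ℂ) ^ blockDefect 2 e * contrib 2 (x ^ kexp (Nat.card G) hN σ) C e χ χ') =
        (Fintype.card (cyclo (Nat.card G) →ₐ[ℚ] ℂ) : ℂ) *
          ((∑ a ∈ Finset.range (2 ^ t), s χ χ' a * s χ χ' a : ℤ) : ℂ)) ∧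
      (∀ χ, ∑ a ∈ Finset.range (2 ^ t), s χ χ a = s χ χ 0) := by
  classical
  haveI : Fact (Nat.Prime 2) := ⟨Nat.prime_two⟩
  haveI : Finite G := Finite.of_fintype G
  set d := blockDefect 2 e with hd
  set t := j - 1 with ht
  set n := 2 ^ t with hn
  have hnpos : 0 < n := by positivity
  have h2n0 : 2 * n ≠ 0 := by omega
  set ζ : ℂ := Complex.exp (2 * Real.pi * Complex.I / ((2 * n : ℕ) : ℂ)) with hζdef
  have hζ : IsPrimitiveRoot ζ (2 * n) := Complex.isPrimitiveRoot_exp (2 * n) h2n0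
  have hζn : ζ ^ n = -1 := pow_half_eq_neg_one hnpos hζ
  have hj2n : 2 ^ j ∣ 2 * n := by
    rcases Nat.eq_zero_or_pos j with h0 | hpos
    · rw [h0]; simp
    · have : j = t + 1 := by omega
      rw [this, hn, pow_succ, mul_comm]
  have hjN : 2 ^ j ∣ Nat.card G := by rw [← hxj]; exact orderOf_dvd_natCard x
  choose lam hlam1 hlamn hlam using fun θ => exists_acoef_pow x C hxC hcomm θ
  choose nf hnf using fun χ θ => rmult_nat C χ θ
  have hgex : ∀ θ θ' : IrrCharacter C, ∃ m : ℤ, θ' ∈ e → (2 : ℂ) ^ d * gram 2 θ θ' = m := by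
    intro θ θ'
    by_cases h : θ' ∈ e
    · obtain ⟨m, hm⟩ := exists_int_pow_mul_gram 2 e θ θ' h
      exact ⟨m, fun _ => by rw [← hm]; push_cast; rfl⟩
    · exact ⟨0, fun h' => absurd h' h⟩
  choose g hg using hgex
  have hgs : ∀ θ θ', θ ∈ e → θ' ∈ e → g θ θ' = g θ' θ := by
    intro θ θ' hθ hθ'
    have h1 := hg θ θ' hθ'
    have h2 := hg θ' θ hθ
    have h3 : ((g θ' θ : ℤ) : ℂ) = (starRingEnd ℂ) ((g θ θ' : ℤ) : ℂ) := by
      rw [← h1, ← h2, map_mul, gram_conj, map_pow]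
      congr 2
      exact (Complex.conj_natCast 2).symm
    rw [map_intCast] at h3
    exact_mod_cast h3.symm
  have hlamj : ∀ θ, lam θ ^ (2 ^ j) = 1 := fun θ => by rw [← hxj]; exact hlam1 θ
  have hlam2n : ∀ θ, lam θ ^ (2 * n) = 1 := by
    intro θ
    obtain ⟨r, hr⟩ := hj2n
    rw [hr, pow_mul, hlamj θ, one_pow]
  have hacoef : ∀ χ θ k, acoef (x ^ k) C χ θ = lam θ ^ k * (nf χ θ : ℂ) := by
    intro χ θ k
    rw [hlam θ χ k, hnf χ θ]
  set s : IrrCharacter G → IrrCharacter G → ℕ → ℤ := fun χ χ' =>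
    coef ζ (cc e (nf χ) (nf χ') g) (mu lam) with hs
  have hsum : ∀ χ χ' k, (2 : ℂ) ^ d * contrib 2 (x ^ k) C e χ χ' =
      ∑ q : IrrCharacter C × IrrCharacter C,
        (cc e (nf χ) (nf χ') g q : ℂ) * mu lam q ^ k := fun χ χ' k =>
    pow_contrib_eq_sum hM x C hcomm e he χ χ' lam (nf χ) (nf χ') (hacoef χ) (hacoef χ') g
      (fun θ θ' h => hg θ θ' h) k
  refine ⟨ζ, t, s, hζn, ?_, ?_, ?_, ?_⟩
  · intro χ χ' k hk
    rw [hsum χ χ' k]
    apply sum_pow_eq_sum_coef hnpos hζ _ _ (fun q => mu_pow lam (2 * n) hlam2n q) k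
    rcases Nat.eq_zero_or_pos j with h0 | hpos
    · right
      intro q
      have h1 : ∀ θ, lam θ = 1 := by
        intro θ
        have := hlamj θ
        rwa [h0, pow_zero, pow_one] at this
      simp only [mu, h1, map_one, mul_one]
    · left
      have h2 : 2 ∣ Nat.card G := dvd_trans (dvd_pow_self 2 hpos.ne') hjN
      rw [Nat.odd_iff]
      rcases Nat.mod_two_eq_zero_or_one k with h | h
      · exfalso
        have h3 : 2 ∣ k := Nat.dvd_of_mod_eq_zero h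
        have := Nat.dvd_gcd h3 h2
        rw [hk] at this
        omega
      · exact h
  · intro χ χ'
    rw [Finset.sum_congr rfl (fun σ _ => hsum χ χ' (kexp (Nat.card G) hN σ))]
    exact sum_sigma_sum_pow (ζ := ζ) (Nat.card G) hN j hjN _ _
      (fun q => mu_pow lam (2 ^ j) hlamj q)
  · intro χ χ'
    rw [Finset.sum_congr rfl (fun σ _ => by rw [hsum χ χ' (kexp (Nat.card G) hN σ)])]
    exact sum_sigma_mul_conj (ζ := ζ) (Nat.card G) hN hnpos hζ j hjN hj2n _ _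
      (fun q => mu_pow lam (2 ^ j) hlamj q) _ _ (fun q => mu_pow lam (2 ^ j) hlamj q)
  · intro χ
    exact sum_coef_eq hnpos hζ e (nf χ) g hgs lam hlam2n

end Cfsg.Agent.Helper8.KC
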