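import Mathlib
import Cfsg.Prelude.Def_Blocks
import Cfsg.Prelude.Def_BlockRank
import Cfsg.Agent.Helper8.KC5

/-!
# The averaged diagonal contributions of a major `2`-subsection and the heights
-/

set_option autoImplicit false
set_option linter.unusedSectionVars false
set_option linter.unusedVariables false
set_option linter.unusedSimpArgs false
set_option linter.unnecessarySimpa false
set_option linter.style.haveILetI false
set_option maxHeartbeats 800000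

namespace Cfsg.Agent.Helper8.KC

open Cfsg Cfsg.Agent.Helper24 Cfsg.Agent.Helper5 Cfsg.Agent.Helper5.CC Cfsg.Agent.Helper5.Loc
open Cfsg.Agent.Helper8.SecCore Cfsg.Agent.Helper23.SubTr Cfsg.Agent.Helper23.CM
open Cfsg.Agent.Helper8.HZI Cfsg.Agent.Helper8.IndHt Cfsg.Agent.Helper23 Cfsg.Agent.Helper8.KB

variable {G : Type*} [Group G] [Fintype G] {M : Ideal AlgInt}

/-- A non-zero integer divisible by `2^h` has square at least `4^h`. -/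
theorem four_pow_le_sq {z : ℤ} {h : ℕ} (hz : z ≠ 0) (hd : (2 : ℤ) ^ h ∣ z) :
    (4 : ℤ) ^ h ≤ z * z := by
  obtain ⟨c, rfl⟩ := hd
  have hc : c ≠ 0 := by
    intro h0; apply hz; rw [h0, mul_zero]
  have h1 : 1 ≤ c * c := by
    rcases lt_or_gt_of_ne hc with h | h
    · nlinarith
    · nlinarith
  have h2 : (4 : ℤ) ^ h = 2 ^ h * 2 ^ h := by
    rw [← mul_pow]; norm_num
  have h3 : (0 : ℤ) ≤ 2 ^ h * 2 ^ h := by positivity
  calc (4 : ℤ) ^ h = 2 ^ h * 2 ^ h * 1 := by rw [h2, mul_one]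
    _ ≤ 2 ^ h * 2 ^ h * (c * c) := mul_le_mul_of_nonneg_left h1 h3
    _ = 2 ^ h * c * (2 ^ h * c) := by ring

/-- **The averaged diagonal contributions.** -/
theorem exists_avg_ext [Fintype (IrrCharacter G)] (hM : IsPModular 2 M) (x : G)
    (hx : ∃ k : ℕ, orderOf x = 2 ^ k)
    (C : Subgroup G) [Fintype C] [Fintype (IrrCharacter C)] (hxC : x ∈ C)
    (hcomm : ∀ c : C, x * (c : G) = (c : G) * x)
    (hcent : Subgroup.centralizer ({x} : Set G) ≤ C)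
    {e : Set (IrrCharacter C)} [DecidablePred (· ∈ e)] {B : Set (IrrCharacter G)}
    (hind : IsInducedBlock M C e B) (hdef : blockDefect 2 e = blockDefect 2 B) :
    ∃ Nf : IrrCharacter G → ℤ,
      (∀ χ, 0 ≤ Nf χ) ∧
      (∀ χ ∈ B, 1 ≤ Nf χ) ∧
      (∀ χ ∈ B, blockHeight 2 B (χ : G → ℂ) = 0 → Odd (Nf χ)) ∧
      (∀ χ ∈ B, 1 ≤ blockHeight 2 B (χ : G → ℂ) →
        (2 : ℤ) ^ (blockHeight 2 B (χ : G → ℂ) + 1) ∣ Nf χ) ∧
      (∑ χ, Nf χ = 2 ^ blockDefect 2 e * (blockRank 2 e : ℤ)) ∧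
      (∀ χ₀ ∈ B, blockHeight 2 B (χ₀ : G → ℂ) = 0 → ∀ S : Finset (IrrCharacter G),
        (∀ ψ ∈ S, ψ ∈ B) →
        ∑ ψ ∈ S, (4 : ℤ) ^ blockHeight 2 B (ψ : G → ℂ) ≤ 2 ^ blockDefect 2 e * Nf χ₀) ∧
      (∀ χ₀ ∈ B, ∀ S : Finset (IrrCharacter G), (∀ ψ ∈ S, ψ ∈ B) → χ₀ ∉ S →
        blockHeight 2 B (χ₀ : G → ℂ) = 0 →
        ∑ ψ ∈ S, (4 : ℤ) ^ blockHeight 2 B (ψ : G → ℂ) ≤
          Nf χ₀ * (2 ^ blockDefect 2 e - Nf χ₀)) ∧
      (∀ χ ∈ B, Nf χ ≤ 2 ^ blockDefect 2 e) ∧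
      (∀ χ ∈ B, 1 ≤ blockHeight 2 B (χ : G → ℂ) → Nf χ < 2 ^ blockDefect 2 e) ∧
      (∀ χ, χ ∉ B → Nf χ = 0) := by
  classical
  haveI : Fact (Nat.Prime 2) := ⟨Nat.prime_two⟩
  haveI : Finite G := Finite.of_fintype G
  haveI : Finite C := Finite.of_fintype C
  have hMp := isPrime_of_isPModular hM
  have he : IsPBlock M e := hind.1
  have hB : IsPBlock M B := hind.2.1
  obtain ⟨j, hxj⟩ := hx
  have hx' : ∃ k : ℕ, orderOf x = 2 ^ k := ⟨j, hxj⟩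
  have hxk : x ^ (2 ^ j) = 1 := by rw [← hxj]; exact pow_orderOf_eq_one x
  have hNpos : 0 < Nat.card G := Nat.card_pos
  haveI hfd : FiniteDimensional ℚ (cyclo (Nat.card G)) :=
    finiteDimensional_cyclo (Nat.card G) hNpos
  set E := Fintype.card (cyclo (Nat.card G) →ₐ[ℚ] ℂ) with hE
  have hEpos : 0 < E := Fintype.card_pos_iff.mpr ⟨(cyclo (Nat.card G)).val⟩
  have hEc : (E : ℂ) ≠ 0 := by exact_mod_cast hEpos.ne'
  set d := blockDefect 2 e with hd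
  obtain ⟨ζ, t, s, hζ, hK1, hK2, hK3, hK5⟩ := exists_coords hM x j hxj C hxC hcomm e he hNpos
  set n := 2 ^ t with hn
  have hnpos : 0 < n := by positivity
  set kσ : (cyclo (Nat.card G) →ₐ[ℚ] ℂ) → ℕ := fun σ => kexp (Nat.card G) hNpos σ with hkσ
  have hpw : ∀ σ, (∃ j' : ℕ, orderOf (x ^ kσ σ) = 2 ^ j') ∧
      Subgroup.centralizer ({x ^ kσ σ} : Set G) ≤ C :=
    fun σ => pow_hyps x hx' C hcent _ (kexp_coprime _ hNpos σ)
  have h2c : ((2 : ℕ) : ℂ) = 2 := by norm_num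
  -- K1 at k = 1
  have hK1' : ∀ χ χ', (2 : ℂ) ^ d * contrib 2 x C e χ χ' =
      ∑ a ∈ Finset.range n, (s χ χ' a : ℂ) * ζ ^ a := by
    intro χ χ'
    have := hK1 χ χ' 1 (Nat.coprime_one_left _)
    simpa using this
  have hζa : ∀ a : ℕ, MemLocalIdeal M (ζ ^ a - 1) := by
    intro a
    apply pPowRoot_sub_one_memLocalIdeal hM (ζ ^ a) (t + 1)
    rw [← pow_mul, mul_comm, pow_mul, pow_succ, pow_mul, hζ]
    norm_num
  have hζint : IsIntegral ℤ ζ := zeta_isIntegral ζ t hζ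
  have h2li : MemLocalIdeal M (2 : ℂ) := two_li hM
  -- (D1)
  have hD1 : ∀ χ ∈ B, ∀ χ' a, a < n → (2 : ℤ) ^ (blockHeight 2 B (χ : G → ℂ)) ∣ s χ χ' a := by
    intro χ hχ χ' a ha
    obtain ⟨y, hy, hyeq, -⟩ := exists_val hM x hx' C hxC hcomm hcent e he hB hdef χ χ' hχ
    rw [h2c] at hyeq
    refine two_pow_dvd_coeff hM ζ t hζ (s χ χ') _ y hy ?_ a ha
    rw [← hK1' χ χ']
    exact hyeq
  have hmin0 : ∀ χ₀ ∈ B, blockHeight 2 B (χ₀ : G → ℂ) = 0 → ∀ ξ ∈ B,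
      (irrDeg χ₀).factorization 2 ≤ (irrDeg ξ).factorization 2 := by
    intro χ₀ h0 hh ξ hξ
    rw [blockHeight_eq, Nat.sub_eq_zero_iff_le] at hh
    exact hh.trans (minVal_le 2 hξ)
  -- (K8)
  have hne : ∀ χ₀ ∈ B, blockHeight 2 B (χ₀ : G → ℂ) = 0 → ∀ ψ ∈ B,
      contrib 2 x C e ψ χ₀ ≠ 0 := by
    intro χ₀ h0 hh ψ hψ hzero
    obtain ⟨y, hy, hyeq, hyiff⟩ := exists_val hM x hx' C hxC hcomm hcent e he hB hdef χ₀ χ₀ h0
    rw [hh, pow_zero, one_mul] at hyeq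
    have hU := pow_mul_contrib_not_li hM x j hxk C hxC hcomm hind χ₀ χ₀ h0 h0
      (hmin0 χ₀ h0 hh) (hmin0 χ₀ h0 hh)
    rw [hyeq] at hU
    have h1 : ¬ MemLocalIdeal M (omg 2 x C e χ₀ χ₀) := fun h => hU (hyiff.mpr h)
    have h2 := omg_sub_li hM x hx' C hxC hcomm hcent e he hB ψ χ₀ χ₀ hψ h0
    have h3 : omg 2 x C e ψ χ₀ = 0 := by rw [omg, hzero, mul_zero, zero_div]
    rw [h3, zero_sub] at h2
    apply h1
    have := li_neg h2
    rwa [neg_neg] at this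
  obtain ⟨χ₁, hχ₁, hχ₁v⟩ := exists_minVal 2 (IsPBlock.nonempty hMp hB)
  have hχ₁0 : blockHeight 2 B (χ₁ : G → ℂ) = 0 := by
    rw [blockHeight_eq, hχ₁v, Nat.sub_self]
  -- (K7)
  have hK7 : ∀ χ ∈ B, 1 ≤ blockHeight 2 B (χ : G → ℂ) →
      (2 : ℤ) ^ (blockHeight 2 B (χ : G → ℂ) + 1) ∣ s χ χ 0 := by
    intro χ hχ hh1
    set h := blockHeight 2 B (χ : G → ℂ) with hh
    obtain ⟨y₀, hy₀, hy₀eq, hy₀iff⟩ :=
      exists_val hM x hx' C hxC hcomm hcent e he hB hdef χ₁ χ hχ₁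
    rw [hχ₁0, pow_zero, one_mul, h2c] at hy₀eq
    have hy₀li : MemLocalIdeal M y₀ := by
      rw [← hy₀eq]
      have h1 : (2 : ℂ) ^ d * contrib 2 x C e χ₁ χ =
          (starRingEnd ℂ) ((2 : ℂ) ^ d * contrib 2 x C e χ χ₁) := by
        rw [map_mul, contrib_conj, map_pow]
        congr 2
        exact (Complex.conj_ofNat 2).symm
      rw [h1, hK1' χ χ₁, map_sum]
      refine li_sum hMp _ _ fun a ha => ?_
      obtain ⟨c, hc⟩ := hD1 χ hχ χ₁ a (Finset.mem_range.mp ha)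
      have hc' : s χ χ₁ a = 2 ^ h * c := hc
      rw [map_mul, map_intCast, hc']
      obtain ⟨h', hh'⟩ : ∃ h', h = h' + 1 := ⟨h - 1, by omega⟩
      rw [hh', pow_succ]
      push_cast
      have h2 : (2 : ℂ) ^ h' * 2 * (c : ℂ) * (starRingEnd ℂ) (ζ ^ a) =
          2 * ((2 : ℂ) ^ h' * (c : ℂ) * (starRingEnd ℂ) (ζ ^ a)) := by ring
      rw [h2]
      refine li_mul_right hMp h2li (lr_mul hMp (lr_mul hMp (lr_pow hMp (li_lr h2li) h')
        (memLocalRing_intCast hMp c)) ?_)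
      exact memLocalRing_of_isIntegral hMp ((hζint.pow a).map (starRingEnd ℂ).toIntAlgHom)
    have hω₀ : MemLocalIdeal M (omg 2 x C e χ₁ χ) := hy₀iff.mp hy₀li
    obtain ⟨y, hy, hyeq, hyiff⟩ := exists_val hM x hx' C hxC hcomm hcent e he hB hdef χ χ hχ
    rw [h2c] at hyeq
    have hωχ : MemLocalIdeal M (omg 2 x C e χ χ) := by
      have h1 := omg_sub_li hM x hx' C hxC hcomm hcent e he hB χ χ₁ χ hχ hχ₁
      have h2 := li_add hMp h1 hω₀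
      rwa [sub_add_cancel] at h2
    have hyli := hyiff.mpr hωχ
    have hcex : ∀ a : ℕ, ∃ c : ℤ, a < n → s χ χ a = 2 ^ h * c := by
      intro a
      by_cases ha : a < n
      · obtain ⟨c, hc⟩ := hD1 χ hχ χ a ha
        exact ⟨c, fun _ => hc⟩
      · exact ⟨0, fun h' => absurd h' ha⟩
    choose c hc using hcex
    have h2h0 : (2 : ℂ) ^ h ≠ 0 := pow_ne_zero h two_ne_zero
    have hy_eq : y = ∑ a ∈ Finset.range n, (c a : ℂ) * ζ ^ a := by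
      apply mul_left_cancel₀ h2h0
      rw [← hyeq, hK1' χ χ, Finset.mul_sum]
      refine Finset.sum_congr rfl fun a ha => ?_
      rw [hc a (Finset.mem_range.mp ha)]
      push_cast; ring
    have hc0 : ∑ a ∈ Finset.range n, c a = c 0 := by
      have h1 := hK5 χ
      have h2 : (2 : ℤ) ^ h * ∑ a ∈ Finset.range n, c a = 2 ^ h * c 0 := by
        rw [Finset.mul_sum, ← hc 0 hnpos, ← h1]
        exact Finset.sum_congr rfl fun a ha => (hc a (Finset.mem_range.mp ha)).symm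
      exact mul_left_cancel₀ (pow_ne_zero h two_ne_zero) h2
    have hc0li : MemLocalIdeal M ((c 0 : ℤ) : ℂ) := by
      have h1 : ((c 0 : ℤ) : ℂ) = y - ∑ a ∈ Finset.range n, (c a : ℂ) * (ζ ^ a - 1) := by
        rw [hy_eq, ← Finset.sum_sub_distrib, ← hc0]
        push_cast
        refine Finset.sum_congr rfl fun a _ => ?_
        ring
      rw [h1]
      exact li_sub hMp hyli (li_sum hMp _ _ fun a _ =>
        li_mul_left hMp (memLocalRing_intCast hMp _) (hζa a))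
    obtain ⟨c', hc'⟩ := even_of_intCast_li hM _ hc0li
    exact ⟨c', by rw [hc 0 hnpos, hc', pow_succ]; ring⟩
  -- oddness
  have hodd : ∀ χ ∈ B, blockHeight 2 B (χ : G → ℂ) = 0 → Odd (s χ χ 0) := by
    intro χ hχ hh
    have hU := pow_mul_contrib_not_li hM x j hxk C hxC hcomm hind χ χ hχ hχ
      (hmin0 χ hχ hh) (hmin0 χ hχ hh)
    rw [h2c, hK1' χ χ] at hU
    rw [← Int.not_even_iff_odd]
    intro heven
    apply hU
    have h1 : ∑ a ∈ Finset.range n, (s χ χ a : ℂ) * ζ ^ a =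
        ((s χ χ 0 : ℤ) : ℂ) + ∑ a ∈ Finset.range n, (s χ χ a : ℂ) * (ζ ^ a - 1) := by
      rw [← hK5 χ]
      push_cast
      rw [← Finset.sum_add_distrib]
      refine Finset.sum_congr rfl fun a _ => ?_
      ring
    rw [h1]
    obtain ⟨r, hr⟩ := heven
    refine li_add hMp ?_ (li_sum hMp _ _ fun a _ =>
      li_mul_left hMp (memLocalRing_intCast hMp _) (hζa a))
    rw [hr]
    push_cast
    have : (r : ℂ) + (r : ℂ) = 2 * (r : ℂ) := by ring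
    rw [this]
    exact li_mul_right hMp h2li (memLocalRing_intCast hMp r)
  -- (K4)
  have hK4 : ∀ χ, (2 : ℤ) ^ d * s χ χ 0 =
      ∑ ψ : IrrCharacter G, ∑ a ∈ Finset.range n, s ψ χ a * s ψ χ a := by
    intro χ
    have h1 : ∀ σ : cyclo (Nat.card G) →ₐ[ℚ] ℂ,
        (2 : ℂ) ^ d * ((2 : ℂ) ^ d * contrib 2 (x ^ kσ σ) C e χ χ) =
        ∑ ψ : IrrCharacter G, ((2 : ℂ) ^ d * contrib 2 (x ^ kσ σ) C e ψ χ) *
          (starRingEnd ℂ) ((2 : ℂ) ^ d * contrib 2 (x ^ kσ σ) C e ψ χ) := by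
      intro σ
      rw [← contrib_idem hM (x ^ kσ σ) (hpw σ).1 C (comm_pow hcomm _) (hpw σ).2 e he χ χ,
        Finset.mul_sum, Finset.mul_sum]
      refine Finset.sum_congr rfl fun ψ _ => ?_
      rw [← contrib_conj 2 (x ^ kσ σ) C e χ ψ]
      simp only [map_mul, map_pow, Complex.conj_conj, Complex.conj_ofNat]
      ring
    have h2 : (E : ℂ) * (((2 : ℤ) ^ d * s χ χ 0 : ℤ) : ℂ) =
        (E : ℂ) * ((∑ ψ : IrrCharacter G, ∑ a ∈ Finset.range n, s ψ χ a * s ψ χ a : ℤ) : ℂ) := by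
      calc (E : ℂ) * (((2 : ℤ) ^ d * s χ χ 0 : ℤ) : ℂ)
          = (2 : ℂ) ^ d * ((E : ℂ) * (s χ χ 0 : ℂ)) := by push_cast; ring
        _ = (2 : ℂ) ^ d * ∑ σ : cyclo (Nat.card G) →ₐ[ℚ] ℂ,
              (2 : ℂ) ^ d * contrib 2 (x ^ kσ σ) C e χ χ := by rw [hK2 χ χ]
        _ = ∑ σ : cyclo (Nat.card G) →ₐ[ℚ] ℂ, ∑ ψ : IrrCharacter G,
              ((2 : ℂ) ^ d * contrib 2 (x ^ kσ σ) C e ψ χ) *
              (starRingEnd ℂ) ((2 : ℂ) ^ d * contrib 2 (x ^ kσ σ) C e ψ χ) := by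
            rw [Finset.mul_sum]
            exact Finset.sum_congr rfl fun σ _ => h1 σ
        _ = ∑ ψ : IrrCharacter G, ∑ σ : cyclo (Nat.card G) →ₐ[ℚ] ℂ,
              ((2 : ℂ) ^ d * contrib 2 (x ^ kσ σ) C e ψ χ) *
              (starRingEnd ℂ) ((2 : ℂ) ^ d * contrib 2 (x ^ kσ σ) C e ψ χ) := Finset.sum_comm
        _ = ∑ ψ : IrrCharacter G, (E : ℂ) *
              ((∑ a ∈ Finset.range n, s ψ χ a * s ψ χ a : ℤ) : ℂ) :=
            Finset.sum_congr rfl fun ψ _ => hK3 ψ χ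
        _ = (E : ℂ) * ((∑ ψ : IrrCharacter G, ∑ a ∈ Finset.range n,
              s ψ χ a * s ψ χ a : ℤ) : ℂ) := by
            rw [← Finset.mul_sum]; push_cast; rfl
    have h3 := mul_left_cancel₀ hEc h2
    exact_mod_cast h3
  have h2d : (0 : ℤ) < 2 ^ d := by positivity
  have hsq_nonneg : ∀ ψ χ : IrrCharacter G,
      0 ≤ ∑ a ∈ Finset.range n, s ψ χ a * s ψ χ a :=
    fun ψ χ => Finset.sum_nonneg fun a _ => mul_self_nonneg _
  -- coefficients non-zero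
  have hsne : ∀ ψ χ : IrrCharacter G, contrib 2 x C e ψ χ ≠ 0 → ∃ a, a < n ∧ s ψ χ a ≠ 0 := by
    intro ψ χ hcon
    by_contra hall
    push Not at hall
    apply hcon
    have h1 := hK1' ψ χ
    rw [Finset.sum_eq_zero (fun a ha => by
      rw [hall a (Finset.mem_range.mp ha)]; simp)] at h1
    rcases mul_eq_zero.mp h1 with h | h
    · exact absurd h (pow_ne_zero d two_ne_zero)
    · exact h
  -- the diagonal term
  have hdiag : ∀ χ : IrrCharacter G,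
      s χ χ 0 * s χ χ 0 ≤ ∑ a ∈ Finset.range n, s χ χ a * s χ χ a := fun χ =>
    Finset.single_le_sum (f := fun a => s χ χ a * s χ χ a)
      (fun a _ => mul_self_nonneg _) (Finset.mem_range.mpr hnpos)
  have hpos1 : ∀ χ ∈ B, 0 < s χ χ 0 := by
    intro χ hχ
    have hc1 : contrib 2 x C e χ₁ χ ≠ 0 := by
      rw [← contrib_conj 2 x C e χ χ₁]
      intro h0
      apply hne χ₁ hχ₁ hχ₁0 χ hχ
      have := congrArg (starRingEnd ℂ) h0
      rwa [Complex.conj_conj, map_zero] at this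
    obtain ⟨a₁, ha₁, hsa₁⟩ := hsne χ₁ χ hc1
    have h1 : 0 < (2 : ℤ) ^ d * s χ χ 0 := by
      rw [hK4 χ]
      have h2 : 0 < s χ₁ χ a₁ * s χ₁ χ a₁ := mul_self_pos.mpr hsa₁
      have h3 : s χ₁ χ a₁ * s χ₁ χ a₁ ≤ ∑ a ∈ Finset.range n, s χ₁ χ a * s χ₁ χ a :=
        Finset.single_le_sum (f := fun a => s χ₁ χ a * s χ₁ χ a)
          (fun a _ => mul_self_nonneg _) (Finset.mem_range.mpr ha₁)
      have h4 : ∑ a ∈ Finset.range n, s χ₁ χ a * s χ₁ χ a ≤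
          ∑ ψ : IrrCharacter G, ∑ a ∈ Finset.range n, s ψ χ a * s ψ χ a :=
        Finset.single_le_sum (f := fun ψ => ∑ a ∈ Finset.range n, s ψ χ a * s ψ χ a)
          (fun ψ _ => hsq_nonneg ψ χ) (Finset.mem_univ χ₁)
      linarith
    exact pos_of_mul_pos_right h1 h2d.le
  -- splitting off the diagonal term
  have hsplit : ∀ (χ : IrrCharacter G) (S : Finset (IrrCharacter G)), χ ∉ S →
      s χ χ 0 * s χ χ 0 + ∑ ψ ∈ S, ∑ a ∈ Finset.range n, s ψ χ a * s ψ χ a ≤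
        (2 : ℤ) ^ d * s χ χ 0 := by
    intro χ S hχS
    rw [hK4 χ]
    calc s χ χ 0 * s χ χ 0 + ∑ ψ ∈ S, ∑ a ∈ Finset.range n, s ψ χ a * s ψ χ a
        ≤ ∑ a ∈ Finset.range n, s χ χ a * s χ χ a +
            ∑ ψ ∈ S, ∑ a ∈ Finset.range n, s ψ χ a * s ψ χ a := by
          linarith [hdiag χ]
      _ = ∑ ψ ∈ insert χ S, ∑ a ∈ Finset.range n, s ψ χ a * s ψ χ a := by
          rw [Finset.sum_insert hχS]
      _ ≤ ∑ ψ : IrrCharacter G, ∑ a ∈ Finset.range n, s ψ χ a * s ψ χ a :=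
          Finset.sum_le_sum_of_subset_of_nonneg (Finset.subset_univ _)
            (fun ψ _ _ => hsq_nonneg ψ χ)
  refine ⟨fun χ => s χ χ 0, ?_, ?_, hodd, hK7, ?_, ?_, ?_, ?_, ?_, ?_⟩
  · intro χ
    show 0 ≤ s χ χ 0
    have h1 : 0 ≤ (2 : ℤ) ^ d * s χ χ 0 := by
      rw [hK4 χ]; exact Finset.sum_nonneg fun ψ _ => hsq_nonneg ψ χ
    exact nonneg_of_mul_nonneg_right h1 h2d
  · intro χ hχ
    have hc1 : contrib 2 x C e χ₁ χ ≠ 0 := by
      rw [← contrib_conj 2 x C e χ χ₁]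
      intro h0
      apply hne χ₁ hχ₁ hχ₁0 χ hχ
      have := congrArg (starRingEnd ℂ) h0
      rwa [Complex.conj_conj, map_zero] at this
    obtain ⟨a₁, ha₁, hsa₁⟩ := hsne χ₁ χ hc1
    have h1 : 0 < (2 : ℤ) ^ d * s χ χ 0 := by
      rw [hK4 χ]
      have h2 : 0 < s χ₁ χ a₁ * s χ₁ χ a₁ := mul_self_pos.mpr hsa₁
      have h3 : s χ₁ χ a₁ * s χ₁ χ a₁ ≤ ∑ a ∈ Finset.range n, s χ₁ χ a * s χ₁ χ a :=
        Finset.single_le_sum (f := fun a => s χ₁ χ a * s χ₁ χ a)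
          (fun a _ => mul_self_nonneg _) (Finset.mem_range.mpr ha₁)
      have h4 : ∑ a ∈ Finset.range n, s χ₁ χ a * s χ₁ χ a ≤
          ∑ ψ : IrrCharacter G, ∑ a ∈ Finset.range n, s ψ χ a * s ψ χ a :=
        Finset.single_le_sum (f := fun ψ => ∑ a ∈ Finset.range n, s ψ χ a * s ψ χ a)
          (fun ψ _ => hsq_nonneg ψ χ) (Finset.mem_univ χ₁)
      linarith
    have h2 : 0 < s χ χ 0 := pos_of_mul_pos_right h1 h2d.le
    show 1 ≤ s χ χ 0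
    omega
  · -- trace
    have h1 : (E : ℂ) * ((∑ χ : IrrCharacter G, s χ χ 0 : ℤ) : ℂ) =
        (E : ℂ) * (((2 : ℤ) ^ d * (blockRank 2 e : ℤ) : ℤ) : ℂ) := by
      calc (E : ℂ) * ((∑ χ : IrrCharacter G, s χ χ 0 : ℤ) : ℂ)
          = ∑ χ : IrrCharacter G, (E : ℂ) * (s χ χ 0 : ℂ) := by
            push_cast; rw [Finset.mul_sum]
        _ = ∑ χ : IrrCharacter G, ∑ σ : cyclo (Nat.card G) →ₐ[ℚ] ℂ,
              (2 : ℂ) ^ d * contrib 2 (x ^ kσ σ) C e χ χ :=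
            Finset.sum_congr rfl fun χ _ => (hK2 χ χ).symm
        _ = ∑ σ : cyclo (Nat.card G) →ₐ[ℚ] ℂ, ∑ χ : IrrCharacter G,
              (2 : ℂ) ^ d * contrib 2 (x ^ kσ σ) C e χ χ := Finset.sum_comm
        _ = ∑ σ : cyclo (Nat.card G) →ₐ[ℚ] ℂ, (2 : ℂ) ^ d * (blockRank 2 e : ℂ) := by
            refine Finset.sum_congr rfl fun σ _ => ?_
            rw [← Finset.mul_sum, contrib_trace hM (x ^ kσ σ) (hpw σ).1 C
              (comm_pow hcomm _) (hpw σ).2 e he]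
        _ = (E : ℂ) * (((2 : ℤ) ^ d * (blockRank 2 e : ℤ) : ℤ) : ℂ) := by
            simp only [Finset.sum_const, Finset.card_univ, nsmul_eq_mul, ← hE]
            push_cast; ring
    have h2 := mul_left_cancel₀ hEc h1
    exact_mod_cast h2
  · intro χ₀ hχ₀ hh0 S hS
    show ∑ ψ ∈ S, (4 : ℤ) ^ blockHeight 2 B (ψ : G → ℂ) ≤ 2 ^ d * s χ₀ χ₀ 0
    rw [hK4 χ₀]
    calc ∑ ψ ∈ S, (4 : ℤ) ^ blockHeight 2 B (ψ : G → ℂ)
        ≤ ∑ ψ ∈ S, ∑ a ∈ Finset.range n, s ψ χ₀ a * s ψ χ₀ a := by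
          refine Finset.sum_le_sum fun ψ hψ => ?_
          obtain ⟨a₁, ha₁, hsa₁⟩ := hsne ψ χ₀ (hne χ₀ hχ₀ hh0 ψ (hS ψ hψ))
          have h1 := four_pow_le_sq hsa₁ (hD1 ψ (hS ψ hψ) χ₀ a₁ ha₁)
          have h2 : s ψ χ₀ a₁ * s ψ χ₀ a₁ ≤ ∑ a ∈ Finset.range n, s ψ χ₀ a * s ψ χ₀ a :=
            Finset.single_le_sum (f := fun a => s ψ χ₀ a * s ψ χ₀ a)
              (fun a _ => mul_self_nonneg _) (Finset.mem_range.mpr ha₁)
          exact h1.trans h2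
      _ ≤ ∑ ψ : IrrCharacter G, ∑ a ∈ Finset.range n, s ψ χ₀ a * s ψ χ₀ a :=
          Finset.sum_le_sum_of_subset_of_nonneg (Finset.subset_univ S)
            (fun ψ _ _ => hsq_nonneg ψ χ₀)
  · intro χ₀ hχ₀ S hS hχ₀S hh0
    show ∑ ψ ∈ S, (4 : ℤ) ^ blockHeight 2 B (ψ : G → ℂ) ≤ s χ₀ χ₀ 0 * (2 ^ d - s χ₀ χ₀ 0)
    have h1 : ∑ ψ ∈ S, (4 : ℤ) ^ blockHeight 2 B (ψ : G → ℂ) ≤
        ∑ ψ ∈ S, ∑ a ∈ Finset.range n, s ψ χ₀ a * s ψ χ₀ a := by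
      refine Finset.sum_le_sum fun ψ hψ => ?_
      obtain ⟨a₁, ha₁, hsa₁⟩ := hsne ψ χ₀ (hne χ₀ hχ₀ hh0 ψ (hS ψ hψ))
      have h1 := four_pow_le_sq hsa₁ (hD1 ψ (hS ψ hψ) χ₀ a₁ ha₁)
      have h2 : s ψ χ₀ a₁ * s ψ χ₀ a₁ ≤ ∑ a ∈ Finset.range n, s ψ χ₀ a * s ψ χ₀ a :=
        Finset.single_le_sum (f := fun a => s ψ χ₀ a * s ψ χ₀ a)
          (fun a _ => mul_self_nonneg _) (Finset.mem_range.mpr ha₁)
      exact h1.trans h2
    have h2 := hsplit χ₀ S hχ₀S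
    nlinarith
  · intro χ hχ
    show s χ χ 0 ≤ 2 ^ d
    have h1 := hsplit χ ∅ (Finset.notMem_empty χ)
    rw [Finset.sum_empty, add_zero] at h1
    have h2 := hpos1 χ hχ
    by_contra hcon
    push Not at hcon
    nlinarith
  · intro χ hχ hh1
    show s χ χ 0 < 2 ^ d
    have hne1 : χ₁ ≠ χ := by
      intro h0
      rw [h0] at hχ₁0
      omega
    have hc1 : contrib 2 x C e χ₁ χ ≠ 0 := by
      rw [← contrib_conj 2 x C e χ χ₁]
      intro h0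
      apply hne χ₁ hχ₁ hχ₁0 χ hχ
      have := congrArg (starRingEnd ℂ) h0
      rwa [Complex.conj_conj, map_zero] at this
    obtain ⟨a₁, ha₁, hsa₁⟩ := hsne χ₁ χ hc1
    have h1 := hsplit χ {χ₁} (by simpa using hne1.symm)
    rw [Finset.sum_singleton] at h1
    have h2 : 0 < s χ₁ χ a₁ * s χ₁ χ a₁ := mul_self_pos.mpr hsa₁
    have h3 : s χ₁ χ a₁ * s χ₁ χ a₁ ≤ ∑ a ∈ Finset.range n, s χ₁ χ a * s χ₁ χ a :=
      Finset.single_le_sum (f := fun a => s χ₁ χ a * s χ₁ χ a)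
        (fun a _ => mul_self_nonneg _) (Finset.mem_range.mpr ha₁)
    have h4 := hpos1 χ hχ
    by_contra hcon
    push Not at hcon
    nlinarith
  · intro χ hχ
    show s χ χ 0 = 0
    have h1 : (E : ℂ) * (s χ χ 0 : ℂ) = 0 := by
      rw [← hK2 χ χ]
      apply Finset.sum_eq_zero
      intro σ _
      rw [contrib_eq_zero_left hM (x ^ kσ σ) (hpw σ).1 C (pow_mem hxC _) (comm_pow hcomm _)
        (hpw σ).2 B e hind χ χ hχ, mul_zero]
    rcases mul_eq_zero.mp h1 with h | h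
    · exact absurd h hEc
    · exact_mod_cast h

/-- **The averaged diagonal contributions** (short form). -/
theorem exists_avg [Fintype (IrrCharacter G)] (hM : IsPModular 2 M) (x : G)
    (hx : ∃ k : ℕ, orderOf x = 2 ^ k)
    (C : Subgroup G) [Fintype C] [Fintype (IrrCharacter C)] (hxC : x ∈ C)
    (hcomm : ∀ c : C, x * (c : G) = (c : G) * x)
    (hcent : Subgroup.centralizer ({x} : Set G) ≤ C)
    {e : Set (IrrCharacter C)} [DecidablePred (· ∈ e)] {B : Set (IrrCharacter G)}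
    (hind : IsInducedBlock M C e B) (hdef : blockDefect 2 e = blockDefect 2 B) :
    ∃ Nf : IrrCharacter G → ℤ,
      (∀ χ, 0 ≤ Nf χ) ∧
      (∀ χ ∈ B, 1 ≤ Nf χ) ∧
      (∀ χ ∈ B, blockHeight 2 B (χ : G → ℂ) = 0 → Odd (Nf χ)) ∧
      (∀ χ ∈ B, 1 ≤ blockHeight 2 B (χ : G → ℂ) →
        (2 : ℤ) ^ (blockHeight 2 B (χ : G → ℂ) + 1) ∣ Nf χ) ∧
      (∑ χ, Nf χ = 2 ^ blockDefect 2 e * (blockRank 2 e : ℤ)) ∧
      (∀ χ₀ ∈ B, blockHeight 2 B (χ₀ : G → ℂ) = 0 → ∀ S : Finset (IrrCharacter G),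
        (∀ ψ ∈ S, ψ ∈ B) →
        ∑ ψ ∈ S, (4 : ℤ) ^ blockHeight 2 B (ψ : G → ℂ) ≤ 2 ^ blockDefect 2 e * Nf χ₀) := by
  obtain ⟨Nf, h1, h2, h3, h4, h5, h6, -, -, -, -⟩ :=
    exists_avg_ext hM x hx C hxC hcomm hcent hind hdef
  exact ⟨Nf, h1, h2, h3, h4, h5, h6⟩

end Cfsg.Agent.Helper8.KC
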