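import Mathlib

/-!
# The arithmetic behind `k₀ + (2/3) ∑ 2^i k_i ≤ 2^d`
-/

set_option autoImplicit false
set_option linter.unusedSectionVars false
set_option linter.unusedVariables false

namespace Cfsg.Agent.Helper8.KC

theorem final_arith {ι : Type*} [DecidableEq ι] (S : Finset ι) (h : ι → ℕ) (Nf : ι → ℤ)
    (D : ℤ) (l : ℕ) (hD : 0 ≤ D) (hl : l ≤ 3)
    (hpos : ∀ χ ∈ S, 1 ≤ Nf χ) (hodd : ∀ χ ∈ S, h χ = 0 → Odd (Nf χ))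
    (hdiv : ∀ χ ∈ S, 1 ≤ h χ → (2 : ℤ) ^ (h χ + 1) ∣ Nf χ)
    (hsum : ∑ χ ∈ S, Nf χ ≤ D * l)
    (hA : ∀ χ₀ ∈ S, h χ₀ = 0 → ∑ ψ ∈ S, (4 : ℤ) ^ h ψ ≤ D * Nf χ₀) :
    3 * ((S.filter (fun χ => h χ = 0)).card : ℤ) +
      2 * ∑ χ ∈ S.filter (fun χ => 1 ≤ h χ), (2 : ℤ) ^ h χ ≤ 3 * D := by
  classical
  set S₀ := S.filter (fun χ => h χ = 0) with hS₀
  set S₁ := S.filter (fun χ => 1 ≤ h χ) with hS₁
  have hsplit : ∀ f : ι → ℤ, ∑ χ ∈ S, f χ = ∑ χ ∈ S₀, f χ + ∑ χ ∈ S₁, f χ := by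
    intro f
    rw [hS₀, hS₁, ← Finset.sum_filter_add_sum_filter_not S (fun χ => h χ = 0) f]
    congr 1
    apply Finset.sum_congr _ (fun _ _ => rfl)
    ext χ
    simp only [Finset.mem_filter]
    constructor
    · rintro ⟨h1, h2⟩; exact ⟨h1, by omega⟩
    · rintro ⟨h1, h2⟩; exact ⟨h1, by omega⟩
  by_cases hcase : ∃ χ₀ ∈ S₀, Nf χ₀ = 1
  · obtain ⟨χ₀, hχ₀, h1⟩ := hcase
    rw [hS₀, Finset.mem_filter] at hχ₀
    have h2 := hA χ₀ hχ₀.1 hχ₀.2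
    rw [h1, mul_one, hsplit] at h2
    have h3 : ∑ χ ∈ S₀, (4 : ℤ) ^ h χ = (S₀.card : ℤ) := by
      have h31 : ∑ χ ∈ S₀, (4 : ℤ) ^ h χ = ∑ χ ∈ S₀, (1 : ℤ) := by
        refine Finset.sum_congr rfl fun χ hχ => ?_
        rw [hS₀, Finset.mem_filter] at hχ
        rw [hχ.2, pow_zero]
      rw [h31, Finset.sum_const, nsmul_eq_mul, mul_one]
    have h4 : 2 * ∑ χ ∈ S₁, (2 : ℤ) ^ h χ ≤ 3 * ∑ χ ∈ S₁, (4 : ℤ) ^ h χ := by
      rw [Finset.mul_sum, Finset.mul_sum]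
      refine Finset.sum_le_sum fun χ _ => ?_
      have h5 : (4 : ℤ) ^ h χ = 2 ^ h χ * 2 ^ h χ := by rw [← mul_pow]; norm_num
      have h6 : (1 : ℤ) ≤ 2 ^ h χ := one_le_pow₀ (by norm_num)
      rw [h5]
      nlinarith
    rw [h3] at h2
    linarith
  · push Not at hcase
    have h0 : ∀ χ ∈ S₀, 3 ≤ Nf χ := by
      intro χ hχ
      have hne := hcase χ hχ
      rw [hS₀, Finset.mem_filter] at hχ
      have h1 := hpos χ hχ.1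
      obtain ⟨r, hr⟩ := hodd χ hχ.1 hχ.2
      omega
    have h1 : ∀ χ ∈ S₁, 2 * (2 : ℤ) ^ h χ ≤ Nf χ := by
      intro χ hχ
      rw [hS₁, Finset.mem_filter] at hχ
      have h2 := hpos χ hχ.1
      obtain ⟨c, hc⟩ := hdiv χ hχ.1 hχ.2
      have hc1 : 1 ≤ c := by
        by_contra hcon
        push Not at hcon
        have : (2 : ℤ) ^ (h χ + 1) * c ≤ 0 :=
          mul_nonpos_of_nonneg_of_nonpos (by positivity) (by omega)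
        omega
      rw [hc, pow_succ]
      have : (0 : ℤ) < 2 ^ h χ := by positivity
      nlinarith
    have h2 : 3 * (S₀.card : ℤ) ≤ ∑ χ ∈ S₀, Nf χ := by
      calc 3 * (S₀.card : ℤ) = ∑ χ ∈ S₀, (3 : ℤ) := by simp [mul_comm]
        _ ≤ _ := Finset.sum_le_sum h0
    have h3 : 2 * ∑ χ ∈ S₁, (2 : ℤ) ^ h χ ≤ ∑ χ ∈ S₁, Nf χ := by
      rw [Finset.mul_sum]; exact Finset.sum_le_sum h1
    have h4 := hsplit Nf
    have h5 : D * (l : ℤ) ≤ D * 3 := by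
      apply mul_le_mul_of_nonneg_left _ hD
      exact_mod_cast hl
    linarith

end Cfsg.Agent.Helper8.KC
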