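import Mathlib

/-!
# The arithmetic behind `k(B) - l(b) ≤ 3 ⟹ k(B) ≤ 2^d`
-/

set_option autoImplicit false
set_option linter.unusedSectionVars false
set_option linter.unusedVariables false

namespace Cfsg.Agent.Helper8.KC

theorem dual_arith {ι : Type*} [DecidableEq ι] (S : Finset ι) (h : ι → ℕ) (Nf : ι → ℤ)
    (d l : ℕ) (hkl : S.card ≤ l + 3)
    (hpos : ∀ χ ∈ S, 1 ≤ Nf χ) (hodd : ∀ χ ∈ S, h χ = 0 → Odd (Nf χ))
    (hdiv : ∀ χ ∈ S, 1 ≤ h χ → (2 : ℤ) ^ (h χ + 1) ∣ Nf χ)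
    (hsum : ∑ χ ∈ S, Nf χ = 2 ^ d * (l : ℤ))
    (hA : ∀ χ₀ ∈ S, h χ₀ = 0 → ∀ T : Finset ι, T ⊆ S → χ₀ ∉ T →
      ∑ ψ ∈ T, (4 : ℤ) ^ h ψ ≤ Nf χ₀ * (2 ^ d - Nf χ₀))
    (hle : ∀ χ ∈ S, Nf χ ≤ 2 ^ d) (hlt : ∀ χ ∈ S, 1 ≤ h χ → Nf χ < 2 ^ d)
    (hex : ∃ χ₀ ∈ S, h χ₀ = 0) : (S.card : ℤ) ≤ 2 ^ d := by
  classical
  have h2d : (0 : ℤ) < 2 ^ d := by positivity
  by_cases hcase : ∃ χ₀ ∈ S, h χ₀ = 0 ∧ 2 ^ d - Nf χ₀ ≤ 1
  · obtain ⟨χ₀, hχ₀, hh0, ha⟩ := hcase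
    have h1 := hA χ₀ hχ₀ hh0 (S.erase χ₀) (Finset.erase_subset _ _) (Finset.notMem_erase _ _)
    have h2 : ((S.erase χ₀).card : ℤ) ≤ ∑ ψ ∈ S.erase χ₀, (4 : ℤ) ^ h ψ := by
      calc ((S.erase χ₀).card : ℤ) = ∑ ψ ∈ S.erase χ₀, (1 : ℤ) := by simp
        _ ≤ _ := Finset.sum_le_sum fun ψ _ => one_le_pow₀ (by norm_num)
    have h3 : ((S.erase χ₀).card : ℤ) = S.card - 1 := by
      rw [Finset.card_erase_of_mem hχ₀]
      have : 1 ≤ S.card := Finset.card_pos.mpr ⟨χ₀, hχ₀⟩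
      push_cast [Nat.cast_sub this]
      ring
    have h4 := hle χ₀ hχ₀
    have h5 := hpos χ₀ hχ₀
    have h6 : 0 ≤ 2 ^ d - Nf χ₀ := by linarith
    have h7 : Nf χ₀ * (2 ^ d - Nf χ₀) ≤ 2 ^ d - 1 := by
      rcases (show (2 : ℤ) ^ d - Nf χ₀ = 0 ∨ (2 : ℤ) ^ d - Nf χ₀ = 1 by omega) with h | h
      · rw [h, mul_zero]; linarith
      · rw [h, mul_one]; linarith
    linarith
  · push Not at hcase
    -- all a_χ ≥ 3
    obtain ⟨χ₁, hχ₁, hχ₁0⟩ := hex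
    have hd1 : 1 ≤ d := by
      by_contra hcon
      have hd0 : d = 0 := by omega
      have h1 := hcase χ₁ hχ₁ hχ₁0
      have h2 := hpos χ₁ hχ₁
      rw [hd0, pow_zero] at h1
      linarith
    have heven : Even ((2 : ℤ) ^ d) := by
      obtain ⟨d', rfl⟩ : ∃ d', d = d' + 1 := ⟨d - 1, by omega⟩
      rw [pow_succ]
      exact even_two.mul_left _
    have ha3 : ∀ χ ∈ S, 3 ≤ 2 ^ d - Nf χ := by
      intro χ hχ
      rcases Nat.eq_zero_or_pos (h χ) with hh | hh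
      · have h1 := hcase χ hχ hh
        obtain ⟨r, hr⟩ := hodd χ hχ hh
        obtain ⟨q, hq⟩ := heven
        omega
      · have h1 := hlt χ hχ hh
        have h2 := hpos χ hχ
        obtain ⟨c, hc⟩ := hdiv χ hχ hh
        -- 2^{h+1} ≤ Nf χ < 2^d
        have h3 : (2 : ℤ) ^ (h χ + 1) ≤ Nf χ := by
          have hc1 : 1 ≤ c := by
            by_contra hcon
            push Not at hcon
            have : (2 : ℤ) ^ (h χ + 1) * c ≤ 0 :=
              mul_nonpos_of_nonneg_of_nonpos (by positivity) (by omega)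
            omega
          rw [hc]
          have : (0 : ℤ) < 2 ^ (h χ + 1) := by positivity
          nlinarith
        have h4 : h χ + 1 < d := by
          by_contra hcon
          push Not at hcon
          have : (2 : ℤ) ^ d ≤ 2 ^ (h χ + 1) := pow_le_pow_right₀ (by norm_num) hcon
          linarith
        have h5 : (2 : ℤ) ^ (h χ + 1) ∣ 2 ^ d := pow_dvd_pow 2 h4.le
        have h6 : (2 : ℤ) ^ (h χ + 1) ∣ 2 ^ d - Nf χ := dvd_sub h5 ⟨c, hc⟩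
        obtain ⟨c', hc'⟩ := h6
        have hc'1 : 1 ≤ c' := by
          by_contra hcon
          push Not at hcon
          have : (2 : ℤ) ^ (h χ + 1) * c' ≤ 0 :=
            mul_nonpos_of_nonneg_of_nonpos (by positivity) (by omega)
          omega
        have h7 : (4 : ℤ) ≤ 2 ^ (h χ + 1) := by
          have : (2 : ℤ) ^ 2 ≤ 2 ^ (h χ + 1) := pow_le_pow_right₀ (by norm_num) (by omega)
          linarith
        rw [hc']
        nlinarith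
    have h1 : 3 * (S.card : ℤ) ≤ ∑ χ ∈ S, (2 ^ d - Nf χ) := by
      calc 3 * (S.card : ℤ) = ∑ χ ∈ S, (3 : ℤ) := by simp [mul_comm]
        _ ≤ _ := Finset.sum_le_sum ha3
    rw [Finset.sum_sub_distrib, hsum, Finset.sum_const, nsmul_eq_mul] at h1
    have h2 : (S.card : ℤ) ≤ l + 3 := by exact_mod_cast hkl
    nlinarith

end Cfsg.Agent.Helper8.KC
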