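import Mathlib
import Cfsg.Agent.Helper9.LieGrBasic

/-!
# The Kreknin–Kostrikin step (piece KK of the S3779 project)

For a `ZMod p`-graded Lie ring (`p` prime) with trivial zero component,
`γ_{ξ_p(s)+1} ≤ L^{(s)}` (as families of homogeneous components):
`kk : lcf N (xi p s) k ≤ der N s k`.
-/

namespace Cfsg.Agent.Helper8.KrekKost

open Cfsg.Agent.Helper9.LieGr

open scoped Pointwise

section subsetsum

variable {p : ℕ} [Fact p.Prime] {α : Type*} (f : α → ZMod p)

/-- the set of sums of sublists -/
def SS : List α → Finset (ZMod p)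
  | [] => {0}
  | e :: l => SS l + ({0, f e} : Finset (ZMod p))

theorem mem_SS : ∀ (l : List α) (t : ZMod p), t ∈ SS f l →
    ∃ T : List α, T.Sublist l ∧ (T.map f).sum = t
  | [], t, h => by
      simp only [SS, Finset.mem_singleton] at h
      exact ⟨[], List.Sublist.refl _, by simp [h]⟩
  | e :: l, t, h => by
      simp only [SS, Finset.mem_add] at h
      obtain ⟨a, ha, b, hb, rfl⟩ := h
      obtain ⟨T, hT, rfl⟩ := mem_SS l a ha
      simp only [Finset.mem_insert, Finset.mem_singleton] at hb
      rcases hb with rfl | rfl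
      · exact ⟨T, hT.cons _, by simp⟩
      · exact ⟨e :: T, hT.cons_cons _, by simp [add_comm]⟩

theorem card_SS : ∀ (l : List α), (∀ e ∈ l, f e ≠ 0) → min p (l.length + 1) ≤ (SS f l).card
  | [], _ => by simp [SS]
  | e :: l, h => by
      have ih := card_SS l (fun e he => h e (List.mem_cons_of_mem _ he))
      have hne : f e ≠ 0 := h e List.mem_cons_self
      have hp := (Fact.out : p.Prime).pos
      have hS : (SS f l).Nonempty := by
        rw [← Finset.card_pos]; omega
      have ht : ({0, f e} : Finset (ZMod p)).Nonempty := ⟨0, by simp⟩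
      have hcd := ZMod.cauchy_davenport (Fact.out : p.Prime) hS ht
      have h2 : ({0, f e} : Finset (ZMod p)).card = 2 := Finset.card_pair (Ne.symm hne)
      simp only [SS, List.length_cons]
      rw [h2] at hcd
      omega

theorem exists_sublist_sum (l : List α) (h : ∀ e ∈ l, f e ≠ 0) (hl : p - 1 ≤ l.length)
    (t : ZMod p) : ∃ T : List α, T.Sublist l ∧ (T.map f).sum = t := by
  apply mem_SS
  have hc := card_SS f l h
  have hp := (Fact.out : p.Prime).pos
  have hcard : (SS f l).card = p := by
    apply le_antisymm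
    · calc (SS f l).card ≤ (Finset.univ : Finset (ZMod p)).card := Finset.card_le_univ _
        _ = p := by simp [ZMod.card]
    · have : min p (l.length + 1) = p := by omega
      omega
  have : SS f l = Finset.univ := by
    apply Finset.eq_univ_of_card; rw [hcard, ZMod.card]
  rw [this]; exact Finset.mem_univ _

end subsetsum

section main

set_option linter.unusedSectionVars false

variable {L : Type*} [LieRing L] {p : ℕ}

/-- entries `(w, d, z)`: an element `z` thought of as lying in `lcf N w d` -/
abbrev Ent (L : Type*) (p : ℕ) := ℕ × ZMod p × L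

/-- `fold a [z₁,…,z_r] = ⁅…⁅a, z₁⁆, …, z_r⁆` -/
def fold (a : L) (l : List (Ent L p)) : L := l.foldl (fun x e => ⁅x, e.2.2⁆) a

/-- total weight -/
def wt (l : List (Ent L p)) : ℕ := (l.map (fun e => e.1 + 1)).sum

/-- total degree -/
def dg (l : List (Ent L p)) : ZMod p := (l.map (fun e => e.2.1)).sum

/-- all entries are honest -/
def Ok (N : ZMod p → AddSubgroup L) (l : List (Ent L p)) : Prop :=
  ∀ e ∈ l, e.2.2 ∈ lcf N e.1 e.2.1

@[simp] theorem fold_nil (a : L) : fold a ([] : List (Ent L p)) = a := rfl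

@[simp] theorem fold_cons (a : L) (e : Ent L p) (l : List (Ent L p)) :
    fold a (e :: l) = fold ⁅a, e.2.2⁆ l := rfl

@[simp] theorem fold_append (a : L) (l₁ l₂ : List (Ent L p)) :
    fold a (l₁ ++ l₂) = fold (fold a l₁) l₂ := by
  unfold fold; rw [List.foldl_append]

@[simp] theorem fold_zero (l : List (Ent L p)) : fold (0 : L) l = 0 := by
  induction l with
  | nil => rfl
  | cons e l ih => rw [fold_cons, zero_lie, ih]

theorem fold_add (a b : L) (l : List (Ent L p)) : fold (a + b) l = fold a l + fold b l := by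
  induction l generalizing a b with
  | nil => rfl
  | cons e l ih => rw [fold_cons, fold_cons, fold_cons, add_lie, ih]

theorem fold_neg (a : L) (l : List (Ent L p)) : fold (-a) l = -fold a l := by
  induction l generalizing a with
  | nil => rfl
  | cons e l ih => rw [fold_cons, fold_cons, neg_lie, ih]

@[simp] theorem wt_nil : wt ([] : List (Ent L p)) = 0 := rfl

@[simp] theorem wt_cons (e : Ent L p) (l : List (Ent L p)) : wt (e :: l) = e.1 + 1 + wt l := by
  simp [wt]

@[simp] theorem wt_append (l₁ l₂ : List (Ent L p)) : wt (l₁ ++ l₂) = wt l₁ + wt l₂ := by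
  simp [wt]

@[simp] theorem dg_nil : dg ([] : List (Ent L p)) = 0 := rfl

@[simp] theorem dg_cons (e : Ent L p) (l : List (Ent L p)) : dg (e :: l) = e.2.1 + dg l := by
  simp [dg]

@[simp] theorem dg_append (l₁ l₂ : List (Ent L p)) : dg (l₁ ++ l₂) = dg l₁ + dg l₂ := by
  simp [dg]

theorem wt_perm {l l' : List (Ent L p)} (h : l.Perm l') : wt l = wt l' :=
  (h.map _).sum_eq

theorem dg_perm {l l' : List (Ent L p)} (h : l.Perm l') : dg l = dg l' :=
  (h.map _).sum_eq

variable {N : ZMod p → AddSubgroup L}

theorem Ok_cons {e : Ent L p} {l : List (Ent L p)} :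
    Ok N (e :: l) ↔ e.2.2 ∈ lcf N e.1 e.2.1 ∧ Ok N l := by
  simp [Ok]

theorem Ok_append {l₁ l₂ : List (Ent L p)} : Ok N (l₁ ++ l₂) ↔ Ok N l₁ ∧ Ok N l₂ := by
  simp only [Ok, List.mem_append]
  constructor
  · intro h; exact ⟨fun e he => h e (Or.inl he), fun e he => h e (Or.inr he)⟩
  · rintro ⟨h1, h2⟩ e (he | he)
    · exact h1 e he
    · exact h2 e he

theorem Ok_perm {l l' : List (Ent L p)} (h : l.Perm l') (hl : Ok N l) : Ok N l' :=
  fun e he => hl e (h.mem_iff.mpr he)

theorem fold_mem_der (hN : IsGrading N) {t : ℕ} {l : List (Ent L p)} (hl : Ok N l) {i : ZMod p}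
    {a : L} (ha : a ∈ der N t i) : fold a l ∈ der N t (i + dg l) := by
  induction l generalizing a i with
  | nil => simpa using ha
  | cons e l ih =>
    rw [Ok_cons] at hl
    have h1 : ⁅a, e.2.2⁆ ∈ der N t (i + e.2.1) :=
      lie_mem_der_right hN ha (lcf_le hN _ _ hl.1)
    have h2 := ih hl.2 h1
    rw [fold_cons, dg_cons, ← add_assoc]
    exact h2

theorem wt_le_of_lt {c : ℕ} {l : List (Ent L p)} (h : ∀ e ∈ l, e.1 < c) :
    wt l ≤ l.length * c := by
  induction l with
  | nil => simp
  | cons e l ih =>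
    have h1 := h e List.mem_cons_self
    have h2 := ih (fun e he => h e (List.mem_cons_of_mem _ he))
    rw [wt_cons, List.length_cons, Nat.add_mul]
    omega

/-- adjacent swap: the difference is a product with a merged entry. -/
theorem fold_swap (a : L) (pre l : List (Ent L p)) (x y : Ent L p) :
    fold a (pre ++ x :: y :: l) = fold a (pre ++ y :: x :: l) +
      fold a (pre ++ (x.1 + y.1 + 1, x.2.1 + y.2.1, ⁅x.2.2, y.2.2⁆) :: l) := by
  simp only [fold_append, fold_cons]
  rw [jacobi_right, fold_add]

/-- permutation invariance, given the claim for shorter lists. -/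
theorem perm_invariance (hN : IsGrading N) {s m r : ℕ} {i : ZMod p} {a : L}
    (IH : ∀ l : List (Ent L p), l.length + 1 = r → Ok N l → m ≤ wt l →
      fold a l ∈ der N (s + 1) (i + dg l))
    {l l' : List (Ent L p)} (hp : l.Perm l') :
    ∀ pre : List (Ent L p), Ok N (pre ++ l) → m ≤ wt (pre ++ l) → (pre ++ l).length = r →
      fold a (pre ++ l) ∈ der N (s + 1) (i + dg (pre ++ l)) →
      fold a (pre ++ l') ∈ der N (s + 1) (i + dg (pre ++ l')) := by
  induction hp with
  | nil => intro pre _ _ _ h; exact h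
  | cons x _ ih =>
    intro pre hok hw hlen hQ
    have e1 : ∀ l₀ : List (Ent L p), pre ++ x :: l₀ = (pre ++ [x]) ++ l₀ := fun l₀ => by simp
    rw [e1] at hok hw hlen hQ ⊢
    exact ih (pre ++ [x]) hok hw hlen hQ
  | swap x y l =>
    intro pre hok hw hlen hQ
    rw [fold_swap]
    have hd1 : dg (pre ++ x :: y :: l) = dg (pre ++ y :: x :: l) := by
      simp only [dg_append, dg_cons]; ring
    have hd2 : dg (pre ++ x :: y :: l) =
        dg (pre ++ (x.1 + y.1 + 1, x.2.1 + y.2.1, ⁅x.2.2, y.2.2⁆) :: l) := by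
      simp only [dg_append, dg_cons]; ring
    refine add_mem (hd1 ▸ hQ) ?_
    rw [hd2]
    rw [Ok_append, Ok_cons, Ok_cons] at hok
    apply IH
    · simp only [List.length_append, List.length_cons] at hlen ⊢; omega
    · rw [Ok_append, Ok_cons]
      exact ⟨hok.1, lie_lcf_lcf hN hok.2.2.1 hok.2.1, hok.2.2.2⟩
    · simp only [wt_append, wt_cons] at hw ⊢; omega
  | trans h₁ _ ih₁ ih₂ =>
    intro pre hok hw hlen hQ
    have hp' : (pre ++ _).Perm (pre ++ _) := h₁.append_left pre
    refine ih₂ pre (Ok_perm hp' hok) ?_ ?_ (ih₁ pre hok hw hlen hQ)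
    · rw [← wt_perm hp']; exact hw
    · rw [← hp'.length_eq]; exact hlen

variable [Fact p.Prime]

/-- the main claim `G(r)` -/
theorem main_claim (hN : IsGrading N) {s c : ℕ} (hc : ∀ k, lcf N c k ≤ der N s k) :
    ∀ r, ∀ l : List (Ent L p), l.length = r → Ok N l → (p - 2) * c + 1 ≤ wt l →
      ∀ (i : ZMod p) (a : L), a ∈ der N s i → fold a l ∈ der N (s + 1) (i + dg l) := by
  intro r
  induction r using Nat.strong_induction_on with
  | _ r IH =>
  intro l hlen hok hw i a ha
  by_cases hA : ∃ e ∈ l, c ≤ e.1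
  · -- some entry of weight > c
    obtain ⟨e, he, hce⟩ := hA
    obtain ⟨l₁, l₂, rfl⟩ := List.append_of_mem he
    rw [Ok_append, Ok_cons] at hok
    rw [fold_append, fold_cons]
    have h1 : fold a l₁ ∈ der N s (i + dg l₁) := fold_mem_der hN hok.1 ha
    have h2 : e.2.2 ∈ der N s e.2.1 := hc _ (lcf_anti hN hce _ hok.2.1)
    have h3 := lie_mem_der_succ h1 h2
    have h4 := fold_mem_der hN hok.2.2 h3
    have e1 : i + dg l₁ + e.2.1 + dg l₂ = i + dg (l₁ ++ e :: l₂) := by
      simp only [dg_append, dg_cons]; ring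
    rw [e1] at h4
    exact h4
  · push Not at hA
    by_cases hi : i = 0
    · subst hi
      rw [der_zero_comp hN s, AddSubgroup.mem_bot] at ha
      subst ha
      rw [fold_zero]; exact zero_mem _
    by_cases hd : ∃ e ∈ l, e.2.1 = 0
    · obtain ⟨e, he, hde⟩ := hd
      obtain ⟨l₁, l₂, rfl⟩ := List.append_of_mem he
      rw [Ok_append, Ok_cons] at hok
      have h0 : e.2.2 = 0 := by
        have := lcf_le hN _ _ hok.2.1
        rw [hde, hN.zero, AddSubgroup.mem_bot] at this
        exact this
      rw [fold_append, fold_cons, h0, lie_zero, fold_zero]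
      exact zero_mem _
    · push Not at hd
      have hwl := wt_le_of_lt hA
      have hlen' : p - 1 ≤ l.length := by
        by_contra hcon
        have h1 : l.length ≤ p - 2 := by omega
        have h2 := Nat.mul_le_mul_right c h1
        omega
      obtain ⟨T, hT, hsum⟩ :=
        exists_sublist_sum (fun e : Ent L p => e.2.1) l hd hlen' (-i)
      obtain ⟨l'', hperm⟩ := hT.exists_perm_append
      have hTdg : dg T = -i := hsum
      have hokT : Ok N (T ++ l'') := Ok_perm hperm hok
      have hQ : fold a ([] ++ (T ++ l'')) ∈ der N (s + 1) (i + dg ([] ++ (T ++ l''))) := by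
        rw [List.nil_append, fold_append]
        have h1 : fold a T ∈ der N s (i + dg T) := fold_mem_der hN (Ok_append.mp hokT).1 ha
        rw [hTdg, add_neg_cancel, der_zero_comp hN s, AddSubgroup.mem_bot] at h1
        rw [h1, fold_zero]; exact zero_mem _
      have hT_ne : T ≠ [] := by
        rintro rfl
        simp only [dg_nil] at hTdg
        exact hi (neg_eq_zero.mp hTdg.symm)
      have := perm_invariance (N := N) hN (s := s) (m := (p - 2) * c + 1) (r := r) (i := i) (a := a)
        (fun l₀ hl₀ hok₀ hw₀ => IH l₀.length (by omega) l₀ rfl hok₀ hw₀ i a ha)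
        hperm.symm [] (by simpa using hokT) (by rw [List.nil_append, ← wt_perm hperm]; exact hw)
        (by rw [List.nil_append, ← hperm.length_eq]; exact hlen) hQ
      simpa using this

theorem step_aux (hN : IsGrading N) {s c : ℕ} (hc : ∀ k, lcf N c k ≤ der N s k) :
    ∀ (m' : ℕ) (k : ZMod p) (x : L), x ∈ lcf N (c + m') k → ∀ l : List (Ent L p), Ok N l →
      (p - 2) * c + 1 ≤ m' + wt l → fold x l ∈ der N (s + 1) (k + dg l) := by
  intro m'
  induction m' with
  | zero =>
    intro k x hx l hl hw
    exact main_claim hN hc l.length l rfl hl (by simpa using hw) k x (hc _ hx)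
  | succ m' ih =>
    intro k x hx l hl hw
    rw [← add_assoc, lcf_succ'] at hx
    revert hx
    refine brk_induction (P := fun x => fold x l ∈ der N (s + 1) (k + dg l)) ?_ ?_ ?_ ?_ x
    · rw [fold_zero]; exact zero_mem _
    · intro a b ha hb; rw [fold_add]; exact add_mem ha hb
    · intro a ha; rw [fold_neg]; exact neg_mem ha
    · intro i' j' hij u hu v hv
      have hl' : Ok N ((0, j', v) :: l) := Ok_cons.mpr ⟨hv, hl⟩
      have := ih i' u hu ((0, j', v) :: l) hl' (by rw [wt_cons]; omega)
      rw [fold_cons, dg_cons, ← add_assoc, hij] at this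
      exact this

theorem xi_succ (p s : ℕ) (hp : 2 ≤ p) : xi p (s + 1) = xi p s + ((p - 2) * xi p s + 1) := by
  unfold xi
  rw [Finset.sum_range_succ']
  have h1 : ∑ k ∈ Finset.range s, (p - 1) ^ (k + 1) = (p - 1) * ∑ k ∈ Finset.range s, (p - 1) ^ k := by
    rw [Finset.mul_sum]; exact Finset.sum_congr rfl (fun k _ => by rw [pow_succ, mul_comm])
  rw [h1, pow_zero]
  have h2 : p - 1 = (p - 2) + 1 := by omega
  rw [h2, Nat.add_mul, one_mul]
  ring

/-- **Kreknin–Kostrikin step**: `γ_{ξ_p(s)+1} ≤ L^{(s)}` for a `ZMod p`-graded Lie ring with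
trivial zero component. -/
theorem kk {L : Type*} [LieRing L] {p : ℕ} [Fact p.Prime] (N : ZMod p → AddSubgroup L)
    (hN : IsGrading N) (s : ℕ) (k : ZMod p) : lcf N (xi p s) k ≤ der N s k := by
  induction s generalizing k with
  | zero => simp [xi]
  | succ s ih =>
    intro x hx
    rw [xi_succ p s (Fact.out : p.Prime).two_le] at hx
    have := step_aux hN ih _ k x hx [] (fun _ h => by simp at h) (by simp)
    simpa using this

end main

end Cfsg.Agent.Helper8.KrekKost
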