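import Mathlib

/-!
# Kreknin's theorem on `(ℤ/n)`-graded Lie rings with trivial zero component

A Lie ring `L` with additive subgroups `A i` (`i : ZMod n`) such that `A 0 = ⊥` and
`⁅A i, A j⁆ ⊆ A (i + j)`.  The homogeneous pieces `D A m i` of the `m`-th derived term
vanish for `m = 2 ^ (n - 1) - 1`.
-/

set_option linter.unusedSectionVars false

namespace Cfsg.Agent.Helper8.Kreknin

variable {L : Type*} [LieRing L] {n : ℕ} [NeZero n]

/-- A family of additive subgroups indexed by `ZMod n`, closed under the bracket in the graded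
sense, with trivial zero component. (No directness or spanning is assumed.) -/
structure IsGrading (A : ZMod n → AddSubgroup L) : Prop where
  zero : A 0 = ⊥
  lie_mem : ∀ {i j : ZMod n} {x y : L}, x ∈ A i → y ∈ A j → ⁅x, y⁆ ∈ A (i + j)

/-- The degree-`i` piece of the `m`-th derived term. -/
def D (A : ZMod n → AddSubgroup L) : ℕ → ZMod n → AddSubgroup L
  | 0, i => A i
  | m + 1, i => AddSubgroup.closure
      {z | ∃ a b : ZMod n, a + b = i ∧ ∃ u ∈ D A m a, ∃ v ∈ D A m b, z = ⁅u, v⁆}

theorem D_zero (A : ZMod n → AddSubgroup L) (i : ZMod n) : D A 0 i = A i := rfl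

theorem D_succ (A : ZMod n → AddSubgroup L) (m : ℕ) (i : ZMod n) :
    D A (m + 1) i = AddSubgroup.closure
      {z | ∃ a b : ZMod n, a + b = i ∧ ∃ u ∈ D A m a, ∃ v ∈ D A m b, z = ⁅u, v⁆} := rfl

theorem lie_mem_D_succ (A : ZMod n → AddSubgroup L) {m : ℕ} {a b : ZMod n} {u v : L}
    (hu : u ∈ D A m a) (hv : v ∈ D A m b) : ⁅u, v⁆ ∈ D A (m + 1) (a + b) := by
  rw [D_succ]
  exact AddSubgroup.subset_closure ⟨a, b, rfl, u, hu, v, hv, rfl⟩

theorem D_succ_le {A : ZMod n → AddSubgroup L} (hA : IsGrading A) (m : ℕ) :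
    ∀ i : ZMod n, D A (m + 1) i ≤ D A m i := by
  induction m with
  | zero =>
    intro i
    rw [D_succ, AddSubgroup.closure_le]
    rintro z ⟨a, b, rfl, u, hu, v, hv, rfl⟩
    exact hA.lie_mem hu hv
  | succ m ih =>
    intro i
    rw [D_succ, AddSubgroup.closure_le]
    rintro z ⟨a, b, rfl, u, hu, v, hv, rfl⟩
    exact lie_mem_D_succ A (ih a hu) (ih b hv)

theorem D_antitone {A : ZMod n → AddSubgroup L} (hA : IsGrading A) {m m' : ℕ} (h : m ≤ m')
    (i : ZMod n) : D A m' i ≤ D A m i := by
  induction h with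
  | refl => exact le_rfl
  | step _ ih => exact (D_succ_le hA _ i).trans ih

theorem D_le {A : ZMod n → AddSubgroup L} (hA : IsGrading A) (m : ℕ) (i : ZMod n) :
    D A m i ≤ A i := D_antitone hA (Nat.zero_le m) i

theorem isGrading_D {A : ZMod n → AddSubgroup L} (hA : IsGrading A) (d : ℕ) :
    IsGrading (D A d) where
  zero := by
    rw [eq_bot_iff, ← hA.zero]
    exact D_le hA d 0
  lie_mem := fun hx hy => D_succ_le hA d _ (lie_mem_D_succ A hx hy)

theorem D_D (A : ZMod n → AddSubgroup L) (d m : ℕ) (i : ZMod n) :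
    D (D A d) m i = D A (d + m) i := by
  induction m generalizing i with
  | zero => rfl
  | succ m ih =>
    rw [D_succ, ← Nat.add_assoc, D_succ]
    congr 1
    ext z
    constructor
    · rintro ⟨a, b, hab, u, hu, v, hv, rfl⟩
      exact ⟨a, b, hab, u, (ih a) ▸ hu, v, (ih b) ▸ hv, rfl⟩
    · rintro ⟨a, b, hab, u, hu, v, hv, rfl⟩
      exact ⟨a, b, hab, u, (ih a).symm ▸ hu, v, (ih b).symm ▸ hv, rfl⟩

/-- `InS A k i x`: `x` is a homogeneous element of degree `i` of the subring generated by the
components `A t` with `k ≤ t.val`. -/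
inductive InS (A : ZMod n → AddSubgroup L) (k : ℕ) : ZMod n → L → Prop
  | gen {t : ZMod n} {x : L} : k ≤ t.val → x ∈ A t → InS A k t x
  | lie {a b : ZMod n} {x y : L} : InS A k a x → InS A k b y → InS A k (a + b) ⁅x, y⁆
  | add {i : ZMod n} {x y : L} : InS A k i x → InS A k i y → InS A k i (x + y)
  | neg {i : ZMod n} {x : L} : InS A k i x → InS A k i (-x)
  | zero {i : ZMod n} : InS A k i 0

theorem InS.mem {A : ZMod n → AddSubgroup L} (hA : IsGrading A) {k : ℕ} {i : ZMod n} {x : L}
    (h : InS A k i x) : x ∈ A i := by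
  induction h with
  | gen _ hx => exact hx
  | lie _ _ ihx ihy => exact hA.lie_mem ihx ihy
  | add _ _ ihx ihy => exact add_mem ihx ihy
  | neg _ ihx => exact neg_mem ihx
  | zero => exact zero_mem _

theorem InS.eq_zero {A : ZMod n → AddSubgroup L} {k : ℕ}
    (hgen : ∀ t : ZMod n, k ≤ t.val → A t = ⊥) {i : ZMod n} {x : L} (h : InS A k i x) :
    x = 0 := by
  induction h with
  | gen ht hx =>
    rw [hgen _ ht] at hx
    exact (AddSubgroup.mem_bot).mp hx
  | lie _ _ ihx ihy => rw [ihx, ihy, lie_zero]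
  | add _ _ ihx ihy => rw [ihx, ihy, add_zero]
  | neg _ ihx => rw [ihx, neg_zero]
  | zero => rfl

/-- Transfer between generating families. -/
theorem InS.transfer {A A' : ZMod n → AddSubgroup L} {k k' : ℕ}
    (hgen : ∀ (t : ZMod n) (y : L), k' ≤ t.val → y ∈ A' t → InS A k t y) {i : ZMod n} {x : L}
    (h : InS A' k' i x) : InS A k i x := by
  induction h with
  | gen ht hx => exact hgen _ _ ht hx
  | lie _ _ ihx ihy => exact InS.lie ihx ihy
  | add _ _ ihx ihy => exact InS.add ihx ihy
  | neg _ ihx => exact InS.neg ihx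
  | zero => exact InS.zero

theorem InS.of_mem_closure {A : ZMod n → AddSubgroup L} {k : ℕ} {i : ZMod n} {s : Set L}
    (hs : ∀ z ∈ s, InS A k i z) {x : L} (hx : x ∈ AddSubgroup.closure s) : InS A k i x := by
  induction hx using AddSubgroup.closure_induction with
  | mem z hz => exact hs z hz
  | zero => exact InS.zero
  | add a b _ _ iha ihb => exact InS.add iha ihb
  | neg a _ iha => exact InS.neg iha


/-- Arithmetic in `ZMod n`: if `a + t = k` with `k < t.val` then `k + 1 ≤ a.val`. -/
theorem val_ge_of_add_eq {k : ℕ} {a t : ZMod n} (hab : a + t = (k : ZMod n))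
    (hkt : k < t.val) : k + 1 ≤ a.val := by
  have htn : t.val < n := ZMod.val_lt t
  have ha : a = ((n + k - t.val : ℕ) : ZMod n) := by
    have ht : ((t.val : ℕ) : ZMod n) = t := ZMod.natCast_zmod_val t
    have h1 : ((n + k - t.val : ℕ) : ZMod n) + t = (k : ZMod n) := by
      have e : n + k - t.val + t.val = n + k := by omega
      calc ((n + k - t.val : ℕ) : ZMod n) + t
          = ((n + k - t.val : ℕ) : ZMod n) + ((t.val : ℕ) : ZMod n) := by rw [ht]
        _ = ((n + k - t.val + t.val : ℕ) : ZMod n) := by rw [Nat.cast_add]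
        _ = (k : ZMod n) := by rw [e, Nat.cast_add, ZMod.natCast_self, zero_add]
    have := hab.trans h1.symm
    exact add_right_cancel this
  rw [ha, ZMod.val_natCast, Nat.mod_eq_of_lt (by omega)]
  omega

/-- **Claim (C)**: `ad v`, for `v` in the subring generated by degrees `≥ k`, maps the piece of
complementary degree into the subring generated by degrees `≥ k + 1`. -/
theorem claimC {A : ZMod n → AddSubgroup L} (hA : IsGrading A) (k : ℕ) {b : ZMod n} {v : L}
    (hv : InS A k b v) : ∀ {a : ZMod n} {u : L}, InS A k a u → a + b = (k : ZMod n) →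
      InS A (k + 1) (a + b) ⁅u, v⁆ := by
  induction hv with
  | @gen t v ht hv =>
    intro a u hu hab
    rcases Nat.eq_or_lt_of_le ht with hkt | hkt
    · -- `t.val = k`, so `a = 0` and `u = 0`
      have ht' : (k : ZMod n) = t := by rw [hkt, ZMod.natCast_zmod_val]
      have ha : a = 0 := by
        rw [ht'] at hab
        exact add_eq_right.mp hab
      have hu0 : u = 0 := by
        have := hu.mem hA
        rw [ha, hA.zero] at this
        exact (AddSubgroup.mem_bot).mp this
      rw [hu0, zero_lie]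
      exact InS.zero
    · have hak : k + 1 ≤ a.val := val_ge_of_add_eq hab hkt
      exact InS.lie (InS.gen hak (hu.mem hA)) (InS.gen hkt hv)
  | @lie b1 b2 v1 v2 _ _ ih1 ih2 =>
    intro a u hu hab
    have e : ⁅u, ⁅v1, v2⁆⁆ = ⁅⁅u, v1⁆, v2⁆ + -⁅⁅u, v2⁆, v1⁆ := by
      rw [leibniz_lie u v1 v2, ← lie_skew v1 ⁅u, v2⁆]
    rw [e]
    have h1 : InS A (k + 1) ((a + b1) + b2) ⁅⁅u, v1⁆, v2⁆ :=
      ih2 (InS.lie hu ‹InS A k b1 v1›) (by rw [← hab]; ring)
    have h2 : InS A (k + 1) ((a + b2) + b1) ⁅⁅u, v2⁆, v1⁆ :=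
      ih1 (InS.lie hu ‹InS A k b2 v2›) (by rw [← hab]; ring)
    have e1 : (a + b1) + b2 = a + (b1 + b2) := by ring
    have e2 : (a + b2) + b1 = a + (b1 + b2) := by ring
    rw [e1] at h1
    rw [e2] at h2
    exact InS.add h1 (InS.neg h2)
  | @add b v1 v2 _ _ ih1 ih2 =>
    intro a u hu hab
    rw [lie_add]
    exact InS.add (ih1 hu hab) (ih2 hu hab)
  | @neg b v1 _ ih1 =>
    intro a u hu hab
    rw [lie_neg]
    exact InS.neg (ih1 hu hab)
  | @zero b =>
    intro a u hu hab
    rw [lie_zero]
    exact InS.zero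


theorem eq_zero_of_val_eq_zero {a : ZMod n} (h : a.val = 0) : a = 0 := by
  rw [← ZMod.natCast_zmod_val a, h, Nat.cast_zero]

theorem two_pow_succ' (m : ℕ) : 2 ^ (m + 1) = 2 ^ m + 2 ^ m := by
  rw [pow_succ]; ring

theorem sub_split {a b c : ℕ} (h1 : b = c + c) (h2 : b ≤ a) : a - c = (a - b) + c := by omega

/-- **Lemma (P_k)**: the degree-`k` piece of the `2^(k-1)`-th derived term lies in the subring
generated by the components of degree `> k`. (Stated with `k = m + 1`.) -/
theorem claimP' : ∀ (m : ℕ), m + 1 < n → ∀ (A : ZMod n → AddSubgroup L), IsGrading A →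
    ∀ x ∈ D A (2 ^ m) ((m + 1 : ℕ) : ZMod n), InS A (m + 2) ((m + 1 : ℕ) : ZMod n) x := by
  intro m
  induction m using Nat.strong_induction_on with
  | _ m IH =>
  intro hkn A hA
  -- sub-claim, by downward induction on the degree `i + 1` (`i + j = m`)
  have Q : ∀ j i : ℕ, i + j = m → ∀ t : ZMod n, t.val = i + 1 →
      ∀ x ∈ D A (2 ^ m - 2 ^ i) t, InS A (m + 1) t x := by
    intro j
    induction j using Nat.strong_induction_on with
    | _ j IHj =>
    intro i hij t ht x hx
    rcases Nat.eq_zero_or_pos j with rfl | hjpos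
    · -- degree `m + 1`: a generator
      have : i = m := by omega
      subst this
      exact InS.gen (le_of_eq ht.symm) (D_le hA _ t hx)
    · -- degree `i + 1 < m + 1`
      have him : i < m := by omega
      have hpow : 2 ^ (i + 1) ≤ 2 ^ m := Nat.pow_le_pow_right (by norm_num) (by omega)
      have hpow2 := two_pow_succ' i
      have hd : 2 ^ m - 2 ^ i = (2 ^ m - 2 ^ (i + 1)) + 2 ^ i := sub_split hpow2 hpow
      rw [hd, ← D_D] at hx
      have hti : ((i + 1 : ℕ) : ZMod n) = t := by rw [← ht, ZMod.natCast_zmod_val]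
      rw [← hti] at hx
      have hP := IH i him (by omega) (D A (2 ^ m - 2 ^ (i + 1))) (isGrading_D hA _) x hx
      rw [hti] at hP
      refine InS.transfer ?_ hP
      intro t' y ht' hy
      by_cases hkt' : m + 1 ≤ t'.val
      · exact InS.gen hkt' (D_le hA _ t' hy)
      · -- `i + 2 ≤ t'.val ≤ m`: use the downward induction
        obtain ⟨i', hi'⟩ : ∃ i', t'.val = i' + 1 := ⟨t'.val - 1, by omega⟩
        have hj' : m - i' < j := by omega
        refine IHj (m - i') hj' i' (by omega) t' hi' y ?_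
        have hpow3 : 2 ^ (i + 1) ≤ 2 ^ i' := Nat.pow_le_pow_right (by norm_num) (by omega)
        exact D_antitone hA (Nat.sub_le_sub_left hpow3 _) t' hy
  -- the elements of `R = L^(2^m - 1)` lie in `S_{m+1}`
  have hR : ∀ (a : ZMod n) (u : L), u ∈ D A (2 ^ m - 1) a → InS A (m + 1) a u := by
    intro a u hu
    by_cases ha0 : a.val = 0
    · have : u = 0 := by
        have h := D_le hA _ a hu
        rw [eq_zero_of_val_eq_zero ha0, hA.zero] at h
        exact (AddSubgroup.mem_bot).mp h
      rw [this]; exact InS.zero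
    · by_cases hak : m + 1 ≤ a.val
      · exact InS.gen hak (D_le hA _ a hu)
      · obtain ⟨i', hi'⟩ : ∃ i', a.val = i' + 1 := ⟨a.val - 1, by omega⟩
        refine Q (m - i') i' (by omega) a hi' u ?_
        have h1 : 1 ≤ 2 ^ i' := Nat.one_le_two_pow
        exact D_antitone hA (Nat.sub_le_sub_left h1 _) a hu
  intro x hx
  have hpos : 2 ^ m = (2 ^ m - 1) + 1 := by
    have : 1 ≤ 2 ^ m := Nat.one_le_two_pow
    omega
  rw [hpos, D_succ] at hx
  refine InS.of_mem_closure ?_ hx
  rintro z ⟨a, b, hab, u, hu, v, hv, rfl⟩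
  have := claimC hA (m + 1) (hR b v hv) (hR a u hu) hab
  rwa [hab] at this

/-- **Kreknin's theorem** (homogeneous form): all homogeneous pieces of the
`(2^(n-1) - 1)`-th derived term vanish. -/
theorem D_eq_bot {A : ZMod n → AddSubgroup L} (hA : IsGrading A) (i : ZMod n) :
    D A (2 ^ (n - 1) - 1) i = ⊥ := by
  have hn : 0 < n := Nat.pos_of_ne_zero (NeZero.ne n)
  have T : ∀ j m : ℕ, j + m = n - 1 → ∀ t : ZMod n, (t = 0 ∨ m + 1 ≤ t.val) →
      D A (2 ^ (n - 1) - 2 ^ m) t = ⊥ := by
    intro j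
    induction j with
    | zero =>
      intro m hm t ht
      rcases ht with rfl | ht
      · rw [eq_bot_iff, ← hA.zero]; exact D_le hA _ 0
      · have := ZMod.val_lt t
        omega
    | succ j ih =>
      intro m hm t ht
      have ihj := ih (m + 1) (by omega)
      rcases ht with rfl | ht
      · rw [eq_bot_iff, ← hA.zero]; exact D_le hA _ 0
      · have hpow : 2 ^ (m + 1) ≤ 2 ^ (n - 1) := Nat.pow_le_pow_right (by norm_num) (by omega)
        have hpow2 := two_pow_succ' m
        by_cases htj : m + 2 ≤ t.val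
        · rw [eq_bot_iff, ← ihj t (Or.inr htj)]
          have hmm : 2 ^ m ≤ 2 ^ (m + 1) := Nat.pow_le_pow_right (by norm_num) (by omega)
          exact D_antitone hA (Nat.sub_le_sub_left hmm _) t
        · -- `t.val = m + 1`
          have htk : t.val = m + 1 := by omega
          have hd : 2 ^ (n - 1) - 2 ^ m = (2 ^ (n - 1) - 2 ^ (m + 1)) + 2 ^ m :=
            sub_split hpow2 hpow
          rw [eq_bot_iff]
          intro x hx
          rw [hd, ← D_D] at hx
          have hti : ((m + 1 : ℕ) : ZMod n) = t := by rw [← htk, ZMod.natCast_zmod_val]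
          rw [← hti] at hx
          have hP := claimP' m (by omega) (D A (2 ^ (n - 1) - 2 ^ (m + 1)))
            (isGrading_D hA _) x hx
          have hx0 : x = 0 := by
            refine InS.eq_zero ?_ hP
            intro t' ht'
            exact ihj t' (Or.inr (by omega))
          rw [hx0]
          exact zero_mem _
  have := T (n - 1) 0 (by omega) i (by
    by_cases hi : i.val = 0
    · exact Or.inl (eq_zero_of_val_eq_zero hi)
    · exact Or.inr (by omega))
  rwa [pow_zero] at this


/-- The `m`-th derived term lies in the sum of the homogeneous pieces `D A m i`. -/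
theorem derivedSeries_le_iSup {A : ZMod n → AddSubgroup L} (hspan : ⨆ i, A i = ⊤) (m : ℕ) :
    ∀ x ∈ LieAlgebra.derivedSeries ℤ L m, x ∈ ⨆ i, D A m i := by
  induction m with
  | zero =>
    intro x _
    have : (⨆ i, D A 0 i) = ⨆ i, A i := rfl
    rw [this, hspan]
    exact AddSubgroup.mem_top x
  | succ m ih =>
    intro x hx
    rw [LieAlgebra.derivedSeries_def, LieAlgebra.derivedSeriesOfIdeal_succ,
      ← LieAlgebra.derivedSeries_def] at hx
    have hx' : x ∈ LieSubmodule.toSubmodule (⁅LieAlgebra.derivedSeries ℤ L m,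
        LieAlgebra.derivedSeries ℤ L m⁆ : LieIdeal ℤ L) := hx
    rw [LieSubmodule.lieIdeal_oper_eq_linear_span'] at hx'
    have key : ∀ a ∈ (⨆ i, D A m i), ∀ b ∈ (⨆ i, D A m i), ⁅a, b⁆ ∈ ⨆ i, D A (m + 1) i := by
      intro a ha b hb
      refine AddSubgroup.iSup_induction (fun i => D A m i)
        (C := fun a => ⁅a, b⁆ ∈ ⨆ i, D A (m + 1) i) ha ?_ ?_ ?_
      · intro i a ha
        refine AddSubgroup.iSup_induction (fun i => D A m i)
          (C := fun b => ⁅a, b⁆ ∈ ⨆ i, D A (m + 1) i) hb ?_ ?_ ?_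
        · intro j b hb
          exact AddSubgroup.mem_iSup_of_mem (i + j) (lie_mem_D_succ A ha hb)
        · show ⁅a, (0 : L)⁆ ∈ _
          rw [lie_zero]; exact zero_mem _
        · intro b1 b2 ih1 ih2
          show ⁅a, b1 + b2⁆ ∈ _
          rw [lie_add]; exact add_mem ih1 ih2
      · show ⁅(0 : L), b⁆ ∈ _
        rw [zero_lie]; exact zero_mem _
      · intro a1 a2 ih1 ih2
        show ⁅a1 + a2, b⁆ ∈ _
        rw [add_lie]; exact add_mem ih1 ih2
    clear hx
    induction hx' using Submodule.span_induction with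
    | mem z hz =>
      obtain ⟨a, ha, b, hb, rfl⟩ := hz
      exact key a (ih a ha) b (ih b hb)
    | zero => exact zero_mem _
    | add y z _ _ ihy ihz => exact add_mem ihy ihz
    | smul c y _ ihy => exact zsmul_mem ihy c

/-- **Kreknin's theorem**: a Lie ring spanned by a `(ℤ/n)`-grading with trivial zero component
is solvable of derived length at most `2^(n-1) - 1`. -/
theorem derivedSeries_eq_bot {A : ZMod n → AddSubgroup L} (hA : IsGrading A)
    (hspan : ⨆ i, A i = ⊤) : LieAlgebra.derivedSeries ℤ L (2 ^ (n - 1) - 1) = ⊥ := by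
  rw [LieSubmodule.eq_bot_iff]
  intro x hx
  have h := derivedSeries_le_iSup hspan _ x hx
  have hbot : (⨆ i, D A (2 ^ (n - 1) - 1) i) = ⊥ := by
    simp only [D_eq_bot hA, iSup_bot]
  rw [hbot] at h
  exact (AddSubgroup.mem_bot).mp h

end Cfsg.Agent.Helper8.Kreknin
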