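import Mathlib
import Cfsg.Prelude.Def_GeometricClasses
import Cfsg.Agent.Helper28.OrthSim10
import Cfsg.Agent.Helper8.OS6Defs
import Cfsg.Agent.Helper28.OS6FIRST
import Cfsg.Agent.Helper3.OS6SPSEED
import Cfsg.Agent.Helper23.OS6SPSCAL
import Cfsg.Agent.Helper22.OS6SPTRANS
import Cfsg.Agent.Helper22.OS6SPFULL1
import Cfsg.Agent.Helper22.OS6SPFULL2
import Cfsg.Agent.Helper25.OS6NOTSIM
import Cfsg.Agent.Helper20.OS6SPALL
import Cfsg.Agent.Helper10.OS6SPSPAN

set_option autoImplicit false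

/-! S5798 (sl6 table): the orthogonal similarity group is maximal in `SL_n(q)`, `q` odd, `n ≥ 6`
(final assembly of the os6 project: chapters FIRST (helper28) and SPREAD (helper8's board)). -/

namespace Cfsg.Agent.OS6P

open Matrix Module Cfsg.Agent.Helper28.Sg Cfsg.Agent.Helper28.Spin Cfsg.Agent.Helper28.SLMax
  Cfsg.Agent.Helper28.SimMax Cfsg.Agent.Helper28.OSim

variable {F : Type*} [Field F] {n : ℕ} {Q : QuadraticForm F (Fin n → F)}

/-- chapter SPREAD: one nontrivial transvection with nonsingular centre in `M ≥ CO(Q) ∩ SL` gives all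
transvections. -/
theorem SPREAD.main [Finite F] (h2 : (2 : F) ≠ 0) (hQ : (QuadraticMap.polarBilin Q).Nondegenerate)
    (hn : 6 ≤ n) (M : Subgroup (Matrix.GeneralLinearGroup (Fin n) F))
    (hHM : Cfsg.Geo.quadSimilarityGroup (⇑Q) ⊓ SL n F ≤ M) {e φ : Fin n → F}
    (he : Q e ≠ 0) (hφe : φ ⬝ᵥ e = 0) (hφ0 : φ ≠ 0) (hE : E e φ ∈ MS M) :
    ∀ w ψ : Fin n → F, ψ ⬝ᵥ w = 0 → E w ψ ∈ MS M := by
  classical
  obtain ⟨z, hz, hez, hzΦ⟩ := SPSEED.main h2 hQ hHM he hφe hφ0 hE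
  have hzΨ : z ∈ Psi Q M e := SPSCAL.main h2 hQ (by omega) hHM he hz hez hzΦ
  have hall := SPALL.main h2 hQ (by omega) hHM he hz hez hzΨ
  have heF : e ∈ Full M := by
    intro ψ hψ
    obtain ⟨d, rfl⟩ := pv_surj hQ ψ
    rw [pv_dot, B_comm] at hψ
    have := hall d hψ 1
    rw [one_smul] at this
    exact this.2
  have hnorm : ∀ e' : Fin n → F, Q e' = Q e → e' ∈ Full M := fun e' he' =>
    SPTRANS.main h2 hQ (by omega) hHM he he' heF
  have hsub : ∀ w ∈ Submodule.span F {e' : Fin n → F | Q e' = Q e}, w ∈ Full M := by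
    intro w hw
    induction hw using Submodule.span_induction with
    | mem x hx => exact hnorm x hx
    | zero =>
      have := SPFULL1.smul (M := M) (0 : F) heF
      rwa [zero_smul] at this
    | add x y _ _ hx hy => exact SPFULL2.add hx hy
    | smul a x _ hx => exact SPFULL1.smul a hx
  intro w ψ hψ
  exact hsub w (SPSPAN.main h2 hQ (by omega) he w) ψ hψ

/-- **The similarity group of a non-degenerate quadratic form is maximal in `SL_n(F)`**, `|F|` odd,
`n ≥ 6`. -/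
theorem osim_maximal_six [Fintype F] (h2 : (2 : F) ≠ 0)
    (hQ : (QuadraticMap.polarBilin Q).Nondegenerate) (hn : 6 ≤ n) :
    Cfsg.Geo.IsMaximalIn (SL n F) (Cfsg.Geo.quadSimilarityGroup (⇑Q) ⊓ SL n F) := by
  classical
  refine ⟨lt_of_le_of_ne inf_le_right ?_, ?_⟩
  · intro heq
    obtain ⟨g, hg1, hg2⟩ := NOTSIM.main (Q := Q) h2 hQ (by omega)
    apply hg2
    have : g ∈ Cfsg.Geo.quadSimilarityGroup (⇑Q) ⊓ SL n F := by rw [heq]; exact hg1
    exact this.1
  · intro M hPM hMS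
    by_cases hMP : M ≤ Cfsg.Geo.quadSimilarityGroup (⇑Q) ⊓ SL n F
    · left; exact le_antisymm hMP hPM
    right
    refine le_antisymm hMS ?_
    obtain ⟨g, hgM, hgP⟩ := SetLike.not_le_iff_exists.mp hMP
    have hgS : g ∉ Cfsg.Geo.quadSimilarityGroup (⇑Q) := fun h' => hgP ⟨h', hMS hgM⟩
    obtain ⟨e, φ, he, hφe, hφ0, hE⟩ := FIRST.main h2 hQ hn M hPM g hgM hgS
    have hall := SPREAD.main h2 hQ hn M hPM he hφe hφ0 hE
    apply SL_le_of_transvections (by omega)
    intro v φ hφ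
    exact Eg_mem_of_MS _ _ _ (hall v φ hφ)

/-- function-level form (the shape of the `cmax5_sl6` conjunct): `n ≥ 6`, `|F|` odd -/
theorem osim_maximal_fun_ge_six {F : Type*} [Field F] [Fintype F] (n : ℕ) (hn : 6 ≤ n)
    (hodd : Odd (Fintype.card F)) (Q : (Fin n → F) → F)
    (hQ : Cfsg.Geo.IsNondegenerateQuadraticForm Q) :
    Cfsg.Geo.IsMaximalIn (Cfsg.Geo.specialLinear (Fin n) F)
      (Cfsg.Geo.quadSimilarityGroup Q ⊓ Cfsg.Geo.specialLinear (Fin n) F) := by
  classical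
  have h2 : (2 : F) ≠ 0 := by
    intro h
    obtain ⟨p, hp⟩ := CharP.exists F
    have hp2 : p = 2 := by
      have : ((2 : ℕ) : F) = 0 := by exact_mod_cast h
      have hdvd := (CharP.cast_eq_zero_iff F p 2).mp this
      have hprime := CharP.char_is_prime F p
      exact (Nat.prime_dvd_prime_iff_eq hprime Nat.prime_two).mp hdvd
    subst hp2
    obtain ⟨k, hk⟩ := FiniteField.card F 2
    have hk' := hk.2
    rw [hk'] at hodd
    have hk0 : (k : ℕ) ≠ 0 := k.ne_zero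
    exact (Nat.not_odd_iff_even.mpr (Nat.even_pow.mpr ⟨even_two, hk0⟩)) hodd
  exact osim_maximal_six (Q := Cfsg.Agent.Helper28.NM.ofFun Q hQ) h2
    (Cfsg.Agent.Helper28.NM.ofFun_nondeg Q hQ) hn

/-- the conjunct of the `sl6` table (S5798): `n = 6` -/
theorem osim_maximal_fun_six {F : Type*} [Field F] [Fintype F]
    (hodd : Odd (Fintype.card F)) (Q : (Fin 6 → F) → F)
    (hQ : Cfsg.Geo.IsNondegenerateQuadraticForm Q) :
    Cfsg.Geo.IsMaximalIn (Cfsg.Geo.specialLinear (Fin 6) F)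
      (Cfsg.Geo.quadSimilarityGroup Q ⊓ Cfsg.Geo.specialLinear (Fin 6) F) :=
  osim_maximal_fun_ge_six 6 le_rfl hodd Q hQ

end Cfsg.Agent.OS6P
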