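import Mathlib
import Cfsg.Agent.Helper28.OrthSim1
import Cfsg.Agent.Helper28.OS6Geo
import Cfsg.Agent.Helper6.OS6FirstDefs

/-! os6 (S5798) chapter FIRST, piece FTRANS (helper8): LEMMA T. -/

set_option autoImplicit false
set_option linter.unusedSectionVars false

namespace Cfsg.Agent.OS6P

open Matrix Module Cfsg.Agent.Helper28.Sg Cfsg.Agent.Helper28.Spin Cfsg.Agent.Helper28.SLMax
  Cfsg.Agent.Helper28.SimMax Cfsg.Agent.Helper28.OSim

variable {F : Type*} [Field F] {n : ℕ} {Q : QuadraticForm F (Fin n → F)}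

theorem FTRANS.R_eq (z : Fin n → F) : FIRST.R Q z = GEO.R Q z := rfl

theorem FTRANS.R_sq {z : Fin n → F} (hz : Q z ≠ 0) : FIRST.R Q z * FIRST.R Q z = 1 := by
  apply Cfsg.Agent.Helper28.Spin.matrix_ext_mulVec
  intro x
  rw [← Matrix.mulVec_mulVec, FTRANS.R_eq, GEO.R_mulVec, GEO.R_mulVec, GEO.B_sub_right,
    GEO.B_smul_right, B_self, Matrix.one_mulVec]
  have : (Q z)⁻¹ * (B Q z x - (Q z)⁻¹ * B Q z x * (2 * Q z)) = - ((Q z)⁻¹ * B Q z x) := by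
    field_simp
    ring
  rw [this]
  module

/-- the vector form of LEMMA T -/
theorem FTRANS.eq {A A' : Matrix (Fin n) (Fin n) F} (hAA' : A * A' = 1) {e : Fin n → F}
    (he : Q e ≠ 0) (hfix : A *ᵥ e = e) :
    FIRST.R Q e * A * FIRST.R Q e * A' = E e ((Q e)⁻¹ • (pv Q e ᵥ* A' - pv Q e)) := by
  apply Cfsg.Agent.Helper28.Spin.matrix_ext_mulVec
  intro x
  have h1 : A *ᵥ (A' *ᵥ x) = x := by
    rw [Matrix.mulVec_mulVec, hAA', Matrix.one_mulVec]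
  have h2 : A *ᵥ (GEO.R Q e *ᵥ (A' *ᵥ x)) = x - ((Q e)⁻¹ * B Q e (A' *ᵥ x)) • e := by
    rw [GEO.R_mulVec, Matrix.mulVec_sub, Matrix.mulVec_smul, hfix, h1]
  rw [← Matrix.mulVec_mulVec, ← Matrix.mulVec_mulVec, ← Matrix.mulVec_mulVec, FTRANS.R_eq, h2,
    GEO.R_mulVec, E_mulVec,
    GEO.B_sub_right, GEO.B_smul_right, B_self, smul_dotProduct, sub_dotProduct,
    ← Matrix.dotProduct_mulVec, pv_dot, pv_dot, smul_eq_mul]
  have : (Q e)⁻¹ * (B Q e x - (Q e)⁻¹ * B Q e (A' *ᵥ x) * (2 * Q e)) =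
      (Q e)⁻¹ * B Q e x - 2 * ((Q e)⁻¹ * B Q e (A' *ᵥ x)) := by
    field_simp
  rw [this]
  module

theorem FTRANS.main (M : Subgroup (Matrix.GeneralLinearGroup (Fin n) F))
    (hHM : Cfsg.Geo.quadSimilarityGroup (⇑Q) ⊓ SL n F ≤ M)
    {A A' : Matrix (Fin n) (Fin n) F} (hA : A ∈ MS M) (hA' : A' ∈ MS M) (hAA' : A * A' = 1)
    {c e : Fin n → F} (hc : Q c ≠ 0) (he : Q e ≠ 0)
    (hcomm : FIRST.R Q c * A = A * FIRST.R Q c) (hfix : A *ᵥ e = e) :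
    E e ((Q e)⁻¹ • (pv Q e ᵥ* A' - pv Q e)) ∈ MS M := by
  rw [← FTRANS.eq hAA' he hfix]
  have h1 : FIRST.R Q e * FIRST.R Q c ∈ MS M := GEO.RR_mem M hHM he hc
  have h2 : FIRST.R Q c * FIRST.R Q e ∈ MS M := GEO.RR_mem M hHM hc he
  have h3 : FIRST.R Q e * A * FIRST.R Q e * A' =
      (FIRST.R Q e * FIRST.R Q c) * A * (FIRST.R Q c * FIRST.R Q e) * A' := by
    have : FIRST.R Q e * FIRST.R Q c * A * (FIRST.R Q c * FIRST.R Q e) =
        FIRST.R Q e * (FIRST.R Q c * A) * FIRST.R Q c * FIRST.R Q e := by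
      simp only [Matrix.mul_assoc]
    rw [this, hcomm]
    have : FIRST.R Q e * (A * FIRST.R Q c) * FIRST.R Q c * FIRST.R Q e =
        FIRST.R Q e * A * (FIRST.R Q c * FIRST.R Q c) * FIRST.R Q e := by
      simp only [Matrix.mul_assoc]
    rw [this, FTRANS.R_sq hc, Matrix.mul_one]
  rw [h3]
  exact MS_mul (MS_mul (MS_mul h1 hA) h2) hA'

theorem FTRANS.dot {A A' : Matrix (Fin n) (Fin n) F} (hAA' : A * A' = 1) {e : Fin n → F}
    (hfix : A *ᵥ e = e) : ((Q e)⁻¹ • (pv Q e ᵥ* A' - pv Q e)) ⬝ᵥ e = 0 := by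
  have hA'A : A' * A = 1 := mul_eq_one_comm.mp hAA'
  have h1 : A' *ᵥ e = e := by
    conv_lhs => rw [← hfix]
    rw [Matrix.mulVec_mulVec, hA'A, Matrix.one_mulVec]
  rw [smul_dotProduct, sub_dotProduct, ← Matrix.dotProduct_mulVec, h1, sub_self, smul_zero]

end Cfsg.Agent.OS6P
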