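import Mathlib
import Cfsg.Prelude.Def_Blocks
import Cfsg.Agent.Helper8.PConjOrbit
import Cfsg.Agent.Helper8.CharComp
import Cfsg.Agent.Helper5.StrongOrth
import Cfsg.Agent.Helper5.BlockBasic
import Cfsg.Agent.Helper5.KerDegrees
import Cfsg.Agent.Helper24.Expansion

/-!
If `p ∤ |G| / (r_W χ(1))` then the orbit of `χ` under the units `≡ 1 mod m` is a union of
`p`-blocks, and then the order of a Sylow `p`-subgroup divides `χ(1)`.
-/

set_option autoImplicit false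

namespace Cfsg.Agent.Helper8.PConj

open Cfsg Cfsg.Agent.Helper24 Cfsg.Agent.Helper5 Cfsg.Agent.Helper5.Loc Cfsg.Agent.Helper5.CC Finset

section Block

variable {G : Type*} [Group G] [Fintype G] {M : Ideal AlgInt}

/-- the orbit of `χ` under the units `≡ 1 mod m` -/
def orbitSet (m : ℕ) (hm : m ∣ Nat.card G) (χ : IrrCharacter G) : Set (IrrCharacter G) :=
  {ψ | ∃ k ∈ oneMod (Nat.card G) m hm, twist k χ = ψ}

omit [Fintype G] in
theorem twist_eval_one [Finite G] (k : (ZMod (Nat.card G))ˣ) (ψ : IrrCharacter G) :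
    (twist k ψ : G → ℂ) 1 = (ψ : G → ℂ) 1 := by
  rw [twist_apply, one_pow]

theorem eval_one_of_mem {m : ℕ} {hm : m ∣ Nat.card G} {χ ψ : IrrCharacter G}
    (hψ : ψ ∈ orbitSet m hm χ) : (ψ : G → ℂ) 1 = (χ : G → ℂ) 1 := by
  obtain ⟨k, -, rfl⟩ := hψ
  exact twist_eval_one k χ

theorem cnt_of_mem {m : ℕ} {hm : m ∣ Nat.card G} {χ ψ : IrrCharacter G}
    (hψ : ψ ∈ orbitSet m hm χ) :
    Nat.card {w : oneMod (Nat.card G) m hm // twist (w : (ZMod (Nat.card G))ˣ) χ = ψ} =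
      Nat.card ((stab χ).subgroupOf (oneMod (Nat.card G) m hm)) := by
  obtain ⟨k, hk, rfl⟩ := hψ
  exact card_fiber χ _ ⟨k, hk⟩

theorem cnt_of_not_mem {m : ℕ} {hm : m ∣ Nat.card G} {χ ψ : IrrCharacter G}
    (hψ : ψ ∉ orbitSet m hm χ) :
    Nat.card {w : oneMod (Nat.card G) m hm // twist (w : (ZMod (Nat.card G))ˣ) χ = ψ} = 0 := by
  haveI : IsEmpty {w : oneMod (Nat.card G) m hm // twist (w : (ZMod (Nat.card G))ˣ) χ = ψ} :=
    ⟨fun w => hψ ⟨w.1, w.1.2, w.2⟩⟩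
  exact Nat.card_of_isEmpty

/-- if `p ∤ |G| / (r_W χ(1))` then the orbit is a union of blocks -/
theorem orbit_closed {p : ℕ} (hM : IsPModular p M) {m q : ℕ} (hN : Nat.card G = m * q)
    (hm2 : 2 ≤ m) (hcop : ∀ j, (1 + m * j).Coprime (Nat.card G)) (χ : IrrCharacter G)
    (hdiv : ¬ p ∣ Nat.card G /
      ((stab χ).relIndex (oneMod (Nat.card G) m ⟨q, hN⟩) * irrDeg χ)) :
    ∀ ψ ∈ orbitSet m ⟨q, hN⟩ χ, blockOf M (ψ : G → ℂ) ⊆ orbitSet m ⟨q, hN⟩ χ := by
  classical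
  haveI : NeZero (Nat.card G) := ⟨Nat.card_pos.ne'⟩
  have hMp := isPrime_of_isPModular hM
  intro ψ hψ ψ' hψ'
  by_contra hnot
  have hsame : SameBlock M (ψ : G → ℂ) (ψ' : G → ℂ) := hψ'
  have hli := act_sub_act_memLocalIdeal hMp (isClassFunction_aW m q ⟨q, hN⟩ χ)
    (fun t => memLocalRing_of_isIntegral hMp (isIntegral_aW hN hm2 hcop χ t)) hsame
  -- sizes
  obtain ⟨W, hW⟩ : ∃ W, W = oneMod (Nat.card G) m ⟨q, hN⟩ := ⟨_, rfl⟩
  obtain ⟨e, -⟩ := exists_equiv_oneMod hN hm2 hcop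
  have hcardW : Nat.card W = q := by
    rw [hW, ← Nat.card_congr e, Nat.card_fin]
  obtain ⟨rW, hrW⟩ : ∃ rW, rW = (stab χ).relIndex W := ⟨_, rfl⟩
  obtain ⟨nW, hnW⟩ : ∃ nW, nW = Nat.card ((stab χ).subgroupOf W) := ⟨_, rfl⟩
  have hrn : rW * nW = q := by
    rw [hrW, hnW, Subgroup.relIndex, Subgroup.index_mul_card, hcardW]
  have hq0 : 0 < q := by
    rcases Nat.eq_zero_or_pos q with h | h
    · rw [h, mul_zero] at hN
      exact absurd hN Nat.card_pos.ne'
    · exact h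
  have hr0 : 0 < rW := by
    rcases Nat.eq_zero_or_pos rW with h | h
    · rw [h, zero_mul] at hrn; omega
    · exact h
  have hn0 : 0 < nW := by
    rcases Nat.eq_zero_or_pos nW with h | h
    · rw [h, mul_zero] at hrn; omega
    · exact h
  have hd0 : 0 < irrDeg χ := irrDeg_pos χ
  have hdvd : rW * irrDeg χ ∣ Nat.card G := by
    rw [hrW, hW]
    exact relIndex_mul_irrDeg_dvd hN hm2 hcop χ
  rw [← hW, ← hrW] at hdiv
  -- the two values
  have h1 : act (aW m q ⟨q, hN⟩ χ) ψ = ((Nat.card G / (rW * irrDeg χ) : ℕ) : ℂ) := by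
    unfold act
    rw [sum_aW_mul, cnt_of_mem hψ, ← hW, ← hnW, eval_one_of_mem hψ, irrDeg_spec,
      Nat.cast_div hdvd (by exact_mod_cast (Nat.mul_pos hr0 hd0).ne')]
    have hqC : (q : ℂ) = (rW : ℂ) * (nW : ℂ) := by rw [← hrn]; push_cast; ring
    have hr0' : (rW : ℂ) ≠ 0 := by exact_mod_cast hr0.ne'
    have hn0' : (nW : ℂ) ≠ 0 := by exact_mod_cast hn0.ne'
    have hd0' : (irrDeg χ : ℂ) ≠ 0 := by exact_mod_cast hd0.ne'
    rw [hqC]
    push_cast
    field_simp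
  have h2 : act (aW m q ⟨q, hN⟩ χ) ψ' = 0 := by
    unfold act
    rw [sum_aW_mul, cnt_of_not_mem hnot]
    simp
  rw [h1, h2, sub_zero, memLocalIdeal_natCast_iff hM] at hli
  exact hdiv hli

/-- the sum of the orbit vanishes at `p`-singular elements when the orbit is a union of blocks -/
theorem orbit_sum_eq_zero {p : ℕ} [hp : Fact p.Prime] (hM : IsPModular p M) {m : ℕ}
    (hm : m ∣ Nat.card G) (χ : IrrCharacter G)
    (hcl : ∀ ψ ∈ orbitSet m hm χ, blockOf M (ψ : G → ℂ) ⊆ orbitSet m hm χ)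
    (y : G) (hy : p ∣ orderOf y) :
    ∑ᶠ ψ ∈ orbitSet m hm χ, (ψ : G → ℂ) y = 0 := by
  classical
  haveI : Fintype (IrrCharacter G) := Fintype.ofFinite _
  have h1 := block_orthogonality_union hM (orbitSet m hm χ) hcl 1 y
    (by rw [orderOf_one]; exact hp.out.one_lt.ne' ∘ Nat.dvd_one.mp) hy
  rw [finsum_mem_eq_sum_ite'] at h1 ⊢
  have h2 : ∀ ψ : IrrCharacter G,
      (if ψ ∈ orbitSet m hm χ then (ψ : G → ℂ) 1 * (starRingEnd ℂ) ((ψ : G → ℂ) y) else 0) =
        (χ : G → ℂ) 1 * (starRingEnd ℂ) (if ψ ∈ orbitSet m hm χ then (ψ : G → ℂ) y else 0) := by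
    intro ψ
    split_ifs with h
    · rw [eval_one_of_mem h]
    · rw [map_zero, mul_zero]
  rw [Finset.sum_congr rfl (fun ψ _ => h2 ψ), ← Finset.mul_sum, ← map_sum] at h1
  rcases mul_eq_zero.mp h1 with h3 | h3
  · exact absurd h3 (irr_one_ne_zero χ)
  · exact (map_eq_zero _).mp h3

/-- the sum of twists vanishes at `p`-singular elements when the orbit is a union of blocks -/
theorem TW_eq_zero {p : ℕ} [hp : Fact p.Prime] (hM : IsPModular p M) {m : ℕ}
    (hm : m ∣ Nat.card G) (χ : IrrCharacter G)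
    (hcl : ∀ ψ ∈ orbitSet m hm χ, blockOf M (ψ : G → ℂ) ⊆ orbitSet m hm χ)
    (y : G) (hy : p ∣ orderOf y) : TW m hm χ y = 0 := by
  classical
  haveI : Fintype (IrrCharacter G) := Fintype.ofFinite _
  haveI : Fintype (oneMod (Nat.card G) m hm) := Fintype.ofFinite _
  have h0 := orbit_sum_eq_zero hM hm χ hcl y hy
  rw [finsum_mem_eq_sum_ite'] at h0
  rw [TW_eq_sum]
  rw [← Finset.sum_fiberwise Finset.univ
    (fun w : oneMod (Nat.card G) m hm => twist (w : (ZMod (Nat.card G))ˣ) χ)]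
  have h1 : ∀ ψ : IrrCharacter G,
      ∑ w ∈ Finset.univ.filter (fun w : oneMod (Nat.card G) m hm =>
        twist (w : (ZMod (Nat.card G))ˣ) χ = ψ),
        (twist (w : (ZMod (Nat.card G))ˣ) χ : G → ℂ) y =
      (Nat.card ((stab χ).subgroupOf (oneMod (Nat.card G) m hm)) : ℂ) *
        (if ψ ∈ orbitSet m hm χ then (ψ : G → ℂ) y else 0) := by
    intro ψ
    have h2 : ∀ w ∈ Finset.univ.filter (fun w : oneMod (Nat.card G) m hm =>
        twist (w : (ZMod (Nat.card G))ˣ) χ = ψ),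
        (twist (w : (ZMod (Nat.card G))ˣ) χ : G → ℂ) y = (ψ : G → ℂ) y := by
      intro w hw
      rw [(Finset.mem_filter.mp hw).2]
    rw [Finset.sum_congr rfl h2, Finset.sum_const, nsmul_eq_mul]
    have h3 : (Finset.univ.filter (fun w : oneMod (Nat.card G) m hm =>
        twist (w : (ZMod (Nat.card G))ˣ) χ = ψ)).card =
        Nat.card {w : oneMod (Nat.card G) m hm // twist (w : (ZMod (Nat.card G))ˣ) χ = ψ} :=
      ((Nat.card_eq_fintype_card).trans (Fintype.card_subtype _)).symm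
    rw [h3]
    split_ifs with h
    · rw [cnt_of_mem h]
    · rw [cnt_of_not_mem h]
      simp
  rw [Finset.sum_congr rfl (fun ψ _ => h1 ψ), ← Finset.mul_sum, h0, mul_zero]

end Block

end Cfsg.Agent.Helper8.PConj
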