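import Mathlib
import Cfsg.Prelude.Def_Blocks
import Cfsg.Agent.Helper8.PConjBlock
import Cfsg.Agent.Helper24.Linear

/-!
When the orbit of `χ` under the units `≡ 1 mod m` is a union of `p`-blocks, the order of a Sylow
`p`-subgroup divides `χ(1)`.
-/

set_option autoImplicit false

namespace Cfsg.Agent.Helper8.PConj

open Cfsg Cfsg.Agent.Helper24 Cfsg.Agent.Helper5 Cfsg.Agent.Helper5.Loc Cfsg.Agent.Helper5.CC Finset

section Syl

variable {G : Type*} [Group G] [Fintype G] {M : Ideal AlgInt}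

/-- the sum of a character over a subgroup is a multiple of the order of the subgroup -/
theorem exists_sum_subgroup_eq (P : Subgroup G) [Fintype P] {χ : G → ℂ} (hχ : IsCharacter G χ) :
    ∃ n₀ : ℕ, ∑ y : P, χ (y : G) = (Nat.card P : ℂ) * (n₀ : ℂ) := by
  haveI : Fintype (IrrCharacter P) := Fintype.ofFinite _
  obtain ⟨n₀, hn₀⟩ := IsCharacter.classInner_nat (Cfsg.Agent.Helper8.isCharacter_restrict P hχ)
    (isCharacter_const_one (G := P))
  refine ⟨n₀, ?_⟩
  unfold classInner at hn₀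
  have hP : (Nat.card P : ℂ) ≠ 0 := by exact_mod_cast Nat.card_pos.ne'
  rw [← hn₀, ← mul_assoc, mul_inv_cancel₀ hP, one_mul]
  refine Finset.sum_congr rfl fun y _ => ?_
  rw [map_one, mul_one]

theorem card_sylow_dvd_irrDeg {p : ℕ} [hp : Fact p.Prime] (hM : IsPModular p M) {m q : ℕ}
    (hN : Nat.card G = m * q) (hm2 : 2 ≤ m) (hcop : ∀ j, (1 + m * j).Coprime (Nat.card G))
    (χ : IrrCharacter G)
    (hcl : ∀ ψ ∈ orbitSet m ⟨q, hN⟩ χ, blockOf M (ψ : G → ℂ) ⊆ orbitSet m ⟨q, hN⟩ χ)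
    (P : Sylow p G) : Nat.card P ∣ irrDeg χ := by
  classical
  haveI : Fintype (P : Subgroup G) := Fintype.ofFinite _
  have hq0 : 0 < q := by
    rcases Nat.eq_zero_or_pos q with h | h
    · rw [h, mul_zero] at hN
      exact absurd hN Nat.card_pos.ne'
    · exact h
  -- (3)
  have h3 : ∑ y : (P : Subgroup G), TW m ⟨q, hN⟩ χ (y : G) = TW m ⟨q, hN⟩ χ 1 := by
    rw [Finset.sum_eq_single (1 : (P : Subgroup G))]
    · rfl
    · intro y _ hy
      apply TW_eq_zero hM ⟨q, hN⟩ χ hcl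
      obtain ⟨k, hk⟩ := (IsPGroup.iff_orderOf.mp P.2) y
      rw [Subgroup.orderOf_coe, hk]
      have hk0 : k ≠ 0 := by
        rintro rfl
        rw [pow_zero, orderOf_eq_one_iff] at hk
        exact hy hk
      exact dvd_pow_self p hk0
    · intro h
      exact absurd (Finset.mem_univ _) h
  -- (4)
  have h4 : TW m ⟨q, hN⟩ χ 1 = (q : ℂ) * (irrDeg χ : ℂ) := by
    rw [TW_eq_range hN hm2 hcop]
    simp only [one_pow]
    rw [Finset.sum_const, Finset.card_range, nsmul_eq_mul, irrDeg_spec]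
  -- (5)
  have h5 : ∑ y : (P : Subgroup G), TW m ⟨q, hN⟩ χ (y : G) =
      (q : ℂ) * ∑ y : (P : Subgroup G), (χ : G → ℂ) (y : G) := by
    simp_rw [TW_eq_range hN hm2 hcop]
    rw [Finset.sum_comm]
    have h6 : ∀ j ∈ range q, ∑ y : (P : Subgroup G), (χ : G → ℂ) ((y : G) ^ (1 + m * j)) =
        ∑ y : (P : Subgroup G), (χ : G → ℂ) (y : G) := by
      intro j _
      have hc : (Nat.card (P : Subgroup G)).Coprime (1 + m * j) :=
        Nat.Coprime.symm (Nat.Coprime.coprime_dvd_right (Subgroup.card_subgroup_dvd_card _)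
          (hcop j))
      rw [← Equiv.sum_comp (powCoprime hc) (fun y : (P : Subgroup G) => (χ : G → ℂ) (y : G))]
      refine Finset.sum_congr rfl fun y _ => ?_
      rfl
    rw [Finset.sum_congr rfl h6, Finset.sum_const, Finset.card_range, nsmul_eq_mul]
  obtain ⟨n₀, hn₀⟩ := exists_sum_subgroup_eq (P : Subgroup G) (IsIrrCharacter.isCharacter χ.2)
  rw [h3, h4, hn₀] at h5
  have hq0' : (q : ℂ) ≠ 0 := by exact_mod_cast hq0.ne'
  have h7 : (irrDeg χ : ℂ) = ((Nat.card (P : Subgroup G) * n₀ : ℕ) : ℂ) := by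
    push_cast
    exact mul_left_cancel₀ hq0' h5
  have h8 : irrDeg χ = Nat.card (P : Subgroup G) * n₀ := by exact_mod_cast h7
  exact ⟨n₀, h8⟩

end Syl

end Cfsg.Agent.Helper8.PConj
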