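import Mathlib
import Cfsg.Prelude.Def_Blocks
import Cfsg.Agent.Helper8.PConjSylow
import Cfsg.Agent.Helper8.RegularOrbitBound
import Cfsg.Agent.Helper24.SmallDegree

/-!
The number `r` of `p`-conjugates of an irreducible character `χ`: the exponent of `p` in `r χ(1)`
is at most that of `|G|`, and if the full power `p^a` divides `r χ(1)` then it divides `χ(1)`.
-/

set_option autoImplicit false

namespace Cfsg.Agent.Helper8.PConj

open Cfsg Cfsg.Agent.Helper24 Cfsg.Agent.Helper5 Cfsg.Agent.Helper5.Loc Cfsg.Agent.Helper5.CC Finset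

section Main

variable {G : Type*} [Group G] [Finite G]

theorem main_zero (p : ℕ) (χ : IrrCharacter G) (g' : ℕ) (hg' : g' = Nat.card G)
    (hg : g' ∣ Nat.card G) (r : ℕ)
    (hr : Nat.card {ψ : IrrCharacter G //
      ∃ k ∈ oneMod (Nat.card G) g' hg, twist k χ = ψ} = r) :
    (r * irrDeg χ).factorization p ≤ (Nat.card G).factorization p := by
  haveI : NeZero (Nat.card G) := ⟨Nat.card_pos.ne'⟩
  subst hg'
  have h1 : ∀ ψ : IrrCharacter G,
      (∃ k ∈ oneMod (Nat.card G) (Nat.card G) hg, twist k χ = ψ) ↔ ψ = χ := by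
    intro ψ
    constructor
    · rintro ⟨k, hk, rfl⟩
      rw [mem_oneMod] at hk
      apply Subtype.ext
      funext x
      rw [twist_apply, ← pow_mod_natCard, hk, pow_mod_natCard, pow_one]
    · rintro rfl
      exact ⟨1, Subgroup.one_mem _, twist_one _⟩
  have h2 : r = 1 := by
    rw [← hr]
    rw [Nat.card_congr (Equiv.subtypeEquivRight h1)]
    exact Nat.card_unique
  rw [h2, one_mul]
  exact (Nat.factorization_le_iff_dvd (irrDeg_pos χ).ne' Nat.card_pos.ne').mpr
    (irrDeg_dvd_card χ) p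

theorem main_pos (p : ℕ) (hp : p.Prime) (χ : IrrCharacter G)
    (ha : (Nat.card G).factorization p ≠ 0)
    (g' : ℕ) (hg' : g' = Nat.card G / p ^ (Nat.card G).factorization p)
    (hg : g' ∣ Nat.card G) (r : ℕ)
    (hr : Nat.card {ψ : IrrCharacter G //
      ∃ k ∈ oneMod (Nat.card G) g' hg, twist k χ = ψ} = r) :
    (r * irrDeg χ).factorization p ≤ (Nat.card G).factorization p ∧
      (p ^ (Nat.card G).factorization p ∣ r * irrDeg χ →
        p ^ (Nat.card G).factorization p ∣ irrDeg χ) := by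
  classical
  haveI : Fintype G := Fintype.ofFinite G
  haveI : NeZero (Nat.card G) := ⟨Nat.card_pos.ne'⟩
  haveI : Fact p.Prime := ⟨hp⟩
  obtain ⟨N, hNdef⟩ : ∃ N, N = Nat.card G := ⟨_, rfl⟩
  obtain ⟨a, hadef⟩ : ∃ a, a = (Nat.card G).factorization p := ⟨_, rfl⟩
  have hN0 : Nat.card G ≠ 0 := Nat.card_pos.ne'
  have hpa : p ^ a ∣ Nat.card G := by rw [hadef]; exact Nat.ordProj_dvd _ _
  have hNeq : Nat.card G = p ^ a * g' := by
    rw [hg', ← hadef, Nat.mul_div_cancel' hpa]
  have hcopg : p.Coprime g' := by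
    rw [hg']
    exact Nat.coprime_ordCompl hp hN0
  have hg0 : 0 < g' := Nat.pos_of_dvd_of_pos hg Nat.card_pos
  have ha1 : 1 ≤ a := by rw [hadef]; exact Nat.one_le_iff_ne_zero.mpr ha
  -- the parameters
  have hN : Nat.card G = (p * g') * p ^ (a - 1) := by
    rw [hNeq]
    obtain ⟨b, rfl⟩ : ∃ b, a = b + 1 := ⟨a - 1, by omega⟩
    rw [Nat.add_sub_cancel, pow_succ]
    ring
  have hm2 : 2 ≤ p * g' := by
    have := hp.two_le
    nlinarith
  have hcop : ∀ j, (1 + (p * g') * j).Coprime (Nat.card G) := by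
    intro j
    rw [hNeq]
    apply Nat.Coprime.mul_right
    · apply Nat.Coprime.pow_right
      have : 1 + p * g' * j = 1 + p * (g' * j) := by ring
      rw [this]
      exact (Nat.coprime_add_mul_left_left 1 p (g' * j)).mpr (Nat.coprime_one_left p)
    · have : 1 + p * g' * j = 1 + g' * (p * j) := by ring
      rw [this]
      exact (Nat.coprime_add_mul_left_left 1 g' (p * j)).mpr (Nat.coprime_one_left g')
  obtain ⟨d, hd⟩ : ∃ d, d = irrDeg χ := ⟨_, rfl⟩
  have hd0 : 0 < d := by rw [hd]; exact irrDeg_pos χ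
  obtain ⟨rW, hrW⟩ : ∃ rW, rW = (stab χ).relIndex
    (oneMod (Nat.card G) (p * g') ⟨p ^ (a - 1), hN⟩) := ⟨_, rfl⟩
  -- (ii)
  have hii : rW * d ∣ Nat.card G := by
    rw [hrW, hd]
    exact relIndex_mul_irrDeg_dvd hN hm2 hcop χ
  have hrW0 : 0 < rW := by
    rcases Nat.eq_zero_or_pos rW with h | h
    · rw [h, zero_mul] at hii
      exact absurd (zero_dvd_iff.mp hii) hN0
    · exact h
  -- (i)
  have hr' : r = (stab χ).relIndex (oneMod (Nat.card G) g' hg) := by
    rw [← hr]
    exact card_orbit χ _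
  have hi : r ∣ rW * (p - 1) := by
    rw [hr', hrW]
    refine (relIndex_dvd_mul (stab χ) (oneMod (Nat.card G) (p * g') ⟨p ^ (a - 1), hN⟩)
      (oneMod (Nat.card G) g' hg) (oneMod_le hg _ (dvd_mul_left g' p))).trans ?_
    exact Nat.mul_dvd_mul_left _ (relIndex_oneMod_dvd hp hcopg hg _)
  have hr0 : 0 < r := by
    rcases Nat.eq_zero_or_pos r with h | h
    · rw [h] at hi
      have := zero_dvd_iff.mp hi
      have hp1 : 0 < p - 1 := by have := hp.two_le; omega
      exact absurd this (Nat.mul_pos hrW0 hp1).ne'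
    · exact h
  have hp1 : 0 < p - 1 := by have := hp.two_le; omega
  have hpp1 : ¬ p ∣ p - 1 := by
    intro h
    have := Nat.le_of_dvd hp1 h
    omega
  -- (iii)
  have hiii : p ^ a ∣ rW * d → p ^ a ∣ d := by
    intro h
    obtain ⟨M, hM⟩ := Cfsg.Agent.Helper8.exists_isPModular p hp
    obtain ⟨c, hc⟩ := hii
    have hc0 : c ≠ 0 := by
      rintro rfl
      rw [mul_zero] at hc
      exact hN0 hc
    have hpc : ¬ p ∣ c := by
      intro hpc
      obtain ⟨e, he⟩ := h
      obtain ⟨c', hc'⟩ := hpc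
      have h1 : p ^ (a + 1) ∣ Nat.card G := by
        rw [hc, he, hc', pow_succ]
        exact ⟨e * c', by ring⟩
      have h2 := (Nat.Prime.pow_dvd_iff_le_factorization hp hN0).mp h1
      omega
    have hdivc : Nat.card G / (rW * d) = c := by
      rw [hc]
      exact Nat.mul_div_cancel_left c (Nat.mul_pos hrW0 hd0)
    have hcl := orbit_closed (M := M) hM hN hm2 hcop χ (by
      rw [← hrW, ← hd, hdivc]
      exact hpc)
    obtain ⟨P⟩ : Nonempty (Sylow p G) := inferInstance
    have h3 := card_sylow_dvd_irrDeg hM hN hm2 hcop χ hcl P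
    rw [Sylow.card_eq_multiplicity, ← hadef, ← hd] at h3
    exact h3
  rw [← hadef, ← hd]
  constructor
  · have h1 : r * d ∣ Nat.card G * (p - 1) := by
      have : r * d ∣ (rW * (p - 1)) * d := Nat.mul_dvd_mul_right hi d
      refine this.trans ?_
      have h2 : rW * (p - 1) * d = (rW * d) * (p - 1) := by ring
      rw [h2]
      exact Nat.mul_dvd_mul_right hii _
    have h2 := (Nat.factorization_le_iff_dvd (Nat.mul_pos hr0 hd0).ne'
      (Nat.mul_pos Nat.card_pos hp1).ne').mpr h1 p
    rw [Nat.factorization_mul hN0 hp1.ne', Finsupp.add_apply,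
      Nat.factorization_eq_zero_of_not_dvd hpp1, add_zero, ← hadef] at h2
    exact h2
  · intro h
    apply hiii
    have h1 : p ^ a ∣ (rW * d) * (p - 1) := by
      have : r * d ∣ (rW * (p - 1)) * d := Nat.mul_dvd_mul_right hi d
      have h2 : rW * (p - 1) * d = (rW * d) * (p - 1) := by ring
      rw [h2] at this
      exact h.trans this
    have hcop2 : (p ^ a).Coprime (p - 1) :=
      Nat.Coprime.pow_left _ ((Nat.Prime.coprime_iff_not_dvd hp).mpr hpp1)
    exact hcop2.dvd_of_dvd_mul_right h1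

/-- the `p`-conjugate count bound -/
theorem main (p : ℕ) (hp : p.Prime) (χ : IrrCharacter G)
    (g' : ℕ) (hg' : g' = Nat.card G / p ^ (Nat.card G).factorization p)
    (hg : g' ∣ Nat.card G) (r : ℕ)
    (hr : Nat.card {ψ : IrrCharacter G //
      ∃ k ∈ oneMod (Nat.card G) g' hg, twist k χ = ψ} = r) :
    (r * irrDeg χ).factorization p ≤ (Nat.card G).factorization p ∧
      (p ^ (Nat.card G).factorization p ∣ r * irrDeg χ →
        p ^ (Nat.card G).factorization p ∣ irrDeg χ) := by
  by_cases ha : (Nat.card G).factorization p = 0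
  · refine ⟨main_zero p χ g' ?_ hg r hr, ?_⟩
    · rw [hg', ha, pow_zero, Nat.div_one]
    · intro _
      rw [ha, pow_zero]
      exact one_dvd _
  · exact main_pos p hp χ ha g' hg' hg r hr

end Main

end Cfsg.Agent.Helper8.PConj
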