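import Mathlib
import Cfsg.Prelude.Def_Characters
import Cfsg.Agent.Helper8.SemiCyclic
import Cfsg.Agent.Helper8.Ind

/-!
Groups `L = K ⋊ W₁` with `W₁` abelian and `C_K(x) = W₂` for all nonidentity `x ∈ W₁`:
the subgroup `W = W₁ ⊔ W₂` is abelian and controls fusion of `W ∖ W₂`.
-/

set_option autoImplicit false

namespace Cfsg.Agent.Helper8

/-- the standing hypotheses -/
structure PrimeTIHyp {L : Type*} [Group L] (K W₁ W₂ : Subgroup L) : Prop where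
  normal : K.Normal
  inf : K ⊓ W₁ = ⊥
  sup : K ⊔ W₁ = ⊤
  comm₁ : ∀ a ∈ W₁, ∀ b ∈ W₁, a * b = b * a
  comm₂ : ∀ a ∈ W₂, ∀ b ∈ W₂, a * b = b * a
  le : W₂ ≤ K
  cent : ∀ x ∈ W₁, x ≠ 1 → K ⊓ Subgroup.centralizer ({x} : Set L) = W₂
  coprime : Nat.Coprime (Nat.card W₁) (Nat.card W₂)

variable {L : Type*} [Group L] {K W₁ W₂ : Subgroup L}

theorem PrimeTIHyp.comm₁₂ (h : PrimeTIHyp K W₁ W₂) : ∀ a ∈ W₁, ∀ b ∈ W₂, a * b = b * a := by
  intro a ha b hb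
  by_cases ha1 : a = 1
  · rw [ha1, one_mul, mul_one]
  · have hb' : b ∈ K ⊓ Subgroup.centralizer ({a} : Set L) := by rw [h.cent a ha ha1]; exact hb
    exact Subgroup.mem_centralizer_iff.mp hb'.2 a rfl

theorem PrimeTIHyp.inf₁₂ (h : PrimeTIHyp K W₁ W₂) : W₁ ⊓ W₂ = ⊥ := by
  rw [eq_bot_iff]
  rintro x ⟨h1, h2⟩
  have : x ∈ K ⊓ W₁ := ⟨h.le h2, h1⟩
  rw [h.inf] at this
  exact this

theorem PrimeTIHyp.mem_sup (h : PrimeTIHyp K W₁ W₂) {x : L} :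
    x ∈ W₁ ⊔ W₂ ↔ ∃ a ∈ W₁, ∃ b ∈ W₂, x = a * b := by
  constructor
  · intro hx
    let T : Subgroup L :=
      { carrier := {x | ∃ a ∈ W₁, ∃ b ∈ W₂, x = a * b}
        mul_mem' := by
          rintro _ _ ⟨a, ha, b, hb, rfl⟩ ⟨a', ha', b', hb', rfl⟩
          refine ⟨a * a', W₁.mul_mem ha ha', b * b', W₂.mul_mem hb hb', ?_⟩
          have := h.comm₁₂ a' ha' b hb
          calc a * b * (a' * b') = a * (b * a') * b' := by group
            _ = a * (a' * b) * b' := by rw [this]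
            _ = a * a' * (b * b') := by group
        one_mem' := ⟨1, W₁.one_mem, 1, W₂.one_mem, (mul_one 1).symm⟩
        inv_mem' := by
          rintro _ ⟨a, ha, b, hb, rfl⟩
          refine ⟨a⁻¹, W₁.inv_mem ha, b⁻¹, W₂.inv_mem hb, ?_⟩
          have := h.comm₁₂ a⁻¹ (W₁.inv_mem ha) b⁻¹ (W₂.inv_mem hb)
          rw [mul_inv_rev, this] }
    have hle : W₁ ⊔ W₂ ≤ T := by
      apply sup_le
      · intro a ha
        exact ⟨a, ha, 1, W₂.one_mem, (mul_one a).symm⟩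
      · intro b hb
        exact ⟨1, W₁.one_mem, b, hb, (one_mul b).symm⟩
    exact hle hx
  · rintro ⟨a, ha, b, hb, rfl⟩
    exact (W₁ ⊔ W₂).mul_mem ((le_sup_left : W₁ ≤ W₁ ⊔ W₂) ha) ((le_sup_right : W₂ ≤ W₁ ⊔ W₂) hb)

theorem PrimeTIHyp.comm' (h : PrimeTIHyp K W₁ W₂) {x y : L} (hx : x ∈ W₁ ⊔ W₂)
    (hy : y ∈ W₁ ⊔ W₂) : x * y = y * x := by
  obtain ⟨a, ha, b, hb, rfl⟩ := h.mem_sup.mp hx
  obtain ⟨a', ha', b', hb', rfl⟩ := h.mem_sup.mp hy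
  have h1 : Commute a a' := h.comm₁ a ha a' ha'
  have h2 : Commute a b' := h.comm₁₂ a ha b' hb'
  have h3 : Commute b a' := (h.comm₁₂ a' ha' b hb).symm
  have h4 : Commute b b' := h.comm₂ b hb b' hb'
  exact (h1.mul_right h2).mul_left (h3.mul_right h4)

theorem PrimeTIHyp.comm (h : PrimeTIHyp K W₁ W₂) : ∀ x y : ↥(W₁ ⊔ W₂), x * y = y * x := by
  intro x y
  apply Subtype.ext
  exact h.comm' x.2 y.2

/-- control of fusion -/
theorem PrimeTIHyp.control [Finite L] (h : PrimeTIHyp K W₁ W₂) {x g : L} (hx : x ∈ W₁ ⊔ W₂)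
    (hx₂ : x ∉ W₂) (hg : g⁻¹ * x * g ∈ W₁ ⊔ W₂) : g ∈ W₁ ⊔ W₂ := by
  have hK := h.normal
  obtain ⟨a, ha, b, hb, rfl⟩ := h.mem_sup.mp hx
  have ha1 : a ≠ 1 := by
    rintro rfl
    rw [one_mul] at hx₂
    exact hx₂ hb
  obtain ⟨a', ha', b', hb', e⟩ := h.mem_sup.mp hg
  -- the `W₁`-components agree
  have haa' : a' = a := by
    have h1 : a⁻¹ * g⁻¹ * a * g ∈ K := by
      have := commutator_mem_of_comm_supplement K W₁ h.sup h.comm₁ a⁻¹ g⁻¹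
      rwa [inv_inv, inv_inv] at this
    have h2 : g⁻¹ * b * g ∈ K := by
      have := hK.conj_mem b (h.le hb) g⁻¹
      rwa [inv_inv] at this
    have h3 : a⁻¹ * a' ∈ K := by
      have e' : a⁻¹ * a' = (a⁻¹ * g⁻¹ * a * g) * (g⁻¹ * b * g) * b'⁻¹ := by
        have : a' = g⁻¹ * (a * b) * g * b'⁻¹ := by rw [e]; group
        rw [this]; group
      rw [e']
      exact K.mul_mem (K.mul_mem h1 h2) (K.inv_mem (h.le hb'))
    have h4 : a⁻¹ * a' ∈ K ⊓ W₁ := ⟨h3, W₁.mul_mem (W₁.inv_mem ha) ha'⟩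
    rw [h.inf, Subgroup.mem_bot] at h4
    exact (inv_mul_eq_one.mp h4).symm
  subst haa'
  -- raise to the power `|W₂|`
  set n := Nat.card W₂ with hn
  have hbn : ∀ c ∈ W₂, c ^ n = 1 := by
    intro c hc
    have := pow_card_eq_one' (G := W₂) (x := ⟨c, hc⟩)
    exact congrArg Subtype.val this
  have e1 : (g⁻¹ * (a' * b) * g) ^ n = g⁻¹ * a' ^ n * g := by
    have h1 : (g⁻¹ * (a' * b) * g) ^ n = g⁻¹ * (a' * b) ^ n * g := by
      have := conj_pow (a := g⁻¹) (b := a' * b) (i := n)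
      rwa [inv_inv] at this
    rw [h1, (show Commute a' b from h.comm₁₂ a' ha b hb).mul_pow, hbn b hb, mul_one]
  have e2 : (g⁻¹ * (a' * b) * g) ^ n = a' ^ n := by
    rw [e, (show Commute a' b' from h.comm₁₂ a' ha b' hb').mul_pow, hbn b' hb', mul_one]
  have e3 : g⁻¹ * a' ^ n * g = a' ^ n := e1.symm.trans e2
  have ha0 : a' ^ n ≠ 1 := by
    intro h0
    have h1 : orderOf a' ∣ n := orderOf_dvd_of_pow_eq_one h0
    have h2 : orderOf a' ∣ Nat.card W₁ := Subgroup.orderOf_dvd_natCard W₁ ha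
    have h3 : orderOf a' = 1 := Nat.eq_one_of_dvd_coprimes h.coprime h2 h1
    exact ha1 (orderOf_eq_one_iff.mp h3)
  have ha0m : a' ^ n ∈ W₁ := W₁.pow_mem ha n
  obtain ⟨k, hk, w, hw, rfl⟩ := exists_mul_of_normal_sup K W₁ h.sup g
  have hcw : a' ^ n * w = w * a' ^ n := h.comm₁ _ ha0m w hw
  have hck : a' ^ n * k = k * a' ^ n := by
    have h1 : a' ^ n * (k * w) = k * w * a' ^ n := by
      calc a' ^ n * (k * w) = (k * w) * ((k * w)⁻¹ * a' ^ n * (k * w)) := by group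
        _ = k * w * a' ^ n := by rw [e3]
    have h2 : a' ^ n * k * w = k * a' ^ n * w := by
      rw [mul_assoc, h1, mul_assoc, mul_assoc, hcw]
    exact mul_right_cancel h2
  have hkW : k ∈ K ⊓ Subgroup.centralizer ({a' ^ n} : Set L) := by
    refine ⟨hk, Subgroup.mem_centralizer_iff.mpr ?_⟩
    intro y hy
    rw [Set.mem_singleton_iff] at hy
    subst hy
    exact hck
  rw [h.cent _ ha0m ha0] at hkW
  exact (W₁ ⊔ W₂).mul_mem ((le_sup_right : W₂ ≤ W₁ ⊔ W₂) hkW) ((le_sup_left : W₁ ≤ W₁ ⊔ W₂) hw)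

theorem PrimeTIHyp.centralizer_eq [Finite L] (h : PrimeTIHyp K W₁ W₂) {x : L}
    (hx : x ∈ W₁ ⊔ W₂) (hx₂ : x ∉ W₂) : Subgroup.centralizer ({x} : Set L) = W₁ ⊔ W₂ := by
  ext g
  rw [Subgroup.mem_centralizer_iff]
  constructor
  · intro hg
    apply h.control hx hx₂
    have := hg x rfl
    have e : g⁻¹ * x * g = x := by rw [mul_assoc, this, ← mul_assoc, inv_mul_cancel, one_mul]
    rw [e]; exact hx
  · intro hg y hy
    rw [Set.mem_singleton_iff] at hy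
    subst hy
    exact h.comm' hx hg

/-- induced functions on `W ∖ W₂` -/
theorem PrimeTIHyp.indFun_apply [Fintype L] (h : PrimeTIHyp K W₁ W₂) (f : ↥(W₁ ⊔ W₂) → ℂ)
    (w : ↥(W₁ ⊔ W₂)) (hw₂ : (w : L) ∉ W₂) :
    Cfsg.indFun (W₁ ⊔ W₂) f (w : L) = f w := by
  classical
  have : Fintype ↥(W₁ ⊔ W₂) := Fintype.ofFinite _
  rw [indFun_def]
  have h1 : ∀ x : L, Cfsg.extendByZero (W₁ ⊔ W₂) f (x⁻¹ * (w : L) * x)
      = Cfsg.extendByZero (W₁ ⊔ W₂) (fun _ => f w) x * 1 := by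
    intro x
    rw [mul_one]
    by_cases hx : x ∈ W₁ ⊔ W₂
    · rw [ebz_mem _ _ hx]
      have hcomm := h.comm' w.2 hx
      have e : x⁻¹ * (w : L) * x = w := by
        rw [mul_assoc, hcomm, ← mul_assoc, inv_mul_cancel, one_mul]
      rw [e, ebz_coe]
    · rw [ebz_not_mem _ _ hx]
      have h2 : x⁻¹ * (w : L) * x ∉ W₁ ⊔ W₂ := fun h2 => hx (h.control w.2 hw₂ h2)
      rw [ebz_not_mem _ _ h2]
  rw [Finset.sum_congr rfl (fun x _ => h1 x), sum_ebz_mul]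
  simp only [mul_one, Finset.sum_const, Finset.card_univ, nsmul_eq_mul]
  rw [← Nat.card_eq_fintype_card]
  have hne : (Nat.card ↥(W₁ ⊔ W₂) : ℂ) ≠ 0 := Nat.cast_ne_zero.mpr Nat.card_pos.ne'
  field_simp

/-- induction is an isometry on functions vanishing on `W₂` -/
theorem PrimeTIHyp.classInner_indFun [Fintype L] (h : PrimeTIHyp K W₁ W₂)
    [Fintype ↥(W₁ ⊔ W₂)] (f k : ↥(W₁ ⊔ W₂) → ℂ)
    (hf : ∀ w : ↥(W₁ ⊔ W₂), (w : L) ∈ W₂ → f w = 0) :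
    Cfsg.classInner (Cfsg.indFun (W₁ ⊔ W₂) f) (Cfsg.indFun (W₁ ⊔ W₂) k) = Cfsg.classInner f k := by
  rw [frobenius_reciprocity _ _ _ (indFun_isClassFunction _ _)]
  unfold Cfsg.classInner
  congr 1
  apply Finset.sum_congr rfl
  intro w _
  by_cases hw : (w : L) ∈ W₂
  · rw [hf w hw, zero_mul, zero_mul]
  · show f w * (starRingEnd ℂ) (Cfsg.indFun (W₁ ⊔ W₂) k (w : L)) = _
    rw [h.indFun_apply k w hw]

end Cfsg.Agent.Helper8
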