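import Mathlib
import Cfsg.Prelude.Def_Characters
import Cfsg.Agent.Helper8.PrimeTI
import Cfsg.Agent.Helper8.DualGroup
import Cfsg.Agent.Helper24.Exceptional
import Cfsg.Agent.Helper24.ColumnOrth
import Cfsg.Agent.Helper24.Linear
import Cfsg.Agent.Helper5.IndFun

/-!
The irreducible characters `μ ω` of `L = K ⋊ W₁` attached to the linear characters of
`W = W₁ × W₂`.
-/

set_option autoImplicit false

namespace Cfsg.Agent.Helper8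

open scoped ComplexConjugate

variable {L : Type*} [Group L] [Fintype L] {K W₁ W₂ : Subgroup L}

theorem isCharacter_hom_units {W : Type*} [Group W] (ω : W →* ℂˣ) :
    Cfsg.IsCharacter W (fun w => ((ω w : ℂˣ) : ℂ)) :=
  Cfsg.Agent.Helper24.isCharacter_of_monoidHom ((Units.coeHom ℂ).comp ω)

/-- the characters attached to one class of linear characters of `W` -/
theorem primeTI_class (h : PrimeTIHyp K W₁ W₂) (ρ : ↥(W₁ ⊔ W₂) →* ℂˣ) (n : ℕ)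
    (e : {φ : ↥(W₁ ⊔ W₂) →* ℂˣ // ∀ w : ↥(W₁ ⊔ W₂), (w : L) ∈ W₂ → φ w = 1} ≃ Fin n) :
    ∃ ε : ℂ, (ε = 1 ∨ ε = -1) ∧ ∃ M : Fin n → (L → ℂ), (∀ i, Cfsg.IsIrrCharacter L (M i)) ∧
      Function.Injective M ∧
      ∀ φ : {φ : ↥(W₁ ⊔ W₂) →* ℂˣ // ∀ w : ↥(W₁ ⊔ W₂), (w : L) ∈ W₂ → φ w = 1},
        Cfsg.indFun (W₁ ⊔ W₂) (fun w => (ρ w : ℂ) * (φ.1 w : ℂ) - (ρ w : ℂ))
          = ε • (M (e φ) - M (e ⟨1, fun _ _ => rfl⟩)) := by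
  classical
  have : Fintype ↥(W₁ ⊔ W₂) := Fintype.ofFinite _
  set i₀ : Fin n := e ⟨1, fun _ _ => rfl⟩ with hi₀
  have hfun : ∀ φ : ↥(W₁ ⊔ W₂) →* ℂˣ, (fun w : ↥(W₁ ⊔ W₂) => (ρ w : ℂ) * (φ w : ℂ) - (ρ w : ℂ))
      = (fun w => (((ρ * φ) w : ℂˣ) : ℂ)) - (fun w => ((ρ w : ℂˣ) : ℂ)) := by
    intro φ
    funext w
    simp
  obtain ⟨ε, hε, M, hM, hMinj, hτ⟩ := Cfsg.Agent.Helper24.exceptional_isometry n i₀
    (fun i => Cfsg.indFun (W₁ ⊔ W₂)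
      (fun w => (ρ w : ℂ) * ((e.symm i).1 w : ℂ) - (ρ w : ℂ))) (by
      show Cfsg.indFun (W₁ ⊔ W₂) (fun w => (ρ w : ℂ) * ((e.symm i₀).1 w : ℂ) - (ρ w : ℂ)) = 0
      rw [hi₀, Equiv.symm_apply_apply]
      have : (fun w : ↥(W₁ ⊔ W₂) => (ρ w : ℂ) * (((1 : ↥(W₁ ⊔ W₂) →* ℂˣ) w : ℂˣ) : ℂ) - (ρ w : ℂ))
          = 0 := by
        funext w; simp
      rw [this, indFun_zero]) (by
      intro i
      apply Cfsg.Agent.Helper24.IsGeneralizedCharacter.indFun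
      rw [hfun]
      exact ⟨_, _, isCharacter_hom_units _, isCharacter_hom_units _, rfl⟩) (by
      intro i
      show Cfsg.indFun (W₁ ⊔ W₂) _ 1 = 0
      rw [Cfsg.Agent.Helper5.indFun_apply_one]
      simp) (by
      intro i j hi hj
      show Cfsg.classInner (Cfsg.indFun (W₁ ⊔ W₂) _) (Cfsg.indFun (W₁ ⊔ W₂) _) = _
      rw [h.classInner_indFun _ _ (by
        intro w hw
        rw [(e.symm i).2 w hw]
        simp)]
      rw [hfun, hfun, classInner_sub_left, classInner_sub_right, classInner_sub_right,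
        classInner_hom_units, classInner_hom_units, classInner_hom_units, classInner_hom_units]
      have h1 : (ρ * (e.symm i).1 = ρ * (e.symm j).1) ↔ i = j := by
        constructor
        · intro h1
          have := mul_left_cancel h1
          exact e.symm.injective (Subtype.ext this)
        · intro h1; rw [h1]
      have h2 : ∀ i : Fin n, i ≠ i₀ → ρ * (e.symm i).1 ≠ ρ := by
        intro i hi h2
        apply hi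
        have h3 : (e.symm i).1 = 1 := by
          have : ρ * (e.symm i).1 = ρ * 1 := by rw [h2]; ext w; simp
          exact mul_left_cancel this
        rw [hi₀]
        apply e.symm.injective
        rw [Equiv.symm_apply_apply]
        exact Subtype.ext h3
      have h2' : ¬ (ρ = ρ * (e.symm j).1) := fun h3 => h2 j hj h3.symm
      rw [if_neg (h2 i hi), if_neg h2', if_pos rfl]
      by_cases hij : i = j
      · rw [if_pos (h1.mpr hij), if_pos hij]; norm_num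
      · have h1' : ¬ (ρ * (e.symm i).1 = ρ * (e.symm j).1) := fun h3 => hij (h1.mp h3)
        rw [if_neg h1', if_neg hij]; norm_num)
  refine ⟨ε, hε, M, hM, hMinj, ?_⟩
  intro φ
  have := hτ (e φ)
  simp only [Equiv.symm_apply_apply] at this
  exact this

/-- existence of the family, with the relations inside each class -/
theorem primeTI_basic (h : PrimeTIHyp K W₁ W₂) :
    ∃ (μ : (↥(W₁ ⊔ W₂) →* ℂˣ) → (L → ℂ)) (δ : (↥(W₁ ⊔ W₂) →* ℂˣ) → ℂ),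
      (∀ ω, Cfsg.IsIrrCharacter L (μ ω)) ∧ (∀ ω, δ ω = 1 ∨ δ ω = -1) ∧
      (∀ ω ω' : ↥(W₁ ⊔ W₂) →* ℂˣ, (∀ w : ↥(W₁ ⊔ W₂), (w : L) ∈ W₂ → ω w = ω' w) →
        δ ω = δ ω' ∧
        Cfsg.indFun (W₁ ⊔ W₂) (fun w => (ω w : ℂ) - (ω' w : ℂ)) = δ ω • (μ ω - μ ω') ∧
        (μ ω = μ ω' → ω = ω')) := by
  classical
  have hfinW : Finite (↥(W₁ ⊔ W₂) →* ℂˣ) := finite_hom_units h.comm
  obtain ⟨n, ⟨e⟩⟩ := Finite.exists_equiv_fin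
    {φ : ↥(W₁ ⊔ W₂) →* ℂˣ // ∀ w : ↥(W₁ ⊔ W₂), (w : L) ∈ W₂ → φ w = 1}
  choose ε hε M hM hMinj hτ using fun ρ => primeTI_class h ρ n e
  let s : Setoid (↥(W₁ ⊔ W₂) →* ℂˣ) :=
    { r := fun ω ω' => ∀ w : ↥(W₁ ⊔ W₂), (w : L) ∈ W₂ → ω w = ω' w
      iseqv := ⟨fun _ _ _ => rfl, fun h w hw => (h w hw).symm,
        fun h1 h2 w hw => (h1 w hw).trans (h2 w hw)⟩ }
  have hrep1 : ∀ ω : ↥(W₁ ⊔ W₂) →* ℂˣ, ∀ w : ↥(W₁ ⊔ W₂), (w : L) ∈ W₂ →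
      (Quotient.mk s ω).out w = ω w := fun ω => Quotient.exact (Quotient.out_eq (Quotient.mk s ω))
  have hrep2 : ∀ ω ω' : ↥(W₁ ⊔ W₂) →* ℂˣ, (∀ w : ↥(W₁ ⊔ W₂), (w : L) ∈ W₂ → ω w = ω' w) →
      (Quotient.mk s ω).out = (Quotient.mk s ω').out :=
    fun ω ω' hr => congrArg Quotient.out (Quotient.sound hr)
  have hφmem : ∀ ω : ↥(W₁ ⊔ W₂) →* ℂˣ, ∀ w : ↥(W₁ ⊔ W₂), (w : L) ∈ W₂ →
      (ω * ((Quotient.mk s ω).out)⁻¹) w = 1 := by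
    intro ω w hw
    rw [MonoidHom.mul_apply, MonoidHom.inv_apply, hrep1 ω w hw, mul_inv_cancel]
  have hφ : ∀ (ω : ↥(W₁ ⊔ W₂) →* ℂˣ) (w : ↥(W₁ ⊔ W₂)),
      (((Quotient.mk s ω).out w : ℂˣ) : ℂ) * (((ω * ((Quotient.mk s ω).out)⁻¹) w : ℂˣ) : ℂ)
        = ((ω w : ℂˣ) : ℂ) := by
    intro ω w
    rw [← Units.val_mul, MonoidHom.mul_apply, MonoidHom.inv_apply, mul_comm (ω w),
      mul_inv_cancel_left]
  refine ⟨fun ω => M (Quotient.mk s ω).out (e ⟨ω * ((Quotient.mk s ω).out)⁻¹, hφmem ω⟩),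
    fun ω => ε (Quotient.mk s ω).out, fun ω => hM _ _, fun ω => hε _, ?_⟩
  intro ω ω' hr
  have hρ := hrep2 ω ω' hr
  refine ⟨by simp only [hρ], ?_, ?_⟩
  · have e1 : (fun w : ↥(W₁ ⊔ W₂) => ((ω w : ℂˣ) : ℂ) - ((ω' w : ℂˣ) : ℂ))
        = (fun w => (((Quotient.mk s ω).out w : ℂˣ) : ℂ)
            * (((ω * ((Quotient.mk s ω).out)⁻¹) w : ℂˣ) : ℂ)
            - (((Quotient.mk s ω).out w : ℂˣ) : ℂ))
          - (fun w => (((Quotient.mk s ω).out w : ℂˣ) : ℂ)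
            * (((ω' * ((Quotient.mk s ω').out)⁻¹) w : ℂˣ) : ℂ)
            - (((Quotient.mk s ω).out w : ℂˣ) : ℂ)) := by
      funext w
      have h1 := hφ ω w
      have h2 := hφ ω' w
      rw [← hρ] at h2
      simp only [Pi.sub_apply]
      rw [h1]
      rw [← hρ, h2]
      ring
    rw [e1, indFun_sub]
    have t1 := hτ (Quotient.mk s ω).out ⟨ω * ((Quotient.mk s ω).out)⁻¹, hφmem ω⟩
    have t2 := hτ (Quotient.mk s ω).out ⟨ω' * ((Quotient.mk s ω').out)⁻¹, hφmem ω'⟩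
    simp only at t1 t2
    rw [t1, t2]
    simp only [hρ]
    rw [← smul_sub]
    congr 1
    abel
  · intro hμ
    simp only at hμ
    have hμ' : M (Quotient.mk s ω).out (e ⟨ω * ((Quotient.mk s ω).out)⁻¹, hφmem ω⟩)
        = M (Quotient.mk s ω).out (e ⟨ω' * ((Quotient.mk s ω').out)⁻¹, hφmem ω'⟩) := by
      rw [hμ, hρ]
    have h1 := e.injective (hMinj _ hμ')
    have h2 : ω * ((Quotient.mk s ω).out)⁻¹ = ω' * ((Quotient.mk s ω').out)⁻¹ :=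
      congrArg Subtype.val h1
    rw [← hρ] at h2
    exact mul_right_cancel h2

/-- a linear character of `W` trivial on `W₂` and nontrivial at a given point outside `W₂` -/
theorem PrimeTIHyp.exists_hom (h : PrimeTIHyp K W₁ W₂) (x : ↥(W₁ ⊔ W₂)) (hx : (x : L) ∉ W₂) :
    ∃ φ : ↥(W₁ ⊔ W₂) →* ℂˣ, (∀ w : ↥(W₁ ⊔ W₂), (w : L) ∈ W₂ → φ w = 1) ∧ φ x ≠ 1 :=
  exists_hom_units_of_not_mem h.comm (W₂.subgroupOf (W₁ ⊔ W₂)) (x := x) hx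

omit [Fintype L] in
theorem PrimeTIHyp.exists_not_mem (h : PrimeTIHyp K W₁ W₂) (hW₁ : W₁ ≠ ⊥) :
    ∃ x : ↥(W₁ ⊔ W₂), (x : L) ∉ W₂ := by
  obtain ⟨a, ha1⟩ := (Subgroup.ne_bot_iff_exists_ne_one).mp hW₁
  have ha' : (a : L) ≠ 1 := fun e => ha1 (Subtype.ext e)
  refine ⟨⟨(a : L), (le_sup_left : W₁ ≤ W₁ ⊔ W₂) a.2⟩, ?_⟩
  intro hc
  have : (a : L) ∈ W₁ ⊓ W₂ := ⟨a.2, hc⟩
  rw [h.inf₁₂, Subgroup.mem_bot] at this
  exact ha' this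

/-- injectivity across classes -/
theorem primeTI_injective (h : PrimeTIHyp K W₁ W₂) (hW₁ : W₁ ≠ ⊥)
    (μ : (↥(W₁ ⊔ W₂) →* ℂˣ) → (L → ℂ)) (δ : (↥(W₁ ⊔ W₂) →* ℂˣ) → ℂ)
    (hirr : ∀ ω, Cfsg.IsIrrCharacter L (μ ω)) (hδ : ∀ ω, δ ω = 1 ∨ δ ω = -1)
    (hrel : ∀ ω ω' : ↥(W₁ ⊔ W₂) →* ℂˣ, (∀ w : ↥(W₁ ⊔ W₂), (w : L) ∈ W₂ → ω w = ω' w) →
        δ ω = δ ω' ∧
        Cfsg.indFun (W₁ ⊔ W₂) (fun w => (ω w : ℂ) - (ω' w : ℂ)) = δ ω • (μ ω - μ ω') ∧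
        (μ ω = μ ω' → ω = ω')) : Function.Injective μ := by
  classical
  have : Fintype ↥(W₁ ⊔ W₂) := Fintype.ofFinite _
  obtain ⟨x, hx⟩ := h.exists_not_mem hW₁
  obtain ⟨φ₁, hφ₁, hφ₁x⟩ := h.exists_hom x hx
  have hφ₁1 : φ₁ ≠ 1 := by
    intro e
    apply hφ₁x
    rw [e]; rfl
  intro ω ω' hμ
  by_cases hr : ∀ w : ↥(W₁ ⊔ W₂), (w : L) ∈ W₂ → ω w = ω' w
  · exact (hrel ω ω' hr).2.2 hμ
  · exfalso
    have hr₁ : ∀ w : ↥(W₁ ⊔ W₂), (w : L) ∈ W₂ → ω w = (ω * φ₁) w := by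
      intro w hw
      rw [MonoidHom.mul_apply, hφ₁ w hw, mul_one]
    have hr₁' : ∀ w : ↥(W₁ ⊔ W₂), (w : L) ∈ W₂ → ω' w = (ω' * φ₁) w := by
      intro w hw
      rw [MonoidHom.mul_apply, hφ₁ w hw, mul_one]
    obtain ⟨-, e1, i1⟩ := hrel ω (ω * φ₁) hr₁
    obtain ⟨-, e2, i2⟩ := hrel ω' (ω' * φ₁) hr₁'
    have hne1 : ω ≠ ω * φ₁ := by
      intro e
      apply hφ₁1
      have : ω * φ₁ = ω * 1 := by rw [← e]; ext w; simp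
      exact mul_left_cancel this
    have hne2 : ω' ≠ ω' * φ₁ := by
      intro e
      apply hφ₁1
      have : ω' * φ₁ = ω' * 1 := by rw [← e]; ext w; simp
      exact mul_left_cancel this
    have hab : μ ω ≠ μ (ω * φ₁) := fun e => hne1 (i1 e)
    have hcd : μ ω' ≠ μ (ω' * φ₁) := fun e => hne2 (i2 e)
    -- the inner product of the two induced functions vanishes
    have hzero : Cfsg.classInner
        (Cfsg.indFun (W₁ ⊔ W₂) (fun w => ((ω w : ℂˣ) : ℂ) - (((ω * φ₁) w : ℂˣ) : ℂ)))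
        (Cfsg.indFun (W₁ ⊔ W₂) (fun w => ((ω' w : ℂˣ) : ℂ) - (((ω' * φ₁) w : ℂˣ) : ℂ))) = 0 := by
      rw [h.classInner_indFun _ _ (by
        intro w hw
        rw [← hr₁ w hw, sub_self])]
      have f1 : (fun w : ↥(W₁ ⊔ W₂) => ((ω w : ℂˣ) : ℂ) - (((ω * φ₁) w : ℂˣ) : ℂ))
          = (fun w => ((ω w : ℂˣ) : ℂ)) - (fun w => (((ω * φ₁) w : ℂˣ) : ℂ)) := rfl
      have f2 : (fun w : ↥(W₁ ⊔ W₂) => ((ω' w : ℂˣ) : ℂ) - (((ω' * φ₁) w : ℂˣ) : ℂ))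
          = (fun w => ((ω' w : ℂˣ) : ℂ)) - (fun w => (((ω' * φ₁) w : ℂˣ) : ℂ)) := rfl
      rw [f1, f2, classInner_sub_left, classInner_sub_right, classInner_sub_right,
        classInner_hom_units, classInner_hom_units, classInner_hom_units, classInner_hom_units]
      have n1 : ω ≠ ω' := fun e => hr (by rw [e]; intro w _; rfl)
      have n2 : ω ≠ ω' * φ₁ := fun e => hr (by
        intro w hw
        rw [e, MonoidHom.mul_apply, hφ₁ w hw, mul_one])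
      have n3 : ω * φ₁ ≠ ω' := fun e => hr (by
        intro w hw
        rw [← e, MonoidHom.mul_apply, hφ₁ w hw, mul_one])
      have n4 : ω * φ₁ ≠ ω' * φ₁ := fun e => n1 (mul_right_cancel e)
      rw [if_neg n1, if_neg n2, if_neg n3, if_neg n4]
      ring
    rw [e1, e2, Cfsg.Agent.Helper23.classInner_smul_left, classInner_smul_right] at hzero
    have hδ1 : δ ω ≠ 0 := by rcases hδ ω with e | e <;> rw [e] <;> norm_num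
    have hδ2 : conj (δ ω') ≠ 0 := by
      rcases hδ ω' with e | e <;> rw [e] <;> simp
    have hz : Cfsg.classInner (μ ω - μ (ω * φ₁)) (μ ω' - μ (ω' * φ₁)) = 0 := by
      rcases mul_eq_zero.mp hzero with e | e
      · exact absurd e hδ1
      · rcases mul_eq_zero.mp e with e' | e'
        · exact absurd e' hδ2
        · exact e'
    rw [classInner_sub_left, classInner_sub_right, classInner_sub_right,
      Cfsg.Agent.Helper23.classInner_irrCharacter _ _ (hirr _) (hirr _),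
      Cfsg.Agent.Helper23.classInner_irrCharacter _ _ (hirr _) (hirr _),
      Cfsg.Agent.Helper23.classInner_irrCharacter _ _ (hirr _) (hirr _),
      Cfsg.Agent.Helper23.classInner_irrCharacter _ _ (hirr _) (hirr _)] at hz
    have m1 : μ ω ≠ μ (ω' * φ₁) := fun e => hcd (hμ.symm.trans e)
    have m2 : μ (ω * φ₁) ≠ μ ω' := fun e => hab (hμ.trans e.symm)
    rw [if_pos hμ, if_neg m1, if_neg m2] at hz
    by_cases m3 : μ (ω * φ₁) = μ (ω' * φ₁)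
    · rw [if_pos m3] at hz; norm_num at hz
    · rw [if_neg m3] at hz; norm_num at hz

/-- values on `W ∖ W₂` -/
theorem primeTI_values (h : PrimeTIHyp K W₁ W₂)
    (μ : (↥(W₁ ⊔ W₂) →* ℂˣ) → (L → ℂ)) (δ : (↥(W₁ ⊔ W₂) →* ℂˣ) → ℂ)
    (hirr : ∀ ω, Cfsg.IsIrrCharacter L (μ ω)) (hδ : ∀ ω, δ ω = 1 ∨ δ ω = -1)
    (hinj : Function.Injective μ)
    (hrel : ∀ ω ω' : ↥(W₁ ⊔ W₂) →* ℂˣ, (∀ w : ↥(W₁ ⊔ W₂), (w : L) ∈ W₂ → ω w = ω' w) →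
        δ ω = δ ω' ∧
        Cfsg.indFun (W₁ ⊔ W₂) (fun w => (ω w : ℂ) - (ω' w : ℂ)) = δ ω • (μ ω - μ ω'))
    (x : ↥(W₁ ⊔ W₂)) (hx : (x : L) ∉ W₂) :
    (∀ ω, μ ω x = δ ω * (ω x : ℂ)) ∧
    (∀ θ : L → ℂ, Cfsg.IsIrrCharacter L θ → (∀ ω, θ ≠ μ ω) → θ x = 0) := by
  classical
  have hfinW : Finite (↥(W₁ ⊔ W₂) →* ℂˣ) := finite_hom_units h.comm
  have hfW : Fintype (↥(W₁ ⊔ W₂) →* ℂˣ) := Fintype.ofFinite _
  have hfI : Fintype (Cfsg.IrrCharacter L) :=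
    @Fintype.ofFinite _ (Cfsg.Agent.Helper23.finite_irrCharacter L)
  obtain ⟨φ₁, hφ₁, hφ₁x⟩ := h.exists_hom x hx
  have hδsq : ∀ ω, δ ω * δ ω = 1 := by
    intro ω
    rcases hδ ω with e | e <;> rw [e] <;> norm_num
  have hδn : ∀ ω, Complex.normSq (δ ω) = 1 := by
    intro ω
    rcases hδ ω with e | e <;> rw [e] <;> simp
  have hr₁ : ∀ ω : ↥(W₁ ⊔ W₂) →* ℂˣ,
      ∀ w : ↥(W₁ ⊔ W₂), (w : L) ∈ W₂ → ω w = (ω * φ₁) w := by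
    intro ω w hw
    rw [MonoidHom.mul_apply, hφ₁ w hw, mul_one]
  -- the defect
  have hc1 : ∀ ω : ↥(W₁ ⊔ W₂) →* ℂˣ,
      μ (ω * φ₁) x - δ (ω * φ₁) * (((ω * φ₁) x : ℂˣ) : ℂ) = μ ω x - δ ω * ((ω x : ℂˣ) : ℂ) := by
    intro ω
    obtain ⟨e0, e1⟩ := hrel ω (ω * φ₁) (hr₁ ω)
    have e2 := congrFun e1 (x : L)
    rw [h.indFun_apply _ x hx] at e2
    simp only [Pi.smul_apply, Pi.sub_apply, smul_eq_mul] at e2
    rw [← e0]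
    linear_combination (δ ω) * e2 + (μ ω x - μ (ω * φ₁) x) * hδsq ω
  have hS : ∑ ω : ↥(W₁ ⊔ W₂) →* ℂˣ,
      δ ω * ((ω x : ℂˣ) : ℂ) * conj (μ ω x - δ ω * ((ω x : ℂˣ) : ℂ)) = 0 := by
    have h1 : ∑ ω : ↥(W₁ ⊔ W₂) →* ℂˣ,
        δ ω * ((ω x : ℂˣ) : ℂ) * conj (μ ω x - δ ω * ((ω x : ℂˣ) : ℂ))
        = ∑ ω : ↥(W₁ ⊔ W₂) →* ℂˣ, δ (ω * φ₁) * (((ω * φ₁) x : ℂˣ) : ℂ)
            * conj (μ (ω * φ₁) x - δ (ω * φ₁) * (((ω * φ₁) x : ℂˣ) : ℂ)) :=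
      (Equiv.sum_comp (Equiv.mulRight φ₁)
        (fun ω => δ ω * ((ω x : ℂˣ) : ℂ) * conj (μ ω x - δ ω * ((ω x : ℂˣ) : ℂ)))).symm
    have h2 : ∀ ω : ↥(W₁ ⊔ W₂) →* ℂˣ, δ (ω * φ₁) * (((ω * φ₁) x : ℂˣ) : ℂ)
            * conj (μ (ω * φ₁) x - δ (ω * φ₁) * (((ω * φ₁) x : ℂˣ) : ℂ))
        = ((φ₁ x : ℂˣ) : ℂ)
          * (δ ω * ((ω x : ℂˣ) : ℂ) * conj (μ ω x - δ ω * ((ω x : ℂˣ) : ℂ))) := by
      intro ω
      rw [hc1, ← (hrel ω (ω * φ₁) (hr₁ ω)).1, MonoidHom.mul_apply, Units.val_mul]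
      ring
    rw [Finset.sum_congr rfl (fun ω _ => h2 ω), ← Finset.mul_sum] at h1
    have h3 : (1 - ((φ₁ x : ℂˣ) : ℂ)) * ∑ ω : ↥(W₁ ⊔ W₂) →* ℂˣ,
        δ ω * ((ω x : ℂˣ) : ℂ) * conj (μ ω x - δ ω * ((ω x : ℂˣ) : ℂ)) = 0 := by
      linear_combination h1
    rcases mul_eq_zero.mp h3 with e | e
    · exfalso
      apply hφ₁x
      apply Units.ext
      rw [Units.val_one]
      linear_combination -e
    · exact e
  have hsum : ∑ ω : ↥(W₁ ⊔ W₂) →* ℂˣ, Complex.normSq (μ ω x)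
      = (Fintype.card (↥(W₁ ⊔ W₂) →* ℂˣ) : ℝ)
        + ∑ ω : ↥(W₁ ⊔ W₂) →* ℂˣ, Complex.normSq (μ ω x - δ ω * ((ω x : ℂˣ) : ℂ)) := by
    have h1 : ∀ ω : ↥(W₁ ⊔ W₂) →* ℂˣ, Complex.normSq (μ ω x)
        = 1 + Complex.normSq (μ ω x - δ ω * ((ω x : ℂˣ) : ℂ))
          + 2 * (δ ω * ((ω x : ℂˣ) : ℂ) * conj (μ ω x - δ ω * ((ω x : ℂˣ) : ℂ))).re := by
      intro ω
      have e : μ ω x = δ ω * ((ω x : ℂˣ) : ℂ) + (μ ω x - δ ω * ((ω x : ℂˣ) : ℂ)) := by ring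
      have hn : Complex.normSq ((ω x : ℂˣ) : ℂ) = 1 := by
        rw [Complex.normSq_eq_norm_sq, norm_hom_units, one_pow]
      conv_lhs => rw [e]
      rw [Complex.normSq_add, Complex.normSq_mul, hδn, hn, one_mul]
    rw [Finset.sum_congr rfl (fun ω _ => h1 ω), Finset.sum_add_distrib, Finset.sum_add_distrib,
      ← Finset.mul_sum, ← Complex.re_sum, hS]
    simp
  -- the second orthogonality relation
  have hcol : ∑ χ : Cfsg.IrrCharacter L, Complex.normSq ((χ : L → ℂ) x)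
      = (Nat.card ↥(W₁ ⊔ W₂) : ℝ) := by
    have h1 := Cfsg.Agent.Helper24.sum_irr_mul_conj (x : L) (x : L)
    rw [if_pos (IsConj.refl _), h.centralizer_eq x.2 hx] at h1
    have h2 : ∀ χ : Cfsg.IrrCharacter L, (χ : L → ℂ) x * conj ((χ : L → ℂ) x)
        = ((Complex.normSq ((χ : L → ℂ) x) : ℝ) : ℂ) := fun χ => Complex.mul_conj _
    rw [Finset.sum_congr rfl (fun χ _ => h2 χ), ← Complex.ofReal_sum] at h1
    have h3 : ((Nat.card ↥(W₁ ⊔ W₂) : ℕ) : ℂ) = (((Nat.card ↥(W₁ ⊔ W₂) : ℕ) : ℝ) : ℂ) := by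
      push_cast; rfl
    rw [h3] at h1
    exact Complex.ofReal_injective h1
  have hcardW : (Fintype.card (↥(W₁ ⊔ W₂) →* ℂˣ) : ℝ) = (Nat.card ↥(W₁ ⊔ W₂) : ℝ) := by
    let _ : CommGroup ↥(W₁ ⊔ W₂) :=
      { (inferInstance : Group ↥(W₁ ⊔ W₂)) with mul_comm := h.comm }
    have := hasEnoughRootsOfUnity_exponent ↥(W₁ ⊔ W₂)
    rw [← Nat.card_eq_fintype_card,
      CommGroup.card_monoidHom_of_hasEnoughRootsOfUnity ↥(W₁ ⊔ W₂) ℂ]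
  -- comparison of the two sums
  have hι : Function.Injective (fun ω : ↥(W₁ ⊔ W₂) →* ℂˣ => (⟨μ ω, hirr ω⟩ : Cfsg.IrrCharacter L)) :=
    fun ω ω' e => hinj (congrArg Subtype.val e)
  have himg : ∑ χ ∈ Finset.univ.image
      (fun ω : ↥(W₁ ⊔ W₂) →* ℂˣ => (⟨μ ω, hirr ω⟩ : Cfsg.IrrCharacter L)),
      Complex.normSq ((χ : L → ℂ) x) = ∑ ω : ↥(W₁ ⊔ W₂) →* ℂˣ, Complex.normSq (μ ω x) :=
    Finset.sum_image (fun a _ b _ e => hι e)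
  have hle : ∑ ω : ↥(W₁ ⊔ W₂) →* ℂˣ, Complex.normSq (μ ω x) ≤ (Nat.card ↥(W₁ ⊔ W₂) : ℝ) := by
    rw [← hcol, ← himg]
    exact Finset.sum_le_sum_of_subset_of_nonneg (Finset.subset_univ _)
      (fun χ _ _ => Complex.normSq_nonneg _)
  have hc0 : ∑ ω : ↥(W₁ ⊔ W₂) →* ℂˣ, Complex.normSq (μ ω x - δ ω * ((ω x : ℂˣ) : ℂ)) = 0 := by
    apply le_antisymm
    · rw [hsum, hcardW] at hle
      linarith
    · exact Finset.sum_nonneg (fun ω _ => Complex.normSq_nonneg _)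
  have hc : ∀ ω : ↥(W₁ ⊔ W₂) →* ℂˣ, μ ω x = δ ω * ((ω x : ℂˣ) : ℂ) := by
    intro ω
    have := (Finset.sum_eq_zero_iff_of_nonneg (fun ω _ => Complex.normSq_nonneg _)).mp hc0 ω
      (Finset.mem_univ ω)
    exact sub_eq_zero.mp (Complex.normSq_eq_zero.mp this)
  refine ⟨hc, ?_⟩
  intro θ hθ hne
  have hnot : (⟨θ, hθ⟩ : Cfsg.IrrCharacter L) ∉ Finset.univ.image
      (fun ω : ↥(W₁ ⊔ W₂) →* ℂˣ => (⟨μ ω, hirr ω⟩ : Cfsg.IrrCharacter L)) := by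
    intro hm
    obtain ⟨ω, -, e⟩ := Finset.mem_image.mp hm
    exact hne ω (congrArg Subtype.val e).symm
  have h1 : ∑ χ ∈ insert (⟨θ, hθ⟩ : Cfsg.IrrCharacter L) (Finset.univ.image
      (fun ω : ↥(W₁ ⊔ W₂) →* ℂˣ => (⟨μ ω, hirr ω⟩ : Cfsg.IrrCharacter L))),
      Complex.normSq ((χ : L → ℂ) x) ≤ (Nat.card ↥(W₁ ⊔ W₂) : ℝ) := by
    rw [← hcol]
    exact Finset.sum_le_sum_of_subset_of_nonneg (Finset.subset_univ _)
      (fun χ _ _ => Complex.normSq_nonneg _)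
  rw [Finset.sum_insert hnot, himg, hsum, hc0, hcardW, add_zero] at h1
  have h2 : Complex.normSq (θ x) ≤ 0 := by linarith
  exact Complex.normSq_eq_zero.mp (le_antisymm h2 (Complex.normSq_nonneg _))

/-- the degrees modulo `|W₁|` -/
theorem primeTI_degree (h : PrimeTIHyp K W₁ W₂)
    (μ : (↥(W₁ ⊔ W₂) →* ℂˣ) → (L → ℂ)) (δ : (↥(W₁ ⊔ W₂) →* ℂˣ) → ℂ)
    (hirr : ∀ ω, Cfsg.IsIrrCharacter L (μ ω)) (hδ : ∀ ω, δ ω = 1 ∨ δ ω = -1)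
    (hval : ∀ ω, ∀ w : ↥(W₁ ⊔ W₂), (w : L) ∉ W₂ → μ ω w = δ ω * (ω w : ℂ))
    (ω : ↥(W₁ ⊔ W₂) →* ℂˣ) : ∃ n : ℤ, μ ω 1 - δ ω = n * (Nat.card W₁ : ℂ) := by
  classical
  have hfW₁ : Fintype W₁ := Fintype.ofFinite _
  have hfI₁ : Fintype (Cfsg.IrrCharacter W₁) :=
    @Fintype.ofFinite _ (Cfsg.Agent.Helper23.finite_irrCharacter W₁)
  have hgen : Cfsg.IsGeneralizedCharacter W₁ (fun a : W₁ => μ ω (a : L)) :=
    Cfsg.Agent.Helper24.IsGeneralizedCharacter.restrict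
      (Cfsg.Agent.Helper24.IsIrrCharacter.isGeneralizedCharacter (hirr ω)) W₁
  have htriv : Cfsg.IsGeneralizedCharacter W₁ (fun _ : W₁ => (1 : ℂ)) :=
    Cfsg.Agent.Helper24.IsCharacter.isGeneralizedCharacter
      Cfsg.Agent.Helper24.isCharacter_const_one
  obtain ⟨m, hm⟩ := Cfsg.Agent.Helper24.IsGeneralizedCharacter.classInner_int hgen htriv
  -- the restriction of `ω` to `W₁`
  set ω' : W₁ →* ℂ := (Units.coeHom ℂ).comp (ω.comp (Subgroup.inclusion le_sup_left)) with hω'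
  have hpt : ∀ a : W₁, μ ω (a : L) = δ ω * ω' a + (if a = 1 then μ ω 1 - δ ω else 0) := by
    intro a
    by_cases ha : a = 1
    · rw [if_pos ha, ha, map_one, Subgroup.coe_one]; ring
    · rw [if_neg ha, add_zero]
      have ha₂ : (a : L) ∉ W₂ := by
        intro hc
        have : (a : L) ∈ W₁ ⊓ W₂ := ⟨a.2, hc⟩
        rw [h.inf₁₂, Subgroup.mem_bot] at this
        exact ha (Subtype.ext this)
      exact hval ω ⟨(a : L), (le_sup_left : W₁ ≤ W₁ ⊔ W₂) a.2⟩ ha₂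
  have hsum : ∑ a : W₁, μ ω (a : L)
      = δ ω * (if ω' = 1 then (Fintype.card W₁ : ℂ) else 0) + (μ ω 1 - δ ω) := by
    rw [Finset.sum_congr rfl (fun a _ => hpt a), Finset.sum_add_distrib, ← Finset.mul_sum,
      sum_hom_units ω', Finset.sum_ite_eq' Finset.univ (1 : W₁), if_pos (Finset.mem_univ _)]
    split_ifs <;> simp
  have hinner : Cfsg.classInner (fun a : W₁ => μ ω (a : L)) (fun _ : W₁ => (1 : ℂ))
      = (Nat.card W₁ : ℂ)⁻¹ * ∑ a : W₁, μ ω (a : L) := by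
    unfold Cfsg.classInner
    congr 1
    apply Finset.sum_congr rfl
    intro a _
    rw [map_one, mul_one]
  rw [hinner, hsum] at hm
  have hne : (Nat.card W₁ : ℂ) ≠ 0 := Nat.cast_ne_zero.mpr Nat.card_pos.ne'
  have hcard : (Fintype.card W₁ : ℂ) = (Nat.card W₁ : ℂ) := by
    rw [Nat.card_eq_fintype_card]
  have hm' : δ ω * (if ω' = 1 then (Nat.card W₁ : ℂ) else 0) + (μ ω 1 - δ ω)
      = (m : ℂ) * (Nat.card W₁ : ℂ) := by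
    rw [hcard] at hm
    rw [← hm]
    field_simp
  by_cases hω1 : ω' = 1
  · rw [if_pos hω1] at hm'
    rcases hδ ω with e | e
    · refine ⟨m - 1, ?_⟩
      rw [e] at hm' ⊢
      push_cast
      linear_combination hm'
    · refine ⟨m + 1, ?_⟩
      rw [e] at hm' ⊢
      push_cast
      linear_combination hm'
  · rw [if_neg hω1, mul_zero, zero_add] at hm'
    exact ⟨m, hm'⟩

/-- **The characters `μ ω` of `L = K ⋊ W₁`.** -/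
theorem primeTI_family (h : PrimeTIHyp K W₁ W₂) (hW₁ : W₁ ≠ ⊥) :
    ∃ (μ : (↥(W₁ ⊔ W₂) →* ℂˣ) → (L → ℂ)) (δ : (↥(W₁ ⊔ W₂) →* ℂˣ) → ℂ),
      Function.Injective μ ∧ (∀ ω, Cfsg.IsIrrCharacter L (μ ω)) ∧ (∀ ω, δ ω = 1 ∨ δ ω = -1) ∧
      (∀ ω ω' : ↥(W₁ ⊔ W₂) →* ℂˣ, (∀ w : ↥(W₁ ⊔ W₂), (w : L) ∈ W₂ → ω w = ω' w) →
        δ ω = δ ω' ∧
        Cfsg.indFun (W₁ ⊔ W₂) (fun w => (ω w : ℂ) - (ω' w : ℂ)) = δ ω • (μ ω - μ ω')) ∧
      (∀ ω, ∀ w : ↥(W₁ ⊔ W₂), (w : L) ∉ W₂ → μ ω w = δ ω * (ω w : ℂ)) ∧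
      (∀ θ : L → ℂ, Cfsg.IsIrrCharacter L θ → (∀ ω, θ ≠ μ ω) →
        ∀ w : ↥(W₁ ⊔ W₂), (w : L) ∉ W₂ → θ w = 0) ∧
      (∀ ω, ∃ n : ℤ, μ ω 1 - δ ω = n * (Nat.card W₁ : ℂ)) := by
  obtain ⟨μ, δ, hirr, hδ, hrel⟩ := primeTI_basic h
  have hinj := primeTI_injective h hW₁ μ δ hirr hδ hrel
  have hrel' : ∀ ω ω' : ↥(W₁ ⊔ W₂) →* ℂˣ, (∀ w : ↥(W₁ ⊔ W₂), (w : L) ∈ W₂ → ω w = ω' w) →
        δ ω = δ ω' ∧
        Cfsg.indFun (W₁ ⊔ W₂) (fun w => (ω w : ℂ) - (ω' w : ℂ)) = δ ω • (μ ω - μ ω') :=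
    fun ω ω' hr => ⟨(hrel ω ω' hr).1, (hrel ω ω' hr).2.1⟩
  have hval : ∀ ω, ∀ w : ↥(W₁ ⊔ W₂), (w : L) ∉ W₂ → μ ω w = δ ω * (ω w : ℂ) :=
    fun ω w hw => (primeTI_values h μ δ hirr hδ hinj hrel' w hw).1 ω
  refine ⟨μ, δ, hinj, hirr, hδ, hrel', hval, ?_, ?_⟩
  · intro θ hθ hne w hw
    exact (primeTI_values h μ δ hirr hδ hinj hrel' w hw).2 θ hθ hne
  · intro ω
    exact primeTI_degree h μ δ hirr hδ hval ω

end Cfsg.Agent.Helper8
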