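import Mathlib
import Cfsg.Prelude.Def_Characters
import Cfsg.Prelude.Def_Blocks
import Cfsg.Agent.Helper5.BlockOrth
import Cfsg.Agent.Helper5.ThirdMain
import Cfsg.Agent.Helper24.Expansion
import Cfsg.Agent.Helper24.Linear

set_option autoImplicit false
set_option linter.style.haveILetI false
set_option linter.unusedSectionVars false
set_option linter.unusedVariables false

/-! # Principal blocks for two primes share a nonprincipal character
when there is no element of order `p q` (Brauer). -/

namespace Cfsg.Agent.Helper8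

open Cfsg Cfsg.Agent.Helper24 Cfsg.Agent.Helper5

section Share

variable {G : Type*} [Group G] [Finite G]

theorem principal_blocks_share (p q : ℕ) [hp : Fact p.Prime] [hq : Fact q.Prime] (hpq : p ≠ q)
    (hpd : p ∣ Nat.card G) (hqd : q ∣ Nat.card G) (hno : ∀ g : G, orderOf g ≠ p * q)
    (Mp Mq : Ideal Cfsg.AlgInt) (hMp : Cfsg.IsPModular p Mp) (hMq : Cfsg.IsPModular q Mq) :
    ∃ χ : Cfsg.IrrCharacter G, (χ : G → ℂ) ≠ (fun _ => 1) ∧ χ ∈ Cfsg.principalBlock Mp G ∧
      χ ∈ Cfsg.principalBlock Mq G := by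
  classical
  haveI : Fintype G := Fintype.ofFinite G
  haveI : Fintype (Cfsg.IrrCharacter G) := Fintype.ofFinite _
  obtain ⟨x, hx⟩ := exists_prime_orderOf_dvd_card' p hpd
  obtain ⟨y, hy⟩ := exists_prime_orderOf_dvd_card' q hqd
  by_contra hcon
  push Not at hcon
  -- the two class functions
  set a : Cfsg.IrrCharacter G → ℂ := fun χ =>
    (if χ ∈ Cfsg.principalBlock Mp G then (1 : ℂ) else 0) * (starRingEnd ℂ) ((χ : G → ℂ) x)
    with ha
  set b : Cfsg.IrrCharacter G → ℂ := fun χ =>
    (if χ ∈ Cfsg.principalBlock Mq G then (1 : ℂ) else 0) * (starRingEnd ℂ) ((χ : G → ℂ) y)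
    with hb
  set θp : G → ℂ := ∑ χ : Cfsg.IrrCharacter G, a χ • (χ : G → ℂ) with hθp
  set θq : G → ℂ := ∑ χ : Cfsg.IrrCharacter G, b χ • (χ : G → ℂ) with hθq
  have hθp0 : ∀ z : G, ¬ p ∣ orderOf z → θp z = 0 := by
    intro z hz
    have := CC.block_orthogonality hMp (CC.isPBlock_principalBlock (M := Mp) (G := G)) z x hz
      (by rw [hx])
    rw [hθp, Finset.sum_apply]
    simp only [Pi.smul_apply, smul_eq_mul, ha]
    refine Eq.trans ?_ this
    refine Finset.sum_congr rfl fun χ _ => ?_
    ring
  have hθq0 : ∀ z : G, ¬ q ∣ orderOf z → θq z = 0 := by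
    intro z hz
    have := CC.block_orthogonality hMq (CC.isPBlock_principalBlock (M := Mq) (G := G)) z y hz
      (by rw [hy])
    rw [hθq, Finset.sum_apply]
    simp only [Pi.smul_apply, smul_eq_mul, hb]
    refine Eq.trans ?_ this
    refine Finset.sum_congr rfl fun χ _ => ?_
    ring
  have hprod : ∀ z : G, θp z * (starRingEnd ℂ) (θq z) = 0 := by
    intro z
    by_cases h1 : p ∣ orderOf z
    · by_cases h2 : q ∣ orderOf z
      · exfalso
        have hcop : Nat.Coprime p q := (Nat.coprime_primes hp.out hq.out).mpr hpq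
        obtain ⟨k, hk⟩ := Nat.Coprime.mul_dvd_of_dvd_of_dvd hcop h1 h2
        have hz0 : orderOf z ≠ 0 := (orderOf_pos z).ne'
        have hk0 : k ≠ 0 := by
          rintro rfl
          rw [mul_zero] at hk
          exact hz0 hk
        apply hno (z ^ k)
        rw [orderOf_pow_of_dvd hk0 ⟨p * q, by rw [hk]; ring⟩, hk]
        exact Nat.mul_div_cancel _ (Nat.pos_of_ne_zero hk0)
      · rw [hθq0 z h2, map_zero, mul_zero]
    · rw [hθp0 z h1, zero_mul]
  have hinner : Cfsg.classInner θp θq = 0 := by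
    unfold Cfsg.classInner
    rw [Finset.sum_eq_zero (fun z _ => hprod z), mul_zero]
  rw [hθp, hθq, classInner_sum_sum] at hinner
  -- only the principal character contributes
  have hterm : ∀ χ : Cfsg.IrrCharacter G, χ ≠ trivIrr G → a χ * (starRingEnd ℂ) (b χ) = 0 := by
    intro χ hχ
    have hχ1 : (χ : G → ℂ) ≠ (fun _ => 1) := by
      intro h
      apply hχ
      apply Subtype.ext
      exact h
    by_cases h1 : χ ∈ Cfsg.principalBlock Mp G
    · have h2 := hcon χ hχ1 h1
      simp only [hb, if_neg h2, zero_mul, map_zero, mul_zero]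
    · simp only [ha, if_neg h1, zero_mul]
  rw [Finset.sum_eq_single (trivIrr G) (fun χ _ hχ => hterm χ hχ)
    (fun h => absurd (Finset.mem_univ _) h)] at hinner
  have h1 := CC.trivIrr_mem_principalBlock (G := G) (Loc.isPrime_of_isPModular hMp)
  have h2 := CC.trivIrr_mem_principalBlock (G := G) (Loc.isPrime_of_isPModular hMq)
  simp only [ha, hb, if_pos h1, if_pos h2, trivIrr_apply, map_one, mul_one] at hinner
  exact one_ne_zero hinner

end Share

end Cfsg.Agent.Helper8
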