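import Mathlib

/-!
Arithmetic core of the Brauer–Suzuki theorem for a quaternion Sylow 2-subgroup of order 8.

`a i` are the degrees of three irreducible characters, `b i` their values at the involution,
`d i = ± 1` the values at an element of order 4.  The three relations come from
`Θ(1) = Θ(t) = 0` and from the class multiplication coefficients; the congruences come from
restriction to the quaternion group.  Conclusion: `b i = a i` for all `i`.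
-/

set_option autoImplicit false

namespace Cfsg.Agent.Helper8.Q8Arith

/-- residues mod 4: the key non-solvability statement -/
theorem mod_four_key : ∀ e₁ e₂ a₁ a₂ m : ZMod 4,
    (e₁ * a₂ - e₂ * a₁) ^ 2 = e₁ ^ 2 * a₂ + e₂ ^ 2 * a₁ →
    a₁ = 2 * m * e₁ - 1 → a₂ = 2 * m * e₂ - 1 →
    (e₁ = 0 ∨ e₁ = 2) ∧ (e₂ = 0 ∨ e₂ = 2) := by
  decide

theorem even_of_zmod_four (e : ℤ) (h : (e : ZMod 4) = 0 ∨ (e : ZMod 4) = 2) : 2 ∣ e := by
  rcases h with h | h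
  · have h4 : (4 : ℤ) ∣ e := by
      have := (ZMod.intCast_zmod_eq_zero_iff_dvd e 4).mp h
      exact_mod_cast this
    exact Dvd.dvd.trans (by norm_num) h4
  · have h' : ((e - 2 : ℤ) : ZMod 4) = 0 := by
      push_cast
      rw [h]
      decide
    have h4 : (4 : ℤ) ∣ e - 2 := by
      have := (ZMod.intCast_zmod_eq_zero_iff_dvd (e - 2) 4).mp h'
      exact_mod_cast this
    obtain ⟨k, hk⟩ := h4
    exact ⟨2 * k + 1, by linarith⟩

/-- the descent: no nonzero solutions of `(e₁ a₂ - e₂ a₁)² = e₁² a₂ + e₂² a₁`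
with `a i ≡ 2 m e i - 1 (mod 4)` -/
theorem descent : ∀ (n : ℕ) (e₁ e₂ a₁ a₂ m : ℤ), e₁.natAbs + e₂.natAbs = n →
    (e₁ * a₂ - e₂ * a₁) ^ 2 = e₁ ^ 2 * a₂ + e₂ ^ 2 * a₁ →
    (4 : ℤ) ∣ a₁ - (2 * m * e₁ - 1) → (4 : ℤ) ∣ a₂ - (2 * m * e₂ - 1) →
    e₁ = 0 ∧ e₂ = 0 := by
  intro n
  induction n using Nat.strong_induction_on with
  | _ n ih =>
    intro e₁ e₂ a₁ a₂ m hn heq h1 h2
    -- reduce mod 4
    have hq : ((e₁ : ZMod 4) * (a₂ : ZMod 4) - (e₂ : ZMod 4) * (a₁ : ZMod 4)) ^ 2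
        = (e₁ : ZMod 4) ^ 2 * (a₂ : ZMod 4) + (e₂ : ZMod 4) ^ 2 * (a₁ : ZMod 4) := by
      have := congrArg (fun z : ℤ => (z : ZMod 4)) heq
      push_cast at this
      exact this
    have hc1 : (a₁ : ZMod 4) = 2 * (m : ZMod 4) * (e₁ : ZMod 4) - 1 := by
      have h := (ZMod.intCast_zmod_eq_zero_iff_dvd (a₁ - (2 * m * e₁ - 1)) 4).mpr
        (by exact_mod_cast h1)
      push_cast at h
      linear_combination h
    have hc2 : (a₂ : ZMod 4) = 2 * (m : ZMod 4) * (e₂ : ZMod 4) - 1 := by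
      have h := (ZMod.intCast_zmod_eq_zero_iff_dvd (a₂ - (2 * m * e₂ - 1)) 4).mpr
        (by exact_mod_cast h2)
      push_cast at h
      linear_combination h
    obtain ⟨he1, he2⟩ := mod_four_key _ _ _ _ _ hq hc1 hc2
    obtain ⟨f₁, hf₁⟩ := even_of_zmod_four e₁ he1
    obtain ⟨f₂, hf₂⟩ := even_of_zmod_four e₂ he2
    by_cases h0 : e₁ = 0 ∧ e₂ = 0
    · exact h0
    · exfalso
      have hlt : f₁.natAbs + f₂.natAbs < n := by
        rw [← hn, hf₁, hf₂, Int.natAbs_mul, Int.natAbs_mul]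
        have : f₁ ≠ 0 ∨ f₂ ≠ 0 := by
          by_contra hcon
          push Not at hcon
          apply h0
          rw [hf₁, hf₂, hcon.1, hcon.2]
          simp
        have h22 : (2 : ℤ).natAbs = 2 := rfl
        rw [h22]
        rcases this with h | h
        · have := Int.natAbs_pos.mpr h
          omega
        · have := Int.natAbs_pos.mpr h
          omega
      have heq' : (f₁ * a₂ - f₂ * a₁) ^ 2 = f₁ ^ 2 * a₂ + f₂ ^ 2 * a₁ := by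
        rw [hf₁, hf₂] at heq
        have : (4 : ℤ) * (f₁ * a₂ - f₂ * a₁) ^ 2 = 4 * (f₁ ^ 2 * a₂ + f₂ ^ 2 * a₁) := by
          linear_combination heq
        exact mul_left_cancel₀ (by norm_num) this
      have h1' : (4 : ℤ) ∣ a₁ - (2 * (2 * m) * f₁ - 1) := by
        have : a₁ - (2 * (2 * m) * f₁ - 1) = a₁ - (2 * m * e₁ - 1) := by rw [hf₁]; ring
        rw [this]; exact h1
      have h2' : (4 : ℤ) ∣ a₂ - (2 * (2 * m) * f₂ - 1) := by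
        have : a₂ - (2 * (2 * m) * f₂ - 1) = a₂ - (2 * m * e₂ - 1) := by rw [hf₂]; ring
        rw [this]; exact h2
      obtain ⟨g1, g2⟩ := ih _ hlt f₁ f₂ a₁ a₂ (2 * m) rfl heq' h1' h2'
      apply h0
      rw [hf₁, hf₂, g1, g2]
      simp

/-- pattern `(+, +, -)` -/
theorem core_ppm (a₁ a₂ a₃ b₁ b₂ b₃ : ℤ) (ha₁ : 0 < a₁) (ha₂ : 0 < a₂)
    (h1 : 1 + a₁ + a₂ - a₃ = 0) (h2 : 1 + b₁ + b₂ - b₃ = 0)
    (h3 : a₁ * a₂ * a₃ + b₁ ^ 2 * a₂ * a₃ + b₂ ^ 2 * a₁ * a₃ - b₃ ^ 2 * a₁ * a₂ = 0) :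
    b₁ = a₁ ∧ b₂ = a₂ ∧ b₃ = a₃ := by
  have ha₃ : a₃ = 1 + a₁ + a₂ := by linarith
  have hb₃ : b₃ = 1 + b₁ + b₂ := by linarith
  subst ha₃ hb₃
  have key : ((a₁ - b₁) * a₂ - (a₂ - b₂) * a₁) ^ 2 + (a₁ - b₁) ^ 2 * a₂ + (a₂ - b₂) ^ 2 * a₁ = 0 := by
    linear_combination h3
  have t1 : 0 ≤ ((a₁ - b₁) * a₂ - (a₂ - b₂) * a₁) ^ 2 := sq_nonneg _
  have t2 : 0 ≤ (a₁ - b₁) ^ 2 * a₂ := mul_nonneg (sq_nonneg _) ha₂.le
  have t3 : 0 ≤ (a₂ - b₂) ^ 2 * a₁ := mul_nonneg (sq_nonneg _) ha₁.le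
  have z2 : (a₁ - b₁) ^ 2 * a₂ = 0 := by linarith
  have z3 : (a₂ - b₂) ^ 2 * a₁ = 0 := by linarith
  have e1 : a₁ - b₁ = 0 := by
    rcases mul_eq_zero.mp z2 with h | h
    · exact pow_eq_zero_iff (two_ne_zero) |>.mp h
    · omega
  have e2 : a₂ - b₂ = 0 := by
    rcases mul_eq_zero.mp z3 with h | h
    · exact pow_eq_zero_iff (two_ne_zero) |>.mp h
    · omega
  refine ⟨by linarith, by linarith, by linarith⟩

/-- pattern `(-, -, +)` -/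
theorem core_mmp (a₁ a₂ a₃ b₁ b₂ b₃ : ℤ)
    (h1 : 1 - a₁ - a₂ + a₃ = 0) (h2 : 1 - b₁ - b₂ + b₃ = 0)
    (h3 : a₁ * a₂ * a₃ - b₁ ^ 2 * a₂ * a₃ - b₂ ^ 2 * a₁ * a₃ + b₃ ^ 2 * a₁ * a₂ = 0)
    (h4₁ : (4 : ℤ) ∣ a₁ - b₁) (h4₂ : (4 : ℤ) ∣ a₂ - b₂)
    (h8₁ : (8 : ℤ) ∣ a₁ + b₁ + 2) (h8₂ : (8 : ℤ) ∣ a₂ + b₂ + 2) :
    b₁ = a₁ ∧ b₂ = a₂ ∧ b₃ = a₃ := by
  have ha₃ : a₃ = a₁ + a₂ - 1 := by linarith
  have hb₃ : b₃ = b₁ + b₂ - 1 := by linarith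
  subst ha₃ hb₃
  obtain ⟨e₁, he₁⟩ := h4₁
  obtain ⟨e₂, he₂⟩ := h4₂
  have hb₁ : b₁ = a₁ - 4 * e₁ := by linarith
  have hb₂ : b₂ = a₂ - 4 * e₂ := by linarith
  subst hb₁ hb₂
  have key : (e₁ * a₂ - e₂ * a₁) ^ 2 = e₁ ^ 2 * a₂ + e₂ ^ 2 * a₁ := by
    have : (16 : ℤ) * (e₁ * a₂ - e₂ * a₁) ^ 2 = 16 * (e₁ ^ 2 * a₂ + e₂ ^ 2 * a₁) := by
      linear_combination (-1 : ℤ) * h3
    exact mul_left_cancel₀ (by norm_num) this
  have c1 : (4 : ℤ) ∣ a₁ - (2 * 1 * e₁ - 1) := by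
    obtain ⟨k, hk⟩ := h8₁
    exact ⟨k, by linarith⟩
  have c2 : (4 : ℤ) ∣ a₂ - (2 * 1 * e₂ - 1) := by
    obtain ⟨k, hk⟩ := h8₂
    exact ⟨k, by linarith⟩
  obtain ⟨g1, g2⟩ := descent _ e₁ e₂ a₁ a₂ 1 rfl key c1 c2
  subst g1 g2
  refine ⟨by ring, by ring, by ring⟩

/-- **The arithmetic lemma.** -/
theorem main (a b d : Fin 3 → ℤ) (ha : ∀ i, 0 < a i) (hd : ∀ i, d i = 1 ∨ d i = -1)
    (h1 : 1 + d 0 * a 0 + d 1 * a 1 + d 2 * a 2 = 0)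
    (h2 : 1 + d 0 * b 0 + d 1 * b 1 + d 2 * b 2 = 0)
    (h3 : a 0 * a 1 * a 2 + d 0 * b 0 ^ 2 * a 1 * a 2 + d 1 * b 1 ^ 2 * a 0 * a 2
      + d 2 * b 2 ^ 2 * a 0 * a 1 = 0)
    (h4 : ∀ i, (4 : ℤ) ∣ a i - b i) (h8 : ∀ i, (8 : ℤ) ∣ a i + b i - 2 * d i) :
    ∀ i, b i = a i := by
  have ha0 := ha 0
  have ha1 := ha 1
  have ha2 := ha 2
  have h40 := h4 0
  have h41 := h4 1
  have h42 := h4 2
  have h80 := h8 0
  have h81 := h8 1
  have h82 := h8 2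
  have fin3 : ∀ (P : Fin 3 → Prop), P 0 → P 1 → P 2 → ∀ i, P i := by
    intro P p0 p1 p2 i
    fin_cases i <;> assumption
  rcases hd 0 with d0 | d0 <;> rcases hd 1 with d1 | d1 <;> rcases hd 2 with d2 | d2 <;>
    rw [d0, d1, d2] at h1 h2 h3 <;> rw [d0] at h80 <;> rw [d1] at h81 <;> rw [d2] at h82
  · -- + + +
    exfalso; linarith
  · -- + + -
    obtain ⟨g0, g1, g2⟩ := core_ppm (a 0) (a 1) (a 2) (b 0) (b 1) (b 2) ha0 ha1
      (by linarith) (by linarith) (by linear_combination h3)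
    exact fin3 _ g0 g1 g2
  · -- + - +
    obtain ⟨g0, g2, g1⟩ := core_ppm (a 0) (a 2) (a 1) (b 0) (b 2) (b 1) ha0 ha2
      (by linarith) (by linarith) (by linear_combination h3)
    exact fin3 _ g0 g1 g2
  · -- + - -
    obtain ⟨g1, g2, g0⟩ := core_mmp (a 1) (a 2) (a 0) (b 1) (b 2) (b 0)
      (by linarith) (by linarith) (by linear_combination h3) h41 h42
      (by convert h81 using 1; ring) (by convert h82 using 1; ring)
    exact fin3 _ g0 g1 g2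
  · -- - + +
    obtain ⟨g1, g2, g0⟩ := core_ppm (a 1) (a 2) (a 0) (b 1) (b 2) (b 0) ha1 ha2
      (by linarith) (by linarith) (by linear_combination h3)
    exact fin3 _ g0 g1 g2
  · -- - + -
    obtain ⟨g0, g2, g1⟩ := core_mmp (a 0) (a 2) (a 1) (b 0) (b 2) (b 1)
      (by linarith) (by linarith) (by linear_combination h3) h40 h42
      (by convert h80 using 1; ring) (by convert h82 using 1; ring)
    exact fin3 _ g0 g1 g2
  · -- - - +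
    obtain ⟨g0, g1, g2⟩ := core_mmp (a 0) (a 1) (a 2) (b 0) (b 1) (b 2)
      (by linarith) (by linarith) (by linear_combination h3) h40 h41
      (by convert h80 using 1; ring) (by convert h81 using 1; ring)
    exact fin3 _ g0 g1 g2
  · -- - - -
    exfalso; linarith

end Cfsg.Agent.Helper8.Q8Arith
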