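import Mathlib
import Cfsg.Agent.Helper9.QuatSylow

/-!
Basic facts on a Sylow 2-subgroup isomorphic to the quaternion group of order 8.
-/

set_option autoImplicit false

namespace Cfsg.Agent.Helper8.Q8Sylow

open QuaternionGroup

section Q8

theorem q8_cases : ∀ x : QuaternionGroup 2, x = 1 ∨ x = a 2 ∨ x * x = a 2 := by decide

theorem q8_a2_sq : (a 2 : QuaternionGroup 2) * a 2 = 1 := by decide

theorem q8_a2_ne : (a 2 : QuaternionGroup 2) ≠ 1 := by decide

theorem q8_a1_sq : (a 1 : QuaternionGroup 2) * a 1 = a 2 := by decide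

theorem q8_a1_ne : (a 1 : QuaternionGroup 2) ≠ a 2 := by decide

theorem q8_a1_ne_one : (a 1 : QuaternionGroup 2) ≠ 1 := by decide

theorem q8_a2_central : ∀ y : QuaternionGroup 2, y * a 2 = a 2 * y := by decide

theorem q8_centralizer : ∀ y : QuaternionGroup 2, y * a 1 = a 1 * y →
    (y = 1 ∨ y = a 1 ∨ y = a 1 * a 1 ∨ y = a 1 * a 1 * a 1) := by decide

theorem q8_normal : ∀ y : QuaternionGroup 2, y * a 1 * y⁻¹ = a 1 ∨ y * a 1 * y⁻¹ = (a 1)⁻¹ := by
  decide

theorem q8_invert : (xa 0 : QuaternionGroup 2) * a 1 * (xa 0)⁻¹ = (a 1)⁻¹ := by decide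

theorem q8_a1_inv : ((a 1 : QuaternionGroup 2))⁻¹ = a 1 * a 2 := by decide

end Q8

section Sylow

variable {G : Type*} [Group G] (S : Subgroup G) (e : S ≃* QuaternionGroup 2)

/-- the element of order 4 -/
noncomputable def vv : G := ((e.symm (a 1) : S) : G)

/-- the involution -/
noncomputable def tt : G := ((e.symm (a 2) : S) : G)

/-- an element inverting `vv` -/
noncomputable def ss : G := ((e.symm (xa 0) : S) : G)

theorem vv_mem : vv S e ∈ S := (e.symm (a 1)).2
theorem tt_mem : tt S e ∈ S := (e.symm (a 2)).2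
theorem ss_mem : ss S e ∈ S := (e.symm (xa 0)).2

theorem vv_sq : vv S e * vv S e = tt S e := by
  unfold vv tt
  rw [← Subgroup.coe_mul, ← map_mul, q8_a1_sq]

theorem tt_sq : tt S e * tt S e = 1 := by
  unfold tt
  rw [← Subgroup.coe_mul, ← map_mul, q8_a2_sq, map_one, Subgroup.coe_one]

theorem tt_ne_one : tt S e ≠ 1 := by
  unfold tt
  intro h
  have h1 : e.symm (a 2) = 1 := Subtype.ext h
  have h2 : (a 2 : QuaternionGroup 2) = 1 := by
    have := congrArg e h1
    rwa [MulEquiv.apply_symm_apply, map_one] at this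
  exact q8_a2_ne h2

theorem vv_ne_one : vv S e ≠ 1 := by
  unfold vv
  intro h
  have h1 : e.symm (a 1) = 1 := Subtype.ext h
  have h2 : (a 1 : QuaternionGroup 2) = 1 := by
    have := congrArg e h1
    rwa [MulEquiv.apply_symm_apply, map_one] at this
  exact q8_a1_ne_one h2

theorem vv_ne_tt : vv S e ≠ tt S e := by
  unfold vv tt
  intro h
  have h1 : e.symm (a 1) = e.symm (a 2) := Subtype.ext h
  exact q8_a1_ne (e.symm.injective h1)

theorem orderOf_tt : orderOf (tt S e) = 2 :=
  orderOf_eq_prime (by rw [pow_two]; exact tt_sq S e) (tt_ne_one S e)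

theorem orderOf_vv : orderOf (vv S e) = 4 := by
  have h4 : vv S e ^ 4 = 1 := by
    have : vv S e ^ 4 = (vv S e * vv S e) * (vv S e * vv S e) := by
      rw [← pow_two, ← pow_two, ← pow_mul]
    rw [this, vv_sq, tt_sq]
  have h2 : vv S e ^ 2 ≠ 1 := by
    rw [pow_two, vv_sq]; exact tt_ne_one S e
  have hd : orderOf (vv S e) ∣ 2 ^ 2 := orderOf_dvd_of_pow_eq_one (by norm_num; exact h4)
  obtain ⟨k, hk, hok⟩ := (Nat.dvd_prime_pow Nat.prime_two).mp hd
  have : k = 2 := by
    by_contra hne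
    have hk1 : k ≤ 1 := by omega
    apply h2
    apply orderOf_dvd_iff_pow_eq_one.mp
    rw [hok]
    exact pow_dvd_pow 2 hk1
  rw [hok, this]; norm_num

/-- every element of `S` is `1`, the involution, or squares to the involution -/
theorem cases_of_mem {x : G} (hx : x ∈ S) : x = 1 ∨ x = tt S e ∨ x * x = tt S e := by
  rcases q8_cases (e ⟨x, hx⟩) with h | h | h
  · left
    have : (⟨x, hx⟩ : S) = 1 := by
      apply e.injective; rw [h, map_one]
    exact congrArg Subtype.val this
  · right; left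
    have : (⟨x, hx⟩ : S) = e.symm (a 2) := by
      apply e.injective; rw [h, MulEquiv.apply_symm_apply]
    exact congrArg Subtype.val this
  · right; right
    have : (⟨x, hx⟩ : S) * ⟨x, hx⟩ = e.symm (a 2) := by
      apply e.injective; rw [map_mul, h, MulEquiv.apply_symm_apply]
    exact congrArg Subtype.val this

theorem tt_comm {y : G} (hy : y ∈ S) : y * tt S e = tt S e * y := by
  unfold tt
  have h := q8_a2_central (e ⟨y, hy⟩)
  have : (⟨y, hy⟩ : S) * e.symm (a 2) = e.symm (a 2) * ⟨y, hy⟩ := by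
    apply e.injective
    rw [map_mul, map_mul, MulEquiv.apply_symm_apply]
    exact h
  exact congrArg Subtype.val this

/-- `C_S(v) = ⟨v⟩` -/
theorem mem_zpowers_of_comm {y : G} (hy : y ∈ S) (hc : y * vv S e = vv S e * y) :
    y ∈ Subgroup.zpowers (vv S e) := by
  have h0 : e ⟨y, hy⟩ * a 1 = a 1 * e ⟨y, hy⟩ := by
    have : (⟨y, hy⟩ : S) * e.symm (a 1) = e.symm (a 1) * ⟨y, hy⟩ := Subtype.ext hc
    have := congrArg e this
    rwa [map_mul, map_mul, MulEquiv.apply_symm_apply] at this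
  have conv : ∀ q : QuaternionGroup 2, e ⟨y, hy⟩ = q → y = ((e.symm q : S) : G) := by
    intro q hq
    have : (⟨y, hy⟩ : S) = e.symm q := by
      apply e.injective; rw [hq, MulEquiv.apply_symm_apply]
    exact congrArg Subtype.val this
  rcases q8_centralizer _ h0 with h | h | h | h
  · rw [conv _ h, map_one, Subgroup.coe_one]; exact Subgroup.one_mem _
  · rw [conv _ h]; exact Subgroup.mem_zpowers _
  · rw [conv _ h, map_mul, Subgroup.coe_mul]
    exact Subgroup.mul_mem _ (Subgroup.mem_zpowers _) (Subgroup.mem_zpowers _)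
  · rw [conv _ h, map_mul, map_mul, Subgroup.coe_mul, Subgroup.coe_mul]
    exact Subgroup.mul_mem _ (Subgroup.mul_mem _ (Subgroup.mem_zpowers _)
      (Subgroup.mem_zpowers _)) (Subgroup.mem_zpowers _)

theorem vv_inv : (vv S e)⁻¹ = vv S e * tt S e := by
  unfold vv tt
  rw [← Subgroup.coe_inv, ← map_inv, q8_a1_inv, map_mul, Subgroup.coe_mul]

/-- conjugation by elements of `S` maps `v` to `v` or `v⁻¹` -/
theorem conj_vv {y : G} (hy : y ∈ S) :
    y * vv S e * y⁻¹ = vv S e ∨ y * vv S e * y⁻¹ = (vv S e)⁻¹ := by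
  have conv : ∀ q : QuaternionGroup 2, e ⟨y, hy⟩ * a 1 * (e ⟨y, hy⟩)⁻¹ = q →
      y * vv S e * y⁻¹ = ((e.symm q : S) : G) := by
    intro q hq
    have : (⟨y, hy⟩ : S) * e.symm (a 1) * (⟨y, hy⟩ : S)⁻¹ = e.symm q := by
      apply e.injective
      rw [map_mul, map_mul, map_inv, MulEquiv.apply_symm_apply, MulEquiv.apply_symm_apply]
      exact hq
    exact congrArg Subtype.val this
  rcases q8_normal (e ⟨y, hy⟩) with h | h
  · left; rw [conv _ h]; rfl
  · right; rw [conv _ h, map_inv, Subgroup.coe_inv]; rfl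

theorem ss_conj : ss S e * vv S e * (ss S e)⁻¹ = (vv S e)⁻¹ := by
  unfold ss vv
  rw [← Subgroup.coe_inv, ← Subgroup.coe_mul, ← Subgroup.coe_mul, ← map_inv, ← map_mul, ← map_mul,
    q8_invert, map_inv, Subgroup.coe_inv]

include e in
theorem card_S : Nat.card S = 8 := by
  rw [Nat.card_congr e.toEquiv, Nat.card_eq_fintype_card, QuaternionGroup.card]

end Sylow

end Cfsg.Agent.Helper8.Q8Sylow
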