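import Mathlib
import Cfsg.Agent.Helper8.Q8Sylow
import Cfsg.Agent.Helper8.QuatInvol
import Cfsg.Agent.Helper8.QuatExc6
import Cfsg.Agent.Helper8.KleinNoComplement

/-!
Groups with a quaternion Sylow 2-subgroup of order 8 and a centre of order 2: the central quotient.
-/

set_option autoImplicit false

namespace Cfsg.Agent.Helper8.Q8Block

open Cfsg Cfsg.Agent.Helper8.Q8Sylow

variable {G : Type*} [Group G] [Finite G] (S : Sylow 2 G)
  (e : (S : Subgroup G) ≃* QuaternionGroup 2)

/-- a central element of 2-power order lies in every Sylow 2-subgroup -/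
theorem mem_sylow_of_central {z : G} (hz : ∀ g : G, g * z = z * g) {k : ℕ}
    (hk : orderOf z = 2 ^ k) : z ∈ (S : Subgroup G) := by
  haveI : Fact (Nat.Prime 2) := ⟨Nat.prime_two⟩
  have hp : IsPGroup 2 (Subgroup.zpowers z) := by
    apply IsPGroup.of_card (n := k)
    rw [Nat.card_zpowers, hk]
  obtain ⟨P, hP⟩ := hp.exists_le_sylow
  obtain ⟨g, hg⟩ := MulAction.exists_smul_eq G P S
  rw [← hg, Sylow.coe_subgroup_smul, Subgroup.mem_smul_pointwise_iff_exists]
  refine ⟨z, hP (Subgroup.mem_zpowers _), ?_⟩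
  simp only [MulAut.smul_def, MulAut.conj_apply]
  rw [hz g, mul_inv_cancel_right]

include e in
/-- the involution of `S` is central when the centre has order 2 -/
theorem tt_central (hZ : Nat.card (Subgroup.center G) = 2) (g : G) :
    g * tt (S : Subgroup G) e = tt (S : Subgroup G) e * g := by
  haveI : Nontrivial (Subgroup.center G) := by
    apply Finite.one_lt_card_iff_nontrivial.mp
    rw [hZ]; norm_num
  obtain ⟨z, hz⟩ := exists_ne (1 : Subgroup.center G)
  have hz2 : orderOf (z : G) = 2 := by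
    have h1 : orderOf z ∣ 2 := by rw [← hZ]; exact orderOf_dvd_natCard z
    have h2 : orderOf z ≠ 1 := by
      rw [Ne, orderOf_eq_one_iff]; exact hz
    rw [Subgroup.orderOf_coe]
    rcases (Nat.dvd_prime Nat.prime_two).mp h1 with h | h
    · exact absurd h h2
    · exact h
  have hzc : ∀ q : G, q * (z : G) = (z : G) * q := fun q => Subgroup.mem_center_iff.mp z.2 q
  have hzS : (z : G) ∈ (S : Subgroup G) := mem_sylow_of_central S hzc (k := 1) (by rw [hz2, pow_one])
  have : (z : G) = tt (S : Subgroup G) e :=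
    Cfsg.Agent.Helper8.QuatInvol.eq_of_orderOf_eq_two_of_mem S 2 e hzS (tt_mem _ e) hz2
      (orderOf_tt _ e)
  rw [← this]
  exact hzc g

/-- the central subgroup of order 2 -/
noncomputable def ZZ : Subgroup G := Subgroup.zpowers (tt (S : Subgroup G) e)

theorem mem_ZZ {x : G} : x ∈ ZZ S e ↔ x = 1 ∨ x = tt (S : Subgroup G) e := by
  unfold ZZ
  constructor
  · intro hx
    obtain ⟨k, rfl⟩ := Subgroup.mem_zpowers_iff.mp hx
    rcases Int.emod_two_eq_zero_or_one k with h | h
    · left
      have : k = 2 * (k / 2) := by omega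
      rw [this, zpow_mul, zpow_ofNat, pow_two, tt_sq, one_zpow]
    · right
      have : k = 2 * (k / 2) + 1 := by omega
      rw [this, zpow_add, zpow_mul, zpow_ofNat, pow_two, tt_sq, one_zpow, one_mul, zpow_one]
  · rintro (rfl | rfl)
    · exact Subgroup.one_mem _
    · exact Subgroup.mem_zpowers _

theorem card_ZZ : Nat.card (ZZ S e) = 2 := by
  unfold ZZ
  rw [Nat.card_zpowers, orderOf_tt]

theorem ZZ_normal (hc : ∀ g : G, g * tt (S : Subgroup G) e = tt (S : Subgroup G) e * g) :
    (ZZ S e).Normal := by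
  constructor
  intro n hn g
  rcases (mem_ZZ S e).mp hn with rfl | rfl
  · rw [mul_one, mul_inv_cancel]; exact Subgroup.one_mem _
  · rw [hc g, mul_inv_cancel_right]; exact (mem_ZZ S e).mpr (Or.inr rfl)

include e in
theorem card_eq : Nat.card G = 8 * (S : Subgroup G).index := by
  rw [← (S : Subgroup G).card_mul_index, card_S (S : Subgroup G) e]

theorem odd_index : Odd (S : Subgroup G).index := by
  haveI : Fact (Nat.Prime 2) := ⟨Nat.prime_two⟩
  rw [← Nat.not_even_iff_odd, even_iff_two_dvd]
  exact S.not_dvd_index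

/-- a normal subgroup of order `2 · odd` in a group without normal subgroups of odd order has
order 2 -/
theorem card_eq_two_of_normal (hO : ∀ N : Subgroup G, N.Normal → Odd (Nat.card N) → N = ⊥)
    (N : Subgroup G) [hN : N.Normal] (m : ℕ) (hm : Odd m) (hcard : Nat.card N = 2 * m) : m = 1 := by
  classical
  haveI : Fact (Nat.Prime 2) := ⟨Nat.prime_two⟩
  have heven : 2 ∣ Nat.card N := by rw [hcard]; exact dvd_mul_right 2 m
  obtain ⟨Q⟩ : Nonempty (Sylow 2 N) := inferInstance
  have hm0 : m ≠ 0 := by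
    rintro rfl
    simp at hm
  have hfac : (Nat.card N).factorization 2 = 1 := by
    rw [hcard, Nat.factorization_mul (by norm_num) hm0]
    have h1 : (2 : ℕ).factorization 2 = 1 := Nat.Prime.factorization_self Nat.prime_two
    have h2 : m.factorization 2 = 0 := by
      apply Nat.factorization_eq_zero_of_not_dvd
      intro h
      exact (Nat.not_even_iff_odd.mpr hm) (even_iff_two_dvd.mpr h)
    simp [h1, h2]
  have hQcard : Nat.card Q = 2 := by
    rw [Q.card_eq_multiplicity, hfac, pow_one]
  have hQ : IsCyclic Q := isCyclic_of_prime_card hQcard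
  obtain ⟨L, hLn, hLodd, hLmem, -⟩ :=
    Cfsg.Agent.Helper8.QuatExc.exists_odd_normal_of_cyclic_sylow heven Q hQ
  have hOn : (L.map N.subtype).Normal := by
    constructor
    rintro _ ⟨l, hl, rfl⟩ g
    have hmem : g * (l : G) * g⁻¹ ∈ N := hN.conj_mem _ l.2 g
    refine ⟨⟨_, hmem⟩, ?_, rfl⟩
    apply hLmem
    rw [← Subgroup.orderOf_coe]
    show Odd (orderOf (g * (l : G) * g⁻¹))
    rw [Cfsg.Agent.Helper9.orderOf_conj', Subgroup.orderOf_coe]
    exact Odd.of_dvd_nat hLodd (Subgroup.orderOf_dvd_natCard L hl)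
  have hOodd : Odd (Nat.card (L.map N.subtype)) := by
    rw [Subgroup.card_map_of_injective (Subgroup.subtype_injective _)]
    exact hLodd
  have hObot := hO _ hOn hOodd
  have hLbot : L = ⊥ := by
    rw [← Subgroup.map_eq_bot_iff_of_injective L (Subgroup.subtype_injective _)]
    exact hObot
  by_contra hm1
  obtain ⟨q, hq, hqm⟩ := Nat.exists_prime_and_dvd hm1
  haveI : Fact q.Prime := ⟨hq⟩
  have hq2 : q ≠ 2 := by
    rintro rfl
    exact (Nat.not_even_iff_odd.mpr hm) (even_iff_two_dvd.mpr hqm)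
  have hqN : q ∣ Nat.card N := by rw [hcard]; exact Dvd.dvd.mul_left hqm 2
  obtain ⟨x, hx⟩ := exists_prime_orderOf_dvd_card' q hqN
  have hxodd : Odd (orderOf x) := by
    rw [hx]; exact hq.odd_of_ne_two hq2
  have hxL : x ∈ L := hLmem x hxodd
  rw [hLbot, Subgroup.mem_bot] at hxL
  rw [hxL, orderOf_one] at hx
  exact hq.one_lt.ne hx

end Cfsg.Agent.Helper8.Q8Block
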