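import Mathlib
import Cfsg.Agent.Helper8.Q8Block1
import Cfsg.Agent.Helper8.KleinBlock
import Cfsg.Agent.Helper8.KleinCount
import Cfsg.Agent.Helper23.QuotRank
import Cfsg.Agent.Helper23.PSeries

/-!
Groups with a quaternion Sylow 2-subgroup of order 8 and a centre of order 2: the principal
2-block has seven irreducible characters.
-/

set_option autoImplicit false
set_option linter.unusedSectionVars false
set_option linter.style.haveILetI false

namespace Cfsg.Agent.Helper8.Q8Block

open Cfsg Cfsg.Agent.Helper8.Q8Sylow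

variable {G : Type*} [Group G] [Finite G] (S : Sylow 2 G)
  (e : (S : Subgroup G) ≃* QuaternionGroup 2)

/-- the order of the central quotient -/
theorem card_quot [hn : (ZZ S e).Normal] : Nat.card (G ⧸ ZZ S e) = 4 * (S : Subgroup G).index := by
  have h1 : Nat.card G = Nat.card (ZZ S e) * Nat.card (G ⧸ ZZ S e) := by
    rw [mul_comm]
    exact Subgroup.card_eq_card_quotient_mul_card_subgroup _
  rw [card_ZZ, card_eq S e] at h1
  omega

/-- the central quotient has no normal 2-complement -/
theorem no_complement [hn : (ZZ S e).Normal]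
    (hO : ∀ N : Subgroup G, N.Normal → Odd (Nat.card N) → N = ⊥)
    (hG : (S : Subgroup G) ≠ ⊤) :
    ¬ ∃ N : Subgroup (G ⧸ ZZ S e), N.Normal ∧ Nat.card N = (S : Subgroup G).index := by
  rintro ⟨N, hN, hcard⟩
  haveI : (N.comap (QuotientGroup.mk' (ZZ S e))).Normal := hN.comap _
  have h1 : Nat.card (N.comap (QuotientGroup.mk' (ZZ S e))) = 2 * (S : Subgroup G).index := by
    rw [Cfsg.Agent.Helper23.card_comap_mk', card_ZZ, hcard]
  have h2 := card_eq_two_of_normal hO _ _ (odd_index S) h1
  exact hG (Subgroup.index_eq_one.mp h2)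

/-- elements squaring to the involution are conjugate to `v` -/
theorem isConj_vv [hn : (ZZ S e).Normal]
    (hone : ∀ s t : G ⧸ ZZ S e, orderOf s = 2 → orderOf t = 2 → IsConj s t)
    {y : G} (hy : y * y = tt (S : Subgroup G) e) : IsConj y (vv (S : Subgroup G) e) := by
  have hyZ : y ∉ ZZ S e := by
    rw [mem_ZZ]
    rintro (rfl | rfl)
    · rw [mul_one] at hy; exact tt_ne_one _ e hy.symm
    · rw [tt_sq] at hy; exact tt_ne_one _ e hy.symm
  have hvZ : vv (S : Subgroup G) e ∉ ZZ S e := by
    rw [mem_ZZ]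
    rintro (h | h)
    · exact vv_ne_one _ e h
    · exact vv_ne_tt _ e h
  have ord2 : ∀ w : G, w * w = tt (S : Subgroup G) e → w ∉ ZZ S e →
      orderOf (w : G ⧸ ZZ S e) = 2 := by
    intro w hw hwZ
    apply orderOf_eq_prime
    · rw [pow_two, ← QuotientGroup.mk_mul, hw, QuotientGroup.eq_one_iff]
      exact (mem_ZZ S e).mpr (Or.inr rfl)
    · rw [Ne, QuotientGroup.eq_one_iff]; exact hwZ
  have hc := hone _ _ (ord2 y hy hyZ) (ord2 _ (vv_sq _ e) hvZ)
  obtain ⟨h', hh'⟩ := isConj_iff.mp hc
  obtain ⟨h, rfl⟩ := QuotientGroup.mk_surjective h'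
  have h0 : ((h * y * h⁻¹ : G) : G ⧸ ZZ S e) = (vv (S : Subgroup G) e : G) := by
    simpa using hh'
  rw [QuotientGroup.eq, mem_ZZ] at h0
  rcases h0 with h1 | h1
  · exact isConj_iff.mpr ⟨h, inv_mul_eq_one.mp h1⟩
  · have h2 : h * y * h⁻¹ = (vv (S : Subgroup G) e)⁻¹ := by
      rw [vv_inv]
      have h3 : vv (S : Subgroup G) e = h * y * h⁻¹ * tt (S : Subgroup G) e :=
        (inv_mul_eq_iff_eq_mul.mp h1)
      have h4 : vv (S : Subgroup G) e * tt (S : Subgroup G) e = h * y * h⁻¹ := by
        rw [h3, mul_assoc (h * y * h⁻¹), tt_sq, mul_one]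
      exact h4.symm
    refine isConj_iff.mpr ⟨(ss (S : Subgroup G) e)⁻¹ * h, ?_⟩
    have h5 := ss_conj (S : Subgroup G) e
    have h6 : (ss (S : Subgroup G) e)⁻¹ * h * y * ((ss (S : Subgroup G) e)⁻¹ * h)⁻¹ =
        (ss (S : Subgroup G) e)⁻¹ * (h * y * h⁻¹) * ss (S : Subgroup G) e := by group
    rw [h6, h2, ← h5]
    group

/-- `1`, the involution and `v` represent the classes of 2-elements -/
theorem exists_unique_rep [DecidableEq G] [hn : (ZZ S e).Normal]
    (hone : ∀ s t : G ⧸ ZZ S e, orderOf s = 2 → orderOf t = 2 → IsConj s t)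
    (g : G) (hg : ∃ k : ℕ, orderOf g = 2 ^ k) :
    ∃! x, x ∈ ({1, tt (S : Subgroup G) e, vv (S : Subgroup G) e} : Finset G) ∧ IsConj g x := by
  haveI : Fact (Nat.Prime 2) := ⟨Nat.prime_two⟩
  have hord : ∀ a b : G, IsConj a b → orderOf a = orderOf b := by
    intro a b hab
    obtain ⟨c, rfl⟩ := isConj_iff.mp hab
    rw [Cfsg.Agent.Helper9.orderOf_conj']
  have hinj : ∀ x ∈ ({1, tt (S : Subgroup G) e, vv (S : Subgroup G) e} : Finset G),
      ∀ x' ∈ ({1, tt (S : Subgroup G) e, vv (S : Subgroup G) e} : Finset G),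
      orderOf x = orderOf x' → x = x' := by
    intro x hx x' hx' h
    simp only [Finset.mem_insert, Finset.mem_singleton] at hx hx'
    rcases hx with rfl | rfl | rfl <;> rcases hx' with rfl | rfl | rfl <;>
      simp only [orderOf_one, orderOf_tt, orderOf_vv] at h <;> first | rfl | omega
  have hex : ∃ x, x ∈ ({1, tt (S : Subgroup G) e, vv (S : Subgroup G) e} : Finset G) ∧
      IsConj g x := by
    obtain ⟨c, hcS⟩ := Cfsg.Agent.Helper8.KleinCnt.exists_conj_mem_sylow S g hg
    have hgc : IsConj g (c⁻¹ * g * c) := isConj_iff.mpr ⟨c⁻¹, by rw [inv_inv]⟩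
    rcases cases_of_mem (S : Subgroup G) e hcS with h | h | h
    · refine ⟨1, by simp, ?_⟩
      rw [h] at hgc; exact hgc
    · refine ⟨tt (S : Subgroup G) e, by simp, ?_⟩
      rw [h] at hgc; exact hgc
    · refine ⟨vv (S : Subgroup G) e, by simp, ?_⟩
      exact hgc.trans (isConj_vv S e hone h)
  obtain ⟨x, hxX, hx⟩ := hex
  refine ⟨x, ⟨hxX, hx⟩, ?_⟩
  rintro y ⟨hyX, hy⟩
  exact hinj y hyX x hxX ((hord _ _ hy).symm.trans (hord _ _ hx))

/-- the centralizer of an element of order 4 has a normal 2-complement -/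
theorem npc_centralizer_vv :
    HasNormalPComplement 2 ↥(Subgroup.centralizer ({vv (S : Subgroup G) e} : Set G)) := by
  classical
  haveI : Fact (Nat.Prime 2) := ⟨Nat.prime_two⟩
  set v := vv (S : Subgroup G) e with hv
  set D : Subgroup G := Subgroup.zpowers v with hD
  have hCD : Subgroup.centralizer ({v} : Set G) = Subgroup.centralizer (D : Set G) := by
    rw [hD, Subgroup.zpowers_eq_closure, Subgroup.centralizer_closure]
  set C : Subgroup G := Subgroup.centralizer ({v} : Set G) with hC
  have hmemC : ∀ y : G, y ∈ C ↔ y * v = v * y := by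
    intro y
    rw [hC, Subgroup.mem_centralizer_iff]
    constructor
    · intro h; exact (h v (Set.mem_singleton v)).symm
    · intro h w hw
      rw [Set.mem_singleton_iff] at hw
      rw [hw]; exact h.symm
  have hvS : v ∈ (S : Subgroup G) := vv_mem _ e
  have hDS : D ≤ (S : Subgroup G) := by
    rw [hD, Subgroup.zpowers_le]; exact hvS
  have hDC : D ≤ C := by
    rw [hD, Subgroup.zpowers_le, hmemC]
  have hSN : (S : Subgroup G) ≤ Subgroup.normalizer (D : Set G) := by
    intro y hy
    apply Subgroup.mem_normalizer_fintype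
    intro n hn
    obtain ⟨k, rfl⟩ := Subgroup.mem_zpowers_iff.mp hn
    have h1 : y * v ^ k * y⁻¹ = (y * v * y⁻¹) ^ k := by
      have := map_zpow (MulAut.conj y) v k
      simpa [MulAut.conj_apply] using this
    rw [h1]
    apply Subgroup.zpow_mem
    rcases conj_vv (S : Subgroup G) e hy with h | h
    · rw [h]; exact Subgroup.mem_zpowers v
    · rw [h]; exact Subgroup.inv_mem _ (Subgroup.mem_zpowers v)
  have hSC : (S : Subgroup G) ⊓ Subgroup.centralizer (D : Set G) = D := by
    apply le_antisymm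
    · intro y hy
      have hyS : y ∈ (S : Subgroup G) := (Subgroup.mem_inf.mp hy).1
      have hyC : y ∈ C := by rw [hCD]; exact (Subgroup.mem_inf.mp hy).2
      exact mem_zpowers_of_comm (S : Subgroup G) e hyS ((hmemC y).mp hyC)
    · rw [← hCD]
      exact le_inf hDS hDC
  obtain ⟨PC⟩ : Nonempty (Sylow 2 C) := inferInstance
  have hPCmap : IsPGroup 2 ((PC : Subgroup C).map C.subtype) := PC.isPGroup'.map _
  have hle : (PC : Subgroup C).map C.subtype ≤ Subgroup.centralizer (D : Set G) := by
    rw [← hCD]; exact Subgroup.map_subtype_le _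
  obtain ⟨g, hgN, hgR⟩ := Cfsg.Agent.Helper9.exists_conj_le_of_le_centralizer S D D hSN hSC
    ((PC : Subgroup C).map C.subtype) hle hPCmap
  haveI : IsCyclic D := by rw [hD]; infer_instance
  have hPCcyc1 : IsCyclic ((PC : Subgroup C).map C.subtype) :=
    Cfsg.Agent.Helper9.isCyclic_of_map_conj_le _ D g hgR
  have hPCcyc : IsCyclic (PC : Subgroup C) := by
    have e' : (PC : Subgroup C) ≃* (PC : Subgroup C).map C.subtype :=
      (PC : Subgroup C).equivMapOfInjective _ C.subtype_injective
    exact isCyclic_of_surjective e'.symm.toMonoidHom e'.symm.surjective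
  have hCeven : 2 ∣ Nat.card C := by
    have h1 : Nat.card D ∣ Nat.card C := Subgroup.card_dvd_of_le hDC
    rw [hD, Nat.card_zpowers, hv, orderOf_vv] at h1
    exact dvd_trans (by norm_num) h1
  have hminFac : (Nat.card C).minFac = 2 := (Nat.minFac_eq_two_iff _).mpr hCeven
  have hcompl := IsCyclic.isComplement' hminFac hPCcyc
  exact ⟨PC, _, inferInstance, hcompl⟩

include e in
/-- **Seven characters in the principal block**, given that the centre has order 2. -/
theorem main (M : Ideal AlgInt) (hM : IsPModular 2 M)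
    (hO : ∀ N : Subgroup G, N.Normal → Odd (Nat.card N) → N = ⊥)
    (hG : (S : Subgroup G) ≠ ⊤) (hZ : Nat.card (Subgroup.center G) = 2) :
    Nat.card (principalBlock M G) = 7 := by
  classical
  haveI : Fact (Nat.Prime 2) := ⟨Nat.prime_two⟩
  haveI : Fintype G := Fintype.ofFinite G
  haveI : Fintype (IrrCharacter G) := Fintype.ofFinite _
  have hc := tt_central S e hZ
  haveI hn : (ZZ S e).Normal := ZZ_normal S e hc
  haveI : Fintype (G ⧸ ZZ S e) := Fintype.ofFinite _
  haveI : Fintype (IrrCharacter (G ⧸ ZZ S e)) := Fintype.ofFinite _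
  obtain ⟨P⟩ : Nonempty (Sylow 2 (G ⧸ ZZ S e)) := inferInstance
  obtain ⟨hP, hone⟩ := Cfsg.Agent.Helper8.KleinNC.klein_of_no_complement _ (odd_index S)
    (card_quot S e) (no_complement S e hO hG) P
  have hr3 : blockRank 2 (principalBlock M (G ⧸ ZZ S e)) = 3 :=
    Cfsg.Agent.Helper8.KleinB.blockRank_principal hM P hP hone
  have hZp : IsPGroup 2 (ZZ S e) := IsPGroup.of_card (n := 1) (by rw [card_ZZ, pow_one])
  have hCent : ∀ g : G, ¬ 2 ∣ orderOf g →
      g ∈ Subgroup.centralizer ((ZZ S e : Subgroup G) : Set G) := by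
    intro g _
    rw [Subgroup.mem_centralizer_iff]
    intro h hh
    rcases (mem_ZZ S e).mp hh with rfl | rfl
    · simp
    · exact (hc g).symm
  have hr : blockRank 2 (principalBlock M G) = 3 := by
    rw [Cfsg.Agent.Helper23.QR.blockRank_principalBlock_quotient (ZZ S e) hM hZp hCent, hr3]
  -- the count
  have hX : ∀ x ∈ ({1, tt (S : Subgroup G) e, vv (S : Subgroup G) e} : Finset G),
      ∃ k : ℕ, orderOf x = 2 ^ k := by
    intro x hx
    simp only [Finset.mem_insert, Finset.mem_singleton] at hx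
    rcases hx with rfl | rfl | rfl
    · exact ⟨0, by simp⟩
    · exact ⟨1, by rw [orderOf_tt, pow_one]⟩
    · exact ⟨2, by rw [orderOf_vv]; norm_num⟩
  have hmain := Cfsg.Agent.Helper8.SecCount.main' hM (principalBlock M G)
    Cfsg.Agent.Helper5.CC.isPBlock_principalBlock
    ({1, tt (S : Subgroup G) e, vv (S : Subgroup G) e} : Finset G) hX
    (exists_unique_rep S e hone)
  have herase : ({1, tt (S : Subgroup G) e, vv (S : Subgroup G) e} : Finset G).erase 1 =
      {tt (S : Subgroup G) e, vv (S : Subgroup G) e} := by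
    rw [Finset.erase_insert]
    simp only [Finset.mem_insert, Finset.mem_singleton, not_or]
    exact ⟨fun h => tt_ne_one _ e h.symm, fun h => vv_ne_one _ e h.symm⟩
  have hne : tt (S : Subgroup G) e ∉ ({vv (S : Subgroup G) e} : Finset G) := by
    rw [Finset.mem_singleton]
    exact fun h => vv_ne_tt _ e h.symm
  -- the term of the central involution
  have hcent : Subgroup.centralizer ({tt (S : Subgroup G) e} : Set G) =
      Subgroup.centralizer ({(1 : G)} : Set G) := by
    ext g
    simp only [Subgroup.mem_centralizer_iff, Set.mem_singleton_iff, forall_eq, one_mul, mul_one]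
    constructor
    · intro _; trivial
    · intro _; exact (hc g).symm
  have hterm1 : blockRank 2 (principalBlock M ↥(Subgroup.centralizer ({(1 : G)} : Set G))) =
      blockRank 2 (principalBlock M G) := by
    have h1 := Cfsg.Agent.Helper8.SecCount.term_one hM (principalBlock M G)
      Cfsg.Agent.Helper5.CC.isPBlock_principalBlock
    rw [Cfsg.Agent.Helper8.KleinB.inducing_eq_singleton hM (1 : G) ⟨0, by simp⟩,
      finsum_mem_singleton] at h1
    exact h1
  have htermv : blockRank 2 (principalBlock M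
      ↥(Subgroup.centralizer ({vv (S : Subgroup G) e} : Set G))) = 1 := by
    haveI : Fintype ↥(Subgroup.centralizer ({vv (S : Subgroup G) e} : Set G)) :=
      Fintype.ofFinite _
    exact (Cfsg.Agent.S4646.result 2 M hM).mp
      ((Cfsg.Agent.S4691.result 2 M hM).mp (npc_centralizer_vv S e))
  rw [herase, Finset.sum_insert hne, Finset.sum_singleton,
    Cfsg.Agent.Helper8.KleinB.inducing_eq_singleton hM (tt (S : Subgroup G) e)
      ⟨1, by rw [orderOf_tt, pow_one]⟩,
    Cfsg.Agent.Helper8.KleinB.inducing_eq_singleton hM (vv (S : Subgroup G) e)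
      ⟨2, by rw [orderOf_vv]; norm_num⟩,
    finsum_mem_singleton, finsum_mem_singleton, htermv, hcent, hterm1, hr] at hmain
  omega

end Cfsg.Agent.Helper8.Q8Block
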