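import Mathlib
import Cfsg.Prelude.Def_TwoFusion
import Cfsg.Agent.Helper8.QuatInvol

/-!
Sylow 2-subgroups `S = Q × R` with `Q` generalized quaternion and the involutions of `R` central
in `R`: there is an involution of `S` that is not fused to any other element of `S`.
Part 1: generalities on the direct product.
-/

set_option autoImplicit false

namespace Cfsg.Agent.Helper8.QuatDirect

open QuaternionGroup Cfsg

section Quat

/-- the involution of `Q_{4·2^n}` is a commutator -/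
theorem exists_commutator_eq (n : ℕ) (hn : 1 ≤ n) :
    ∃ x y : QuaternionGroup (2 ^ n),
      x * y * x⁻¹ * y⁻¹ = a (((2 ^ n : ℕ) : ZMod (2 * 2 ^ n))) := by
  obtain ⟨k, rfl⟩ : ∃ k, n = k + 1 := ⟨n - 1, by omega⟩
  refine ⟨xa 0, a (-((2 ^ k : ℕ) : ZMod (2 * 2 ^ (k + 1)))), ?_⟩
  rw [Cfsg.Agent.Helper8.QuatFacts.xa_conj_a]
  have h1 : ((a (-((2 ^ k : ℕ) : ZMod (2 * 2 ^ (k + 1)))) : QuaternionGroup (2 ^ (k + 1))))⁻¹ =
      a (((2 ^ k : ℕ) : ZMod (2 * 2 ^ (k + 1)))) := by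
    show a (- -((2 ^ k : ℕ) : ZMod (2 * 2 ^ (k + 1)))) = _
    rw [neg_neg]
  rw [h1, a_mul_a]
  congr 1
  push_cast
  ring

end Quat

section Facts

variable {G : Type*} [Group G] (Q : Subgroup G) (n : ℕ)

/-- the properties of a generalized quaternion subgroup that we use -/
structure QuatLike (Q : Subgroup G) (z : G) : Prop where
  mem : z ∈ Q
  order : orderOf z = 2
  uniq : ∀ q ∈ Q, orderOf q = 2 → q = z
  comm : ∃ a ∈ Q, ∃ b ∈ Q, a * b * a⁻¹ * b⁻¹ = z
  pow : ∀ x ∈ Q, x ≠ 1 → z ∈ Subgroup.zpowers x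

theorem quatLike_of_equiv (hn : 1 ≤ n) (eQ : ↥Q ≃* QuaternionGroup (2 ^ n)) :
    ∃ z : G, QuatLike Q z := by
  haveI : NeZero (2 ^ n) := ⟨by positivity⟩
  set m := 2 ^ n with hm
  set z' : Q := eQ.symm (a ((m : ℕ) : ZMod (2 * m))) with hz'
  have hz'2 : orderOf z' = 2 := by
    rw [hz', MulEquiv.orderOf_eq]
    exact Cfsg.Agent.Helper8.QuatInvol.orderOf_a_m m
  have huniq' : ∀ q : Q, orderOf q = 2 → q = z' := by
    intro q hq
    have h1 : orderOf (eQ q) = 2 := by rw [MulEquiv.orderOf_eq]; exact hq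
    have h2 := Cfsg.Agent.Helper8.QuatInvol.eq_a_m_of_orderOf_eq_two m _ h1
    rw [hz', ← h2, MulEquiv.symm_apply_apply]
  haveI : Finite Q := Finite.of_equiv _ eQ.symm.toEquiv
  have hcard : Nat.card Q = 2 ^ (n + 2) := by
    rw [Nat.card_congr eQ.toEquiv, Nat.card_eq_fintype_card, QuaternionGroup.card, hm]
    ring
  refine ⟨(z' : G), z'.2, ?_, ?_, ?_, ?_⟩
  · rw [Subgroup.orderOf_coe]; exact hz'2
  · intro q hq hq2
    have := huniq' ⟨q, hq⟩ (by rw [← Subgroup.orderOf_coe]; exact hq2)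
    exact congrArg Subtype.val this
  · obtain ⟨x, y, hxy⟩ := exists_commutator_eq n hn
    refine ⟨(eQ.symm x : Q), (eQ.symm x).2, (eQ.symm y : Q), (eQ.symm y).2, ?_⟩
    have : eQ.symm x * eQ.symm y * (eQ.symm x)⁻¹ * (eQ.symm y)⁻¹ = z' := by
      rw [hz', ← hxy, map_mul, map_mul, map_mul, map_inv, map_inv]
    exact congrArg Subtype.val this
  · intro x hx hx1
    have hx1' : (⟨x, hx⟩ : Q) ≠ 1 := fun h => hx1 (congrArg Subtype.val h)
    have hdvd : orderOf (⟨x, hx⟩ : Q) ∣ 2 ^ (n + 2) := by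
      rw [← hcard]; exact orderOf_dvd_natCard _
    obtain ⟨j, hj, hoj⟩ := (Nat.dvd_prime_pow Nat.prime_two).mp hdvd
    have hj0 : j ≠ 0 := by
      rintro rfl
      rw [pow_zero, orderOf_eq_one_iff] at hoj
      exact hx1' hoj
    obtain ⟨i, rfl⟩ : ∃ i, j = i + 1 := ⟨j - 1, by omega⟩
    have h2 : orderOf ((⟨x, hx⟩ : Q) ^ 2 ^ i) = 2 := by
      rw [orderOf_pow' _ (by positivity), hoj, Nat.gcd_eq_right (pow_dvd_pow 2 (Nat.le_succ i)),
        pow_succ, Nat.mul_div_cancel_left _ (by positivity)]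
    have h3 := huniq' _ h2
    have h4 : x ^ 2 ^ i = (z' : G) := by
      have := congrArg Subtype.val h3
      simpa using this
    rw [← h4]
    exact Subgroup.pow_mem _ (Subgroup.mem_zpowers x) _

end Facts

end Cfsg.Agent.Helper8.QuatDirect
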