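import Mathlib
import Cfsg.Agent.Helper8.QuatDirect1

/-!
Sylow 2-subgroups `S = Q × R` with `Q` generalized quaternion and the involutions of `R` central
in `R`. Part 2: the internal direct product.
-/

set_option autoImplicit false

namespace Cfsg.Agent.Helper8.QuatDirect

open Cfsg

variable {G : Type*} [Group G] {Q R S : Subgroup G} {z : G}

/-- elements of an internal direct product decompose -/
theorem exists_decomp (hQR : IsInternalDirectProduct Q R S) {s : G} (hs : s ∈ S) :
    ∃ q ∈ Q, ∃ r ∈ R, s = q * r := by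
  obtain ⟨hQS, hRS, hc, hinf, hsup⟩ := hQR
  let T : Subgroup G :=
    { carrier := {x | ∃ q ∈ Q, ∃ r ∈ R, x = q * r}
      one_mem' := ⟨1, Q.one_mem, 1, R.one_mem, (mul_one 1).symm⟩
      mul_mem' := by
        rintro x y ⟨q, hq, r, hr, rfl⟩ ⟨q', hq', r', hr', rfl⟩
        refine ⟨q * q', Q.mul_mem hq hq', r * r', R.mul_mem hr hr', ?_⟩
        have := hc q' hq' r hr
        calc q * r * (q' * r') = q * (r * q') * r' := by group
          _ = q * (q' * r) * r' := by rw [this]
          _ = q * q' * (r * r') := by group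
      inv_mem' := by
        rintro x ⟨q, hq, r, hr, rfl⟩
        refine ⟨q⁻¹, Q.inv_mem hq, r⁻¹, R.inv_mem hr, ?_⟩
        have := hc q⁻¹ (Q.inv_mem hq) r⁻¹ (R.inv_mem hr)
        rw [mul_inv_rev, this] }
  have hQT : Q ≤ T := fun q hq => ⟨q, hq, 1, R.one_mem, (mul_one q).symm⟩
  have hRT : R ≤ T := fun r hr => ⟨1, Q.one_mem, r, hr, (one_mul r).symm⟩
  have : S ≤ T := by rw [← hsup]; exact sup_le hQT hRT
  exact this hs

/-- `Q` is normal in `S` -/
theorem conj_mem_left (hQR : IsInternalDirectProduct Q R S) {s a : G} (hs : s ∈ S) (ha : a ∈ Q) :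
    s * a * s⁻¹ ∈ Q := by
  obtain ⟨q, hq, r, hr, rfl⟩ := exists_decomp hQR hs
  have h1 : r * a * r⁻¹ = a := by
    rw [← hQR.2.2.1 a ha r hr, mul_inv_cancel_right]
  have h2 : q * r * a * (q * r)⁻¹ = q * (r * a * r⁻¹) * q⁻¹ := by group
  rw [h2, h1]
  exact Q.mul_mem (Q.mul_mem hq ha) (Q.inv_mem hq)

/-- the involution of `Q` is central in `Q` -/
theorem QuatLike.central (hz : QuatLike Q z) {y : G} (hy : y ∈ Q) : y * z = z * y := by
  have h1 : y * z * y⁻¹ ∈ Q := Q.mul_mem (Q.mul_mem hy hz.mem) (Q.inv_mem hy)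
  have h2 : orderOf (y * z * y⁻¹) = 2 := by
    have := MulEquiv.orderOf_eq (MulAut.conj y) z
    rw [MulAut.conj_apply] at this
    rw [this, hz.order]
  have h3 := hz.uniq _ h1 h2
  calc y * z = y * z * y⁻¹ * y := by group
    _ = z * y := by rw [h3]

/-- elements of `S` of order at most 2 are central in `S` -/
theorem central_of_sq_eq_one (hQR : IsInternalDirectProduct Q R S) (hz : QuatLike Q z)
    (hR : ∀ r ∈ R, orderOf r = 2 → ∀ s ∈ R, r * s = s * r)
    {s : G} (hs : s ∈ S) (hs2 : s * s = 1) {y : G} (hy : y ∈ S) : y * s = s * y := by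
  obtain ⟨q, hq, r, hr, rfl⟩ := exists_decomp hQR hs
  have hc := hQR.2.2.1
  -- `q² = 1` and `r² = 1`
  have h1 : q * q * (r * r) = 1 := by
    have := hc q hq r hr
    calc q * q * (r * r) = q * (q * r) * r := by group
      _ = q * (r * q) * r := by rw [this]
      _ = q * r * (q * r) := by group
      _ = 1 := hs2
  have hqq : q * q = 1 := by
    have h2 : q * q = (r * r)⁻¹ := eq_inv_of_mul_eq_one_left h1
    have h3 : q * q ∈ Q ⊓ R := by
      refine ⟨Q.mul_mem hq hq, ?_⟩
      rw [h2]; exact R.inv_mem (R.mul_mem hr hr)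
    rw [hQR.2.2.2.1, Subgroup.mem_bot] at h3
    exact h3
  have hrr : r * r = 1 := by rw [hqq, one_mul] at h1; exact h1
  -- `q` is central in `Q`
  have hqc : ∀ y ∈ Q, y * q = q * y := by
    intro y hy
    by_cases hq1 : q = 1
    · rw [hq1, mul_one, one_mul]
    · have : orderOf q = 2 := orderOf_eq_prime (by rw [pow_two]; exact hqq) hq1
      rw [hz.uniq q hq this]
      exact hz.central hy
  -- `r` is central in `R`
  have hrc : ∀ y ∈ R, y * r = r * y := by
    intro y hy
    by_cases hr1 : r = 1
    · rw [hr1, mul_one, one_mul]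
    · have : orderOf r = 2 := orderOf_eq_prime (by rw [pow_two]; exact hrr) hr1
      exact (hR r hr this y hy).symm
  have hQc : Q ≤ Subgroup.centralizer ({q * r} : Set G) := by
    intro y hy
    rw [Subgroup.mem_centralizer_singleton_iff]
    have e1 := hqc y hy
    have e2 := hc y hy r hr
    calc y * (q * r) = y * q * r := by group
      _ = q * y * r := by rw [e1]
      _ = q * (y * r) := by group
      _ = q * (r * y) := by rw [e2]
      _ = q * r * y := by group
  have hRc : R ≤ Subgroup.centralizer ({q * r} : Set G) := by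
    intro y hy
    rw [Subgroup.mem_centralizer_singleton_iff]
    have e1 := hc q hq y hy
    have e2 := hrc y hy
    calc y * (q * r) = y * q * r := by group
      _ = q * y * r := by rw [e1]
      _ = q * (y * r) := by group
      _ = q * (r * y) := by rw [e2]
      _ = q * r * y := by group
  have hSc : S ≤ Subgroup.centralizer ({q * r} : Set G) := by
    rw [← hQR.2.2.2.2]; exact sup_le hQc hRc
  have := hSc hy
  rw [Subgroup.mem_centralizer_singleton_iff] at this
  exact this

end Cfsg.Agent.Helper8.QuatDirect
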