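import Mathlib
import Cfsg.Agent.Helper8.QuatDirect2

/-!
Sylow 2-subgroups `S = Q × R` with `Q` generalized quaternion and the involutions of `R` central
in `R`. Part 3: conjugates of the involution of `Q` under the normalizer of `S`.
-/

set_option autoImplicit false

namespace Cfsg.Agent.Helper8.QuatDirect

open Cfsg

variable {G : Type*} [Group G] {Q R S : Subgroup G} {z : G}

theorem conj_eq_of_commute {q u : G} (r : G) (h : q * u = u * q) :
    (r * q) * u * (r * q)⁻¹ = r * u * r⁻¹ := by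
  have h1 : q * u * q⁻¹ = u := by rw [h, mul_inv_cancel_right]
  calc (r * q) * u * (r * q)⁻¹ = r * (q * u * q⁻¹) * r⁻¹ := by group
    _ = r * u * r⁻¹ := by rw [h1]

/-- if a conjugate of `Q` under `N(S)` does not centralize `Q`, the involution is fixed -/
theorem conj_eq_self_of_not_commute (hQR : IsInternalDirectProduct Q R S) (hz : QuatLike Q z)
    {h : G} (hh : h ∈ Subgroup.normalizer (S : Set G)) {a y : G} (ha : a ∈ Q) (hy : y ∈ Q)
    (hne : (h * a * h⁻¹) * y ≠ y * (h * a * h⁻¹)) : h * z * h⁻¹ = z := by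
  have hQS := hQR.1
  have hinv : h⁻¹ ∈ Subgroup.normalizer (S : Set G) := Subgroup.inv_mem _ hh
  have hy' : h⁻¹ * y * h ∈ S := by
    have := (Subgroup.mem_normalizer_iff.mp hinv y).mp (hQS hy)
    rwa [inv_inv] at this
  have ha1 : h * a * h⁻¹ ∈ S := (Subgroup.mem_normalizer_iff.mp hh a).mp (hQS ha)
  set x := a * ((h⁻¹ * y * h) * a⁻¹ * (h⁻¹ * y * h)⁻¹) with hx
  have hxQ : x ∈ Q := Q.mul_mem ha (conj_mem_left hQR hy' (Q.inv_mem ha))
  set c := (h * a * h⁻¹) * y * (h * a * h⁻¹)⁻¹ * y⁻¹ with hc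
  have hcx : c = h * x * h⁻¹ := by rw [hc, hx]; group
  have hcQ : c ∈ Q := Q.mul_mem (conj_mem_left hQR ha1 hy) (Q.inv_mem hy)
  have hc1 : c ≠ 1 := by
    intro h1
    apply hne
    have : (h * a * h⁻¹) * y * (h * a * h⁻¹)⁻¹ = y := by
      rw [hc] at h1
      exact mul_inv_eq_one.mp h1
    calc (h * a * h⁻¹) * y = (h * a * h⁻¹) * y * (h * a * h⁻¹)⁻¹ * (h * a * h⁻¹) := by group
      _ = y * (h * a * h⁻¹) := by rw [this]
  have hx1 : x ≠ 1 := by
    intro h1
    apply hc1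
    rw [hcx, h1, mul_one, mul_inv_cancel]
  obtain ⟨k, hk⟩ := Subgroup.mem_zpowers_iff.mp (hz.pow x hxQ hx1)
  have h1 : h * z * h⁻¹ = c ^ k := by
    rw [hcx, ← hk]
    have := map_zpow (MulAut.conj h) x k
    simpa [MulAut.conj_apply] using this
  have h2 : h * z * h⁻¹ ∈ Q := by rw [h1]; exact Q.zpow_mem hcQ k
  have h3 : orderOf (h * z * h⁻¹) = 2 := by
    have := MulEquiv.orderOf_eq (MulAut.conj h) z
    rw [MulAut.conj_apply] at this
    rw [this, hz.order]
  exact hz.uniq _ h2 h3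

/-- a conjugate of the involution under `N(S)` other than itself lies in `R` -/
theorem conj_mem_right (hQR : IsInternalDirectProduct Q R S) (hz : QuatLike Q z)
    {h : G} (hh : h ∈ Subgroup.normalizer (S : Set G)) (hne : h * z * h⁻¹ ≠ z) :
    h * z * h⁻¹ ∈ R := by
  have hQS := hQR.1
  have hcomm := hQR.2.2.1
  have hcent : ∀ a ∈ Q, ∀ y ∈ Q, (h * a * h⁻¹) * y = y * (h * a * h⁻¹) := by
    intro a ha y hy
    by_contra hcon
    exact hne (conj_eq_self_of_not_commute hQR hz hh ha hy hcon)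
  obtain ⟨a, ha, b, hb, hab⟩ := hz.comm
  have ha1 : h * a * h⁻¹ ∈ S := (Subgroup.mem_normalizer_iff.mp hh a).mp (hQS ha)
  have hb1 : h * b * h⁻¹ ∈ S := (Subgroup.mem_normalizer_iff.mp hh b).mp (hQS hb)
  obtain ⟨qa, hqa, ra, hra, hda⟩ := exists_decomp hQR ha1
  obtain ⟨qb, hqb, rb, hrb, hdb⟩ := exists_decomp hQR hb1
  -- `qa` commutes with `h b h⁻¹`
  have hqa_c : ∀ y ∈ Q, qa * y = y * qa := by
    intro y hy
    have e1 := hcent a ha y hy
    rw [hda] at e1
    have e2 := hcomm y hy ra hra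
    -- qa * ra * y = y * (qa * ra)
    have e3 : qa * y * ra = y * qa * ra := by
      calc qa * y * ra = qa * (y * ra) := by group
        _ = qa * (ra * y) := by rw [e2]
        _ = qa * ra * y := by group
        _ = y * (qa * ra) := e1
        _ = y * qa * ra := by group
    exact mul_right_cancel e3
  have hqa_b : qa * (h * b * h⁻¹) = (h * b * h⁻¹) * qa := by
    rw [hdb]
    have e1 := hqa_c qb hqb
    have e2 := hcomm qa hqa rb hrb
    calc qa * (qb * rb) = qa * qb * rb := by group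
      _ = qb * qa * rb := by rw [e1]
      _ = qb * (qa * rb) := by group
      _ = qb * (rb * qa) := by rw [e2]
      _ = qb * rb * qa := by group
  have hw : h * z * h⁻¹ = (h * a * h⁻¹) * (h * b * h⁻¹) * (h * a * h⁻¹)⁻¹ * (h * b * h⁻¹)⁻¹ := by
    rw [← hab]; group
  have hqara : qa * ra = ra * qa := hcomm qa hqa ra hra
  have e1 : (h * a * h⁻¹) * (h * b * h⁻¹) * (h * a * h⁻¹)⁻¹ = ra * (h * b * h⁻¹) * ra⁻¹ := by
    rw [hda, hqara]
    exact conj_eq_of_commute ra hqa_b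
  have e2 : ra * (h * b * h⁻¹) * ra⁻¹ = qb * (ra * rb * ra⁻¹) := by
    rw [hdb]
    have := hcomm qb hqb ra hra
    calc ra * (qb * rb) * ra⁻¹ = (ra * qb) * rb * ra⁻¹ := by group
      _ = (qb * ra) * rb * ra⁻¹ := by rw [this]
      _ = qb * (ra * rb * ra⁻¹) := by group
  have e3 : h * z * h⁻¹ = qb * (ra * rb * ra⁻¹ * rb⁻¹) * qb⁻¹ := by
    rw [hw, e1, e2, hdb]; group
  have hρ : ra * rb * ra⁻¹ * rb⁻¹ ∈ R :=
    R.mul_mem (R.mul_mem (R.mul_mem hra hrb) (R.inv_mem hra)) (R.inv_mem hrb)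
  have e4 : qb * (ra * rb * ra⁻¹ * rb⁻¹) * qb⁻¹ = ra * rb * ra⁻¹ * rb⁻¹ := by
    rw [hcomm qb hqb _ hρ, mul_inv_cancel_right]
  rw [e3, e4]
  exact hρ

end Cfsg.Agent.Helper8.QuatDirect
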