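import Mathlib
import Cfsg.Agent.Helper8.QuatDirect3

/-!
Sylow 2-subgroups `S = Q × R` with `Q` generalized quaternion and the involutions of `R` central
in `R`. Part 4: the product of the `N(S)`-conjugates of the involution of `Q` is an involution not
fused to any other element of `S`.
-/

set_option autoImplicit false

namespace Cfsg.Agent.Helper8.QuatDirect

open Cfsg
open scoped Function

variable {G : Type*} [Group G]

/-- the central elements of `S` of order at most 2 -/
def centralInv (S : Subgroup G) : Subgroup G where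
  carrier := {s | s ∈ S ∧ s * s = 1 ∧ ∀ y ∈ S, y * s = s * y}
  one_mem' := ⟨S.one_mem, by rw [mul_one], fun y _ => by rw [mul_one, one_mul]⟩
  mul_mem' := by
    rintro s t ⟨hs, hs2, hsc⟩ ⟨ht, ht2, htc⟩
    refine ⟨S.mul_mem hs ht, ?_, ?_⟩
    · have := htc s hs
      calc s * t * (s * t) = s * (t * s) * t := by group
        _ = s * (s * t) * t := by rw [← this]
        _ = s * s * (t * t) := by group
        _ = 1 := by rw [hs2, ht2, mul_one]
    · intro y hy
      calc y * (s * t) = y * s * t := by group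
        _ = s * y * t := by rw [hsc y hy]
        _ = s * (y * t) := by group
        _ = s * (t * y) := by rw [htc y hy]
        _ = s * t * y := by group
  inv_mem' := by
    rintro s ⟨hs, hs2, hsc⟩
    have : s⁻¹ = s := inv_eq_of_mul_eq_one_left hs2
    rw [this]
    exact ⟨hs, hs2, hsc⟩

theorem multiset_noncommProd_congr (s t : Multiset G) (h : s = t) (c1) (c2) :
    s.noncommProd c1 = t.noncommProd c2 := by
  subst h; rfl

theorem noncommProd_eq_of_image_eq [DecidableEq G] (O : Finset G) (σ : G → G)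
    (hinj : Function.Injective σ) (himg : O.image σ = O) (c1) (c2) :
    O.noncommProd σ c1 = O.noncommProd id c2 := by
  unfold Finset.noncommProd
  apply multiset_noncommProd_congr
  rw [Multiset.map_id, ← Finset.image_val_of_injOn hinj.injOn, himg]

variable [Finite G] (S : Sylow 2 G) {Q R : Subgroup G} {z : G}

/-- **An involution of `S` that is not fused to any other element of `S`.** -/
theorem exists_isolated (hQR : IsInternalDirectProduct Q R (S : Subgroup G)) (hz : QuatLike Q z)
    (hR : ∀ r ∈ R, orderOf r = 2 → ∀ s ∈ R, r * s = s * r) :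
    ∃ u ∈ (S : Subgroup G), orderOf u = 2 ∧
      ∀ g : G, g * u * g⁻¹ ∈ (S : Subgroup G) → g * u * g⁻¹ = u := by
  classical
  haveI : Fact (Nat.Prime 2) := ⟨Nat.prime_two⟩
  set N := Subgroup.normalizer ((S : Subgroup G) : Set G) with hN
  have hzz : z * z = 1 := by
    have := pow_orderOf_eq_one z
    rwa [hz.order, pow_two] at this
  have hz1 : z ≠ 1 := by
    intro h
    have := hz.order
    rw [h, orderOf_one] at this
    omega
  have hzS : z ∈ (S : Subgroup G) := hQR.1 hz.mem
  set O : Finset G := (Set.toFinite {w : G | ∃ h ∈ N, w = h * z * h⁻¹}).toFinset with hO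
  have memO : ∀ w : G, w ∈ O ↔ ∃ h ∈ N, w = h * z * h⁻¹ := by
    intro w
    rw [hO, Set.Finite.mem_toFinset]
    rfl
  -- members of `O` are central of order at most 2
  have hOV : ∀ w ∈ O, w ∈ centralInv (S : Subgroup G) := by
    intro w hw
    obtain ⟨h, hh, rfl⟩ := (memO w).mp hw
    have h1 : h * z * h⁻¹ ∈ (S : Subgroup G) := (Subgroup.mem_normalizer_iff.mp hh z).mp hzS
    have h2 : h * z * h⁻¹ * (h * z * h⁻¹) = 1 := by
      calc h * z * h⁻¹ * (h * z * h⁻¹) = h * (z * z) * h⁻¹ := by group
        _ = 1 := by rw [hzz, mul_one, mul_inv_cancel]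
    exact ⟨h1, h2, fun y hy => central_of_sq_eq_one hQR hz hR h1 h2 hy⟩
  have comm : (O : Set G).Pairwise (Commute on id) := by
    intro a ha b hb _
    exact (hOV b hb).2.2 a (hOV a ha).1
  set u := O.noncommProd id comm with hu
  have huV : u ∈ centralInv (S : Subgroup G) := Subgroup.noncommProd_mem _ comm hOV
  have hzO : z ∈ O := (memO z).mpr ⟨1, N.one_mem, by rw [one_mul, inv_one, mul_one]⟩
  -- `u = z ρ` with `ρ ∈ R`
  have hdec := Finset.mul_noncommProd_erase O hzO id comm
  have hρ : (O.erase z).noncommProd id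
      (fun _ hx _ hy hxy => comm (O.mem_of_mem_erase hx) (O.mem_of_mem_erase hy) hxy) ∈ R := by
    apply Subgroup.noncommProd_mem
    intro w hw
    obtain ⟨hwz, hwO⟩ := Finset.mem_erase.mp hw
    obtain ⟨h, hh, rfl⟩ := (memO w).mp hwO
    exact conj_mem_right hQR hz hh hwz
  have hu1 : u ≠ 1 := by
    intro h1
    rw [hu, ← hdec, id] at h1
    have h2 : z = ((O.erase z).noncommProd id
      (fun _ hx _ hy hxy => comm (O.mem_of_mem_erase hx) (O.mem_of_mem_erase hy) hxy))⁻¹ :=
      eq_inv_of_mul_eq_one_left h1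
    have h3 : z ∈ Q ⊓ R := ⟨hz.mem, by rw [h2]; exact R.inv_mem hρ⟩
    rw [hQR.2.2.2.1, Subgroup.mem_bot] at h3
    exact hz1 h3
  have hu2 : orderOf u = 2 := orderOf_eq_prime (by rw [pow_two]; exact huV.2.1) hu1
  -- invariance under `N`
  have hinv : ∀ n ∈ N, n * u * n⁻¹ = u := by
    intro n hn
    have h1 := Finset.map_noncommProd O id comm (MulAut.conj n)
    have h2 : O.image (fun w => MulAut.conj n w) = O := by
      ext w
      rw [Finset.mem_image]
      constructor
      · rintro ⟨w', hw', rfl⟩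
        obtain ⟨h, hh, rfl⟩ := (memO w').mp hw'
        refine (memO _).mpr ⟨n * h, N.mul_mem hn hh, ?_⟩
        rw [MulAut.conj_apply]; group
      · intro hw
        obtain ⟨h, hh, rfl⟩ := (memO w).mp hw
        refine ⟨n⁻¹ * h * z * (n⁻¹ * h)⁻¹, (memO _).mpr ⟨n⁻¹ * h, N.mul_mem (N.inv_mem hn) hh, rfl⟩, ?_⟩
        rw [MulAut.conj_apply]; group
    have h3 := noncommProd_eq_of_image_eq O (fun w => MulAut.conj n w)
      (MulAut.conj n).injective h2
      (fun _ hx _ hy _ => (comm.of_refl hx hy).map (MulAut.conj n)) comm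
    rw [← MulAut.conj_apply, hu, h1]
    exact h3
  refine ⟨u, huV.1, hu2, ?_⟩
  intro g hg
  have hgg : g * u * g⁻¹ * (g * u * g⁻¹) = 1 := by
    calc g * u * g⁻¹ * (g * u * g⁻¹) = g * (u * u) * g⁻¹ := by group
      _ = 1 := by rw [huV.2.1, mul_one, mul_inv_cancel]
  have hx : u ∈ Subgroup.centralizer ((S : Subgroup G) : Set G) := by
    rw [Subgroup.mem_centralizer_iff]
    intro y hy
    exact huV.2.2 y hy
  have hy : (g⁻¹)⁻¹ * u * g⁻¹ ∈ Subgroup.centralizer ((S : Subgroup G) : Set G) := by
    rw [inv_inv, Subgroup.mem_centralizer_iff]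
    intro y hy
    exact central_of_sq_eq_one hQR hz hR hg hgg hy
  obtain ⟨n, hn, hnu⟩ := S.conj_eq_normalizer_conj_of_mem_centralizer u g⁻¹ hx hy
  rw [inv_inv] at hnu
  rw [hnu]
  have := hinv n⁻¹ (N.inv_mem hn)
  rwa [inv_inv] at this

end Cfsg.Agent.Helper8.QuatDirect
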