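import Mathlib
import Cfsg.Agent.Helper8.QuatDirect4

/-!
A finite group whose Sylow 2-subgroup is `Q × R` with `Q` generalized quaternion and the
involutions of `R` central in `R` is not simple, given Glauberman's `Z*`-theorem for the group.
-/

set_option autoImplicit false

namespace Cfsg.Agent.Helper8.QuatDirect

open Cfsg

variable {G : Type*} [Group G] [Finite G]

theorem not_simple
    (hZ : ∀ (P : Sylow 2 G) (u : G), orderOf u = 2 → u ∈ P →
      (∀ g : G, g * u * g⁻¹ ∈ P → g * u * g⁻¹ = u) →
      ∃ N : Subgroup G, N.Normal ∧ Odd (Nat.card N) ∧ ∀ g : G, u * g * u⁻¹ * g⁻¹ ∈ N)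
    (S : Sylow 2 G) (Q R : Subgroup G) (hQR : IsInternalDirectProduct Q R (S : Subgroup G))
    (n : ℕ) (hn : 1 ≤ n) (eQ : ↥Q ≃* QuaternionGroup (2 ^ n))
    (hR : ∀ r ∈ R, orderOf r = 2 → ∀ s ∈ R, r * s = s * r) :
    ¬ IsSimpleGroup G := by
  intro hsimple
  obtain ⟨z, hz⟩ := quatLike_of_equiv Q n hn eQ
  obtain ⟨u, huS, hu2, hiso⟩ := exists_isolated S hQR hz hR
  obtain ⟨N, hNn, hNodd, hN⟩ := hZ S u hu2 huS hiso
  rcases hNn.eq_bot_or_eq_top with h | h
  · -- `u` is central, so `G` is abelian
    have hc : ∀ g : G, u * g = g * u := by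
      intro g
      have := hN g
      rw [h, Subgroup.mem_bot] at this
      calc u * g = u * g * u⁻¹ * g⁻¹ * (g * u) := by group
        _ = g * u := by rw [this, one_mul]
    have hu1 : u ≠ 1 := by
      intro h1
      rw [h1, orderOf_one] at hu2
      omega
    have hcen : u ∈ Subgroup.center G := by
      rw [Subgroup.mem_center_iff]
      intro g
      exact (hc g).symm
    have hctop : Subgroup.center G = ⊤ := by
      rcases (Subgroup.center G).normal_of_characteristic.eq_bot_or_eq_top with h' | h'
      · rw [h', Subgroup.mem_bot] at hcen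
        exact absurd hcen hu1
      · exact h'
    obtain ⟨a, _, b, _, hab⟩ := hz.comm
    have hb : b ∈ Subgroup.center G := by rw [hctop]; trivial
    have : a * b = b * a := (Subgroup.mem_center_iff.mp hb a)
    have hz1 : z = 1 := by
      rw [← hab, this]; group
    have := hz.order
    rw [hz1, orderOf_one] at this
    omega
  · -- `G` has odd order, but contains an involution
    have h1 : Odd (Nat.card G) := by
      rw [h] at hNodd
      rwa [Subgroup.card_top] at hNodd
    have h2 : 2 ∣ Nat.card G := by
      rw [← hu2]; exact orderOf_dvd_natCard u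
    exact (Nat.not_even_iff_odd.mpr h1) (even_iff_two_dvd.mpr h2)

end Cfsg.Agent.Helper8.QuatDirect
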