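import Mathlib

/-!
An abelian group generated by `r` elements that contains a finite group `A` with quotient of
torsion-free rank `n` forces `A` to be generated by `r - n` elements: a formulation with explicit
coefficient vectors.
-/

set_option autoImplicit false

namespace Cfsg.Agent.Helper8.RankLemma

open Module

theorem exists_generators_of_combination {A : Type*} [CommGroup A] {ι : Type*} [Fintype ι]
    (n : ℕ) (y : ι → A) (w : ι → (Fin n → ℤ))
    (H1 : ∀ a : A, ∃ c : ι → ℤ, ∏ j, y j ^ c j = a ∧ ∑ j, c j • w j = 0)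
    (m : ℤ) (hm : m ≠ 0) (H2 : ∀ v : Fin n → ℤ, ∃ c : ι → ℤ, ∑ j, c j • w j = m • v) :
    ∃ s : Fin (Fintype.card ι - n) → A, Subgroup.closure (Set.range s) = ⊤ := by
  classical
  let lam : (ι → ℤ) →ₗ[ℤ] (Fin n → ℤ) := Fintype.linearCombination ℤ w
  have hlam : ∀ c, lam c = ∑ j, c j • w j := fun c => Fintype.linearCombination_apply ℤ w c
  have hr : finrank ℤ (LinearMap.range lam) = n := by
    apply le_antisymm
    · calc finrank ℤ (LinearMap.range lam) ≤ finrank ℤ (Fin n → ℤ) := Submodule.finrank_le _
        _ = n := Module.finrank_fin_fun ℤ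
    · let g : (Fin n → ℤ) →ₗ[ℤ] LinearMap.range lam :=
        { toFun := fun v => ⟨m • v, by
            obtain ⟨c, hc⟩ := H2 v
            exact ⟨c, by rw [hlam, hc]⟩⟩
          map_add' := fun v v' => by
            apply Subtype.ext
            show m • (v + v') = m • v + m • v'
            rw [smul_add]
          map_smul' := fun k v => by
            apply Subtype.ext
            show m • (k • v) = k • (m • v)
            rw [smul_comm] }
      have hg : Function.Injective g := by
        intro v v' h
        have h1 : m • v = m • v' := congrArg Subtype.val h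
        funext i
        have h2 := congrFun h1 i
        simp only [Pi.smul_apply, smul_eq_mul] at h2
        exact mul_left_cancel₀ hm h2
      calc n = finrank ℤ (Fin n → ℤ) := (Module.finrank_fin_fun ℤ).symm
        _ ≤ finrank ℤ (LinearMap.range lam) := LinearMap.finrank_le_finrank_of_injective hg
  have hk : finrank ℤ (LinearMap.ker lam) = Fintype.card ι - n := by
    have h1 := (LinearMap.ker lam).finrank_quotient_add_finrank
    rw [LinearEquiv.finrank_eq lam.quotKerEquivRange, hr, Module.finrank_fintype_fun_eq_card] at h1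
    omega
  let b := Module.finBasisOfFinrankEq ℤ (LinearMap.ker lam) hk
  let μ : (ι → ℤ) →ₗ[ℤ] Additive A :=
    Fintype.linearCombination ℤ (fun j => Additive.ofMul (y j))
  have hμ : ∀ c : ι → ℤ, Additive.toMul (μ c) = ∏ j, y j ^ c j := by
    intro c
    rw [Fintype.linearCombination_apply, toMul_sum]
    refine Finset.prod_congr rfl (fun j _ => ?_)
    rw [toMul_zsmul]
    rfl
  refine ⟨fun i => Additive.toMul (μ (b i)), ?_⟩
  rw [eq_top_iff]
  intro a _
  obtain ⟨c, hc1, hc2⟩ := H1 a
  have hck : c ∈ LinearMap.ker lam := by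
    rw [LinearMap.mem_ker, hlam, hc2]
  have h1 := b.sum_repr ⟨c, hck⟩
  have h2 : c = ∑ i, b.repr ⟨c, hck⟩ i • ((b i : LinearMap.ker lam) : ι → ℤ) := by
    have h3 := congrArg (Submodule.subtype (LinearMap.ker lam)) h1
    rw [map_sum] at h3
    simp only [map_smul] at h3
    exact h3.symm
  have h4 : a = ∏ i, (Additive.toMul (μ (b i))) ^ (b.repr ⟨c, hck⟩ i) := by
    rw [← hc1, ← hμ c]
    conv_lhs => rw [h2]
    rw [map_sum, toMul_sum]
    refine Finset.prod_congr rfl (fun i _ => ?_)
    rw [map_smul, toMul_zsmul]
  rw [h4]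
  refine Subgroup.prod_mem _ (fun i _ => ?_)
  exact Subgroup.zpow_mem _ (Subgroup.subset_closure (Set.mem_range_self i)) _

end Cfsg.Agent.Helper8.RankLemma
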