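import Mathlib

set_option autoImplicit false
set_option linter.unusedSectionVars false
set_option linter.deprecated false

namespace Cfsg.Agent.S1666P

namespace RANK3

variable {Ω : Type*} [Fintype Ω] [DecidableEq Ω] (G : Subgroup (Equiv.Perm Ω))

/-- orbital relation of the pair `(a, b)` -/
def R (a b : Ω) (x y : Ω) : Prop := ∃ g : G, g • a = x ∧ g • b = y

theorem R_smul {a b x y : Ω} (h : G) (hR : R G a b x y) : R G a b (h • x) (h • y) := by
  obtain ⟨g, rfl, rfl⟩ := hR
  exact ⟨h * g, by rw [mul_smul], by rw [mul_smul]⟩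

theorem R_smul_iff {a b x y : Ω} (h : G) : R G a b (h • x) (h • y) ↔ R G a b x y := by
  constructor
  · intro hR
    have := R_smul G h⁻¹ hR
    simpa using this
  · exact R_smul G h

theorem R_a_iff {a b y : Ω} :
    R G a b a y ↔ y ∈ MulAction.orbit (MulAction.stabilizer G a) b := by
  constructor
  · rintro ⟨g, hga, rfl⟩
    exact ⟨⟨g, hga⟩, rfl⟩
  · rintro ⟨s, rfl⟩
    exact ⟨s.1, s.2, rfl⟩

/-- out-neighbours of `g • a` are the translate of the out-neighbours of `a` -/
theorem out_eq {a b : Ω} (g : G) :
    {y | R G a b (g • a) y} = (fun y => g • y) '' {y | R G a b a y} := by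
  ext y
  simp only [Set.mem_setOf_eq, Set.mem_image]
  constructor
  · intro h
    refine ⟨g⁻¹ • y, ?_, by simp⟩
    have := R_smul G g⁻¹ h
    simpa using this
  · rintro ⟨z, hz, rfl⟩
    exact R_smul G g hz

theorem in_eq {a b : Ω} (g : G) :
    {x | R G a b x (g • a)} = (fun y => g • y) '' {x | R G a b x a} := by
  ext y
  simp only [Set.mem_setOf_eq, Set.mem_image]
  constructor
  · intro h
    refine ⟨g⁻¹ • y, ?_, by simp⟩
    have := R_smul G g⁻¹ h
    simpa using this
  · rintro ⟨z, hz, rfl⟩
    exact R_smul G g hz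

theorem ncard_smul_image (g : G) (s : Set Ω) : ((fun y => g • y) '' s).ncard = s.ncard :=
  Set.ncard_image_of_injective s (MulAction.injective g)

end RANK3

open RANK3 in
theorem rank3_srg {Ω : Type*} [Fintype Ω] [DecidableEq Ω] (G : Subgroup (Equiv.Perm Ω)) [MulAction.IsPretransitive G Ω] (a b c : Ω) (k l : ℕ) (hkl : k ≠ l) (hk1 : k ≠ 1) (hl1 : l ≠ 1) (hcard : Fintype.card Ω = 1 + k + l) (hb : (MulAction.orbit (MulAction.stabilizer G a) b).ncard = k) (hc : (MulAction.orbit (MulAction.stabilizer G a) c).ncard = l) : ∃ (Γ : SimpleGraph Ω) (_ : DecidableRel Γ.Adj) (ℓ μ : ℕ), Γ.IsSRGWith (1 + k + l) k ℓ μ ∧ ∀ g : Equiv.Perm Ω, g ∈ G → ∀ x y : Ω, Γ.Adj (g x) (g y) ↔ Γ.Adj x y := by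
  classical
  have hSa : ∀ s : MulAction.stabilizer G a, s • a = a := fun s => s.2
  have orbit_self : MulAction.orbit (MulAction.stabilizer G a) a = {a} := by
    ext y
    constructor
    · rintro ⟨s, rfl⟩
      exact hSa s
    · rintro rfl
      exact MulAction.mem_orbit_self _
  -- `a` lies in neither orbit
  have haOb : a ∉ MulAction.orbit (MulAction.stabilizer G a) b := by
    intro h
    have h1 := MulAction.orbit_eq_iff.mpr h
    rw [← h1, orbit_self, Set.ncard_singleton] at hb
    exact hk1 hb.symm
  have haOc : a ∉ MulAction.orbit (MulAction.stabilizer G a) c := by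
    intro h
    have h1 := MulAction.orbit_eq_iff.mpr h
    rw [← h1, orbit_self, Set.ncard_singleton] at hc
    exact hl1 hc.symm
  have hdisj : Disjoint (MulAction.orbit (MulAction.stabilizer G a) b)
      (MulAction.orbit (MulAction.stabilizer G a) c) := by
    rcases MulAction.orbit.eq_or_disjoint (G := MulAction.stabilizer G a) b c with h | h
    · exfalso
      rw [h, hc] at hb
      exact hkl hb.symm
    · exact h
  -- the three orbits cover everything
  have hcover : ∀ y : Ω, y = a ∨ y ∈ MulAction.orbit (MulAction.stabilizer G a) b ∨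
      y ∈ MulAction.orbit (MulAction.stabilizer G a) c := by
    have hT : (insert a (MulAction.orbit (MulAction.stabilizer G a) b ∪
        MulAction.orbit (MulAction.stabilizer G a) c)) = Set.univ := by
      rw [Set.eq_univ_iff_ncard, Set.ncard_insert_of_notMem, Set.ncard_union_eq hdisj, hb, hc,
        Nat.card_eq_fintype_card, hcard]
      · ring
      · simp only [Set.mem_union, not_or]
        exact ⟨haOb, haOc⟩
    intro y
    have : y ∈ (insert a (MulAction.orbit (MulAction.stabilizer G a) b ∪
        MulAction.orbit (MulAction.stabilizer G a) c)) := by rw [hT]; trivial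
    simpa [Set.mem_insert_iff, Set.mem_union] using this
  -- out-neighbourhoods
  have hNa : {y | R G a b a y} = MulAction.orbit (MulAction.stabilizer G a) b := by
    ext y
    exact R_a_iff G
  have hout : ∀ x : Ω, {y | R G a b x y}.ncard = k := by
    intro x
    obtain ⟨g, rfl⟩ := MulAction.exists_smul_eq G a x
    rw [out_eq, ncard_smul_image, hNa, hb]
  have hin : ∀ y : Ω, {x | R G a b x y}.ncard = {x | R G a b x a}.ncard := by
    intro y
    obtain ⟨g, rfl⟩ := MulAction.exists_smul_eq G a y
    rw [in_eq, ncard_smul_image]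
  -- double counting
  have hk' : {x | R G a b x a}.ncard = k := by
    have hdc := Finset.sum_card_bipartiteAbove_eq_sum_card_bipartiteBelow (s := (Finset.univ : Finset Ω))
      (t := (Finset.univ : Finset Ω)) (R G a b)
    have h1 : ∀ x : Ω, ((Finset.univ : Finset Ω).bipartiteAbove (R G a b) x).card = k := by
      intro x
      rw [← hout x, Set.ncard_eq_toFinset_card']
      congr 1
      ext y
      simp [Finset.bipartiteAbove]
    have h2 : ∀ y : Ω, ((Finset.univ : Finset Ω).bipartiteBelow (R G a b) y).card =
        {x | R G a b x a}.ncard := by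
      intro y
      rw [← hin y, Set.ncard_eq_toFinset_card']
      congr 1
      ext x
      simp [Finset.bipartiteBelow]
    simp only [h1, h2, Finset.sum_const, Finset.card_univ, smul_eq_mul] at hdc
    have hpos : 0 < Fintype.card Ω := by rw [hcard]; omega
    exact (Nat.eq_of_mul_eq_mul_left hpos hdc).symm
  have hRaa : ¬ R G a b a a := fun h => haOb ((R_a_iff G).mp h)
  have hinv : ∀ (s : MulAction.stabilizer G a) (x : Ω), R G a b x a → R G a b (s • x) a := by
    intro s x hx
    have h1 := R_smul G (s : G) hx
    have h2 : ((s : G) • a) = a := hSa s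
    rw [h2] at h1
    exact h1
  have horb_sub : ∀ (x d : Ω), R G a b x a → x ∈ MulAction.orbit (MulAction.stabilizer G a) d →
      MulAction.orbit (MulAction.stabilizer G a) d ⊆ {x | R G a b x a} := by
    intro x d hx hxd y hy
    have h1 : MulAction.orbit (MulAction.stabilizer G a) x =
        MulAction.orbit (MulAction.stabilizer G a) d := MulAction.orbit_eq_iff.mpr hxd
    rw [← h1] at hy
    obtain ⟨s, rfl⟩ := hy
    exact hinv s x hx
  have hlpos : 0 < l := by
    rw [← hc]
    exact (Set.ncard_pos (Set.toFinite _)).mpr (MulAction.nonempty_orbit _)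
  have hnotc : ∀ x, R G a b x a → x ∉ MulAction.orbit (MulAction.stabilizer G a) c := by
    intro x hx hxc
    have hsub := horb_sub x c hx hxc
    by_cases hbb : ∃ z, R G a b z a ∧ z ∈ MulAction.orbit (MulAction.stabilizer G a) b
    · obtain ⟨z, hz, hzb⟩ := hbb
      have hsub2 := horb_sub z b hz hzb
      have h3 : (MulAction.orbit (MulAction.stabilizer G a) b ∪
          MulAction.orbit (MulAction.stabilizer G a) c).ncard ≤ {x | R G a b x a}.ncard :=
        Set.ncard_le_ncard (Set.union_subset hsub2 hsub) (Set.toFinite _)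
      rw [Set.ncard_union_eq hdisj, hb, hc, hk'] at h3
      omega
    · push Not at hbb
      have hsub3 : {x | R G a b x a} ⊆ MulAction.orbit (MulAction.stabilizer G a) c := by
        intro z hz
        rcases hcover z with rfl | h | h
        · exact absurd hz hRaa
        · exact absurd h (hbb z hz)
        · exact h
      have h4 : {x | R G a b x a} = MulAction.orbit (MulAction.stabilizer G a) c :=
        Set.Subset.antisymm hsub3 hsub
      rw [h4, hc] at hk'
      exact hkl hk'.symm
  have hN' : {x | R G a b x a} = MulAction.orbit (MulAction.stabilizer G a) b := by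
    apply Set.eq_of_subset_of_ncard_le
    · intro z hz
      rcases hcover z with rfl | h | h
      · exact absurd hz hRaa
      · exact h
      · exact absurd h (hnotc z hz)
    · rw [hb, hk']
    · exact Set.toFinite _
  have hsymm : ∀ x y, R G a b x y → R G a b y x := by
    intro x y h
    obtain ⟨g, rfl⟩ := MulAction.exists_smul_eq G a x
    have h1 : R G a b a (g⁻¹ • y) := by
      have := R_smul G g⁻¹ h
      simpa using this
    have h2 : g⁻¹ • y ∈ MulAction.orbit (MulAction.stabilizer G a) b := (R_a_iff G).mp h1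
    rw [← hN'] at h2
    have h3 := R_smul G g h2
    simpa using h3
  have hirr : ∀ x, ¬ R G a b x x := by
    intro x h
    obtain ⟨g, rfl⟩ := MulAction.exists_smul_eq G a x
    exact hRaa ((R_smul_iff G g).mp h)
  let Γ : SimpleGraph Ω := { Adj := R G a b, symm := ⟨hsymm⟩, loopless := ⟨hirr⟩ }
  have hCN : ∀ (g : G) (x y : Ω),
      (Γ.commonNeighbors (g • x) (g • y)).ncard = (Γ.commonNeighbors x y).ncard := by
    intro g x y
    have h1 : Γ.commonNeighbors (g • x) (g • y) = (fun z => g • z) '' Γ.commonNeighbors x y := by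
      ext z
      simp only [SimpleGraph.mem_commonNeighbors, Set.mem_image]
      constructor
      · rintro ⟨h1, h2⟩
        refine ⟨g⁻¹ • z, ⟨?_, ?_⟩, by simp⟩
        · have := R_smul G g⁻¹ h1
          simpa using this
        · have := R_smul G g⁻¹ h2
          simpa using this
      · rintro ⟨w, ⟨h1, h2⟩, rfl⟩
        exact ⟨R_smul G g h1, R_smul G g h2⟩
    rw [h1, ncard_smul_image]
  refine ⟨Γ, Classical.decRel _, (Γ.commonNeighbors a b).ncard, (Γ.commonNeighbors a c).ncard,
    ⟨?_, ?_, ?_, ?_⟩, ?_⟩
  · exact hcard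
  · intro v
    rw [← SimpleGraph.card_neighborSet_eq_degree, Fintype.card_eq_nat_card, _root_.Nat.card_coe_set_eq]
    exact hout v
  · intro v w hvw
    rw [Fintype.card_eq_nat_card, _root_.Nat.card_coe_set_eq]
    obtain ⟨g, rfl, rfl⟩ := hvw
    exact hCN g a b
  · intro v w hvw hnadj
    rw [Fintype.card_eq_nat_card, _root_.Nat.card_coe_set_eq]
    obtain ⟨g, rfl⟩ := MulAction.exists_smul_eq G a v
    have hw' : g⁻¹ • w ∈ MulAction.orbit (MulAction.stabilizer G a) c := by
      rcases hcover (g⁻¹ • w) with h | h | h
      · exfalso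
        apply hvw
        rw [← h, smul_inv_smul]
      · exfalso
        apply hnadj
        have h1 : R G a b a (g⁻¹ • w) := (R_a_iff G).mpr h
        have h2 := R_smul G g h1
        simpa using h2
      · exact h
    obtain ⟨s, hs⟩ := hw'
    have h1 : (g * (s : G)) • a = g • a := by
      rw [mul_smul]
      congr 1
      exact hSa s
    have h2 : (g * (s : G)) • c = w := by
      rw [mul_smul]
      have : ((s : G) • c) = g⁻¹ • w := hs
      rw [this, smul_inv_smul]
    rw [← h1, ← h2]
    exact hCN (g * (s : G)) a c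
  · intro g hg x y
    exact R_smul_iff G (⟨g, hg⟩ : G)

end Cfsg.Agent.S1666P
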