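import Mathlib
import Cfsg.Agent.Helper12.S1786Defs
import Cfsg.Agent.Helper12.S1786CMP

/-! Board `s1786pieces`, row STAB: an element of `M = N_G(V)` centralizing `V` and `P/V` lies in `P`.
The core lemma takes the statement of row CMP as a hypothesis. -/

set_option autoImplicit false

namespace Cfsg.Agent.S1786P

variable {G : Type*} [Group G] [Finite G] {V Q : Subgroup G}

/-- the subgroup `K₂` of elements of `M` centralizing `V` and `P/V` -/
def STAB_aux_K (S : Setup V Q) : Subgroup G where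
  carrier := {t | t ∈ Subgroup.normalizer (V : Set G) ∧ (∀ v ∈ V, t * v = v * t) ∧
    ∀ x ∈ PP V Q, t * x * t⁻¹ * x⁻¹ ∈ V}
  one_mem' := by
    refine ⟨one_mem _, fun v _ => by simp, fun x _ => ?_⟩
    simp
  mul_mem' := by
    rintro t s ⟨ht1, ht2, ht3⟩ ⟨hs1, hs2, hs3⟩
    refine ⟨mul_mem ht1 hs1, fun v hv => ?_, fun x hx => ?_⟩
    · rw [mul_assoc, hs2 v hv, ← mul_assoc, ht2 v hv, mul_assoc]
    · have h1 := hs3 x hx
      have h2 := ht3 x hx
      have h3 := ht2 _ h1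
      have e : t * s * x * (t * s)⁻¹ * x⁻¹ = (t * (s * x * s⁻¹ * x⁻¹)) * t⁻¹ * (t * x * t⁻¹ * x⁻¹) := by group
      rw [e, h3]
      have e2 : (s * x * s⁻¹ * x⁻¹) * t * t⁻¹ * (t * x * t⁻¹ * x⁻¹) =
          (s * x * s⁻¹ * x⁻¹) * (t * x * t⁻¹ * x⁻¹) := by group
      rw [e2]
      exact mul_mem h1 h2
  inv_mem' := by
    rintro t ⟨ht1, ht2, ht3⟩
    refine ⟨inv_mem ht1, fun v hv => ?_, fun x hx => ?_⟩
    · have := ht2 v hv
      calc t⁻¹ * v = t⁻¹ * (v * t) * t⁻¹ := by group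
        _ = t⁻¹ * (t * v) * t⁻¹ := by rw [this]
        _ = v * t⁻¹ := by group
    · have hy : t⁻¹ * x * t ∈ PP V Q := by
        have hn := S.M_le_normalizer_PP (inv_mem ht1)
        have := (Subgroup.mem_normalizer_iff.1 hn x).1 hx
        rwa [inv_inv] at this
      have h1 := ht3 _ hy
      have e : t * (t⁻¹ * x * t) * t⁻¹ * (t⁻¹ * x * t)⁻¹ = (t⁻¹ * x * t⁻¹⁻¹ * x⁻¹)⁻¹ := by group
      rw [e] at h1
      exact (inv_mem_iff).1 h1

theorem STAB_aux_mem_K (S : Setup V Q) {t : G} : t ∈ STAB_aux_K S ↔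
    t ∈ Subgroup.normalizer (V : Set G) ∧ (∀ v ∈ V, t * v = v * t) ∧
      ∀ x ∈ PP V Q, t * x * t⁻¹ * x⁻¹ ∈ V := Iff.rfl

/-- conjugation by `m ∈ M` maps `K₂` into itself -/
theorem STAB_aux_conj_mem (S : Setup V Q) {m t : G} (hm : m ∈ Subgroup.normalizer (V : Set G))
    (ht : t ∈ STAB_aux_K S) : m * t * m⁻¹ ∈ STAB_aux_K S := by
  obtain ⟨ht1, ht2, ht3⟩ := ht
  have hm' : m⁻¹ ∈ Subgroup.normalizer (V : Set G) := inv_mem hm
  have conjV : ∀ v ∈ V, m⁻¹ * v * m ∈ V := by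
    intro v hv
    have := (Subgroup.mem_normalizer_iff.1 hm' v).1 hv
    rwa [inv_inv] at this
  refine ⟨mul_mem (mul_mem hm ht1) hm', fun v hv => ?_, fun x hx => ?_⟩
  · have h1 := ht2 _ (conjV v hv)
    calc m * t * m⁻¹ * v = m * (t * (m⁻¹ * v * m)) * m⁻¹ := by group
      _ = m * ((m⁻¹ * v * m) * t) * m⁻¹ := by rw [h1]
      _ = v * (m * t * m⁻¹) := by group
  · have hy : m⁻¹ * x * m ∈ PP V Q := by
      have hn := S.M_le_normalizer_PP hm'
      have := (Subgroup.mem_normalizer_iff.1 hn x).1 hx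
      rwa [inv_inv] at this
    have h1 := ht3 _ hy
    have h2 := (Subgroup.mem_normalizer_iff.1 hm _).1 h1
    have e : m * t * m⁻¹ * x * (m * t * m⁻¹)⁻¹ * x⁻¹ =
        m * (t * (m⁻¹ * x * m) * t⁻¹ * (m⁻¹ * x * m)⁻¹) * m⁻¹ := by group
    rw [e]
    exact h2

/-- STAB with the statement of row CMP as a hypothesis. -/
theorem STAB_aux_core (S : Setup V Q)
    (hCMP : ∀ c ∈ Subgroup.normalizer (V : Set G), (∀ x ∈ PP V Q, c * x = x * c) → c ∈ V) :
    ∀ t ∈ Subgroup.normalizer (V : Set G), (∀ v ∈ V, t * v = v * t) →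
      (∀ x ∈ PP V Q, t * x * t⁻¹ * x⁻¹ ∈ V) → t ∈ PP V Q := by
  intro t ht1 ht2 ht3
  have htK : t ∈ STAB_aux_K S := ⟨ht1, ht2, ht3⟩
  -- every element of K₂ has fourth power 1
  have h4 : ∀ s ∈ STAB_aux_K S, s ^ 4 = 1 := by
    rintro s ⟨hs1, hs2, hs3⟩
    have hsq : s * s ∈ V := by
      apply hCMP _ (mul_mem hs1 hs1)
      intro x hx
      have hv := hs3 x hx
      have hvv := S.sq _ hv
      have hcomm := hs2 _ hv
      -- s x s⁻¹ = v x, so s² x s⁻² = v² x = x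
      have e1 : s * s * x = s * (s * x * s⁻¹ * x⁻¹) * x * s := by group
      rw [e1, hcomm]
      have e2 : (s * x * s⁻¹ * x⁻¹) * s * x * s = (s * x * s⁻¹ * x⁻¹) * (s * x * s⁻¹ * x⁻¹) * x * s * s := by
        group
      rw [e2, hvv]
      group
    have := S.sq _ hsq
    calc s ^ 4 = (s * s) * (s * s) := by
          rw [show (4 : ℕ) = 2 + 2 from rfl, pow_add, pow_two]
      _ = 1 := this
  have hp : IsPGroup 2 ↥(STAB_aux_K S) := by
    intro g
    refine ⟨2, ?_⟩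
    apply Subtype.ext
    have := h4 g.1 g.2
    simpa using this
  have hle : STAB_aux_K S ≤ Subgroup.normalizer (V : Set G) := fun s hs => hs.1
  have hnorm : Subgroup.normalizer (V : Set G) ≤ Subgroup.normalizer ((STAB_aux_K S : Subgroup G) : Set G) := by
    intro m hm
    rw [Subgroup.mem_normalizer_iff]
    intro a
    constructor
    · intro ha
      exact STAB_aux_conj_mem S hm ha
    · intro ha
      have := STAB_aux_conj_mem S (inv_mem hm) ha
      have e : m⁻¹ * (m * a * m⁻¹) * m⁻¹⁻¹ = a := by group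
      rwa [e] at this
  have hKQ := S.core _ hp hle hnorm
  exact mem_PP.2 ⟨hKQ htK, ht2⟩

/-- STAB: an element of `M` centralizing `V` and `P/V` lies in `P`. -/
theorem STAB (S : Setup V Q) : ∀ t ∈ Subgroup.normalizer (V : Set G), (∀ v ∈ V, t * v = v * t) →
    (∀ x ∈ PP V Q, t * x * t⁻¹ * x⁻¹ ∈ V) → t ∈ PP V Q :=
  STAB_aux_core S (CMP S)

end Cfsg.Agent.S1786P
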