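import Cfsg.Agent.Helper8.S1904Defs
import Cfsg.Agent.Helper4.S1904B6core
import Cfsg.Agent.Helper24.S1904B1
import Cfsg.Agent.Helper1.S1904B2
import Cfsg.Agent.Helper8.S1904B3
import Cfsg.Agent.Helper8.S1904B4
import Cfsg.Agent.Helper21.S1904B5
import Cfsg.Agent.Helper15.S1904WCARD
import Cfsg.Agent.Helper22.S1904INJ
import Cfsg.Agent.Helper21.S1904A2

/-! Row B6 of the board `s1904pieces` (wrapper around the landed core; blueprint
`departures/helper8_S1904_blueprint.md`). -/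

set_option autoImplicit false

namespace Cfsg.Agent.S1904P

variable {X : Type*} [Group X] [Finite X] {A : Subgroup (MulAut X)} {B : Subgroup X}

theorem B6 (H : Hyp A) (hB : MaxAb A B) (h4 : ∀ b ∈ B, b ^ 4 = 1) :
    Cfsg.IsSpecial 2 X ∧ Nat.card X = 64 ∧ Nat.card (Subgroup.center X) = 4 ∧
      (∀ z ∈ Subgroup.center X, z * z = 1) ∧ ∀ t : X, t * t = 1 → t ∈ Subgroup.center X := by
  have hB1 := B1 H hB
  exact B6_aux_core H hB h4 hB1 (B2 H hB) (B3 H hB) (B4 H hB) (fun x hx => B5 H hB x hx)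
    (fun t ht hc => INV H hB1.1 t ht hc) (fun hA3 hfix => INJ H hA3 hfix)
    (fun hc hs hZ => A2 H hc hs hZ)

end Cfsg.Agent.S1904P
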