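import Cfsg.Agent.Helper8.S1904Defs
import Cfsg.Agent.Helper24.S1904B7acore
import Cfsg.Agent.Helper24.S1904B1
import Cfsg.Agent.Helper8.S1904B4
import Cfsg.Agent.Helper21.S1904B5

/-! Row B7a of the board `s1904pieces` (wrapper around the landed core; blueprint
`departures/helper8_S1904_blueprint.md`). -/

set_option autoImplicit false

namespace Cfsg.Agent.S1904P

variable {X : Type*} [Group X] [Finite X] {A : Subgroup (MulAut X)} {B : Subgroup X}

/-- B7a: no nontrivial `A`-fixed coset in `T/B = Ω₁(Z(X/B))`. -/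
theorem B7a (H : Hyp A) (hB : MaxAb A B) :
    ∀ t : X, InT B t → (∀ φ ∈ A, t⁻¹ * φ t ∈ B) → t ∈ B :=
  B7a_core H hB (B1 H hB) (B4 H hB) (fun x hx => B5 H hB x hx)

end Cfsg.Agent.S1904P
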