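import Cfsg.Agent.Helper8.S1904Defs
import Cfsg.Agent.Helper10.S1904B7ccore
import Cfsg.Agent.Helper24.S1904B1
import Cfsg.Agent.Helper1.S1904B2
import Cfsg.Agent.Helper8.S1904B4
import Cfsg.Agent.Helper22.S1904INJ

/-! Row B7c of the board `s1904pieces` (wrapper around the landed core; blueprint
`departures/helper8_S1904_blueprint.md`). -/

set_option autoImplicit false

namespace Cfsg.Agent.S1904P

variable {X : Type*} [Group X] [Finite X] {A : Subgroup (MulAut X)} {B : Subgroup X}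

theorem B7c (H : Hyp A) (hB : MaxAb A B) (hb : ∃ b ∈ B, b ^ 4 ≠ 1)
    (hNF : ∀ t : X, InT B t → (∀ φ ∈ A, t⁻¹ * φ t ∈ B) → t ∈ B) :
    ∀ t : X, InT B t → ∀ u ∈ B, u ^ 4 = 1 → t * u = u * t := by
  have hB1 := B1 H hB
  have hfix : ∀ w ∈ WW X, (∀ φ ∈ A, φ w = w) → w = 1 :=
    fun w hw h => hB1.2.2.2.1 w (hB1.2.1 hw) h
  exact B7c_core H hB hb hNF hB1 (B2 H hB) (B4 H hB)
    (fun P P₀ => INJ H (B4 H hB) hfix P P₀)

end Cfsg.Agent.S1904P
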