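import Mathlib
import Cfsg.Prelude.Def_Transfer
import Cfsg.Agent.Helper8.S1904Defs
import Cfsg.Agent.Helper1.AbPow
import Cfsg.Agent.S0014

/-! Board `s1904pieces`, row S1: a special 2-group with centre a four-group all of whose involutions are
central has order at most 64 (Chevalley–Warning). -/

set_option autoImplicit false

namespace Cfsg.Agent.S1904P

open scoped commutatorElement

variable {X : Type*} [Group X]

/-- data for the quadratic map `x ↦ φ (x²)` -/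
structure S1_aux_Data (φ : X → ZMod 2) : Prop where
  sqZ : ∀ x : X, x * x ∈ Subgroup.center X
  commZ : ∀ x y : X, x * y * x⁻¹ * y⁻¹ ∈ Subgroup.center X
  expZ : ∀ z ∈ Subgroup.center X, z * z = 1
  add : ∀ z ∈ Subgroup.center X, ∀ z' ∈ Subgroup.center X, φ (z * z') = φ z + φ z'

/-- the quadratic map -/
def S1_aux_q (φ : X → ZMod 2) (x : X) : ZMod 2 := φ (x * x)

/-- its polarization -/
def S1_aux_b (φ : X → ZMod 2) (x y : X) : ZMod 2 := φ (x * y * x⁻¹ * y⁻¹)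

namespace S1_aux_Data

variable {φ : X → ZMod 2} (D : S1_aux_Data φ)
include D

theorem phi_one : φ 1 = 0 := by
  have := D.add 1 (one_mem _) 1 (one_mem _)
  rw [mul_one] at this
  have h : φ 1 + φ 1 - φ 1 = φ 1 - φ 1 := by rw [← this]
  simpa using h

theorem q_one : S1_aux_q φ 1 = 0 := by
  unfold S1_aux_q; rw [mul_one]; exact D.phi_one

theorem b_one_right (x : X) : S1_aux_b φ x 1 = 0 := by
  unfold S1_aux_b
  have : x * 1 * x⁻¹ * 1⁻¹ = 1 := by group
  rw [this]; exact D.phi_one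

theorem b_one_left (x : X) : S1_aux_b φ 1 x = 0 := by
  unfold S1_aux_b
  have : 1 * x * 1⁻¹ * x⁻¹ = 1 := by group
  rw [this]; exact D.phi_one

theorem central_comm {z : X} (hz : z ∈ Subgroup.center X) (g : X) : g * z = z * g :=
  (Subgroup.mem_center_iff.1 hz) g

theorem b_symm (x y : X) : S1_aux_b φ y x = S1_aux_b φ x y := by
  unfold S1_aux_b
  have hc := D.commZ x y
  have h2 := D.expZ _ hc
  have : y * x * y⁻¹ * x⁻¹ = (x * y * x⁻¹ * y⁻¹)⁻¹ := by group
  rw [this]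
  have : (x * y * x⁻¹ * y⁻¹)⁻¹ = x * y * x⁻¹ * y⁻¹ := by
    have h3 := congrArg (fun t => (x * y * x⁻¹ * y⁻¹)⁻¹ * t) h2
    simp only [mul_one] at h3
    rw [← h3]; group
  rw [this]

theorem b_mul_left (x y w : X) : S1_aux_b φ (x * y) w = S1_aux_b φ x w + S1_aux_b φ y w := by
  unfold S1_aux_b
  have h1 := D.commZ y w
  have h2 := D.commZ x w
  have hc : x * (y * w * y⁻¹ * w⁻¹) = (y * w * y⁻¹ * w⁻¹) * x := D.central_comm h1 x
  have e : x * y * w * (x * y)⁻¹ * w⁻¹ = x * (y * w * y⁻¹ * w⁻¹) * w * x⁻¹ * w⁻¹ := by group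
  rw [e, hc]
  have e2 : y * w * y⁻¹ * w⁻¹ * x * w * x⁻¹ * w⁻¹ = (y * w * y⁻¹ * w⁻¹) * (x * w * x⁻¹ * w⁻¹) := by group
  rw [e2, D.add _ h1 _ h2, add_comm]

theorem b_mul_right (w x y : X) : S1_aux_b φ w (x * y) = S1_aux_b φ w x + S1_aux_b φ w y := by
  rw [D.b_symm, D.b_mul_left, D.b_symm x w, D.b_symm y w]

theorem q_mul (x y : X) : S1_aux_q φ (x * y) = S1_aux_q φ x + S1_aux_q φ y + S1_aux_b φ x y := by
  unfold S1_aux_q
  rw [← D.b_symm]
  unfold S1_aux_b
  have h1 := D.commZ y x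
  have hx := D.sqZ x
  have hy := D.sqZ y
  -- y x = [y,x] x y
  have e : x * y * (x * y) = x * (y * x * y⁻¹ * x⁻¹) * x * y * y := by group
  have hc : x * (y * x * y⁻¹ * x⁻¹) = (y * x * y⁻¹ * x⁻¹) * x := D.central_comm h1 x
  rw [e, hc]
  have e2 : y * x * y⁻¹ * x⁻¹ * x * x * y * y = (y * x * y⁻¹ * x⁻¹) * ((x * x) * (y * y)) := by group
  rw [e2, D.add _ h1 _ (mul_mem hx hy), D.add _ hx _ hy]
  ring

theorem q_pow (y : X) (t : ZMod 2) : S1_aux_q φ (y ^ t.val) = t * S1_aux_q φ y := by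
  rcases (by decide : ∀ t : ZMod 2, t = 0 ∨ t = 1) t with rfl | rfl
  · rw [ZMod.val_zero, pow_zero, D.q_one, zero_mul]
  · rw [ZMod.val_one, pow_one, one_mul]

theorem b_pow_right (g y : X) (t : ZMod 2) : S1_aux_b φ g (y ^ t.val) = t * S1_aux_b φ g y := by
  rcases (by decide : ∀ t : ZMod 2, t = 0 ∨ t = 1) t with rfl | rfl
  · rw [ZMod.val_zero, pow_zero, D.b_one_right, zero_mul]
  · rw [ZMod.val_one, pow_one, one_mul]

theorem b_pow_left (g y : X) (t : ZMod 2) : S1_aux_b φ (y ^ t.val) g = t * S1_aux_b φ y g := by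
  rw [D.b_symm, D.b_pow_right, D.b_symm]

/-- peeling the last factor -/
theorem q_snoc (g y : X) (t : ZMod 2) :
    S1_aux_q φ (g * y ^ t.val) = S1_aux_q φ g + t * S1_aux_q φ y + t * S1_aux_b φ g y := by
  rw [D.q_mul, D.q_pow, D.b_pow_right]

theorem b_snoc (g y w : X) (t : ZMod 2) :
    S1_aux_b φ (g * y ^ t.val) w = S1_aux_b φ g w + t * S1_aux_b φ y w := by
  rw [D.b_mul_left, D.b_pow_left]

end S1_aux_Data

/-- the product `v₀^{ε 0} v₁^{ε 1} v₂^{ε 2} v₃^{ε 3} v₄^{ε 4}` -/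
def S1_aux_x (v : Fin 5 → X) (ε : Fin 5 → ZMod 2) : X :=
  v 0 ^ (ε 0).val * v 1 ^ (ε 1).val * v 2 ^ (ε 2).val * v 3 ^ (ε 3).val * v 4 ^ (ε 4).val

open MvPolynomial in
/-- the quadratic polynomial representing `ε ↦ φ ((x ε)²)` -/
noncomputable def S1_aux_P (φ : X → ZMod 2) (v : Fin 5 → X) : MvPolynomial (Fin 5) (ZMod 2) :=
  (∑ i : Fin 5, C (S1_aux_q φ (v i)) * MvPolynomial.X i) +
    ∑ i : Fin 5, ∑ j : Fin 5, C (if i < j then S1_aux_b φ (v i) (v j) else 0) * MvPolynomial.X i * MvPolynomial.X j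

theorem S1_aux_totalDegree (φ : X → ZMod 2) (v : Fin 5 → X) : (S1_aux_P φ v).totalDegree ≤ 2 := by
  unfold S1_aux_P
  refine (MvPolynomial.totalDegree_add _ _).trans (max_le ?_ ?_)
  · refine MvPolynomial.totalDegree_finsetSum_le (fun i _ => ?_)
    refine (MvPolynomial.totalDegree_mul _ _).trans ?_
    rw [MvPolynomial.totalDegree_C, MvPolynomial.totalDegree_X]
    norm_num
  · refine MvPolynomial.totalDegree_finsetSum_le (fun i _ => ?_)
    refine MvPolynomial.totalDegree_finsetSum_le (fun j _ => ?_)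
    refine (MvPolynomial.totalDegree_mul _ _).trans ?_
    have h1 : (MvPolynomial.C (if i < j then S1_aux_b φ (v i) (v j) else 0) *
        (MvPolynomial.X i : MvPolynomial (Fin 5) (ZMod 2))).totalDegree ≤ 1 := by
      refine (MvPolynomial.totalDegree_mul _ _).trans ?_
      rw [MvPolynomial.totalDegree_C, MvPolynomial.totalDegree_X]
    rw [MvPolynomial.totalDegree_X]
    omega

theorem S1_aux_eval {φ : X → ZMod 2} (D : S1_aux_Data φ) (v : Fin 5 → X) (ε : Fin 5 → ZMod 2) :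
    MvPolynomial.eval ε (S1_aux_P φ v) = S1_aux_q φ (S1_aux_x v ε) := by
  unfold S1_aux_P S1_aux_x
  simp only [D.q_snoc, D.b_snoc, D.q_pow, D.b_pow_left]
  simp only [map_add, map_mul, MvPolynomial.eval_C, MvPolynomial.eval_X, Fin.sum_univ_five]
  simp only [Fin.isValue, Fin.reduceLT, if_true, if_false, lt_self_iff_false]
  ring

/-- Chevalley–Warning: two quadratic forms in five variables over `𝔽₂` have a common nontrivial zero. -/
theorem S1_aux_cw {φ₁ φ₂ : X → ZMod 2} (D₁ : S1_aux_Data φ₁) (D₂ : S1_aux_Data φ₂) (v : Fin 5 → X) :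
    ∃ ε : Fin 5 → ZMod 2, ε ≠ 0 ∧ S1_aux_q φ₁ (S1_aux_x v ε) = 0 ∧ S1_aux_q φ₂ (S1_aux_x v ε) = 0 := by
  classical
  have hdeg : (S1_aux_P φ₁ v).totalDegree + (S1_aux_P φ₂ v).totalDegree < Fintype.card (Fin 5) := by
    have h1 := S1_aux_totalDegree φ₁ v
    have h2 := S1_aux_totalDegree φ₂ v
    simp only [Fintype.card_fin]; omega
  have hdvd := char_dvd_card_solutions_of_add_lt 2 hdeg
  have h0 : MvPolynomial.eval (0 : Fin 5 → ZMod 2) (S1_aux_P φ₁ v) = 0 ∧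
      MvPolynomial.eval (0 : Fin 5 → ZMod 2) (S1_aux_P φ₂ v) = 0 := by
    rw [S1_aux_eval D₁, S1_aux_eval D₂]
    have : S1_aux_x v 0 = 1 := by simp [S1_aux_x]
    rw [this, D₁.q_one, D₂.q_one]; exact ⟨rfl, rfl⟩
  have hpos : 0 < Fintype.card { x : Fin 5 → ZMod 2 // MvPolynomial.eval x (S1_aux_P φ₁ v) = 0 ∧
      MvPolynomial.eval x (S1_aux_P φ₂ v) = 0 } := Fintype.card_pos_iff.2 ⟨⟨0, h0⟩⟩
  have h2 : 1 < Fintype.card { x : Fin 5 → ZMod 2 // MvPolynomial.eval x (S1_aux_P φ₁ v) = 0 ∧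
      MvPolynomial.eval x (S1_aux_P φ₂ v) = 0 } := by
    obtain ⟨k, hk⟩ := hdvd
    omega
  obtain ⟨⟨ε, hε⟩, hne⟩ := Fintype.exists_ne_of_one_lt_card h2 ⟨0, h0⟩
  refine ⟨ε, fun h => hne (Subtype.ext h), ?_⟩
  rw [← S1_aux_eval D₁, ← S1_aux_eval D₂]; exact hε

/-- two coordinate functionals on the four-group `Z(X)` -/
theorem S1_aux_exists_phi (hZ : ∀ z ∈ Subgroup.center X, z * z = 1)
    (h4 : Nat.card (Subgroup.center X) = 4) :
    ∃ φ₁ φ₂ : X → ZMod 2,
      (∀ z ∈ Subgroup.center X, ∀ z' ∈ Subgroup.center X, φ₁ (z * z') = φ₁ z + φ₁ z') ∧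
      (∀ z ∈ Subgroup.center X, ∀ z' ∈ Subgroup.center X, φ₂ (z * z') = φ₂ z + φ₂ z') ∧
      ∀ z ∈ Subgroup.center X, φ₁ z = 0 → φ₂ z = 0 → z = 1 := by
  classical
  have hexp : Monoid.exponent ↥(Subgroup.center X) = 2 := by
    have hdvd : Monoid.exponent ↥(Subgroup.center X) ∣ 2 := by
      apply Monoid.exponent_dvd_of_forall_pow_eq_one
      intro g
      apply Subtype.ext
      have := hZ g.1 g.2
      simpa [pow_two] using this
    rcases (Nat.dvd_prime Nat.prime_two).1 hdvd with h | h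
    · exfalso
      have hsub : Subsingleton ↥(Subgroup.center X) := Monoid.exp_eq_one_iff.1 h
      have : Nat.card ↥(Subgroup.center X) = 1 := Nat.card_unique
      omega
    · exact h
  have : IsKleinFour ↥(Subgroup.center X) := ⟨h4, hexp⟩
  obtain ⟨e⟩ := IsKleinFour.nonempty_mulEquiv (G₁ := ↥(Subgroup.center X))
    (G₂ := Multiplicative (ZMod 2 × ZMod 2))
  refine ⟨fun x => if h : x ∈ Subgroup.center X then (Multiplicative.toAdd (e ⟨x, h⟩)).1 else 0,
    fun x => if h : x ∈ Subgroup.center X then (Multiplicative.toAdd (e ⟨x, h⟩)).2 else 0, ?_, ?_, ?_⟩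
  · intro z hz z' hz'
    have hm : z * z' ∈ Subgroup.center X := mul_mem hz hz'
    simp only [dif_pos hz, dif_pos hz', dif_pos hm]
    have : (⟨z * z', hm⟩ : ↥(Subgroup.center X)) = ⟨z, hz⟩ * ⟨z', hz'⟩ := rfl
    rw [this, map_mul]; rfl
  · intro z hz z' hz'
    have hm : z * z' ∈ Subgroup.center X := mul_mem hz hz'
    simp only [dif_pos hz, dif_pos hz', dif_pos hm]
    have : (⟨z * z', hm⟩ : ↥(Subgroup.center X)) = ⟨z, hz⟩ * ⟨z', hz'⟩ := rfl
    rw [this, map_mul]; rfl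
  · intro z hz h1 h2
    simp only [dif_pos hz] at h1 h2
    have h3 : e ⟨z, hz⟩ = 1 := by
      have : Multiplicative.toAdd (e ⟨z, hz⟩) = 0 := Prod.ext h1 h2
      exact this
    have h5 : (⟨z, hz⟩ : ↥(Subgroup.center X)) = 1 := by
      have := e.injective (h3.trans (map_one e).symm)
      exact this
    exact congrArg Subtype.val h5

theorem S1_aux_mul_pow_not_mem {H : Subgroup X} {g y : X} (hg : g ∈ H) (hy : y ∉ H) {t : ZMod 2}
    (ht : t ≠ 0) : g * y ^ t.val ∉ H := by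
  rcases (by decide : ∀ t : ZMod 2, t = 0 ∨ t = 1) t with rfl | rfl
  · exact absurd rfl ht
  · rw [ZMod.val_one, pow_one]
    intro h
    exact hy ((Subgroup.mul_mem_cancel_left H hg).1 h)

section fin
variable [Finite X]

/-- one step of the chain: adjoin an element outside `H ≥ Φ(X)`. -/
theorem S1_aux_step (hX : IsPGroup 2 X) (H : Subgroup X) (hFH : frattini X ≤ H)
    (hcard : Nat.card H < Nat.card X) :
    ∃ a : X, a ∉ H ∧ Nat.card (H ⊔ Subgroup.zpowers a : Subgroup X) = 2 * Nat.card H := by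
  have hne : H ≠ ⊤ := by
    rintro rfl
    rw [Subgroup.card_top] at hcard
    exact lt_irrefl _ hcard
  obtain ⟨a, ha⟩ : ∃ a : X, a ∉ H := by
    by_contra hcon
    push Not at hcon
    exact hne (eq_top_iff.2 fun x _ => hcon x)
  have : Fact (Nat.Prime 2) := ⟨Nat.prime_two⟩
  exact ⟨a, ha, Cfsg.Agent.S0014.card_sup_zpowers hX hFH a ha⟩

/-- five elements independent modulo the centre -/
theorem S1_aux_exists_indep (hX : IsPGroup 2 X) (hF : frattini X = Subgroup.center X)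
    (h4 : Nat.card (Subgroup.center X) = 4) (hbig : 64 < Nat.card X) :
    ∃ v : Fin 5 → X, ∀ ε : Fin 5 → ZMod 2, ε ≠ 0 → S1_aux_x v ε ∉ Subgroup.center X := by
  have hF0 : frattini X ≤ Subgroup.center X := hF.le
  obtain ⟨a, ha, hca⟩ := S1_aux_step hX (Subgroup.center X) hF0 (by omega)
  set H1 := Subgroup.center X ⊔ Subgroup.zpowers a with hH1
  have hF1 : frattini X ≤ H1 := hF0.trans le_sup_left
  obtain ⟨b, hb, hcb⟩ := S1_aux_step hX H1 hF1 (by omega)
  set H2 := H1 ⊔ Subgroup.zpowers b with hH2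
  have hF2 : frattini X ≤ H2 := hF1.trans le_sup_left
  obtain ⟨c, hc, hcc⟩ := S1_aux_step hX H2 hF2 (by omega)
  set H3 := H2 ⊔ Subgroup.zpowers c with hH3
  have hF3 : frattini X ≤ H3 := hF2.trans le_sup_left
  obtain ⟨d, hd, hcd⟩ := S1_aux_step hX H3 hF3 (by omega)
  set H4 := H3 ⊔ Subgroup.zpowers d with hH4
  have hF4 : frattini X ≤ H4 := hF3.trans le_sup_left
  obtain ⟨e, he, -⟩ := S1_aux_step hX H4 hF4 (by omega)
  have h01 : Subgroup.center X ≤ H1 := le_sup_left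
  have h12 : H1 ≤ H2 := le_sup_left
  have h23 : H2 ≤ H3 := le_sup_left
  have h34 : H3 ≤ H4 := le_sup_left
  have haH1 : a ∈ H1 := (le_sup_right : Subgroup.zpowers a ≤ H1) (Subgroup.mem_zpowers a)
  have hbH2 : b ∈ H2 := (le_sup_right : Subgroup.zpowers b ≤ H2) (Subgroup.mem_zpowers b)
  have hcH3 : c ∈ H3 := (le_sup_right : Subgroup.zpowers c ≤ H3) (Subgroup.mem_zpowers c)
  have hdH4 : d ∈ H4 := (le_sup_right : Subgroup.zpowers d ≤ H4) (Subgroup.mem_zpowers d)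
  refine ⟨![a, b, c, d, e], ?_⟩
  intro ε hε hmem
  unfold S1_aux_x at hmem
  simp only [Matrix.cons_val_zero, Matrix.cons_val_one, Matrix.cons_val] at hmem
  have hP1 : a ^ (ε 0).val ∈ H1 := Subgroup.pow_mem _ haH1 _
  have hP2 : a ^ (ε 0).val * b ^ (ε 1).val ∈ H2 := mul_mem (h12 hP1) (Subgroup.pow_mem _ hbH2 _)
  have hP3 : a ^ (ε 0).val * b ^ (ε 1).val * c ^ (ε 2).val ∈ H3 :=
    mul_mem (h23 hP2) (Subgroup.pow_mem _ hcH3 _)
  have hP4 : a ^ (ε 0).val * b ^ (ε 1).val * c ^ (ε 2).val * d ^ (ε 3).val ∈ H4 :=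
    mul_mem (h34 hP3) (Subgroup.pow_mem _ hdH4 _)
  -- peel from the top
  have e4 : ε 4 = 0 := by
    by_contra h
    exact S1_aux_mul_pow_not_mem hP4 he h (h34 (h23 (h12 (h01 hmem))))
  rw [e4, ZMod.val_zero, pow_zero, mul_one] at hmem
  have e3 : ε 3 = 0 := by
    by_contra h
    exact S1_aux_mul_pow_not_mem hP3 hd h (h23 (h12 (h01 hmem)))
  rw [e3, ZMod.val_zero, pow_zero, mul_one] at hmem
  have e2 : ε 2 = 0 := by
    by_contra h
    exact S1_aux_mul_pow_not_mem hP2 hc h (h12 (h01 hmem))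
  rw [e2, ZMod.val_zero, pow_zero, mul_one] at hmem
  have e1 : ε 1 = 0 := by
    by_contra h
    exact S1_aux_mul_pow_not_mem hP1 hb h (h01 hmem)
  rw [e1, ZMod.val_zero, pow_zero, mul_one] at hmem
  have e0 : ε 0 = 0 := by
    by_contra h
    have := S1_aux_mul_pow_not_mem (one_mem (Subgroup.center X)) ha h
    rw [one_mul] at this
    exact this hmem
  apply hε
  funext i
  fin_cases i
  · exact e0
  · exact e1
  · exact e2
  · exact e3
  · exact e4

/-- S1: `|X| ≤ 64` (Chevalley–Warning). -/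
theorem S1 (hsp : Cfsg.IsSpecial 2 X) (hZ : ∀ z ∈ Subgroup.center X, z * z = 1)
    (h4 : Nat.card (Subgroup.center X) = 4) (hinv : ∀ t : X, t * t = 1 → t ∈ Subgroup.center X) :
    Nat.card X ≤ 64 := by
  obtain ⟨hX, hF, hD⟩ := hsp
  by_contra hbig
  push Not at hbig
  have : Fact (Nat.Prime 2) := ⟨Nat.prime_two⟩
  have hsq : ∀ x : X, x * x ∈ Subgroup.center X := by
    intro x
    have := Cfsg.Agent.Helper1.IsPGroup.pow_mem_frattini hX x
    rw [hF, pow_two] at this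
    exact this
  have hcomm : ∀ x y : X, x * y * x⁻¹ * y⁻¹ ∈ Subgroup.center X := by
    intro x y
    rw [← hD]
    have : x * y * x⁻¹ * y⁻¹ = ⁅x, y⁆ := by rw [commutatorElement_def]
    rw [this]
    exact Subgroup.commutator_mem_commutator (Subgroup.mem_top x) (Subgroup.mem_top y)
  obtain ⟨φ₁, φ₂, hadd1, hadd2, hinj⟩ := S1_aux_exists_phi hZ h4
  have D₁ : S1_aux_Data φ₁ := ⟨hsq, hcomm, hZ, hadd1⟩
  have D₂ : S1_aux_Data φ₂ := ⟨hsq, hcomm, hZ, hadd2⟩
  obtain ⟨v, hv⟩ := S1_aux_exists_indep hX hF h4 hbig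
  obtain ⟨ε, hε, h1, h2⟩ := S1_aux_cw D₁ D₂ v
  have hone : S1_aux_x v ε * S1_aux_x v ε = 1 := hinj _ (hsq _) h1 h2
  exact hv ε hε (hinv _ hone)

end fin

end Cfsg.Agent.S1904P
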