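import Mathlib

/-! Row NORMCOMM of the board `s1906pieces` (blueprint `departures/helper8_S1906_blueprint.md`). -/

set_option autoImplicit false

namespace Cfsg.Agent.S1906P

/-- conjugation by an element of the normalizer as an endomorphism of the subgroup -/
def NORMCOMM_aux_conj {G : Type*} [Group G] (X : Subgroup G) (m : G)
    (hm : m ∈ Subgroup.normalizer (X : Set G)) : ↥X →* ↥X where
  toFun x := ⟨m * (x : G) * m⁻¹, (Subgroup.mem_normalizer_iff.1 hm (x : G)).1 x.2⟩
  map_one' := by apply Subtype.ext; simp
  map_mul' a b := by apply Subtype.ext; simp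

/-- NORMCOMM: the normalizer of `X` preserves the derived subgroup of `X`. -/
theorem NORMCOMM {G : Type*} [Group G] (X : Subgroup G) (n : G)
    (hn : n ∈ Subgroup.normalizer (X : Set G)) (e y : ↥X) (hy : (y : G) = n * (e : G) * n⁻¹)
    (hyc : y ∈ commutator ↥X) : e ∈ commutator ↥X := by
  have hn' : n⁻¹ ∈ Subgroup.normalizer (X : Set G) := inv_mem hn
  set φ := NORMCOMM_aux_conj X n⁻¹ hn' with hφ
  have hφy : φ y = e := by
    apply Subtype.ext
    show n⁻¹ * (y : G) * n⁻¹⁻¹ = (e : G)
    rw [hy]; group
  have hle : (commutator ↥X).map φ ≤ commutator ↥X := by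
    rw [commutator_def, Subgroup.map_commutator]
    exact Subgroup.commutator_mono le_top le_top
  rw [← hφy]
  exact hle (Subgroup.mem_map_of_mem φ hyc)

end Cfsg.Agent.S1906P
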