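import Mathlib
import Cfsg.Prelude.Def_LieClassical
import Cfsg.Agent.Helper13.S2263Defs
import Cfsg.Agent.Helper6.S2263REAL
import Cfsg.Agent.Helper6.S2263KTOR
import Cfsg.Agent.Helper26.S2263SUM
import Cfsg.Agent.Helper26.S2263KFORM
import Cfsg.Agent.Helper23.S2263U2
import Cfsg.Agent.Helper23.S2263U3
import Cfsg.Agent.Helper8.S2263LINEMF

/-! S2263 pieces CASE2, CASE4 (driver helper13; helper8): assemblies. -/

set_option autoImplicit false

namespace Cfsg.Agent.S2263P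

open Cfsg.Agent.S2496P

namespace CASE2

/-- the order computation: `X^k = 1 ↔ N ∣ k` for a coprime product -/
theorem dvd_iff_of_coprime {a b k : ℕ} (hab : Nat.Coprime a b) : (a ∣ k ∧ b ∣ k) ↔ a * b ∣ k :=
  ⟨fun h => Nat.Coprime.mul_dvd_of_dvd_of_dvd hab h.1 h.2,
   fun h => ⟨dvd_trans (dvd_mul_right a b) h, dvd_trans (dvd_mul_left b a) h⟩⟩

end CASE2

section cases

variable {F : Type*} [Field F] [Fintype F] {p : ℕ} [Fact p.Prime] [CharP F p] {f q : ℕ}

open CASE2 in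
/-- CASE2: `d` odd, torus on a `(d-2)`-space times a unipotent of the hyperbolic plane -/
theorem exists_case2 (hq : q = p ^ f) (hF : Fintype.card F = q ^ 2) {d : ℕ} (hd : 3 ≤ d)
    (hodd : Odd d) :
    ∃ g : (↥(Cfsg.GU d F q) ⧸ Subgroup.center ↥(Cfsg.GU d F q)),
      orderOf g = (q ^ (d - 2) + 1) * p := by
  classical
  have hpp : p.Prime := Fact.out
  -- `f ≥ 1`
  have hf : f ≠ 0 := by
    rintro rfl
    rw [pow_zero] at hq
    subst hq
    have h2 : 2 ≤ Fintype.card F := Fintype.one_lt_card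
    rw [hF] at h2
    omega
  have hpq : p ∣ q := by rw [hq]; exact dvd_pow_self p hf
  obtain ⟨m, hm⟩ : ∃ m, m = d - 2 := ⟨_, rfl⟩
  have hm1 : 1 ≤ m := by omega
  have hmodd : Odd m := by
    obtain ⟨j, hj⟩ := hodd
    exact ⟨j - 1, by omega⟩
  have : NeZero m := ⟨by omega⟩
  let K := FiniteField.Extension F p m
  have hK : Module.finrank F K = m := FiniteField.finrank_extension F p m
  have : CharP K p := charP_of_injective_algebraMap (algebraMap F K).injective p
  obtain ⟨s, hs⟩ := exists_orderOf_Hk (K := K) hq hF hK hm1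
  obtain ⟨t, ht0, ht⟩ := exists_trace_zero (F := F) hq hF
  have hs1 : s ^ (q ^ m + 1) = 1 := by rw [← hs]; exact pow_orderOf_eq_one s
  have hH : IsHerm (frob F p f) (Hsum (Hk F K p f m) (H2 (frob F p f))) :=
    isHerm_Hsum (isHerm_Hk hq hF hK hmodd) (isHerm_H2 hq hF)
  set X : K × (F × F) →ₗ[F] K × (F × F) := (LinearMap.mulLeft F s).prodMap (u2 t) with hXdef
  have hX : ∀ u v, Hsum (Hk F K p f m) (H2 (frob F p f)) (X u) (X v) =
      Hsum (Hk F K p f m) (H2 (frob F p f)) u v :=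
    Hsum_prodMap _ _ (Hk_mulLeft hq hF hK hmodd s hs1) (H2_u2 t ht)
  have hdim : Module.finrank F (K × (F × F)) = d := by
    rw [Module.finrank_prod, Module.finrank_prod, Module.finrank_self, hK]
    omega
  have hcop : Nat.Coprime (q ^ m + 1) p := by
    rw [Nat.coprime_comm, Nat.Prime.coprime_iff_not_dvd hpp]
    intro hdvd
    have h1 : p ∣ q ^ m := dvd_trans hpq (dvd_pow_self q (by omega))
    have := (Nat.dvd_add_right h1).1 hdvd
    exact hpp.one_lt.ne' (Nat.dvd_one.1 this)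
  have hiff : ∀ k : ℕ, X ^ k = 1 ↔ (q ^ m + 1) * p ∣ k := by
    intro k
    rw [hXdef, prodMap_pow_eq_one_iff, mulLeft_pow_eq_one_iff, u2_pow_eq_one_iff t ht0,
      ← dvd_iff_of_coprime hcop, ← hs, orderOf_dvd_iff_pow_eq_one]
  obtain ⟨g, hg⟩ := exists_pgu_orderOf hq hF hdim hH X hX ((0 : K), ((1 : F), (0 : F)))
    (by
      intro h
      have := congrArg (fun z : K × (F × F) => z.2.1) h
      simp at this)
    (by
      rw [hXdef]
      show ((LinearMap.mulLeft F s) 0, u2 t ((1 : F), (0 : F))) = _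
      rw [map_zero, u2_apply]
      simp)
    ((q ^ m + 1) * p) (Nat.mul_pos (by omega) hpp.pos) ((hiff _).2 dvd_rfl) (fun k hk => (hiff k).1 hk)
  exact ⟨g, by rw [hg, hm]⟩

open CASE2 in
/-- CASE4: `d` even, `q = 2`: torus on a `(d-3)`-space times the regular unipotent of `GU_3(2)` -/
theorem exists_case4 [CharP F 2] (hF : Fintype.card F = 4) {d : ℕ} (hd : 4 ≤ d) (heven : Even d) :
    ∃ g : (↥(Cfsg.GU d F 2) ⧸ Subgroup.center ↥(Cfsg.GU d F 2)),
      orderOf g = 4 * (2 ^ (d - 3) + 1) := by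
  classical
  have hq : (2 : ℕ) = 2 ^ 1 := by norm_num
  have hF' : Fintype.card F = 2 ^ 2 := by rw [hF]; norm_num
  obtain ⟨m, hm⟩ : ∃ m, m = d - 3 := ⟨_, rfl⟩
  have hm1 : 1 ≤ m := by omega
  have hmodd : Odd m := by
    obtain ⟨j, hj⟩ := heven
    exact ⟨j - 2, by omega⟩
  have : NeZero m := ⟨by omega⟩
  let K := FiniteField.Extension F 2 m
  have hK : Module.finrank F K = m := FiniteField.finrank_extension F 2 m
  have : CharP K 2 := charP_of_injective_algebraMap (algebraMap F K).injective 2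
  obtain ⟨s, hs⟩ := exists_orderOf_Hk (K := K) (p := 2) (f := 1) hq hF' hK hm1
  obtain ⟨ω, hω⟩ := exists_omega (F := F) hF
  have hs1 : s ^ (2 ^ m + 1) = 1 := by rw [← hs]; exact pow_orderOf_eq_one s
  have hH : IsHerm (frob F 2 1) (Hsum (Hk F K 2 1 m) (H3 (frob F 2 1))) :=
    isHerm_Hsum (isHerm_Hk (p := 2) (f := 1) hq hF' hK hmodd) (isHerm_H3 (p := 2) (f := 1) hq hF')
  set X : K × (F × F × F) →ₗ[F] K × (F × F × F) := (LinearMap.mulLeft F s).prodMap (u3 ω) with hXdef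
  have hX : ∀ u v, Hsum (Hk F K 2 1 m) (H3 (frob F 2 1)) (X u) (X v) =
      Hsum (Hk F K 2 1 m) (H3 (frob F 2 1)) u v :=
    Hsum_prodMap _ _ (Hk_mulLeft (p := 2) (f := 1) hq hF' hK hmodd s hs1) (H3_u3 ω hω)
  have hdim : Module.finrank F (K × (F × F × F)) = d := by
    rw [Module.finrank_prod, Module.finrank_prod, Module.finrank_prod, Module.finrank_self, hK]
    omega
  have hcop : Nat.Coprime (2 ^ m + 1) 4 := by
    have h4 : (4 : ℕ) = 2 ^ 2 := by norm_num
    rw [h4]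
    apply Nat.Coprime.pow_right
    rw [Nat.coprime_comm, Nat.Prime.coprime_iff_not_dvd Nat.prime_two]
    intro hdvd
    have h1 : 2 ∣ 2 ^ m := dvd_pow_self 2 (by omega)
    have := (Nat.dvd_add_right h1).1 hdvd
    omega
  have hiff : ∀ k : ℕ, X ^ k = 1 ↔ 4 * (2 ^ m + 1) ∣ k := by
    intro k
    rw [hXdef, prodMap_pow_eq_one_iff, mulLeft_pow_eq_one_iff, u3_pow_eq_one_iff ω, mul_comm 4,
      ← dvd_iff_of_coprime hcop, ← hs, orderOf_dvd_iff_pow_eq_one]
  obtain ⟨g, hg⟩ := exists_pgu_orderOf (p := 2) (f := 1) hq hF' hdim hH X hX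
    ((0 : K), ((1 : F), (0 : F), (0 : F)))
    (by
      intro h
      have := congrArg (fun z : K × (F × F × F) => z.2.1) h
      simp at this)
    (by
      rw [hXdef]
      show ((LinearMap.mulLeft F s) 0, u3 ω ((1 : F), (0 : F), (0 : F))) = _
      rw [map_zero, u3_apply]
      simp)
    (4 * (2 ^ m + 1)) (by positivity) ((hiff _).2 dvd_rfl) (fun k hk => (hiff k).1 hk)
  exact ⟨g, by rw [hg, hm]⟩

end cases

end Cfsg.Agent.S2263P
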