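import Mathlib
import Cfsg.Agent.Helper13.S2276Defs

/-! # S2276, piece ALTLIFT (helper8) -/

set_option autoImplicit false

namespace Cfsg.Agent.S2276P

open Equiv Equiv.Perm

namespace ALTLIFT

/-- closure inside a subgroup is isomorphic to the closure of the images in the ambient group -/
noncomputable def closureEquiv {G : Type*} [Group G] (K : Subgroup G) (S : Set ↥K) :
    Subgroup.closure S ≃* Subgroup.closure (K.subtype '' S) :=
  ((Subgroup.closure S).equivMapOfInjective K.subtype K.subtype_injective).trans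
    (MulEquiv.subgroupCongr (MonoidHom.map_closure K.subtype S))

end ALTLIFT

/-- ALTLIFT [M]: from `Perm (Fin n)` to `alternatingGroup (Fin n)` (orders: `Subgroup.orderOf_coe`;
closure: `Subgroup.map_closure`/`Helper8.S4150ALTCL`, injective `Subgroup.subtype`). -/
theorem ALTLIFT.main (n : ℕ) (p : ℕ) (u w g : alternatingGroup (Fin n))
    (h : Good p (u : Perm (Fin n)) ((g : Perm (Fin n)) * (w : Perm (Fin n)) * (g : Perm (Fin n))⁻¹)) :
    (¬ ∃ k : ℕ, orderOf (u * (g * w * g⁻¹)) = p ^ k) ∧
      ¬ Group.IsSolvable ↥(Subgroup.closure ({u, g * w * g⁻¹} : Set (alternatingGroup (Fin n)))) := by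
  obtain ⟨h1, h2⟩ := h
  constructor
  · rintro ⟨k, hk⟩
    apply h1
    refine ⟨k, ?_⟩
    rw [← hk, ← Subgroup.orderOf_coe]
    rfl
  · intro hs
    apply h2
    have e := ALTLIFT.closureEquiv (alternatingGroup (Fin n))
      ({u, g * w * g⁻¹} : Set (alternatingGroup (Fin n)))
    have himg : (alternatingGroup (Fin n)).subtype '' ({u, g * w * g⁻¹} :
        Set (alternatingGroup (Fin n))) =
        ({(u : Perm (Fin n)), (g : Perm (Fin n)) * (w : Perm (Fin n)) * (g : Perm (Fin n))⁻¹} :
          Set (Perm (Fin n))) := by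
      rw [Set.image_pair]
      rfl
    rw [himg] at e
    exact Group.isSolvable_of_isSolvable_injective (f := e.symm.toMonoidHom) e.symm.injective

end Cfsg.Agent.S2276P
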