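import Cfsg.Agent.Helper21.S2287DEFS
import Cfsg.Agent.Helper21.S2286FIN
import Cfsg.Agent.Helper25.S2287ROOTS

/-! S2287 piece COMM (driver helper21): the Chevalley commutator relations for all parameters from one
instance (torus orbits + additivity + sums of cubes). -/

set_option linter.unusedVariables false

namespace Cfsg.Agent.Helper21.S2287

open Multiplicative Cfsg.Agent.Helper21.S2286

variable {F : Type*} [Field F] {P : Type*} [Group P] (D : A2Data F P)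

namespace A2Data

namespace COMM

/-- conjugating a commutator identity -/
theorem conj_comm {P : Type*} [Group P] (T x y z : P) (h : x * y * x⁻¹ * y⁻¹ = z) :
    (T * x * T⁻¹) * (T * y * T⁻¹) * (T * x * T⁻¹)⁻¹ * (T * y * T⁻¹)⁻¹ = T * z * T⁻¹ := by
  rw [← h]; group

theorem exists_zpow {F : Type*} [Field F] {P : Type*} [Group P] (D : A2Data F P) {b : F}
    (hb : b ≠ 0) : ∃ β : ℤ, (D.ω : F) ^ β = b := by
  obtain ⟨β, hβ⟩ := Subgroup.mem_zpowers_iff.mp (D.hω (Units.mk0 b hb))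
  refine ⟨β, ?_⟩
  have := congrArg (fun u : Fˣ => (u : F)) hβ
  simpa using this

theorem ee0 (i j : ℤ) : ee i j 0 = i := rfl
theorem ee1 (i j : ℤ) : ee i j 1 = -i - j := rfl
theorem ee2 (i j : ℤ) : ee i j 2 = j := rfl

theorem comm_prod {P : Type*} [Group P] (x x' y : P) :
    (x * x') * y * (x * x')⁻¹ * y⁻¹ = x * (x' * y * x'⁻¹ * y⁻¹) * x⁻¹ * (x * y * x⁻¹ * y⁻¹) := by
  group

theorem comm_prod' {P : Type*} [Group P] (x y y' : P) :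
    x * (y * y') * x⁻¹ * (y * y')⁻¹ = (x * y * x⁻¹ * y⁻¹) * (y * (x * y' * x⁻¹ * y'⁻¹) * y⁻¹) := by
  group

end COMM

open COMM

/-! ## piece COMM -/
theorem comm1 (a0 : F) (ha0 : a0 ≠ 0)
    (c1 : D.xr 0 1 a0 * D.xr 1 2 1 * (D.xr 0 1 a0)⁻¹ * (D.xr 1 2 1)⁻¹ = D.xr 0 2 a0)
    (a b : F) (ha : a ≠ 0) (hb : b ≠ 0) (hab : ∃ y : F, y ≠ 0 ∧ a = a0 * b * y ^ 3) :
    D.xr 0 1 a * D.xr 1 2 b * (D.xr 0 1 a)⁻¹ * (D.xr 1 2 b)⁻¹ = D.xr 0 2 (a * b) := by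
  obtain ⟨y, hy0, hay⟩ := hab
  obtain ⟨β, hβ⟩ := exists_zpow D hb
  obtain ⟨υ, hυ⟩ := exists_zpow D hy0
  have hω0 : (D.ω : F) ≠ 0 := D.ω.ne_zero
  have key := conj_comm (D.tor (β + 2 * υ) (-β - υ)) _ _ _ c1
  rw [D.tor_xr, D.tor_xr, D.tor_xr, ee0, ee1, ee2] at key
  have e1 : (D.ω : F) ^ (β + 2 * υ - (-(β + 2 * υ) - (-β - υ))) * a0 = a := by
    have : β + 2 * υ - (-(β + 2 * υ) - (-β - υ)) = β + 3 * υ := by ring
    rw [this, zpow_add₀ hω0, hβ, mul_comm (3 : ℤ) υ, zpow_mul, hυ, hay]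
    norm_cast
    ring
  have e2 : (D.ω : F) ^ (-(β + 2 * υ) - (-β - υ) - (-β - υ)) * 1 = b := by
    have : -(β + 2 * υ) - (-β - υ) - (-β - υ) = β := by ring
    rw [this, hβ, mul_one]
  have e3 : (D.ω : F) ^ (β + 2 * υ - (-β - υ)) * a0 = a * b := by
    have : β + 2 * υ - (-β - υ) = β + (β + 3 * υ) := by ring
    rw [this, zpow_add₀ hω0, zpow_add₀ hω0, hβ, mul_comm (3 : ℤ) υ, zpow_mul, hυ, hay]
    norm_cast
    ring
  rw [e1, e2, e3] at key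
  exact key

theorem comm2 (hQ : ∀ a : F, a ∈ AddSubgroup.closure {z : F | ∃ y : F, y ≠ 0 ∧ z = y ^ 3})
    (c2 : Commute (D.xr 0 1 1) (D.xr 0 2 1)) (a b : F) : Commute (D.xr 0 1 a) (D.xr 0 2 b) := by
  by_cases ha : a = 0
  · rw [ha, D.xr_zero]
    exact Commute.one_left _
  have hω0 : (D.ω : F) ≠ 0 := D.ω.ne_zero
  obtain ⟨α, hα⟩ := exists_zpow D ha
  -- the additive subgroup of good parameters
  let S : AddSubgroup F :=
    { carrier := {z | Commute (D.xr 0 1 a) (D.xr 0 2 (a⁻¹ * z))}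
      zero_mem' := by
        show Commute (D.xr 0 1 a) (D.xr 0 2 (a⁻¹ * 0))
        rw [mul_zero, D.xr_zero]
        exact Commute.one_right _
      add_mem' := by
        intro z z' hz hz'
        show Commute (D.xr 0 1 a) (D.xr 0 2 (a⁻¹ * (z + z')))
        rw [mul_add, D.xr_add]
        exact Commute.mul_right hz hz'
      neg_mem' := by
        intro z hz
        show Commute (D.xr 0 1 a) (D.xr 0 2 (a⁻¹ * -z))
        rw [mul_neg, D.xr_neg]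
        exact Commute.inv_right hz }
  have hcubes : {z : F | ∃ y : F, y ≠ 0 ∧ z = y ^ 3} ⊆ S := by
    rintro z ⟨y, hy0, rfl⟩
    show Commute (D.xr 0 1 a) (D.xr 0 2 (a⁻¹ * y ^ 3))
    obtain ⟨υ, hυ⟩ := exists_zpow D hy0
    -- conjugate `c2` by `tor υ (α - 2 υ)`
    have key : Commute (D.tor υ (α - 2 * υ) * D.xr 0 1 1 * (D.tor υ (α - 2 * υ))⁻¹)
        (D.tor υ (α - 2 * υ) * D.xr 0 2 1 * (D.tor υ (α - 2 * υ))⁻¹) := by
      show _ * _ = _ * _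
      have := c2.eq
      calc D.tor υ (α - 2 * υ) * D.xr 0 1 1 * (D.tor υ (α - 2 * υ))⁻¹ *
            (D.tor υ (α - 2 * υ) * D.xr 0 2 1 * (D.tor υ (α - 2 * υ))⁻¹)
          = D.tor υ (α - 2 * υ) * (D.xr 0 1 1 * D.xr 0 2 1) * (D.tor υ (α - 2 * υ))⁻¹ := by group
        _ = D.tor υ (α - 2 * υ) * (D.xr 0 2 1 * D.xr 0 1 1) * (D.tor υ (α - 2 * υ))⁻¹ := by rw [this]
        _ = _ := by group
    rw [D.tor_xr, D.tor_xr, ee0, ee1, ee2] at key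
    have e1 : (D.ω : F) ^ (υ - (-υ - (α - 2 * υ))) * 1 = a := by
      have : υ - (-υ - (α - 2 * υ)) = α := by ring
      rw [this, hα, mul_one]
    have e2 : (D.ω : F) ^ (υ - (α - 2 * υ)) * 1 = a⁻¹ * y ^ 3 := by
      have : υ - (α - 2 * υ) = -α + υ * 3 := by ring
      rw [this, zpow_add₀ hω0, zpow_neg, hα, zpow_mul, hυ, mul_one]
      norm_cast
    rw [e1, e2] at key
    exact key
  have hmem : a * b ∈ S := (AddSubgroup.closure_le S).mpr hcubes (hQ (a * b))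
  have : Commute (D.xr 0 1 a) (D.xr 0 2 (a⁻¹ * (a * b))) := hmem
  rwa [← mul_assoc, inv_mul_cancel₀ ha, one_mul] at this

theorem comm3 (hQ : ∀ a : F, a ∈ AddSubgroup.closure {z : F | ∃ y : F, y ≠ 0 ∧ z = y ^ 3})
    (h1 : ∀ a b : F, a ≠ 0 → b ≠ 0 → (∃ y : F, y ≠ 0 ∧ a = b * y ^ 3) →
      D.xr 0 1 a * D.xr 1 2 b * (D.xr 0 1 a)⁻¹ * (D.xr 1 2 b)⁻¹ = D.xr 0 2 (a * b))
    (h2 : ∀ a b : F, Commute (D.xr 0 1 a) (D.xr 0 2 b)) (a b : F) :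
    D.xr 0 1 a * D.xr 1 2 b * (D.xr 0 1 a)⁻¹ * (D.xr 1 2 b)⁻¹ = D.xr 0 2 (a * b) := by
  by_cases hb : b = 0
  · rw [hb, D.xr_zero, mul_zero, D.xr_zero]
    group
  let S : AddSubgroup F :=
    { carrier := {z | D.xr 0 1 (b * z) * D.xr 1 2 b * (D.xr 0 1 (b * z))⁻¹ * (D.xr 1 2 b)⁻¹ =
        D.xr 0 2 (b * z * b)}
      zero_mem' := by
        show D.xr 0 1 (b * 0) * D.xr 1 2 b * (D.xr 0 1 (b * 0))⁻¹ * (D.xr 1 2 b)⁻¹ =
          D.xr 0 2 (b * 0 * b)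
        rw [mul_zero, zero_mul, D.xr_zero, D.xr_zero]
        group
      add_mem' := by
        intro z z' hz hz'
        show D.xr 0 1 (b * (z + z')) * D.xr 1 2 b * (D.xr 0 1 (b * (z + z')))⁻¹ * (D.xr 1 2 b)⁻¹ =
          D.xr 0 2 (b * (z + z') * b)
        have hz1 : D.xr 0 1 (b * z) * D.xr 1 2 b * (D.xr 0 1 (b * z))⁻¹ * (D.xr 1 2 b)⁻¹ =
          D.xr 0 2 (b * z * b) := hz
        have hz2 : D.xr 0 1 (b * z') * D.xr 1 2 b * (D.xr 0 1 (b * z'))⁻¹ * (D.xr 1 2 b)⁻¹ =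
          D.xr 0 2 (b * z' * b) := hz'
        rw [mul_add, D.xr_add, comm_prod, hz1, hz2, add_mul, D.xr_add]
        have hc := (h2 (b * z) (b * z' * b)).eq
        rw [hc, mul_assoc (D.xr 0 2 (b * z' * b)), mul_inv_cancel, mul_one]
        rw [← D.xr_add, ← D.xr_add, add_comm]
      neg_mem' := by
        intro z hz
        show D.xr 0 1 (b * -z) * D.xr 1 2 b * (D.xr 0 1 (b * -z))⁻¹ * (D.xr 1 2 b)⁻¹ =
          D.xr 0 2 (b * -z * b)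
        have hz1 : D.xr 0 1 (b * z) * D.xr 1 2 b * (D.xr 0 1 (b * z))⁻¹ * (D.xr 1 2 b)⁻¹ =
          D.xr 0 2 (b * z * b) := hz
        rw [mul_neg, neg_mul, D.xr_neg, D.xr_neg, ← hz1]
        have hc := (h2 (b * z) (b * z * b)).eq
        rw [← hz1] at hc
        -- `x⁻¹ y x y⁻¹ = x⁻¹ [x,y]⁻¹ x` and `[x,y]` commutes with `x`
        have e : (D.xr 0 1 (b * z))⁻¹ * D.xr 1 2 b * (D.xr 0 1 (b * z))⁻¹⁻¹ * (D.xr 1 2 b)⁻¹ =
            (D.xr 0 1 (b * z))⁻¹ *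
              (D.xr 0 1 (b * z) * D.xr 1 2 b * (D.xr 0 1 (b * z))⁻¹ * (D.xr 1 2 b)⁻¹)⁻¹ *
              D.xr 0 1 (b * z) := by group
        rw [e]
        have hc' : (D.xr 0 1 (b * z))⁻¹ *
            (D.xr 0 1 (b * z) * D.xr 1 2 b * (D.xr 0 1 (b * z))⁻¹ * (D.xr 1 2 b)⁻¹)⁻¹ =
            (D.xr 0 1 (b * z) * D.xr 1 2 b * (D.xr 0 1 (b * z))⁻¹ * (D.xr 1 2 b)⁻¹)⁻¹ *
              (D.xr 0 1 (b * z))⁻¹ := by
          rw [← mul_inv_rev, ← mul_inv_rev, hc]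
        rw [hc', mul_assoc, inv_mul_cancel, mul_one] }
  have hcubes : {z : F | ∃ y : F, y ≠ 0 ∧ z = y ^ 3} ⊆ S := by
    rintro z ⟨y, hy0, rfl⟩
    exact h1 (b * y ^ 3) b (mul_ne_zero hb (pow_ne_zero _ hy0)) hb ⟨y, hy0, rfl⟩
  have hmem : b⁻¹ * a ∈ S := (AddSubgroup.closure_le S).mpr hcubes (hQ (b⁻¹ * a))
  have : D.xr 0 1 (b * (b⁻¹ * a)) * D.xr 1 2 b * (D.xr 0 1 (b * (b⁻¹ * a)))⁻¹ * (D.xr 1 2 b)⁻¹ =
      D.xr 0 2 (b * (b⁻¹ * a) * b) := hmem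
  rwa [← mul_assoc, mul_inv_cancel₀ hb, one_mul] at this

theorem comm4
    (h : ∀ a b : F, D.xr 0 1 a * D.xr 1 2 b * (D.xr 0 1 a)⁻¹ * (D.xr 1 2 b)⁻¹ = D.xr 0 2 (a * b)) :
    D.Comm := by
  refine ⟨h, ?_, ?_⟩
  · intro a b
    -- `[x(a) x(1), y(b)]`
    have e := comm_prod (D.xr 0 1 a) (D.xr 0 1 1) (D.xr 1 2 b)
    rw [← D.xr_add, h, h, h, add_mul, one_mul, D.xr_add] at e
    -- `x02(ab) x02(b) = x01(a) x02(b) x01(a)⁻¹ x02(ab)`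
    have e' : D.xr 0 2 b = D.xr 0 1 a * D.xr 0 2 b * (D.xr 0 1 a)⁻¹ := by
      have hcomm : D.xr 0 2 (a * b) * D.xr 0 2 b = D.xr 0 2 b * D.xr 0 2 (a * b) := by
        rw [← D.xr_add, ← D.xr_add, add_comm]
      rw [hcomm] at e
      exact mul_right_cancel e
    show D.xr 0 1 a * D.xr 0 2 b = D.xr 0 2 b * D.xr 0 1 a
    calc D.xr 0 1 a * D.xr 0 2 b = (D.xr 0 1 a * D.xr 0 2 b * (D.xr 0 1 a)⁻¹) * D.xr 0 1 a := by group
      _ = D.xr 0 2 b * D.xr 0 1 a := by rw [← e']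
  · intro a b
    have e := comm_prod' (D.xr 0 1 1) (D.xr 1 2 a) (D.xr 1 2 b)
    rw [← D.xr_add, h, h, h, one_mul, one_mul, one_mul, D.xr_add] at e
    have e' : D.xr 0 2 b = D.xr 1 2 a * D.xr 0 2 b * (D.xr 1 2 a)⁻¹ := mul_left_cancel e
    show D.xr 1 2 a * D.xr 0 2 b = D.xr 0 2 b * D.xr 1 2 a
    calc D.xr 1 2 a * D.xr 0 2 b = (D.xr 1 2 a * D.xr 0 2 b * (D.xr 1 2 a)⁻¹) * D.xr 1 2 a := by group
      _ = D.xr 0 2 b * D.xr 1 2 a := by rw [← e']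

end A2Data

end Cfsg.Agent.Helper21.S2287
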