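import Mathlib
import Cfsg.Agent.Helper14.S2481.Defs
import Cfsg.Agent.Helper28.GU

set_option autoImplicit false
set_option linter.unusedVariables false

/-! S2481 piece SUISO (driver helper14; helper8): `Cfsg.SU n F q` is the kernel of `detU`. -/

namespace Cfsg.Agent.S2481P

open Polynomial DirectSum Matrix Cfsg.Agent.S2478P Cfsg.Agent.S2479P

universe u

section bridge

variable {F : Type u} [Field F]

namespace SUISO

theorem isU_iff (σ : F →+* F) {n : ℕ} (M : Matrix (Fin n) (Fin n) F) :
    IsU σ M ↔ Mᵀ * M.map σ = 1 := by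
  unfold IsU ct
  constructor
  · intro h
    have := congrArg Matrix.transpose h
    rwa [Matrix.transpose_mul, Matrix.transpose_transpose, Matrix.transpose_one] at this
  · intro h
    have := congrArg Matrix.transpose h
    rwa [Matrix.transpose_mul, Matrix.transpose_one] at this

theorem isU_iff_pres {σ : F →+* F} {n q : ℕ} (hσq : ∀ x, σ x = x ^ q)
    (M : Matrix (Fin n) (Fin n) F) :
    IsU σ M ↔ ∀ u v, Cfsg.hermForm n F q (M *ᵥ u) (M *ᵥ v) = Cfsg.hermForm n F q u v := by
  rw [isU_iff, Cfsg.Agent.Helper28.GUlib.preserves_iff σ hσq]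

/-- the comparison map -/
def toKer {σ : F →+* F} (n q : ℕ) (hσq : ∀ x, σ x = x ^ q) : Cfsg.SU n F q →* (detU σ n).ker where
  toFun A := ⟨⟨Matrix.SpecialLinearGroup.toGL (A : Matrix.SpecialLinearGroup (Fin n) F), by
      rw [mem_GU, isU_iff_pres hσq]
      exact A.2⟩, by
      rw [MonoidHom.mem_ker]
      apply Subtype.ext
      apply Units.ext
      rw [detU_coe]
      exact (A : Matrix.SpecialLinearGroup (Fin n) F).2⟩
  map_one' := by
    apply Subtype.ext
    apply Subtype.ext
    simp
  map_mul' a b := by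
    apply Subtype.ext
    apply Subtype.ext
    simp

theorem toKer_coe {σ : F →+* F} (n q : ℕ) (hσq : ∀ x, σ x = x ^ q) (A : Cfsg.SU n F q) :
    (((toKer n q hσq A : (detU σ n).ker) : GU σ n) : Matrix.GeneralLinearGroup (Fin n) F) =
      Matrix.SpecialLinearGroup.toGL (A : Matrix.SpecialLinearGroup (Fin n) F) := rfl

end SUISO

open SUISO in
theorem su_iso {σ : F →+* F} (n q : ℕ) (hσq : ∀ x, σ x = x ^ q) :
    Nonempty (Cfsg.SU n F q ≃* (detU σ n).ker) := by
  refine ⟨MulEquiv.ofBijective (toKer n q hσq) ⟨?_, ?_⟩⟩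
  · intro A B h
    have h1 := toKer_coe n q hσq A
    rw [h, toKer_coe] at h1
    apply Subtype.ext
    exact (Matrix.SpecialLinearGroup.toGL_injective h1).symm
  · intro g
    have hU : IsU σ (((g : GU σ n) : Matrix.GeneralLinearGroup (Fin n) F) :
        Matrix (Fin n) (Fin n) F) := (g : GU σ n).2
    have hdet : (((g : GU σ n) : Matrix.GeneralLinearGroup (Fin n) F) :
        Matrix (Fin n) (Fin n) F).det = 1 := by
      have h1 := g.2
      rw [MonoidHom.mem_ker] at h1
      rw [← detU_coe, h1]
      rfl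
    refine ⟨⟨⟨_, hdet⟩, ?_⟩, ?_⟩
    · exact (isU_iff_pres hσq _).1 hU
    · apply Subtype.ext
      apply Subtype.ext
      apply Units.ext
      rfl

end bridge

end Cfsg.Agent.S2481P
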