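import Cfsg.Agent.Helper28.S2511Defs

/-! S2511 piece CHARGU (driver helper28): the characteristic polynomial of a unitary matrix is `dag`-self-dual. -/


set_option autoImplicit false

namespace Cfsg.Agent.S2511P

open Polynomial
open Cfsg.Agent.S2263P Cfsg.Agent.S2264P Cfsg.Agent.S2496P

section poly

open scoped Classical

variable {F : Type*} [Field F]

/-- CHARGU (M; `Matrix.charpoly_map`, `Matrix.charpoly_transpose`, `Matrix.charpoly_inv`,
`Matrix.reverse_charpoly`, `Matrix.det_eq_sign_charpoly_coeff`): `A.map σ = (Aᵀ)⁻¹`. -/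
theorem charpoly_UGood {n : ℕ} (σ : F ≃+* F) (A : Matrix (Fin n) (Fin n) F)
    (hA : A.transpose * A.map σ = 1) : UGood σ A.charpoly := by
  set B : Matrix (Fin n) (Fin n) F := A.map σ with hB
  have hBunit : IsUnit B := by
    have : IsUnit B.det := by
      have h := congrArg Matrix.det hA
      rw [Matrix.det_mul, Matrix.det_one] at h
      exact IsUnit.of_mul_eq_one _ (by rw [mul_comm]; exact h)
    exact (Matrix.isUnit_iff_isUnit_det B).mpr this
  have hinv : B⁻¹ = A.transpose := Matrix.inv_eq_left_inv hA
  have hdetB : B.det ≠ 0 := by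
    have h := congrArg Matrix.det hA
    rw [Matrix.det_mul, Matrix.det_one] at h
    exact right_ne_zero_of_mul_eq_one h
  have hmap : A.charpoly.map (σ : F →+* F) = B.charpoly := by
    rw [hB, ← Matrix.charpoly_map]
    rfl
  have hc0 : B.charpoly.coeff 0 = (-1) ^ n * B.det := by
    have h := Matrix.det_eq_sign_charpoly_coeff B
    rw [Fintype.card_fin] at h
    rw [h, ← mul_assoc, ← mul_pow]
    simp
  have hχ : A.charpoly = (-1) ^ n * C (B.det)⁻¹ * B.charpolyRev := by
    rw [← Matrix.charpoly_transpose, ← hinv, Matrix.charpoly_inv B hBunit, Fintype.card_fin,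
      Ring.inverse_eq_inv']
  refine ⟨Matrix.charpoly_monic A, ?_, ?_⟩
  · have h := Matrix.det_eq_sign_charpoly_coeff A
    have hdetA : A.det ≠ 0 := by
      have h := congrArg Matrix.det hA
      rw [Matrix.det_mul, Matrix.det_one, Matrix.det_transpose] at h
      exact left_ne_zero_of_mul_eq_one h
    intro h0
    rw [h0, mul_zero] at h
    exact hdetA h
  · unfold dag recip
    rw [hmap, hc0, Matrix.reverse_charpoly, hχ]
    congr 1
    rw [mul_inv, map_mul]
    congr 1
    rw [← inv_pow, map_pow]
    congr 1
    rw [inv_neg, inv_one, map_neg, map_one]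

end poly

end Cfsg.Agent.S2511P
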