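import Cfsg.Agent.Helper28.S2511Defs
import Cfsg.Agent.Helper6.S2263MULTSYM
import Cfsg.Agent.Helper7.S2264FACS

/-! S2511 piece GOODSPLIT (driver helper28): a `dag`-self-dual polynomial with at least two `dag`-orbits of
irreducible factors splits into two coprime `dag`-self-dual non-units. -/

set_option autoImplicit false

namespace Cfsg.Agent.S2511P

open Polynomial
open Cfsg.Agent.S2263P Cfsg.Agent.S2264P Cfsg.Agent.S2496P

section poly

open scoped Classical

variable {F : Type*} [Field F]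

/-- GOODSPLIT (M; `Helper6.S2263MULTSYM`: `mult_dag`, `MULTSYM.dag_mul`, `MULTSYM.dag_pow`; `Helper7.S2264FACS`:
`prod_facs`, `facs_coprime`): `φ, ψ ∈ facs μ` with `ψ ≠ φ`, `ψ ≠ dag σ φ`; `O = {φ, dag σ φ}`,
`G = ∏ x ∈ O, x ^ mult μ x`, `H = ∏ x ∈ facs μ \ O, x ^ mult μ x`. -/
theorem exists_split (σ : F ≃+* F) (hσ2 : ∀ x, σ (σ x) = x) {μ : F[X]} (hμ : UGood σ μ)
    (hns : ¬ Single σ μ) :
    ∃ G H : F[X], ¬ IsUnit G ∧ ¬ IsUnit H ∧ IsCoprime G H ∧ μ = G * H ∧ dag σ G = G ∧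
      dag σ H = H := by
  unfold Single at hns
  push Not at hns
  obtain ⟨φ, hφ, ψ, hψ, hψ1, hψ2⟩ := hns
  have hμ0 : μ ≠ 0 := hμ.monic.ne_zero
  obtain ⟨hdφ, hmult, hdd, -⟩ := mult_dag σ hσ2 hμ hφ
  set O : Finset F[X] := {φ, dag σ φ} with hO
  have hOsub : O ⊆ facs μ := by
    intro x hx
    rw [hO, Finset.mem_insert, Finset.mem_singleton] at hx
    rcases hx with rfl | rfl
    · exact hφ
    · exact hdφ
  set G : F[X] := ∏ x ∈ O, x ^ mult μ x with hG
  set H : F[X] := ∏ x ∈ facs μ \ O, x ^ mult μ x with hH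
  have hprod : μ = G * H := by
    rw [hG, hH, mul_comm, Finset.prod_sdiff hOsub, prod_facs hμ.monic]
  have hφO : φ ∈ O := by rw [hO]; exact Finset.mem_insert_self _ _
  have hψO : ψ ∈ facs μ \ O := by
    rw [Finset.mem_sdiff, hO, Finset.mem_insert, Finset.mem_singleton]
    exact ⟨hψ, fun h => h.elim hψ1 hψ2⟩
  have hφG : φ ∣ G := by
    rw [hG]
    exact (dvd_pow_self φ (by have := mult_pos hφ; omega)).trans (Finset.dvd_prod_of_mem _ hφO)
  have hψH : ψ ∣ H := by
    rw [hH]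
    exact (dvd_pow_self ψ (by have := mult_pos hψ; omega)).trans (Finset.dvd_prod_of_mem _ hψO)
  have hφirr : Irreducible φ := ((mem_facs hμ0).1 hφ).1
  have hψirr : Irreducible ψ := ((mem_facs hμ0).1 hψ).1
  have hGne : G ≠ 0 := by
    intro h
    rw [h, zero_mul] at hprod
    exact hμ0 hprod
  have hdG : dag σ G = G := by
    by_cases hself : dag σ φ = φ
    · have : O = {φ} := by rw [hO, hself]; exact Finset.pair_eq_singleton φ
      rw [hG, this, Finset.prod_singleton, MULTSYM.dag_pow, hself]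
    · have hne : φ ≠ dag σ φ := fun h => hself h.symm
      rw [hG, hO, Finset.prod_pair hne, MULTSYM.dag_mul, MULTSYM.dag_pow, MULTSYM.dag_pow, hdd, hmult,
        mul_comm]
  refine ⟨G, H, ?_, ?_, ?_, hprod, hdG, ?_⟩
  · intro hu
    exact hφirr.not_isUnit (isUnit_of_dvd_unit hφG hu)
  · intro hu
    exact hψirr.not_isUnit (isUnit_of_dvd_unit hψH hu)
  · rw [hG, hH]
    refine IsCoprime.prod_left fun x hx => IsCoprime.prod_right fun y hy => ?_
    refine IsCoprime.pow ?_
    rw [Finset.mem_sdiff] at hy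
    refine facs_coprime (hOsub hx) hy.1 ?_
    rintro rfl
    exact hy.2 hx
  · have h := hμ.selfrec
    rw [hprod, MULTSYM.dag_mul, hdG] at h
    exact mul_left_cancel₀ hGne h

end poly

end Cfsg.Agent.S2511P
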