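import Mathlib
import Cfsg.Agent.Helper21.S2549Defs
import Cfsg.Agent.Helper19.S2549ENTRY

set_option autoImplicit false
open scoped Matrix

namespace Cfsg.Agent.S2549P

open Cfsg.Agent.MatBN

variable {F : Type*} [Field F] {a b : F} {K : Type*} [Field K]

namespace UTOFUNI

theorem pos_ee_val (m : ℕ) (i : Fin m) : (pos m (.inl (.inl i))).val = i.val := rfl
theorem pos_ff_val (m : ℕ) (i : Fin m) : (pos m (.inl (.inr i))).val = 2 * m + 1 - i.val := rfl
theorem pos_zz_val (m : ℕ) (k : Fin 2) : (pos m (.inr k)).val = m + k.val := rfl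

/-- two linear relations with `θ`, `σ θ` force both coefficients to vanish -/
theorem both_zero (E : QExt F a b K) (x y : F)
    (h0 : E.inc x + E.θ * E.inc y = 0) (h1 : E.inc x + E.σ E.θ * E.inc y = 0) : x = 0 ∧ y = 0 := by
  have hd := E.hne
  have hy : (E.θ - E.σ E.θ) * E.inc y = 0 := by linear_combination h0 - h1
  have hy0 : E.inc y = 0 := (mul_eq_zero.1 hy).resolve_left hd
  have hx0 : E.inc x = 0 := by rw [hy0, mul_zero, add_zero] at h0; exact h0
  exact ⟨E.inc.injective (by rw [hx0, map_zero]), E.inc.injective (by rw [hy0, map_zero])⟩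

/-- the same for the column relations -/
theorem both_zero' (E : QExt F a b K) (x y : F)
    (h0 : (E.θ - E.σ E.θ)⁻¹ * (-(E.σ E.θ) * E.inc x + 1 * E.inc y) = 0)
    (h1 : (E.θ - E.σ E.θ)⁻¹ * (E.θ * E.inc x + (-1) * E.inc y) = 0) : x = 0 ∧ y = 0 := by
  have hd := E.hne
  have hd' : (E.θ - E.σ E.θ)⁻¹ ≠ 0 := inv_ne_zero hd
  have h0' := (mul_eq_zero.1 h0).resolve_left hd'
  have h1' := (mul_eq_zero.1 h1).resolve_left hd'
  have hx : (E.θ - E.σ E.θ) * E.inc x = 0 := by linear_combination h0' + h1'
  have hx0 : E.inc x = 0 := (mul_eq_zero.1 hx).resolve_left hd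
  have hy0 : E.inc y = 0 := by rw [hx0] at h0'; simpa using h0'
  exact ⟨E.inc.injective (by rw [hx0, map_zero]), E.inc.injective (by rw [hy0, map_zero])⟩

/-- a unitriangular middle block conjugate to a rational matrix is the identity -/
theorem mid_entry_zero (E : QExt F a b K) {Mg : Fin 2 → Fin 2 → F} (B : Fin 2 → Fin 2 → K)
    (hB : (Matrix.of B) = P2inv E * (Matrix.of fun i j : Fin 2 => E.inc (Mg i j)) * P2 E)
    (h00 : B 0 0 = 1) (h11 : B 1 1 = 1) (h10 : B 1 0 = 0) : B 0 1 = 0 := by
  have hd := E.hne
  -- `G = P2 * B * P2inv`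
  have hG : (Matrix.of fun i j : Fin 2 => E.inc (Mg i j)) = P2 E * Matrix.of B * P2inv E := by
    rw [hB]
    calc (Matrix.of fun i j : Fin 2 => E.inc (Mg i j))
        = (P2 E * P2inv E) * (Matrix.of fun i j : Fin 2 => E.inc (Mg i j)) * (P2 E * P2inv E) := by
          rw [P2_mul_P2inv, Matrix.one_mul, Matrix.mul_one]
      _ = _ := by simp only [Matrix.mul_assoc]
  have e10 := congrFun (congrFun hG 1) 0
  have e11 := congrFun (congrFun hG 1) 1
  simp only [Matrix.of_apply, Matrix.mul_apply, Fin.sum_univ_two, P2, P2inv, Matrix.smul_apply,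
    Matrix.of_apply, Matrix.cons_val', Matrix.cons_val_zero, Matrix.cons_val_one,
    Matrix.cons_val_fin_one, smul_eq_mul, h00, h11, h10] at e10 e11
  by_contra hx
  have h10' : E.inc (Mg 1 0) = (E.θ - E.σ E.θ)⁻¹ * B 0 1 := by
    rw [e10]; ring
  have h11' : E.inc (Mg 1 1) = 1 + E.inc (Mg 1 0) * E.σ E.θ := by
    rw [h10', e11]; field_simp; ring
  have hg10 : Mg 1 0 ≠ 0 := by
    intro h0
    rw [h0, map_zero] at h10'
    rcases mul_eq_zero.1 h10'.symm with h | h
    · exact inv_ne_zero hd h
    · exact hx h
  have hst : E.σ E.θ = E.inc ((Mg 1 1 - 1) / Mg 1 0) := by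
    rw [map_div₀, map_sub, map_one, h11']
    have : E.inc (Mg 1 0) ≠ 0 := fun h => hg10 (E.inc.injective (by rw [h, map_zero]))
    field_simp
    ring
  have h1 : E.σ (E.σ E.θ) = E.σ E.θ := by
    rw [hst, E.hσinc]
  rw [E.hσσ] at h1
  exact hd (by rw [← h1]; ring)

end UTOFUNI

section Fside

variable [Fintype F]

open UTOFUNI in
/-- UTOFUNI -/
theorem UT_of_isUni (E : QExt F a b K) (m : ℕ) (g : OG m F a b) (hg : IsUni (rho E m g)) :
    UT m ((g : Matrix.GeneralLinearGroup (Idx m) F) : Matrix (Idx m) (Idx m) F) := by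
  obtain ⟨hT, hD⟩ := hg
  set Mg : Matrix (Idx m) (Idx m) F := ((g : Matrix.GeneralLinearGroup (Idx m) F) : Matrix (Idx m) (Idx m) F)
    with hMg
  have hinj := E.inc.injective
  have hd := E.hne
  -- the middle block of `rho g` is the identity
  have hmm : ∀ k l : Fin 2, rho E m g (pos m (.inr k)) (pos m (.inr l)) = if k = l then 1 else 0 := by
    intro k l
    by_cases hkl : k = l
    · subst hkl; rw [if_pos rfl]; exact hD _
    · rw [if_neg hkl]
      rcases Nat.lt_or_ge l.val k.val with h | h
      · apply hT
        show (pos m (.inr l)).val < (pos m (.inr k)).val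
        rw [pos_zz_val, pos_zz_val]; omega
      · have hlk : k.val < l.val := by
          rcases Nat.lt_or_ge k.val l.val with h' | h'
          · exact h'
          · exact absurd (Fin.ext (le_antisymm h h')) hkl
        -- the entry lies in the image of a rational matrix: compute `g` from the block
        have hk0 : k = 0 := by apply Fin.ext; have := l.2; simp; omega
        have hl1 : l = 1 := by apply Fin.ext; have := l.2; simp; omega
        subst hk0 hl1
        exact mid_entry_zero E (Mg := fun i j => Mg (.inr i) (.inr j))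
          (fun k l => rho E m g (pos m (.inr k)) (pos m (.inr l)))
          (by ext k l; exact (rho_apply_mm E m g k l))
          (hD _) (hD _)
          (by
            apply hT
            show (pos m (.inr 0)).val < (pos m (.inr 1)).val
            rw [pos_zz_val, pos_zz_val]; simp)
  -- hence the middle block of `g` is the identity
  have hmid : ∀ i j : Fin 2, Mg (.inr i) (.inr j) = if i = j then 1 else 0 := by
    have hblock : P2inv E * (Matrix.of fun i j : Fin 2 => E.inc (Mg (.inr i) (.inr j))) * P2 E = 1 := by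
      ext k l
      rw [← rho_apply_mm E m g k l, hmm k l, Matrix.one_apply]
    have h2 : (Matrix.of fun i j : Fin 2 => E.inc (Mg (.inr i) (.inr j))) = 1 := by
      calc (Matrix.of fun i j : Fin 2 => E.inc (Mg (.inr i) (.inr j)))
          = (P2 E * P2inv E) * (Matrix.of fun i j : Fin 2 => E.inc (Mg (.inr i) (.inr j))) *
              (P2 E * P2inv E) := by rw [P2_mul_P2inv, Matrix.one_mul, Matrix.mul_one]
        _ = P2 E * (P2inv E * (Matrix.of fun i j : Fin 2 => E.inc (Mg (.inr i) (.inr j))) * P2 E) *
              P2inv E := by simp only [Matrix.mul_assoc]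
        _ = 1 := by rw [hblock, Matrix.mul_one, P2_mul_P2inv]
    intro i j
    have := congrFun (congrFun h2 i) j
    simp only [Matrix.of_apply, Matrix.one_apply] at this
    apply hinj
    rw [this]
    split_ifs <;> simp
  refine ⟨fun i => ⟨?_, ?_⟩, fun z => ⟨?_, ?_⟩⟩
  · -- diagonal entry at e_i
    have h := hD (pos m (.inl (.inl i)))
    rw [rho_apply_oo E m g _ _ (by rw [pos_ee_val]; have := i.2; omega)
      (by rw [pos_ee_val]; have := i.2; omega), idx_pos] at h
    apply hinj; rw [h, map_one]
  · intro k hk hne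
    have hci : ¬ (m ≤ (pos m (.inl (.inl i))).val ∧ (pos m (.inl (.inl i))).val ≤ m + 1) := by
      rw [pos_ee_val]; have := i.2; omega
    rcases k with (i' | i') | z
    · refine ⟨i', rfl, ?_⟩
      by_contra hlt
      have hlt' : i < i' := by
        rcases lt_trichotomy i i' with h | h | h
        · exact h
        · exact absurd (by rw [h]) hk
        · exact absurd h hlt
      have h := hT (pos m (.inl (.inl i'))) (pos m (.inl (.inl i))) (by
        show (pos m (.inl (.inl i))).val < (pos m (.inl (.inl i'))).val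
        rw [pos_ee_val, pos_ee_val]; exact hlt')
      rw [rho_apply_oo E m g _ _ (by rw [pos_ee_val]; have := i'.2; omega) hci, idx_pos, idx_pos] at h
      exact hne (hinj (by rw [h, map_zero]))
    · exfalso
      have h := hT (pos m (.inl (.inr i'))) (pos m (.inl (.inl i))) (by
        show (pos m (.inl (.inl i))).val < (pos m (.inl (.inr i'))).val
        rw [pos_ee_val, pos_ff_val]; have := i.2; have := i'.2; omega)
      rw [rho_apply_oo E m g _ _ (by rw [pos_ff_val]; have := i'.2; omega) hci, idx_pos, idx_pos] at h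
      exact hne (hinj (by rw [h, map_zero]))
    · exfalso
      have h0 := hT (pos m (.inr 0)) (pos m (.inl (.inl i))) (by
        show (pos m (.inl (.inl i))).val < (pos m (.inr 0)).val
        rw [pos_ee_val, pos_zz_val]; have := i.2; omega)
      have h1 := hT (pos m (.inr 1)) (pos m (.inl (.inl i))) (by
        show (pos m (.inl (.inl i))).val < (pos m (.inr 1)).val
        rw [pos_ee_val, pos_zz_val]; have := i.2; omega)
      rw [rho_apply_mo E m g _ _ hci, idx_pos] at h0 h1
      rw [if_pos rfl] at h0
      rw [if_neg (by decide)] at h1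
      obtain ⟨hx, hy⟩ := both_zero E _ _ h0 h1
      have hz : z = 0 ∨ z = 1 := by
        rcases z with ⟨zv, hzv⟩
        rcases Nat.lt_or_ge zv 1 with h | h
        · left; apply Fin.ext; simp; omega
        · right; apply Fin.ext; simp; omega
      rcases hz with rfl | rfl
      · exact hne hx
      · exact hne hy
  · have := hmid z z
    rw [if_pos rfl] at this; exact this
  · intro k hk hne
    rcases k with (i' | i') | z'
    · exact ⟨i', rfl⟩
    · exfalso
      have hri : ¬ (m ≤ (pos m (.inl (.inr i'))).val ∧ (pos m (.inl (.inr i'))).val ≤ m + 1) := by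
        rw [pos_ff_val]; have := i'.2; omega
      have h0 := hT (pos m (.inl (.inr i'))) (pos m (.inr 0)) (by
        show (pos m (.inr 0)).val < (pos m (.inl (.inr i'))).val
        rw [pos_ff_val, pos_zz_val]; have := i'.2; simp; omega)
      have h1 := hT (pos m (.inl (.inr i'))) (pos m (.inr 1)) (by
        show (pos m (.inr 1)).val < (pos m (.inl (.inr i'))).val
        rw [pos_ff_val, pos_zz_val]; have := i'.2; simp; omega)
      rw [rho_apply_om E m g _ _ hri, idx_pos] at h0 h1
      rw [if_pos rfl, if_pos rfl] at h0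
      rw [if_neg (by decide), if_neg (by decide)] at h1
      obtain ⟨hx, hy⟩ := both_zero' E _ _ h0 h1
      have hz : z = 0 ∨ z = 1 := by
        rcases z with ⟨zv, hzv⟩
        rcases Nat.lt_or_ge zv 1 with h | h
        · left; apply Fin.ext; simp; omega
        · right; apply Fin.ext; simp; omega
      rcases hz with rfl | rfl
      · exact hne hx
      · exact hne hy
    · exfalso
      have hzz : z' ≠ z := fun h => hk (by rw [h])
      have := hmid z' z
      rw [if_neg hzz] at this
      exact hne this

end Fside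

end Cfsg.Agent.S2549P
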