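import Mathlib
import Cfsg.Prelude.Def_Solvable
import Cfsg.Agent.Lead.S2553Defs
import Cfsg.Agent.Lead.S2553IDX
import Cfsg.Agent.Helper14.S2553A7REC

set_option autoImplicit false

/-! S2553 piece CASE2520 (helper8). -/

namespace Cfsg.Agent.S2553P

/-- CASE2520 -/
theorem case_2520 (K : Subgroup Γ8) (hKA : K ≤ A8) (N : Subgroup ↥K) (hN : N.Normal)
    (hs : IsSimpleGroup ↥N) (hcard : Nat.card ↥N = 2520) :
    Nonempty (↥K ≃* ↥(alternatingGroup (Fin 7))) := by
  have hNK : Nat.card ↥N ≤ Nat.card ↥K := Subgroup.card_le_card_group N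
  by_cases hK : K = A8
  · exfalso
    subst hK
    have hsimple : IsSimpleGroup ↥A8 := alternatingGroup.isSimpleGroup (by simp)
    rcases hN.eq_bot_or_eq_top with h | h
    · rw [h, Subgroup.card_bot] at hcard
      omega
    · rw [h, Subgroup.card_top, card_A8] at hcard
      omega
  · have h8 := card_le_of_ne K hKA hK
    have hKc : Nat.card ↥K = 2520 := by omega
    exact iso_A7_of_card K hKA hKc

end Cfsg.Agent.S2553P
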