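import Mathlib
import Cfsg.Prelude.Def_Solvable
import Cfsg.Agent.Lead.S2553Defs
import Cfsg.Agent.S0497
import Cfsg.Agent.Helper10.S2553FIX360
import Cfsg.Agent.Helper24.S2553PAIRSTAB

set_option autoImplicit false

/-! S2553 piece CASE360 (helper8). -/

namespace Cfsg.Agent.S2553P

/-- CASE360 -/
theorem case_360 (K : Subgroup Γ8) (hKA : K ≤ A8) (N : Subgroup ↥K) (hN : N.Normal)
    (hs : IsSimpleGroup ↥N) (hcard : Nat.card ↥N = 360) :
    Nonempty (↥K ≃* ↥(alternatingGroup (Fin 6))) ∨ Nonempty (↥K ≃* Equiv.Perm (Fin 6)) := by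
  classical
  -- the image of `N` in `Γ8`
  let e : ↥N ≃* ↥(N.map K.subtype) := N.equivMapOfInjective K.subtype K.subtype_injective
  have hSA : N.map K.subtype ≤ A8 := (Subgroup.map_subtype_le N).trans hKA
  have hSs : IsSimpleGroup ↥(N.map K.subtype) := e.symm.isSimpleGroup
  have hcardS : Nat.card ↥(N.map K.subtype) = 360 := by
    rw [← hcard]
    exact (Nat.card_congr e.toEquiv).symm
  obtain ⟨a, b, hab, hfix⟩ := exists_fixed_pair _ hSA hSs hcardS
  -- `K` preserves `{a, b}`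
  have hK : ∀ g ∈ K, ∀ x : Fin 8, (x = a ∨ x = b) → (g x = a ∨ g x = b) := by
    intro g hg x hx
    rw [← hfix]
    intro n hn
    obtain ⟨n₀, hn₀, rfl⟩ := hn
    have hconj : (⟨g, hg⟩ : ↥K)⁻¹ * n₀ * ⟨g, hg⟩ ∈ N := by
      have := hN.conj_mem n₀ hn₀ (⟨g, hg⟩ : ↥K)⁻¹
      rwa [inv_inv] at this
    have hfx := (hfix x).mpr hx (K.subtype ((⟨g, hg⟩ : ↥K)⁻¹ * n₀ * ⟨g, hg⟩)) ⟨_, hconj, rfl⟩
    rw [map_mul, map_mul, map_inv] at hfx
    simp only [Subgroup.coe_subtype, Equiv.Perm.coe_mul, Function.comp_apply] at hfx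
    have := congrArg g hfx
    simpa using this
  obtain ⟨f, hf⟩ := exists_embed_of_pair K hKA a b hab hK
  have h720 : Nat.card (Equiv.Perm (Fin 6)) = 720 := by
    rw [Nat.card_eq_fintype_card, Fintype.card_perm, Fintype.card_fin]
    rfl
  have hd1 : Nat.card ↥K ∣ 720 := by
    rw [← h720]
    exact Subgroup.card_dvd_of_injective f hf
  have hd2 : 360 ∣ Nat.card ↥K := by
    rw [← hcard]
    exact Subgroup.card_subgroup_dvd_card N
  obtain ⟨t, ht⟩ := hd2
  have ht2 : t ∣ 2 := by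
    rw [ht, show (720 : ℕ) = 360 * 2 by norm_num] at hd1
    exact Nat.dvd_of_mul_dvd_mul_left (by norm_num) hd1
  have htle : t ≤ 2 := Nat.le_of_dvd (by norm_num) ht2
  have ht0 : t ≠ 0 := by
    intro h
    rw [h, mul_zero] at ht
    exact Nat.card_pos.ne' ht
  have hcases : t = 1 ∨ t = 2 := by omega
  rcases hcases with h1 | h2
  · left
    have hKc : Nat.card ↥K = 360 := by rw [ht, h1]
    have hNtop : N = ⊤ := by
      apply Subgroup.eq_top_of_card_eq
      rw [hcard, hKc]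
    have e1 : ↥K ≃* ↥N := (Subgroup.topEquiv.symm).trans (MulEquiv.subgroupCongr hNtop.symm)
    obtain ⟨e2⟩ := Cfsg.Agent.S0497.result (G := ↥N) hcard
    exact ⟨e1.trans e2⟩
  · right
    have hKc : Nat.card ↥K = 720 := by rw [ht, h2]
    have hbij : Function.Bijective f := by
      apply Function.Injective.bijective_of_nat_card_le hf
      rw [h720, hKc]
    exact ⟨MulEquiv.ofBijective f hbij⟩

end Cfsg.Agent.S2553P
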