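import Mathlib
import Cfsg.Prelude.Def_Transfer
import Cfsg.Agent.Helper8.S3154Defs
import Cfsg.Agent.Helper15.S3154QUAD
import Cfsg.Agent.Helper25.S3154BIG
import Cfsg.Agent.Helper25.S3154CENTER
import Cfsg.Agent.Helper19.S3154PULL
import Cfsg.Agent.Helper4.S3154SPLIT

/-! # S3154, piece ABS: the abstract part (QUAD, BIG, CENTER, PULL, SPLIT put together) -/

set_option autoImplicit false

namespace Cfsg.Agent.S3154P

/-- images of elementary abelian subgroups are elementary abelian -/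
theorem elab_map {G G' : Type*} [Group G] [Group G'] (f : G →* G') (A : Subgroup G)
    (hA : Cfsg.IsElementaryAbelian 2 A) : Cfsg.IsElementaryAbelian 2 (A.map f) := by
  refine ⟨⟨⟨?_⟩⟩, ?_⟩
  · rintro ⟨_, ⟨a, ha, rfl⟩⟩ ⟨_, ⟨b, hb, rfl⟩⟩
    apply Subtype.ext
    have h := congrArg Subtype.val (hA.1.is_comm.comm (⟨a, ha⟩ : ↥A) ⟨b, hb⟩)
    change f a * f b = f b * f a
    rw [← map_mul, ← map_mul]
    exact congrArg f h
  · rintro _ ⟨a, ha, rfl⟩
    rw [← map_pow, hA.2 a ha, map_one]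

/-- `H` is elementary abelian (QUAD + BIG) -/
theorem ABS_elab {X : Type*} [Group X] (hZ : Cfsg.IsElementaryAbelian 2 (Subgroup.center X))
    {L : Type*} [Group L] (π : X →* L) (hπ : Function.Surjective π)
    (hker : π.ker = Subgroup.center X) (H : Subgroup X) (hZH : Subgroup.center X ≤ H)
    (hHe : Cfsg.IsElementaryAbelian 2 (H.map π)) (hHc : Nat.card (H.map π) = 16)
    (htr : ∀ a ∈ H.map π, a ≠ 1 → ∀ a' ∈ H.map π, a' ≠ 1 → ∃ g : L, g * a * g⁻¹ = a') :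
    Cfsg.IsElementaryAbelian 2 H := by
  have hmemZ : ∀ x : X, x ∈ Subgroup.center X ↔ π x = 1 := by
    intro x
    rw [← hker, MonoidHom.mem_ker]
  have hcommL : ∀ u ∈ H.map π, ∀ v ∈ H.map π, u * v = v * u := by
    intro u hu v hv
    have h := hHe.1.is_comm.comm (⟨u, hu⟩ : ↥(H.map π)) ⟨v, hv⟩
    exact congrArg Subtype.val h
  apply QUAD (Subgroup.center X) H le_rfl hZH hZ.2
  · intro x hx y hy
    rw [hmemZ]
    simp only [map_mul, map_inv]
    rw [hcommL (π x) (Subgroup.mem_map_of_mem π hx) (π y) (Subgroup.mem_map_of_mem π hy)]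
    group
  · intro x hx
    rw [hmemZ, map_pow]
    exact hHe.2 _ (Subgroup.mem_map_of_mem π hx)
  · obtain ⟨_, ⟨x, hx, rfl⟩, _, ⟨y, hy, rfl⟩, _, ⟨w, hw, rfl⟩, h1, h2, h3, h4, h5, h6, h7⟩ :=
      BIG (H.map π) hHe hHc
    refine ⟨x, hx, y, hy, w, hw, ?_, ?_, ?_, ?_, ?_, ?_, ?_⟩ <;> rw [hmemZ] <;>
      simp only [map_mul, ne_eq] at * <;> assumption
  · intro x hx hxZ y hy hyZ
    rw [hmemZ] at hxZ hyZ
    obtain ⟨gb, hgb⟩ := htr (π x) (Subgroup.mem_map_of_mem π hx) hxZ (π y)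
      (Subgroup.mem_map_of_mem π hy) hyZ
    obtain ⟨g, rfl⟩ := hπ gb
    refine ⟨g, y⁻¹ * (g * x * g⁻¹), ?_, by group⟩
    rw [hmemZ]
    simp only [map_mul, map_inv]
    rw [hgb]
    group

theorem normalizer_eq_comap {X L : Type*} [Group X] [Group L] (π : X →* L)
    (hπ : Function.Surjective π) (H : Subgroup X) (hk : π.ker ≤ H) :
    Subgroup.normalizer (H : Set X) =
      (Subgroup.normalizer ((H.map π : Subgroup L) : Set L)).comap π := by
  rw [Subgroup.comap_normalizer_eq_of_surjective _ hπ, Subgroup.comap_map_eq_self hk]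

/-- ABS: the abstract part of S3154 -/
theorem ABS {X : Type*} [Group X] [Finite X] (hZ : Cfsg.IsElementaryAbelian 2 (Subgroup.center X))
    {L P : Type*} [Group L] [Group P] (π : X →* L) (hπ : Function.Surjective π)
    (hker : π.ker = Subgroup.center X)
    (T : Sylow 2 X) (H K : Subgroup X) (hHT : H ≤ T) (hKT : K ≤ T)
    (hZH : Subgroup.center X ≤ H) (hZK : Subgroup.center X ≤ K)
    (hHe : Cfsg.IsElementaryAbelian 2 (H.map π)) (hHc : Nat.card (H.map π) = 16)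
    (hKe : Cfsg.IsElementaryAbelian 2 (K.map π)) (hKc : Nat.card (K.map π) = 16)
    (g1 : Good P ((T : Subgroup X).map π) (H.map π) (K.map π))
    (g2 : Good P ((T : Subgroup X).map π) (K.map π) (H.map π)) :
    Cfsg.IsElementaryAbelian 2 H ∧ Cfsg.IsElementaryAbelian 2 K ∧
      H ⊓ K = (Subgroup.center ↥(H ⊔ K)).map (H ⊔ K).subtype ∧
      (∃ C : Subgroup X, C ≤ Subgroup.normalizer (H : Set X) ∧ C ⊓ H = ⊥ ∧
        H ⊔ C = Subgroup.normalizer (H : Set X) ∧ Nonempty (↥C ≃* P)) ∧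
      (∃ C : Subgroup X, C ≤ Subgroup.normalizer (K : Set X) ∧ C ⊓ K = ⊥ ∧
        K ⊔ C = Subgroup.normalizer (K : Set X) ∧ Nonempty (↥C ≃* P)) := by
  have hkH : π.ker ≤ H := hker ▸ hZH
  have hkK : π.ker ≤ K := hker ▸ hZK
  have hH2 : Cfsg.IsElementaryAbelian 2 H := ABS_elab hZ π hπ hker H hZH hHe hHc g1.trans
  have hK2 : Cfsg.IsElementaryAbelian 2 K := ABS_elab hZ π hπ hker K hZK hKe hKc g2.trans
  have hHK : H ⊔ K = T := by
    have h1 : (H ⊔ K).map π = (T : Subgroup X).map π := by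
      rw [Subgroup.map_sup]
      exact g1.sup
    rw [Subgroup.map_eq_map_iff] at h1
    have h2 : H ⊔ K ⊔ π.ker = H ⊔ K := sup_eq_left.mpr (hkH.trans le_sup_left)
    have h3 : (T : Subgroup X) ⊔ π.ker = T := sup_eq_left.mpr (hkH.trans hHT)
    rw [h2, h3] at h1
    exact h1
  have hTNH : (T : Subgroup X) ≤ Subgroup.normalizer (H : Set X) := by
    rw [normalizer_eq_comap π hπ H hkH]
    intro t ht
    exact g1.norm (Subgroup.mem_map_of_mem π ht)
  have hTNK : (T : Subgroup X) ≤ Subgroup.normalizer (K : Set X) := by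
    rw [normalizer_eq_comap π hπ K hkK]
    intro t ht
    exact g2.norm (Subgroup.mem_map_of_mem π ht)
  refine ⟨hH2, hK2, ?_, ?_, ?_⟩
  · apply CENTER π H K hkH hkK hH2.1 hK2.1
    rw [hHK]
    exact g1.cent
  · obtain ⟨φ, hφ, hφk⟩ := g1.hom
    obtain ⟨ψ, hψ, hψk⟩ := PULL π hπ H hkH φ hφ hφk
    exact SPLIT T H K hHK hH2 hK2 hTNH ψ hψ hψk
  · obtain ⟨φ, hφ, hφk⟩ := g2.hom
    obtain ⟨ψ, hψ, hψk⟩ := PULL π hπ K hkK φ hφ hφk
    exact SPLIT T K H (by rw [sup_comm]; exact hHK) hK2 hH2 hTNK ψ hψ hψk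

end Cfsg.Agent.S3154P
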