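import Mathlib
import Cfsg.Prelude.Def_Transfer
import Cfsg.Agent.Helper8.S3154Defs
import Cfsg.Agent.Helper21.S3154NC1
import Cfsg.Agent.Helper20.S3154NC2
import Cfsg.Agent.Helper20.S3154NC3
import Cfsg.Agent.Helper11.S3154TR1
import Cfsg.Agent.Helper11.S3154TR2
import Cfsg.Agent.Helper22.S3154NORM1
import Cfsg.Agent.Helper22.S3154NORM2
import Cfsg.Agent.Helper9.S3154PHOM1
import Cfsg.Agent.Helper9.S3154PHOM2
import Cfsg.Agent.Helper3.S3154DESC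

/-! # S3154, piece GOOD: the `Good` facts for `(Ubar, A1bar, A2bar)` and `(Ubar, A2bar, A1bar)` -/

set_option autoImplicit false

namespace Cfsg.Agent.S3154P

open Matrix

variable {F : Type*} [Field F]

/-- conjugacy of the non-trivial elements of `A1bar` -/
theorem trans_A1bar [Fintype F] (hF : Fintype.card F = 4)
    (a : Matrix.ProjectiveSpecialLinearGroup (Fin 3) F) (ha : a ∈ (A1bar : Subgroup _)) (ha1 : a ≠ 1) :
    ∃ g : Matrix.ProjectiveSpecialLinearGroup (Fin 3) F, g * a * g⁻¹ = mkL (U 1 0 0) := by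
  obtain ⟨u, hu, rfl⟩ := ha
  obtain ⟨x, z, rfl⟩ := mem_A1.mp hu
  have hxz : ¬ (x = 0 ∧ z = 0) := by
    rintro ⟨rfl, rfl⟩
    apply ha1
    rw [U_zero, map_one]
  obtain ⟨g, hg⟩ := TR1 hF x z hxz
  refine ⟨mkL g, ?_⟩
  rw [← map_inv, ← map_mul, ← map_mul, hg]

theorem trans_A2bar [Fintype F] (hF : Fintype.card F = 4)
    (a : Matrix.ProjectiveSpecialLinearGroup (Fin 3) F) (ha : a ∈ (A2bar : Subgroup _)) (ha1 : a ≠ 1) :
    ∃ g : Matrix.ProjectiveSpecialLinearGroup (Fin 3) F, g * a * g⁻¹ = mkL (U 0 1 0) := by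
  obtain ⟨u, hu, rfl⟩ := ha
  obtain ⟨x, z, rfl⟩ := mem_A2.mp hu
  have hxz : ¬ (x = 0 ∧ z = 0) := by
    rintro ⟨rfl, rfl⟩
    apply ha1
    rw [U_zero, map_one]
  obtain ⟨g, hg⟩ := TR2 hF x z hxz
  refine ⟨mkL g, ?_⟩
  rw [← map_inv, ← map_mul, ← map_mul, hg]

theorem trans_of_base {L : Type*} [Group L] (A : Subgroup L) (b : L)
    (h : ∀ a ∈ A, a ≠ 1 → ∃ g : L, g * a * g⁻¹ = b) :
    ∀ a ∈ A, a ≠ 1 → ∀ a' ∈ A, a' ≠ 1 → ∃ g : L, g * a * g⁻¹ = a' := by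
  intro a ha ha1 a' ha' ha1'
  obtain ⟨g, hg⟩ := h a ha ha1
  obtain ⟨g', hg'⟩ := h a' ha' ha1'
  refine ⟨g'⁻¹ * g, ?_⟩
  have : a' = g'⁻¹ * b * g' := by rw [← hg']; group
  rw [this, ← hg]
  group

/-- GOOD1 -/
theorem GOOD1 [Fintype F] (hF : Fintype.card F = 4) :
    Good (Matrix.SpecialLinearGroup (Fin 2) F)
      (Ubar : Subgroup (Matrix.ProjectiveSpecialLinearGroup (Fin 3) F)) A1bar A2bar where
  sup := A1bar_sup_A2bar
  norm := NC1
  cent := NC3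
  trans := trans_of_base _ _ (trans_A1bar hF)
  hom := by
    obtain ⟨ψ, hψ, hk⟩ := PHOM1 hF
    exact DESC mkL mkL_surjective A1bar P1 (NORM1 hF) ψ hψ hk

/-- GOOD2 -/
theorem GOOD2 [Fintype F] (hF : Fintype.card F = 4) :
    Good (Matrix.SpecialLinearGroup (Fin 2) F)
      (Ubar : Subgroup (Matrix.ProjectiveSpecialLinearGroup (Fin 3) F)) A2bar A1bar where
  sup := by rw [sup_comm]; exact A1bar_sup_A2bar
  norm := NC2
  cent := fun t ht hc => by rw [inf_comm]; exact NC3 t ht hc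
  trans := trans_of_base _ _ (trans_A2bar hF)
  hom := by
    obtain ⟨ψ, hψ, hk⟩ := PHOM2 hF
    exact DESC mkL mkL_surjective A2bar P2 (NORM2 hF) ψ hψ hk

end Cfsg.Agent.S3154P
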