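import Mathlib
import Cfsg.Prelude.Def_Transfer
import Cfsg.Agent.Helper16.S3174Defs
import Cfsg.Agent.Helper21.S3174AVOID

set_option autoImplicit false

/-!
# S3174/S3175 piece WC: `W` is weakly closed in `T`
-/

namespace Cfsg.Agent.S3174P

open scoped commutatorElement

/-- inside the 2-group `P`: a subgroup `Y` of the same order as `W` all of whose squares are central in `Y`
equals `W`. -/
theorem WC_aux_eq {P : Type*} [Group P] [Finite P] {W : Subgroup P} (c : Cfg P W) (Y : Subgroup P)
    (hcard : Nat.card ↥Y = Nat.card ↥W)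
    (hsqc : ∀ y ∈ Y, ∀ y' ∈ Y, y ^ 2 * y' = y' * y ^ 2) : Y = W := by
  have hne : ∀ H K : Subgroup P, H.relIndex K ≠ 0 := fun H K => by
    unfold Subgroup.relIndex
    exact Subgroup.index_ne_zero_of_finite
  -- index of Y is 8
  have hYidx : Y.index = 8 := by
    have h1 := Subgroup.index_mul_card Y
    rw [hcard, c.cW, c.cT] at h1
    have : Y.index * 2 ^ 11 = 8 * 2 ^ 11 := by rw [h1]; norm_num
    exact Nat.eq_of_mul_eq_mul_right (by norm_num) this
  set J : Subgroup P := Y ⊓ W with hJ
  have hJW : J ≤ W := inf_le_right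
  have hJY : J ≤ Y := inf_le_left
  have hJrel : J.relIndex W ≤ 8 := by
    rw [hJ, Subgroup.inf_relIndex_right]
    have := Subgroup.relIndex_le_of_le_right (H := Y) (le_top : W ≤ ⊤) (hne _ _)
    rw [Subgroup.relIndex_top_right, hYidx] at this
    exact this
  have hZJ : Zi P 3 ≤ J := c.hd J hJW (by omega)
  -- `Y` centralizes `Z_3`
  have hcent : ∀ z ∈ Zi P 3, ∀ y ∈ Y, z * y = y * z := by
    by_contra hcon
    push Not at hcon
    obtain ⟨z, hz, y₀, hy₀, hzy⟩ := hcon
    set D : Subgroup P := Zi P 3 ⊓ Subgroup.centralizer (Y : Set P) with hD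
    have hDJ : D ≤ J := le_trans inf_le_left hZJ
    have hzD : z ∉ D := by
      intro h
      have := (Subgroup.mem_centralizer_iff.mp h.2) y₀ hy₀
      exact hzy this.symm
    have hsqD : ∀ j ∈ J, j ^ 2 ∈ D := by
      intro j hj
      refine ⟨c.sq j (hJW hj), ?_⟩
      show j ^ 2 ∈ Subgroup.centralizer (Y : Set P)
      rw [Subgroup.mem_centralizer_iff]
      intro y hy
      exact (hsqc j (hJY hj) y hy).symm
    obtain ⟨U, hUJ, hUrel, hzU⟩ :=
      exists_index_two_avoiding c.hT J D hDJ hsqD z (hZJ hz) hzD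
    have hUW : U ≤ W := le_trans hUJ hJW
    have hmul := Subgroup.relIndex_mul_relIndex U J W hUJ hJW
    rw [hUrel] at hmul
    have hU16 : U.relIndex W ≤ 16 := by omega
    exact hzU (c.hd U hUW hU16 hz)
  -- so `Y ≤ W`
  have hYW : Y ≤ W := by
    intro y hy
    rw [c.hW, Subgroup.mem_centralizer_iff]
    intro z hz
    exact hcent z hz y hy
  -- equal cardinalities
  have hfin : Finite ↥W := inferInstance
  exact Subgroup.eq_of_le_of_card_ge hYW (le_of_eq hcard.symm)

/-- WC for an arbitrary subgroup `P` of `G` carrying the configuration. -/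
theorem WC_aux_main {G : Type*} [Group G] [Finite G] (P : Subgroup G) (W : Subgroup ↥P)
    (c : Cfg ↥P W) : Cfsg.IsWeaklyClosed (W.map P.subtype) P := by
  refine ⟨?_, ?_⟩
  · rintro _ ⟨w, -, rfl⟩
    exact w.2
  · intro g hg
    set W' : Subgroup G := W.map P.subtype with hW'
    set Y : Subgroup ↥P := (W'.map (MulAut.conj g).toMonoidHom).subgroupOf P with hY
    have hYmap : Y.map P.subtype = W'.map (MulAut.conj g).toMonoidHom :=
      Subgroup.map_subgroupOf_eq_of_le hg
    -- cardinalities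
    have hcard : Nat.card ↥Y = Nat.card ↥W := by
      have h1 : Nat.card ↥(Y.map P.subtype) = Nat.card ↥Y :=
        Subgroup.card_map_of_injective P.subtype_injective
      have h2 : Nat.card ↥(W'.map (MulAut.conj g).toMonoidHom) = Nat.card ↥W' :=
        Subgroup.card_map_of_injective (MulAut.conj g).injective
      have h3 : Nat.card ↥W' = Nat.card ↥W :=
        Subgroup.card_map_of_injective P.subtype_injective
      rw [← h1, hYmap, h2, h3]
    -- description of the elements of Y
    have hmemY : ∀ y : ↥P, y ∈ Y → ∃ w ∈ W, (y : G) = g * (w : G) * g⁻¹ := by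
      intro y hy
      rw [hY, Subgroup.mem_subgroupOf] at hy
      obtain ⟨x, ⟨w, hw, rfl⟩, hx⟩ := hy
      exact ⟨w, hw, by simpa using hx.symm⟩
    -- squares of elements of W are central in W
    have hZc : ∀ w ∈ W, ∀ w' ∈ W, w ^ 2 * w' = w' * w ^ 2 := by
      intro w hw w' hw'
      have h1 : w ^ 2 ∈ Zi ↥P 3 := c.sq w hw
      have h2 : w' ∈ Subgroup.centralizer ((Zi ↥P 3 : Subgroup ↥P) : Set ↥P) := by
        rw [← c.hW]; exact hw'
      exact (Subgroup.mem_centralizer_iff.mp h2) _ h1
    have hsqc : ∀ y ∈ Y, ∀ y' ∈ Y, y ^ 2 * y' = y' * y ^ 2 := by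
      intro y hy y' hy'
      obtain ⟨w, hw, hyw⟩ := hmemY y hy
      obtain ⟨w', hw', hyw'⟩ := hmemY y' hy'
      apply Subtype.ext
      have h := congrArg (fun x : ↥P => g * (x : G) * g⁻¹) (hZc w hw w' hw')
      simp only [Subgroup.coe_mul, Subgroup.coe_pow] at h ⊢
      rw [hyw, hyw']
      calc (g * (w : G) * g⁻¹) ^ 2 * (g * (w' : G) * g⁻¹)
          = g * ((w : G) ^ 2 * (w' : G)) * g⁻¹ := by
            simp only [pow_two]; group
        _ = g * ((w' : G) * (w : G) ^ 2) * g⁻¹ := h
        _ = g * (w' : G) * g⁻¹ * (g * (w : G) * g⁻¹) ^ 2 := by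
            simp only [pow_two]; group
    have hYW : Y = W := WC_aux_eq c Y hcard hsqc
    rw [← hYmap, hYW]

/-- WC -/
theorem wc {G : Type*} [Group G] [Finite G] (T : Sylow 2 G) (W : Subgroup ↥(T : Subgroup G))
    (c : Cfg ↥(T : Subgroup G) W) :
    Cfsg.IsWeaklyClosed (W.map (T : Subgroup G).subtype) (T : Subgroup G) :=
  WC_aux_main (T : Subgroup G) W c

end Cfsg.Agent.S3174P
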