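import Mathlib
import Cfsg.Agent.Helper10.S3805Defs

/-!
# S3805 piece RESTRICT.
-/

set_option autoImplicit false

namespace Cfsg.Agent.S3805P

open Cfsg

/-- **RESTRICT.** A configuration restricts to any subgroup containing `ι(Q)`. -/
theorem exists_restrict {G : Type*} [Group G] [Finite G] (c : Cfg G) (H : Subgroup G)
    (hH : c.ι.range ≤ H) : ∃ c' : Cfg H, ∀ q : Q, ((c'.ι q : H) : G) = c.ι q := by
  have hmem : ∀ q : Q, c.ι q ∈ H := fun q => hH ⟨q, rfl⟩
  have hPH : (c.P : Subgroup G) ≤ H := by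
    rw [c.hP]
    rintro _ ⟨q, -, rfl⟩
    exact hmem q
  refine ⟨{ ι := c.ι.codRestrict H hmem
            inj := ?_
            P := c.P.subtype hPH
            hP := ?_
            ti := ?_ }, fun q => rfl⟩
  · intro q q' h
    apply c.inj
    exact congrArg Subtype.val h
  · rw [Sylow.coe_subtype, c.hP]
    ext x
    rw [Subgroup.mem_subgroupOf]
    constructor
    · rintro ⟨q, hq, hqx⟩
      exact ⟨q, hq, Subtype.ext hqx⟩
    · rintro ⟨q, hq, rfl⟩
      exact ⟨q, hq, rfl⟩
  · intro g q q' hq h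
    have h' : (g : G) * c.ι q * (g : G)⁻¹ = c.ι q' := congrArg Subtype.val h
    obtain ⟨q0, hq0⟩ := c.ti (g : G) q q' hq h'
    exact ⟨q0, Subtype.ext hq0⟩

end Cfsg.Agent.S3805P
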