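import Mathlib
import Cfsg.Agent.Helper26.S3911Defs
import Cfsg.Agent.Helper19.S4395NILPN

set_option autoImplicit false

/-! Board `s3912pieces`, piece C2e: structure `A₀ = S ⊔ O` of a nilpotent lift of an abelian subgroup of
`G ⧸ N`, `|N| = 2`, `|P| = 8`, `8 ∣ |A₀|`. -/

namespace Cfsg.Agent.S3912P

open Cfsg.Agent.S3911P

/-- an element of a subgroup of odd order that lies in a subgroup of order `2` is trivial. -/
theorem C2e_aux_triv {G : Type*} [Group G] [Finite G] (N K : Subgroup G) (hN : Nat.card ↥N = 2)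
    (hK : Odd (Nat.card ↥K)) (c : G) (hcK : c ∈ K) (hcN : c ∈ N) : c = 1 := by
  have h1 : orderOf c ∣ Nat.card ↥K := Subgroup.orderOf_dvd_natCard K hcK
  have h2 : orderOf c ∣ 2 := hN ▸ Subgroup.orderOf_dvd_natCard N hcN
  have h3 : Nat.Coprime (Nat.card ↥K) 2 := Nat.coprime_two_right.mpr hK
  have h4 : orderOf c ∣ 1 := by
    have := Nat.dvd_gcd h1 h2
    rwa [h3] at this
  exact orderOf_eq_one_iff.mp (Nat.dvd_one.mp h4)

/-- commutators of elements of a lift of an abelian subgroup of `G ⧸ N` lie in `N`. -/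
theorem C2e_aux_comm_mem {G : Type*} [Group G] (N : Subgroup G) [N.Normal]
    (Ab : Subgroup (G ⧸ N)) (A₀ : Subgroup G) (h : A₀.map (QuotientGroup.mk' N) = Ab)
    (hAb : IsMulCommutative ↥Ab) (x y : G) (hx : x ∈ A₀) (hy : y ∈ A₀) :
    x * y * x⁻¹ * y⁻¹ ∈ N := by
  have hx' : QuotientGroup.mk' N x ∈ Ab := h ▸ Subgroup.mem_map_of_mem _ hx
  have hy' : QuotientGroup.mk' N y ∈ Ab := h ▸ Subgroup.mem_map_of_mem _ hy
  have hc := hAb.is_comm.comm ⟨_, hx'⟩ ⟨_, hy'⟩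
  have hc' : QuotientGroup.mk' N x * QuotientGroup.mk' N y
      = QuotientGroup.mk' N y * QuotientGroup.mk' N x := congrArg Subtype.val hc
  rw [← QuotientGroup.eq_one_iff, ← QuotientGroup.mk'_apply]
  simp only [map_mul, map_inv]
  rw [hc']
  group

/-- C2e (M/L): structure of a nilpotent lift of an abelian subgroup with `8 ∣ |A₀|`, `|P| = 8`, `|N| = 2`. -/
theorem C2e {G : Type*} [Group G] [Finite G] (N : Subgroup G) [N.Normal] (hN : Nat.card ↥N = 2)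
    (P : Sylow 2 G) (hP : Nat.card ↥(P : Subgroup G) = 8)
    (Ab : Subgroup (G ⧸ N)) (A₀ : Subgroup G) (h : A₀.map (QuotientGroup.mk' N) = Ab)
    (hAb : IsMulCommutative ↥Ab) (hnil : Group.IsNilpotent ↥A₀) (h8 : 8 ∣ Nat.card ↥A₀) :
    ∃ S O : Subgroup G, Nat.card ↥S = 8 ∧ Odd (Nat.card ↥O) ∧ IsMulCommutative ↥O ∧
      (∀ s ∈ S, ∀ o ∈ O, s * o = o * s) ∧ A₀ = S ⊔ O ∧ Nat.card ↥A₀ = 8 * Nat.card ↥O := by
  classical
  have : Fact (Nat.Prime 2) := ⟨Nat.prime_two⟩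
  obtain ⟨S', K, hKn, hc⟩ := Cfsg.Agent.S4395P.NILPN (p := 2) hnil
  have hinj : Function.Injective A₀.subtype := Subgroup.subtype_injective _
  have hcardS : Nat.card ↥((S' : Subgroup ↥A₀).map A₀.subtype) = Nat.card ↥(S' : Subgroup ↥A₀) :=
    Subgroup.card_map_of_injective hinj
  have hcardO : Nat.card ↥(K.map A₀.subtype) = Nat.card ↥K := Subgroup.card_map_of_injective hinj
  have hmul : Nat.card ↥K * Nat.card ↥(S' : Subgroup ↥A₀) = Nat.card ↥A₀ := hc.card_mul_card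
  -- |S'| = 8
  have hS2 : IsPGroup 2 ↥((S' : Subgroup ↥A₀).map A₀.subtype) := S'.isPGroup'.map _
  obtain ⟨Q, hQ⟩ := hS2.exists_le_sylow
  have hQP : Nat.card ↥(Q : Subgroup G) = 8 := by
    rw [← hP, Sylow.card_eq_multiplicity, Sylow.card_eq_multiplicity]
  have hS8a : Nat.card ↥(S' : Subgroup ↥A₀) ∣ 8 := by
    rw [← hcardS, ← hQP]; exact Subgroup.card_dvd_of_le hQ
  have hS8b : 8 ∣ Nat.card ↥(S' : Subgroup ↥A₀) := by
    have h3 : (2 : ℕ) ^ 3 ∣ Nat.card ↥A₀ := by norm_num; exact h8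
    obtain ⟨Q3, hQ3⟩ := Sylow.exists_subgroup_card_pow_prime 2 h3
    have hQ3p : IsPGroup 2 ↥Q3 := IsPGroup.of_card hQ3
    obtain ⟨g, hg⟩ := hQ3p.exists_le_sylow
    have h5 : Nat.card ↥(g : Subgroup ↥A₀) = Nat.card ↥(S' : Subgroup ↥A₀) := by
      rw [Sylow.card_eq_multiplicity, Sylow.card_eq_multiplicity]
    have := Subgroup.card_dvd_of_le hg
    rw [hQ3, h5] at this
    norm_num at this
    exact this
  have hS8 : Nat.card ↥(S' : Subgroup ↥A₀) = 8 := Nat.dvd_antisymm hS8a hS8b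
  -- |K| odd
  have hKodd : Odd (Nat.card ↥K) := by
    have h1 : (S' : Subgroup ↥A₀).index = Nat.card ↥K := hc.index_eq_card
    have h2 := S'.not_dvd_index
    rw [h1] at h2
    rcases Nat.even_or_odd (Nat.card ↥K) with he | ho
    · exact absurd (even_iff_two_dvd.mp he) h2
    · exact ho
  refine ⟨(S' : Subgroup ↥A₀).map A₀.subtype, K.map A₀.subtype, ?_, ?_, ?_, ?_, ?_, ?_⟩
  · rw [hcardS, hS8]
  · rw [hcardO]; exact hKodd
  · -- O commutative
    refine ⟨⟨?_⟩⟩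
    rintro ⟨_, a, ha, rfl⟩ ⟨_, b, hb, rfl⟩
    apply Subtype.ext
    show A₀.subtype a * A₀.subtype b = A₀.subtype b * A₀.subtype a
    have hcK : a * b * a⁻¹ * b⁻¹ ∈ K :=
      K.mul_mem (K.mul_mem (K.mul_mem ha hb) (K.inv_mem ha)) (K.inv_mem hb)
    have hcN := C2e_aux_comm_mem N Ab A₀ h hAb a b a.2 b.2
    have hcO : ((a * b * a⁻¹ * b⁻¹ : ↥A₀) : G) ∈ K.map A₀.subtype := ⟨_, hcK, rfl⟩
    have h1 := C2e_aux_triv N (K.map A₀.subtype) hN (hcardO ▸ hKodd) _ hcO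
      (by simpa using hcN)
    have h2 : (a : G) * b * (a : G)⁻¹ * (b : G)⁻¹ = 1 := by simpa using h1
    simp only [Subgroup.coe_subtype]
    calc (a : G) * b = ((a : G) * b * (a : G)⁻¹ * (b : G)⁻¹) * (b * a) := by group
      _ = b * a := by rw [h2, one_mul]
  · -- S and O commute
    rintro _ ⟨s, hs, rfl⟩ _ ⟨o, ho, rfl⟩
    have hcK : s * o * s⁻¹ * o⁻¹ ∈ K := K.mul_mem (hKn.conj_mem o ho s) (K.inv_mem ho)
    have hcN := C2e_aux_comm_mem N Ab A₀ h hAb s o s.2 o.2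
    have hcO : ((s * o * s⁻¹ * o⁻¹ : ↥A₀) : G) ∈ K.map A₀.subtype := ⟨_, hcK, rfl⟩
    have h1 := C2e_aux_triv N (K.map A₀.subtype) hN (hcardO ▸ hKodd) _ hcO
      (by simpa using hcN)
    have h2 : (s : G) * o * (s : G)⁻¹ * (o : G)⁻¹ = 1 := by simpa using h1
    simp only [Subgroup.coe_subtype]
    calc (s : G) * o = ((s : G) * o * (s : G)⁻¹ * (o : G)⁻¹) * (o * s) := by group
      _ = o * s := by rw [h2, one_mul]
  · -- A₀ = S ⊔ O
    have h1 : K ⊔ (S' : Subgroup ↥A₀) = ⊤ := hc.sup_eq_top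
    have h2 : (⊤ : Subgroup ↥A₀).map A₀.subtype = A₀ := by
      rw [← MonoidHom.range_eq_map, Subgroup.range_subtype]
    rw [sup_comm, ← Subgroup.map_sup, h1, h2]
  · rw [hcardO, ← hmul, hS8, mul_comm]

end Cfsg.Agent.S3912P
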