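import Mathlib
import Cfsg.Agent.Helper26.S4057Defs

/-! S4057 piece HOM: on the upper unitriangular matrices vanishing before the position `(a, b)`
the entry at `(a, b)` is additive. -/

set_option autoImplicit false

namespace Cfsg.Agent.S4057P

/-- the key of `(c, k)` is smaller than the key of `(c, d)` when `c < k < d` -/
theorem HOM_aux_key {n : ℕ} (c k d : Fin n) (hck : c < k) (hkd : k < d) : key c k < key c d := by
  unfold key
  rw [Prod.Lex.toLex_lt_toLex]
  left
  have h1 : (c : ℕ) < (k : ℕ) := hck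
  have h2 : (k : ℕ) < (d : ℕ) := hkd
  show (k : ℕ) - (c : ℕ) < (d : ℕ) - (c : ℕ)
  omega

/-- the entries of a product at the positions up to `(a, b)` when the first factor vanishes
before `(a, b)` -/
theorem HOM_aux_entry {n p : ℕ} (A B : Matrix (Fin n) (Fin n) (ZMod p)) (hA : IsUT A) (hB : IsUT B)
    (a b : Fin n) (h1 : Below A a b) (c d : Fin n) (hcd : c < d) (hkey : key c d ≤ key a b) :
    (A * B) c d = A c d + B c d := by
  obtain ⟨hA1, hA2⟩ := hA
  obtain ⟨hB1, hB2⟩ := hB
  rw [Matrix.mul_apply, Finset.sum_eq_add d c (ne_of_gt hcd)]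
  · rw [hB1, hA1, mul_one, one_mul]
  · intro k _ hk
    rcases lt_or_gt_of_ne hk.2 with h | h
    · rw [hA2 c k h, zero_mul]
    · rcases lt_or_gt_of_ne hk.1 with h' | h'
      · rw [h1 c k h (lt_of_lt_of_le (HOM_aux_key c k d h h') hkey), zero_mul]
      · rw [hB2 k d h', mul_zero]
  · intro h
    exact absurd (Finset.mem_univ d) h
  · intro h
    exact absurd (Finset.mem_univ c) h

theorem HOM {n p : ℕ} (A B : Matrix (Fin n) (Fin n) (ZMod p)) (hA : IsUT A) (hB : IsUT B)
    (a b : Fin n) (hab : a < b) (h1 : Below A a b) (h2 : Below B a b) :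
    Below (A * B) a b ∧ (A * B) a b = A a b + B a b := by
  refine ⟨?_, HOM_aux_entry A B hA hB a b h1 a b hab le_rfl⟩
  intro c d hcd hkey
  rw [HOM_aux_entry A B hA hB a b h1 c d hcd hkey.le, h1 c d hcd hkey, h2 c d hcd hkey, add_zero]

end Cfsg.Agent.S4057P
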