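import Mathlib
import Cfsg.Agent.Helper26.S4057Defs
import Cfsg.Agent.Helper8.S4057HOM

/-! S4057 piece INV: the inverse of an upper unitriangular matrix vanishing before `(a, b)` also
vanishes before `(a, b)`, with the opposite entry at `(a, b)`. -/

set_option autoImplicit false

namespace Cfsg.Agent.S4057P

theorem INV {n p : ℕ} (A B : Matrix (Fin n) (Fin n) (ZMod p)) (hA : IsUT A) (hB : IsUT B)
    (hAB : A * B = 1) (a b : Fin n) (hab : a < b) (h1 : Below A a b) :
    Below B a b ∧ B a b = - A a b := by
  have key1 : ∀ c d : Fin n, c < d → key c d ≤ key a b → B c d = - A c d := by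
    intro c d hcd hkey
    have h := HOM_aux_entry A B hA hB a b h1 c d hcd hkey
    rw [hAB, Matrix.one_apply_ne (ne_of_lt hcd)] at h
    exact eq_neg_of_add_eq_zero_right h.symm
  refine ⟨?_, key1 a b hab le_rfl⟩
  intro c d hcd hkey
  rw [key1 c d hcd hkey.le, h1 c d hcd hkey, neg_zero]

end Cfsg.Agent.S4057P
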