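import Mathlib
import Cfsg.Agent.Helper26.S4057Defs

/-! S4057 piece LEADEX: an upper unitriangular matrix different from `1` has a leading
position. -/

set_option autoImplicit false

namespace Cfsg.Agent.S4057P

theorem LEADEX {n p : ℕ} (A : Matrix (Fin n) (Fin n) (ZMod p)) (hA : IsUT A) (hne : A ≠ 1) :
    ∃ a b : Fin n, HasLead A a b := by
  classical
  obtain ⟨hA1, hA2⟩ := hA
  set S : Finset (Fin n × Fin n) :=
    Finset.univ.filter (fun π : Fin n × Fin n => π.1 < π.2 ∧ A π.1 π.2 ≠ 0) with hS
  have hSne : S.Nonempty := by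
    by_contra hemp
    rw [Finset.not_nonempty_iff_eq_empty] at hemp
    apply hne
    ext i j
    rcases lt_trichotomy i j with h | h | h
    · rw [Matrix.one_apply_ne (ne_of_lt h)]
      by_contra h0
      have : (i, j) ∈ S := by
        rw [hS, Finset.mem_filter]
        exact ⟨Finset.mem_univ _, h, h0⟩
      rw [hemp] at this
      exact absurd this (Finset.notMem_empty _)
    · rw [h, hA1, Matrix.one_apply_eq]
    · rw [hA2 i j h, Matrix.one_apply_ne (ne_of_gt h)]
  obtain ⟨π, hπS, hmin⟩ := Finset.exists_min_image S (fun π => key π.1 π.2) hSne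
  rw [hS, Finset.mem_filter] at hπS
  refine ⟨π.1, π.2, hπS.2.1, ?_, hπS.2.2⟩
  intro c d hcd hkey
  by_contra h0
  have hmem : (c, d) ∈ S := by
    rw [hS, Finset.mem_filter]
    exact ⟨Finset.mem_univ _, hcd, h0⟩
  exact absurd (hmin (c, d) hmem) (not_le.mpr hkey)

end Cfsg.Agent.S4057P
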