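import Mathlib
import Cfsg.Agent.Helper26.S4057Defs

/-! S4057 piece UTMUL: products of upper unitriangular matrices are upper unitriangular. -/

set_option autoImplicit false

namespace Cfsg.Agent.S4057P

theorem UTMUL {n p : ℕ} (A B : Matrix (Fin n) (Fin n) (ZMod p)) (hA : IsUT A) (hB : IsUT B) :
    IsUT (A * B) := by
  obtain ⟨hA1, hA2⟩ := hA
  obtain ⟨hB1, hB2⟩ := hB
  refine ⟨fun i => ?_, fun i j hji => ?_⟩
  · rw [Matrix.mul_apply, Finset.sum_eq_single i]
    · rw [hA1, hB1, mul_one]
    · intro k _ hki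
      rcases lt_or_gt_of_ne hki with h | h
      · rw [hA2 i k h, zero_mul]
      · rw [hB2 k i h, mul_zero]
    · intro h
      exact absurd (Finset.mem_univ i) h
  · rw [Matrix.mul_apply]
    apply Finset.sum_eq_zero
    intro k _
    rcases lt_or_ge k i with h | h
    · rw [hA2 i k h, zero_mul]
    · rw [hB2 k j (lt_of_lt_of_le hji h), mul_zero]

end Cfsg.Agent.S4057P
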