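import Mathlib
import Cfsg.Agent.Helper9.S4091Defs

/-! # S4091 piece PIB, combinatorial half: the `p + 1` lines of `Z_p × Z_p`
Blueprint: `departures/helper9_S4091_blueprint.md` (section 2, PIB). -/

set_option autoImplicit false

namespace Cfsg.Agent.S4091P

universe u

theorem PIBc_pow_mod {M : Type*} [Monoid M] {b : M} {p : ℕ} (hb : b ^ p = 1) (n : ℕ) :
    b ^ n = b ^ (n % p) := by
  conv_lhs => rw [← Nat.div_add_mod n p, pow_add, pow_mul, hb, one_pow, one_mul]

/-- the product over `Z_p × Z_p` of a function constant on the generators of each line -/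
theorem PIBc_lines {M : Type*} [Group M] {p : ℕ} [Fact p.Prime] (a z : M) (hc : Commute a z)
    (ha : a ^ p = 1) (hz : z ^ p = 1) (F : M → ℕ)
    (hF : ∀ b : M, b ^ p = 1 → ∀ i : ℕ, Nat.Coprime i p → F (b ^ i) = F b) :
    ∏ e : ZMod p × ZMod p, F (a ^ e.1.val * z ^ e.2.val)
      = F 1 * (F z * ∏ c ∈ Finset.range p, F (a * z ^ c)) ^ (p - 1) := by
  have hp : p.Prime := Fact.out
  haveI : NeZero p := ⟨hp.ne_zero⟩
  have hcop : ∀ i : ZMod p, i ≠ 0 → Nat.Coprime i.val p := by
    intro i hi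
    apply Nat.Coprime.symm
    rw [Nat.Prime.coprime_iff_not_dvd hp]
    intro hdvd
    have h1 : i.val < p := ZMod.val_lt i
    have h2 : 0 < i.val := Nat.pos_of_ne_zero (fun h => hi ((ZMod.val_eq_zero i).1 h))
    exact absurd (Nat.le_of_dvd h2 hdvd) (not_le.2 h1)
  have hcard : (Finset.univ.erase (0 : ZMod p)).card = p - 1 := by
    rw [Finset.card_erase_of_mem (Finset.mem_univ _), Finset.card_univ, ZMod.card]
  -- the line of z
  have hline0 : ∏ j : ZMod p, F (a ^ (0 : ZMod p).val * z ^ j.val) = F 1 * F z ^ (p - 1) := by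
    rw [← Finset.mul_prod_erase Finset.univ _ (Finset.mem_univ (0 : ZMod p))]
    congr 1
    · simp
    · rw [← hcard, ← Finset.prod_const]
      apply Finset.prod_congr rfl
      intro j hj
      rw [Finset.mem_erase] at hj
      rw [ZMod.val_zero, pow_zero, one_mul]
      exact hF z hz j.val (hcop j hj.1)
  -- reindexing `ZMod p` by `range p`
  have hrange : ∀ f : ℕ → ℕ, ∏ c : ZMod p, f c.val = ∏ c ∈ Finset.range p, f c := by
    intro f
    symm
    apply Finset.prod_bij (fun (c : ℕ) _ => (c : ZMod p))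
    · intro c _; exact Finset.mem_univ _
    · intro c hc c' hc' h
      rw [Finset.mem_range] at hc hc'
      have := congrArg ZMod.val h
      rwa [ZMod.val_natCast, ZMod.val_natCast, Nat.mod_eq_of_lt hc, Nat.mod_eq_of_lt hc'] at this
    · intro c _
      exact ⟨c.val, Finset.mem_range.2 (ZMod.val_lt c), ZMod.natCast_zmod_val c⟩
    · intro c hc
      rw [Finset.mem_range] at hc
      rw [ZMod.val_natCast, Nat.mod_eq_of_lt hc]
  -- the other lines
  have hline : ∀ i : ZMod p, i ≠ 0 →
      ∏ j : ZMod p, F (a ^ i.val * z ^ j.val) = ∏ c ∈ Finset.range p, F (a * z ^ c) := by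
    intro i hi
    haveI : Fact p.Prime := ⟨hp⟩
    have hbij : Function.Bijective (fun c : ZMod p => i * c) :=
      (Equiv.mulLeft₀ i hi).bijective
    rw [← Function.Bijective.prod_comp hbij (fun j => F (a ^ i.val * z ^ j.val))]
    rw [← hrange (fun c => F (a * z ^ c))]
    apply Finset.prod_congr rfl
    intro c _
    have h1 : z ^ (i * c).val = z ^ (i.val * c.val) := by
      rw [ZMod.val_mul, ← PIBc_pow_mod hz]
    have hcz : Commute a (z ^ c.val) := hc.pow_right _
    have h2 : a ^ i.val * z ^ (i * c).val = (a * z ^ c.val) ^ i.val := by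
      rw [h1, hcz.mul_pow, ← pow_mul, mul_comm c.val i.val]
    show F (a ^ i.val * z ^ (i * c).val) = F (a * z ^ c.val)
    rw [h2]
    apply hF _ _ _ (hcop i hi)
    rw [hcz.mul_pow, ha, ← pow_mul, mul_comm, pow_mul, hz, one_pow, one_mul]
  rw [Fintype.prod_prod_type]
  rw [← Finset.mul_prod_erase Finset.univ _ (Finset.mem_univ (0 : ZMod p)), hline0]
  have h3 : ∏ i ∈ Finset.univ.erase (0 : ZMod p), ∏ j : ZMod p, F (a ^ i.val * z ^ j.val)
      = (∏ c ∈ Finset.range p, F (a * z ^ c)) ^ (p - 1) := by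
    rw [← hcard, ← Finset.prod_const]
    apply Finset.prod_congr rfl
    intro i hi
    rw [Finset.mem_erase] at hi
    exact hline i hi.1
  rw [h3, mul_pow, mul_assoc]

/-- the final arithmetic of PIB -/
theorem PIBc_arith {p n f2 X : ℕ} (hp : 2 ≤ p) (hn : 0 < n)
    (h : n ^ p * f2 ^ (p * (p - 1)) = n * X ^ (p - 1)) : X = n * f2 ^ p := by
  obtain ⟨k, rfl⟩ : ∃ k, p = k + 2 := ⟨p - 2, by omega⟩
  have hk : k + 2 - 1 = k + 1 := by omega
  rw [hk] at h
  have h1 : n * (n * f2 ^ (k + 2)) ^ (k + 1) = n * X ^ (k + 1) := by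
    rw [← h, mul_pow, ← pow_mul, ← mul_assoc, ← pow_succ']
  have h2 := Nat.eq_of_mul_eq_mul_left hn h1
  exact (Nat.pow_left_injective (by omega : k + 1 ≠ 0) h2).symm

/-- `Fix (b ^ i) = Fix b` for `b ^ p = 1`, `i` prime to `p` -/
theorem PIBc_fixSub_pow {N : Type u} [Group N] {p : ℕ} (b : MulAut N) (hb : b ^ p = 1) (i : ℕ)
    (hi : Nat.Coprime i p) : fixSub (b ^ i) = fixSub b := by
  apply le_antisymm
  · intro n hn
    rw [mem_fixSub] at hn ⊢
    -- b = (b^i)^j for some j
    obtain ⟨j, hj⟩ : ∃ j : ℕ, (b ^ i) ^ j = b := by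
      have h1 := Nat.gcd_eq_gcd_ab i p
      rw [hi] at h1
      -- i * x + p * y = 1 in ℤ
      refine ⟨(Nat.gcdA i p % p).toNat, ?_⟩
      by_cases hp0 : p = 0
      · subst hp0
        have : i = 1 := by simpa using hi
        subst this
        simp
      have hp' : (0 : ℤ) < p := by exact_mod_cast Nat.pos_of_ne_zero hp0
      have hnn : 0 ≤ Nat.gcdA i p % p := Int.emod_nonneg _ (ne_of_gt hp')
      have hz : (b ^ i) ^ (Nat.gcdA i p % (p : ℤ)) = b := by
        have hbz : b ^ (p : ℤ) = 1 := by rw [zpow_natCast]; exact hb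
        have e1 : (Nat.gcdA i p % (p : ℤ)) = Nat.gcdA i p - p * (Nat.gcdA i p / p) := by
          rw [Int.emod_def]
        rw [← zpow_natCast b i, ← zpow_mul, e1, mul_sub, zpow_sub]
        have e2 : (i : ℤ) * Nat.gcdA i p = 1 - p * Nat.gcdB i p := by
          have : ((1 : ℕ) : ℤ) = i * Nat.gcdA i p + p * Nat.gcdB i p := h1
          push_cast at this
          linarith
        rw [e2, zpow_sub, zpow_one, zpow_mul, hbz, one_zpow, inv_one, mul_one]
        rw [show (i : ℤ) * (↑p * (Nat.gcdA i p / ↑p)) = (p : ℤ) * (i * (Nat.gcdA i p / ↑p)) by ring]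
        rw [zpow_mul, hbz, one_zpow, inv_one, mul_one]
      rw [← zpow_natCast, Int.toNat_of_nonneg hnn]
      exact hz
    rw [← hj]
    clear hj
    induction j with
    | zero => simp
    | succ j ih => rw [pow_succ, MulAut.mul_apply, hn, ih]
  · intro n hn
    rw [mem_fixSub] at hn ⊢
    induction i with
    | zero => simp
    | succ j ih => 
      clear ih
      induction (j + 1) with
      | zero => simp
      | succ m ihm => rw [pow_succ, MulAut.mul_apply, hn, ihm]

theorem PIBc_fx_pow {N : Type u} [Group N] {p : ℕ} (b : MulAut N) (hb : b ^ p = 1) (i : ℕ)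
    (hi : Nat.Coprime i p) : fx (b ^ i) = fx b := by
  unfold fx
  rw [PIBc_fixSub_pow b hb i hi]

end Cfsg.Agent.S4091P
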