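import Mathlib
import Cfsg.Agent.Helper9.S4091Defs

/-! # S4091 piece TFQ: `|T_G(x)| = |T_{G/N}(x̄)| * |C_N(x)|` for a normal `p'`-subgroup `N`
Blueprint: `departures/helper9_S4091_blueprint.md` (QPP / TFQ). -/

set_option autoImplicit false

namespace Cfsg.Agent.S4091P

universe u

variable {p : ℕ} [Fact p.Prime]

/-- a `p`-subgroup meets a `p'`-subgroup trivially -/
theorem TFQ_aux_inf {G : Type u} [Group G] [Finite G] (N P : Subgroup G) (hP : IsPGroup p P)
    (hN : ¬ p ∣ Nat.card N) {z : G} (hzP : z ∈ P) (hzN : z ∈ N) : z = 1 := by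
  obtain ⟨k, hk⟩ := hP ⟨z, hzP⟩
  have hk' : z ^ p ^ k = 1 := by
    have := congrArg Subtype.val hk
    simpa using this
  have h1 : orderOf z ∣ p ^ k := orderOf_dvd_of_pow_eq_one hk'
  have h2 : orderOf z ∣ Nat.card N := Subgroup.orderOf_dvd_natCard N hzN
  have hcop : Nat.Coprime (p ^ k) (Nat.card N) :=
    Nat.Coprime.pow_left k ((Nat.Prime.coprime_iff_not_dvd (Fact.out)).2 hN)
  have h3 : orderOf z ∣ 1 := by
    have := Nat.dvd_gcd h1 h2
    rwa [hcop] at this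
  exact orderOf_eq_one_iff.1 (Nat.dvd_one.1 h3)

/-- a `p`-element of `P N` is conjugate into the Sylow `p`-subgroup `P` by an element of `N` -/
theorem TFQ_aux_conj {G : Type u} [Group G] [Finite G] (N : Subgroup G) [N.Normal] (P : Sylow p G)
    {y : G} (hy : ∃ k : ℕ, y ^ p ^ k = 1) (hyPN : y ∈ (P : Subgroup G) ⊔ N) :
    ∃ m ∈ N, m * y * m⁻¹ ∈ (P : Subgroup G) := by
  have hPH : (P : Subgroup G) ≤ (P : Subgroup G) ⊔ N := le_sup_left
  let P' : Sylow p ↥((P : Subgroup G) ⊔ N) := P.subtype hPH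
  let y' : ↥((P : Subgroup G) ⊔ N) := ⟨y, hyPN⟩
  have hy' : IsPGroup p (Subgroup.zpowers y') := by
    obtain ⟨k, hk⟩ := hy
    have h1 : orderOf y' ∣ p ^ k := by
      apply orderOf_dvd_of_pow_eq_one
      apply Subtype.ext
      simpa [y'] using hk
    obtain ⟨j, -, hj⟩ := (Nat.dvd_prime_pow (Fact.out : p.Prime)).1 h1
    exact IsPGroup.of_card (n := j) (by rw [Nat.card_zpowers, hj])
  obtain ⟨Q, hQ⟩ := hy'.exists_le_sylow
  obtain ⟨h, hh⟩ := MulAction.exists_smul_eq ↥((P : Subgroup G) ⊔ N) Q P'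
  have h1 : h * y' * h⁻¹ ∈ (P' : Subgroup ↥((P : Subgroup G) ⊔ N)) := by
    rw [← hh, Sylow.coe_subgroup_smul, Subgroup.mem_pointwise_smul_iff_inv_smul_mem]
    have : (MulAut.conj h)⁻¹ • (h * y' * h⁻¹) = y' := by
      rw [← map_inv, MulAut.smul_def, MulAut.conj_apply]
      group
    rw [this]
    exact hQ (Subgroup.mem_zpowers y')
  have h2 : (h : G) * y * (h : G)⁻¹ ∈ (P : Subgroup G) := by
    have h3 := h1
    rw [Sylow.coe_subtype, Subgroup.mem_subgroupOf] at h3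
    simpa [y'] using h3
  have hmem : (h : G) ∈ (((P : Subgroup G) ⊔ N : Subgroup G) : Set G) := h.2
  rw [Subgroup.mul_normal] at hmem
  obtain ⟨a, ha, m, hm, ham⟩ := hmem
  refine ⟨m, hm, ?_⟩
  have e : m * y * m⁻¹ = a⁻¹ * ((h : G) * y * (h : G)⁻¹) * a := by
    rw [← ham]
    group
  rw [e]
  exact Subgroup.mul_mem _ (Subgroup.mul_mem _ (Subgroup.inv_mem _ ha) h2) ha

/-- the fibres of `T_G(x) → T_{G/N}(x̄)` all have `|C_N(x)|` elements -/
theorem TFQ_aux_fibre {G : Type u} [Group G] [Finite G] (N : Subgroup G) [N.Normal]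
    (hN : ¬ p ∣ Nat.card N) (P : Sylow p G) {x : G} (hx : x ∈ (P : Subgroup G))
    (q : G ⧸ N)
    (hq : q * QuotientGroup.mk' N x * q⁻¹ ∈ (P : Subgroup G).map (QuotientGroup.mk' N)) :
    Nat.card {g : G // g * x * g⁻¹ ∈ (P : Subgroup G) ∧ QuotientGroup.mk' N g = q}
      = Nat.card ↥(N ⊓ Subgroup.centralizer ({x} : Set G)) := by
  obtain ⟨g0, rfl⟩ := QuotientGroup.mk'_surjective N q
  -- y = g0 x g0⁻¹ ∈ P N
  have hyPN : g0 * x * g0⁻¹ ∈ (P : Subgroup G) ⊔ N := by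
    obtain ⟨a, ha, hae⟩ := hq
    have h1 : QuotientGroup.mk' N a = QuotientGroup.mk' N (g0 * x * g0⁻¹) := by
      rw [hae]; simp
    have h2 : a⁻¹ * (g0 * x * g0⁻¹) ∈ N := by
      have := QuotientGroup.eq.1 h1
      exact this
    have h3 : g0 * x * g0⁻¹ = a * (a⁻¹ * (g0 * x * g0⁻¹)) := by group
    rw [h3]
    exact Subgroup.mul_mem _ (Subgroup.mem_sup_left ha) (Subgroup.mem_sup_right h2)
  have hyp : ∃ k : ℕ, (g0 * x * g0⁻¹) ^ p ^ k = 1 := by
    obtain ⟨k, hk⟩ := P.2 ⟨x, hx⟩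
    have hk' : x ^ p ^ k = 1 := by
      have := congrArg Subtype.val hk
      simpa using this
    exact ⟨k, by rw [conj_pow, hk']; group⟩
  obtain ⟨m0, hm0, hm0P⟩ := TFQ_aux_conj N P hyp hyPN
  -- g1 = m0 g0
  have hg1 : (m0 * g0) * x * (m0 * g0)⁻¹ ∈ (P : Subgroup G) := by
    have : (m0 * g0) * x * (m0 * g0)⁻¹ = m0 * (g0 * x * g0⁻¹) * m0⁻¹ := by group
    rw [this]; exact hm0P
  have hg1q : QuotientGroup.mk' N (m0 * g0) = QuotientGroup.mk' N g0 := by
    rw [map_mul]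
    have : QuotientGroup.mk' N m0 = 1 := (QuotientGroup.eq_one_iff m0).2 hm0
    rw [this, one_mul]
  symm
  refine Nat.card_eq_of_bijective
    (fun c : ↥(N ⊓ Subgroup.centralizer ({x} : Set G)) =>
      (⟨m0 * g0 * (c : G), ?_, ?_⟩ :
        {g : G // g * x * g⁻¹ ∈ (P : Subgroup G) ∧
          QuotientGroup.mk' N g = QuotientGroup.mk' N g0})) ⟨?_, ?_⟩
  · have hc : (c : G) * x = x * (c : G) := by
      have h0 : (c : G) ∈ Subgroup.centralizer ({x} : Set G) := (Subgroup.mem_inf.1 c.2).2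
      rw [Subgroup.mem_centralizer_iff] at h0
      exact (h0 x rfl).symm
    have : m0 * g0 * (c : G) * x * (m0 * g0 * (c : G))⁻¹ = (m0 * g0) * x * (m0 * g0)⁻¹ := by
      have h1 : m0 * g0 * (c : G) * x * (m0 * g0 * (c : G))⁻¹
          = m0 * g0 * ((c : G) * x) * (c : G)⁻¹ * (m0 * g0)⁻¹ := by group
      rw [h1, hc]; group
    rw [this]; exact hg1
  · rw [map_mul, hg1q]
    have : QuotientGroup.mk' N (c : G) = 1 := (QuotientGroup.eq_one_iff (c : G)).2 (Subgroup.mem_inf.1 c.2).1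
    rw [this, mul_one]
  · intro c c' h
    have := congrArg Subtype.val h
    apply Subtype.ext
    exact mul_left_cancel this
  · rintro ⟨g, hgP, hgq⟩
    have hcN : (m0 * g0)⁻¹ * g ∈ N := by
      have : QuotientGroup.mk' N (m0 * g0) = QuotientGroup.mk' N g := by rw [hg1q, hgq]
      exact QuotientGroup.eq.1 this
    set c := (m0 * g0)⁻¹ * g with hc
    have hg : g = m0 * g0 * c := by rw [hc]; group
    have hcomm : c * x * c⁻¹ * x⁻¹ = 1 := by
      have hN1 : c * x * c⁻¹ * x⁻¹ ∈ N := by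
        have : c * x * c⁻¹ * x⁻¹ = c * (x * c⁻¹ * x⁻¹) := by group
        rw [this]
        exact N.mul_mem hcN (Subgroup.Normal.conj_mem inferInstance _ (N.inv_mem hcN) x)
      have hz : (m0 * g0) * (c * x * c⁻¹ * x⁻¹) * (m0 * g0)⁻¹ = 1 := by
        apply TFQ_aux_inf N (P : Subgroup G) P.2 hN
        · have : (m0 * g0) * (c * x * c⁻¹ * x⁻¹) * (m0 * g0)⁻¹
              = (g * x * g⁻¹) * ((m0 * g0) * x * (m0 * g0)⁻¹)⁻¹ := by
            rw [hg]; group
          rw [this]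
          exact Subgroup.mul_mem _ hgP (Subgroup.inv_mem _ hg1)
        · exact Subgroup.Normal.conj_mem inferInstance _ hN1 _
      have := conj_eq_one_iff.1 hz
      exact this
    have hcx : c ∈ Subgroup.centralizer ({x} : Set G) := by
      rw [Subgroup.mem_centralizer_iff]
      intro z hz
      rw [Set.mem_singleton_iff] at hz
      subst hz
      have : c * z = z * c := by
        have h1 : c * z * c⁻¹ * z⁻¹ * z * c = z * c := by rw [hcomm]; group
        rw [← h1]; group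
      exact this.symm
    refine ⟨⟨c, hcN, hcx⟩, ?_⟩
    apply Subtype.ext
    exact hg.symm

/-- TFQ: the fibres of `T_G(x) → T_{G/N}(x̄)` for a normal `p'`-subgroup `N` -/
theorem TFQ {G : Type u} [Group G] [Finite G] (N : Subgroup G) [N.Normal]
    (hN : ¬ p ∣ Nat.card N) (P : Sylow p G) {x : G} (hx : x ∈ (P : Subgroup G)) :
    tc (P : Subgroup G) x
      = tc ((P : Subgroup G).map (QuotientGroup.mk' N)) (QuotientGroup.mk' N x)
        * Nat.card ↥(N ⊓ Subgroup.centralizer ({x} : Set G)) := by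
  unfold tc
  let f : {g : G // g * x * g⁻¹ ∈ (P : Subgroup G)} →
      {q : G ⧸ N // q * QuotientGroup.mk' N x * q⁻¹ ∈ (P : Subgroup G).map (QuotientGroup.mk' N)} :=
    fun g => ⟨QuotientGroup.mk' N g.1, ⟨g.1 * x * g.1⁻¹, g.2, by simp⟩⟩
  haveI : Fintype {q : G ⧸ N // q * QuotientGroup.mk' N x * q⁻¹ ∈
      (P : Subgroup G).map (QuotientGroup.mk' N)} := Fintype.ofFinite _
  rw [Nat.card_congr (Equiv.sigmaFiberEquiv f).symm, Nat.card_sigma]
  have hfib : ∀ q : {q : G ⧸ N // q * QuotientGroup.mk' N x * q⁻¹ ∈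
      (P : Subgroup G).map (QuotientGroup.mk' N)},
      Nat.card {g // f g = q} = Nat.card ↥(N ⊓ Subgroup.centralizer ({x} : Set G)) := by
    intro q
    rw [← TFQ_aux_fibre N hN P hx q.1 q.2]
    refine Nat.card_congr ⟨fun g => ⟨g.1.1, g.1.2, congrArg Subtype.val g.2⟩,
      fun g => ⟨⟨g.1, g.2.1⟩, Subtype.ext g.2.2⟩, ?_, ?_⟩
    · intro g; rfl
    · intro g; rfl
  simp only [hfib, Finset.sum_const, Finset.card_univ, smul_eq_mul, Nat.card_eq_fintype_card]

end Cfsg.Agent.S4091P
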