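import Mathlib
import Cfsg.Agent.Helper27.S4150Defs

/-! # S4150, piece ALTCL -/

set_option autoImplicit false

namespace Cfsg.Agent.S4150P

open Equiv Equiv.Perm MulAction

namespace ALTCL

/-- closure inside a subgroup is isomorphic to the closure of the images in the ambient group -/
noncomputable def closureEquiv {G : Type*} [Group G] (K : Subgroup G) (S : Set ↥K) :
    Subgroup.closure S ≃* Subgroup.closure (K.subtype '' S) :=
  ((Subgroup.closure S).equivMapOfInjective K.subtype K.subtype_injective).trans
    (MulEquiv.subgroupCongr (MonoidHom.map_closure K.subtype S))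

end ALTCL

/-- ALTCL [S-M]: the closure inside `alternatingGroup (Fin m)` is isomorphic to the closure of the
underlying permutations. -/
theorem ALTCL.main (m : ℕ) (x y : alternatingGroup (Fin m)) :
    Nonempty (Subgroup.closure ({x, y} : Set (alternatingGroup (Fin m))) ≃*
      Subgroup.closure ({(x : Perm (Fin m)), (y : Perm (Fin m))} : Set (Perm (Fin m)))) := by
  have h := ALTCL.closureEquiv (alternatingGroup (Fin m)) ({x, y} : Set (alternatingGroup (Fin m)))
  have himg : (alternatingGroup (Fin m)).subtype '' ({x, y} : Set (alternatingGroup (Fin m))) =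
      ({(x : Perm (Fin m)), (y : Perm (Fin m))} : Set (Perm (Fin m))) := by
    rw [Set.image_pair]
    rfl
  rw [himg] at h
  exact ⟨h⟩

end Cfsg.Agent.S4150P
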