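import Mathlib
import Cfsg.Prelude.Def_Blocks
import Cfsg.Prelude.Def_BlockRank
import Cfsg.Agent.Helper5.S4607Defs
import Cfsg.Agent.Helper5.BlockRankOne
import Cfsg.Agent.Helper5.DefectOrder
import Cfsg.Agent.Helper8.BrauerFeit
import Cfsg.Agent.Helper8.D1Core
import Cfsg.Agent.Helper23.KleinLocalA

set_option autoImplicit false
set_option linter.unusedSectionVars false

/-! S4607 piece CONV. -/

namespace Cfsg.Agent.S4607P

open Cfsg Cfsg.Agent.Helper5.Res Cfsg.Agent.Helper5.CC Cfsg.Agent.Helper24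

section Block

variable {M : Ideal AlgInt} [hMax : M.IsMaximal] {G : Type*} [Group G] [Fintype G]
  [Fintype (IrrCharacter G)]

variable {p : ℕ} [hp : Fact p.Prime]

/-- CONV: a block of defect one for the prime two has two characters -/
theorem card_eq_two_of_defect (hM : IsPModular p M) (B : Set (IrrCharacter G))
    (hB : IsPBlock M B) (hd : p ^ blockDefect p B = 2) : Nat.card B = 2 := by
  classical
  have hMp := Cfsg.Agent.Helper5.Loc.isPrime_of_isPModular hM
  have hfin : Finite G := Finite.of_fintype G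
  obtain ⟨χ₀, hχ₀⟩ := IsPBlock.nonempty hMp hB
  -- `p = 2`, `d = 1`
  have hp2 : p = 2 := by
    have hd0 : blockDefect p B ≠ 0 := by
      intro h0
      rw [h0, pow_zero] at hd
      omega
    have : p ∣ 2 := by
      rw [← hd]
      exact dvd_pow_self p hd0
    exact (Nat.prime_dvd_prime_iff_eq hp.out Nat.prime_two).mp this
  subst hp2
  have hd1 : blockDefect 2 B = 1 := by
    have : (2 : ℕ) ^ blockDefect 2 B = 2 ^ 1 := by rw [hd, pow_one]
    exact Nat.pow_right_injective (le_refl 2) this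
  have hBF := Cfsg.Agent.Helper8.BF.four_mul_card_le hM hB
  rw [hd1] at hBF
  have hle : Nat.card B ≤ 2 := by
    have h4 : (2 : ℕ) ^ (2 * 1) = 4 := by norm_num
    rw [h4] at hBF
    omega
  have hBfin : Finite B := Subtype.finite
  have hpos : 0 < Nat.card B := by
    have : Nonempty B := ⟨⟨χ₀, hχ₀⟩⟩
    exact Nat.card_pos
  by_contra hne
  have h1 : Nat.card B = 1 := by omega
  -- the block rank is one
  have hrk : blockRank 2 B = 1 := by
    have hpos' := Cfsg.Agent.Helper23.KLA.blockRank_pos (G := G) 2 (B := B) ⟨χ₀, hχ₀⟩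
    have hle' := Cfsg.Agent.Helper8.D1.card_add_blockRank_le (G := G) 2 B
      (κ := Fin 0) (fun k _ => Fin.elim0 k) (fun k => Fin.elim0 k) (fun k => Fin.elim0 k)
      (fun c _ k => Fin.elim0 k)
    rw [Fintype.card_fin, h1] at hle'
    omega
  obtain ⟨φ, d, -, -, hsum⟩ := Cfsg.Agent.Helper5.BR1.cartan_rank_one hM hB hrk
  rw [hd] at hsum
  -- `B = {χ₀}`
  have huniq : ∀ χ ∈ B, χ = χ₀ := by
    intro χ hχ
    obtain ⟨x, hx⟩ := Nat.card_eq_one_iff_unique.mp h1
    have h2 := @Subsingleton.elim _ x ⟨χ, hχ⟩ ⟨χ₀, hχ₀⟩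
    exact congrArg Subtype.val h2
  have hsum' : (∑ χ : IrrCharacter G, if χ ∈ B then d χ ^ 2 else 0) = d χ₀ ^ 2 := by
    rw [Finset.sum_eq_single χ₀]
    · rw [if_pos hχ₀]
    · intro χ _ hχ
      rw [if_neg (fun h => hχ (huniq χ h))]
    · intro h
      exact absurd (Finset.mem_univ χ₀) h
  rw [hsum'] at hsum
  -- no square equals two
  have : d χ₀ < 2 := by
    by_contra hge
    have : 2 ≤ d χ₀ := by omega
    nlinarith
  interval_cases (d χ₀) <;> omega

end Block

end Cfsg.Agent.S4607P
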