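import Mathlib
import Cfsg.Agent.Helper1.W2pDefs
import Cfsg.Agent.Helper24.TwoTransitive
import Cfsg.Agent.Lead.PairSignDefs

/-!
# S4706 piece BD: consequences of `BrauerData` with `e = 2` for a 2-transitive group of degree `p`
-/

set_option autoImplicit false

namespace Cfsg.Agent.Helper8.S4706

open Cfsg Cfsg.Agent.Helper24 Cfsg.Agent.Helper1.W2p Cfsg.Agent.Lead.PairSign MulAction

universe u v

/-- in a transitive group of prime degree `p` with Sylow `p`-subgroups of order `p`, the non-identity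
elements of a Sylow `p`-subgroup have no fixed points -/
theorem card_fixedBy_eq_zero {H : Type u} [Group H] [Finite H] {Ω : Type v} [Finite Ω]
    [MulAction H Ω] [IsPretransitive H Ω] (p : ℕ) [Fact p.Prime] (hΩ : Nat.card Ω = p)
    (P : Sylow p H) (hP : Nat.card P = p) (y : H) (hy : y ∈ (P : Subgroup H)) (hy1 : y ≠ 1) :
    Nat.card (fixedBy Ω y) = 0 := by
  have hp := (Fact.out : p.Prime)
  rw [Nat.card_eq_zero]
  left
  rw [Set.isEmpty_coe_sort, Set.eq_empty_iff_forall_notMem]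
  intro x hx
  rw [mem_fixedBy] at hx
  -- `y` has order `p`
  have hord : orderOf y = p := by
    have h1 : orderOf (⟨y, hy⟩ : (P : Subgroup H)) ∣ p := by
      have := orderOf_dvd_natCard (⟨y, hy⟩ : (P : Subgroup H))
      rwa [hP] at this
    rw [Subgroup.orderOf_mk] at h1
    rcases (Nat.dvd_prime hp).1 h1 with h | h
    · exact absurd (orderOf_eq_one_iff.1 h) hy1
    · exact h
  -- `p ∣ |H_x|`
  have hyS : y ∈ stabilizer H x := hx
  have h2 : p ∣ Nat.card (stabilizer H x) := by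
    have := orderOf_dvd_natCard (⟨y, hyS⟩ : stabilizer H x)
    rwa [Subgroup.orderOf_mk, hord] at this
  -- `|H| = p * |H_x|`
  have h3 : Nat.card (stabilizer H x) * p = Nat.card H := by
    have := Subgroup.card_mul_index (stabilizer H x)
    rwa [index_stabilizer_of_transitive, hΩ] at this
  -- but `p² ∤ |H|`
  have hcardR : Nat.card P = p ^ (Nat.card H).factorization p := P.card_eq_multiplicity
  have hfac : (Nat.card H).factorization p = 1 := by
    rw [hP] at hcardR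
    have h1 : p ^ 1 = p ^ (Nat.card H).factorization p := by rw [pow_one]; exact hcardR
    exact (Nat.pow_right_injective hp.two_le h1).symm
  have h0 : Nat.card H ≠ 0 := Nat.card_pos.ne'
  have hsq : ¬ p ^ 2 ∣ Nat.card H := fun h => by
    have := (hp.pow_dvd_iff_le_factorization h0).mp h
    omega
  apply hsq
  rw [← h3, pow_two]
  exact Nat.mul_dvd_mul_right h2 p

theorem brauer_two {H : Type u} [Group H] [Fintype H] {Ω : Type v} [Fintype Ω]
    [MulAction H Ω] [FaithfulSMul H Ω] (p : ℕ) [Fact p.Prime] (hp5 : 5 ≤ p)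
    (hΩ : Fintype.card Ω = p) (h2 : IsMultiplyPretransitive H Ω 2)
    (P : Sylow p H) (hP : Nat.card P = p) (he : eN (P : Subgroup H) = 2)
    (D : BrauerData p (P : Subgroup H)) :
    ∃ χ₀ : IrrCharacter H, (∀ g : H, (χ₀ : H → ℂ) g = (Nat.card (fixedBy Ω g) : ℂ) - 1) ∧
      χ₀ ∉ D.Y ∧ Nat.card D.Y * 2 = p - 1 ∧
      ∀ ψ ∈ D.Y, ∀ g : H, ¬ p ∣ orderOf g →
        (ψ : H → ℂ) g = (Nat.card (fixedBy Ω g) : ℂ) - 2 := by
  classical
  have hp := (Fact.out : p.Prime)
  haveI : IsPretransitive H Ω := isPretransitive_of_is_two_pretransitive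
  have hcardΩ : Nat.card Ω = p := by rw [Nat.card_eq_fintype_card, hΩ]
  have hirr : IsIrrCharacter H (fun g => (Nat.card (fixedBy Ω g) : ℂ) - 1) :=
    (isIrrCharacter_permChar_sub_one_iff Ω (by rw [hcardΩ]; omega)).2 h2
  obtain ⟨χ₀, hχ₀def⟩ : ∃ χ₀ : IrrCharacter H,
      (χ₀ : H → ℂ) = fun g => (Nat.card (fixedBy Ω g) : ℂ) - 1 := ⟨⟨_, hirr⟩, rfl⟩
  have hχ₀ : ∀ g : H, (χ₀ : H → ℂ) g = (Nat.card (fixedBy Ω g) : ℂ) - 1 := fun g => by
    rw [hχ₀def]
  have hfpf : ∀ y ∈ (P : Subgroup H), y ≠ 1 → Nat.card (fixedBy Ω y) = 0 :=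
    fun y hy hy1 => card_fixedBy_eq_zero p hcardΩ P hP y hy hy1
  have hχ₀y : ∀ y ∈ (P : Subgroup H), y ≠ 1 → (χ₀ : H → ℂ) y = -1 := by
    intro y hy hy1
    rw [hχ₀, hfpf y hy hy1]
    simp
  -- a non-identity element of `P`
  obtain ⟨y₀, hy₀P, hy₀1⟩ : ∃ y ∈ (P : Subgroup H), y ≠ 1 := by
    by_contra hno
    push Not at hno
    have : (P : Subgroup H) = ⊥ := (Subgroup.eq_bot_iff_forall _).2 hno
    rw [this] at hP
    simp at hP
    omega
  have hεsq : (D.ε : ℂ) * (D.ε : ℂ) = 1 := by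
    rcases D.ε_pm with h | h <;> rw [h] <;> simp
  -- `χ₀` is not exceptional
  have hnotY : χ₀ ∉ D.Y := by
    intro hY
    letI : Fintype ↥(P : Subgroup H) := Fintype.ofFinite _
    have hLam : ∀ y : ↥(P : Subgroup H), y ≠ 1 →
        D.Lam χ₀ (y : H) * (starRingEnd ℂ) (D.Lam χ₀ (y : H)) = 1 := by
      intro y hy
      have hy1 : (y : H) ≠ 1 := fun h => hy (Subtype.ext h)
      have h1 := D.val_Y χ₀ hY y y.2 hy1
      rw [hχ₀y y y.2 hy1] at h1
      have h2 : D.Lam χ₀ (y : H) = -(D.ε : ℂ) := by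
        have : (D.ε : ℂ) * (-1) = (D.ε : ℂ) * ((D.ε : ℂ) * D.Lam χ₀ (y : H)) := by rw [h1]
        rw [← mul_assoc, hεsq, one_mul] at this
        rw [← this]; ring
      rw [h2]
      rcases D.ε_pm with h | h <;> rw [h] <;> simp
    have h1 := D.Lam_norm χ₀ hY
    rw [finsum_eq_sum_of_fintype,
      ← Finset.add_sum_erase Finset.univ _ (Finset.mem_univ (1 : ↥(P : Subgroup H)))] at h1
    rw [Finset.sum_congr rfl (fun y hy => hLam y (Finset.mem_erase.1 hy).1)] at h1
    rw [Finset.sum_const, Finset.card_erase_of_mem (Finset.mem_univ _), Finset.card_univ,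
      ← Nat.card_eq_fintype_card, hP, Subgroup.coe_one, D.Lam_one χ₀ hY, he] at h1
    have h2 : ((2 : ℕ) : ℂ) * (starRingEnd ℂ) ((2 : ℕ) : ℂ) + (p - 1) • (1 : ℂ) =
        ((4 + (p - 1) : ℕ) : ℂ) := by
      rw [nsmul_eq_mul, mul_one]
      push_cast
      rw [Complex.conj_ofNat]
      norm_num
    rw [h2] at h1
    have h3 : 4 + (p - 1) = p * 2 := by exact_mod_cast h1
    omega
  -- so `χ₀ ∈ X` with sign `-1`
  have hX : χ₀ ∈ D.X := by
    by_contra hnX
    have h1 := D.val_other χ₀ hnX hnotY y₀ hy₀P hy₀1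
    rw [hχ₀y y₀ hy₀P hy₀1] at h1
    norm_num at h1
  have hδ : D.δ χ₀ = -1 := by
    have h1 := D.val_X χ₀ hX y₀ hy₀P hy₀1
    rw [hχ₀y y₀ hy₀P hy₀1] at h1
    have h2 : ((D.δ χ₀ : ℤ) : ℂ) = ((-1 : ℤ) : ℂ) := by rw [← h1]; simp
    exact_mod_cast h2
  have hne : trivIrr H ≠ χ₀ := by
    intro h
    have h1 := D.δ_triv
    rw [h, hδ] at h1
    norm_num at h1
  have hXeq : D.X = {trivIrr H, χ₀} := by
    symm
    apply Set.eq_of_subset_of_ncard_le
    · intro χ hχ
      rcases hχ with rfl | rfl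
      · exact D.triv_mem
      · exact hX
    · rw [Set.ncard_pair hne, ← Nat.card_coe_set_eq, D.card_X, he]
    · exact Set.toFinite _
  have hrel : ∀ ψ ∈ D.Y, ∀ g : H, ¬ p ∣ orderOf g →
      2 - (Nat.card (fixedBy Ω g) : ℂ) = (D.ε : ℂ) * (ψ : H → ℂ) g := by
    intro ψ hψ g hg
    have h1 := D.rel ψ hψ g hg
    rw [hXeq, finsum_mem_pair hne, D.δ_triv, hδ, trivIrr_apply, hχ₀] at h1
    rw [← h1]
    push_cast
    ring
  refine ⟨χ₀, hχ₀, hnotY, by rw [← he]; exact D.card_Y, ?_⟩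
  intro ψ hψ g hg
  have h1 := hrel ψ hψ 1 (by
    rw [orderOf_one]
    intro h
    have := Nat.le_of_dvd Nat.one_pos h
    omega)
  have hfix1 : Nat.card (fixedBy Ω (1 : H)) = p := by
    rw [fixedBy_one_eq_univ, Nat.card_coe_set_eq, Set.ncard_univ, hcardΩ]
  rw [hfix1, irrDeg_spec] at h1
  have hε : D.ε = -1 := by
    rcases D.ε_pm with h | h
    · exfalso
      rw [h] at h1
      have h2 : ((2 : ℤ) : ℂ) - ((p : ℤ) : ℂ) = (((irrDeg ψ : ℕ) : ℤ) : ℂ) := by
        push_cast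
        rw [h1]
        push_cast
        ring
      have h3 : (2 : ℤ) - (p : ℤ) = ((irrDeg ψ : ℕ) : ℤ) := by exact_mod_cast h2
      have := irrDeg_pos ψ
      omega
    · exact h
  have h2 := hrel ψ hψ g hg
  rw [hε] at h2
  push_cast at h2
  linear_combination h2

end Cfsg.Agent.Helper8.S4706
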