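import Mathlib

/-!
S4751 pieces ABS, ARITH1, ARITH2 (pure arithmetic).
-/

set_option autoImplicit false

namespace Cfsg.Agent.S4751P

open scoped ComplexConjugate

/-- ABS -/
theorem abs_of_root (z : ℂ) (n : ℕ) (hn : 0 < n) (h : z ^ n = 1) : z * conj z = 1 := by
  have h1 : ‖z‖ = 1 := Complex.norm_eq_one_of_pow_eq_one h hn.ne'
  rw [Complex.mul_conj, Complex.normSq_eq_norm_sq, h1]
  norm_num

/-- ARITH1 -/
theorem arith_clifford (p k e t d : ℕ) (hp : p.Prime) (hk : 1 ≤ k) (hd : d ∣ p ^ k) (he : 1 ≤ e)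
    (ht : 1 ≤ t) (heq : e * e * t * p ^ k + 1 = (e * t * d) ^ 2 + p ^ k) (hnl : e * t * d ≠ 1) :
    d = 1 ∧ e = 1 ∧ t + 1 = p ^ k := by
  have hpk : p ∣ p ^ k := dvd_pow_self p (by omega)
  -- d = 1
  have hd1 : d = 1 := by
    by_contra hne
    obtain ⟨j, hj, hdj⟩ := (Nat.dvd_prime_pow hp).mp hd
    have hj0 : j ≠ 0 := by
      intro h0
      rw [h0, pow_zero] at hdj
      exact hne hdj
    have hpd : p ∣ d := by
      rw [hdj]
      exact dvd_pow_self p hj0
    have h1 : p ∣ (e * t * d) ^ 2 + p ^ k :=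
      dvd_add (dvd_pow (Dvd.dvd.mul_left hpd _) (by norm_num)) hpk
    have h2 : p ∣ e * e * t * p ^ k := Dvd.dvd.mul_left hpk _
    rw [← heq] at h1
    have h3 : p ∣ 1 := (Nat.dvd_add_right h2).mp h1
    exact hp.one_lt.ne' (Nat.dvd_one.mp h3)
  subst hd1
  set q := p ^ k with hq
  have hq2 : 2 ≤ q := by
    calc 2 ≤ p := hp.two_le
      _ ≤ p ^ k := Nat.le_self_pow (by omega) p
  rw [mul_one] at heq hnl
  -- t < q
  have htq : t < q := by
    by_contra hge
    rw [not_lt] at hge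
    have h1 : e * e * t * q ≤ e * e * t * t := Nat.mul_le_mul_left _ hge
    have h2 : (e * t) ^ 2 = e * e * t * t := by ring
    have h3 : 1 ≤ e * e * t := by
      have := Nat.mul_le_mul (Nat.mul_le_mul he he) ht
      simpa using this
    nlinarith
  obtain ⟨a, ha⟩ : ∃ a, q = t + a := ⟨q - t, by omega⟩
  have ha1 : 1 ≤ a := by omega
  -- e² t a = t + a - 1
  have hmain : e * e * t * a + 1 = t + a := by
    have h2 : (e * t) ^ 2 = e * e * t * t := by ring
    rw [h2, ha] at heq
    nlinarith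
  have hee : 1 ≤ e * e := by nlinarith
  -- t a ≥ t + a - 1, equality analysis
  have hta : t * a + 1 ≥ t + a := by nlinarith
  have hle : e * e * t * a ≤ t * a := by nlinarith
  have hge : t * a ≤ e * e * t * a := by
    have : 1 * (t * a) ≤ e * e * (t * a) := Nat.mul_le_mul_right _ hee
    calc t * a = 1 * (t * a) := by ring
      _ ≤ e * e * (t * a) := this
      _ = e * e * t * a := by ring
  have heq2 : e * e * t * a = t * a := le_antisymm hle hge
  have hta0 : 0 < t * a := Nat.mul_pos (by omega) (by omega)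
  have hee1 : e * e = 1 := by
    have : e * e * (t * a) = 1 * (t * a) := by rw [one_mul]; rw [← mul_assoc]; exact heq2
    exact Nat.eq_of_mul_eq_mul_right hta0 this
  have he1 : e = 1 := by
    rcases Nat.lt_or_ge e 2 with h | h
    · omega
    · nlinarith
  subst he1
  have hprod : t * a + 1 = t + a := by
    have := hmain
    simpa using this
  -- (t-1)(a-1) = 0
  have hcase : t = 1 ∨ a = 1 := by
    by_contra hcon
    rw [not_or] at hcon
    have h1 : 2 ≤ t := by omega
    have h2 : 2 ≤ a := by omega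
    nlinarith
  rcases hcase with h | h
  · exfalso
    apply hnl
    rw [h]
  · refine ⟨rfl, rfl, ?_⟩
    rw [ha, h]

/-- ARITH2 -/
theorem arith_sylow (p a b m : ℕ) (hp : p.Prime) (hq : 3 ≤ p ^ a)
    (heq : p ^ a * p ^ b * m + 1 = (p ^ a - 1) ^ 2 + p ^ a * p ^ b) :
    b = 0 ∨ (p = 2 ∧ b = 1) := by
  have ha0 : a ≠ 0 := by
    intro h0
    rw [h0, pow_zero] at hq
    omega
  set q := p ^ a with hqdef
  set k := p ^ b with hkdef
  obtain ⟨r, hr⟩ : ∃ r, q = r + 2 := ⟨q - 2, by omega⟩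
  have hsq : (q - 1) ^ 2 = r * q + 1 := by
    have : q - 1 = r + 1 := by omega
    rw [this, hr]
    ring
  -- k * m = r + k
  have hkm : k * m = r + k := by
    rw [hsq] at heq
    have h1 : q * (k * m) = q * (r + k) := by nlinarith
    exact Nat.eq_of_mul_eq_mul_left (by omega) h1
  rcases Nat.eq_zero_or_pos b with hb | hb
  · left; exact hb
  · right
    have hpk : p ∣ k := dvd_pow_self p hb.ne'
    have hpq : p ∣ q := dvd_pow_self p ha0
    have hpr : p ∣ r := by
      have h1 : p ∣ k * m := Dvd.dvd.mul_right hpk m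
      rw [hkm] at h1
      exact (Nat.dvd_add_left hpk).mp h1
    have hp2 : p ∣ 2 := by
      have h1 : p ∣ r + 2 := hr ▸ hpq
      exact (Nat.dvd_add_right hpr).mp h1
    have hp2' : p = 2 := (Nat.prime_dvd_prime_iff_eq hp Nat.prime_two).mp hp2
    refine ⟨hp2', ?_⟩
    by_contra hb1
    have hb2 : 2 ≤ b := by omega
    -- 4 ∣ k, so 4 ∣ r; also 4 ∣ q (a ≥ 2), contradiction with q = r + 2
    have h4k : 4 ∣ k := by
      rw [hkdef, hp2']
      exact (by norm_num : (4 : ℕ) = 2 ^ 2) ▸ pow_dvd_pow 2 hb2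
    have h4r : 4 ∣ r := by
      have h1 : 4 ∣ k * m := Dvd.dvd.mul_right h4k m
      rw [hkm] at h1
      exact (Nat.dvd_add_left h4k).mp h1
    have ha2 : 2 ≤ a := by
      by_contra hlt
      have : a = 1 := by omega
      rw [hqdef, this, hp2'] at hq
      norm_num at hq
    have h4q : 4 ∣ q := by
      rw [hqdef, hp2']
      exact (by norm_num : (4 : ℕ) = 2 ^ 2) ▸ pow_dvd_pow 2 ha2
    rw [hr] at h4q
    have : 4 ∣ 2 := (Nat.dvd_add_right h4r).mp h4q
    omega

end Cfsg.Agent.S4751P
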