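import Mathlib
import Cfsg.Prelude.Def_Characters
import Cfsg.Agent.Helper21.S4751KEY
import Cfsg.Agent.Helper21.S4751ZCH

set_option autoImplicit false

namespace Cfsg.Agent.S4751P

open scoped ComplexConjugate

universe u

variable {G : Type u} [Group G] [Finite G]

/-- CENTa -/
theorem mem_of_pElement (p : ℕ) [Fact p.Prime] (χ : G → ℂ) (hχ : Cfsg.IsCharacter G χ) (hnl : χ 1 ≠ 1)
    (P : Subgroup G) (hPp : IsPGroup p P)
    (habs : ∀ g : G, p ∣ orderOf g → χ g * conj (χ g) = 1)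
    (hab : ∀ a ∈ P, ∀ b ∈ P, a * b = b * a) (h1 : χ 1 = (Nat.card P : ℂ) - 1)
    (hm1 : ∀ y ∈ P, y ≠ 1 → χ y = -1) (c : G) (hc : ∀ y ∈ P, c * y = y * c)
    (k : ℕ) (hck : c ^ (p ^ k) = 1) : c ∈ P := by
  classical
  have hpp : p.Prime := Fact.out
  haveI : Fintype P := Fintype.ofFinite P
  by_contra hcP
  have hkey := key_sum χ hχ P hab h1 hm1 c hc
  have hterm : ∀ y : P, χ (c * y) * conj (χ (c * y)) = 1 := by
    intro y
    apply habs
    obtain ⟨j, hj⟩ := hPp y
    have hj' : (y : G) ^ (p ^ j) = 1 := by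
      have := congrArg Subtype.val hj
      simpa using this
    have hcomm : Commute c (y : G) := hc y y.2
    have hpow : (c * (y : G)) ^ (p ^ (k + j)) = 1 := by
      rw [hcomm.mul_pow, pow_add, pow_mul, hck, one_pow, mul_comm (p ^ k), pow_mul, hj', one_pow,
        mul_one]
    have hdvd : orderOf (c * (y : G)) ∣ p ^ (k + j) := orderOf_dvd_of_pow_eq_one hpow
    obtain ⟨i, hi, hio⟩ := (Nat.dvd_prime_pow hpp).mp hdvd
    rcases Nat.eq_zero_or_pos i with h0 | h0
    · exfalso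
      rw [h0, pow_zero, orderOf_eq_one_iff] at hio
      apply hcP
      have : c = (y : G)⁻¹ := eq_inv_of_mul_eq_one_left hio
      rw [this]
      exact P.inv_mem y.2
    · rw [hio]
      exact dvd_pow_self p h0.ne'
  rw [Finset.sum_congr rfl (fun y _ => hterm y), Finset.sum_const, Finset.card_univ, nsmul_eq_mul,
    mul_one, ← Nat.card_eq_fintype_card] at hkey
  have hq0 : (Nat.card P : ℂ) ≠ 0 := by
    exact_mod_cast (Nat.card_pos (α := P)).ne'
  apply hnl
  rw [h1]
  have : (Nat.card P : ℂ) * 1 = (Nat.card P : ℂ) * ((Nat.card P : ℂ) - 1) := by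
    rw [mul_one]; exact hkey
  exact (mul_left_cancel₀ hq0 this).symm

/-- CENTb -/
theorem mem_center_of_pPrime (p : ℕ) [Fact p.Prime] (χ : G → ℂ) (hχ : Cfsg.IsIrrCharacter G χ)
    (hfaith : ∀ g : G, χ g = χ 1 → g = 1)
    (P : Subgroup G) (hPp : IsPGroup p P)
    (habs : ∀ g : G, p ∣ orderOf g → χ g * conj (χ g) = 1)
    (hab : ∀ a ∈ P, ∀ b ∈ P, a * b = b * a) (h1 : χ 1 = (Nat.card P : ℂ) - 1)
    (hm1 : ∀ y ∈ P, y ≠ 1 → χ y = -1) (c : G) (hc : ∀ y ∈ P, c * y = y * c)
    (hcp : ¬ p ∣ orderOf c) : c ∈ Subgroup.center G := by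
  classical
  have hpp : p.Prime := Fact.out
  haveI : Fintype P := Fintype.ofFinite P
  have hχc : Cfsg.IsCharacter G χ := by
    obtain ⟨n, ρ, _, h⟩ := hχ
    exact ⟨n, ρ, h⟩
  have hkey := key_sum χ hχc P hab h1 hm1 c hc
  rw [center_iff_norm χ hχ hfaith c]
  have hterm : ∀ y ∈ Finset.univ.erase (1 : P), χ (c * (y : G)) * conj (χ (c * (y : G))) = 1 := by
    intro y hy
    have hy1 : y ≠ 1 := Finset.ne_of_mem_erase hy
    apply habs
    obtain ⟨j, hj⟩ := hPp y
    have hj' : (y : G) ^ (p ^ j) = 1 := by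
      have := congrArg Subtype.val hj
      simpa using this
    have hdvd : orderOf (y : G) ∣ p ^ j := orderOf_dvd_of_pow_eq_one hj'
    obtain ⟨i, hi, hio⟩ := (Nat.dvd_prime_pow hpp).mp hdvd
    have hi0 : i ≠ 0 := by
      intro h0
      rw [h0, pow_zero, orderOf_eq_one_iff] at hio
      apply hy1
      exact Subtype.ext hio
    have hcomm : Commute c (y : G) := hc y y.2
    have hcop : Nat.Coprime (orderOf c) (orderOf (y : G)) := by
      rw [hio]
      apply Nat.Coprime.pow_right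
      exact (Nat.Coprime.symm ((Nat.Prime.coprime_iff_not_dvd hpp).mpr hcp))
    rw [hcomm.orderOf_mul_eq_mul_orderOf_of_coprime hcop, hio]
    exact Dvd.dvd.mul_left (dvd_pow_self p hi0) _
  rw [← Finset.add_sum_erase Finset.univ _ (Finset.mem_univ (1 : P)),
    Finset.sum_congr rfl hterm, Finset.sum_const, Finset.card_erase_of_mem (Finset.mem_univ _),
    Finset.card_univ, nsmul_eq_mul, mul_one, ← Nat.card_eq_fintype_card] at hkey
  have h3 : ((1 : P) : G) = 1 := rfl
  rw [h3, mul_one] at hkey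
  have hpos : 1 ≤ Nat.card P := Nat.card_pos
  rw [h1]
  push_cast [Nat.cast_sub hpos] at hkey
  linear_combination hkey

end Cfsg.Agent.S4751P
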