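import Mathlib
import Cfsg.Prelude.Def_Characters
import Cfsg.Agent.Helper8.S4751CENTab
import Cfsg.Agent.Helper14.S4751CENTcGen
import Cfsg.Agent.Helper21.S4751ZCH

/-!
S4751 piece CENTc: wrapper over helper14's `CENTc.centralizer_structure_of`.
-/

set_option autoImplicit false

namespace Cfsg.Agent.S4751P

open scoped ComplexConjugate

universe u

variable {G : Type u} [Group G] [Finite G]

/-- CENTc -/
theorem centralizer_structure (p : ℕ) [Fact p.Prime] (χ : G → ℂ) (hχ : Cfsg.IsIrrCharacter G χ)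
    (hfaith : ∀ g : G, χ g = χ 1 → g = 1) (hnl : χ 1 ≠ 1)
    (P : Subgroup G) (hPp : IsPGroup p P)
    (habs : ∀ g : G, p ∣ orderOf g → χ g * conj (χ g) = 1)
    (hab : ∀ a ∈ P, ∀ b ∈ P, a * b = b * a) (h1 : χ 1 = (Nat.card P : ℂ) - 1)
    (hm1 : ∀ y ∈ P, y ≠ 1 → χ y = -1) :
    Subgroup.centralizer (P : Set G) = P ⊔ Subgroup.center G ∧ P ⊓ Subgroup.center G = ⊥ ∧
      ¬ p ∣ Nat.card (Subgroup.center G) :=
  CENTc.centralizer_structure_of p χ hnl P hPp habs hab h1 (center_iff_norm χ hχ hfaith)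
    (fun c hc k hck => mem_of_pElement p χ (by obtain ⟨n, ρ, _, h⟩ := hχ; exact ⟨n, ρ, h⟩)
      hnl P hPp habs hab h1 hm1 c hc k hck)
    (fun c hc hcp => mem_center_of_pPrime p χ hχ hfaith P hPp habs hab h1 hm1 c hc hcp)

end Cfsg.Agent.S4751P
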