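import Mathlib
import Cfsg.Prelude.Def_Characters
import Cfsg.Agent.Helper8.S4751ARITH
import Cfsg.Agent.Helper8.CharComp
import Cfsg.Agent.Helper24.Clifford
import Cfsg.Agent.Helper24.Expansion
import Cfsg.Agent.Helper24.Abelian
import Cfsg.Agent.Helper24.SmallDegree

/-!
S4751 piece CLF: Clifford theory + norm count for the restriction to the normal `p`-subgroup.
-/

set_option autoImplicit false

namespace Cfsg.Agent.S4751P

open scoped ComplexConjugate
open Cfsg.Agent.Helper24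

universe u

variable {G : Type u} [Group G] [Finite G]

/-- CLF -/
theorem clifford_lin (p : ℕ) [Fact p.Prime] (χ : G → ℂ) (hχ : Cfsg.IsIrrCharacter G χ) (hnl : χ 1 ≠ 1)
    (P : Subgroup G) [hN : P.Normal] (hPp : IsPGroup p P) (hP1 : P ≠ ⊥)
    (habs : ∀ y ∈ P, y ≠ 1 → χ y * conj (χ y) = 1) :
    ∃ T : Finset (P → ℂ), (∀ ψ ∈ T, Cfsg.IsIrrCharacter P ψ ∧ ψ 1 = 1) ∧ T.card + 1 = Nat.card P ∧
      (∀ y : P, χ y = ∑ ψ ∈ T, ψ y) ∧
      (∀ ψ ∈ T, ∀ ψ' ∈ T, ∃ g : G, ∀ x : P, ψ' x = ψ ⟨g * x * g⁻¹, hN.conj_mem x x.2 g⟩) := by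
  classical
  have hpp : p.Prime := Fact.out
  haveI : Fintype G := Fintype.ofFinite G
  haveI : Fintype P := Fintype.ofFinite P
  haveI : Fintype (Cfsg.IrrCharacter P) := Fintype.ofFinite _
  have hχc : Cfsg.IsCharacter G χ := IsIrrCharacter.isCharacter hχ
  have hres : Cfsg.IsCharacter P (fun n : P => χ n) :=
    Cfsg.Agent.Helper8.isCharacter_restrict P hχc
  -- degree of χ
  obtain ⟨D, hD0, hD⟩ : ∃ D : ℕ, 0 < D ∧ χ 1 = D := by
    refine ⟨irrDeg ⟨χ, hχ⟩, irrDeg_pos _, irrDeg_spec ⟨χ, hχ⟩⟩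
  -- a constituent
  have hexp := IsCharacter.eq_sum_classInner hres
  obtain ⟨θ, hθne⟩ : ∃ θ : Cfsg.IrrCharacter P,
      Cfsg.classInner (fun n : P => χ n) (θ : P → ℂ) ≠ 0 := by
    by_contra hcon
    rw [not_exists] at hcon
    have h0 : (fun n : P => χ n) = 0 := by
      rw [hexp]
      apply Finset.sum_eq_zero
      intro ψ _
      have := hcon ψ
      rw [not_not] at this
      rw [this, zero_smul]
    have h1 : χ 1 = 0 := by
      have := congrFun h0 1
      simpa using this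
    rw [hD] at h1
    have : D = 0 := by exact_mod_cast h1
    omega
  have hcl := clifford_finset P hχ θ.2 hθne
  obtain ⟨m, hm⟩ := IsCharacter.classInner_irr_nat hres θ
  have hm0 : m ≠ 0 := by
    intro h0
    apply hθne
    rw [hm, h0]
    simp
  set T : Finset (P → ℂ) := Finset.univ.image (conjFun P (θ : P → ℂ)) with hT
  rw [hm] at hcl
  have hTirr : ∀ ψ ∈ T, Cfsg.IsIrrCharacter P ψ := by
    intro ψ hψ
    rw [hT, Finset.mem_image] at hψ
    obtain ⟨g, _, rfl⟩ := hψ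
    exact isIrrCharacter_conjFun P θ.2 g
  have hTone : ∀ ψ ∈ T, ψ 1 = (irrDeg θ : ℂ) := by
    intro ψ hψ
    rw [hT, Finset.mem_image] at hψ
    obtain ⟨g, _, rfl⟩ := hψ
    rw [conjFun_apply, ← irrDeg_spec θ]
    have : (⟨g * ((1 : P) : G) * g⁻¹, hN.conj_mem _ (1 : P).2 g⟩ : P) = 1 := by
      apply Subtype.ext
      simp
    rw [this]
  have hTne : T.Nonempty := ⟨conjFun P (θ : P → ℂ) 1, Finset.mem_image_of_mem _ (Finset.mem_univ _)⟩
  set t := T.card with ht
  have ht1 : 1 ≤ t := Finset.card_pos.mpr hTne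
  set d := irrDeg θ with hd
  have hd1 : 1 ≤ d := irrDeg_pos θ
  -- χ 1 = m t d
  have hdeg : χ 1 = (m : ℂ) * t * d := by
    have h := congrFun hcl 1
    simp only [Pi.smul_apply, Finset.sum_apply, smul_eq_mul] at h
    have h2 : ∑ ψ ∈ T, ψ 1 = (t : ℂ) * d := by
      rw [Finset.sum_congr rfl hTone, Finset.sum_const, nsmul_eq_mul]
    rw [h2] at h
    have h3 : ((1 : P) : G) = 1 := rfl
    rw [h3] at h
    rw [h]
    ring
  -- norm of the restriction, first computation
  have hq0 : (Nat.card P : ℂ) ≠ 0 := by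
    exact_mod_cast (Nat.card_pos (α := P)).ne'
  have hnorm1 : (Nat.card P : ℂ) * Cfsg.classInner (fun n : P => χ n) (fun n : P => χ n)
      = χ 1 * χ 1 + ((Nat.card P : ℂ) - 1) := by
    unfold Cfsg.classInner
    rw [← mul_assoc, mul_inv_cancel₀ hq0, one_mul]
    rw [← Finset.add_sum_erase Finset.univ _ (Finset.mem_univ (1 : P))]
    have hconj1 : conj (χ 1) = χ 1 := by
      rw [hD]
      exact Complex.conj_natCast D
    show χ ((1 : P) : G) * conj (χ ((1 : P) : G)) + _ = _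
    have h3 : ((1 : P) : G) = 1 := rfl
    rw [h3, hconj1]
    congr 1
    have : ∀ y ∈ Finset.univ.erase (1 : P), χ (y : G) * conj (χ (y : G)) = 1 := by
      intro y hy
      have hy1 : y ≠ 1 := Finset.ne_of_mem_erase hy
      apply habs y y.2
      intro h
      apply hy1
      exact Subtype.ext h
    rw [Finset.sum_congr rfl this, Finset.sum_const, Finset.card_erase_of_mem (Finset.mem_univ _),
      Finset.card_univ, nsmul_eq_mul, mul_one, Nat.card_eq_fintype_card]
    have : 1 ≤ Fintype.card P := Fintype.card_pos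
    push_cast [Nat.cast_sub this]
    ring
  -- second computation
  have hnorm2 : Cfsg.classInner (fun n : P => χ n) (fun n : P => χ n) = (m : ℂ) * m * t := by
    rw [hcl, classInner_smul_left, classInner_smul_right, classInner_sum_left]
    have : ∀ ψ ∈ T, Cfsg.classInner ψ (∑ ψ' ∈ T, ψ') = 1 := by
      intro ψ hψ
      rw [classInner_sum_right]
      have h2 : ∀ ψ' ∈ T, Cfsg.classInner ψ ψ' = if ψ = ψ' then 1 else 0 := by
        intro ψ' hψ'
        exact classInner_of_isIrrCharacter (hTirr ψ hψ) (hTirr ψ' hψ')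
      rw [Finset.sum_congr rfl h2, Finset.sum_ite_eq T ψ, if_pos hψ]
    rw [Finset.sum_congr rfl this, Finset.sum_const, nsmul_eq_mul, mul_one, Complex.conj_natCast]
    ring
  -- |P| = p ^ k
  obtain ⟨k, hk⟩ := IsPGroup.iff_card.mp hPp
  have hk1 : 1 ≤ k := by
    by_contra h0
    have : k = 0 := by omega
    rw [this, pow_zero] at hk
    apply hP1
    exact Subgroup.eq_bot_of_card_eq P hk
  have hdq : d ∣ p ^ k := by
    rw [← hk]
    exact irrDeg_dvd_card θ
  -- the equation over ℕ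
  have heqN : m * m * t * p ^ k + 1 = (m * t * d) ^ 2 + p ^ k := by
    have h1 := hnorm1
    rw [hnorm2, hdeg, hk] at h1
    have h2 : ((m * m * t * p ^ k + 1 : ℕ) : ℂ) = (((m * t * d) ^ 2 + p ^ k : ℕ) : ℂ) := by
      push_cast at h1 ⊢
      linear_combination h1
    exact_mod_cast h2
  have hnlN : m * t * d ≠ 1 := by
    intro h
    apply hnl
    rw [hdeg]
    have : ((m * t * d : ℕ) : ℂ) = 1 := by rw [h]; simp
    push_cast at this
    exact this
  obtain ⟨hd1', hm1, htq⟩ := arith_clifford p k m t d hpp hk1 hdq (Nat.one_le_iff_ne_zero.mpr hm0)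
    ht1 heqN hnlN
  refine ⟨T, ?_, ?_, ?_, ?_⟩
  · intro ψ hψ
    refine ⟨hTirr ψ hψ, ?_⟩
    rw [hTone ψ hψ, hd1']
    simp
  · rw [hk, ← htq]
  · intro y
    have h := congrFun hcl y
    rw [hm1] at h
    simp only [Nat.cast_one, one_smul, Finset.sum_apply] at h
    exact h
  · intro ψ hψ ψ' hψ'
    rw [hT, Finset.mem_image] at hψ hψ'
    obtain ⟨g1, _, rfl⟩ := hψ
    obtain ⟨g2, _, rfl⟩ := hψ'
    refine ⟨g1⁻¹ * g2, ?_⟩
    intro x
    rw [conjFun_apply, conjFun_apply]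
    have : (⟨g2 * (x : G) * g2⁻¹, hN.conj_mem x x.2 g2⟩ : P) =
        ⟨g1 * ((⟨g1⁻¹ * g2 * (x : G) * (g1⁻¹ * g2)⁻¹, hN.conj_mem x x.2 (g1⁻¹ * g2)⟩ : P) : G) * g1⁻¹,
          hN.conj_mem _ (Subtype.property _) g1⟩ := by
      apply Subtype.ext
      simp only [mul_inv_rev, inv_inv]
      group
    rw [this]

end Cfsg.Agent.S4751P
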