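import Mathlib
import Cfsg.Prelude.Def_Characters
import Cfsg.Agent.Helper24.Abelian
import Cfsg.Agent.Helper24.Regular
import Cfsg.Agent.Helper24.Linear

/-!
S4751 piece LIN2: a Clifford orbit of `|P| - 1` linear characters forces `P` abelian etc.
-/

set_option autoImplicit false

namespace Cfsg.Agent.S4751P

open scoped ComplexConjugate
open Cfsg.Agent.Helper24

universe u

variable {G : Type u} [Group G] [Finite G]

/-- LIN2 -/
theorem lin_of_orbit (χ : G → ℂ) (hnl : χ 1 ≠ 1) (P : Subgroup G) [hN : P.Normal]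
    (T : Finset (P → ℂ)) (hT : ∀ ψ ∈ T, Cfsg.IsIrrCharacter P ψ ∧ ψ 1 = 1)
    (hcard : T.card + 1 = Nat.card P) (hsum : ∀ y : P, χ y = ∑ ψ ∈ T, ψ y)
    (htr : ∀ ψ ∈ T, ∀ ψ' ∈ T, ∃ g : G, ∀ x : P, ψ' x = ψ ⟨g * x * g⁻¹, hN.conj_mem x x.2 g⟩) :
    (∀ a ∈ P, ∀ b ∈ P, a * b = b * a) ∧ χ 1 = (Nat.card P : ℂ) - 1 ∧
    (∀ y ∈ P, y ≠ 1 → χ y = -1) ∧
    (∀ lam mu : P →* ℂˣ, lam ≠ 1 → mu ≠ 1 → ∃ g : G, ∀ x : P,
      ((mu x : ℂˣ) : ℂ) = ((lam ⟨g * x * g⁻¹, hN.conj_mem x x.2 g⟩ : ℂˣ) : ℂ)) := by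
  classical
  haveI : Fintype P := Fintype.ofFinite P
  haveI : Fintype (Cfsg.IrrCharacter P) := Fintype.ofFinite _
  -- the trivial character is not in T
  have h1T : (fun _ : P => (1 : ℂ)) ∉ T := by
    intro h1
    have hall : ∀ ψ' ∈ T, ψ' = fun _ => (1 : ℂ) := by
      intro ψ' hψ'
      obtain ⟨g, hg⟩ := htr _ h1 ψ' hψ'
      funext x
      rw [hg x]
    have hTeq : T = {fun _ => (1 : ℂ)} := by
      rw [Finset.eq_singleton_iff_unique_mem]
      exact ⟨h1, hall⟩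
    apply hnl
    have h := hsum 1
    rw [hTeq, Finset.sum_singleton] at h
    exact h
  -- T as a finset of irreducible characters
  set T' : Finset (Cfsg.IrrCharacter P) :=
    T.attach.image (fun ψ => (⟨ψ.1, (hT ψ.1 ψ.2).1⟩ : Cfsg.IrrCharacter P)) with hT'
  have hT'card : T'.card = T.card := by
    rw [hT', Finset.card_image_of_injective, Finset.card_attach]
    intro a b hab
    apply Subtype.ext
    exact congrArg (fun ψ : Cfsg.IrrCharacter P => (ψ : P → ℂ)) hab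
  have hmemT' : ∀ ψ : Cfsg.IrrCharacter P, ψ ∈ T' ↔ (ψ : P → ℂ) ∈ T := by
    intro ψ
    rw [hT', Finset.mem_image]
    constructor
    · rintro ⟨a, _, rfl⟩
      exact a.2
    · intro h
      exact ⟨⟨ψ.1, h⟩, Finset.mem_attach _ _, rfl⟩
  have htrivT' : trivIrr P ∉ T' := by
    rw [hmemT']
    exact h1T
  set U : Finset (Cfsg.IrrCharacter P) := insert (trivIrr P) T' with hU
  have hUcard : U.card = Nat.card P := by
    rw [hU, Finset.card_insert_of_notMem htrivT', hT'card, hcard]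
  have hUone : ∀ ψ ∈ U, (ψ : P → ℂ) 1 = 1 := by
    intro ψ hψ
    rw [hU, Finset.mem_insert] at hψ
    rcases hψ with rfl | hψ
    · rfl
    · exact (hT _ ((hmemT' ψ).mp hψ)).2
  -- U is everything
  have hUuniv : U = Finset.univ := by
    by_contra hne
    obtain ⟨ψ0, hψ0⟩ : ∃ ψ0 : Cfsg.IrrCharacter P, ψ0 ∉ U := by
      by_contra hcon
      rw [not_exists] at hcon
      apply hne
      apply Finset.eq_univ_of_forall
      intro ψ
      have := hcon ψ
      rwa [not_not] at this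
    have hs := sum_irrDeg_sq (G := P)
    have h1 : ∑ ψ ∈ U, irrDeg ψ ^ 2 = U.card := by
      rw [Finset.card_eq_sum_ones]
      apply Finset.sum_congr rfl
      intro ψ hψ
      rw [(irrDeg_eq_one_iff ψ).mpr (hUone ψ hψ)]
      norm_num
    have h2 : ∑ ψ ∈ U, irrDeg ψ ^ 2 + irrDeg ψ0 ^ 2 ≤ ∑ ψ : Cfsg.IrrCharacter P, irrDeg ψ ^ 2 := by
      have hins := Finset.sum_insert (f := fun ψ : Cfsg.IrrCharacter P => irrDeg ψ ^ 2) hψ0
      rw [add_comm, ← hins]
      exact Finset.sum_le_sum_of_subset (Finset.subset_univ _)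
    have h3 : 1 ≤ irrDeg ψ0 ^ 2 := Nat.one_le_pow _ _ (irrDeg_pos ψ0)
    rw [h1, hUcard, hs] at h2
    omega
  have hall1 : ∀ ψ : Cfsg.IrrCharacter P, (ψ : P → ℂ) 1 = 1 := by
    intro ψ
    apply hUone
    rw [hUuniv]
    exact Finset.mem_univ _
  have hcomm : ∀ a b : P, a * b = b * a := comm_iff_forall_irr_one.mpr hall1
  -- sums over T as sums over T'
  have hsumT' : ∀ y : P, ∑ ψ ∈ T, ψ y = ∑ ψ ∈ T', (ψ : P → ℂ) y := by
    intro y
    rw [hT', Finset.sum_image]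
    · rw [← Finset.sum_attach T]
    · intro a _ b _ hab
      apply Subtype.ext
      exact congrArg (fun ψ : Cfsg.IrrCharacter P => (ψ : P → ℂ)) hab
  refine ⟨?_, ?_, ?_, ?_⟩
  · intro a ha b hb
    have := hcomm ⟨a, ha⟩ ⟨b, hb⟩
    exact congrArg Subtype.val this
  · have h := hsum 1
    have h3 : ((1 : P) : G) = 1 := rfl
    rw [h3] at h
    rw [h]
    have : ∀ ψ ∈ T, ψ 1 = (1 : ℂ) := fun ψ hψ => (hT ψ hψ).2
    rw [Finset.sum_congr rfl this, Finset.sum_const, nsmul_eq_mul, mul_one, ← hcard]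
    push_cast
    ring
  · intro y hy hy1
    have hy1' : (⟨y, hy⟩ : P) ≠ 1 := by
      intro h
      apply hy1
      exact congrArg Subtype.val h
    have h0 := sum_irr_one_mul_eq_zero (G := P) hy1'
    rw [← hUuniv, hU, Finset.sum_insert htrivT'] at h0
    have h := hsum ⟨y, hy⟩
    rw [hsumT' ⟨y, hy⟩] at h
    have h5 : ∑ ψ ∈ T', (ψ : P → ℂ) 1 * (ψ : P → ℂ) ⟨y, hy⟩ = ∑ ψ ∈ T', (ψ : P → ℂ) ⟨y, hy⟩ := by
      apply Finset.sum_congr rfl
      intro ψ hψ
      rw [(hT _ ((hmemT' ψ).mp hψ)).2, one_mul]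
    rw [h5] at h0
    simp only [trivIrr_apply, one_mul] at h0
    show χ ((⟨y, hy⟩ : P) : G) = -1
    rw [h]
    linear_combination h0
  · intro lam mu hlam hmu
    have key : ∀ nu : P →* ℂˣ, nu ≠ 1 → (fun x : P => ((nu x : ℂˣ) : ℂ)) ∈ T := by
      intro nu hnu
      have hirr : Cfsg.IsIrrCharacter P (fun x : P => ((nu x : ℂˣ) : ℂ)) :=
        isIrrCharacter_of_monoidHom ((Units.coeHom ℂ).comp nu)
      have hmem : (⟨_, hirr⟩ : Cfsg.IrrCharacter P) ∈ U := by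
        rw [hUuniv]
        exact Finset.mem_univ _
      rw [hU, Finset.mem_insert] at hmem
      rcases hmem with h | h
      · exfalso
        apply hnu
        ext x
        have := congrFun (congrArg (fun ψ : Cfsg.IrrCharacter P => (ψ : P → ℂ)) h) x
        simpa using this
      · exact (hmemT' _).mp h
    obtain ⟨g, hg⟩ := htr _ (key lam hlam) _ (key mu hmu)
    exact ⟨g, hg⟩

end Cfsg.Agent.S4751P
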