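import Mathlib
import Cfsg.Prelude.Def_Characters
import Cfsg.Agent.Helper8.S4751L4
import Cfsg.Agent.Helper15.S4751V4B
import Cfsg.Agent.Helper8.CharComp

set_option autoImplicit false

namespace Cfsg.Agent.S4751P

open scoped ComplexConjugate

universe u

variable {G : Type u} [Group G] [Finite G]

/-- P4 -/
theorem card_eq_four (χ : G → ℂ) (hχ : Cfsg.IsCharacter G χ) (P : Subgroup G) [P.Normal]
    (hab : ∀ a ∈ P, ∀ b ∈ P, a * b = b * a) (h2 : ∀ y ∈ P, y ^ 2 = 1)
    (h1 : χ 1 = (Nat.card P : ℂ) - 1) (hm1 : ∀ y ∈ P, y ≠ 1 → χ y = -1) (hP3 : 3 ≤ Nat.card P)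
    (habs : ∀ g : G, 2 ∣ orderOf g → χ g * conj (χ g) = 1) (S : Sylow 2 G)
    (hS : Nat.card S = 2 * Nat.card P) : Nat.card P = 4 := by
  classical
  -- P is a 2-group
  have hP2 : IsPGroup 2 P := by
    intro y
    refine ⟨1, ?_⟩
    apply Subtype.ext
    have := h2 y y.2
    simpa using this
  have hPS : P ≤ (S : Subgroup G) := hP2.le_sylow_of_normal S
  set N : Subgroup (S : Subgroup G) := P.subgroupOf (S : Subgroup G) with hN
  have hNcard : Nat.card N = Nat.card P :=
    Nat.card_congr (Subgroup.subgroupOfEquivOfLe hPS).toEquiv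
  have hidx : N.index = 2 := by
    have h := N.index_mul_card
    rw [hNcard, hS] at h
    have hpos : 0 < Nat.card P := Nat.card_pos
    exact Nat.eq_of_mul_eq_mul_right hpos h
  have hres : Cfsg.IsCharacter (S : Subgroup G) (fun x : (S : Subgroup G) => χ x) :=
    Cfsg.Agent.Helper8.isCharacter_restrict (S : Subgroup G) hχ
  have hL4 := commutator_index_le_four (X := (S : Subgroup G)) N hidx
    (fun x : (S : Subgroup G) => χ x) hres
    (by
      show χ ((1 : (S : Subgroup G)) : G) = _
      rw [hNcard]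
      exact h1)
    (by
      intro y hy hy1
      show χ (y : G) = -1
      apply hm1 (y : G) (Subgroup.mem_subgroupOf.mp hy)
      intro h
      apply hy1
      exact Subtype.ext h)
    (by
      intro x hx
      show χ (x : G) * conj (χ (x : G)) = 1
      apply habs
      have hx1 : x ≠ 1 := by
        intro h
        apply hx
        rw [h]
        exact N.one_mem
      obtain ⟨k, hk⟩ := S.isPGroup' x
      have hk' : (x : G) ^ (2 ^ k) = 1 := by
        have := congrArg Subtype.val hk
        simpa using this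
      have hdvd : orderOf (x : G) ∣ 2 ^ k := orderOf_dvd_of_pow_eq_one hk'
      obtain ⟨j, hj, hjo⟩ := (Nat.dvd_prime_pow Nat.prime_two).mp hdvd
      rcases Nat.eq_zero_or_pos j with h0 | h0
      · exfalso
        rw [h0, pow_zero, orderOf_eq_one_iff] at hjo
        apply hx1
        exact Subtype.ext hjo
      · rw [hjo]
        exact dvd_pow_self 2 h0.ne')
  have hle : Nat.card N ≤ 4 := by
    apply card_le_four_of_index_two N hidx
    · intro a ha b hb
      apply Subtype.ext
      exact hab a (Subgroup.mem_subgroupOf.mp ha) b (Subgroup.mem_subgroupOf.mp hb)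
    · intro y hy
      apply Subtype.ext
      have := h2 y (Subgroup.mem_subgroupOf.mp hy)
      simpa using this
    · exact hL4
  rw [hNcard] at hle
  obtain ⟨a, ha⟩ := IsPGroup.iff_card.mp hP2
  rw [ha] at hle hP3 ⊢
  -- 3 ≤ 2^a ≤ 4
  have ha2 : a = 2 := by
    rcases Nat.lt_or_ge a 2 with h | h
    · exfalso
      have : 2 ^ a ≤ 2 ^ 1 := Nat.pow_le_pow_right (by norm_num) (by omega)
      omega
    · rcases Nat.lt_or_ge 2 a with h' | h'
      · exfalso
        have : 2 ^ 3 ≤ 2 ^ a := Nat.pow_le_pow_right (by norm_num) (by omega)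
        omega
      · omega
  rw [ha2]
  norm_num

end Cfsg.Agent.S4751P
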