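import Mathlib
import Cfsg.Prelude.Def_Characters
import Cfsg.Agent.Helper8.S4751ARITH
import Cfsg.Agent.Helper8.CharComp
import Cfsg.Agent.Helper24.Expansion

/-!
S4751 piece SYL: the normal `p`-subgroup `P` is a Sylow subgroup or has index two in one (`p = 2`).
-/

set_option autoImplicit false

namespace Cfsg.Agent.S4751P

open scoped ComplexConjugate
open Cfsg.Agent.Helper24

universe u

variable {G : Type u} [Group G] [Finite G]

/-- SYL -/
theorem sylow_index (p : ℕ) [Fact p.Prime] (χ : G → ℂ) (hχ : Cfsg.IsCharacter G χ)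
    (P : Subgroup G) [P.Normal] (hPp : IsPGroup p P) (h1 : χ 1 = (Nat.card P : ℂ) - 1)
    (hP3 : 3 ≤ Nat.card P) (habs : ∀ g : G, p ∣ orderOf g → χ g * conj (χ g) = 1) (S : Sylow p G) :
    Nat.card S = Nat.card P ∨ (p = 2 ∧ Nat.card S = 2 * Nat.card P) := by
  classical
  have hpp : p.Prime := Fact.out
  haveI : Fintype (S : Subgroup G) := Fintype.ofFinite _
  haveI : Fintype (Cfsg.IrrCharacter (S : Subgroup G)) := Fintype.ofFinite _
  have hPS : P ≤ (S : Subgroup G) := hPp.le_sylow_of_normal S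
  have hres : Cfsg.IsCharacter (S : Subgroup G) (fun x : (S : Subgroup G) => χ x) :=
    Cfsg.Agent.Helper8.isCharacter_restrict (S : Subgroup G) hχ
  obtain ⟨m, hm⟩ := IsCharacter.classInner_nat hres hres
  -- cardinalities
  obtain ⟨a, ha⟩ := IsPGroup.iff_card.mp hPp
  obtain ⟨n, hn⟩ := IsPGroup.iff_card.mp S.isPGroup'
  have hdvd : Nat.card P ∣ Nat.card (S : Subgroup G) := Subgroup.card_dvd_of_le hPS
  have han : a ≤ n := by
    rw [ha, hn] at hdvd
    exact (Nat.pow_dvd_pow_iff_le_right hpp.one_lt).mp hdvd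
  obtain ⟨b, hb⟩ : ∃ b, n = a + b := ⟨n - a, by omega⟩
  have hScard : Nat.card (S : Subgroup G) = p ^ a * p ^ b := by rw [hn, hb, pow_add]
  -- the norm
  have hS0 : (Nat.card (S : Subgroup G) : ℂ) ≠ 0 := by
    exact_mod_cast (Nat.card_pos (α := (S : Subgroup G))).ne'
  have hnorm : (Nat.card (S : Subgroup G) : ℂ) * (m : ℂ)
      = χ 1 * χ 1 + ((Nat.card (S : Subgroup G) : ℂ) - 1) := by
    rw [← hm]
    unfold Cfsg.classInner
    rw [← mul_assoc, mul_inv_cancel₀ hS0, one_mul]
    rw [← Finset.add_sum_erase Finset.univ _ (Finset.mem_univ (1 : (S : Subgroup G)))]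
    have hconj1 : conj (χ 1) = χ 1 := by
      rw [h1, map_sub, Complex.conj_natCast, map_one]
    show χ ((1 : (S : Subgroup G)) : G) * conj (χ ((1 : (S : Subgroup G)) : G)) + _ = _
    have h3 : ((1 : (S : Subgroup G)) : G) = 1 := rfl
    rw [h3, hconj1]
    congr 1
    have : ∀ y ∈ Finset.univ.erase (1 : (S : Subgroup G)),
        χ (y : G) * conj (χ (y : G)) = 1 := by
      intro y hy
      have hy1 : y ≠ 1 := Finset.ne_of_mem_erase hy
      apply habs
      obtain ⟨k, hk⟩ := S.isPGroup' y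
      have hk' : (y : G) ^ (p ^ k) = 1 := by
        have := congrArg Subtype.val hk
        simpa using this
      have hdvd : orderOf (y : G) ∣ p ^ k := orderOf_dvd_of_pow_eq_one hk'
      obtain ⟨j, hj, hjo⟩ := (Nat.dvd_prime_pow hpp).mp hdvd
      rcases Nat.eq_zero_or_pos j with h0 | h0
      · exfalso
        rw [h0, pow_zero, orderOf_eq_one_iff] at hjo
        apply hy1
        exact Subtype.ext hjo
      · rw [hjo]
        exact dvd_pow_self p h0.ne'
    rw [Finset.sum_congr rfl this, Finset.sum_const, Finset.card_erase_of_mem (Finset.mem_univ _),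
      Finset.card_univ, nsmul_eq_mul, mul_one, Nat.card_eq_fintype_card]
    have : 1 ≤ Fintype.card (S : Subgroup G) := Fintype.card_pos
    push_cast [Nat.cast_sub this]
    ring
  have hq3 : 3 ≤ p ^ a := ha ▸ hP3
  have heqN : p ^ a * p ^ b * m + 1 = (p ^ a - 1) ^ 2 + p ^ a * p ^ b := by
    rw [h1, hScard, ha] at hnorm
    have h1le : 1 ≤ p ^ a := by omega
    have h2 : ((p ^ a * p ^ b * m + 1 : ℕ) : ℂ) = (((p ^ a - 1) ^ 2 + p ^ a * p ^ b : ℕ) : ℂ) := by
      push_cast [Nat.cast_sub h1le] at hnorm ⊢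
      linear_combination hnorm
    exact_mod_cast h2
  rcases arith_sylow p a b m hpp hq3 heqN with hb0 | ⟨hp2, hb1⟩
  · left
    rw [hScard, ha, hb0, pow_zero, mul_one]
  · right
    refine ⟨hp2, ?_⟩
    rw [hScard, ha, hb1, hp2, pow_one, mul_comm]

end Cfsg.Agent.S4751P
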