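import Cfsg.Agent.Helper24.S5637.Defs

set_option autoImplicit false
set_option linter.unusedSectionVars false
set_option linter.unusedVariables false

/-! # S5637, piece EXPERP2 -/

namespace Cfsg.Agent.S5637P

open Matrix Kronecker Cfsg.Agent.Helper28.SLMax Cfsg.Agent.S5634P
open scoped MatrixGroups

variable {F : Type*} [Field F] {n a b : ℕ} (e : Fin n ≃ Fin a × Fin b)

/-- EXPERP2 (S). Two linear conditions on `F^m`, `m ≥ 3`, have a non-zero solution. -/
theorem EXPERP2 {m : ℕ} (hm : 3 ≤ m) (x y : Fin m → F) :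
    ∃ ψ : Fin m → F, ψ ≠ 0 ∧ ψ ⬝ᵥ x = 0 ∧ ψ ⬝ᵥ y = 0 := by
  let f : (Fin m → F) →ₗ[F] (Fin 2 → F) :=
    { toFun := fun ψ => ![ψ ⬝ᵥ x, ψ ⬝ᵥ y]
      map_add' := by
        intro ψ φ
        ext i
        fin_cases i <;> simp [add_dotProduct]
      map_smul' := by
        intro c ψ
        ext i
        fin_cases i <;> simp [smul_dotProduct] }
  have hker : LinearMap.ker f ≠ ⊥ := by
    apply LinearMap.ker_ne_bot_of_finrank_lt
    rw [Module.finrank_fin_fun, Module.finrank_fin_fun]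
    omega
  obtain ⟨ψ, hψ, hψ0⟩ := (Submodule.ne_bot_iff _).1 hker
  refine ⟨ψ, hψ0, ?_, ?_⟩
  · have := congrFun (LinearMap.mem_ker.1 hψ) 0
    simpa [f] using this
  · have := congrFun (LinearMap.mem_ker.1 hψ) 1
    simpa [f] using this

end Cfsg.Agent.S5637P
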