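import Mathlib
import Cfsg.Agent.Helper28.S5704SDefs
import Cfsg.Agent.Helper11.S5704SPTSPAN

/-! # S5704, chapter TVO, piece ISOEXT (helper8) -/

set_option autoImplicit false
set_option linter.unusedSectionVars false
set_option linter.unusedVariables false

namespace Cfsg.Agent.S5704S

open Matrix Cfsg.Agent.Helper28.Sg

variable {F : Type*} [Field F] {n a b m : ℕ}

section tvo

variable {Q : QuadraticForm F (Fin n → F)}
  {e : Fin n ≃ Fin a × Fin b} {P : Matrix (Fin n) (Fin n) F}
  {GU : Matrix (Fin a) (Fin a) F} {GW : Matrix (Fin b) (Fin b) F}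

/-- ISOEXT (S-M): two isometries which agree on the pure tensors are equal. -/
theorem ISOEXT.main (hT : TData Q e P GU GW) {g h : ↥(Cfsg.isometryGroup F ⇑Q)}
    (H : ∀ u w, mt Q g *ᵥ pt e P u w = mt Q h *ᵥ pt e P u w) : g = h := by
  apply O_ext
  intro x
  have hx : x ∈ Submodule.span F {p : Fin n → F | ∃ u w, p = pt e P u w} := by
    rw [PTSPAN.main e hT.unit]
    trivial
  induction hx using Submodule.span_induction with
  | mem p hp =>
    obtain ⟨u, w, rfl⟩ := hp
    exact H u w
  | zero => rw [mulVec_zero, mulVec_zero]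
  | add x y _ _ hx hy => rw [mulVec_add, mulVec_add, hx, hy]
  | smul c x _ hx => rw [mulVec_smul, mulVec_smul, hx]

end tvo

end Cfsg.Agent.S5704S
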