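import Mathlib

set_option autoImplicit false

/-! S5955 piece NT (pure arithmetic). -/

namespace Cfsg.Agent.S5955P

/-- NT -/
theorem nt_of_card_eq {p : ℕ} [Fact p.Prime] (q f : ℕ) (hq : q = p ^ f) (hf : 1 ≤ f)
    (d m N : ℕ) (hm : 1 ≤ m) (hmd : m ≤ d)
    (hN : N * ∏ i ∈ Finset.range m, (q ^ m - q ^ i) =
      ∏ i ∈ Finset.range m, (q ^ (2 * d - i) - q ^ i))
    (r : ℕ) [Fact r.Prime] (hr : r ∣ N) :
    r ≠ p ∧ ∃ j, j < m ∧ r ∣ q ^ (2 * (d - j)) - 1 := by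
  have hp : p.Prime := Fact.out
  have hrp : r.Prime := Fact.out
  have hq1 : 1 ≤ q := by rw [hq]; exact Nat.one_le_pow _ _ hp.pos
  have hpq : p ∣ q := by rw [hq]; exact dvd_pow_self p (by omega)
  have e1 : ∀ i ∈ Finset.range m, q ^ (2 * d - i) - q ^ i = q ^ i * (q ^ (2 * (d - i)) - 1) := by
    intro i hi
    rw [Finset.mem_range] at hi
    rw [Nat.mul_sub, mul_one, ← pow_add]
    congr 2
    omega
  have e2 : ∀ i ∈ Finset.range m, q ^ m - q ^ i = q ^ i * (q ^ (m - i) - 1) := by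
    intro i hi
    rw [Finset.mem_range] at hi
    rw [Nat.mul_sub, mul_one, ← pow_add]
    congr 2
    omega
  rw [Finset.prod_congr rfl e1, Finset.prod_congr rfl e2, Finset.prod_mul_distrib,
    Finset.prod_mul_distrib] at hN
  have hQ : 0 < ∏ i ∈ Finset.range m, q ^ i :=
    Finset.prod_pos fun i _ => Nat.pos_of_ne_zero (pow_ne_zero _ (by omega))
  have hN' : N * ∏ i ∈ Finset.range m, (q ^ (m - i) - 1) =
      ∏ i ∈ Finset.range m, (q ^ (2 * (d - i)) - 1) := by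
    apply Nat.eq_of_mul_eq_mul_left hQ
    rw [← hN]; ring
  have hdvd : r ∣ ∏ i ∈ Finset.range m, (q ^ (2 * (d - i)) - 1) := by
    rw [← hN']; exact Dvd.dvd.mul_right hr _
  obtain ⟨j, hj, hjd⟩ := (Prime.dvd_finsetProd_iff (Nat.Prime.prime hrp) _).mp hdvd
  rw [Finset.mem_range] at hj
  refine ⟨?_, j, hj, hjd⟩
  rintro rfl
  have hpos : 1 ≤ q ^ (2 * (d - j)) := Nat.one_le_pow _ _ hq1
  have h1 : r ∣ q ^ (2 * (d - j)) := Dvd.dvd.trans hpq (dvd_pow_self q (by omega))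
  have h2 : r ∣ 1 := by
    have := Nat.dvd_sub h1 hjd
    rwa [Nat.sub_sub_self hpos] at this
  exact hrp.one_lt.ne' (Nat.dvd_one.mp h2)

end Cfsg.Agent.S5955P
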