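import Mathlib
import Cfsg.Agent.Helper21.S5958Basic

set_option autoImplicit false

namespace Cfsg.Agent.S5958P

open Module

/-- LINES (uses BASIC) -/
theorem lines_bound {F V : Type*} [Field F] [AddCommGroup V] [Module F V] [FiniteDimensional F V]
    (r : ℕ) [Fact r.Prime] (hrF : (r : F) ≠ 0) (hδ : ∀ δ : F, δ ^ r = 1 → δ = 1)
    (f : Module.End F V) (hf : f ^ r = 1) {t : ℕ} (D : Fin t → Submodule F V)
    (hdim : ∀ j, Module.finrank F (D j) = 1) (hind : iSupIndep D) (hsup : iSup D = ⊤)
    (σ : Equiv.Perm (Fin t)) (hσ : ∀ j, (D j).map f = D (σ j)) :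
    Module.finrank F V ≤ r * Module.finrank F (LinearMap.ker (f - 1)) := by
  classical
  have hr : r.Prime := Fact.out
  have hne : ∀ j, D j ≠ ⊥ := by
    intro j h
    have := hdim j
    rw [h, finrank_bot] at this
    omega
  have hσr : σ ^ r = 1 := perm_pow_eq_one D hind hne f σ hσ r hf
  have hgen : ∀ j, ∃ e : V, e ≠ 0 ∧ D j = Submodule.span F {e} := by
    intro j
    obtain ⟨e, he, hspan⟩ := finrank_eq_one_iff'.mp (hdim j)
    refine ⟨(e : V), fun h => he (Subtype.ext h), ?_⟩
    apply le_antisymm
    · intro x hx
      obtain ⟨c, hc⟩ := hspan ⟨x, hx⟩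
      rw [Submodule.mem_span_singleton]
      exact ⟨c, congrArg Subtype.val hc⟩
    · rw [Submodule.span_singleton_le_iff_mem]
      exact e.2
  choose e he0 hDe using hgen
  have heD : ∀ j, e j ∈ D j := fun j => by
    rw [hDe j]; exact Submodule.mem_span_singleton_self _
  have hli : LinearIndependent F e := hind.linearIndependent D heD he0
  have hspan : ⊤ ≤ Submodule.span F (Set.range e) := by
    rw [← hsup, Submodule.span_range_eq_iSup]
    apply le_of_eq
    congr 1
    funext j
    exact hDe j
  let b : Basis (Fin t) F V := Basis.mk hli hspan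
  have hb : ∀ j, b j = e j := fun j => Basis.mk_apply hli hspan j
  have hVt : finrank F V = t := by
    rw [finrank_eq_card_basis b, Fintype.card_fin]
  have hcoord : ∀ j k : Fin t, b.coord j (e k) = if k = j then 1 else 0 := by
    intro j k
    rw [← hb k, Basis.coord_apply, Basis.repr_self, Finsupp.single_apply]
  -- f^i e_j = c • e_{σ^i j}
  have hfe : ∀ (i : ℕ) (j : Fin t), ∃ c : F, (f ^ i) (e j) = c • e ((σ ^ i) j) := by
    intro i j
    have h1 : (f ^ i) (e j) ∈ D ((σ ^ i) j) := by
      rw [← map_pow_perm D f σ hσ i j]
      exact Submodule.mem_map_of_mem (heD j)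
    rw [hDe, Submodule.mem_span_singleton] at h1
    obtain ⟨c, hc⟩ := h1
    exact ⟨c, hc.symm⟩
  -- the norm map
  set N : Module.End F V := ∑ i ∈ Finset.range r, f ^ i with hN
  have hfN : f * N = N := by
    rw [hN, Finset.mul_sum]
    have h1 : ∀ i ∈ Finset.range r, f * f ^ i = f ^ (i + 1) := fun i _ => by rw [pow_succ']
    rw [Finset.sum_congr rfl h1]
    obtain ⟨k, hk⟩ : ∃ k, r = k + 1 := ⟨r - 1, by have := hr.pos; omega⟩
    rw [hk, Finset.sum_range_succ, Finset.sum_range_succ' (fun i => f ^ i) k, ← hk, hf, pow_zero]
  have hfNv : ∀ v, f (N v) = N v := by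
    intro v
    have := congrArg (fun g : Module.End F V => g v) hfN
    exact this
  -- powers of σ modulo r
  have hpowmod : ∀ k : ℕ, σ ^ k = σ ^ (k % r) := fun k => pow_eq_pow_mod k hσr
  -- representatives: minimal elements of the orbits
  let R : Finset (Fin t) := Finset.univ.filter (fun j => ∀ i : ℕ, j ≤ (σ ^ i) j)
  have hcard : t ≤ r * R.card := by
    let g : Fin r × R → Fin t := fun x => (σ ^ (x.1 : ℕ)) (x.2 : Fin t)
    have hg : Function.Surjective g := by
      intro j
      -- the minimum of the orbit
      have hne' : ((Finset.range r).image (fun i => (σ ^ i) j)).Nonempty :=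
        ⟨(σ ^ 0) j, Finset.mem_image.mpr ⟨0, Finset.mem_range.mpr hr.pos, rfl⟩⟩
      obtain ⟨m, hm, hmin⟩ := Finset.exists_min_image _ id hne'
      obtain ⟨i0, hi0, rfl⟩ := Finset.mem_image.mp hm
      rw [Finset.mem_range] at hi0
      have hmR : (σ ^ i0) j ∈ R := by
        rw [Finset.mem_filter]
        refine ⟨Finset.mem_univ _, ?_⟩
        intro i
        apply hmin
        rw [Finset.mem_image]
        refine ⟨(i + i0) % r, Finset.mem_range.mpr (Nat.mod_lt _ hr.pos), ?_⟩
        rw [← hpowmod, pow_add, Equiv.Perm.mul_apply]
      refine ⟨(⟨(r - i0) % r, Nat.mod_lt _ hr.pos⟩, ⟨(σ ^ i0) j, hmR⟩), ?_⟩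
      show (σ ^ ((r - i0) % r)) ((σ ^ i0) j) = j
      rw [← hpowmod, ← Equiv.Perm.mul_apply, ← pow_add, Nat.sub_add_cancel hi0.le, hσr,
        Equiv.Perm.one_apply]
    have := Fintype.card_le_of_surjective g hg
    rw [Fintype.card_fin, Fintype.card_prod, Fintype.card_fin, Fintype.card_coe] at this
    exact this
  -- the vectors N e_j, j ∈ R, are independent
  have hK : R.card ≤ finrank F (LinearMap.ker (f - 1)) := by
    let w : R → LinearMap.ker (f - 1) := fun j => ⟨N (e j), by
      rw [LinearMap.mem_ker, LinearMap.sub_apply, hfNv, Module.End.one_apply, sub_self]⟩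
    have hwli : LinearIndependent F w := by
      apply LinearIndependent.of_comp (LinearMap.ker (f - 1)).subtype
      rw [Fintype.linearIndependent_iff]
      intro g hg j
      have h1 := congrArg (b.coord (j : Fin t)) hg
      rw [map_sum, map_zero] at h1
      -- the coordinates
      have hcoordN : ∀ j' : R, b.coord (j : Fin t) (N (e j')) =
          ∑ i ∈ Finset.range r, b.coord (j : Fin t) ((f ^ i) (e j')) := by
        intro j'
        rw [hN, LinearMap.sum_apply, map_sum]
      have hoff : ∀ j' : R, j' ≠ j → b.coord (j : Fin t) (N (e j')) = 0 := by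
        intro j' hj'
        rw [hcoordN]
        apply Finset.sum_eq_zero
        intro i _
        obtain ⟨c, hc⟩ := hfe i j'
        rw [hc, map_smul, hcoord, if_neg, smul_zero]
        intro heq
        apply hj'
        apply Subtype.ext
        have hjR := (Finset.mem_filter.mp j.2).2
        have hj'R := (Finset.mem_filter.mp j'.2).2
        apply le_antisymm
        · have := hj'R i
          rw [heq] at this
          exact this
        · have h2 : (σ ^ (i * (r - 1))) (j : Fin t) = (j' : Fin t) := by
            rw [← heq, ← Equiv.Perm.mul_apply, ← pow_add]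
            have : i * (r - 1) + i = r * i := by
              have := hr.pos
              obtain ⟨k, hk⟩ : ∃ k, r = k + 1 := ⟨r - 1, by omega⟩
              rw [hk]; simp only [Nat.add_sub_cancel]; ring
            rw [this, pow_mul, hσr, one_pow, Equiv.Perm.one_apply]
          have := hjR (i * (r - 1))
          rw [h2] at this
          exact this
      have hdiag : b.coord (j : Fin t) (N (e j)) ≠ 0 := by
        rw [hcoordN]
        by_cases hfix : σ (j : Fin t) = j
        · -- fixed line
          obtain ⟨lam, hlam⟩ := hfe 1 j
          rw [pow_one, pow_one, hfix] at hlam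
          have hpow : ∀ i : ℕ, (f ^ i) (e j) = lam ^ i • e j := by
            intro i
            induction i with
            | zero => simp
            | succ i ih =>
              rw [pow_succ', Module.End.mul_apply, ih, map_smul, hlam, smul_smul, pow_succ]
          have hlamr : lam ^ r = 1 := by
            have h2 := hpow r
            rw [hf, Module.End.one_apply] at h2
            have h3 : (lam ^ r - 1) • e j = 0 := by rw [sub_smul, one_smul, ← h2, sub_self]
            rcases smul_eq_zero.mp h3 with h | h
            · exact sub_eq_zero.mp h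
            · exact absurd h (he0 j)
          have hlam1 := hδ lam hlamr
          have : ∀ i ∈ Finset.range r, b.coord (j : Fin t) ((f ^ i) (e j)) = 1 := by
            intro i _
            rw [hpow, hlam1, one_pow, one_smul, hcoord, if_pos rfl]
          rw [Finset.sum_congr rfl this, Finset.sum_const, Finset.card_range, nsmul_eq_mul, mul_one]
          exact hrF
        · -- moved line
          have : ∀ i ∈ Finset.range r, b.coord (j : Fin t) ((f ^ i) (e j)) =
              if i = 0 then 1 else 0 := by
            intro i hi
            rw [Finset.mem_range] at hi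
            by_cases hi0 : i = 0
            · rw [hi0, if_pos rfl, pow_zero, Module.End.one_apply, hcoord, if_pos rfl]
            · rw [if_neg hi0]
              obtain ⟨c, hc⟩ := hfe i j
              rw [hc, map_smul, hcoord, if_neg, smul_zero]
              intro heq
              apply hi0
              exact orbit_injective r hr σ hσr j hfix i 0 hi hr.pos (by rw [heq, pow_zero]; rfl)
          rw [Finset.sum_congr rfl this, Finset.sum_ite_eq' (Finset.range r) 0 (fun _ => (1 : F))]
          rw [if_pos (Finset.mem_range.mpr hr.pos)]
          exact one_ne_zero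
      have h2 : ∑ j' : R, b.coord (j : Fin t) ((g j') • ((LinearMap.ker (f - 1)).subtype ∘ w) j') =
          g j * b.coord (j : Fin t) (N (e j)) := by
        rw [Finset.sum_eq_single j]
        · rw [map_smul, smul_eq_mul]
          rfl
        · intro j' _ hj'
          rw [map_smul]
          have : ((LinearMap.ker (f - 1)).subtype ∘ w) j' = N (e j') := rfl
          rw [this, hoff j' hj', smul_zero]
        · intro h; exact absurd (Finset.mem_univ _) h
      rw [h2] at h1
      rcases mul_eq_zero.mp h1 with h | h
      · exact h
      · exact absurd h hdiag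
    have := hwli.fintype_card_le_finrank
    rw [Fintype.card_coe] at this
    exact this
  calc finrank F V = t := hVt
    _ ≤ r * R.card := hcard
    _ ≤ r * finrank F (LinearMap.ker (f - 1)) := Nat.mul_le_mul_left _ hK

end Cfsg.Agent.S5958P
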