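import Mathlib
import Cfsg.Prelude.Def_GeometricClasses
import Cfsg.Prelude.Def_ClassicalGeometry
import Cfsg.Agent.Helper27.S5975Defs

set_option autoImplicit false
open scoped MatrixGroups

/-! S5975 piece SEMIDIM (helper8). -/

namespace Cfsg.Agent.S5975P

open Polynomial

namespace SEMIDIM

/-- abstract version: `W ∩ aW = 0`, `a` injective ⇒ `2 dim W ≤ dim V` -/
theorem two_mul_finrank_le {F V : Type*} [Field F] [AddCommGroup V] [Module F V]
    [FiniteDimensional F V] (W : Submodule F V) (a : V →ₗ[F] V) (ha : Function.Injective a)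
    (hdisj : ∀ w ∈ W, a w ∈ W → w = 0) :
    2 * Module.finrank F W ≤ Module.finrank F V := by
  have h1 : Module.finrank F (W.map a) = Module.finrank F W :=
    LinearEquiv.finrank_eq (Submodule.equivMapOfInjective a ha W).symm
  have h2 : W ⊓ W.map a = ⊥ := by
    rw [eq_bot_iff]
    intro v hv
    obtain ⟨hvW, w, hw, rfl⟩ := hv
    have := hdisj w hw hvW
    rw [this, map_zero]
    exact Submodule.zero_mem _
  have h3 := Submodule.finrank_sup_add_finrank_inf_eq W (W.map a)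
  rw [h2, finrank_bot, add_zero, h1] at h3
  have h4 : Module.finrank F ↥(W ⊔ W.map a) ≤ Module.finrank F V := Submodule.finrank_le _
  omega

end SEMIDIM

/-- SEMIDIM -/
theorem finrank_ker_le_of_not_commute {F : Type*} [Field F] (d k : ℕ)
    (K : Subalgebra F (Matrix (Fin d ⊕ Fin d) (Fin d ⊕ Fin d) F))
    (hK : Cfsg.Geo.IsFieldSubalgebra k K)
    (y : GL (Fin d ⊕ Fin d) F) (hy : y ∈ Cfsg.Geo.subalgebraNormalizer K)
    (a : Matrix (Fin d ⊕ Fin d) (Fin d ⊕ Fin d) F) (ha : a ∈ K)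
    (hne : (y : Matrix (Fin d ⊕ Fin d) (Fin d ⊕ Fin d) F) * a ≠
      a * (y : Matrix (Fin d ⊕ Fin d) (Fin d ⊕ Fin d) F)) :
    Module.finrank F (LinearMap.ker (Matrix.toLin'
      ((y : Matrix (Fin d ⊕ Fin d) (Fin d ⊕ Fin d) F) - 1))) ≤ d := by
  classical
  set Y : Matrix (Fin d ⊕ Fin d) (Fin d ⊕ Fin d) F :=
    (y : Matrix (Fin d ⊕ Fin d) (Fin d ⊕ Fin d) F) with hY
  set Yi : Matrix (Fin d ⊕ Fin d) (Fin d ⊕ Fin d) F :=
    ((y⁻¹ : GL (Fin d ⊕ Fin d) F) : Matrix (Fin d ⊕ Fin d) (Fin d ⊕ Fin d) F) with hYi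
  have hYYi : Y * Yi = 1 := by rw [hY, hYi, ← Units.val_mul, mul_inv_cancel, Units.val_one]
  have hYiY : Yi * Y = 1 := by rw [hY, hYi, ← Units.val_mul, inv_mul_cancel, Units.val_one]
  -- a' = y a y⁻¹ ∈ K
  have ha' : Y * a * Yi ∈ K := (hy a).mp ha
  -- c = a' - a ≠ 0
  have hcK : Y * a * Yi - a ∈ K := K.sub_mem ha' ha
  have hc0 : Y * a * Yi - a ≠ 0 := by
    intro h0
    apply hne
    have h1 : Y * a * Yi = a := sub_eq_zero.mp h0
    calc Y * a = Y * a * (Yi * Y) := by rw [hYiY, mul_one]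
      _ = (Y * a * Yi) * Y := by simp only [mul_assoc]
      _ = a * Y := by rw [h1]
  obtain ⟨c', -, hcc'⟩ := hK.inv _ hcK hc0
  have hc'c : c' * (Y * a * Yi - a) = 1 := mul_eq_one_comm.mp hcc'
  -- a ≠ 0, invertible
  have ha0 : a ≠ 0 := by
    intro h0
    apply hne
    rw [h0, mul_zero, zero_mul]
  obtain ⟨ai, -, haai⟩ := hK.inv a ha ha0
  have haia : ai * a = 1 := mul_eq_one_comm.mp haai
  have hainj : Function.Injective (Matrix.toLin' a) := by
    intro u v huv
    have := congrArg (Matrix.toLin' ai) huv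
    simpa only [Matrix.toLin'_apply, Matrix.mulVec_mulVec, haia, Matrix.one_mulVec] using this
  have hmain := SEMIDIM.two_mul_finrank_le (LinearMap.ker (Matrix.toLin' (Y - 1)))
    (Matrix.toLin' a) hainj ?_
  · rw [Module.finrank_fintype_fun_eq_card, Fintype.card_sum, Fintype.card_fin] at hmain
    omega
  · intro w hw haw
    rw [LinearMap.mem_ker, Matrix.toLin'_apply, Matrix.sub_mulVec, Matrix.one_mulVec,
      sub_eq_zero] at hw haw
    rw [Matrix.toLin'_apply] at haw
    -- haw : Y (a w) = a w; hw : Y w = w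
    have h1 : (Y * a * Yi).mulVec w = a.mulVec w := by
      calc (Y * a * Yi).mulVec w = (Y * a * Yi).mulVec (Y.mulVec w) := by rw [hw]
        _ = (Y * a * (Yi * Y)).mulVec w := by
            rw [Matrix.mulVec_mulVec]; simp only [mul_assoc]
        _ = Y.mulVec (a.mulVec w) := by rw [hYiY, mul_one, Matrix.mulVec_mulVec]
        _ = a.mulVec w := haw
    have h2 : (Y * a * Yi - a).mulVec w = 0 := by
      rw [Matrix.sub_mulVec, h1, sub_self]
    have := congrArg c'.mulVec h2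
    rwa [Matrix.mulVec_mulVec, hc'c, Matrix.one_mulVec, Matrix.mulVec_zero] at this

end Cfsg.Agent.S5975P
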