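import Mathlib
import Cfsg.Prelude.Def_GeometricClasses

set_option autoImplicit false
open scoped MatrixGroups Kronecker TensorProduct

/-! S5979 piece MT: a transvection as model element of order `p`. -/

namespace Cfsg.Agent.S5979P

namespace MT

theorem transvection_pow {F : Type*} [Field F] {n : ℕ} (i j : Fin n) (hij : i ≠ j) (k : ℕ) :
    (Matrix.transvection i j (1 : F)) ^ k = Matrix.transvection i j (k : F) := by
  induction k with
  | zero => simp [Matrix.transvection_zero]
  | succ k ih =>
    rw [pow_succ, ih, Matrix.transvection_mul_transvection_same i j hij]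
    push_cast
    rfl

theorem range_single {F : Type*} [Field F] {n : ℕ} (i j : Fin n) :
    LinearMap.range (Matrix.toLin' (Matrix.single i j (1 : F))) =
      Submodule.span F {(Pi.single i (1 : F) : Fin n → F)} := by
  ext v
  rw [LinearMap.mem_range, Submodule.mem_span_singleton]
  constructor
  · rintro ⟨w, rfl⟩
    refine ⟨w j, ?_⟩
    rw [Matrix.toLin'_apply, Matrix.single_mulVec_eq, one_mul]
  · rintro ⟨c, rfl⟩
    refine ⟨Pi.single j c, ?_⟩
    rw [Matrix.toLin'_apply, Matrix.single_mulVec_eq, one_mul, Pi.single_eq_same]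

end MT

open MT in
/-- MT: a transvection -/
theorem model_transvection {F : Type*} [Field F] {p : ℕ} [Fact p.Prime] [CharP F p] (n : ℕ)
    (hn : 2 ≤ n) :
    ∃ x : GL (Fin n) F, x ∈ Cfsg.Geo.specialLinear (Fin n) F ∧
      ((x ^ p : GL (Fin n) F) : Matrix (Fin n) (Fin n) F) = (1 : F) • (1 : Matrix (Fin n) (Fin n) F) ∧
      (∀ z : F, (x : Matrix (Fin n) (Fin n) F) ≠ z • (1 : Matrix (Fin n) (Fin n) F)) ∧
      Module.finrank F (LinearMap.range (Matrix.toLin' (x : Matrix (Fin n) (Fin n) F) -
        (1 : F) • (1 : Module.End F (Fin n → F)))) = 1 := by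
  classical
  set i : Fin n := ⟨0, by omega⟩ with hi
  set j : Fin n := ⟨1, by omega⟩ with hj
  have hij : i ≠ j := by
    intro h
    have := congrArg Fin.val h
    simp [hi, hj] at this
  have hdet : (Matrix.transvection i j (1 : F)).det = 1 := Matrix.det_transvection_of_ne i j hij 1
  have hdet0 : (Matrix.transvection i j (1 : F)).det ≠ 0 := by rw [hdet]; exact one_ne_zero
  refine ⟨Matrix.GeneralLinearGroup.mkOfDetNeZero (Matrix.transvection i j (1 : F)) hdet0, ?_, ?_, ?_, ?_⟩
  · unfold Cfsg.Geo.specialLinear
    rw [MonoidHom.mem_ker]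
    apply Units.ext
    rw [Matrix.GeneralLinearGroup.val_det_apply]
    exact hdet
  · rw [Units.val_pow_eq_pow_val]
    change (Matrix.transvection i j (1 : F)) ^ p = _
    rw [transvection_pow i j hij, CharP.cast_eq_zero, Matrix.transvection_zero, one_smul]
  · intro z hz
    change Matrix.transvection i j (1 : F) = _ at hz
    have h1 := congrFun (congrFun hz i) j
    simp [Matrix.transvection, Matrix.one_apply_ne hij, Matrix.smul_apply] at h1
  · change Module.finrank F (LinearMap.range (Matrix.toLin' (Matrix.transvection i j (1 : F)) -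
        (1 : F) • (1 : Module.End F (Fin n → F)))) = 1
    have h1 : Matrix.toLin' (Matrix.transvection i j (1 : F)) - (1 : F) • (1 : Module.End F (Fin n → F)) =
        Matrix.toLin' (Matrix.single i j (1 : F)) := by
      rw [Matrix.transvection, map_add, Matrix.toLin'_one, one_smul]
      ext v
      simp
    rw [h1, range_single, finrank_span_singleton]
    intro h
    have := congrFun h i
    simp at this

end Cfsg.Agent.S5979P
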