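import Mathlib
import Cfsg.Prelude.Def_GeometricClasses
import Cfsg.Prelude.Def_Classical
import Cfsg.Prelude.Def_LieClassical

set_option autoImplicit false
open scoped MatrixGroups Matrix

/-! S5982 piece FORMCONJ, core part (independent of STD). -/

namespace Cfsg.Agent.S5982P

namespace FORMCONJ

theorem gl_mul_mulVec {F : Type*} [Field F] {n : ℕ} (A B : GL (Fin n) F) (u : Fin n → F) :
    ((A * B : GL (Fin n) F) : Matrix (Fin n) (Fin n) F) *ᵥ u =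
      (A : Matrix (Fin n) (Fin n) F) *ᵥ ((B : Matrix (Fin n) (Fin n) F) *ᵥ u) := by
  rw [Units.val_mul, Matrix.mulVec_mulVec]

theorem gl_mul_inv_mulVec {F : Type*} [Field F] {n : ℕ} (A : GL (Fin n) F) (u : Fin n → F) :
    (A : Matrix (Fin n) (Fin n) F) *ᵥ (((A⁻¹ : GL (Fin n) F) : Matrix (Fin n) (Fin n) F) *ᵥ u) = u := by
  rw [← gl_mul_mulVec, mul_inv_cancel, Units.val_one, Matrix.one_mulVec]

/-- two forms equivalent to the same form have conjugate similarity groups -/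
theorem core {F : Type*} [Field F] {n : ℕ} (f f' h0 : (Fin n → F) → (Fin n → F) → F)
    (P P' : GL (Fin n) F)
    (hP : ∀ u v, f ((P : Matrix (Fin n) (Fin n) F) *ᵥ u) ((P : Matrix (Fin n) (Fin n) F) *ᵥ v) =
      h0 u v)
    (hP' : ∀ u v, f' ((P' : Matrix (Fin n) (Fin n) F) *ᵥ u) ((P' : Matrix (Fin n) (Fin n) F) *ᵥ v) =
      h0 u v) (x : GL (Fin n) F) (hx : x ∈ Cfsg.Geo.similarityGroup f') :
    ∃ g : GL (Fin n) F, g⁻¹ * x * g ∈ Cfsg.Geo.similarityGroup f := by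
  obtain ⟨c, hc⟩ := hx
  refine ⟨P' * P⁻¹, c, ?_⟩
  intro u v
  have e : (P' * P⁻¹)⁻¹ * x * (P' * P⁻¹) = P * (P'⁻¹ * (x * (P' * P⁻¹))) := by
    rw [mul_inv_rev, inv_inv]; group
  have key : ∀ w : Fin n → F,
      (P' : Matrix (Fin n) (Fin n) F) *ᵥ
        (((P'⁻¹ * (x * (P' * P⁻¹)) : GL (Fin n) F) : Matrix (Fin n) (Fin n) F) *ᵥ w) =
      (x : Matrix (Fin n) (Fin n) F) *ᵥ ((P' : Matrix (Fin n) (Fin n) F) *ᵥ
        (((P⁻¹ : GL (Fin n) F) : Matrix (Fin n) (Fin n) F) *ᵥ w)) := by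
    intro w
    rw [gl_mul_mulVec, gl_mul_mulVec, gl_mul_mulVec, gl_mul_inv_mulVec]
  rw [e, gl_mul_mulVec, gl_mul_mulVec P, hP, ← hP', key, key, hc, hP', ← hP, gl_mul_inv_mulVec,
    gl_mul_inv_mulVec]

end FORMCONJ

end Cfsg.Agent.S5982P
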