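import Mathlib
import Cfsg.Prelude.Def_GeometricClasses
import Cfsg.Prelude.Def_Classical
import Cfsg.Prelude.Def_LieClassical
import Cfsg.Agent.Helper19.S5982STD
import Cfsg.Agent.Helper8.S5982FORMCONJa

set_option autoImplicit false
open scoped MatrixGroups Matrix

/-! S5982 piece FORMCONJ. -/

namespace Cfsg.Agent.S5982P

/-- FORMCONJ (uses STD): a similitude of some unitary form is `GL`-conjugate to a similitude of `f` -/
theorem conj_mem_of_form {F : Type*} [Field F] [Fintype F] {q₀ : ℕ} (hF : Fintype.card F = q₀ ^ 2)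
    (n : ℕ) (f f' : (Fin n → F) → (Fin n → F) → F) (hf : Cfsg.Geo.IsUnitaryFormPow q₀ f)
    (hf' : Cfsg.Geo.IsUnitaryFormPow q₀ f') (x : GL (Fin n) F)
    (hx : x ∈ Cfsg.Geo.similarityGroup f') :
    ∃ g : GL (Fin n) F, g⁻¹ * x * g ∈ Cfsg.Geo.similarityGroup f := by
  obtain ⟨P, hP⟩ := exists_std_pow hF n f hf
  obtain ⟨P', hP'⟩ := exists_std_pow hF n f' hf'
  exact FORMCONJ.core f f' (Cfsg.hermForm n F q₀) P P' hP hP' x hx

end Cfsg.Agent.S5982P
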