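import Mathlib
import Cfsg.Agent.Helper16.S64Defs

set_option autoImplicit false

/-!
# S3157 piece DC: the fixed points of `x`
-/

open scoped commutatorElement
open Cfsg.Agent.Helper16.S64

namespace Cfsg.Agent.Helper8.S64

variable {T : Type*} [Group T] [Finite T] {ρ x : MulAut T}

omit [Finite T] in
theorem exists_noncomm_fixed (hna : ¬ IsMulCommutative T) (h : Fpf3Facts ρ) (hx : XData ρ x)
    (hc : Cl2Facts ρ) {z0 : T} (hz : ZData x z0)
    (hlift : ∀ t : T, t⁻¹ * x t ∈ Subgroup.center T →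
      ∃ z ∈ Subgroup.center T, x (t * z) = t * z)
    (U : Subgroup T) (hU : ∀ t, t ∈ U ↔ t⁻¹ * x t ∈ Subgroup.center T)
    (hgen : ∀ t : T, ∃ u ∈ U, ∃ v ∈ U, t = u * ρ v) :
    ∃ c1 c2 : T, x c1 = c1 ∧ x c2 = c2 ∧ ⁅c1, c2⁆ ≠ 1 := by
  by_contra hno
  push Not at hno
  apply hna
  -- `U` is abelian
  have hUab : ∀ u ∈ U, ∀ u' ∈ U, ⁅u, u'⁆ = 1 := by
    intro u hu u' hu'
    obtain ⟨z, hzZ, hfix⟩ := hlift u ((hU u).1 hu)
    obtain ⟨z', hzZ', hfix'⟩ := hlift u' ((hU u').1 hu')
    have hcc := hno _ _ hfix hfix'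
    rw [commutatorElement_eq_one_iff_mul_comm] at hcc ⊢
    have hzc := Subgroup.mem_center_iff.1 hzZ
    have hzc' := Subgroup.mem_center_iff.1 hzZ'
    -- (u z)(u' z') = (u' z')(u z)  ⇒  u u' = u' u
    have e1 : u * z * (u' * z') = u * u' * (z * z') := by
      calc u * z * (u' * z') = u * (z * u') * z' := by simp only [mul_assoc]
        _ = u * (u' * z) * z' := by rw [hzc u']
        _ = u * u' * (z * z') := by simp only [mul_assoc]
    have e2 : u' * z' * (u * z) = u' * u * (z * z') := by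
      calc u' * z' * (u * z) = u' * (z' * u) * z := by simp only [mul_assoc]
        _ = u' * (u * z') * z := by rw [hzc' u]
        _ = u' * u * (z' * z) := by simp only [mul_assoc]
        _ = u' * u * (z * z') := by rw [hzc z']
    rw [e1, e2] at hcc
    exact mul_right_cancel hcc
  have h1 : ∀ u ∈ U, ∀ u' ∈ U, ⁅u, ρ u'⁆ = 1 := by
    intro u hu u' hu'
    rw [hc.rho_right, hUab u hu u' hu', map_one, map_one]
  have h2 : ∀ u ∈ U, ∀ u' ∈ U, ⁅ρ u, u'⁆ = 1 := by
    intro u hu u' hu'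
    rw [hc.rho_left, hUab u hu u' hu', map_one, map_one]
  have h3 : ∀ u ∈ U, ∀ u' ∈ U, ⁅ρ u, ρ u'⁆ = 1 := by
    intro u hu u' hu'
    rw [hc.rho_rho, hUab u hu u' hu', map_one]
  refine isMulCommutative_iff.2 (fun t t' => ?_)
  obtain ⟨u, hu, v, hv, rfl⟩ := hgen t
  obtain ⟨u', hu', v', hv', rfl⟩ := hgen t'
  rw [← commutatorElement_eq_one_iff_mul_comm, hc.mul_left, hc.mul_right, hc.mul_right,
    hUab u hu u' hu', h1 u hu v' hv', h2 v hv u' hu', h3 v hv v' hv']
  simp

theorem card_fixed (hZ : Nat.card (Subgroup.center T) = 4) {z0 : T} (hz : ZData x z0)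
    (hlift : ∀ t : T, t⁻¹ * x t ∈ Subgroup.center T →
      ∃ z ∈ Subgroup.center T, x (t * z) = t * z)
    (U : Subgroup T) (hU : ∀ t, t ∈ U ↔ t⁻¹ * x t ∈ Subgroup.center T)
    (hU16 : Nat.card U = 16) (C : Subgroup T) (hC : ∀ y : T, y ∈ C ↔ x y = y) :
    Nat.card C = 8 := by
  classical
  -- `x` preserves the centre
  have hxZ : ∀ z ∈ Subgroup.center T, x z ∈ Subgroup.center T := by
    intro z hzZ
    rw [Subgroup.mem_center_iff] at hzZ ⊢
    intro g
    calc g * x z = x (x⁻¹ g) * x z := by rw [MulAut.apply_inv_self]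
      _ = x (x⁻¹ g * z) := by rw [map_mul]
      _ = x (z * x⁻¹ g) := by rw [hzZ]
      _ = x z * x (x⁻¹ g) := by rw [map_mul]
      _ = x z * g := by rw [MulAut.apply_inv_self]
  -- the product homomorphism
  let ψ : ↥C × ↥(Subgroup.center T) →* T :=
    { toFun := fun p => (p.1 : T) * (p.2 : T)
      map_one' := by simp
      map_mul' := by
        rintro ⟨c, z⟩ ⟨c', z'⟩
        have hzc := Subgroup.mem_center_iff.1 z.2
        show ((c * c' : C) : T) * ((z * z' : Subgroup.center T) : T) = (c : T) * z * (c' * z')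
        rw [Subgroup.coe_mul, Subgroup.coe_mul]
        calc (c : T) * c' * (z * z') = c * (c' * z) * z' := by simp only [mul_assoc]
          _ = c * (z * c') * z' := by rw [hzc (c' : T)]
          _ = (c : T) * z * (c' * z') := by simp only [mul_assoc] }
  have hψ : ∀ p, ψ p = (p.1 : T) * (p.2 : T) := fun _ => rfl
  -- range
  have hrange : ψ.range = U := by
    ext u
    rw [MonoidHom.mem_range]
    constructor
    · rintro ⟨⟨c, z⟩, rfl⟩
      rw [hψ, hU]
      have hcfix : x (c : T) = c := (hC _).1 c.2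
      have : ((c : T) * (z : T))⁻¹ * x ((c : T) * z) = (z : T)⁻¹ * x (z : T) := by
        rw [map_mul, hcfix]; group
      rw [this]
      exact Subgroup.mul_mem _ (Subgroup.inv_mem _ z.2) (hxZ _ z.2)
    · intro hu
      obtain ⟨z, hzZ, hfix⟩ := hlift u ((hU u).1 hu)
      refine ⟨(⟨u * z, (hC _).2 hfix⟩, ⟨z⁻¹, Subgroup.inv_mem _ hzZ⟩), ?_⟩
      rw [hψ]
      simp
  -- kernel
  have hz0sq : z0 * z0 = 1 := by
    rcases hz.norm z0 hz.mem with h1 | h1
    · rwa [hz.fixed] at h1
    · rw [hz.fixed] at h1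
      exfalso
      apply hz.ne_one
      have : z0 * z0 = z0 * 1 := by rw [mul_one]; exact h1
      exact mul_left_cancel this
  have hker : Nat.card ψ.ker = 2 := by
    have hz0C : z0 ∈ C := (hC _).2 hz.fixed
    let p0 : ↥C × ↥(Subgroup.center T) := (⟨z0, hz0C⟩, ⟨z0, hz.mem⟩)
    have hp0 : p0 ∈ ψ.ker := by
      rw [MonoidHom.mem_ker, hψ]; exact hz0sq
    have hp0ne : p0 ≠ 1 := by
      intro h1
      have := congrArg (fun p => ((p.1 : C) : T)) h1
      exact hz.ne_one this
    have hall : ∀ p ∈ ψ.ker, p = 1 ∨ p = p0 := by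
      rintro ⟨c, z⟩ hp
      rw [MonoidHom.mem_ker, hψ] at hp
      have hcz : (c : T) = (z : T)⁻¹ := eq_inv_of_mul_eq_one_left hp
      have hcZ : (c : T) ∈ Subgroup.center T := by
        rw [hcz]; exact Subgroup.inv_mem _ z.2
      rcases hz.only c hcZ ((hC _).1 c.2) with h1 | h0
      · left
        have hz1 : (z : T) = 1 := by
          rw [h1] at hcz
          exact (inv_eq_one.1 hcz.symm)
        exact Prod.ext (Subtype.ext h1) (Subtype.ext hz1)
      · right
        have hzz : (z : T) = z0 := by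
          have : (z : T) = (c : T)⁻¹ := by rw [hcz, inv_inv]
          rw [this, h0]
          exact inv_eq_of_mul_eq_one_left hz0sq
        exact Prod.ext (Subtype.ext h0) (Subtype.ext hzz)
    have : Nat.card ψ.ker = Nat.card (Fin 2) := by
      refine Nat.card_congr (Equiv.ofBijective
        (fun p : ψ.ker => if (p : ↥C × ↥(Subgroup.center T)) = 1 then (0 : Fin 2) else 1) ⟨?_, ?_⟩)
      · rintro ⟨p, hp⟩ ⟨q, hq⟩ hpq
        apply Subtype.ext
        simp only at hpq
        rcases hall p hp with rfl | rfl <;> rcases hall q hq with rfl | rfl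
        · rfl
        · simp [hp0ne] at hpq
        · simp [hp0ne] at hpq
        · rfl
      · intro i
        fin_cases i
        · exact ⟨⟨1, Subgroup.one_mem _⟩, by simp⟩
        · exact ⟨⟨p0, hp0⟩, by simp [hp0ne]⟩
    rw [this]; simp
  have hcount : Nat.card ψ.ker * Nat.card ψ.range = Nat.card (↥C × ↥(Subgroup.center T)) := by
    rw [← Subgroup.index_ker]; exact Subgroup.card_mul_index _
  rw [hker, hrange, hU16, Nat.card_prod, hZ] at hcount
  omega

end Cfsg.Agent.Helper8.S64
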