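import Mathlib
import Cfsg.Agent.Helper16.S64Defs

set_option autoImplicit false

/-!
# S3157 piece DX: the involution `x` on the centre
-/

open scoped commutatorElement
open Cfsg.Agent.Helper16.S64

namespace Cfsg.Agent.Helper8.S64

variable {T : Type*} [Group T] [Finite T] {ρ x : MulAut T}

omit [Finite T] in
/-- the centre is `x`-invariant -/
theorem x_mem_center (hx : XData ρ x) : ∀ z ∈ Subgroup.center T, x z ∈ Subgroup.center T := by
  intro z hz
  rw [Subgroup.mem_center_iff] at hz ⊢
  intro g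
  calc g * x z = x (x g) * x z := by rw [hx.invol]
    _ = x (x g * z) := by rw [map_mul]
    _ = x (z * x g) := by rw [hz]
    _ = x z * x (x g) := by rw [map_mul]
    _ = x z * g := by rw [hx.invol]

theorem zData (h : Fpf3Facts ρ) (hx : XData ρ x) (hZ : Nat.card (Subgroup.center T) = 4)
    (hZ2 : ∀ z ∈ Subgroup.center T, z * z = 1) : ∃ z0 : T, ZData x z0 := by
  classical
  have hxZ := x_mem_center hx
  -- the centre is `ρ`-invariant
  have hρZ : ∀ z ∈ Subgroup.center T, ρ z ∈ Subgroup.center T := by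
    intro z hz
    rw [Subgroup.mem_center_iff] at hz ⊢
    intro g
    calc g * ρ z = ρ (ρ (ρ g)) * ρ z := by rw [h.cube]
      _ = ρ (ρ (ρ g) * z) := by rw [map_mul]
      _ = ρ (z * ρ (ρ g)) := by rw [hz]
      _ = ρ z * ρ (ρ (ρ g)) := by rw [map_mul]
      _ = ρ z * g := by rw [h.cube]
  -- `x` is not trivial on the centre
  obtain ⟨z1, hz1, hxz1⟩ : ∃ z1 ∈ Subgroup.center T, x z1 ≠ z1 := by
    by_contra hno
    push Not at hno
    have htriv : ∀ z ∈ Subgroup.center T, z = 1 := by
      intro z hz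
      have h1 := hx.inv_rho z
      rw [hno z hz, hno _ (hρZ z hz)] at h1
      have h2 : z = ρ z := ρ.injective h1
      exact h.fpf z h2.symm
    have : Subgroup.center T = ⊥ := (Subgroup.eq_bot_iff_forall _).2 htriv
    rw [this] at hZ
    simp at hZ
  have hcomm : z1 * x z1 = x z1 * z1 := ((Subgroup.mem_center_iff.1 hz1) (x z1)).symm
  have hinv1 : z1⁻¹ = z1 := inv_eq_of_mul_eq_one_left (hZ2 z1 hz1)
  obtain ⟨z0, hz0def⟩ : ∃ z0 : T, z0 = z1 * x z1 := ⟨_, rfl⟩
  have hz0Z : z0 ∈ Subgroup.center T := by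
    rw [hz0def]; exact Subgroup.mul_mem _ hz1 (hxZ z1 hz1)
  have hz0fix : x z0 = z0 := by
    rw [hz0def, map_mul, hx.invol, hcomm]
  have hz0ne : z0 ≠ 1 := by
    intro h1
    rw [hz0def] at h1
    apply hxz1
    have : x z1 = z1⁻¹ := (inv_eq_of_mul_eq_one_right h1).symm
    rw [this, hinv1]
  have hz1ne : z1 ≠ 1 := by
    intro h1
    apply hxz1
    rw [h1, map_one]
  have hxz1ne : x z1 ≠ 1 := by
    intro h1
    apply hz1ne
    have := hx.invol z1
    rw [h1, map_one] at this
    exact this.symm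
  have hz1z0 : z1 ≠ z0 := by
    intro h1
    apply hxz1ne
    have : z1 * 1 = z1 * x z1 := by rw [mul_one, ← hz0def]; exact h1
    exact (mul_left_cancel this).symm
  have hxz1z0 : x z1 ≠ z0 := by
    intro h1
    apply hz1ne
    have : 1 * x z1 = z1 * x z1 := by rw [one_mul, ← hz0def]; exact h1
    exact (mul_right_cancel this).symm
  -- the centre is `{1, z1, x z1, z0}`
  let _ : Fintype T := Fintype.ofFinite T
  have hall : ∀ z ∈ Subgroup.center T, z = 1 ∨ z = z1 ∨ z = x z1 ∨ z = z0 := by
    set S : Finset T := {1, z1, x z1, z0} with hS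
    set Zf : Finset T := Finset.univ.filter (fun t => t ∈ Subgroup.center T) with hZf
    have hScard : S.card = 4 := by
      rw [hS, Finset.card_insert_of_notMem, Finset.card_insert_of_notMem,
        Finset.card_insert_of_notMem, Finset.card_singleton]
      · simpa using hxz1z0
      · simp only [Finset.mem_insert, Finset.mem_singleton, not_or]
        exact ⟨fun h => hxz1 h.symm, hz1z0⟩
      · simp only [Finset.mem_insert, Finset.mem_singleton, not_or]
        exact ⟨fun h => hz1ne h.symm, fun h => hxz1ne h.symm, fun h => hz0ne h.symm⟩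
    have hZfcard : Zf.card = 4 := by
      rw [← hZ, Nat.card_eq_fintype_card, Fintype.card_subtype]
    have hsub : S ⊆ Zf := by
      intro s hs
      rw [hZf, Finset.mem_filter]
      refine ⟨Finset.mem_univ _, ?_⟩
      rw [hS] at hs
      simp only [Finset.mem_insert, Finset.mem_singleton] at hs
      rcases hs with rfl | rfl | rfl | rfl
      · exact Subgroup.one_mem _
      · exact hz1
      · exact hxZ _ hz1
      · exact hz0Z
    have heq : S = Zf := Finset.eq_of_subset_of_card_le hsub (by rw [hScard, hZfcard])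
    intro z hzZ
    have : z ∈ S := by
      rw [heq, hZf, Finset.mem_filter]; exact ⟨Finset.mem_univ _, hzZ⟩
    rw [hS] at this
    simpa only [Finset.mem_insert, Finset.mem_singleton] using this
  refine ⟨z0, ⟨hz0Z, hz0ne, hz0fix, ?_, ?_, ⟨z1, hz1, hz0def.symm⟩⟩⟩
  · intro z hzZ hxz
    rcases hall z hzZ with rfl | rfl | rfl | rfl
    · exact Or.inl rfl
    · exact absurd hxz hxz1
    · rw [hx.invol] at hxz
      exact absurd hxz.symm hxz1
    · exact Or.inr rfl
  · intro z hzZ
    rcases hall z hzZ with rfl | rfl | rfl | rfl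
    · left; rw [map_one, mul_one]
    · right; exact hz0def.symm
    · right; rw [hx.invol, ← hcomm]; exact hz0def.symm
    · left; rw [hz0fix]; exact hZ2 _ hz0Z

omit [Finite T] in
theorem lift_fixed (hx : XData ρ x) (hZ2 : ∀ z ∈ Subgroup.center T, z * z = 1) {z0 : T}
    (hz : ZData x z0) (t : T) (ht : t⁻¹ * x t ∈ Subgroup.center T) :
    ∃ z ∈ Subgroup.center T, x (t * z) = t * z := by
  set w : T := t⁻¹ * x t with hw
  have hww : w * w = 1 := hZ2 w ht
  have hwinv : w⁻¹ = w := inv_eq_of_mul_eq_one_left hww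
  have hxw : x w = w := by
    have : x w = w⁻¹ := by
      rw [hw, map_mul, map_inv, hx.invol, mul_inv_rev, inv_inv]
    rw [this, hwinv]
  have hxt : x t = t * w := by rw [hw, mul_inv_cancel_left]
  rcases hz.only w ht hxw with h1 | h0
  · refine ⟨1, Subgroup.one_mem _, ?_⟩
    rw [mul_one, hxt, h1, mul_one]
  · obtain ⟨z1, hz1, hz1n⟩ := hz.norm_surj
    refine ⟨z1, hz1, ?_⟩
    have hsq : x z1 * x z1 = 1 := by rw [← map_mul, hZ2 z1 hz1, map_one]
    rw [map_mul, hxt, h0, ← hz1n]
    calc t * (z1 * x z1) * x z1 = t * z1 * (x z1 * x z1) := by simp only [mul_assoc]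
      _ = t * z1 := by rw [hsq, mul_one]

end Cfsg.Agent.Helper8.S64
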