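import Mathlib
import Cfsg.Prelude.Def_Characters
import Cfsg.Agent.Helper23.FSClifford
import Cfsg.Agent.Helper24.Ito

/-!
Semidirect products `N ⋊ P`: the canonical extension of a linear character of `N` to its inertia
group, and the Frobenius–Schur indicator of the induced character.
-/

set_option autoImplicit false
set_option linter.unusedSectionVars false
set_option linter.unusedVariables false

namespace Cfsg.Agent.Helper8.SR2

open Cfsg Cfsg.Agent.Helper24

universe u

section Parts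

variable {G : Type u} [Group G] {N P : Subgroup G} [hN : N.Normal] (hc : N.IsComplement' P)

/-- The `N`-part of an element of `N ⋊ P`. -/
noncomputable def nPart (g : G) : N := ((SemidirectProduct.mulEquivSubgroup hc).symm g).left

/-- The `P`-part of an element of `N ⋊ P`. -/
noncomputable def pPart (g : G) : P := ((SemidirectProduct.mulEquivSubgroup hc).symm g).right

theorem nPart_mul_pPart (g : G) : (nPart hc g : G) * (pPart hc g : G) = g := by
  have := (SemidirectProduct.mulEquivSubgroup hc).apply_symm_apply g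
  rw [SemidirectProduct.mulEquivSubgroup_apply] at this
  exact this

theorem parts_mul (n : N) (s : P) :
    nPart hc ((n : G) * s) = n ∧ pPart hc ((n : G) * s) = s := by
  have h : (SemidirectProduct.mulEquivSubgroup hc).symm ((n : G) * s) = ⟨n, s⟩ := by
    rw [MulEquiv.symm_apply_eq, SemidirectProduct.mulEquivSubgroup_apply]
  unfold nPart pPart
  rw [h]
  exact ⟨rfl, rfl⟩

theorem pPart_mul (g h : G) : pPart hc (g * h) = pPart hc g * pPart hc h := by
  unfold pPart
  rw [map_mul]
  rfl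

theorem nPart_mul_coe (g h : G) :
    (nPart hc (g * h) : G) =
      (nPart hc g : G) * ((pPart hc g : G) * (nPart hc h : G) * (pPart hc g : G)⁻¹) := by
  unfold nPart pPart
  rw [map_mul, SemidirectProduct.mul_left]
  simp

include hc in
theorem sum_eq_sum_parts [Fintype G] [Fintype N] [Fintype P] (F : G → ℂ) :
    ∑ x : G, F x = ∑ s : P, ∑ n : N, F ((n : G) * s) := by
  let e : N × P ≃ G :=
    SemidirectProduct.equivProd.symm.trans (SemidirectProduct.mulEquivSubgroup hc).toEquiv
  have he : ∀ a : N × P, e a = (a.1 : G) * a.2 := by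
    intro a
    show (SemidirectProduct.mulEquivSubgroup hc) (SemidirectProduct.equivProd.symm a) = _
    rw [SemidirectProduct.mulEquivSubgroup_apply]
    rfl
  rw [← Equiv.sum_comp e, Fintype.sum_prod_type_right]
  refine Finset.sum_congr rfl fun s _ => Finset.sum_congr rfl fun n _ => ?_
  rw [he]

end Parts

section Ext

variable {G : Type u} [Group G] {N P : Subgroup G} [hN : N.Normal] (hc : N.IsComplement' P)
  (lam : N →* ℂˣ)

/-- The inertia group of the linear character `lam`. -/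
def inertia : Subgroup G := inertiaSubgroup N (fun n => ((lam n : ℂˣ) : ℂ))

theorem mem_inertia (g : G) :
    g ∈ inertia lam ↔ ∀ n : N, lam ⟨g * n * g⁻¹, hN.conj_mem n n.2 g⟩ = lam n := by
  unfold inertia
  rw [mem_inertiaSubgroup]
  constructor
  · intro h n
    exact Units.ext (h n)
  · intro h n
    rw [h n]

theorem le_inertia : N ≤ inertia lam := by
  intro g hg
  rw [mem_inertia]
  intro n
  have : (⟨g * n * g⁻¹, hN.conj_mem n n.2 g⟩ : N) = ⟨g, hg⟩ * n * ⟨g, hg⟩⁻¹ := rfl
  rw [this, map_mul, map_mul, map_inv, mul_comm, inv_mul_cancel_left]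

theorem pPart_mem_inertia {x : G} (hx : x ∈ inertia lam) : (pPart hc x : G) ∈ inertia lam := by
  have h1 := nPart_mul_pPart hc x
  have h2 : (pPart hc x : G) = (nPart hc x : G)⁻¹ * x := by
    rw [eq_inv_mul_iff_mul_eq]
    exact h1
  rw [h2]
  exact (inertia lam).mul_mem ((inertia lam).inv_mem (le_inertia lam (nPart hc x).2)) hx

/-- The canonical extension of `lam` to its inertia group. -/
noncomputable def lamHat : inertia lam →* ℂˣ :=
  MonoidHom.mk' (fun x => lam (nPart hc (x : G))) (by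
    intro x y
    have h1 : nPart hc ((x : G) * (y : G)) = nPart hc (x : G) *
        ⟨(pPart hc (x : G) : G) * (nPart hc (y : G) : G) * (pPart hc (x : G) : G)⁻¹,
          hN.conj_mem _ (nPart hc (y : G)).2 _⟩ := by
      apply Subtype.ext
      rw [nPart_mul_coe]
      rfl
    show lam (nPart hc ((x : G) * (y : G))) = _
    rw [h1, map_mul, (mem_inertia lam _).mp (pPart_mem_inertia hc lam x.2)])

theorem lamHat_apply (x : inertia lam) : lamHat hc lam x = lam (nPart hc (x : G)) := rfl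

theorem nPart_coe (n : N) : nPart hc (n : G) = n := by
  have := (parts_mul hc n 1).1
  rwa [OneMemClass.coe_one, mul_one] at this

theorem lamHat_of_mem (n : N) :
    lamHat hc lam (Subgroup.inclusion (le_inertia lam) n) = lam n := by
  rw [lamHat_apply]
  show lam (nPart hc (n : G)) = lam n
  rw [nPart_coe]

end Ext

section FS

variable {G : Type u} [Group G] [Fintype G]

/-- The Frobenius–Schur indicator of an induced function. -/
theorem fsInd_indFun (I : Subgroup G) (θ : I → ℂ) :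
    fsInd (indFun I θ) = (Nat.card I : ℂ)⁻¹ * ∑ x : G, extendByZero I θ (x * x) := by
  classical
  unfold fsInd
  simp_rw [Helper8.indFun_def]
  rw [← Finset.mul_sum, Finset.sum_comm]
  have h1 : ∀ y : G, ∑ x : G, extendByZero I θ (y⁻¹ * (x * x) * y) =
      ∑ x : G, extendByZero I θ (x * x) := by
    intro y
    rw [← Equiv.sum_comp (MulAut.conj y).toEquiv]
    refine Finset.sum_congr rfl fun x _ => ?_
    congr 1
    simp only [MulEquiv.toEquiv_eq_coe, EquivLike.coe_coe, MulAut.conj_apply]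
    group
  simp_rw [h1]
  rw [Finset.sum_const, Finset.card_univ, nsmul_eq_mul, ← Nat.card_eq_fintype_card]
  have hG : (Nat.card G : ℂ) ≠ 0 := by exact_mod_cast Nat.card_pos.ne'
  field_simp

variable {N P : Subgroup G} [hN : N.Normal] (hc : N.IsComplement' P) (lam : N →* ℂˣ)

/-- The indicator of the character induced from a twist of the canonical extension is `1`. -/
theorem fsInd_ind_lamHat (z : G) (hzP : z ∈ P) (hz : ∀ n ∈ N, z * n * z⁻¹ = n⁻¹)
    (ν : G →* ℂˣ) (hν : ∀ g : G, ν (g * g) = 1) :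
    fsInd (indFun (inertia lam)
      (fun x : inertia lam => ((ν x : ℂˣ) : ℂ) * ((lamHat hc lam x : ℂˣ) : ℂ))) = 1 := by
  classical
  haveI : Fintype N := Fintype.ofFinite _
  haveI : Fintype P := Fintype.ofFinite _
  have hNI : N ≤ inertia lam := le_inertia lam
  rw [fsInd_indFun]
  -- the summand
  have h2 : ∀ x : G, extendByZero (inertia lam)
      (fun x : (inertia lam) => ((ν x : ℂˣ) : ℂ) * ((lamHat hc lam x : ℂˣ) : ℂ)) (x * x) =
      if x * x ∈ (inertia lam) then ((lam (nPart hc (x * x)) : ℂˣ) : ℂ) else 0 := by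
    intro x
    by_cases h : x * x ∈ (inertia lam)
    · rw [if_pos h, Helper8.ebz_mem (inertia lam) _ h]
      show ((ν (x * x) : ℂˣ) : ℂ) * ((lamHat hc lam ⟨x * x, h⟩ : ℂˣ) : ℂ) = _
      rw [hν x, Units.val_one, one_mul, lamHat_apply]
    · rw [if_neg h, Helper8.ebz_not_mem (inertia lam) _ h]
  simp_rw [h2]
  rw [sum_eq_sum_parts hc]
  -- conjugation by `z⁻¹` also inverts
  have hz' : ∀ n ∈ N, z⁻¹ * n * z = n⁻¹ := by
    intro n hn
    have h3 := hz n⁻¹ (N.inv_mem hn)
    rw [inv_inv] at h3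
    calc z⁻¹ * n * z = z⁻¹ * (z * n⁻¹ * z⁻¹) * z := by rw [h3]
      _ = n⁻¹ := by group
  -- the summand at `n * s`
  have h4 : ∀ (s : P) (n : N), (if ((n : G) * s) * ((n : G) * s) ∈ (inertia lam) then
      ((lam (nPart hc (((n : G) * s) * ((n : G) * s))) : ℂˣ) : ℂ) else 0) =
      if ((s : G) * s) ∈ (inertia lam) then
        ((lam n : ℂˣ) : ℂ) * ((lam ⟨(s : G) * n * (s : G)⁻¹, hN.conj_mem n n.2 s⟩ : ℂˣ) : ℂ)
      else 0 := by
    intro s n
    obtain ⟨hn1, hs1⟩ := parts_mul hc n s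
    have h5 : ((n : G) * s) * ((n : G) * s) ∈ (inertia lam) ↔ ((s : G) * s) ∈ (inertia lam) := by
      have h6 := nPart_mul_pPart hc (((n : G) * s) * ((n : G) * s))
      rw [pPart_mul, hs1, Subgroup.coe_mul] at h6
      rw [← h6]
      exact Subgroup.mul_mem_cancel_left (inertia lam) (hNI (nPart hc _).2)
    have h7 : nPart hc (((n : G) * s) * ((n : G) * s)) =
        n * ⟨(s : G) * n * (s : G)⁻¹, hN.conj_mem n n.2 s⟩ := by
      apply Subtype.ext
      rw [nPart_mul_coe, hn1, hs1]
      rfl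
    by_cases h : ((s : G) * s) ∈ (inertia lam)
    · rw [if_pos (h5.mpr h), if_pos h, h7, map_mul, Units.val_mul]
    · rw [if_neg (fun h' => h (h5.mp h')), if_neg h]
  simp_rw [h4]
  -- the inner sum
  have h8 : ∀ s : P, (∑ n : N, if ((s : G) * s) ∈ (inertia lam) then
        ((lam n : ℂˣ) : ℂ) * ((lam ⟨(s : G) * n * (s : G)⁻¹, hN.conj_mem n n.2 s⟩ : ℂˣ) : ℂ)
      else 0) = if (s : G) * z⁻¹ ∈ (inertia lam) then (Fintype.card N : ℂ) else 0 := by
    intro s
    let f : N →* ℂ := (Units.coeHom ℂ).comp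
      (lam * lam.comp (MulAut.conjNormal (s : G)).toMonoidHom)
    have hf : ∀ n : N, f n =
        ((lam n : ℂˣ) : ℂ) * ((lam ⟨(s : G) * n * (s : G)⁻¹, hN.conj_mem n n.2 s⟩ : ℂˣ) : ℂ) := by
      intro n
      show ((lam n * lam (MulAut.conjNormal (s : G) n) : ℂˣ) : ℂ) = _
      rw [Units.val_mul]
      rfl
    have hQ : f = 1 ↔ (s : G) * z⁻¹ ∈ (inertia lam) := by
      rw [mem_inertia]
      constructor
      · intro hf1 n
        have h9 := DFunLike.congr_fun hf1 ⟨z⁻¹ * n * z⁻¹⁻¹, hN.conj_mem n n.2 z⁻¹⟩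
        rw [hf] at h9
        have h10 : (⟨z⁻¹ * n * z⁻¹⁻¹, hN.conj_mem n n.2 z⁻¹⟩ : N) = n⁻¹ := by
          apply Subtype.ext
          show z⁻¹ * (n : G) * z⁻¹⁻¹ = ((n⁻¹ : N) : G)
          rw [inv_inv, hz' n n.2]
          rfl
        have h11 : (⟨(s : G) * z⁻¹ * n * ((s : G) * z⁻¹)⁻¹, hN.conj_mem n n.2 _⟩ : N) =
            ⟨(s : G) * ((⟨z⁻¹ * n * z⁻¹⁻¹, hN.conj_mem n n.2 z⁻¹⟩ : N) : G) * (s : G)⁻¹,
              hN.conj_mem _ (Subtype.property _) s⟩ := by
          apply Subtype.ext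
          show (s : G) * z⁻¹ * n * ((s : G) * z⁻¹)⁻¹ = (s : G) * (z⁻¹ * n * z⁻¹⁻¹) * (s : G)⁻¹
          group
        rw [h11]
        have h12 : ((lam ⟨z⁻¹ * n * z⁻¹⁻¹, hN.conj_mem n n.2 z⁻¹⟩ : ℂˣ) : ℂ) *
            ((lam ⟨(s : G) * ((⟨z⁻¹ * n * z⁻¹⁻¹, hN.conj_mem n n.2 z⁻¹⟩ : N) : G) * (s : G)⁻¹,
              hN.conj_mem _ (Subtype.property _) s⟩ : ℂˣ) : ℂ) = 1 := h9
        rw [← Units.val_mul, h10, map_inv] at h12
        have h13 := Units.ext (u := (lam n)⁻¹ * lam ⟨(s : G) * ((n⁻¹ : N) : G) * (s : G)⁻¹,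
              hN.conj_mem _ (Subtype.property _) s⟩) (v := 1) (by rw [h12]; rfl)
        rw [h10]
        exact (inv_mul_eq_one.mp h13).symm
      · intro hs
        apply DFunLike.ext
        intro n
        rw [hf]
        have h9 := hs ⟨z * n * z⁻¹, hN.conj_mem n n.2 z⟩
        have h10 : (⟨z * n * z⁻¹, hN.conj_mem n n.2 z⟩ : N) = n⁻¹ := by
          apply Subtype.ext
          show z * (n : G) * z⁻¹ = ((n⁻¹ : N) : G)
          rw [hz n n.2]
          rfl
        have h11 : (⟨(s : G) * z⁻¹ * ((⟨z * n * z⁻¹, hN.conj_mem n n.2 z⟩ : N) : G) *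
            ((s : G) * z⁻¹)⁻¹, hN.conj_mem _ (Subtype.property _) _⟩ : N) =
            ⟨(s : G) * n * (s : G)⁻¹, hN.conj_mem n n.2 s⟩ := by
          apply Subtype.ext
          show (s : G) * z⁻¹ * (z * (n : G) * z⁻¹) * ((s : G) * z⁻¹)⁻¹ = (s : G) * n * (s : G)⁻¹
          group
        rw [h11, h10, map_inv] at h9
        rw [h9, ← Units.val_mul, mul_inv_cancel]
        rfl
    have hsq : f = 1 → (s : G) * s ∈ (inertia lam) := by
      intro hf1
      rw [mem_inertia]
      intro n
      have h9 : ∀ m : N, lam ⟨(s : G) * m * (s : G)⁻¹, hN.conj_mem m m.2 s⟩ = (lam m)⁻¹ := by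
        intro m
        have h10 := DFunLike.congr_fun hf1 m
        rw [hf, ← Units.val_mul] at h10
        have h11 := Units.ext (u := lam m * lam ⟨(s : G) * m * (s : G)⁻¹, hN.conj_mem m m.2 s⟩)
          (v := 1) (by rw [h10]; rfl)
        exact eq_inv_of_mul_eq_one_right h11
      have h12 : (⟨(s : G) * s * n * ((s : G) * s)⁻¹, hN.conj_mem n n.2 _⟩ : N) =
          ⟨(s : G) * ((⟨(s : G) * n * (s : G)⁻¹, hN.conj_mem n n.2 s⟩ : N) : G) * (s : G)⁻¹,
            hN.conj_mem _ (Subtype.property _) s⟩ := by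
        apply Subtype.ext
        show (s : G) * s * n * ((s : G) * s)⁻¹ = (s : G) * ((s : G) * n * (s : G)⁻¹) * (s : G)⁻¹
        group
      rw [h12, h9, h9, inv_inv]
    by_cases hf1 : f = 1
    · rw [if_pos (hQ.mp hf1)]
      simp_rw [if_pos (hsq hf1), ← hf]
      rw [sum_hom_units f, if_pos hf1]
    · rw [if_neg (fun h => hf1 (hQ.mpr h))]
      by_cases hss : (s : G) * s ∈ (inertia lam)
      · simp_rw [if_pos hss, ← hf]
        rw [sum_hom_units f, if_neg hf1, Nat.cast_zero]
      · simp_rw [if_neg hss]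
        rw [Finset.sum_const_zero]
  simp_rw [h8]
  -- the order of `(inertia lam)`
  have h14 : (Nat.card (inertia lam) : ℂ) = ∑ s : P, if (s : G) ∈ (inertia lam) then (Fintype.card N : ℂ) else 0 := by
    have h15 : (Nat.card (inertia lam) : ℂ) = ∑ x : G, if x ∈ (inertia lam) then (1 : ℂ) else 0 := by
      rw [Finset.sum_boole, Nat.card_eq_fintype_card, Fintype.card_subtype]
    rw [h15, sum_eq_sum_parts hc]
    refine Finset.sum_congr rfl fun s _ => ?_
    have h16 : ∀ n : N, ((n : G) * s ∈ (inertia lam)) ↔ ((s : G) ∈ (inertia lam)) := fun n =>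
      Subgroup.mul_mem_cancel_left (inertia lam) (hNI n.2)
    simp_rw [h16]
    by_cases hs : (s : G) ∈ (inertia lam)
    · simp_rw [if_pos hs]
      rw [Finset.sum_const, Finset.card_univ, nsmul_eq_mul, mul_one]
    · simp_rw [if_neg hs]
      rw [Finset.sum_const_zero]
  have h17 : (∑ s : P, if (s : G) * z⁻¹ ∈ (inertia lam) then (Fintype.card N : ℂ) else 0) =
      ∑ s : P, if (s : G) ∈ (inertia lam) then (Fintype.card N : ℂ) else 0 := by
    rw [← Equiv.sum_comp (Equiv.mulRight (⟨z, hzP⟩ : P))]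
    refine Finset.sum_congr rfl fun s _ => ?_
    have h18 : (((Equiv.mulRight (⟨z, hzP⟩ : P)) s : P) : G) * z⁻¹ = s := by
      show (s : G) * z * z⁻¹ = s
      rw [mul_inv_cancel_right]
    rw [h18]
  rw [h17, ← h14]
  have hI0 : (Nat.card (inertia lam) : ℂ) ≠ 0 := by exact_mod_cast Nat.card_pos.ne'
  exact inv_mul_cancel₀ hI0

end FS

end Cfsg.Agent.Helper8.SR2
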