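import Mathlib
import Cfsg.Prelude.Def_Characters
import Cfsg.Agent.Helper23.FSClifford

/-!
Counting strongly real linear characters against strongly real characters induced from twists of
an extension (variant of `Helper23.FSClifford.card_strongly_real_linear_le` with the hypotheses on
the normal subgroup replaced by abstract ones).
-/

set_option autoImplicit false
set_option linter.unusedSectionVars false
set_option linter.unusedVariables false
set_option linter.style.haveILetI false
set_option linter.unnecessarySimpa false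

namespace Cfsg.Agent.Helper8.SR3

open Cfsg Cfsg.Agent.Helper24 Cfsg.Agent.Helper23.FSClifford

universe u

variable {G : Type u} [Group G] [Fintype G] (N : Subgroup G) [hN : N.Normal]
  (φ : IrrCharacter N) (I : Subgroup G) [Fintype I] (hNI : N ≤ I) (ψ : IrrCharacter I)

theorem card_strongly_real_linear_le_of
    (hT : ∀ g : G, g ∈ I ↔ ∀ h : N,
      (φ : N → ℂ) ⟨g * h * g⁻¹, hN.conj_mem h h.2 g⟩ = (φ : N → ℂ) h)
    (hψ : ∀ n : N, (ψ : I → ℂ) (Subgroup.inclusion hNI n) = (φ : N → ℂ) n)
    (hkerν : ∀ ν : G →* ℂˣ, (∀ g : G, ν (g * g) = 1) → ∀ n ∈ N, ν n = 1)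
    (hfsν : ∀ ν : G →* ℂˣ, (∀ g : G, ν (g * g) = 1) →
      fsInd (indFun I (twistExt I ψ ν : I → ℂ)) = 1) :
    Nat.card {χ : IrrCharacter G // charDegree (χ : G → ℂ) = 1 ∧ fsInd (χ : G → ℂ) = 1} ≤
      I.index * Nat.card {χ : IrrCharacter G //
        charDegree (χ : G → ℂ) = charDegree (φ : ↥N → ℂ) * I.index ∧
          fsInd (χ : G → ℂ) = 1} := by
  classical
  haveI : Finite G := Finite.of_fintype G
  haveI : Fintype N := Fintype.ofFinite _
  haveI : Fintype (IrrCharacter G) := Fintype.ofFinite _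
  haveI : Fintype (IrrCharacter I) := Fintype.ofFinite _
  -- the type of strongly real linear characters
  let A := {χ : IrrCharacter G // charDegree (χ : G → ℂ) = 1 ∧ fsInd (χ : G → ℂ) = 1}
  let toLin : A → {χ : IrrCharacter G // charDegree (χ : G → ℂ) = 1} := fun χ => ⟨χ.1, χ.2.1⟩
  have hsq : ∀ (χ : A) (g : G), linHom (toLin χ) (g * g) = 1 := by
    intro χ g
    apply Units.ext
    rw [map_mul, Units.val_mul, Units.val_one]
    apply mul_self_eq_one_of_real_of_norm
    · rw [linHom_apply]
      exact (fsInd_irr χ.1).2 (by rw [χ.2.2]; exact one_ne_zero) g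
    · exact norm_monoidHom_eq_one ((Units.coeHom ℂ).comp (linHom (toLin χ))) g
  have hker : ∀ (χ : A) (n : G), n ∈ N → linHom (toLin χ) n = 1 :=
    fun χ => hkerν (linHom (toLin χ)) (hsq χ)
  have hS : ∀ χ μ : A,
      IsIrrCharacter G (indFun I (twistExt I ψ (linHom (toLin χ)) : I → ℂ)) ∧
      (indFun I (twistExt I ψ (linHom (toLin χ)) : I → ℂ) =
        indFun I (twistExt I ψ (linHom (toLin μ)) : I → ℂ) →
        (twistExt I ψ (linHom (toLin χ)) : I → ℂ) =
          (twistExt I ψ (linHom (toLin μ)) : I → ℂ)) := fun χ μ =>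
    Cfsg.Agent.S1489.result N I (φ : N → ℂ) φ.2 hT hNI _ _ (twistExt I ψ (linHom (toLin χ))).2
      (twistExt I ψ (linHom (toLin μ))).2 (twistExt_over N φ I hNI ψ hψ _ (hker χ))
      (twistExt_over N φ I hNI ψ hψ _ (hker μ))
  have hfs : ∀ χ : A, fsInd (indFun I (twistExt I ψ (linHom (toLin χ)) : I → ℂ)) = 1 :=
    fun χ => hfsν (linHom (toLin χ)) (hsq χ)
  obtain ⟨Φ, hΦ⟩ : ∃ Φ : A →
      {χ : IrrCharacter G // charDegree (χ : G → ℂ) = charDegree (φ : ↥N → ℂ) * I.index ∧
        fsInd (χ : G → ℂ) = 1},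
      ∀ χ, ((Φ χ).1 : G → ℂ) = indFun I (twistExt I ψ (linHom (toLin χ)) : I → ℂ) :=
    ⟨fun χ => ⟨⟨indFun I (twistExt I ψ (linHom (toLin χ)) : I → ℂ), (hS χ χ).1⟩,
      charDegree_indFun_twistExt N φ I hNI ψ hψ _, hfs χ⟩, fun _ => rfl⟩
  -- the fibers
  have hfiber : ∀ b ∈ (Finset.univ : Finset A).image Φ,
      (Finset.univ.filter (fun χ => Φ χ = b)).card ≤ I.index := by
    intro b hb
    obtain ⟨χ₀, _, rfl⟩ := Finset.mem_image.mp hb
    obtain ⟨π, hπdef⟩ : ∃ π : G → ℂ,
        π = indFun I (fun x : I => ((linHom (toLin χ₀) x : ℂˣ) : ℂ)) := ⟨_, rfl⟩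
    have hlamI : IsIrrCharacter I (fun x : I => ((linHom (toLin χ₀) x : ℂˣ) : ℂ)) :=
      isIrrCharacter_of_monoidHom ((Units.coeHom ℂ).comp ((linHom (toLin χ₀)).comp I.subtype))
    have hπ : IsCharacter G π := by
      rw [hπdef]
      exact isCharacter_indFun I (IsIrrCharacter.isCharacter hlamI)
    have hπ1 : π 1 = (I.index : ℂ) := by
      rw [hπdef, Helper5.indFun_apply_one, OneMemClass.coe_one, map_one, Units.val_one, mul_one]
    have hbound := card_constituents_le hπ I.index hπ1
    refine le_trans ?_ hbound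
    rw [← Fintype.card_subtype, ← Nat.card_eq_fintype_card]
    have hmem : ∀ μ : {μ : A // Φ μ = Φ χ₀}, classInner π (μ.1.1 : G → ℂ) ≠ 0 := by
      rintro ⟨μ, hμ⟩
      have h1 : indFun I (twistExt I ψ (linHom (toLin μ)) : I → ℂ) =
          indFun I (twistExt I ψ (linHom (toLin χ₀)) : I → ℂ) := by
        rw [← hΦ μ, ← hΦ χ₀, hμ]
      have h2 := (hS μ χ₀).2 h1
      have h3 : ∀ x : I, (linHom (toLin μ) / linHom (toLin χ₀)) (x : G) = 1 := by
        intro x
        refine hom_eq_one_of_mul_eq (Subgroup.inclusion hNI) ψ ?_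
          ((linHom (toLin μ) / linHom (toLin χ₀)).comp I.subtype) ?_ ?_ x
        · have : (fun m : N => (ψ : I → ℂ) (Subgroup.inclusion hNI m)) = (φ : N → ℂ) :=
            funext hψ
          rw [this]
          exact φ.2
        · intro m
          show (linHom (toLin μ) / linHom (toLin χ₀)) (m : G) = 1
          rw [MonoidHom.div_apply, hker μ _ m.2, hker χ₀ _ m.2, div_one]
        · intro y
          show (((linHom (toLin μ) / linHom (toLin χ₀)) (y : G) : ℂˣ) : ℂ) * (ψ : I → ℂ) y =
            (ψ : I → ℂ) y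
          have h4 := congrFun h2 y
          rw [twistExt_apply, twistExt_apply] at h4
          rw [MonoidHom.div_apply, Units.val_div_eq_div_val, div_mul_eq_mul_div, h4,
            mul_div_assoc]
          exact mul_div_cancel₀ _ (Units.ne_zero _)
      have h5 : (fun x : I => (μ.1 : G → ℂ) x) =
          fun x : I => ((linHom (toLin χ₀) x : ℂˣ) : ℂ) := by
        funext x
        have h6 := h3 x
        rw [MonoidHom.div_apply, div_eq_one] at h6
        rw [← linHom_apply (toLin μ), h6]
      rw [hπdef, Helper8.frobenius_reciprocity I _ _ (isClassFunction_irr μ.1), h5,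
        (isIrrCharacter_iff_classInner_self.mp hlamI).2]
      exact one_ne_zero
    refine Nat.card_le_card_of_injective
      (fun μ : {μ : A // Φ μ = Φ χ₀} =>
        (⟨μ.1.1, hmem μ⟩ : {χ : IrrCharacter G // classInner π (χ : G → ℂ) ≠ 0})) ?_
    intro μ μ' h
    have := congrArg Subtype.val h
    exact Subtype.ext (Subtype.ext this)
  have hmain := Finset.card_le_mul_card_image (f := Φ) Finset.univ I.index hfiber
  rw [Nat.card_eq_fintype_card, Nat.card_eq_fintype_card]
  calc Fintype.card A = (Finset.univ : Finset A).card := Finset.card_univ.symm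
    _ ≤ I.index * ((Finset.univ : Finset _).image Φ).card := hmain
    _ ≤ I.index * Fintype.card {χ : IrrCharacter G //
        charDegree (χ : G → ℂ) = charDegree (φ : ↥N → ℂ) * I.index ∧
          fsInd (χ : G → ℂ) = 1} :=
        Nat.mul_le_mul_left _ (Finset.card_le_univ _)

end Cfsg.Agent.Helper8.SR3
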