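import Mathlib
import Cfsg.Prelude.Def_Characters
import Cfsg.Prelude.Def_Transfer
import Cfsg.Agent.Helper8.SR1
import Cfsg.Agent.Helper8.SR2
import Cfsg.Agent.Helper8.SR3
import Cfsg.Agent.Helper8.DualGroup

/-!
The average degree of the strongly real characters of degree `1` or even of `N ⋊ P` is at least
`4/3`.
-/

set_option autoImplicit false
set_option linter.unusedSectionVars false
set_option linter.unusedVariables false
set_option linter.style.haveILetI false

namespace Cfsg.Agent.Helper8.SR4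

open Cfsg Cfsg.Agent.Helper24

universe u

/-- The arithmetic at the end. -/
theorem four_card_le {α : Type*} [DecidableEq α] (S : Finset α) (deg : α → ℕ) (d : ℕ)
    (hd : 2 ≤ d) (hS : ∀ χ ∈ S, deg χ = 1 ∨ 2 ≤ deg χ)
    (hAB : (S.filter (fun χ => deg χ = 1)).card ≤ d * (S.filter (fun χ => deg χ = d)).card) :
    4 * S.card ≤ 3 * ∑ χ ∈ S, deg χ := by
  have h1 : ∀ χ ∈ S, 4 + d * (if deg χ = d then 1 else 0) ≤
      3 * deg χ + (if deg χ = 1 then 1 else 0) := by
    intro χ hχ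
    rcases hS χ hχ with h | h
    · have hne : deg χ ≠ d := by omega
      rw [if_neg hne, if_pos h, h]
      omega
    · have hne : deg χ ≠ 1 := by omega
      rw [if_neg hne]
      by_cases hdd : deg χ = d
      · rw [if_pos hdd, hdd]
        omega
      · rw [if_neg hdd]
        omega
  have h2 := Finset.sum_le_sum h1
  rw [Finset.sum_add_distrib, Finset.sum_add_distrib, Finset.sum_const, smul_eq_mul,
    ← Finset.mul_sum, ← Finset.mul_sum, Finset.sum_boole, Finset.sum_boole] at h2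
  simp only [Nat.cast_id] at h2
  omega

variable {G : Type u} [Group G] [Fintype G]

theorem main (N P : Subgroup G) (hN : N.Normal) (q : ℕ) [Fact q.Prime] (hq : q ≠ 2)
    (hNel : Cfsg.IsElementaryAbelian q N) (hP : IsPGroup 2 ↥P) (hP1 : P ≠ ⊥)
    (hdisj : N ⊓ P = ⊥) (hprod : N ⊔ P = ⊤)
    (hmin : N ≠ ⊥ ∧ ∀ M : Subgroup G, M.Normal → M ≠ ⊥ → N ≤ M) :
    ∃ d : ℕ, 2 ∣ d ∧ 2 ≤ d ∧
    Nat.card {χ : IrrCharacter G // charDegree (χ : G → ℂ) = 1 ∧ fsInd (χ : G → ℂ) = 1} ≤
      d * Nat.card {χ : IrrCharacter G // charDegree (χ : G → ℂ) = d ∧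
          fsInd (χ : G → ℂ) = 1} := by
  classical
  haveI := hN
  have hcomm : ∀ a ∈ N, ∀ b ∈ N, a * b = b * a := by
    intro a ha b hb
    have := hNel.1.is_comm.comm ⟨a, ha⟩ ⟨b, hb⟩
    exact congrArg Subtype.val this
  obtain ⟨z, hzP, hz⟩ := SR1.exists_inverting N P hN hcomm hP hP1 hdisj hprod hmin
  have hc : N.IsComplement' P := by
    apply Subgroup.isComplement'_of_disjoint_and_mul_eq_univ (disjoint_iff.mpr hdisj)
    rw [← Subgroup.normal_mul, hprod]
    rfl
  -- the order of `N` is odd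
  have hqodd : Odd q := (Fact.out : q.Prime).odd_of_ne_two hq
  have hNp : IsPGroup q ↥N := by
    intro g
    refine ⟨1, ?_⟩
    apply Subtype.ext
    rw [pow_one, Subgroup.coe_pow, hNel.2 g g.2]
    rfl
  obtain ⟨k, hk⟩ := hNp.exists_card_eq
  have hNodd : Odd (Nat.card N) := by
    rw [hk]
    exact hqodd.pow
  -- a nontrivial linear character
  obtain ⟨x, hx⟩ : ∃ x : N, x ≠ 1 := by
    have : Nontrivial ↥N := (Subgroup.nontrivial_iff_ne_bot N).mpr hmin.1
    exact exists_ne 1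
  obtain ⟨lam, -, hlamx⟩ := Cfsg.Agent.Helper8.exists_hom_units_of_not_mem
    (W := ↥N) (fun a b => hNel.1.is_comm.comm a b) ⊥ (x := x)
    (by rw [Subgroup.mem_bot]; exact hx)
  -- linear characters with square one are trivial on `N`
  have hkerν : ∀ ν : G →* ℂˣ, (∀ g : G, ν (g * g) = 1) → ∀ n ∈ N, ν n = 1 := by
    intro ν hν n hn
    obtain ⟨j, hj⟩ := hNodd
    have h1 : n ^ (Nat.card N) = 1 := by
      have h3 : (⟨n, hn⟩ : ↥N) ^ (Nat.card N) = 1 := pow_card_eq_one'
      have h4 := congrArg (fun y : ↥N => (y : G)) h3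
      exact h4
    have h2 : n = n ^ (j + 1) * n ^ (j + 1) := by
      rw [← pow_add]
      have : j + 1 + (j + 1) = Nat.card N + 1 := by omega
      rw [this, pow_succ, h1, one_mul]
    rw [h2]
    exact hν _
  -- the inertia group and the extension
  haveI : Fintype (SR2.inertia lam) := Fintype.ofFinite _
  let φ : IrrCharacter N :=
    ⟨fun n => ((lam n : ℂˣ) : ℂ), isIrrCharacter_of_monoidHom ((Units.coeHom ℂ).comp lam)⟩
  let ψ : IrrCharacter (SR2.inertia lam) :=
    ⟨fun x => ((SR2.lamHat hc lam x : ℂˣ) : ℂ),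
      isIrrCharacter_of_monoidHom ((Units.coeHom ℂ).comp (SR2.lamHat hc lam))⟩
  have hT : ∀ g : G, g ∈ SR2.inertia lam ↔ ∀ h : N,
      (φ : N → ℂ) ⟨g * h * g⁻¹, hN.conj_mem h h.2 g⟩ = (φ : N → ℂ) h := fun g =>
    mem_inertiaSubgroup N _ g
  have hψ : ∀ n : N, (ψ : SR2.inertia lam → ℂ) (Subgroup.inclusion (SR2.le_inertia lam) n) =
      (φ : N → ℂ) n := by
    intro n
    show ((SR2.lamHat hc lam (Subgroup.inclusion (SR2.le_inertia lam) n) : ℂˣ) : ℂ) =
      ((lam n : ℂˣ) : ℂ)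
    rw [SR2.lamHat_of_mem]
  have hfsν : ∀ ν : G →* ℂˣ, (∀ g : G, ν (g * g) = 1) →
      fsInd (indFun (SR2.inertia lam) (twistExt (SR2.inertia lam) ψ ν : SR2.inertia lam → ℂ)) = 1 :=
    fun ν hν => SR2.fsInd_ind_lamHat hc lam z hzP hz ν hν
  have hcount := SR3.card_strongly_real_linear_le_of N φ (SR2.inertia lam) (SR2.le_inertia lam) ψ
    hT hψ hkerν hfsν
  have hdeg : charDegree (φ : N → ℂ) = 1 := by
    unfold charDegree
    show ⌊(((lam 1 : ℂˣ) : ℂ)).re⌋₊ = 1
    rw [map_one, Units.val_one, Complex.one_re, Nat.floor_one]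
  rw [hdeg, one_mul] at hcount
  -- the index is a nontrivial power of two
  have hzI : z ∉ SR2.inertia lam := by
    intro hzI
    rw [SR2.mem_inertia] at hzI
    apply hlamx
    have h1 : ∀ n : N, lam n * lam n = 1 := by
      intro n
      have h2 := hzI n
      have h3 : (⟨z * n * z⁻¹, hN.conj_mem n n.2 z⟩ : N) = n⁻¹ := by
        apply Subtype.ext
        show z * (n : G) * z⁻¹ = ((n⁻¹ : N) : G)
        rw [hz n n.2]
        rfl
      rw [h3, map_inv] at h2
      exact inv_eq_iff_mul_eq_one.mp h2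
    have h4 : ∀ (ν : G →* ℂˣ), True := fun _ => trivial
    obtain ⟨j, hj⟩ := hNodd
    have h5 : x ^ (Nat.card N) = 1 := pow_card_eq_one'
    have h6 : x = x ^ (j + 1) * x ^ (j + 1) := by
      rw [← pow_add]
      have : j + 1 + (j + 1) = Nat.card N + 1 := by omega
      rw [this, pow_succ, h5, one_mul]
    rw [h6, map_mul]
    exact h1 _
  have hne1 : (SR2.inertia lam).index ≠ 1 := by
    intro h
    rw [Subgroup.index_eq_one] at h
    apply hzI
    rw [h]
    exact Subgroup.mem_top z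
  have hdvd : (SR2.inertia lam).index ∣ Nat.card P := by
    rw [← hc.symm.index_eq_card]
    exact Subgroup.index_dvd_of_le (SR2.le_inertia lam)
  obtain ⟨m, hm⟩ := hP.exists_card_eq
  rw [hm] at hdvd
  obtain ⟨i, hi, hi2⟩ := (Nat.dvd_prime_pow Nat.prime_two).mp hdvd
  have hi0 : i ≠ 0 := by
    intro h0
    apply hne1
    rw [hi2, h0, pow_zero]
  refine ⟨(SR2.inertia lam).index, ?_, ?_, hcount⟩
  · rw [hi2]
    exact dvd_pow_self 2 hi0
  · rw [hi2]
    calc 2 = 2 ^ 1 := (pow_one 2).symm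
      _ ≤ 2 ^ i := Nat.pow_le_pow_right (by norm_num) (Nat.one_le_iff_ne_zero.mpr hi0)

end Cfsg.Agent.Helper8.SR4
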