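import Mathlib
import Cfsg.Prelude.Def_KGroupFacts
import Cfsg.Agent.Helper8.HopfMult
import Cfsg.Agent.Helper8.AbDual
import Cfsg.Agent.Helper8.StemLift

/-!
Every complex projective representation of a finite group lifts to a linear representation of any
Schur covering group.
-/

set_option autoImplicit false

namespace Cfsg.Agent.Helper8.Hopf

open Cfsg Cfsg.Agent.Helper24 Cfsg.Agent.Helper8.Stem

open scoped commutatorElement

universe u v w

section Lift

variable {Q : Type u} [Group Q] [Finite Q] {A : Type v} [CommGroup A]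
  {Γ : Type w} [Group Γ] [Finite Γ]

/-- In the fibre product of a Schur cover with any finite central extension, the kernel of the
projection to the cover meets the commutator subgroup trivially. -/
theorem fibre_ker_inf_commutator (hA : HasSchurMultiplier Q A) (σ : Γ →* Q)
    (hσ : IsStemExtension σ) (hk : Nonempty (σ.ker ≃* A))
    {P : Type*} [Group P] [Finite P] (π : P →* Q) (hπ : Function.Surjective π)
    (hπc : π.ker ≤ Subgroup.center P) (y : fibre σ π) (hy : y ∈ commutator (fibre σ π))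
    (hy1 : fibreFst σ π y = 1) : y = 1 := by
  classical
  let ξ : fibre σ π →* Q := σ.comp (fibreFst σ π)
  have hξs : Function.Surjective ξ := hσ.1.comp (fibreFst_surjective σ π hπ)
  have hξc : ξ.ker ≤ Subgroup.center (fibre σ π) := by
    intro z hz
    have hz1 : σ (z : Γ × P).1 = 1 := MonoidHom.mem_ker.mp hz
    have hz2 : π (z : Γ × P).2 = 1 := by
      have : σ (z : Γ × P).1 = π (z : Γ × P).2 := z.2
      rw [← this, hz1]
    have hc1 := hσ.2.1 (MonoidHom.mem_ker.mpr hz1)
    have hc2 := hπc (MonoidHom.mem_ker.mpr hz2)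
    rw [Subgroup.mem_center_iff]
    intro z'
    apply Subtype.ext
    apply Prod.ext
    · exact Subgroup.mem_center_iff.mp hc1 _
    · exact Subgroup.mem_center_iff.mp hc2 _
  obtain ⟨pA, hpA⟩ := exists_surjection_of_hasSchurMultiplier hA ξ hξs hξc
  obtain ⟨ek⟩ := hk
  haveI : Finite A := Finite.of_equiv _ ek.toEquiv
  -- the projection of `ker ξ ∩ X'` to `ker σ`
  let ψ : ↥(ξ.ker ⊓ commutator (fibre σ π)) → σ.ker := fun w =>
    ⟨fibreFst σ π w.1, MonoidHom.mem_ker.mpr (MonoidHom.mem_ker.mp w.2.1)⟩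
  have hψ : Function.Surjective ψ := by
    intro g
    obtain ⟨z, hz, hzg⟩ := exists_mem_commutator_of_surjective (fibreFst σ π)
      (fibreFst_surjective σ π hπ) g.1 (hσ.2.2 g.2)
    refine ⟨⟨z, Subgroup.mem_inf.mpr ⟨MonoidHom.mem_ker.mpr ?_, hz⟩⟩, Subtype.ext hzg⟩
    show σ (fibreFst σ π z) = 1
    rw [hzg]
    exact MonoidHom.mem_ker.mp g.2
  have hcard : Nat.card ↥(ξ.ker ⊓ commutator (fibre σ π)) ≤ Nat.card σ.ker := by
    rw [Nat.card_congr ek.toEquiv]
    exact Nat.card_le_card_of_surjective pA hpA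
  have hbij := hψ.bijective_of_nat_card_le hcard
  have hyξ : y ∈ ξ.ker := by
    rw [MonoidHom.mem_ker]
    show σ (fibreFst σ π y) = 1
    rw [hy1, map_one]
  have h1 : ψ ⟨y, hyξ, hy⟩ = ψ 1 := by
    apply Subtype.ext
    show fibreFst σ π y = fibreFst σ π 1
    rw [hy1, map_one]
  have h2 := hbij.1 h1
  exact congrArg Subtype.val h2

/-- projective representations lift to Schur covers -/
theorem lift_of_cover (hA : HasSchurMultiplier Q A) (σ : Γ →* Q)
    (hσ : IsStemExtension σ) (hk : Nonempty (σ.ker ≃* A)) (n : ℕ) (hn : 0 < n)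
    (γ : Q →* (GLn n ⧸ Subgroup.center (GLn n))) :
    ∃ ρ : Γ →* GLn n, (QuotientGroup.mk' (Subgroup.center (GLn n))).comp ρ = γ.comp σ := by
  classical
  haveI : Finite (pullOne γ) := finite_pullOne γ hn
  have hπs := pullProj_surjective γ hn
  have hπc := ker_pullProj_le_center γ
  have hfs := fibreFst_surjective σ (pullProj γ) hπs
  -- the subgroup `K`
  let K : Subgroup (fibre σ (pullProj γ)) := (fibreFst σ (pullProj γ)).ker
  have hK : ∀ k ∈ K, k ∈ commutator (fibre σ (pullProj γ)) → k = 1 := by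
    intro k hk1 hk2
    exact fibre_ker_inf_commutator hA σ hσ hk (pullProj γ) hπs hπc k hk2
      (MonoidHom.mem_ker.mp hk1)
  -- the natural representation of the fibre product
  let h₂ : fibre σ (pullProj γ) →* GLn n :=
    (MonoidHom.snd Q (GLn n)).comp ((pullOne γ).subtype.comp (fibreSnd σ (pullProj γ)))
  have hh₂ : ∀ y : fibre σ (pullProj γ),
      ((h₂ y : GLn n) : GLn n ⧸ Subgroup.center (GLn n)) = γ (σ (fibreFst σ (pullProj γ) y)) := by
    intro y
    have h1 := ((mem_pullOne γ _).mp (fibreSnd σ (pullProj γ) y).2).1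
    have h2 : σ (fibreFst σ (pullProj γ) y) = pullProj γ (fibreSnd σ (pullProj γ) y) := y.2
    rw [h2, pullProj_apply]
    exact h1
  have hsc : ∀ k : K, h₂ (k : fibre σ (pullProj γ)) ∈ (scGL n).range := by
    intro k
    have hk1 : fibreFst σ (pullProj γ) (k : fibre σ (pullProj γ)) = 1 := MonoidHom.mem_ker.mp k.2
    have hk2 : fibreSnd σ (pullProj γ) (k : fibre σ (pullProj γ)) ∈ (pullProj γ).ker := by
      rw [MonoidHom.mem_ker]
      have h2 : σ (fibreFst σ (pullProj γ) (k : fibre σ (pullProj γ))) =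
          pullProj γ (fibreSnd σ (pullProj γ) (k : fibre σ (pullProj γ))) := (k : fibre σ (pullProj γ)).2
      rw [← h2, hk1, map_one]
    obtain ⟨c, hc, -⟩ := exists_scalar_of_mem_ker_pullProj γ _ hk2
    refine ⟨c, ?_⟩
    show scGL n c = ((fibreSnd σ (pullProj γ) (k : fibre σ (pullProj γ)) : pullOne γ) : Q × GLn n).2
    rw [hc]
  let e : ℂˣ ≃* (scGL n).range := MonoidHom.ofInjective (scGL_injective hn)
  let κ : K →* ℂˣ := e.symm.toMonoidHom.comp ((h₂.comp K.subtype).codRestrict (scGL n).range hsc)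
  have hκ : ∀ k : K, scGL n (κ k) = h₂ (k : fibre σ (pullProj γ)) := by
    intro k
    have h1 : e (κ k) = (h₂.comp K.subtype).codRestrict (scGL n).range hsc k := by
      show e (e.symm _) = _
      rw [MulEquiv.apply_symm_apply]
    have h2 := congrArg Subtype.val h1
    rw [MonoidHom.ofInjective_apply] at h2
    exact h2
  obtain ⟨lam, hlam⟩ := AbDual.exists_linear_char_extending K hK κ
  -- the twisted representation
  let ρ' : fibre σ (pullProj γ) →* GLn n := MonoidHom.mk'
    (fun y => scGL n (lam y)⁻¹ * h₂ y) (by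
      intro y y'
      show scGL n (lam (y * y'))⁻¹ * h₂ (y * y') =
        scGL n (lam y)⁻¹ * h₂ y * (scGL n (lam y')⁻¹ * h₂ y')
      rw [map_mul lam, map_mul h₂, mul_inv, map_mul (scGL n)]
      calc scGL n (lam y)⁻¹ * scGL n (lam y')⁻¹ * (h₂ y * h₂ y')
          = scGL n (lam y)⁻¹ * ((scGL n (lam y')⁻¹ * h₂ y) * h₂ y') := by simp only [mul_assoc]
        _ = scGL n (lam y)⁻¹ * ((h₂ y * scGL n (lam y')⁻¹) * h₂ y') := by
            rw [scGL_comm n (lam y')⁻¹ (h₂ y)]
        _ = scGL n (lam y)⁻¹ * h₂ y * (scGL n (lam y')⁻¹ * h₂ y') := by simp only [mul_assoc])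
  have hρ' : ∀ y, ρ' y = scGL n (lam y)⁻¹ * h₂ y := fun y => rfl
  have hρ'K : (fibreFst σ (pullProj γ)).ker ≤ ρ'.ker := by
    intro k hk1
    rw [MonoidHom.mem_ker, hρ', hlam ⟨k, hk1⟩, ← hκ ⟨k, hk1⟩, ← map_mul, inv_mul_cancel, map_one]
  refine ⟨(fibreFst σ (pullProj γ)).liftOfSurjective hfs ⟨ρ', hρ'K⟩, ?_⟩
  apply MonoidHom.ext
  intro g
  obtain ⟨y, rfl⟩ := hfs g
  rw [MonoidHom.comp_apply, MonoidHom.comp_apply, MonoidHom.liftOfRightInverse_comp_apply,
    QuotientGroup.mk'_apply]
  show ((ρ' y : GLn n) : GLn n ⧸ Subgroup.center (GLn n)) = _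
  rw [hρ', QuotientGroup.mk_mul, mk_scGL, one_mul, hh₂]

end Lift

end Cfsg.Agent.Helper8.Hopf
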