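import Mathlib
import Cfsg.Prelude.Def_KGroupFacts
import Cfsg.Agent.Helper8.HopfMult
import Cfsg.Agent.Helper8.StemLift
import Cfsg.Agent.Helper11.SzMultA

/-!
Stem extensions of a direct product `Q₁ × Q₂`: the preimages of the two factors, the commutator
pairing between them, and the Schur multiplier of the product when the commutator quotients have
coprime orders.
-/

set_option autoImplicit false

namespace Cfsg.Agent.Helper8.Hopf

open Cfsg Cfsg.Agent.Helper8.Stem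

open scoped commutatorElement

universe u v w

section CentralProduct

variable {G : Type*} [Group G]

/-- In a group that is the product of two elementwise commuting subgroups, every element of the
commutator subgroup is a product of elements of the commutator subgroups of the two. -/
theorem exists_mul_of_mem_commutator (H₁ H₂ : Subgroup G)
    (hcomm : ∀ x ∈ H₁, ∀ y ∈ H₂, Commute x y) (hgen : ∀ g : G, ∃ x ∈ H₁, ∃ y ∈ H₂, g = x * y)
    (g : G) (hg : g ∈ commutator G) :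
    ∃ a ∈ (commutator H₁).map H₁.subtype, ∃ b ∈ (commutator H₂).map H₂.subtype, g = a * b := by
  let μ : H₁ × H₂ →* G := MonoidHom.noncommCoprod H₁.subtype H₂.subtype
    (fun x y => hcomm x.1 x.2 y.1 y.2)
  have hμ : Function.Surjective μ := by
    intro g
    obtain ⟨x, hx, y, hy, rfl⟩ := hgen g
    exact ⟨(⟨x, hx⟩, ⟨y, hy⟩), rfl⟩
  obtain ⟨p, hp, rfl⟩ := exists_mem_commutator_of_surjective μ hμ g hg
  have h1 : commutator (H₁ × H₂) = (commutator H₁).prod (commutator H₂) := by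
    rw [commutator_def, ← Subgroup.top_prod_top, Subgroup.commutator_prod_prod,
      ← commutator_def, ← commutator_def]
  rw [h1, Subgroup.mem_prod] at hp
  exact ⟨p.1, ⟨p.1, hp.1, rfl⟩, p.2, ⟨p.2, hp.2, rfl⟩, rfl⟩

/-- a commutator pairing with central values has exponent dividing the order of the commutator
quotient of the image -/
theorem commutator_pow_card_eq_one {P : Type*} [Group P] [Finite P] (H : Subgroup G) (z : G)
    (hz : ∀ x ∈ H, ⁅x, z⁆ ∈ Subgroup.center G) (π : H →* P) (hπ : Function.Surjective π)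
    (hker : ∀ x : H, x ∈ π.ker → ⁅(x : G), z⁆ = 1) (x : G) (hx : x ∈ H) :
    ⁅x, z⁆ ^ Nat.card (Abelianization P) = 1 := by
  -- the pairing as a homomorphism
  let f : H →* G := MonoidHom.mk' (fun y => ⁅(y : G), z⁆) (by
    intro a b
    show ⁅(a : G) * (b : G), z⁆ = ⁅(a : G), z⁆ * ⁅(b : G), z⁆
    have hc := Subgroup.mem_center_iff.mp (hz b b.2)
    have hc' : Commute (a : G) ⁅(b : G), z⁆ := hc (a : G)
    rw [Cfsg.Agent.Helper11.SzMult.comm_mul_left (a : G) (b : G) z hc']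
    exact (Subgroup.mem_center_iff.mp (hz a a.2) _))
  have hf : ∀ y : H, f y = ⁅(y : G), z⁆ := fun y => rfl
  have hfc : ∀ y : H, y ∈ commutator H → f y = 1 := by
    have : commutator H ≤ f.ker := by
      rw [commutator_eq_closure, Subgroup.closure_le]
      rintro _ ⟨a, b, rfl⟩
      show f ⁅a, b⁆ = 1
      rw [map_commutatorElement, commutatorElement_eq_one_iff_commute]
      have hc'' : Commute (f a) (f b) := Subgroup.mem_center_iff.mp (hz b b.2) (f a)
      exact hc''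
    intro y hy
    exact this hy
  -- the power lies in `H' ker π`
  have hq : π ⟨x, hx⟩ ^ Nat.card (Abelianization P) ∈ commutator P := by
    rw [← Abelianization.ker_of, MonoidHom.mem_ker, map_pow]
    exact pow_card_eq_one'
  obtain ⟨y, hy, hyq⟩ := exists_mem_commutator_of_surjective π hπ _ hq
  have hk : y⁻¹ * ⟨x, hx⟩ ^ Nat.card (Abelianization P) ∈ π.ker := by
    rw [MonoidHom.mem_ker, map_mul, map_inv, hyq, map_pow, inv_mul_cancel]
  have h1 : f (⟨x, hx⟩ ^ Nat.card (Abelianization P)) = 1 := by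
    have e : (⟨x, hx⟩ : H) ^ Nat.card (Abelianization P) =
        y * (y⁻¹ * ⟨x, hx⟩ ^ Nat.card (Abelianization P)) := by group
    rw [e, map_mul, hfc y hy, one_mul, hf]
    exact hker _ hk
  rw [map_pow, hf] at h1
  exact h1

end CentralProduct

section Pre

variable {Q₁ : Type u} {Q₂ : Type v} [Group Q₁] [Group Q₂] {Δ : Type w} [Group Δ]
  (τ : Δ →* Q₁ × Q₂)

/-- the preimage of the first factor -/
def pre₁ : Subgroup Δ := ((MonoidHom.snd Q₁ Q₂).comp τ).ker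

/-- the preimage of the second factor -/
def pre₂ : Subgroup Δ := ((MonoidHom.fst Q₁ Q₂).comp τ).ker

theorem mem_pre₁ (d : Δ) : d ∈ pre₁ τ ↔ (τ d).2 = 1 := MonoidHom.mem_ker

theorem mem_pre₂ (d : Δ) : d ∈ pre₂ τ ↔ (τ d).1 = 1 := MonoidHom.mem_ker

/-- the projection of the first preimage -/
def proj₁ : pre₁ τ →* Q₁ := ((MonoidHom.fst Q₁ Q₂).comp τ).comp (pre₁ τ).subtype

/-- the projection of the second preimage -/
def proj₂ : pre₂ τ →* Q₂ := ((MonoidHom.snd Q₁ Q₂).comp τ).comp (pre₂ τ).subtype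

theorem proj₁_apply (d : pre₁ τ) : proj₁ τ d = (τ (d : Δ)).1 := rfl

theorem proj₂_apply (d : pre₂ τ) : proj₂ τ d = (τ (d : Δ)).2 := rfl

theorem tau_eq₁ (d : pre₁ τ) : τ (d : Δ) = (proj₁ τ d, 1) :=
  Prod.ext rfl ((mem_pre₁ τ _).mp d.2)

theorem tau_eq₂ (d : pre₂ τ) : τ (d : Δ) = (1, proj₂ τ d) :=
  Prod.ext ((mem_pre₂ τ _).mp d.2) rfl

theorem proj₁_surjective (hτ : Function.Surjective τ) : Function.Surjective (proj₁ τ) := by
  intro q
  obtain ⟨d, hd⟩ := hτ (q, 1)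
  refine ⟨⟨d, ?_⟩, ?_⟩
  · rw [mem_pre₁, hd]
  · rw [proj₁_apply]
    show (τ d).1 = q
    rw [hd]

theorem proj₂_surjective (hτ : Function.Surjective τ) : Function.Surjective (proj₂ τ) := by
  intro q
  obtain ⟨d, hd⟩ := hτ (1, q)
  refine ⟨⟨d, ?_⟩, ?_⟩
  · rw [mem_pre₂, hd]
  · rw [proj₂_apply]
    show (τ d).2 = q
    rw [hd]

theorem mem_ker_proj₁ (d : pre₁ τ) : d ∈ (proj₁ τ).ker ↔ (d : Δ) ∈ τ.ker := by
  rw [MonoidHom.mem_ker, MonoidHom.mem_ker, tau_eq₁]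
  constructor
  · intro h
    rw [h]
    rfl
  · intro h
    exact congrArg Prod.fst h

theorem mem_ker_proj₂ (d : pre₂ τ) : d ∈ (proj₂ τ).ker ↔ (d : Δ) ∈ τ.ker := by
  rw [MonoidHom.mem_ker, MonoidHom.mem_ker, tau_eq₂]
  constructor
  · intro h
    rw [h]
    rfl
  · intro h
    exact congrArg Prod.snd h

theorem ker_proj₁_le_center (hc : τ.ker ≤ Subgroup.center Δ) :
    (proj₁ τ).ker ≤ Subgroup.center (pre₁ τ) := by
  intro d hd
  have h1 := hc ((mem_ker_proj₁ τ d).mp hd)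
  rw [Subgroup.mem_center_iff]
  intro y
  exact Subtype.ext (Subgroup.mem_center_iff.mp h1 _)

theorem ker_proj₂_le_center (hc : τ.ker ≤ Subgroup.center Δ) :
    (proj₂ τ).ker ≤ Subgroup.center (pre₂ τ) := by
  intro d hd
  have h1 := hc ((mem_ker_proj₂ τ d).mp hd)
  rw [Subgroup.mem_center_iff]
  intro y
  exact Subtype.ext (Subgroup.mem_center_iff.mp h1 _)

theorem commutator_mem_ker {d₁ d₂ : Δ} (h₁ : d₁ ∈ pre₁ τ) (h₂ : d₂ ∈ pre₂ τ) :
    ⁅d₁, d₂⁆ ∈ τ.ker := by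
  rw [MonoidHom.mem_ker, map_commutatorElement, commutatorElement_eq_one_iff_commute]
  rw [mem_pre₁] at h₁
  rw [mem_pre₂] at h₂
  show τ d₁ * τ d₂ = τ d₂ * τ d₁
  apply Prod.ext
  · show (τ d₁).1 * (τ d₂).1 = (τ d₂).1 * (τ d₁).1
    rw [h₂, mul_one, one_mul]
  · show (τ d₁).2 * (τ d₂).2 = (τ d₂).2 * (τ d₁).2
    rw [h₁, mul_one, one_mul]

theorem exists_mul_pre (hτ : Function.Surjective τ) (d : Δ) :
    ∃ d₁ ∈ pre₁ τ, ∃ d₂ ∈ pre₂ τ, d = d₁ * d₂ := by
  obtain ⟨d₁, hd₁⟩ := hτ ((τ d).1, 1)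
  refine ⟨d₁, ?_, d₁⁻¹ * d, ?_, by group⟩
  · rw [mem_pre₁, hd₁]
  · rw [mem_pre₂, map_mul, map_inv, hd₁]
    show (((τ d).1, (1 : Q₂))⁻¹ * τ d).1 = 1
    simp

end Pre

section Coprime

variable {Q₁ : Type u} {Q₂ : Type v} [Group Q₁] [Group Q₂] [Finite Q₁] [Finite Q₂]
  {Δ : Type w} [Group Δ] (τ : Δ →* Q₁ × Q₂)

/-- with coprime commutator quotients the two preimages commute -/
theorem commute_pre_of_coprime (hτ : Function.Surjective τ) (hc : τ.ker ≤ Subgroup.center Δ)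
    (hcop : Nat.Coprime (Nat.card (Abelianization Q₁)) (Nat.card (Abelianization Q₂)))
    {d₁ d₂ : Δ} (h₁ : d₁ ∈ pre₁ τ) (h₂ : d₂ ∈ pre₂ τ) : Commute d₁ d₂ := by
  rw [← commutatorElement_eq_one_iff_commute]
  have hcen : ∀ x ∈ pre₁ τ, ∀ y ∈ pre₂ τ, ⁅x, y⁆ ∈ Subgroup.center Δ :=
    fun x hx y hy => hc (commutator_mem_ker τ hx hy)
  have e1 : ⁅d₁, d₂⁆ ^ Nat.card (Abelianization Q₁) = 1 := by
    refine commutator_pow_card_eq_one (pre₁ τ) d₂ (fun x hx => hcen x hx d₂ h₂) (proj₁ τ)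
      (proj₁_surjective τ hτ) ?_ d₁ h₁
    intro x hx
    rw [commutatorElement_eq_one_iff_commute]
    exact (Subgroup.mem_center_iff.mp (hc ((mem_ker_proj₁ τ x).mp hx)) d₂).symm
  have e2 : ⁅d₁, d₂⁆ ^ Nat.card (Abelianization Q₂) = 1 := by
    have h3 : ⁅d₂, d₁⁆ ^ Nat.card (Abelianization Q₂) = 1 := by
      refine commutator_pow_card_eq_one (pre₂ τ) d₁ (fun x hx => ?_) (proj₂ τ)
        (proj₂_surjective τ hτ) ?_ d₂ h₂
      · rw [← commutatorElement_inv]
        exact Subgroup.inv_mem _ (hcen d₁ h₁ x hx)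
      · intro x hx
        rw [commutatorElement_eq_one_iff_commute]
        exact (Subgroup.mem_center_iff.mp (hc ((mem_ker_proj₂ τ x).mp hx)) d₁).symm
    rw [← commutatorElement_inv, inv_pow, h3, inv_one]
  have h4 := orderOf_dvd_of_pow_eq_one e1
  have h5 := orderOf_dvd_of_pow_eq_one e2
  have h6 : orderOf ⁅d₁, d₂⁆ = 1 := Nat.eq_one_of_dvd_coprimes hcop h4 h5
  exact orderOf_eq_one_iff.mp h6

/-- the kernel of a stem extension of `Q₁ × Q₂` with coprime commutator quotients is an image of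
the product of the multipliers -/
theorem exists_surjection_prod_of_coprime {A : Type*} {B : Type*} [CommGroup A] [CommGroup B]
    (hA : HasSchurMultiplier Q₁ A) (hB : HasSchurMultiplier Q₂ B)
    (hcop : Nat.Coprime (Nat.card (Abelianization Q₁)) (Nat.card (Abelianization Q₂)))
    (hτ : IsStemExtension τ) : ∃ π : A × B →* τ.ker, Function.Surjective π := by
  classical
  obtain ⟨π₁, hπ₁⟩ := exists_surjection_of_hasSchurMultiplier hA (proj₁ τ)
    (proj₁_surjective τ hτ.1) (ker_proj₁_le_center τ hτ.2.1)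
  obtain ⟨π₂, hπ₂⟩ := exists_surjection_of_hasSchurMultiplier hB (proj₂ τ)
    (proj₂_surjective τ hτ.1) (ker_proj₂_le_center τ hτ.2.1)
  have hm₁ : ∀ a : A, (((π₁ a : ↥((proj₁ τ).ker ⊓ commutator (pre₁ τ))) : pre₁ τ) : Δ) ∈ τ.ker :=
    fun a => (mem_ker_proj₁ τ _).mp (π₁ a).2.1
  have hm₂ : ∀ b : B, (((π₂ b : ↥((proj₂ τ).ker ⊓ commutator (pre₂ τ))) : pre₂ τ) : Δ) ∈ τ.ker :=
    fun b => (mem_ker_proj₂ τ _).mp (π₂ b).2.1
  let f₁ : A →* τ.ker :=
    { toFun := fun a => ⟨_, hm₁ a⟩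
      map_one' := by
        apply Subtype.ext
        show (((π₁ 1 : ↥((proj₁ τ).ker ⊓ commutator (pre₁ τ))) : pre₁ τ) : Δ) = 1
        rw [map_one]
        rfl
      map_mul' := fun a a' => by
        apply Subtype.ext
        show (((π₁ (a * a') : ↥((proj₁ τ).ker ⊓ commutator (pre₁ τ))) : pre₁ τ) : Δ) = _
        rw [map_mul]
        rfl }
  let f₂ : B →* τ.ker :=
    { toFun := fun b => ⟨_, hm₂ b⟩
      map_one' := by
        apply Subtype.ext
        show (((π₂ 1 : ↥((proj₂ τ).ker ⊓ commutator (pre₂ τ))) : pre₂ τ) : Δ) = 1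
        rw [map_one]
        rfl
      map_mul' := fun b b' => by
        apply Subtype.ext
        show (((π₂ (b * b') : ↥((proj₂ τ).ker ⊓ commutator (pre₂ τ))) : pre₂ τ) : Δ) = _
        rw [map_mul]
        rfl }
  have hkc : ∀ x y : τ.ker, Commute x y := by
    intro x y
    apply Subtype.ext
    exact (Subgroup.mem_center_iff.mp (hτ.2.1 x.2) _).symm
  refine ⟨MonoidHom.noncommCoprod f₁ f₂ (fun a b => hkc _ _), ?_⟩
  intro k
  obtain ⟨a, ⟨a', ha', rfl⟩, b, ⟨b', hb', rfl⟩, hk⟩ := exists_mul_of_mem_commutator (pre₁ τ) (pre₂ τ)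
    (fun x hx y hy => commute_pre_of_coprime τ hτ.1 hτ.2.1 hcop hx hy)
    (exists_mul_pre τ hτ.1) (k : Δ) (hτ.2.2 k.2)
  -- both factors lie in the kernel
  have hk1 : τ (k : Δ) = 1 := MonoidHom.mem_ker.mp k.2
  rw [hk, map_mul] at hk1
  have ha1 : proj₁ τ a' = 1 := by
    have := congrArg Prod.fst hk1
    rw [Subgroup.coe_subtype, Subgroup.coe_subtype, tau_eq₁, tau_eq₂] at this
    simpa using this
  have hb1 : proj₂ τ b' = 1 := by
    have := congrArg Prod.snd hk1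
    rw [Subgroup.coe_subtype, Subgroup.coe_subtype, tau_eq₁, tau_eq₂] at this
    simpa using this
  obtain ⟨x, hx⟩ := hπ₁ ⟨a', Subgroup.mem_inf.mpr ⟨MonoidHom.mem_ker.mpr ha1, ha'⟩⟩
  obtain ⟨y, hy⟩ := hπ₂ ⟨b', Subgroup.mem_inf.mpr ⟨MonoidHom.mem_ker.mpr hb1, hb'⟩⟩
  refine ⟨(x, y), ?_⟩
  apply Subtype.ext
  rw [MonoidHom.noncommCoprod_apply, Subgroup.coe_mul, hk]
  show (((π₁ x : ↥((proj₁ τ).ker ⊓ commutator (pre₁ τ))) : pre₁ τ) : Δ) *
    (((π₂ y : ↥((proj₂ τ).ker ⊓ commutator (pre₂ τ))) : pre₂ τ) : Δ) = _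
  rw [hx, hy]
  rfl

end Coprime

section ProdStem

variable {Q₁ : Type u} {Q₂ : Type v} [Group Q₁] [Group Q₂]
  {Γ₁ : Type u} {Γ₂ : Type v} [Group Γ₁] [Group Γ₂]

/-- the product of two stem extensions is a stem extension -/
theorem isStemExtension_prodMap (σ₁ : Γ₁ →* Q₁) (σ₂ : Γ₂ →* Q₂) (h₁ : IsStemExtension σ₁)
    (h₂ : IsStemExtension σ₂) : IsStemExtension (MonoidHom.prodMap σ₁ σ₂) := by
  refine ⟨?_, ?_, ?_⟩
  · exact Function.Surjective.prodMap h₁.1 h₂.1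
  · intro x hx
    rw [MonoidHom.ker_prodMap, Subgroup.mem_prod] at hx
    rw [Subgroup.mem_center_iff]
    intro y
    apply Prod.ext
    · exact Subgroup.mem_center_iff.mp (h₁.2.1 hx.1) _
    · exact Subgroup.mem_center_iff.mp (h₂.2.1 hx.2) _
  · intro x hx
    rw [MonoidHom.ker_prodMap, Subgroup.mem_prod] at hx
    have h3 : commutator (Γ₁ × Γ₂) = (commutator Γ₁).prod (commutator Γ₂) := by
      rw [commutator_def, ← Subgroup.top_prod_top, Subgroup.commutator_prod_prod,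
        ← commutator_def, ← commutator_def]
    rw [h3, Subgroup.mem_prod]
    exact ⟨h₁.2.2 hx.1, h₂.2.2 hx.2⟩

end ProdStem

section Main

variable {Q₁ : Type u} {Q₂ : Type v} [Group Q₁] [Group Q₂] [Finite Q₁] [Finite Q₂]

theorem hasSchurMultiplier_prod_of_coprime {A B : Type w} [CommGroup A] [CommGroup B]
    (hA : HasSchurMultiplier Q₁ A) (hB : HasSchurMultiplier Q₂ B)
    (hcop : Nat.Coprime (Nat.card (Abelianization Q₁)) (Nat.card (Abelianization Q₂))) :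
    HasSchurMultiplier (Q₁ × Q₂) (A × B) := by
  refine ⟨?_, ?_⟩
  · obtain ⟨⟨Γ₁, i1, i2, σ₁, hσ₁, ⟨e₁⟩⟩, -⟩ := hA
    obtain ⟨⟨Γ₂, j1, j2, σ₂, hσ₂, ⟨e₂⟩⟩, -⟩ := hB
    refine ⟨Γ₁ × Γ₂, inferInstance, inferInstance, MonoidHom.prodMap σ₁ σ₂,
      isStemExtension_prodMap σ₁ σ₂ hσ₁ hσ₂, ⟨?_⟩⟩
    exact ((MulEquiv.subgroupCongr (MonoidHom.ker_prodMap σ₁ σ₂)).trans
      (Subgroup.prodEquiv σ₁.ker σ₂.ker)).trans (MulEquiv.prodCongr e₁ e₂)
  · intro Δ _ _ τ hτ
    exact exists_surjection_prod_of_coprime τ hA hB hcop hτ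

end Main

end Cfsg.Agent.Helper8.Hopf
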