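import Mathlib
import Cfsg.Prelude.Def_KGroupFacts
import Cfsg.Agent.Helper8.RankLemma
import Cfsg.Agent.Helper8.StemLift
import Cfsg.Agent.Helper20.StemGen

/-!
The kernel of a stem extension of a finite group presented by `n` generators and `r` relators is
generated by `r - n` elements.
-/

set_option autoImplicit false

namespace Cfsg.Agent.Helper8.SchurRank

open Cfsg Cfsg.Agent.Helper8.Stem

/-- the abelianization map of the free group, with values in `ℤⁿ` -/
noncomputable def abZ (n : ℕ) : FreeGroup (Fin n) →* Multiplicative (Fin n → ℤ) :=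
  FreeGroup.lift (fun i => Multiplicative.ofAdd (Pi.single i (1 : ℤ)))

theorem abZ_surjective (n : ℕ) (v : Fin n → ℤ) :
    ∃ x : FreeGroup (Fin n), Multiplicative.toAdd (abZ n x) = v := by
  classical
  induction v using Pi.single_induction with
  | zero => exact ⟨1, by rw [map_one]; rfl⟩
  | add f g hf hg =>
    obtain ⟨x, hx⟩ := hf
    obtain ⟨x', hx'⟩ := hg
    exact ⟨x * x', by rw [map_mul, toAdd_mul, hx, hx']⟩
  | single i m =>
    refine ⟨FreeGroup.of i ^ m, ?_⟩
    rw [map_zpow, toAdd_zpow, abZ, FreeGroup.lift_apply_of, toAdd_ofAdd]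
    funext j
    by_cases hj : j = i
    · subst hj
      simp
    · simp [Pi.single_eq_of_ne hj]

theorem exists_generators_of_stem (n : ℕ) (rels : Finset (FreeGroup (Fin n)))
    [Finite (PresentedGroup (rels : Set (FreeGroup (Fin n))))]
    {Γ : Type*} [Group Γ] (σ : Γ →* PresentedGroup (rels : Set (FreeGroup (Fin n))))
    (hσ : IsStemExtension σ) {A : Type*} [CommGroup A] (e : σ.ker ≃* A) :
    ∃ s : Fin (rels.card - n) → A, Subgroup.closure (Set.range s) = ⊤ := by
  classical
  -- lifts of the generators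
  choose γ hγ using fun i : Fin n => hσ.1 (PresentedGroup.of i)
  let φ : FreeGroup (Fin n) →* Γ := FreeGroup.lift γ
  have hσφ : σ.comp φ = PresentedGroup.mk (rels : Set (FreeGroup (Fin n))) := by
    ext i
    show σ (FreeGroup.lift γ (FreeGroup.of i)) = _
    rw [FreeGroup.lift_apply_of, hγ]
    rfl
  have hσφ' : ∀ x, σ (φ x) = PresentedGroup.mk (rels : Set (FreeGroup (Fin n))) x :=
    fun x => DFunLike.congr_fun hσφ x
  have hφ : Function.Surjective φ := by
    rw [← MonoidHom.range_eq_top, FreeGroup.range_lift_eq_closure]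
    apply Cfsg.Agent.Helper20.closure_eq_top_of_stem σ hσ
    rw [← Set.range_comp]
    have h1 : σ ∘ γ = PresentedGroup.of := funext hγ
    rw [h1]
    exact PresentedGroup.closure_range_of _
  have hR : ∀ x, x ∈ Subgroup.normalClosure (rels : Set (FreeGroup (Fin n))) ↔ φ x ∈ σ.ker := by
    intro x
    rw [MonoidHom.mem_ker, hσφ', PresentedGroup.mk_eq_one_iff]
  have hcen : ∀ z ∈ σ.ker, ∀ g : Γ, g * z * g⁻¹ = z := by
    intro z hz g
    rw [Subgroup.mem_center_iff.mp (hσ.2.1 hz) g, mul_inv_cancel_right]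
  -- the data for the rank lemma
  have hrel : ∀ j : {x // x ∈ rels}, φ (j : FreeGroup (Fin n)) ∈ σ.ker :=
    fun j => (hR _).mp (Subgroup.subset_normalClosure j.2)
  let y : {x // x ∈ rels} → A := fun j => e ⟨φ j, hrel j⟩
  let w : {x // x ∈ rels} → (Fin n → ℤ) := fun j => Multiplicative.toAdd (abZ n j)
  have key : ∀ x, x ∈ Subgroup.normalClosure (rels : Set (FreeGroup (Fin n))) →
      ∃ c : {x // x ∈ rels} → ℤ, (∀ h : φ x ∈ σ.ker, e ⟨φ x, h⟩ = ∏ j, y j ^ c j) ∧
        Multiplicative.toAdd (abZ n x) = ∑ j, c j • w j := by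
    intro x hx
    refine Subgroup.closure_induction (p := fun x _ => ∃ c : {x // x ∈ rels} → ℤ,
      (∀ h : φ x ∈ σ.ker, e ⟨φ x, h⟩ = ∏ j, y j ^ c j) ∧
        Multiplicative.toAdd (abZ n x) = ∑ j, c j • w j) ?_ ?_ ?_ ?_ hx
    · intro x hx
      obtain ⟨r, hr, hconj⟩ := Group.mem_conjugatesOfSet_iff.mp hx
      obtain ⟨g, rfl⟩ := isConj_iff.mp hconj
      refine ⟨Pi.single ⟨r, hr⟩ 1, ?_, ?_⟩
      · intro h
        rw [Finset.prod_eq_single (⟨r, hr⟩ : {x // x ∈ rels})
          (fun j _ hj => by rw [Pi.single_eq_of_ne hj, zpow_zero])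
          (fun h => absurd (Finset.mem_univ _) h), Pi.single_eq_same, zpow_one]
        show e _ = e _
        congr 1
        apply Subtype.ext
        show φ (g * r * g⁻¹) = φ r
        rw [map_mul, map_mul, map_inv]
        exact hcen _ (hrel ⟨r, hr⟩) _
      · rw [Finset.sum_eq_single (⟨r, hr⟩ : {x // x ∈ rels})
          (fun j _ hj => by rw [Pi.single_eq_of_ne hj, zero_smul])
          (fun h => absurd (Finset.mem_univ _) h), Pi.single_eq_same, one_smul]
        show _ = Multiplicative.toAdd (abZ n r)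
        congr 1
        rw [map_mul, map_mul, map_inv, mul_inv_cancel_comm]
    · refine ⟨0, ?_, ?_⟩
      · intro h
        have h1 : (⟨φ 1, h⟩ : σ.ker) = 1 := Subtype.ext (map_one φ)
        rw [h1, map_one]
        simp
      · rw [map_one]
        simp
    · intro x x' hx hx' ⟨c, hc1, hc2⟩ ⟨c', hc1', hc2'⟩
      have hxk : φ x ∈ σ.ker := (hR x).mp hx
      have hxk' : φ x' ∈ σ.ker := (hR x').mp hx'
      refine ⟨c + c', ?_, ?_⟩
      · intro h
        have h1 : (⟨φ (x * x'), h⟩ : σ.ker) = ⟨φ x, hxk⟩ * ⟨φ x', hxk'⟩ :=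
          Subtype.ext (map_mul φ x x')
        rw [h1, map_mul, hc1 hxk, hc1' hxk', ← Finset.prod_mul_distrib]
        refine Finset.prod_congr rfl (fun j _ => ?_)
        rw [Pi.add_apply, zpow_add]
      · rw [map_mul, toAdd_mul, hc2, hc2', ← Finset.sum_add_distrib]
        refine Finset.sum_congr rfl (fun j _ => ?_)
        rw [Pi.add_apply, add_smul]
    · intro x hx ⟨c, hc1, hc2⟩
      have hxk : φ x ∈ σ.ker := (hR x).mp hx
      refine ⟨-c, ?_, ?_⟩
      · intro h
        have h1 : (⟨φ x⁻¹, h⟩ : σ.ker) = (⟨φ x, hxk⟩ : σ.ker)⁻¹ :=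
          Subtype.ext (map_inv φ x)
        rw [h1, map_inv, hc1 hxk, ← Finset.prod_inv_distrib]
        refine Finset.prod_congr rfl (fun j _ => ?_)
        rw [Pi.neg_apply, zpow_neg]
      · rw [map_inv, toAdd_inv, hc2, ← Finset.sum_neg_distrib]
        refine Finset.sum_congr rfl (fun j _ => ?_)
        rw [Pi.neg_apply, neg_smul]
  -- every element of `A` is a combination with trivial abelian part
  have H1 : ∀ a : A, ∃ c : {x // x ∈ rels} → ℤ, ∏ j, y j ^ c j = a ∧ ∑ j, c j • w j = 0 := by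
    intro a
    obtain ⟨x, hx, hxa⟩ := exists_mem_commutator_of_surjective φ hφ (e.symm a : Γ)
      (hσ.2.2 (e.symm a).2)
    have hxk : φ x ∈ σ.ker := by
      rw [hxa]
      exact (e.symm a).2
    obtain ⟨c, hc1, hc2⟩ := key x ((hR x).mpr hxk)
    refine ⟨c, ?_, ?_⟩
    · rw [← hc1 hxk]
      have h1 : (⟨φ x, hxk⟩ : σ.ker) = e.symm a := Subtype.ext hxa
      rw [h1, MulEquiv.apply_symm_apply]
    · rw [← hc2]
      have h2 : abZ n x = 1 := by
        have h3 := Abelianization.commutator_subset_ker (abZ n) hx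
        exact MonoidHom.mem_ker.mp h3
      rw [h2]
      rfl
  -- multiples of every vector are abelian parts of combinations
  have hm : (Nat.card (PresentedGroup (rels : Set (FreeGroup (Fin n)))) : ℤ) ≠ 0 := by
    exact_mod_cast Nat.card_pos.ne'
  have H2 : ∀ v : Fin n → ℤ, ∃ c : {x // x ∈ rels} → ℤ,
      ∑ j, c j • w j = (Nat.card (PresentedGroup (rels : Set (FreeGroup (Fin n)))) : ℤ) • v := by
    intro v
    obtain ⟨x₀, hx₀⟩ := abZ_surjective n v
    have hx : x₀ ^ Nat.card (PresentedGroup (rels : Set (FreeGroup (Fin n)))) ∈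
        Subgroup.normalClosure (rels : Set (FreeGroup (Fin n))) := by
      rw [← PresentedGroup.mk_eq_one_iff, map_pow]
      exact pow_card_eq_one'
    obtain ⟨c, -, hc2⟩ := key _ hx
    refine ⟨c, ?_⟩
    rw [← hc2, map_pow, toAdd_pow, hx₀, natCast_zsmul]
  obtain ⟨s, hs⟩ := Cfsg.Agent.Helper8.RankLemma.exists_generators_of_combination n y w H1 _ hm H2
  have e' : Fin (rels.card - n) ≃ Fin (Fintype.card {x // x ∈ rels} - n) :=
    finCongr (by rw [Fintype.card_coe])
  refine ⟨s ∘ e', ?_⟩
  rw [e'.surjective.range_comp]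
  exact hs

theorem rank_le (n : ℕ) (rels : Finset (FreeGroup (Fin n)))
    [Finite (PresentedGroup (rels : Set (FreeGroup (Fin n))))] {A : Type*} [CommGroup A] [Finite A]
    (hA : HasSchurMultiplier (PresentedGroup (rels : Set (FreeGroup (Fin n)))) A) :
    Group.rank A ≤ rels.card - n := by
  classical
  obtain ⟨⟨Γ, i1, i2, σ, hσ, ⟨e⟩⟩, -⟩ := hA
  obtain ⟨s, hs⟩ := exists_generators_of_stem n rels σ hσ e
  have h1 : Subgroup.closure ((Finset.univ.image s : Finset A) : Set A) = ⊤ := by
    rw [Finset.coe_image, Finset.coe_univ, Set.image_univ]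
    exact hs
  calc Group.rank A ≤ (Finset.univ.image s).card := Group.rank_le h1
    _ ≤ (Finset.univ : Finset (Fin (rels.card - n))).card := Finset.card_image_le
    _ = rels.card - n := by rw [Finset.card_univ, Fintype.card_fin]

end Cfsg.Agent.Helper8.SchurRank
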