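import Mathlib
import Cfsg.Prelude.Def_KGroupFacts
import Cfsg.Agent.Helper8.HopfMult
import Cfsg.Agent.Helper8.AbDual
import Cfsg.Agent.Helper20.SchurExpB

/-!
If `U` has index `m` in the finite group `G`, the `m`-th powers of the Schur multiplier of `G`
form a group isomorphic to a subgroup of the multiplier of `U`.
-/

set_option autoImplicit false

namespace Cfsg.Agent.Helper8.Hopf

open Cfsg

open scoped commutatorElement

universe u v w

theorem pow_index_multiplier {G : Type u} [Group G] [Finite G] (U : Subgroup G)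
    {A : Type v} {B : Type w} [CommGroup A] [CommGroup B]
    (hA : HasSchurMultiplier G A) (hB : HasSchurMultiplier U B) :
    ∃ C : Subgroup B, Nonempty ((powMonoidHom U.index : A →* A).range ≃* C) := by
  classical
  haveI hfinB : Finite B := by
    obtain ⟨⟨ΓB, j1, j2, σB, -, ⟨eB⟩⟩, -⟩ := hB
    haveI : Finite σB.ker := inferInstance
    exact Finite.of_equiv _ eB.toEquiv
  obtain ⟨⟨Γ, i1, i2, σ, hσ, ⟨eA⟩⟩, -⟩ := hA
  let ΓU : Subgroup Γ := U.comap σ
  let ξ : ΓU →* U := σ.subgroupComap U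
  have hξs : Function.Surjective ξ := σ.subgroupComap_surjective_of_surjective U hσ.1
  have hξv : ∀ x : ΓU, ((ξ x : U) : G) = σ (x : Γ) := fun x => rfl
  have hξc : ξ.ker ≤ Subgroup.center ΓU := by
    intro x hx
    have h1 : σ (x : Γ) = 1 := by
      have := MonoidHom.mem_ker.mp hx
      rw [← hξv, this]
      rfl
    have hc := hσ.2.1 (MonoidHom.mem_ker.mpr h1)
    rw [Subgroup.mem_center_iff]
    intro y
    apply Subtype.ext
    exact Subgroup.mem_center_iff.mp hc _
  obtain ⟨pB, hpB⟩ := exists_surjection_of_hasSchurMultiplier hB ξ hξs hξc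
  have hidx : ΓU.index = U.index := Subgroup.index_comap_of_surjective U hσ.1
  -- elements of the kernel lie in `ΓU`
  have hmemU : ∀ a : σ.ker, (a : Γ) ∈ ΓU := by
    intro a
    show σ (a : Γ) ∈ U
    rw [MonoidHom.mem_ker.mp a.2]
    exact U.one_mem
  -- `m`-th powers lie in `ker ξ ∩ ΓU'`
  have hpow : ∀ a : σ.ker, (⟨(a : Γ), hmemU a⟩ : ΓU) ^ U.index ∈ ξ.ker ⊓ commutator ΓU := by
    intro a
    refine Subgroup.mem_inf.mpr ⟨?_, ?_⟩
    · rw [MonoidHom.mem_ker, map_pow]
      have : ξ ⟨(a : Γ), hmemU a⟩ = 1 := by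
        apply Subtype.ext
        rw [hξv]
        exact MonoidHom.mem_ker.mp a.2
      rw [this, one_pow]
    · rw [← hidx]
      exact Cfsg.Agent.Helper20.pow_index_mem_commutator_of_central ΓU (a : Γ)
        (hσ.2.1 a.2) (hσ.2.2 a.2) (hmemU a)
  -- the embedding of the `m`-th powers of `A`
  have hmem2 : ∀ b : (powMonoidHom U.index : A →* A).range,
      (⟨((eA.symm (b : A) : σ.ker) : Γ), hmemU _⟩ : ΓU) ∈ ξ.ker ⊓ commutator ΓU := by
    rintro ⟨b, a, rfl⟩
    have h1 : eA.symm ((powMonoidHom U.index : A →* A) a) = (eA.symm a) ^ U.index := by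
      rw [powMonoidHom_apply, map_pow]
    have h2 : (⟨((eA.symm ((powMonoidHom U.index : A →* A) a) : σ.ker) : Γ), hmemU _⟩ : ΓU) =
        (⟨((eA.symm a : σ.ker) : Γ), hmemU _⟩ : ΓU) ^ U.index := by
      apply Subtype.ext
      rw [Subgroup.coe_pow]
      show ((eA.symm ((powMonoidHom U.index : A →* A) a) : σ.ker) : Γ) = _
      rw [h1, Subgroup.coe_pow]
    rw [h2]
    exact hpow _
  let h : (powMonoidHom U.index : A →* A).range →* ↥(ξ.ker ⊓ commutator ΓU) :=
    { toFun := fun b => ⟨⟨((eA.symm (b : A) : σ.ker) : Γ), hmemU _⟩, hmem2 b⟩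
      map_one' := by
        apply Subtype.ext
        apply Subtype.ext
        show ((eA.symm ((1 : (powMonoidHom U.index : A →* A).range) : A) : σ.ker) : Γ) = 1
        rw [OneMemClass.coe_one, map_one]
        rfl
      map_mul' := fun a b => by
        apply Subtype.ext
        apply Subtype.ext
        show ((eA.symm ((a * b : (powMonoidHom U.index : A →* A).range) : A) : σ.ker) : Γ) =
          ((eA.symm (a : A) : σ.ker) : Γ) * ((eA.symm (b : A) : σ.ker) : Γ)
        rw [Subgroup.coe_mul, map_mul]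
        rfl }
  have hinj : Function.Injective h := by
    intro a b hab
    have h1 : ((eA.symm (a : A) : σ.ker) : Γ) = ((eA.symm (b : A) : σ.ker) : Γ) :=
      congrArg (fun w : ↥(ξ.ker ⊓ commutator ΓU) => ((w : ΓU) : Γ)) hab
    have h2 : eA.symm (a : A) = eA.symm (b : A) := Subtype.ext h1
    exact Subtype.ext (eA.symm.injective h2)
  obtain ⟨C, ⟨eC⟩⟩ := AbDual.exists_subgroup_equiv_of_subquotient pB hpB h.range
  exact ⟨C, ⟨(MonoidHom.ofInjective hinj).trans eC⟩⟩

end Cfsg.Agent.Helper8.Hopf
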