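import Mathlib
import Cfsg.Prelude.Def_KGroupFacts
import Cfsg.Agent.Helper8.BiExt
import Cfsg.Agent.Helper8.SchurProd

/-!
A stem extension of `Q₁ × Q₂` whose kernel is the product of the kernels of two given stem
extensions and the tensor product of the commutator quotients.
-/

set_option autoImplicit false

namespace Cfsg.Agent.Helper8.Hopf

open Cfsg Cfsg.Agent.Helper8.BiExt TensorProduct

open scoped commutatorElement

universe u v w

/-- the tensor product of the commutator quotients -/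
abbrev Ten (Q₁ : Type u) (Q₂ : Type v) [Group Q₁] [Group Q₂] : Type (max u v) :=
  TensorProduct ℤ (Additive (Abelianization Q₁)) (Additive (Abelianization Q₂))

theorem finite_tensor (M N : Type*) [AddCommGroup M] [AddCommGroup N] [Finite M] [Finite N] :
    Finite (M ⊗[ℤ] N) := by
  have h1 : Module.Finite ℤ M := Module.Finite.of_finite
  have h2 : Module.Finite ℤ N := Module.Finite.of_finite
  have h3 : Module.Finite ℤ (M ⊗[ℤ] N) := Module.Finite.tensorProduct ℤ M N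
  apply Module.finite_of_fg_torsion
  intro x
  have hn : (Nat.card M : ℤ) ≠ 0 := by
    exact_mod_cast Nat.card_pos.ne'
  refine ⟨⟨(Nat.card M : ℤ), mem_nonZeroDivisors_of_ne_zero hn⟩, ?_⟩
  show (Nat.card M : ℤ) • x = 0
  induction x using TensorProduct.induction_on with
  | zero => simp
  | tmul m n =>
    rw [TensorProduct.smul_tmul', natCast_zsmul, card_nsmul_eq_zero', TensorProduct.zero_tmul]
  | add x y hx hy => rw [smul_add, hx, hy, add_zero]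

instance instFiniteTen (Q₁ : Type u) (Q₂ : Type v) [Group Q₁] [Group Q₂] [Finite Q₁] [Finite Q₂] :
    Finite (Ten Q₁ Q₂) :=
  finite_tensor _ _

section AbAdd

variable {Γ : Type*} {Q : Type*} [Group Γ] [Group Q] (σ : Γ →* Q)

/-- the additive image in the commutator quotient -/
def abAdd (g : Γ) : Additive (Abelianization Q) := Additive.ofMul (Abelianization.of (σ g))

theorem abAdd_mul (g h : Γ) : abAdd σ (g * h) = abAdd σ g + abAdd σ h := by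
  simp [abAdd]

theorem abAdd_one : abAdd σ 1 = 0 := by
  simp [abAdd]

theorem abAdd_of_mem_ker {g : Γ} (hg : g ∈ σ.ker) : abAdd σ g = 0 := by
  rw [abAdd, MonoidHom.mem_ker.mp hg, map_one]
  rfl

theorem abAdd_surjective (hσ : Function.Surjective σ) : Function.Surjective (abAdd σ) := by
  intro x
  obtain ⟨q, hq⟩ := QuotientGroup.mk'_surjective (commutator Q) (Additive.toMul x)
  obtain ⟨g, rfl⟩ := hσ q
  exact ⟨g, congrArg Additive.ofMul hq⟩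

end AbAdd

section Construct

variable {Q₁ : Type u} {Q₂ : Type v} [Group Q₁] [Group Q₂]
  {Γ₁ : Type u} {Γ₂ : Type v} [Group Γ₁] [Group Γ₂] (σ₁ : Γ₁ →* Q₁) (σ₂ : Γ₂ →* Q₂)

/-- the cocycle `(g, h) ↦ ḡ₁ ⊗ h̄₂` -/
def tensorCocycle : BiCocycle (Γ₁ × Γ₂) (Ten Q₁ Q₂) where
  toFun g h := abAdd σ₁ g.1 ⊗ₜ[ℤ] abAdd σ₂ h.2
  map_mul_left g g' h := by rw [Prod.fst_mul, abAdd_mul, add_tmul]
  map_mul_right g h h' := by rw [Prod.snd_mul, abAdd_mul, tmul_add]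

theorem tensorCocycle_apply (g h : Γ₁ × Γ₂) :
    (tensorCocycle σ₁ σ₂).toFun g h = abAdd σ₁ g.1 ⊗ₜ[ℤ] abAdd σ₂ h.2 := rfl

/-- the embedding of the first factor -/
def incl₁ : Γ₁ →* Ext (tensorCocycle σ₁ σ₂) where
  toFun g := ⟨(g, 1), 0⟩
  map_one' := rfl
  map_mul' g h := by
    apply Ext.ext'
    · show (g * h, (1 : Γ₂)) = (g, 1) * (h, 1)
      rw [Prod.mk_mul_mk, one_mul]
    · show (0 : Ten Q₁ Q₂) = 0 + 0 + abAdd σ₁ g ⊗ₜ[ℤ] abAdd σ₂ 1
      rw [abAdd_one, tmul_zero, add_zero, add_zero]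

/-- the embedding of the second factor -/
def incl₂ : Γ₂ →* Ext (tensorCocycle σ₁ σ₂) where
  toFun g := ⟨(1, g), 0⟩
  map_one' := rfl
  map_mul' g h := by
    apply Ext.ext'
    · show ((1 : Γ₁), g * h) = (1, g) * (1, h)
      rw [Prod.mk_mul_mk, one_mul]
    · show (0 : Ten Q₁ Q₂) = 0 + 0 + abAdd σ₁ 1 ⊗ₜ[ℤ] abAdd σ₂ h
      rw [abAdd_one, zero_tmul, add_zero, add_zero]

theorem commutator_incl (g : Γ₁) (h : Γ₂) :
    ⁅incl₁ σ₁ σ₂ g, incl₂ σ₁ σ₂ h⁆ =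
      Ext.ofT (tensorCocycle σ₁ σ₂) (Multiplicative.ofAdd (abAdd σ₁ g ⊗ₜ[ℤ] abAdd σ₂ h)) := by
  have h1 := Ext.commutator_of_commute (β := tensorCocycle σ₁ σ₂) (g, 1) (1, h)
    (by rw [Prod.mk_mul_mk, Prod.mk_mul_mk, one_mul, mul_one, one_mul, mul_one])
  have h2 : (tensorCocycle σ₁ σ₂).toFun (g, 1) (1, h) - (tensorCocycle σ₁ σ₂).toFun (1, h) (g, 1) =
      abAdd σ₁ g ⊗ₜ[ℤ] abAdd σ₂ h := by
    rw [tensorCocycle_apply, tensorCocycle_apply]
    show abAdd σ₁ g ⊗ₜ[ℤ] abAdd σ₂ h - abAdd σ₁ 1 ⊗ₜ[ℤ] abAdd σ₂ 1 = _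
    rw [abAdd_one, zero_tmul, sub_zero]
  rw [h2] at h1
  exact h1

theorem ofT_mem_commutator (hσ₁ : Function.Surjective σ₁) (hσ₂ : Function.Surjective σ₂)
    (t : Ten Q₁ Q₂) :
    Ext.ofT (tensorCocycle σ₁ σ₂) (Multiplicative.ofAdd t) ∈
      commutator (Ext (tensorCocycle σ₁ σ₂)) := by
  induction t using TensorProduct.induction_on with
  | zero =>
    rw [ofAdd_zero, map_one]
    exact Subgroup.one_mem _
  | tmul x y =>
    obtain ⟨g, rfl⟩ := abAdd_surjective σ₁ hσ₁ x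
    obtain ⟨h, rfl⟩ := abAdd_surjective σ₂ hσ₂ y
    rw [← commutator_incl, commutator_def]
    exact Subgroup.commutator_mem_commutator (Subgroup.mem_top _) (Subgroup.mem_top _)
  | add x y hx hy =>
    rw [ofAdd_add, map_mul]
    exact Subgroup.mul_mem _ hx hy

theorem mk_zero_mem_commutator (h₁ : σ₁.ker ≤ commutator Γ₁) (h₂ : σ₂.ker ≤ commutator Γ₂)
    (n : Γ₁ × Γ₂) (hn : n ∈ (MonoidHom.prodMap σ₁ σ₂).ker) :
    (⟨n, 0⟩ : Ext (tensorCocycle σ₁ σ₂)) ∈ commutator (Ext (tensorCocycle σ₁ σ₂)) := by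
  rw [MonoidHom.ker_prodMap, Subgroup.mem_prod] at hn
  have e : (⟨n, 0⟩ : Ext (tensorCocycle σ₁ σ₂)) = incl₁ σ₁ σ₂ n.1 * incl₂ σ₁ σ₂ n.2 := by
    apply Ext.ext'
    · show n = (n.1, 1) * (1, n.2)
      rw [Prod.mk_mul_mk, one_mul, mul_one]
    · show (0 : Ten Q₁ Q₂) = 0 + 0 + abAdd σ₁ n.1 ⊗ₜ[ℤ] abAdd σ₂ n.2
      rw [abAdd_of_mem_ker σ₁ hn.1, zero_tmul, add_zero, add_zero]
  rw [e]
  exact Subgroup.mul_mem _ (map_commutator_le (incl₁ σ₁ σ₂) ⟨n.1, h₁ hn.1, rfl⟩)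
    (map_commutator_le (incl₂ σ₁ σ₂) ⟨n.2, h₂ hn.2, rfl⟩)

theorem tensorCocycle_eq_zero_left {n : Γ₁ × Γ₂} (hn : n ∈ (MonoidHom.prodMap σ₁ σ₂).ker)
    (g : Γ₁ × Γ₂) : (tensorCocycle σ₁ σ₂).toFun n g = 0 := by
  rw [MonoidHom.ker_prodMap, Subgroup.mem_prod] at hn
  rw [tensorCocycle_apply, abAdd_of_mem_ker σ₁ hn.1, zero_tmul]

theorem tensorCocycle_eq_zero_right {n : Γ₁ × Γ₂} (hn : n ∈ (MonoidHom.prodMap σ₁ σ₂).ker)
    (g : Γ₁ × Γ₂) : (tensorCocycle σ₁ σ₂).toFun g n = 0 := by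
  rw [MonoidHom.ker_prodMap, Subgroup.mem_prod] at hn
  rw [tensorCocycle_apply, abAdd_of_mem_ker σ₂ hn.2, tmul_zero]

/-- the stem extension of the product with the tensor product in its kernel -/
theorem exists_stem_tensor [Finite Q₁] [Finite Q₂] [Finite Γ₁] [Finite Γ₂]
    (h₁ : IsStemExtension σ₁) (h₂ : IsStemExtension σ₂) :
    ∃ (Γ : Type (max u v)) (_ : Group Γ) (_ : Finite Γ) (σ : Γ →* Q₁ × Q₂),
      IsStemExtension σ ∧
        Nonempty (σ.ker ≃* (σ₁.ker × σ₂.ker) × Multiplicative (Ten Q₁ Q₂)) := by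
  have hs := isStemExtension_prodMap σ₁ σ₂ h₁ h₂
  refine ⟨Ext (tensorCocycle σ₁ σ₂), inferInstance, inferInstance,
    (MonoidHom.prodMap σ₁ σ₂).comp (Ext.proj (tensorCocycle σ₁ σ₂)), ?_, ⟨?_⟩⟩
  · exact Ext.isStemExtension_comp _ _ hs.1 hs.2.1
      (fun n hn g => tensorCocycle_eq_zero_left σ₁ σ₂ hn g)
      (fun n hn g => tensorCocycle_eq_zero_right σ₁ σ₂ hn g)
      (mk_zero_mem_commutator σ₁ σ₂ h₁.2.2 h₂.2.2)
      (fun t => ofT_mem_commutator σ₁ σ₂ h₁.1 h₂.1 (Multiplicative.toAdd t))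
  · refine (Ext.kerEquiv _ _
      (fun n hn m _ => tensorCocycle_eq_zero_left σ₁ σ₂ hn m)).trans ?_
    exact MulEquiv.prodCongr ((MulEquiv.subgroupCongr (MonoidHom.ker_prodMap σ₁ σ₂)).trans
      (Subgroup.prodEquiv σ₁.ker σ₂.ker)) (MulEquiv.refl _)

end Construct

end Cfsg.Agent.Helper8.Hopf
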