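import Mathlib
import Cfsg.Prelude.Def_KGroupFacts
import Cfsg.Agent.Helper8.SchurTensorA

/-!
The commutator pairing between the preimages of the factors in a stem extension of `Q₁ × Q₂`,
and the Schur multiplier of a direct product.
-/

set_option autoImplicit false

namespace Cfsg.Agent.Helper8.Hopf

open Cfsg Cfsg.Agent.Helper8.Stem TensorProduct

open scoped commutatorElement

universe u v w

section CommHom

variable {G : Type*} [Group G]

/-- the commutator with a fixed element, as a homomorphism, when its values are central -/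
def commHom (H : Subgroup G) (z : G) (hz : ∀ x ∈ H, ⁅x, z⁆ ∈ Subgroup.center G) : H →* G :=
  MonoidHom.mk' (fun y => ⁅(y : G), z⁆) (by
    intro a b
    show ⁅(a : G) * (b : G), z⁆ = ⁅(a : G), z⁆ * ⁅(b : G), z⁆
    have hc := Subgroup.mem_center_iff.mp (hz b b.2)
    have hc' : Commute (a : G) ⁅(b : G), z⁆ := hc (a : G)
    rw [Cfsg.Agent.Helper11.SzMult.comm_mul_left (a : G) (b : G) z hc']
    exact (Subgroup.mem_center_iff.mp (hz a a.2) _))

theorem commHom_apply (H : Subgroup G) (z : G) (hz : ∀ x ∈ H, ⁅x, z⁆ ∈ Subgroup.center G)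
    (y : H) : commHom H z hz y = ⁅(y : G), z⁆ := rfl

theorem commHom_eq_one_of_mem_commutator (H : Subgroup G) (z : G)
    (hz : ∀ x ∈ H, ⁅x, z⁆ ∈ Subgroup.center G) (y : H) (hy : y ∈ commutator H) :
    commHom H z hz y = 1 := by
  have h1 : commutator H ≤ (commHom H z hz).ker := by
    rw [commutator_eq_closure, Subgroup.closure_le]
    rintro _ ⟨a, b, rfl⟩
    show commHom H z hz ⁅a, b⁆ = 1
    rw [map_commutatorElement, commutatorElement_eq_one_iff_commute]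
    have hc'' : Commute (commHom H z hz a) (commHom H z hz b) :=
      Subgroup.mem_center_iff.mp (hz b b.2) (commHom H z hz a)
    exact hc''
  exact h1 hy

/-- elements with the same image in the commutator quotient of the image of `H` have the same
commutator with `z` -/
theorem commutator_congr_of_ab_eq {P : Type*} [Group P] (H : Subgroup G) (z : G)
    (hz : ∀ x ∈ H, ⁅x, z⁆ ∈ Subgroup.center G) (π : H →* P) (hπ : Function.Surjective π)
    (hker : ∀ x : H, x ∈ π.ker → ⁅(x : G), z⁆ = 1) (x x' : H)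
    (h : Abelianization.of (π x) = Abelianization.of (π x')) :
    ⁅(x : G), z⁆ = ⁅(x' : G), z⁆ := by
  have key : commHom H z hz (x'⁻¹ * x) = 1 := by
    have hq : π (x'⁻¹ * x) ∈ commutator P := by
      rw [← Abelianization.ker_of, MonoidHom.mem_ker, map_mul, map_mul, map_inv, map_inv, h,
        inv_mul_cancel]
    obtain ⟨y, hy, hyq⟩ := exists_mem_commutator_of_surjective π hπ _ hq
    have hk : y⁻¹ * (x'⁻¹ * x) ∈ π.ker := by
      rw [MonoidHom.mem_ker, map_mul, map_inv, hyq, inv_mul_cancel]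
    have e : x'⁻¹ * x = y * (y⁻¹ * (x'⁻¹ * x)) := by group
    rw [e, map_mul, commHom_eq_one_of_mem_commutator H z hz y hy, one_mul, commHom_apply]
    exact hker _ hk
  rw [map_mul, map_inv, inv_mul_eq_one] at key
  rw [← commHom_apply H z hz x, ← commHom_apply H z hz x']
  exact key.symm

end CommHom

section Pairing

open scoped IsMulCommutative

variable {Q₁ : Type u} {Q₂ : Type v} [Group Q₁] [Group Q₂] {Δ : Type w} [Group Δ]
  (τ : Δ →* Q₁ × Q₂)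

theorem commutator_congr_left (hτ : Function.Surjective τ) (hc : τ.ker ≤ Subgroup.center Δ)
    (x x' : pre₁ τ) (y : Δ) (hy : y ∈ pre₂ τ)
    (h : abAdd (proj₁ τ) x = abAdd (proj₁ τ) x') : ⁅(x : Δ), y⁆ = ⁅(x' : Δ), y⁆ := by
  refine commutator_congr_of_ab_eq (pre₁ τ) y
    (fun a ha => hc (commutator_mem_ker τ ha hy)) (proj₁ τ) (proj₁_surjective τ hτ) ?_ x x'
    (congrArg Additive.toMul h)
  intro k hk
  rw [commutatorElement_eq_one_iff_commute]
  exact (Subgroup.mem_center_iff.mp (hc ((mem_ker_proj₁ τ k).mp hk)) y).symm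

theorem commutator_congr_right (hτ : Function.Surjective τ) (hc : τ.ker ≤ Subgroup.center Δ)
    (x : Δ) (hx : x ∈ pre₁ τ) (y y' : pre₂ τ)
    (h : abAdd (proj₂ τ) y = abAdd (proj₂ τ) y') : ⁅x, (y : Δ)⁆ = ⁅x, (y' : Δ)⁆ := by
  rw [← commutatorElement_inv (y : Δ) x, ← commutatorElement_inv (y' : Δ) x]
  congr 1
  refine commutator_congr_of_ab_eq (pre₂ τ) x
    (fun a ha => ?_) (proj₂ τ) (proj₂_surjective τ hτ) ?_ y y'
    (congrArg Additive.toMul h)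
  · rw [← commutatorElement_inv]
    exact Subgroup.inv_mem _ (hc (commutator_mem_ker τ hx ha))
  · intro k hk
    rw [commutatorElement_eq_one_iff_commute]
    exact (Subgroup.mem_center_iff.mp (hc ((mem_ker_proj₂ τ k).mp hk)) x).symm

/-- the commutator pairing as a homomorphism from the tensor product of the commutator quotients
to the kernel -/
theorem exists_tensor_hom (hτ : Function.Surjective τ) (hc : τ.ker ≤ Subgroup.center Δ) :
    ∃ f : Multiplicative (Ten Q₁ Q₂) →* τ.ker,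
      ∀ x ∈ pre₁ τ, ∀ y ∈ pre₂ τ, ∃ t, (f t : Δ) = ⁅x, y⁆ := by
  classical
  choose s₁ hs₁ using abAdd_surjective (proj₁ τ) (proj₁_surjective τ hτ)
  choose s₂ hs₂ using abAdd_surjective (proj₂ τ) (proj₂_surjective τ hτ)
  have hcen : ∀ (x : pre₁ τ) (y : pre₂ τ), ⁅(x : Δ), (y : Δ)⁆ ∈ Subgroup.center Δ :=
    fun x y => hc (commutator_mem_ker τ x.2 y.2)
  let F : Additive (Abelianization Q₁) → Additive (Abelianization Q₂) →
      Additive (Subgroup.center Δ) :=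
    fun m n => Additive.ofMul ⟨⁅(s₁ m : Δ), (s₂ n : Δ)⁆, hcen (s₁ m) (s₂ n)⟩
  have hFval : ∀ m n, ((Additive.toMul (F m n) : Subgroup.center Δ) : Δ) =
      ⁅(s₁ m : Δ), (s₂ n : Δ)⁆ := fun m n => rfl
  have hF : ∀ (x : pre₁ τ) (y : pre₂ τ),
      ((Additive.toMul (F (abAdd (proj₁ τ) x) (abAdd (proj₂ τ) y)) : Subgroup.center Δ) : Δ) =
        ⁅(x : Δ), (y : Δ)⁆ := by
    intro x y
    rw [hFval, commutator_congr_left τ hτ hc (s₁ (abAdd (proj₁ τ) x)) x _ (s₂ _).2 (hs₁ _),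
      commutator_congr_right τ hτ hc _ x.2 (s₂ (abAdd (proj₂ τ) y)) y (hs₂ _)]
  have hadd₁ : ∀ m m' n, F (m + m') n = F m n + F m' n := by
    intro m m' n
    have h1 : ∀ a b : Additive (Subgroup.center Δ),
        ((Additive.toMul a : Subgroup.center Δ) : Δ) = ((Additive.toMul b : Subgroup.center Δ) : Δ) →
          a = b := fun a b h => Subtype.ext h
    apply h1
    show ⁅(s₁ (m + m') : Δ), (s₂ n : Δ)⁆ = ⁅(s₁ m : Δ), (s₂ n : Δ)⁆ * ⁅(s₁ m' : Δ), (s₂ n : Δ)⁆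
    rw [commutator_congr_left τ hτ hc (s₁ (m + m')) (s₁ m * s₁ m') _ (s₂ n).2
      (by rw [hs₁, abAdd_mul, hs₁, hs₁])]
    have hc' : Commute ((s₁ m : pre₁ τ) : Δ) ⁅((s₁ m' : pre₁ τ) : Δ), (s₂ n : Δ)⁆ :=
      Subgroup.mem_center_iff.mp (hcen (s₁ m') (s₂ n)) _
    rw [Subgroup.coe_mul, Cfsg.Agent.Helper11.SzMult.comm_mul_left _ _ _ hc']
    exact (Subgroup.mem_center_iff.mp (hcen (s₁ m) (s₂ n)) _)
  have hadd₂ : ∀ m n n', F m (n + n') = F m n + F m n' := by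
    intro m n n'
    have h1 : ∀ a b : Additive (Subgroup.center Δ),
        ((Additive.toMul a : Subgroup.center Δ) : Δ) = ((Additive.toMul b : Subgroup.center Δ) : Δ) →
          a = b := fun a b h => Subtype.ext h
    apply h1
    show ⁅(s₁ m : Δ), (s₂ (n + n') : Δ)⁆ = ⁅(s₁ m : Δ), (s₂ n : Δ)⁆ * ⁅(s₁ m : Δ), (s₂ n' : Δ)⁆
    rw [commutator_congr_right τ hτ hc _ (s₁ m).2 (s₂ (n + n')) (s₂ n * s₂ n')
      (by rw [hs₂, abAdd_mul, hs₂, hs₂])]
    have hc' : Commute ((s₂ n : pre₂ τ) : Δ) ⁅((s₁ m : pre₁ τ) : Δ), (s₂ n' : Δ)⁆ :=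
      Subgroup.mem_center_iff.mp (hcen (s₁ m) (s₂ n')) _
    rw [Subgroup.coe_mul, Cfsg.Agent.Helper11.SzMult.comm_mul_right _ _ _ hc']
  let f : Additive (Abelianization Q₁) →+ Additive (Abelianization Q₂) →+
      Additive (Subgroup.center Δ) :=
    AddMonoidHom.mk' (fun m => AddMonoidHom.mk' (F m) (hadd₂ m))
      (fun m m' => AddMonoidHom.ext (fun n => hadd₁ m m' n))
  have hf : ∀ m n, f m n = F m n := fun m n => rfl
  let φ : Ten Q₁ Q₂ →+ Additive (Subgroup.center Δ) :=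
    TensorProduct.liftAddHom f (fun r m n => by
      rw [map_zsmul, map_zsmul, AddMonoidHom.smul_apply])
  have hφ : ∀ m n, φ (m ⊗ₜ[ℤ] n) = F m n := fun m n => rfl
  have hker : ∀ t, ((Additive.toMul (φ t) : Subgroup.center Δ) : Δ) ∈ τ.ker := by
    intro t
    induction t using TensorProduct.induction_on with
    | zero =>
      rw [map_zero]
      exact Subgroup.one_mem _
    | tmul m n =>
      rw [hφ, hFval]
      exact commutator_mem_ker τ (s₁ m).2 (s₂ n).2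
    | add x y hx hy =>
      rw [map_add]
      exact Subgroup.mul_mem _ hx hy
  let ψ : Multiplicative (Ten Q₁ Q₂) →* τ.ker :=
    { toFun := fun t => ⟨_, hker (Multiplicative.toAdd t)⟩
      map_one' := by
        apply Subtype.ext
        show ((Additive.toMul (φ 0) : Subgroup.center Δ) : Δ) = 1
        rw [map_zero]
        rfl
      map_mul' := fun s t => by
        apply Subtype.ext
        show ((Additive.toMul (φ (Multiplicative.toAdd s + Multiplicative.toAdd t)) :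
          Subgroup.center Δ) : Δ) = _
        rw [map_add]
        rfl }
  refine ⟨ψ, ?_⟩
  intro x hx y hy
  refine ⟨Multiplicative.ofAdd (abAdd (proj₁ τ) ⟨x, hx⟩ ⊗ₜ[ℤ] abAdd (proj₂ τ) ⟨y, hy⟩), ?_⟩
  show ((Additive.toMul (φ (abAdd (proj₁ τ) ⟨x, hx⟩ ⊗ₜ[ℤ] abAdd (proj₂ τ) ⟨y, hy⟩)) :
    Subgroup.center Δ) : Δ) = _
  rw [hφ, hF]

end Pairing

section Decompose

variable {Q₁ : Type u} {Q₂ : Type v} [Group Q₁] [Group Q₂] {Δ : Type w} [Group Δ]
  (τ : Δ →* Q₁ × Q₂)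

/-- every element of the kernel of a stem extension of `Q₁ × Q₂` is a product of elements of the
commutator subgroups of the two preimages and an element of any subgroup of the kernel that
contains the mixed commutators -/
theorem exists_mul_mul_of_mem_ker (hτ : IsStemExtension τ) (C : Subgroup Δ) (hC : C ≤ τ.ker)
    (hCc : ∀ x ∈ pre₁ τ, ∀ y ∈ pre₂ τ, ⁅x, y⁆ ∈ C) (k : Δ) (hk : k ∈ τ.ker) :
    ∃ a : pre₁ τ, a ∈ commutator (pre₁ τ) ∧ ∃ b : pre₂ τ, b ∈ commutator (pre₂ τ) ∧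
      ∃ c ∈ C, k = (a : Δ) * (b : Δ) * c := by
  haveI : C.Normal := ⟨fun n hn g => by
    have h1 := Subgroup.mem_center_iff.mp (hτ.2.1 (hC hn)) g
    rw [h1, mul_inv_cancel_right]
    exact hn⟩
  let ρ : Δ →* Δ ⧸ C := QuotientGroup.mk' C
  have hcomm : ∀ x ∈ (pre₁ τ).map ρ, ∀ y ∈ (pre₂ τ).map ρ, Commute x y := by
    rintro _ ⟨x, hx, rfl⟩ _ ⟨y, hy, rfl⟩
    rw [← commutatorElement_eq_one_iff_commute, ← map_commutatorElement]
    exact (QuotientGroup.eq_one_iff _).mpr (hCc x hx y hy)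
  have hgen : ∀ g : Δ ⧸ C, ∃ x ∈ (pre₁ τ).map ρ, ∃ y ∈ (pre₂ τ).map ρ, g = x * y := by
    intro g
    obtain ⟨d, rfl⟩ := QuotientGroup.mk'_surjective C g
    obtain ⟨d₁, h₁, d₂, h₂, rfl⟩ := exists_mul_pre τ hτ.1 d
    exact ⟨ρ d₁, ⟨d₁, h₁, rfl⟩, ρ d₂, ⟨d₂, h₂, rfl⟩, map_mul ρ d₁ d₂⟩
  have hk' : ρ k ∈ commutator (Δ ⧸ C) := map_commutator_le ρ ⟨k, hτ.2.2 hk, rfl⟩
  obtain ⟨a, ⟨a', ha', rfl⟩, b, ⟨b', hb', rfl⟩, hab⟩ :=
    exists_mul_of_mem_commutator ((pre₁ τ).map ρ) ((pre₂ τ).map ρ) hcomm hgen (ρ k) hk'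
  obtain ⟨a₀, ha₀, ha₀'⟩ := exists_mem_commutator_of_surjective (ρ.subgroupMap (pre₁ τ))
    (MonoidHom.subgroupMap_surjective ρ _) a' ha'
  obtain ⟨b₀, hb₀, hb₀'⟩ := exists_mem_commutator_of_surjective (ρ.subgroupMap (pre₂ τ))
    (MonoidHom.subgroupMap_surjective ρ _) b' hb'
  refine ⟨a₀, ha₀, b₀, hb₀, ((a₀ : Δ) * (b₀ : Δ))⁻¹ * k, ?_, by group⟩
  rw [← QuotientGroup.eq_one_iff (N := C)]
  show ρ (((a₀ : Δ) * (b₀ : Δ))⁻¹ * k) = 1
  have e1 : ρ (a₀ : Δ) = ((pre₁ τ).map ρ).subtype a' := by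
    rw [← ha₀']
    rfl
  have e2 : ρ (b₀ : Δ) = ((pre₂ τ).map ρ).subtype b' := by
    rw [← hb₀']
    rfl
  rw [map_mul, map_inv, map_mul, hab, e1, e2, inv_mul_cancel]

end Decompose

section MainTensor

variable {Q₁ : Type u} {Q₂ : Type v} [Group Q₁] [Group Q₂] [Finite Q₁] [Finite Q₂]
  {Δ : Type w} [Group Δ] (τ : Δ →* Q₁ × Q₂)

theorem exists_hom₁ {A : Type*} [CommGroup A] (hA : HasSchurMultiplier Q₁ A)
    (hτ : IsStemExtension τ) :
    ∃ f₁ : A →* τ.ker, ∀ a : pre₁ τ, a ∈ commutator (pre₁ τ) → (a : Δ) ∈ τ.ker →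
      ∃ x, (f₁ x : Δ) = a := by
  obtain ⟨π₁, hπ₁⟩ := exists_surjection_of_hasSchurMultiplier hA (proj₁ τ)
    (proj₁_surjective τ hτ.1) (ker_proj₁_le_center τ hτ.2.1)
  have hm₁ : ∀ a : A, (((π₁ a : ↥((proj₁ τ).ker ⊓ commutator (pre₁ τ))) : pre₁ τ) : Δ) ∈ τ.ker :=
    fun a => (mem_ker_proj₁ τ _).mp (π₁ a).2.1
  let f₁ : A →* τ.ker :=
    { toFun := fun a => ⟨_, hm₁ a⟩
      map_one' := by
        apply Subtype.ext
        show (((π₁ 1 : ↥((proj₁ τ).ker ⊓ commutator (pre₁ τ))) : pre₁ τ) : Δ) = 1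
        rw [map_one]
        rfl
      map_mul' := fun a a' => by
        apply Subtype.ext
        show (((π₁ (a * a') : ↥((proj₁ τ).ker ⊓ commutator (pre₁ τ))) : pre₁ τ) : Δ) = _
        rw [map_mul]
        rfl }
  refine ⟨f₁, ?_⟩
  intro a ha hak
  obtain ⟨x, hx⟩ := hπ₁ ⟨a, Subgroup.mem_inf.mpr ⟨(mem_ker_proj₁ τ a).mpr hak, ha⟩⟩
  refine ⟨x, ?_⟩
  show (((π₁ x : ↥((proj₁ τ).ker ⊓ commutator (pre₁ τ))) : pre₁ τ) : Δ) = _
  rw [hx]

theorem exists_hom₂ {B : Type*} [CommGroup B] (hB : HasSchurMultiplier Q₂ B)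
    (hτ : IsStemExtension τ) :
    ∃ f₂ : B →* τ.ker, ∀ b : pre₂ τ, b ∈ commutator (pre₂ τ) → (b : Δ) ∈ τ.ker →
      ∃ x, (f₂ x : Δ) = b := by
  obtain ⟨π₂, hπ₂⟩ := exists_surjection_of_hasSchurMultiplier hB (proj₂ τ)
    (proj₂_surjective τ hτ.1) (ker_proj₂_le_center τ hτ.2.1)
  have hm₂ : ∀ b : B, (((π₂ b : ↥((proj₂ τ).ker ⊓ commutator (pre₂ τ))) : pre₂ τ) : Δ) ∈ τ.ker :=
    fun b => (mem_ker_proj₂ τ _).mp (π₂ b).2.1
  let f₂ : B →* τ.ker :=
    { toFun := fun b => ⟨_, hm₂ b⟩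
      map_one' := by
        apply Subtype.ext
        show (((π₂ 1 : ↥((proj₂ τ).ker ⊓ commutator (pre₂ τ))) : pre₂ τ) : Δ) = 1
        rw [map_one]
        rfl
      map_mul' := fun b b' => by
        apply Subtype.ext
        show (((π₂ (b * b') : ↥((proj₂ τ).ker ⊓ commutator (pre₂ τ))) : pre₂ τ) : Δ) = _
        rw [map_mul]
        rfl }
  refine ⟨f₂, ?_⟩
  intro b hb hbk
  obtain ⟨x, hx⟩ := hπ₂ ⟨b, Subgroup.mem_inf.mpr ⟨(mem_ker_proj₂ τ b).mpr hbk, hb⟩⟩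
  refine ⟨x, ?_⟩
  show (((π₂ x : ↥((proj₂ τ).ker ⊓ commutator (pre₂ τ))) : pre₂ τ) : Δ) = _
  rw [hx]

/-- the kernel of a stem extension of `Q₁ × Q₂` is an image of the product of the multipliers
and the tensor product of the commutator quotients -/
theorem exists_surjection_tensor {A : Type*} {B : Type*} [CommGroup A] [CommGroup B]
    (hA : HasSchurMultiplier Q₁ A) (hB : HasSchurMultiplier Q₂ B) (hτ : IsStemExtension τ) :
    ∃ π : A × B × Multiplicative (Ten Q₁ Q₂) →* τ.ker, Function.Surjective π := by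
  classical
  obtain ⟨f₁, hf₁⟩ := exists_hom₁ τ hA hτ
  obtain ⟨f₂, hf₂⟩ := exists_hom₂ τ hB hτ
  obtain ⟨f₃, hf₃⟩ := exists_tensor_hom τ hτ.1 hτ.2.1
  have hkc : ∀ x y : τ.ker, Commute x y := by
    intro x y
    apply Subtype.ext
    exact (Subgroup.mem_center_iff.mp (hτ.2.1 x.2) _).symm
  refine ⟨MonoidHom.noncommCoprod f₁ (MonoidHom.noncommCoprod f₂ f₃ (fun a b => hkc _ _))
    (fun a b => hkc _ _), ?_⟩
  intro k
  obtain ⟨a, ha, b, hb, c, ⟨c', ⟨t, rfl⟩, rfl⟩, hk⟩ := exists_mul_mul_of_mem_ker τ hτ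
    (f₃.range.map τ.ker.subtype) (by
      rintro _ ⟨c', -, rfl⟩
      exact c'.2) (by
      intro x hx y hy
      obtain ⟨t, ht⟩ := hf₃ x hx y hy
      exact ⟨f₃ t, ⟨t, rfl⟩, ht⟩) (k : Δ) k.2
  -- both factors lie in the kernel
  have hk1 : τ (k : Δ) = 1 := MonoidHom.mem_ker.mp k.2
  have hc1 : τ ((τ.ker.subtype) (f₃ t)) = 1 := MonoidHom.mem_ker.mp (f₃ t).2
  rw [hk, map_mul, map_mul, hc1, mul_one, tau_eq₁, tau_eq₂] at hk1
  have ha1 : proj₁ τ a = 1 := by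
    have := congrArg Prod.fst hk1
    simpa using this
  have hb1 : proj₂ τ b = 1 := by
    have := congrArg Prod.snd hk1
    simpa using this
  obtain ⟨x, hx⟩ := hf₁ a ha ((mem_ker_proj₁ τ a).mp (MonoidHom.mem_ker.mpr ha1))
  obtain ⟨y, hy⟩ := hf₂ b hb ((mem_ker_proj₂ τ b).mp (MonoidHom.mem_ker.mpr hb1))
  refine ⟨(x, y, t), ?_⟩
  apply Subtype.ext
  rw [MonoidHom.noncommCoprod_apply, MonoidHom.noncommCoprod_apply, Subgroup.coe_mul,
    Subgroup.coe_mul, hk, hx, hy, mul_assoc]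
  rfl

theorem hasSchurMultiplier_prod_tensor {A B : Type w} [CommGroup A] [CommGroup B]
    (hA : HasSchurMultiplier Q₁ A) (hB : HasSchurMultiplier Q₂ B) :
    HasSchurMultiplier (Q₁ × Q₂) (A × B × Multiplicative (Ten Q₁ Q₂)) := by
  refine ⟨?_, ?_⟩
  · obtain ⟨⟨Γ₁, i1, i2, σ₁, hσ₁, ⟨e₁⟩⟩, -⟩ := hA
    obtain ⟨⟨Γ₂, j1, j2, σ₂, hσ₂, ⟨e₂⟩⟩, -⟩ := hB
    obtain ⟨Γ, k1, k2, σ, hσ, ⟨e⟩⟩ := exists_stem_tensor σ₁ σ₂ hσ₁ hσ₂
    refine ⟨Γ, k1, k2, σ, hσ, ⟨?_⟩⟩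
    exact (e.trans (MulEquiv.prodCongr (MulEquiv.prodCongr e₁ e₂) (MulEquiv.refl _))).trans
      MulEquiv.prodAssoc
  · intro Δ _ _ τ hτ
    exact exists_surjection_tensor τ hA hB hτ

end MainTensor

end Cfsg.Agent.Helper8.Hopf
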