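import Mathlib
import Cfsg.Prelude.Def_Solvable
import Cfsg.Agent.Helper8.SelfCentCount
import Cfsg.Agent.Helper7.PPrimeCore

set_option autoImplicit false
set_option linter.style.haveILetI false
set_option linter.unusedSectionVars false
set_option linter.unusedVariables false

/-! # `G'/O_{p'}(G)` is simple when `C_G(x) = ⟨x⟩` and `t ≠ p - 1` -/

namespace Cfsg.Agent.Helper8

open Subgroup
open scoped commutatorElement

universe u

section Simple

variable {G : Type u} [Group G] [Finite G] {p : ℕ} [hp : Fact p.Prime] {x : G}

theorem not_dvd_card_pPrimeCore : ¬ p ∣ Nat.card (Cfsg.pPrimeCore p G) := by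
  have h := Cfsg.Agent.Helper19.pPrimeCore_coprime (G := G) p
  exact (Nat.Prime.coprime_iff_not_dvd hp.out).mp h.symm

theorem pPrimeCore_le_commutator (hx : orderOf x = p)
    (hC : centralizer ({x} : Set G) = zpowers x) : Cfsg.pPrimeCore p G ≤ commutator G := by
  intro s hs
  obtain ⟨u, hu, hus⟩ := exists_comm_eq hx hC (Cfsg.pPrimeCore p G) not_dvd_card_pPrimeCore s hs
  rw [← hus, commutator_def]
  exact commutator_mem_commutator (mem_top u) (mem_top x)

/-- every element of order `p` lies in every normal subgroup of order divisible by `p` -/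
theorem mem_of_orderOf_eq_of_dvd_card (hx : orderOf x = p)
    (hC : centralizer ({x} : Set G) = zpowers x) (N : Subgroup G) [N.Normal]
    (hdvd : p ∣ Nat.card N) (y : G) (hy : orderOf y = p) : y ∈ N :=
  zpowers_le_of_dvd_card hy (centralizer_eq_zpowers_of_orderOf hx hC y hy) N hdvd
    (mem_zpowers y)

/-- the hypotheses pass to any subgroup containing `x` -/
theorem centralizer_subgroup_eq (hC : centralizer ({x} : Set G) = zpowers x)
    (D : Subgroup G) (hxD : x ∈ D) :
    centralizer ({(⟨x, hxD⟩ : D)} : Set D) = zpowers (⟨x, hxD⟩ : D) := by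
  apply le_antisymm
  · intro c hc
    rw [mem_centralizer_iff] at hc
    have h1 : (⟨x, hxD⟩ : D) * c = c * ⟨x, hxD⟩ := hc _ rfl
    have h2 : x * (c : G) = c * x := congrArg Subtype.val h1
    have h3 : (c : G) ∈ centralizer ({x} : Set G) := by
      rw [mem_centralizer_iff]
      intro y hy
      rw [Set.mem_singleton_iff] at hy
      subst hy
      exact h2
    rw [hC] at h3
    obtain ⟨k, hk⟩ := mem_zpowers_iff.mp h3
    rw [mem_zpowers_iff]
    refine ⟨k, ?_⟩
    apply Subtype.ext
    rw [← hk]
    simp
  · rw [zpowers_le, mem_centralizer_iff]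
    intro y hy
    rw [Set.mem_singleton_iff] at hy
    rw [hy]

/-- **`G'/O_{p'}(G)` is simple** when `N_G(⟨x⟩) ≠ ⟨x⟩` -/
theorem isSimpleGroup_commutator_quotient (hx : orderOf x = p)
    (hC : centralizer ({x} : Set G) = zpowers x)
    (he : (zpowers x).relIndex (normalizer ((zpowers x : Subgroup G) : Set G)) ≠ 1)
    (h : ((Cfsg.pPrimeCore p G).subgroupOf (commutator G)).Normal) :
    IsSimpleGroup (↥(commutator G) ⧸ (Cfsg.pPrimeCore p G).subgroupOf (commutator G)) := by
  have hxD : x ∈ commutator G :=
    zpowers_le_commutator_of_relIndex_ne_one hx hC he (mem_zpowers x)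
  have hSD : Cfsg.pPrimeCore p G ≤ commutator G := pPrimeCore_le_commutator hx hC
  have hxS : x ∉ Cfsg.pPrimeCore p G := by
    intro hxS
    have : x ∈ Cfsg.pPrimeCore p G ⊓ zpowers x := ⟨hxS, mem_zpowers x⟩
    rw [inf_zpowers_eq_bot hx _ not_dvd_card_pPrimeCore, mem_bot] at this
    exact ne_one_of_orderOf_eq_prime hp.out hx this
  have hx'o : orderOf (⟨x, hxD⟩ : commutator G) = p := by
    rw [← hx]
    exact Subgroup.orderOf_mk x hxD
  have hC' := centralizer_subgroup_eq hC (commutator G) hxD
  haveI : Nontrivial (↥(commutator G) ⧸ (Cfsg.pPrimeCore p G).subgroupOf (commutator G)) := by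
    refine ⟨⟨(QuotientGroup.mk (⟨x, hxD⟩ : commutator G) :
      ↥(commutator G) ⧸ (Cfsg.pPrimeCore p G).subgroupOf (commutator G)), 1, ?_⟩⟩
    intro h1
    have := (QuotientGroup.eq_one_iff (⟨x, hxD⟩ : commutator G)).mp h1
    rw [mem_subgroupOf] at this
    exact hxS this
  refine ⟨fun H hH => ?_⟩
  set M' := H.comap (QuotientGroup.mk' ((Cfsg.pPrimeCore p G).subgroupOf (commutator G)))
    with hM'
  haveI : M'.Normal := hH.comap _
  have hHM : H = M'.map (QuotientGroup.mk' ((Cfsg.pPrimeCore p G).subgroupOf (commutator G))) :=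
    (map_comap_eq_self_of_surjective (QuotientGroup.mk'_surjective _) H).symm
  by_cases hdvd : p ∣ Nat.card M'
  · right
    have hM'top : M' = ⊤ := by
      have hall : ∀ y : commutator G, orderOf y = p → y ∈ M' :=
        fun y hy => mem_of_orderOf_eq_of_dvd_card hx'o hC' M' hdvd y hy
      have hnc : normalClosure ({x} : Set G) ≤ M'.map (commutator G).subtype := by
        rw [normalClosure, closure_le]
        intro y hy
        obtain ⟨a, ha, hay⟩ := Group.mem_conjugatesOfSet_iff.mp hy
        rw [Set.mem_singleton_iff] at ha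
        subst ha
        obtain ⟨c, hc⟩ := isConj_iff.mp hay
        have hyD : y ∈ commutator G := by
          rw [← hc]
          exact (inferInstance : (commutator G).Normal).conj_mem _ hxD c
        have hyo : orderOf y = p := by
          rw [← hx, ← hc]
          exact (MulAut.conj c).orderOf_eq a
        have hy' : orderOf (⟨y, hyD⟩ : commutator G) = p := by
          rw [← hyo]
          exact Subgroup.orderOf_mk y hyD
        exact ⟨⟨y, hyD⟩, hall _ hy', rfl⟩
      have hncdvd : p ∣ Nat.card (normalClosure ({x} : Set G)) := by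
        rw [← hx]
        exact Subgroup.orderOf_dvd_natCard _ (subset_normalClosure (Set.mem_singleton x))
      have hle : commutator G ≤ normalClosure ({x} : Set G) :=
        commutator_le_of_dvd_card hx hC _ hncdvd
      rw [eq_top_iff]
      intro d _
      obtain ⟨m, hm, hmd⟩ := hnc (hle d.2)
      have : m = d := Subtype.ext hmd
      rw [← this]
      exact hm
    rw [hHM, hM'top]
    exact map_top_of_surjective _ (QuotientGroup.mk'_surjective _)
  · left
    have hsub : (M'.map (commutator G).subtype).IsSubnormal := by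
      refine IsSubnormal.step _ (commutator G) (map_subtype_le M')
        (Normal.isSubnormal inferInstance) ?_
      have : (M'.map (commutator G).subtype).subgroupOf (commutator G) = M' :=
        comap_map_eq_self_of_injective (subtype_injective _) M'
      rw [this]
      infer_instance
    have hcard : Nat.card (M'.map (commutator G).subtype) = Nat.card M' :=
      (Nat.card_congr (M'.equivMapOfInjective _ (subtype_injective _)).toEquiv).symm
    have hcop : (Nat.card (M'.map (commutator G).subtype)).Coprime p := by
      rw [hcard]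
      exact ((Nat.Prime.coprime_iff_not_dvd hp.out).mpr hdvd).symm
    have hle := Cfsg.Agent.Helper7.subnormal_coprime_le_pPrimeCore hsub hcop
    have hM'le : M' ≤ (Cfsg.pPrimeCore p G).subgroupOf (commutator G) := by
      intro m hm
      rw [mem_subgroupOf]
      exact hle ⟨m, hm, rfl⟩
    rw [hHM, eq_bot_iff, map_le_iff_le_comap, MonoidHom.comap_bot, QuotientGroup.ker_mk']
    exact hM'le

theorem commutator_eq_pPrimeCore_of_relIndex_eq_one (hx : orderOf x = p)
    (hC : centralizer ({x} : Set G) = zpowers x)
    (he : (zpowers x).relIndex (normalizer ((zpowers x : Subgroup G) : Set G)) = 1) :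
    commutator G = Cfsg.pPrimeCore p G := by
  apply le_antisymm _ (pPrimeCore_le_commutator hx hC)
  have hidx := index_commutator_eq_of_relIndex_eq_one hx hC he
  have hcard := (commutator G).card_mul_index
  rw [hidx] at hcard
  have hnd : ¬ p ∣ Nat.card (commutator G) := by
    intro hd
    have h2 : p ^ 2 ∣ Nat.card G := by
      rw [← hcard, pow_two]
      exact Nat.mul_dvd_mul hd dvd_rfl
    have h3 := (Nat.Prime.pow_dvd_iff_le_factorization hp.out Nat.card_pos.ne').mp h2
    rw [factorization_eq_one_of_selfCent hx hC] at h3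
    omega
  exact Cfsg.Agent.Helper7.le_pPrimeCore inferInstance
    ((Nat.Prime.coprime_iff_not_dvd hp.out).mpr hnd).symm

/-- **S4497** -/
theorem selfCent_commutator_core (hx : orderOf x = p)
    (hC : centralizer ({x} : Set G) = zpowers x) (t : ℕ)
    (ht : Nat.card {C : ConjClasses G // ∃ g ∈ C.carrier, orderOf g = p} = t) :
    Cfsg.pPrimeCore p G ≤ commutator G ∧
      (t ≠ p - 1 → ∀ h : ((Cfsg.pPrimeCore p G).subgroupOf (commutator G)).Normal,
        IsSimpleGroup (↥(commutator G) ⧸ (Cfsg.pPrimeCore p G).subgroupOf (commutator G))) ∧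
      (t = p - 1 → commutator G = Cfsg.pPrimeCore p G) := by
  have hte := card_classes_mul_relIndex hx hC
  rw [ht] at hte
  have hp1 : 0 < p - 1 := Nat.sub_pos_of_lt hp.out.one_lt
  refine ⟨pPrimeCore_le_commutator hx hC, ?_, ?_⟩
  · intro hne h
    have he : (zpowers x).relIndex (normalizer ((zpowers x : Subgroup G) : Set G)) ≠ 1 := by
      intro h1
      rw [h1, mul_one] at hte
      exact hne hte
    exact isSimpleGroup_commutator_quotient hx hC he h
  · intro heq
    have he : (zpowers x).relIndex (normalizer ((zpowers x : Subgroup G) : Set G)) = 1 := by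
      rw [heq] at hte
      have : (p - 1) * (zpowers x).relIndex (normalizer ((zpowers x : Subgroup G) : Set G))
          = (p - 1) * 1 := by rw [hte, mul_one]
      exact Nat.eq_of_mul_eq_mul_left hp1 this
    exact commutator_eq_pPrimeCore_of_relIndex_eq_one hx hC he

end Simple

end Cfsg.Agent.Helper8
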