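import Mathlib
import Cfsg.Prelude.Def_Solvable
import Cfsg.Agent.Helper8.SelfCentSimple

set_option autoImplicit false
set_option linter.style.haveILetI false
set_option linter.unusedSectionVars false
set_option linter.unusedVariables false

/-! # The derived series when `C_G(x) = ⟨x⟩` (Brauer) -/

namespace Cfsg.Agent.Helper8

open Subgroup
open scoped commutatorElement

universe u

section Derived

variable {G : Type u} [Group G] [Finite G]

/-- `|S N| = |S| |N|` for `S` normal with `S ∩ N = 1` -/
theorem card_sup_of_inf_eq_bot (S N : Subgroup G) [S.Normal] (h : S ⊓ N = ⊥) :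
    Nat.card (S ⊔ N : Subgroup G) = Nat.card S * Nat.card N := by
  have h1 : S.relIndex (S ⊔ N) = Nat.card N := by
    rw [relIndex_sup_left, ← inf_relIndex_right, h, relIndex_bot_left]
  have h2 : Nat.card S * S.relIndex (S ⊔ N) = Nat.card (S ⊔ N : Subgroup G) := by
    have := relIndex_mul_relIndex ⊥ S (S ⊔ N) bot_le le_sup_left
    rwa [relIndex_bot_left, relIndex_bot_left] at this
  rw [← h2, h1]

variable {p : ℕ} [hp : Fact p.Prime] {x : G}

theorem card_normalizer_eq (hx : orderOf x = p) :
    p * (zpowers x).relIndex (normalizer ((zpowers x : Subgroup G) : Set G))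
      = Nat.card (normalizer ((zpowers x : Subgroup G) : Set G)) := by
  have := relIndex_mul_relIndex ⊥ (zpowers x)
    (normalizer ((zpowers x : Subgroup G) : Set G)) bot_le le_normalizer
  rwa [relIndex_bot_left, relIndex_bot_left, Nat.card_zpowers, hx] at this

/-- case `N = P`: `|G'|` is the number of Sylow `p`-subgroups -/
theorem card_commutator_of_relIndex_eq_one (hx : orderOf x = p)
    (hC : centralizer ({x} : Set G) = zpowers x)
    (he : (zpowers x).relIndex (normalizer ((zpowers x : Subgroup G) : Set G)) = 1) :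
    Nat.card (commutator G) = (normalizer ((zpowers x : Subgroup G) : Set G)).index := by
  have hidx := index_commutator_eq_of_relIndex_eq_one hx hC he
  have h1 := (commutator G).card_mul_index
  have h2 := (normalizer ((zpowers x : Subgroup G) : Set G)).card_mul_index
  have h3 := card_normalizer_eq (G := G) hx
  rw [he, mul_one] at h3
  rw [hidx] at h1
  rw [← h3] at h2
  have : p * Nat.card (commutator G)
      = p * (normalizer ((zpowers x : Subgroup G) : Set G)).index := by
    rw [mul_comm, h1, h2]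
  exact Nat.eq_of_mul_eq_mul_left hp.out.pos this

theorem derived2_eq_pPrimeCore (hx : orderOf x = p)
    (hC : centralizer ({x} : Set G) = zpowers x)
    (he : (zpowers x).relIndex (normalizer ((zpowers x : Subgroup G) : Set G)) ≠ 1)
    (hne : ⁅commutator G, commutator G⁆ ≠ commutator G) :
    ⁅commutator G, commutator G⁆ = Cfsg.pPrimeCore p G := by
  apply le_antisymm
  · have hnd : ¬ p ∣ Nat.card (⁅commutator G, commutator G⁆ : Subgroup G) := by
      intro hd
      have := commutator_le_of_dvd_card hx hC ⁅commutator G, commutator G⁆ hd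
      exact hne (le_antisymm (Subgroup.commutator_le_self _) this)
    exact Cfsg.Agent.Helper7.le_pPrimeCore inferInstance
      ((Nat.Prime.coprime_iff_not_dvd hp.out).mpr hnd).symm
  · intro s hs
    obtain ⟨u, hu, hus⟩ :=
      exists_comm_eq hx hC (Cfsg.pPrimeCore p G) not_dvd_card_pPrimeCore s hs
    rw [← hus]
    exact commutator_mem_commutator (pPrimeCore_le_commutator hx hC hu)
      (zpowers_le_commutator_of_relIndex_ne_one hx hC he (mem_zpowers x))

theorem card_commutator_eq_mul (hx : orderOf x = p)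
    (hC : centralizer ({x} : Set G) = zpowers x)
    (he : (zpowers x).relIndex (normalizer ((zpowers x : Subgroup G) : Set G)) ≠ 1)
    (hne : ⁅commutator G, commutator G⁆ ≠ commutator G) :
    Nat.card (commutator G) = p * Nat.card (Cfsg.pPrimeCore p G) := by
  have hD2 := derived2_eq_pPrimeCore hx hC he hne
  have hSD : Cfsg.pPrimeCore p G ≤ commutator G := pPrimeCore_le_commutator hx hC
  have hxD : x ∈ commutator G :=
    zpowers_le_commutator_of_relIndex_ne_one hx hC he (mem_zpowers x)
  haveI hnorm : ((Cfsg.pPrimeCore p G).subgroupOf (commutator G)).Normal := inferInstance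
  have hsimple := isSimpleGroup_commutator_quotient hx hC he hnorm
  have hcomm : ∀ a b : ↥(commutator G) ⧸ (Cfsg.pPrimeCore p G).subgroupOf (commutator G),
      a * b = b * a := by
    intro a b
    obtain ⟨a, rfl⟩ := QuotientGroup.mk_surjective a
    obtain ⟨b, rfl⟩ := QuotientGroup.mk_surjective b
    have h1 : ⁅(a : G), (b : G)⁆ ∈ Cfsg.pPrimeCore p G :=
      hD2 ▸ commutator_mem_commutator a.2 b.2
    rw [← commutatorElement_eq_one_iff_mul_comm]
    have h2 : ⁅(QuotientGroup.mk a :
        ↥(commutator G) ⧸ (Cfsg.pPrimeCore p G).subgroupOf (commutator G)),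
        QuotientGroup.mk b⁆ = QuotientGroup.mk ⁅a, b⁆ :=
      (map_commutatorElement
        (QuotientGroup.mk' ((Cfsg.pPrimeCore p G).subgroupOf (commutator G))) a b).symm
    rw [h2, QuotientGroup.eq_one_iff, mem_subgroupOf]
    exact h1
  letI : CommGroup (↥(commutator G) ⧸ (Cfsg.pPrimeCore p G).subgroupOf (commutator G)) :=
    { (inferInstance : Group
        (↥(commutator G) ⧸ (Cfsg.pPrimeCore p G).subgroupOf (commutator G))) with
      mul_comm := hcomm }
  have hprime := IsSimpleGroup.prime_card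
    (α := ↥(commutator G) ⧸ (Cfsg.pPrimeCore p G).subgroupOf (commutator G))
  have hcardS : Nat.card ((Cfsg.pPrimeCore p G).subgroupOf (commutator G))
      = Nat.card (Cfsg.pPrimeCore p G) :=
    Nat.card_congr (subgroupOfEquivOfLe hSD).toEquiv
  have hx'o : orderOf (⟨x, hxD⟩ : commutator G) = p := by
    rw [← hx]
    exact Subgroup.orderOf_mk x hxD
  have hndS : ¬ p ∣ Nat.card ((Cfsg.pPrimeCore p G).subgroupOf (commutator G)) := by
    rw [hcardS]
    exact not_dvd_card_pPrimeCore
  have hxo := orderOf_mk_eq hx'o ((Cfsg.pPrimeCore p G).subgroupOf (commutator G)) hndS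
  have hdvd : p ∣ Nat.card
      (↥(commutator G) ⧸ (Cfsg.pPrimeCore p G).subgroupOf (commutator G)) := by
    have h := orderOf_dvd_natCard (QuotientGroup.mk (⟨x, hxD⟩ : commutator G) :
      ↥(commutator G) ⧸ (Cfsg.pPrimeCore p G).subgroupOf (commutator G))
    rwa [hxo] at h
  have hQ : Nat.card (↥(commutator G) ⧸ (Cfsg.pPrimeCore p G).subgroupOf (commutator G)) = p :=
    ((Nat.prime_dvd_prime_iff_eq hp.out hprime).mp hdvd).symm
  have := Subgroup.card_eq_card_quotient_mul_card_subgroup
    ((Cfsg.pPrimeCore p G).subgroupOf (commutator G))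
  rw [this, hQ, hcardS]

theorem card_pPrimeCore_eq_index (hx : orderOf x = p)
    (hC : centralizer ({x} : Set G) = zpowers x)
    (he : (zpowers x).relIndex (normalizer ((zpowers x : Subgroup G) : Set G)) ≠ 1)
    (hne : ⁅commutator G, commutator G⁆ ≠ commutator G) :
    Nat.card (Cfsg.pPrimeCore p G)
      = (normalizer ((zpowers x : Subgroup G) : Set G)).index := by
  have h1 := card_commutator_eq_mul hx hC he hne
  have h2 := (commutator G).card_mul_index
  have h3 := (normalizer ((zpowers x : Subgroup G) : Set G)).card_mul_index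
  have h4 := card_normalizer_eq (G := G) hx
  have h5 := index_commutator_dvd_relIndex hx hC he
  have h6 := card_dvd_card_subgroups hx hC (Cfsg.pPrimeCore p G) not_dvd_card_pPrimeCore
  rw [card_subgroups_eq_index_normalizer hx hC] at h6
  set a := Nat.card (Cfsg.pPrimeCore p G) with ha
  set b := (normalizer ((zpowers x : Subgroup G) : Set G)).index with hb
  set e := (zpowers x).relIndex (normalizer ((zpowers x : Subgroup G) : Set G)) with he'
  set i := (commutator G).index with hi
  have hbpos : 0 < b := Nat.pos_of_ne_zero (Subgroup.index_ne_zero_of_finite)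
  have hepos : 0 < e := by
    rcases Nat.eq_zero_or_pos e with h | h
    · have : Nat.card (normalizer ((zpowers x : Subgroup G) : Set G)) = 0 := by
        rw [← h4, h, mul_zero]
      exact absurd this Nat.card_pos.ne'
    · exact h
  have hapos : 0 < a := Nat.card_pos
  -- p * e * b = p * a * i
  have h7 : p * (e * b) = p * (a * i) := by
    calc p * (e * b) = (p * e) * b := by ring
      _ = Nat.card G := by rw [h4, h3]
      _ = p * a * i := by rw [← h2, h1]
      _ = p * (a * i) := by ring
  have h8 : e * b = a * i := Nat.eq_of_mul_eq_mul_left hp.out.pos h7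
  have hie : i ≤ e := Nat.le_of_dvd hepos h5
  have hab : a ≤ b := Nat.le_of_dvd hbpos h6
  have hba : b ≤ a := by
    have : e * b ≤ e * a := by
      rw [h8, mul_comm e a]
      exact Nat.mul_le_mul_left a hie
    exact Nat.le_of_mul_le_mul_left this hepos
  exact le_antisymm hab hba

omit hp in
theorem commutator_le_sup_of_sup_eq_top (S H K : Subgroup G) [S.Normal] (hSH : S ⊔ H = ⊤)
    (hK : ∀ h₁ ∈ H, ∀ h₂ ∈ H, ⁅h₁, h₂⁆ ∈ K) : commutator G ≤ S ⊔ K := by
  rw [commutator_def, commutator_le]
  intro a _ b _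
  have ha : a ∈ S ⊔ H := hSH ▸ mem_top a
  have hb : b ∈ S ⊔ H := hSH ▸ mem_top b
  obtain ⟨s₁, hs₁, h₁, hh₁, rfl⟩ := mem_sup_of_normal_left.mp ha
  obtain ⟨s₂, hs₂, h₂, hh₂, rfl⟩ := mem_sup_of_normal_left.mp hb
  have hk := hK h₁ hh₁ h₂ hh₂
  have e1 : QuotientGroup.mk' S s₁ = 1 := (QuotientGroup.eq_one_iff _).mpr hs₁
  have e2 : QuotientGroup.mk' S s₂ = 1 := (QuotientGroup.eq_one_iff _).mpr hs₂
  have h3 : QuotientGroup.mk' S ⁅s₁ * h₁, s₂ * h₂⁆ = QuotientGroup.mk' S ⁅h₁, h₂⁆ := by
    rw [map_commutatorElement, map_mul, map_mul, e1, e2, one_mul, one_mul,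
      ← map_commutatorElement]
  have h4 : ⁅h₁, h₂⁆⁻¹ * ⁅s₁ * h₁, s₂ * h₂⁆ ∈ S := QuotientGroup.eq.mp h3.symm
  have : ⁅s₁ * h₁, s₂ * h₂⁆ = ⁅h₁, h₂⁆ * (⁅h₁, h₂⁆⁻¹ * ⁅s₁ * h₁, s₂ * h₂⁆) := by group
  rw [this]
  exact mul_mem (mem_sup_right hk) (mem_sup_left h4)

theorem derived2_ne_of_normal_card (hx : orderOf x = p)
    (hC : centralizer ({x} : Set G) = zpowers x)
    (he : (zpowers x).relIndex (normalizer ((zpowers x : Subgroup G) : Set G)) ≠ 1)
    (S : Subgroup G) [hSn : S.Normal]
    (hS : Nat.card S = (normalizer ((zpowers x : Subgroup G) : Set G)).index)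
    (hSp : ¬ p ∣ Nat.card S) : ⁅commutator G, commutator G⁆ ≠ commutator G := by
  have hSO : S ≤ Cfsg.pPrimeCore p G := Cfsg.Agent.Helper7.le_pPrimeCore hSn
    ((Nat.Prime.coprime_iff_not_dvd hp.out).mpr hSp).symm
  have hOdvd : Nat.card (Cfsg.pPrimeCore p G)
      ∣ (normalizer ((zpowers x : Subgroup G) : Set G)).index := by
    have := card_dvd_card_subgroups hx hC (Cfsg.pPrimeCore p G) not_dvd_card_pPrimeCore
    rwa [card_subgroups_eq_index_normalizer hx hC] at this
  have hOle : Nat.card (Cfsg.pPrimeCore p G) ≤ Nat.card S := by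
    rw [hS]
    exact Nat.le_of_dvd (Nat.pos_of_ne_zero (Subgroup.index_ne_zero_of_finite)) hOdvd
  have hSeq : S = Cfsg.pPrimeCore p G := eq_of_le_of_card_ge hSO hOle
  have hOcard : Nat.card (Cfsg.pPrimeCore p G)
      = (normalizer ((zpowers x : Subgroup G) : Set G)).index := hSeq ▸ hS
  have hsup : Cfsg.pPrimeCore p G ⊔ normalizer ((zpowers x : Subgroup G) : Set G) = ⊤ := by
    apply eq_top_of_card_eq
    rw [card_sup_of_inf_eq_bot _ _
      (inf_normalizer_eq_bot hx hC (Cfsg.pPrimeCore p G) not_dvd_card_pPrimeCore), hOcard,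
      mul_comm, Subgroup.card_mul_index]
  have h1 : commutator G ≤ Cfsg.pPrimeCore p G ⊔ zpowers x :=
    commutator_le_sup_of_sup_eq_top _ _ (zpowers x) hsup
      (fun h₁ hh₁ h₂ hh₂ => hC ▸ commutatorElement_mem_centralizer_of_mem_normalizer x hh₁ hh₂)
  have h2 : ⁅commutator G, commutator G⁆ ≤ Cfsg.pPrimeCore p G := by
    refine (commutator_mono h1 h1).trans ?_
    rw [commutator_le]
    intro a ha b hb
    obtain ⟨s₁, hs₁, z₁, hz₁, rfl⟩ := mem_sup_of_normal_left.mp ha
    obtain ⟨s₂, hs₂, z₂, hz₂, rfl⟩ := mem_sup_of_normal_left.mp hb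
    have e1 : QuotientGroup.mk' (Cfsg.pPrimeCore p G) s₁ = 1 :=
      (QuotientGroup.eq_one_iff _).mpr hs₁
    have e2 : QuotientGroup.mk' (Cfsg.pPrimeCore p G) s₂ = 1 :=
      (QuotientGroup.eq_one_iff _).mpr hs₂
    have hz : ⁅z₁, z₂⁆ = 1 := by
      rw [commutatorElement_eq_one_iff_mul_comm]
      obtain ⟨i, rfl⟩ := mem_zpowers_iff.mp hz₁
      obtain ⟨j, rfl⟩ := mem_zpowers_iff.mp hz₂
      rw [← zpow_add, ← zpow_add, add_comm]
    rw [← QuotientGroup.eq_one_iff, ← QuotientGroup.mk'_apply, map_commutatorElement, map_mul,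
      map_mul, e1, e2, one_mul, one_mul, ← map_commutatorElement, hz, map_one]
  intro heq
  have hxD := zpowers_le_commutator_of_relIndex_ne_one hx hC he (mem_zpowers x)
  rw [← heq] at hxD
  have hxO := h2 hxD
  have : x ∈ Cfsg.pPrimeCore p G ⊓ zpowers x := ⟨hxO, mem_zpowers x⟩
  rw [inf_zpowers_eq_bot hx _ not_dvd_card_pPrimeCore, mem_bot] at this
  exact ne_one_of_orderOf_eq_prime hp.out hx this

/-- **S4509** -/
theorem selfCent_derived (hx : orderOf x = p)
    (hC : centralizer ({x} : Set G) = zpowers x) (t : ℕ)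
    (ht : Nat.card {C : ConjClasses G // ∃ g ∈ C.carrier, orderOf g = p} = t) (n : ℕ)
    (hn : Nat.card {H : Subgroup G // Nat.card H = p} = 1 + n * p) :
    ((∃ S : Subgroup G, S.Normal ∧ Nat.card S = 1 + n * p) ↔
      (t = p - 1 ∨ (t < p - 1 ∧ derivedSeries G 2 ≠ derivedSeries G 1))) ∧
    (t = p - 1 → Nat.card (commutator G) = 1 + n * p ∧ IsCyclic (G ⧸ commutator G) ∧
      (commutator G).index = p) ∧
    (t < p - 1 → derivedSeries G 2 ≠ derivedSeries G 1 →
      Nat.card (derivedSeries G 2) = 1 + n * p ∧ Nat.card (commutator G) = p * (1 + n * p)) := by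
  have hte := card_classes_mul_relIndex hx hC
  rw [ht] at hte
  have hidx : (normalizer ((zpowers x : Subgroup G) : Set G)).index = 1 + n * p := by
    rw [← card_subgroups_eq_index_normalizer hx hC, hn]
  have hp1 : 0 < p - 1 := Nat.sub_pos_of_lt hp.out.one_lt
  have he_of_eq : t = p - 1 →
      (zpowers x).relIndex (normalizer ((zpowers x : Subgroup G) : Set G)) = 1 := by
    intro heq
    rw [heq] at hte
    have : (p - 1) * (zpowers x).relIndex (normalizer ((zpowers x : Subgroup G) : Set G))
        = (p - 1) * 1 := by rw [hte, mul_one]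
    exact Nat.eq_of_mul_eq_mul_left hp1 this
  have he_of_ne : t ≠ p - 1 →
      (zpowers x).relIndex (normalizer ((zpowers x : Subgroup G) : Set G)) ≠ 1 := by
    intro hne h1
    rw [h1, mul_one] at hte
    exact hne hte
  have hlt_of_ne : t ≠ p - 1 → t < p - 1 := by
    intro hne
    have hepos : 0 < (zpowers x).relIndex (normalizer ((zpowers x : Subgroup G) : Set G)) := by
      rcases Nat.eq_zero_or_pos
        ((zpowers x).relIndex (normalizer ((zpowers x : Subgroup G) : Set G))) with h | h
      · rw [h, mul_zero] at hte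
        omega
      · exact h
    have : t ≤ t * (zpowers x).relIndex (normalizer ((zpowers x : Subgroup G) : Set G)) :=
      Nat.le_mul_of_pos_right t hepos
    rw [hte] at this
    exact lt_of_le_of_ne this hne
  have hB : t = p - 1 → Nat.card (commutator G) = 1 + n * p ∧ IsCyclic (G ⧸ commutator G) ∧
      (commutator G).index = p := by
    intro heq
    have he := he_of_eq heq
    have hi := index_commutator_eq_of_relIndex_eq_one hx hC he
    refine ⟨?_, ?_, hi⟩
    · rw [card_commutator_of_relIndex_eq_one hx hC he, hidx]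
    · apply isCyclic_of_prime_card (p := p)
      rw [← Subgroup.index_eq_card, hi]
  have hCc : t < p - 1 → derivedSeries G 2 ≠ derivedSeries G 1 →
      Nat.card (derivedSeries G 2) = 1 + n * p ∧ Nat.card (commutator G) = p * (1 + n * p) := by
    intro hlt hne
    have he := he_of_ne hlt.ne
    have hne' : ⁅commutator G, commutator G⁆ ≠ commutator G := hne
    have h1 := derived2_eq_pPrimeCore hx hC he hne'
    have h2 := card_pPrimeCore_eq_index hx hC he hne'
    have h3 := card_commutator_eq_mul hx hC he hne'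
    constructor
    · show Nat.card (⁅commutator G, commutator G⁆ : Subgroup G) = 1 + n * p
      rw [h1, h2, hidx]
    · rw [h3, h2, hidx]
  refine ⟨⟨?_, ?_⟩, hB, hCc⟩
  · rintro ⟨S, hSn, hScard⟩
    by_cases heq : t = p - 1
    · exact Or.inl heq
    · right
      refine ⟨hlt_of_ne heq, ?_⟩
      have hSp : ¬ p ∣ Nat.card S := by
        rw [hScard]
        intro hd
        have : p ∣ 1 := (Nat.dvd_add_left (Dvd.intro_left n rfl)).mp hd
        exact hp.out.one_lt.ne' (Nat.dvd_one.mp this)
      haveI := hSn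
      exact derived2_ne_of_normal_card hx hC (he_of_ne heq) S (hScard.trans hidx.symm) hSp
  · rintro (heq | ⟨hlt, hne⟩)
    · exact ⟨commutator G, inferInstance, (hB heq).1⟩
    · exact ⟨derivedSeries G 2, derivedSeries_normal G 2, (hCc hlt hne).1⟩

end Derived

end Cfsg.Agent.Helper8
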