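import Mathlib
import Cfsg.Agent.Helper5.HHModF

/-!
# Hall–Higman module machinery for an automorphism of arbitrary finite order acting semiregularly
(piece P1 for the Gross–Shult theorem S3793)

Generalisation of `Cfsg.Agent.Helper5.HHMod.{card_orbits_zpowers, finrank_commutant_le, eigen_or_eq,
fixed_or_eq}` from `σ` of prime order to `σ ^ P = 1`, `1 < P`, every `σ ^ i` (`0 < i < P`)
fixed-point-free on `Q ⧸ Z`.
-/

set_option autoImplicit false

universe u v w

namespace Cfsg.Agent.Helper8.ShultHH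

open Module Cfsg.Agent.Helper5 Cfsg.Agent.Helper5.HHMod

variable {K : Type u} [Field K] [IsAlgClosed K] {Y : Type v} [AddCommGroup Y] [Module K Y]
  [FiniteDimensional K Y] [Nontrivial Y]
variable {Q : Type w} [Group Q] [Finite Q] {ρ : Representation K Q Y} {Z : Subgroup Q}

omit [Finite Q] in
/-- under semiregularity the order of `σ` is exactly `P` -/
theorem orderOf_eq (hZtop : Z ≠ ⊤) (σ : MulAut Q) (P : ℕ) (hP : 1 < P) (hσP : σ ^ P = 1)
    (hfpf : ∀ i, 0 < i → i < P → ∀ k, (σ ^ i) k * k⁻¹ ∈ Z → k ∈ Z) : orderOf σ = P := by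
  have hdvd : orderOf σ ∣ P := orderOf_dvd_of_pow_eq_one hσP
  have hpos : 0 < orderOf σ := by
    apply Nat.pos_of_ne_zero
    intro h0
    rw [h0, zero_dvd_iff] at hdvd
    omega
  have hle : orderOf σ ≤ P := Nat.le_of_dvd (by omega) hdvd
  rcases lt_or_eq_of_le hle with hlt | heq
  · exfalso
    apply hZtop
    rw [eq_top_iff]
    intro k _
    apply hfpf (orderOf σ) hpos hlt
    rw [pow_orderOf_eq_one, MulAut.one_apply, mul_inv_cancel]
    exact Z.one_mem
  · exact heq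

theorem card_orbits_zpowers (H : Heis ρ Z) (hZtop : Z ≠ ⊤) (σ : MulAut Q) (P : ℕ) (hP : 1 < P)
    (hσP : σ ^ P = 1) (hσZ : ∀ z ∈ Z, σ z = z)
    (hfpf : ∀ i, 0 < i → i < P → ∀ k, (σ ^ i) k * k⁻¹ ∈ Z → k ∈ Z) :
    letI := quotientAction_zpowers σ Z hσZ
    Nat.card (Quotient (MulAction.orbitRel ↥(Subgroup.zpowers σ) (Q ⧸ Z))) * P = Z.index + (P - 1) := by
  letI := quotientAction_zpowers σ Z hσZ
  have hord := orderOf_eq hZtop σ P hP hσP hfpf
  have hS : Nat.card ↥(Subgroup.zpowers σ) = P := by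
    rw [Nat.card_zpowers, hord]
  have hfix : ∀ s : ↥(Subgroup.zpowers σ), s ≠ 1 → ∀ e : Q ⧸ Z, s • e = e ↔ e = QuotientGroup.mk 1 := by
    intro s hs e
    constructor
    · intro he
      -- s = σ ^ i with 0 < i < P
      obtain ⟨i, hi⟩ : ∃ i : ℕ, i < P ∧ σ ^ i = (s : MulAut Q) := by
        have hmem := s.2
        rw [Subgroup.mem_zpowers_iff] at hmem
        obtain ⟨n, hn⟩ := hmem
        refine ⟨(n % (P : ℤ)).toNat, ?_, ?_⟩
        · have h1 : 0 ≤ n % (P : ℤ) := Int.emod_nonneg _ (by exact_mod_cast (by omega : P ≠ 0))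
          have h2 : n % (P : ℤ) < P := Int.emod_lt_of_pos _ (by exact_mod_cast (by omega : 0 < P))
          omega
        · have h1 : 0 ≤ n % (P : ℤ) := Int.emod_nonneg _ (by exact_mod_cast (by omega : P ≠ 0))
          rw [← zpow_natCast, Int.toNat_of_nonneg h1, ← hn, ← hord, zpow_mod_orderOf]
      obtain ⟨hiP, hiσ⟩ := hi
      have hi0 : 0 < i := by
        apply Nat.pos_of_ne_zero
        intro h0
        apply hs
        apply Subtype.ext
        rw [← hiσ, h0, pow_zero]; rfl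
      induction e using QuotientGroup.induction_on with
      | H k =>
        rw [MulAction.Quotient.smul_mk] at he
        have h2 : ((s : MulAut Q) k)⁻¹ * k ∈ Z := (QuotientGroup.eq (s := Z)).mp he
        rw [← hiσ] at h2
        have h3 : (σ ^ i) k * k⁻¹ = (((σ ^ i) k)⁻¹ * k)⁻¹ := by
          have hc := H.central h2
          rw [Subgroup.mem_center_iff] at hc
          have := hc ((σ ^ i) k)
          rw [mul_inv_rev, inv_inv]
          have h4 : k = ((σ ^ i) k)⁻¹ * k * (σ ^ i) k := by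
            rw [← this, mul_inv_cancel_left]
          calc (σ ^ i) k * k⁻¹ = (σ ^ i) k * (((σ ^ i) k)⁻¹ * k * (σ ^ i) k)⁻¹ := by rw [← h4]
            _ = k⁻¹ * (σ ^ i) k := by group
        have h5 : k ∈ Z := hfpf i hi0 hiP k (by rw [h3]; exact Z.inv_mem h2)
        apply (QuotientGroup.eq (s := Z)).mpr
        rw [mul_one]
        exact Z.inv_mem h5
    · rintro rfl
      rw [MulAction.Quotient.smul_mk]
      congr 1
      exact map_one (s : MulAut Q)
  have := card_orbits_mul (S := ↥(Subgroup.zpowers σ)) (Ω0 := Q ⧸ Z) P hS (QuotientGroup.mk 1) hfix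
  rw [this]
  rfl

theorem finrank_commutant_le (H : Heis ρ Z) (hZtop : Z ≠ ⊤) (σ : MulAut Q) (P : ℕ) (hP : 1 < P)
    (hPK : (P : K) ≠ 0) (hσP : σ ^ P = 1) (hσZ : ∀ z ∈ Z, σ z = z)
    (hfpf : ∀ i, 0 < i → i < P → ∀ k, (σ ^ i) k * k⁻¹ ∈ Z → k ∈ Z)
    (T T' : Module.End K Y) (hT : ∀ g, T * ρ g = ρ (σ g) * T) (hTT' : T * T' = 1) :
    finrank K (commutant T) * P ≤ Z.index + (P - 1) := by
  classical
  letI := quotientAction_zpowers σ Z hσZ
  rw [← card_orbits_zpowers H hZtop σ P hP hσP hσZ hfpf]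
  refine Nat.mul_le_mul_right P ?_
  have : Fintype (Quotient (MulAction.orbitRel ↥(Subgroup.zpowers σ) (Q ⧸ Z))) := Fintype.ofFinite _
  rw [Nat.card_eq_fintype_card]
  let v : Quotient (MulAction.orbitRel ↥(Subgroup.zpowers σ) (Q ⧸ Z)) → Module.End K Y :=
    fun ω => orbSum ρ σ P (Quotient.out (Quotient.out ω : Q ⧸ Z))
  have hk : ∀ k : Q, orbSum ρ σ P k ∈ Submodule.span K (Set.range v) := by
    intro k
    set ω : Quotient (MulAction.orbitRel ↥(Subgroup.zpowers σ) (Q ⧸ Z)) :=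
      Quotient.mk'' (QuotientGroup.mk k : Q ⧸ Z) with hω
    have h1 : (Quotient.out ω : Q ⧸ Z) ∈ MulAction.orbit ↥(Subgroup.zpowers σ) (QuotientGroup.mk k : Q ⧸ Z) := by
      have : Quotient.mk'' (Quotient.out ω) = ω := Quotient.out_eq' ω
      rw [hω] at this
      exact Quotient.exact' this
    obtain ⟨s, hs⟩ := h1
    simp only at hs
    rw [MulAction.Quotient.smul_mk] at hs
    have h2 : (Quotient.out (Quotient.out ω : Q ⧸ Z))⁻¹ * (s : MulAut Q) k ∈ Z := by
      apply (QuotientGroup.eq (s := Z)).mp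
      rw [QuotientGroup.out_eq']
      exact hs.symm
    obtain ⟨c, hc⟩ := orbSum_mul_mem H σ P hσZ (Quotient.out (Quotient.out ω : Q ⧸ Z)) h2
    rw [mul_inv_cancel_left, orbSum_of_mem_zpowers ρ σ P hσP s.2] at hc
    rw [hc]
    exact Submodule.smul_mem _ _ (Submodule.subset_span ⟨ω, rfl⟩)
  have hle : commutant T ≤ Submodule.span K (Set.range v) := by
    intro f hf
    have h1 : f = (P : K)⁻¹ • avg T T' P f := by
      rw [avg_of_mem_commutant hTT' P hf, smul_smul, inv_mul_cancel₀ hPK, one_smul]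
    rw [h1]
    refine Submodule.smul_mem _ _ ?_
    have h2 : f ∈ Submodule.span K (Set.range ρ) := by rw [H.span_top]; trivial
    have h3 : avg T T' P f ∈ Submodule.map (avg T T' P) (Submodule.span K (Set.range ρ)) :=
      Submodule.mem_map_of_mem h2
    rw [Submodule.map_span] at h3
    refine (Submodule.span_le.mpr ?_) h3
    rintro _ ⟨_, ⟨k, rfl⟩, rfl⟩
    rw [avg_rho ρ σ hT hTT']
    exact hk k
  exact (Submodule.finrank_mono hle).trans (finrank_range_le_card v)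

/-- every `P`-th root of unity is an eigenvalue of the twisting operator, unless `P = dim Y + 1` -/
theorem eigen_or_eq (H : Heis ρ Z) (hZtop : Z ≠ ⊤) (σ : MulAut Q) (P : ℕ) (hP : 1 < P)
    (hPK : (P : K) ≠ 0) (hσP : σ ^ P = 1) (hσZ : ∀ z ∈ Z, σ z = z)
    (hfpf : ∀ i, 0 < i → i < P → ∀ k, (σ ^ i) k * k⁻¹ ∈ Z → k ∈ Z)
    (T : Module.End K Y) (hT : ∀ g, T * ρ g = ρ (σ g) * T) (hTP : T ^ P = 1) (β : K) (hβ : β ^ P = 1) :
    (∃ y : Y, y ≠ 0 ∧ T y = β • y) ∨ P = finrank K Y + 1 := by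
  classical
  have hP1 : 1 ≤ P := by omega
  have hP0 : 0 < P := by omega
  have hTT' : T * T ^ (P - 1) = 1 := by
    rw [← pow_succ', Nat.sub_add_cancel hP1, hTP]
  obtain ⟨ι, hι, b, d, hd⟩ := exists_eigenbasis T P hPK hTP
  have hN : finrank K Y = Fintype.card ι := Module.finrank_eq_card_basis b
  have hdr : ∀ i, d i ^ P = 1 := by
    intro i
    have h1 : ∀ n : ℕ, (T ^ n) (b i) = d i ^ n • b i := by
      intro n
      induction n with
      | zero => simp
      | succ n ih => rw [pow_succ', Module.End.mul_apply, ih, map_smul, hd, smul_smul, pow_succ]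
    have h2 := h1 P
    rw [hTP, Module.End.one_apply] at h2
    have h3 : (d i ^ P - 1) • b i = 0 := by rw [sub_smul, ← h2, one_smul, sub_self]
    rcases smul_eq_zero.mp h3 with h | h
    · exact sub_eq_zero.mp h
    · exact absurd h (b.ne_zero i)
  have hdS : ∀ i, d i ∈ Polynomial.nthRootsFinset P (1 : K) := fun i =>
    (Polynomial.mem_nthRootsFinset hP0 1).mpr (hdr i)
  have hScard : (Polynomial.nthRootsFinset P (1 : K)).card ≤ P := by
    rw [Polynomial.nthRootsFinset_def]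
    exact (Multiset.toFinset_card_le _).trans (Polynomial.card_nthRoots P 1)
  have hsq := H.finrank_sq
  have hidx : 2 ≤ Z.index := by
    have h1 : Z.index ≠ 1 := fun h => hZtop (Subgroup.index_eq_one.mp h)
    have h0 : Z.index ≠ 0 := Subgroup.index_ne_zero_of_finite
    omega
  have hN2 : 2 ≤ Fintype.card ι := by
    rw [← hN]
    by_contra hcon
    push Not at hcon
    have : finrank K Y ^ 2 ≤ 1 := by
      have : finrank K Y ≤ 1 := by omega
      calc finrank K Y ^ 2 ≤ 1 ^ 2 := Nat.pow_le_pow_left this 2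
        _ = 1 := by norm_num
    omega
  have ht : Fintype.card {p : ι × ι // d p.1 = d p.2} ≤ finrank K (commutant T) := by
    rw [← Nat.card_eq_fintype_card]
    exact card_le_finrank_commutant b T d hd
  have hbound := finrank_commutant_le H hZtop σ P hP hPK hσP hσZ hfpf T (T ^ (P - 1)) hT hTT'
  have hrt : P * finrank K (commutant T) ≤ Fintype.card ι ^ 2 + P - 1 := by
    rw [← hN, hsq, mul_comm]
    omega
  obtain ⟨_, h2⟩ := arith_core d (Polynomial.nthRootsFinset P (1 : K)) hdS P hScard hN2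
    (finrank K (commutant T)) ht hrt
  by_cases hex : ∃ i, d i = β
  · obtain ⟨i, hi⟩ := hex
    left
    exact ⟨b i, b.ne_zero i, by rw [hd, hi]⟩
  · right
    push Not at hex
    rw [hN]
    exact h2 β ((Polynomial.mem_nthRootsFinset hP0 1).mpr hβ) hex

/-- **Generalised `HHMod.fixed_or_eq`**: `x` of order dividing `P` inducing the semiregular
automorphism `σ` has a nonzero fixed vector on the ambient module, or `P = dim Y + 1`. -/
theorem fixed_or_eq {A : Type*} [Group A] {M : Type*} [AddCommGroup M] [Module K M] [FiniteDimensional K M]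
    (ρA : Representation K A M) (H : Heis ρ Z) (hZtop : Z ≠ ⊤) (σ : MulAut Q) (P : ℕ) (hP : 1 < P)
    (hPK : (P : K) ≠ 0) (hσP : σ ^ P = 1) (hσZ : ∀ z ∈ Z, σ z = z)
    (hfpf : ∀ i, 0 < i → i < P → ∀ k, (σ ^ i) k * k⁻¹ ∈ Z → k ∈ Z)
    (j : Q →* A) (x : A) (hx : ∀ g, x * j g * x⁻¹ = j (σ g)) (hxP : x ^ P = 1)
    (ι : Y →ₗ[K] M) (hι0 : ι ≠ 0) (hι : ∀ g, ρA (j g) ∘ₗ ι = ι ∘ₗ ρ g) :
    (∃ m : M, m ≠ 0 ∧ ρA x m = m) ∨ P = finrank K Y + 1 := by
  classical
  have hP1 : 1 ≤ P := by omega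
  have hfpf1 : ∀ k, σ k * k⁻¹ ∈ Z → k ∈ Z := by
    intro k hk
    apply hfpf 1 Nat.one_pos hP k
    rwa [pow_one]
  obtain ⟨T, hT, hTr⟩ := exists_twist H σ P (by omega) hσP hσZ hfpf1
  -- the space of equivariant maps
  let W : Submodule K (Y →ₗ[K] M) :=
    { carrier := {φ | ∀ g, ρA (j g) ∘ₗ φ = φ ∘ₗ ρ g}
      add_mem' := fun {a b} ha hb g => by
        rw [LinearMap.comp_add, LinearMap.add_comp, ha g, hb g]
      zero_mem' := fun g => by simp
      smul_mem' := fun c a ha g => by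
        rw [LinearMap.comp_smul, LinearMap.smul_comp, ha g] }
  have hxinv : ∀ g, ρA x⁻¹ ∘ₗ ρA (j (σ g)) = ρA (j g) ∘ₗ ρA x⁻¹ := by
    intro g
    show ρA x⁻¹ * ρA (j (σ g)) = ρA (j g) * ρA x⁻¹
    rw [← map_mul, ← map_mul, ← hx g]
    congr 1
    group
  let B0 : (Y →ₗ[K] M) →ₗ[K] (Y →ₗ[K] M) :=
    { toFun := fun φ => ρA x⁻¹ ∘ₗ φ ∘ₗ T
      map_add' := fun a b => by
        rw [LinearMap.add_comp, LinearMap.comp_add]
      map_smul' := fun c a => by
        rw [LinearMap.smul_comp, LinearMap.comp_smul]; rfl }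
  have hB0 : ∀ φ ∈ W, B0 φ ∈ W := by
    intro φ hφ g
    show ρA (j g) ∘ₗ (ρA x⁻¹ ∘ₗ φ ∘ₗ T) = (ρA x⁻¹ ∘ₗ φ ∘ₗ T) ∘ₗ ρ g
    have hTg : T ∘ₗ ρ g = ρ (σ g) ∘ₗ T := hT g
    rw [← LinearMap.comp_assoc, ← hxinv g, LinearMap.comp_assoc, ← LinearMap.comp_assoc _ φ, hφ (σ g),
      LinearMap.comp_assoc, LinearMap.comp_assoc, LinearMap.comp_assoc, hTg]
  let B : Module.End K W := B0.restrict hB0
  have hιW : ι ∈ W := hι
  haveI : Nontrivial W := ⟨⟨⟨ι, hιW⟩, 0, fun h => hι0 (congrArg Subtype.val h)⟩⟩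
  obtain ⟨lam, hlam⟩ := Module.End.exists_eigenvalue B
  obtain ⟨φ', hφ'⟩ := hlam.exists_hasEigenvector
  have hφ'0 : φ' ≠ 0 := hφ'.2
  have hφ'e : B φ' = lam • φ' := hφ'.apply_eq_smul
  set φ : Y →ₗ[K] M := φ'.1 with hφdef
  have hφW : ∀ g, ρA (j g) ∘ₗ φ = φ ∘ₗ ρ g := φ'.2
  have hφ0 : φ ≠ 0 := fun h => hφ'0 (Subtype.ext h)
  have hφe : ρA x⁻¹ ∘ₗ φ ∘ₗ T = lam • φ := by
    have := congrArg Subtype.val hφ'e
    exact this
  -- `T` is invertible
  have hTT' : T * T ^ (P - 1) = 1 := by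
    rw [← pow_succ', Nat.sub_add_cancel hP1, hTr]
  have hT'T : T ^ (P - 1) * T = 1 := by
    rw [← pow_succ, Nat.sub_add_cancel hP1, hTr]
  have hlam0 : lam ≠ 0 := by
    intro h0
    rw [h0, zero_smul] at hφe
    apply hφ0
    have h1 : ρA x ∘ₗ (ρA x⁻¹ ∘ₗ φ ∘ₗ T) ∘ₗ T ^ (P - 1) = 0 := by rw [hφe]; simp
    have h2 : ρA x ∘ₗ (ρA x⁻¹ ∘ₗ φ ∘ₗ T) ∘ₗ T ^ (P - 1) = φ := by
      ext y
      simp only [LinearMap.comp_apply]
      have h3 : T ((T ^ (P - 1)) y) = y := by
        rw [← Module.End.mul_apply, hTT', Module.End.one_apply]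
      rw [h3, ← Module.End.mul_apply, ← map_mul, mul_inv_cancel, map_one, Module.End.one_apply]
    rw [← h2, h1]
  -- `φ` is injective
  have hφinj : Function.Injective φ := by
    rw [← LinearMap.ker_eq_bot]
    rcases H.irr (LinearMap.ker φ) (fun u y hy => by
      rw [LinearMap.mem_ker] at hy ⊢
      have := congrArg (fun f : Y →ₗ[K] M => f y) (hφW u)
      simp only [LinearMap.comp_apply] at this
      rw [← this, hy, map_zero]) with h | h
    · exact h
    · exact absurd (LinearMap.ker_eq_top.mp h) hφ0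
  -- the rescaled operator
  set T1 : Module.End K Y := lam⁻¹ • T with hT1
  have hφT1 : φ ∘ₗ T1 = ρA x ∘ₗ φ := by
    have h1 : ρA x ∘ₗ (ρA x⁻¹ ∘ₗ φ ∘ₗ T) = φ ∘ₗ T := by
      ext y
      simp only [LinearMap.comp_apply]
      rw [← Module.End.mul_apply, ← map_mul, mul_inv_cancel, map_one, Module.End.one_apply]
    rw [hφe, LinearMap.comp_smul] at h1
    rw [hT1, LinearMap.comp_smul, ← h1, smul_smul, inv_mul_cancel₀ hlam0, one_smul]
  have hφT1pow : ∀ n : ℕ, φ ∘ₗ (T1 ^ n) = ρA (x ^ n) ∘ₗ φ := by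
    intro n
    induction n with
    | zero =>
      ext y
      simp
    | succ n ih =>
      have e1 : T1 ^ (n + 1) = T1 ^ n * T1 := pow_succ _ _
      have e2 : φ ∘ₗ (T1 ^ n * T1) = (φ ∘ₗ T1 ^ n) ∘ₗ T1 := rfl
      rw [e1, e2, ih, LinearMap.comp_assoc, hφT1, ← LinearMap.comp_assoc, pow_succ, map_mul]
      rfl
  have hT1r : T1 ^ P = 1 := by
    have h1 := hφT1pow P
    rw [hxP, map_one] at h1
    ext y
    apply hφinj
    have := congrArg (fun f : Y →ₗ[K] M => f y) h1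
    simpa using this
  have hT1 : ∀ g, T1 * ρ g = ρ (σ g) * T1 := by
    intro g
    rw [hT1, smul_mul_assoc, hT, mul_smul_comm]
  rcases eigen_or_eq H hZtop σ P hP hPK hσP hσZ hfpf T1 hT1 hT1r 1 (one_pow P) with h | h
  · left
    obtain ⟨y, hy0, hy⟩ := h
    refine ⟨φ y, fun h0 => hy0 (hφinj (by rw [h0, map_zero])), ?_⟩
    have := congrArg (fun f : Y →ₗ[K] M => f y) hφT1
    simp only [LinearMap.comp_apply] at this
    rw [← this, hy, one_smul]
  · right
    exact h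

end Cfsg.Agent.Helper8.ShultHH
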