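import Mathlib
import Cfsg.Agent.Helper9.ShultA

/-!
# Existence of the twisting operator for a Heisenberg representation, in general
(Stone–von Neumann via Skolem–Noether): no fixed-point-freeness needed.
-/

set_option autoImplicit false
set_option linter.style.haveILetI false
set_option linter.unusedSectionVars false

universe u v w

namespace Cfsg.Agent.Helper8.ShultKp

open Module Cfsg.Agent.Helper5 Cfsg.Agent.Helper5.HHMod Cfsg.Agent.Helper9.Shult

variable {K : Type u} [Field K] [IsAlgClosed K] {Y : Type v} [AddCommGroup Y] [Module K Y]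
  [FiniteDimensional K Y] [Nontrivial Y]
variable {Q : Type w} [Group Q] [Finite Q] {ρ : Representation K Q Y} {Z : Subgroup Q}

/-- the linear map of `End K Y` sending `ρ k` to `ρ (σ k)` -/
theorem exists_theta (H : Heis ρ Z) (σ : MulAut Q) (hσρ : ∀ z ∈ Z, ρ (σ z) = ρ z) :
    ∃ Θ : Module.End K Y →ₗ[K] Module.End K Y, ∀ k, Θ (ρ k) = ρ (σ k) := by
  classical
  have : Fintype (Q ⧸ Z) := Fintype.ofFinite _
  let b : Basis (Q ⧸ Z) K (Module.End K Y) := Basis.mk H.linearIndependent_out (by rw [H.span_out])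
  have hb : ∀ e, b e = ρ (Quotient.out e) := fun e => by
    simp [b]
  refine ⟨b.constr K (fun e => ρ (σ (Quotient.out e))), ?_⟩
  intro k
  set e : Q ⧸ Z := QuotientGroup.mk k with he
  have hz : (Quotient.out e)⁻¹ * k ∈ Z := by
    apply (QuotientGroup.eq (s := Z)).mp
    rw [QuotientGroup.out_eq']
  obtain ⟨c, hc⟩ := H.scalar _ hz
  have hk : k = Quotient.out e * ((Quotient.out e)⁻¹ * k) := by group
  have h1 : ρ k = c • ρ (Quotient.out e) := by
    conv_lhs => rw [hk, map_mul, hc]
    simp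
  have h2 : ρ (σ k) = c • ρ (σ (Quotient.out e)) := by
    conv_lhs => rw [hk, map_mul, map_mul, hσρ _ hz, hc]
    simp
  rw [h1, map_smul, ← hb, Basis.constr_basis, h2]

/-- the twisting operator exists for every automorphism stabilising `Z` and fixing it modulo the
kernel of `ρ` -/
theorem exists_twist_gen (H : Heis ρ Z) (σ : MulAut Q) (hσρ : ∀ z ∈ Z, ρ (σ z) = ρ z) :
    ∃ T T' : Module.End K Y, T * T' = 1 ∧ T' * T = 1 ∧ ∀ g, T * ρ g = ρ (σ g) * T := by
  classical
  obtain ⟨Θ, hΘ⟩ := exists_theta H σ hσρ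
  have hspan := H.span_top
  have hmul1 : ∀ l : Q, ∀ f : Module.End K Y, Θ (f * ρ l) = Θ f * Θ (ρ l) := by
    intro l
    have : (Θ ∘ₗ LinearMap.mulRight K (ρ l)) = (LinearMap.mulRight K (Θ (ρ l)) ∘ₗ Θ) := by
      apply LinearMap.ext_on hspan
      rintro _ ⟨k, rfl⟩
      simp only [LinearMap.comp_apply, LinearMap.mulRight_apply]
      rw [← map_mul, hΘ, hΘ, hΘ, map_mul, map_mul]
    intro f
    have := congrArg (fun L : Module.End K Y →ₗ[K] Module.End K Y => L f) this
    simpa using this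
  have hmul : ∀ f g : Module.End K Y, Θ (f * g) = Θ f * Θ g := by
    intro f
    have : (Θ ∘ₗ LinearMap.mulLeft K f) = (LinearMap.mulLeft K (Θ f) ∘ₗ Θ) := by
      apply LinearMap.ext_on hspan
      rintro _ ⟨l, rfl⟩
      simp only [LinearMap.comp_apply, LinearMap.mulLeft_apply]
      exact hmul1 l f
    intro g
    have := congrArg (fun L : Module.End K Y →ₗ[K] Module.End K Y => L g) this
    simpa using this
  have hone : Θ 1 = 1 := by
    have h1 : (1 : Module.End K Y) = ρ 1 := (map_one ρ).symm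
    rw [h1, hΘ, map_one, map_one]
  have hsurj : Function.Surjective Θ := by
    rw [← LinearMap.range_eq_top, eq_top_iff, ← hspan, Submodule.span_le]
    rintro _ ⟨k, rfl⟩
    exact ⟨ρ (σ.symm k), by rw [hΘ, MulEquiv.apply_symm_apply]⟩
  have hinj : Function.Injective Θ := LinearMap.injective_iff_surjective.mpr hsurj
  let Θa : Module.End K Y →ₐ[K] Module.End K Y := AlgHom.ofLinearMap Θ hone hmul
  let Θe : Module.End K Y ≃ₐ[K] Module.End K Y := AlgEquiv.ofBijective Θa ⟨hinj, hsurj⟩
  obtain ⟨T, hT⟩ := Θe.eq_linearEquivConjAlgEquiv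
  refine ⟨T.toLinearMap, T.symm.toLinearMap, ?_, ?_, ?_⟩
  · ext y; simp
  · ext y; simp
  · intro g
    have h1 : Θe (ρ g) = ρ (σ g) := hΘ g
    rw [hT, LinearEquiv.conjAlgEquiv_apply] at h1
    rw [← h1]
    ext y
    simp

end Cfsg.Agent.Helper8.ShultKp
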