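import Mathlib
import Cfsg.Agent.Helper9.ShultA
import Cfsg.Agent.Helper8.ShultTw

/-!
# Counting lemma (K') for S3795: Heisenberg counting for a twisting operator of finite order
whose automorphism is NOT assumed semiregular on `Q ⧸ Z`.
-/

set_option autoImplicit false
set_option linter.style.haveILetI false
set_option linter.unusedSectionVars false

universe u v w

namespace Cfsg.Agent.Helper8.ShultKp

open Module Cfsg.Agent.Helper5 Cfsg.Agent.Helper5.HHMod Cfsg.Agent.Helper9.Shult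

/-- Cauchy–Schwarz: if some value of `S` is missed then `N² ≤ (r-1) t` -/
theorem arith_miss {ι κ : Type*} [Fintype ι] [DecidableEq ι] [DecidableEq κ] (d : ι → κ) (S : Finset κ)
    (hd : ∀ i, d i ∈ S) (r : ℕ) (hS : S.card ≤ r) (t : ℕ)
    (ht : Fintype.card {p : ι × ι // d p.1 = d p.2} ≤ t)
    (β : κ) (hβ : β ∈ S) (hmiss : ∀ i, d i ≠ β) :
    Fintype.card ι ^ 2 ≤ (r - 1) * t := by
  classical
  set N := Fintype.card ι with hNdef
  set m : κ → ℕ := fun α => (Finset.univ.filter fun i => d i = α).card with hm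
  have hsum : N = ∑ α ∈ S, m α := card_eq_sum_fibers d S hd
  have hsq : Fintype.card {p : ι × ι // d p.1 = d p.2} = ∑ α ∈ S, m α ^ 2 := card_pairs_eq d S hd
  have hr : 1 ≤ r := le_trans (Finset.card_pos.mpr ⟨β, hβ⟩) hS
  have hmβ : m β = 0 := by
    rw [hm]
    simp only [Finset.card_eq_zero, Finset.filter_eq_empty_iff, Finset.mem_univ, true_implies]
    exact hmiss
  have hsum' : N = ∑ α ∈ S.erase β, m α := by
    rw [hsum, ← Finset.add_sum_erase S m hβ, hmβ, zero_add]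
  have hsq' : ∑ α ∈ S, m α ^ 2 = ∑ α ∈ S.erase β, m α ^ 2 := by
    rw [← Finset.add_sum_erase S (fun α => m α ^ 2) hβ, hmβ]
    simp
  have hCS : ((∑ α ∈ S.erase β, (m α : ℤ)) ^ 2) ≤ ((S.erase β).card : ℤ) * ∑ α ∈ S.erase β, (m α : ℤ) ^ 2 :=
    sq_sum_le_card_mul_sum_sq
  have hcard : ((S.erase β).card : ℤ) ≤ r - 1 := by
    rw [Finset.card_erase_of_mem hβ]
    have : S.card - 1 ≤ r - 1 := Nat.sub_le_sub_right hS 1
    have h2 : ((S.card - 1 : ℕ) : ℤ) ≤ ((r - 1 : ℕ) : ℤ) := by exact_mod_cast this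
    rw [Nat.cast_sub hr] at h2
    simpa using h2
  have hsumZ : (N : ℤ) = ∑ α ∈ S.erase β, (m α : ℤ) := by
    rw [hsum']; push_cast; rfl
  have htZ : (∑ α ∈ S.erase β, (m α : ℤ) ^ 2) ≤ t := by
    have : ∑ α ∈ S.erase β, m α ^ 2 ≤ t := by rw [← hsq', ← hsq]; exact ht
    exact_mod_cast this
  have hnn : (0 : ℤ) ≤ ∑ α ∈ S.erase β, (m α : ℤ) ^ 2 :=
    Finset.sum_nonneg fun α _ => by positivity
  have hr1 : (1 : ℤ) ≤ r := by exact_mod_cast hr
  have hN2le : (N : ℤ) ^ 2 ≤ (r - 1) * t := by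
    rw [hsumZ]
    calc _ ≤ ((S.erase β).card : ℤ) * ∑ α ∈ S.erase β, (m α : ℤ) ^ 2 := hCS
      _ ≤ (r - 1) * ∑ α ∈ S.erase β, (m α : ℤ) ^ 2 := mul_le_mul_of_nonneg_right hcard hnn
      _ ≤ (r - 1) * t := mul_le_mul_of_nonneg_left htZ (by linarith)
  have : ((N ^ 2 : ℕ) : ℤ) ≤ (((r - 1) * t : ℕ) : ℤ) := by
    push_cast
    rw [Nat.cast_sub hr]
    simpa using hN2le
  exact_mod_cast this

section count

/-- general Burnside bound: if every nonidentity element fixes at most `F` points then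
`#orbits * |S| ≤ |Ω| + (|S| - 1) F` -/
theorem card_orbits_mul_le {S Ω0 : Type*} [Group S] [Finite S] [MulAction S Ω0] [Finite Ω0]
    (r : ℕ) (hS : Nat.card S = r) (F : ℕ)
    (hfix : ∀ s : S, s ≠ 1 → Nat.card (MulAction.fixedBy Ω0 s) ≤ F) :
    Nat.card (Quotient (MulAction.orbitRel S Ω0)) * r ≤ Nat.card Ω0 + (r - 1) * F := by
  classical
  have : Fintype S := Fintype.ofFinite S
  have : Fintype Ω0 := Fintype.ofFinite Ω0
  have : Fintype (Quotient (MulAction.orbitRel S Ω0)) := Fintype.ofFinite _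
  have hB := MulAction.sum_card_fixedBy_eq_card_orbits_mul_card_group S Ω0
  rw [Nat.card_eq_fintype_card, Nat.card_eq_fintype_card, ← hS, Nat.card_eq_fintype_card, ← hB]
  rw [← Finset.add_sum_erase Finset.univ _ (Finset.mem_univ (1 : S))]
  apply Nat.add_le_add
  · apply le_of_eq
    rw [Fintype.card_congr (Equiv.setCongr (MulAction.fixedBy_one_eq_univ (α := Ω0) (M := S)))]
    exact Fintype.card_congr (Equiv.Set.univ Ω0)
  · have h1 : ∀ s ∈ Finset.univ.erase (1 : S), Fintype.card (MulAction.fixedBy Ω0 s) ≤ F := by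
      intro s hs
      have hs1 : s ≠ 1 := (Finset.mem_erase.mp hs).1
      rw [← Nat.card_eq_fintype_card]
      exact hfix s hs1
    refine (Finset.sum_le_sum h1).trans ?_
    rw [Finset.sum_const, smul_eq_mul, Finset.card_erase_of_mem (Finset.mem_univ _), Finset.card_univ]

variable {Q : Type w} [Group Q] [Finite Q]

/-- Burnside bound for `⟨σ⟩` acting on `Q ⧸ Z` when all "fixed points mod `Z`" of nontrivial powers
lie in a subgroup `C ≥ Z` -/
theorem orbits_mul_le (Z : Subgroup Q) [Z.Normal] (σ : MulAut Q) (P : ℕ) (hP : 0 < P)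
    (hord : orderOf σ = P) (hσZ : ∀ z, σ z ∈ Z ↔ z ∈ Z) (C : Subgroup Q)
    (hC : ∀ j, 0 < j → j < P → ∀ k, (σ ^ j) k * k⁻¹ ∈ Z → k ∈ C) :
    letI := quotientAction_zpowers' σ Z hσZ
    Nat.card (Quotient (MulAction.orbitRel ↥(Subgroup.zpowers σ) (Q ⧸ Z))) * P ≤
      Z.index + (P - 1) * Z.relIndex C := by
  classical
  letI := quotientAction_zpowers' σ Z hσZ
  have hσP : σ ^ P = 1 := by rw [← hord]; exact pow_orderOf_eq_one σ
  have hS : Nat.card ↥(Subgroup.zpowers σ) = P := by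
    rw [Nat.card_zpowers, hord]
  have hfix : ∀ s : ↥(Subgroup.zpowers σ), s ≠ 1 →
      Nat.card (MulAction.fixedBy (Q ⧸ Z) s) ≤ Z.relIndex C := by
    intro s hs
    have hs1 : (s : MulAut Q) ≠ 1 := fun h => hs (Subtype.ext h)
    obtain ⟨j, hj0, hjN, hj⟩ := exists_pow_of_mem_zpowers σ P hP hσP s.2 hs1
    have hmem : ∀ e : MulAction.fixedBy (Q ⧸ Z) s, Quotient.out (e : Q ⧸ Z) ∈ C := by
      rintro ⟨e, he⟩
      set k : Q := Quotient.out e with hk
      have hek : (QuotientGroup.mk k : Q ⧸ Z) = e := QuotientGroup.out_eq' e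
      have he' : s • (QuotientGroup.mk k : Q ⧸ Z) = QuotientGroup.mk k := by
        rw [hek]; exact he
      rw [MulAction.Quotient.smul_mk] at he'
      have h2 : ((s : MulAut Q) k)⁻¹ * k ∈ Z := (QuotientGroup.eq (s := Z)).mp he'
      have h3 : (s : MulAut Q) k * k⁻¹ ∈ Z := by
        have h4 : k⁻¹ * (s : MulAut Q) k ∈ Z := by
          have := Z.inv_mem h2
          rwa [mul_inv_rev, inv_inv] at this
        have h5 := (inferInstance : Z.Normal).conj_mem _ h4 k
        have h6 : k * (k⁻¹ * (s : MulAut Q) k) * k⁻¹ = (s : MulAut Q) k * k⁻¹ := by group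
        rwa [h6] at h5
      rw [← hj] at h3
      exact hC j hj0 hjN k h3
    let φ : MulAction.fixedBy (Q ⧸ Z) s → C ⧸ Z.subgroupOf C :=
      fun e => QuotientGroup.mk ⟨Quotient.out (e : Q ⧸ Z), hmem e⟩
    have hφ : Function.Injective φ := by
      intro e e' h
      have h1 : (⟨Quotient.out (e : Q ⧸ Z), hmem e⟩ : C)⁻¹ * ⟨Quotient.out (e' : Q ⧸ Z), hmem e'⟩ ∈
          Z.subgroupOf C := (QuotientGroup.eq (s := Z.subgroupOf C)).mp h
      rw [Subgroup.mem_subgroupOf] at h1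
      have h2 : (QuotientGroup.mk (Quotient.out (e : Q ⧸ Z)) : Q ⧸ Z) =
          QuotientGroup.mk (Quotient.out (e' : Q ⧸ Z)) := (QuotientGroup.eq (s := Z)).mpr h1
      rw [QuotientGroup.out_eq', QuotientGroup.out_eq'] at h2
      exact Subtype.ext h2
    have h1 := Nat.card_le_card_of_injective φ hφ
    exact h1
  have := card_orbits_mul_le (S := ↥(Subgroup.zpowers σ)) (Ω0 := Q ⧸ Z) P hS (Z.relIndex C) hfix
  exact this

end count

section bound

variable {K : Type u} [Field K] [IsAlgClosed K] {Y : Type v} [AddCommGroup Y] [Module K Y]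
  [FiniteDimensional K Y] [Nontrivial Y]
variable {Q : Type w} [Group Q] [Finite Q] {ρ : Representation K Q Y} {Z : Subgroup Q}

/-- the commutant of the twisting operator has dimension at most the number of orbits of `⟨σ⟩` on `Q ⧸ Z`
(no semiregularity needed) -/
theorem finrank_commutant_le_orbits (H : Heis ρ Z) (σ : MulAut Q) (N : ℕ)
    (hNK : (N : K) ≠ 0) (hσN : σ ^ N = 1) (hσZ : ∀ z, σ z ∈ Z ↔ z ∈ Z) (hσρ : ∀ z ∈ Z, ρ (σ z) = ρ z)
    (T T' : Module.End K Y) (hT : ∀ g, T * ρ g = ρ (σ g) * T) (hTT' : T * T' = 1) :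
    letI := quotientAction_zpowers' σ Z hσZ
    finrank K (commutant T) ≤
      Nat.card (Quotient (MulAction.orbitRel ↥(Subgroup.zpowers σ) (Q ⧸ Z))) := by
  classical
  haveI := normal_of_heis H
  letI := quotientAction_zpowers' σ Z hσZ
  have : Fintype (Quotient (MulAction.orbitRel ↥(Subgroup.zpowers σ) (Q ⧸ Z))) := Fintype.ofFinite _
  rw [Nat.card_eq_fintype_card]
  let v : Quotient (MulAction.orbitRel ↥(Subgroup.zpowers σ) (Q ⧸ Z)) → Module.End K Y :=
    fun ω => orbSum ρ σ N (Quotient.out (Quotient.out ω : Q ⧸ Z))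
  have hk : ∀ k : Q, orbSum ρ σ N k ∈ Submodule.span K (Set.range v) := by
    intro k
    set ω : Quotient (MulAction.orbitRel ↥(Subgroup.zpowers σ) (Q ⧸ Z)) :=
      Quotient.mk'' (QuotientGroup.mk k : Q ⧸ Z) with hω
    have h1 : (Quotient.out ω : Q ⧸ Z) ∈ MulAction.orbit ↥(Subgroup.zpowers σ) (QuotientGroup.mk k : Q ⧸ Z) := by
      have : Quotient.mk'' (Quotient.out ω) = ω := Quotient.out_eq' ω
      rw [hω] at this
      exact Quotient.exact' this
    obtain ⟨s, hs⟩ := h1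
    simp only at hs
    rw [MulAction.Quotient.smul_mk] at hs
    have h2 : (Quotient.out (Quotient.out ω : Q ⧸ Z))⁻¹ * (s : MulAut Q) k ∈ Z := by
      apply (QuotientGroup.eq (s := Z)).mp
      rw [QuotientGroup.out_eq']
      exact hs.symm
    obtain ⟨c, hc⟩ := orbSum_mul_mem' H σ N hσZ hσρ (Quotient.out (Quotient.out ω : Q ⧸ Z)) h2
    rw [mul_inv_cancel_left, orbSum_of_mem_zpowers ρ σ N hσN s.2] at hc
    rw [hc]
    exact Submodule.smul_mem _ _ (Submodule.subset_span ⟨ω, rfl⟩)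
  have hle : commutant T ≤ Submodule.span K (Set.range v) := by
    intro f hf
    have h1 : f = (N : K)⁻¹ • avg T T' N f := by
      rw [avg_of_mem_commutant hTT' N hf, smul_smul, inv_mul_cancel₀ hNK, one_smul]
    rw [h1]
    refine Submodule.smul_mem _ _ ?_
    have h2 : f ∈ Submodule.span K (Set.range ρ) := by rw [H.span_top]; trivial
    have h3 : avg T T' N f ∈ Submodule.map (avg T T' N) (Submodule.span K (Set.range ρ)) :=
      Submodule.mem_map_of_mem h2
    rw [Submodule.map_span] at h3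
    refine (Submodule.span_le.mpr ?_) h3
    rintro _ ⟨_, ⟨k, rfl⟩, rfl⟩
    rw [avg_rho ρ σ hT hTT']
    exact hk k
  exact (Submodule.finrank_mono hle).trans (finrank_range_le_card v)

/-- (K') counting lemma: if all "fixed points mod `Z`" of the nontrivial powers of `σ` lie in a subgroup
`C ≥ Z` with `(P-1)² < |Q : C|`, then every `P`-th root of unity is an eigenvalue of the twisting
operator `T`. -/
theorem eigen_of_count (H : Heis ρ Z) (hZtop : Z ≠ ⊤) (σ : MulAut Q) (P : ℕ) (hP : 0 < P)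
    (hPK : (P : K) ≠ 0) (hσP : σ ^ P = 1) (hσZ : ∀ z, σ z ∈ Z ↔ z ∈ Z) (hσρ : ∀ z ∈ Z, ρ (σ z) = ρ z)
    (C : Subgroup Q) (hZC : Z ≤ C)
    (hC : ∀ j, 0 < j → j < P → ∀ k, (σ ^ j) k * k⁻¹ ∈ Z → k ∈ C)
    (hcount : (P - 1) ^ 2 < C.index)
    (T : Module.End K Y) (hT : ∀ g, T * ρ g = ρ (σ g) * T) (hTP : T ^ P = 1) (β : K) (hβ : β ^ P = 1) :
    ∃ y : Y, y ≠ 0 ∧ T y = β • y := by
  classical
  haveI := normal_of_heis H
  letI := quotientAction_zpowers' σ Z hσZ
  have hP1 : 1 ≤ P := hP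
  -- the order of `σ` is exactly `P`
  have hord : orderOf σ = P := by
    have hdvd : orderOf σ ∣ P := orderOf_dvd_of_pow_eq_one hσP
    have hpos : 0 < orderOf σ := Nat.pos_of_dvd_of_pos hdvd hP
    by_contra hne
    have hlt : orderOf σ < P := lt_of_le_of_ne (Nat.le_of_dvd hP hdvd) hne
    have hCtop : C = ⊤ := by
      rw [eq_top_iff]
      intro k _
      apply hC (orderOf σ) hpos hlt
      rw [pow_orderOf_eq_one, MulAut.one_apply, mul_inv_cancel]
      exact Z.one_mem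
    rw [hCtop, Subgroup.index_top] at hcount
    have : P - 1 = 0 := by
      by_contra h0
      have : 1 ≤ (P - 1) ^ 2 := Nat.one_le_pow _ _ (Nat.pos_of_ne_zero h0)
      omega
    omega
  have hTT' : T * T ^ (P - 1) = 1 := by
    rw [← pow_succ', Nat.sub_add_cancel hP1, hTP]
  obtain ⟨ι, hι, b, d, hd⟩ := exists_eigenbasis T P hPK hTP
  have hNf : finrank K Y = Fintype.card ι := Module.finrank_eq_card_basis b
  have hdr : ∀ i, d i ^ P = 1 := by
    intro i
    have h1 : ∀ n : ℕ, (T ^ n) (b i) = d i ^ n • b i := by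
      intro n
      induction n with
      | zero => simp
      | succ n ih => rw [pow_succ', Module.End.mul_apply, ih, map_smul, hd, smul_smul, pow_succ]
    have h2 := h1 P
    rw [hTP, Module.End.one_apply] at h2
    have h3 : (d i ^ P - 1) • b i = 0 := by rw [sub_smul, ← h2, one_smul, sub_self]
    rcases smul_eq_zero.mp h3 with h | h
    · exact sub_eq_zero.mp h
    · exact absurd h (b.ne_zero i)
  have hdS : ∀ i, d i ∈ Polynomial.nthRootsFinset P (1 : K) := fun i =>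
    (Polynomial.mem_nthRootsFinset hP 1).mpr (hdr i)
  have hScard : (Polynomial.nthRootsFinset P (1 : K)).card ≤ P := by
    rw [Polynomial.nthRootsFinset_def]
    exact (Multiset.toFinset_card_le _).trans (Polynomial.card_nthRoots P 1)
  have hsq := H.finrank_sq
  by_contra hno
  have hmiss : ∀ i, d i ≠ β := by
    intro i hi
    apply hno
    exact ⟨b i, b.ne_zero i, by rw [hd, hi]⟩
  have ht : Fintype.card {p : ι × ι // d p.1 = d p.2} ≤ finrank K (commutant T) := by
    rw [← Nat.card_eq_fintype_card]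
    exact card_le_finrank_commutant b T d hd
  have h1 := arith_miss d (Polynomial.nthRootsFinset P (1 : K)) hdS P hScard _ ht β
    ((Polynomial.mem_nthRootsFinset hP 1).mpr hβ) hmiss
  have h2 := finrank_commutant_le_orbits H σ P hPK hσP hσZ hσρ T (T ^ (P - 1)) hT hTT'
  have h3 := orbits_mul_le Z σ P hP hord hσZ C hC
  have hidx : Z.relIndex C * C.index = Z.index := Subgroup.relIndex_mul_index hZC
  rw [← hNf, hsq] at h1
  set B := Nat.card (Quotient (MulAction.orbitRel ↥(Subgroup.zpowers σ) (Q ⧸ Z))) with hB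
  set F := Z.relIndex C with hF
  have hFpos : 0 < F := by
    rw [hF]
    exact Nat.pos_of_ne_zero (by
      show (Z.subgroupOf C).index ≠ 0
      exact Subgroup.index_ne_zero_of_finite)
  -- Z.index ≤ (P-1) * comm ≤ (P-1) * B ;  B * P ≤ Z.index + (P-1) F
  have h4 : Z.index ≤ (P - 1) * B := h1.trans (Nat.mul_le_mul_left _ h2)
  have h5 : P * Z.index ≤ (P - 1) * (Z.index + (P - 1) * F) := by
    calc P * Z.index ≤ P * ((P - 1) * B) := Nat.mul_le_mul_left _ h4
      _ = (P - 1) * (B * P) := by ring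
      _ ≤ (P - 1) * (Z.index + (P - 1) * F) := Nat.mul_le_mul_left _ h3
  have h6 : Z.index ≤ (P - 1) ^ 2 * F := by
    have h7 : P * Z.index = (P - 1) * Z.index + Z.index := by
      conv_lhs => rw [← Nat.sub_add_cancel hP1]
      ring
    have h8 : (P - 1) * (Z.index + (P - 1) * F) = (P - 1) * Z.index + (P - 1) ^ 2 * F := by ring
    rw [h7, h8] at h5
    exact Nat.le_of_add_le_add_left h5
  rw [← hidx] at h6
  have h9 : C.index ≤ (P - 1) ^ 2 := by
    have : F * C.index ≤ F * (P - 1) ^ 2 := by rw [mul_comm F ((P - 1) ^ 2)]; exact h6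
    exact Nat.le_of_mul_le_mul_left this hFpos
  omega

/-- ambient form of `eigen_of_count`: an operator `X` of order dividing `P` on a module `M` containing
`Y`, twisting the action of `Q` by `σ`, has a nonzero fixed vector. -/
theorem fixed_of_count {M : Type*} [AddCommGroup M] [Module K M] [FiniteDimensional K M]
    (ρM : Representation K Q M) (H : Heis ρ Z) (hZtop : Z ≠ ⊤) (σ : MulAut Q) (P : ℕ) (hP : 0 < P)
    (hPK : (P : K) ≠ 0) (hσP : σ ^ P = 1) (hσZ : ∀ z, σ z ∈ Z ↔ z ∈ Z) (hσρ : ∀ z ∈ Z, ρ (σ z) = ρ z)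
    (C : Subgroup Q) (hZC : Z ≤ C)
    (hC : ∀ j, 0 < j → j < P → ∀ k, (σ ^ j) k * k⁻¹ ∈ Z → k ∈ C)
    (hcount : (P - 1) ^ 2 < C.index)
    (X X' : Module.End K M) (hXX' : X * X' = 1) (hX'X : X' * X = 1)
    (hX : ∀ g, X * ρM g = ρM (σ g) * X) (hXP : X ^ P = 1)
    (ι : Y →ₗ[K] M) (hι0 : ι ≠ 0) (hι : ∀ g, ρM g ∘ₗ ι = ι ∘ₗ ρ g) :
    ∃ m : M, m ≠ 0 ∧ X m = m := by
  classical
  obtain ⟨T, T', hTT', hT'T, hT⟩ := exists_twist_gen H σ hσρ
  -- the space of equivariant maps
  let W : Submodule K (Y →ₗ[K] M) :=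
    { carrier := {φ | ∀ g, ρM g ∘ₗ φ = φ ∘ₗ ρ g}
      add_mem' := fun {a b} ha hb g => by
        rw [LinearMap.comp_add, LinearMap.add_comp, ha g, hb g]
      zero_mem' := fun g => by simp
      smul_mem' := fun c a ha g => by
        rw [LinearMap.comp_smul, LinearMap.smul_comp, ha g] }
  have hxinv : ∀ g, X' ∘ₗ ρM (σ g) = ρM g ∘ₗ X' := by
    intro g
    show X' * ρM (σ g) = ρM g * X'
    calc X' * ρM (σ g) = X' * (ρM (σ g) * X) * X' := by
          rw [mul_assoc, mul_assoc, hXX', mul_one]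
      _ = X' * (X * ρM g) * X' := by rw [hX]
      _ = ρM g * X' := by rw [← mul_assoc, hX'X, one_mul]
  let B0 : (Y →ₗ[K] M) →ₗ[K] (Y →ₗ[K] M) :=
    { toFun := fun φ => X' ∘ₗ φ ∘ₗ T
      map_add' := fun a b => by
        rw [LinearMap.add_comp, LinearMap.comp_add]
      map_smul' := fun c a => by
        rw [LinearMap.smul_comp, LinearMap.comp_smul]; rfl }
  have hB0 : ∀ φ ∈ W, B0 φ ∈ W := by
    intro φ hφ g
    show ρM g ∘ₗ (X' ∘ₗ φ ∘ₗ T) = (X' ∘ₗ φ ∘ₗ T) ∘ₗ ρ g
    have hTg : T ∘ₗ ρ g = ρ (σ g) ∘ₗ T := hT g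
    rw [← LinearMap.comp_assoc, ← hxinv g, LinearMap.comp_assoc, ← LinearMap.comp_assoc _ φ, hφ (σ g),
      LinearMap.comp_assoc, LinearMap.comp_assoc, LinearMap.comp_assoc, hTg]
  let B : Module.End K W := B0.restrict hB0
  have hιW : ι ∈ W := hι
  haveI : Nontrivial W := ⟨⟨⟨ι, hιW⟩, 0, fun h => hι0 (congrArg Subtype.val h)⟩⟩
  obtain ⟨lam, hlam⟩ := Module.End.exists_eigenvalue B
  obtain ⟨φ', hφ'⟩ := hlam.exists_hasEigenvector
  have hφ'0 : φ' ≠ 0 := hφ'.2
  have hφ'e : B φ' = lam • φ' := hφ'.apply_eq_smul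
  set φ : Y →ₗ[K] M := φ'.1 with hφdef
  have hφW : ∀ g, ρM g ∘ₗ φ = φ ∘ₗ ρ g := φ'.2
  have hφ0 : φ ≠ 0 := fun h => hφ'0 (Subtype.ext h)
  have hφe : X' ∘ₗ φ ∘ₗ T = lam • φ := by
    have := congrArg Subtype.val hφ'e
    exact this
  have hlam0 : lam ≠ 0 := by
    intro h0
    rw [h0, zero_smul] at hφe
    apply hφ0
    have h1 : X ∘ₗ (X' ∘ₗ φ ∘ₗ T) ∘ₗ T' = 0 := by rw [hφe]; simp
    have h2 : X ∘ₗ (X' ∘ₗ φ ∘ₗ T) ∘ₗ T' = φ := by
      ext y
      simp only [LinearMap.comp_apply]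
      have h3 : T (T' y) = y := by
        rw [← Module.End.mul_apply, hTT', Module.End.one_apply]
      rw [h3, ← Module.End.mul_apply, hXX', Module.End.one_apply]
    rw [← h2, h1]
  -- `φ` is injective
  have hφinj : Function.Injective φ := by
    rw [← LinearMap.ker_eq_bot]
    rcases H.irr (LinearMap.ker φ) (fun u y hy => by
      rw [LinearMap.mem_ker] at hy ⊢
      have := congrArg (fun f : Y →ₗ[K] M => f y) (hφW u)
      simp only [LinearMap.comp_apply] at this
      rw [← this, hy, map_zero]) with h | h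
    · exact h
    · exact absurd (LinearMap.ker_eq_top.mp h) hφ0
  -- the rescaled operator
  set T1 : Module.End K Y := lam⁻¹ • T with hT1
  have hφT1 : φ ∘ₗ T1 = X ∘ₗ φ := by
    have h1 : X ∘ₗ (X' ∘ₗ φ ∘ₗ T) = φ ∘ₗ T := by
      ext y
      simp only [LinearMap.comp_apply]
      rw [← Module.End.mul_apply, hXX', Module.End.one_apply]
    rw [hφe, LinearMap.comp_smul] at h1
    rw [hT1, LinearMap.comp_smul, ← h1, smul_smul, inv_mul_cancel₀ hlam0, one_smul]
  have hφT1pow : ∀ n : ℕ, φ ∘ₗ (T1 ^ n) = (X ^ n) ∘ₗ φ := by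
    intro n
    induction n with
    | zero =>
      ext y
      simp
    | succ n ih =>
      have e1 : T1 ^ (n + 1) = T1 ^ n * T1 := pow_succ _ _
      have e2 : φ ∘ₗ (T1 ^ n * T1) = (φ ∘ₗ T1 ^ n) ∘ₗ T1 := rfl
      rw [e1, e2, ih, LinearMap.comp_assoc, hφT1, ← LinearMap.comp_assoc, pow_succ]
      rfl
  have hT1P : T1 ^ P = 1 := by
    have h1 := hφT1pow P
    rw [hXP] at h1
    ext y
    apply hφinj
    have := congrArg (fun f : Y →ₗ[K] M => f y) h1
    simpa using this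
  have hT1' : ∀ g, T1 * ρ g = ρ (σ g) * T1 := by
    intro g
    rw [hT1, smul_mul_assoc, hT, mul_smul_comm]
  obtain ⟨y, hy0, hy⟩ := eigen_of_count H hZtop σ P hP hPK hσP hσZ hσρ C hZC hC hcount T1 hT1' hT1P 1
    (one_pow P)
  refine ⟨φ y, fun h0 => hy0 (hφinj (by rw [h0, map_zero])), ?_⟩
  have := congrArg (fun f : Y →ₗ[K] M => f y) hφT1
  simp only [LinearMap.comp_apply] at this
  rw [← this, hy, one_smul]

end bound

end Cfsg.Agent.Helper8.ShultKp
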