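import Mathlib

/-!
# Number theory for the exceptional case of the Gross–Shult theorem (piece P4)

`p` odd prime, `p ^ m = 2 ^ d + 1`, `m ≤ n`, `0 < e`, `p ^ n ∣ 2 ^ e - 1`  ⟹  `2 * d * p ^ (n - m) ≤ e`.
-/

set_option autoImplicit false

namespace Cfsg.Agent.Helper8.ShultP4

/-- If `P = 2 ^ d + 1` divides `2 ^ e - 1` then `2 * d ∣ e`. -/
theorem two_mul_dvd_of_dvd {d e : ℕ} (hd : 0 < d) (h : 2 ^ d + 1 ∣ 2 ^ e - 1) : 2 * d ∣ e := by
  -- work in ZMod P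
  set P := 2 ^ d + 1 with hPdef
  have hP3 : 3 ≤ P := by
    have : 2 ^ 1 ≤ 2 ^ d := Nat.pow_le_pow_right (by norm_num) hd
    omega
  haveI : Fact (1 < P) := ⟨by omega⟩
  have h2d : (2 : ZMod P) ^ d = -1 := by
    have : ((2 ^ d + 1 : ℕ) : ZMod P) = 0 := by
      rw [← hPdef]; exact ZMod.natCast_self P
    push_cast at this
    exact eq_neg_of_add_eq_zero_left this
  have h2e : (2 : ZMod P) ^ e = 1 := by
    have h1 : ((2 ^ e - 1 : ℕ) : ZMod P) = 0 := (ZMod.natCast_eq_zero_iff _ _).mpr h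
    rw [Nat.cast_sub Nat.one_le_two_pow] at h1
    push_cast at h1
    exact sub_eq_zero.mp h1
  -- order of 2
  have hord_dvd_e : orderOf (2 : ZMod P) ∣ e := orderOf_dvd_of_pow_eq_one h2e
  have hord_dvd : orderOf (2 : ZMod P) ∣ 2 * d := by
    apply orderOf_dvd_of_pow_eq_one
    rw [mul_comm, pow_mul, h2d]; norm_num
  obtain ⟨k, hk⟩ : ∃ k, k = orderOf (2 : ZMod P) := ⟨_, rfl⟩
  rw [← hk] at hord_dvd_e hord_dvd
  have hkpos : 0 < k := by
    apply Nat.pos_of_ne_zero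
    intro h0
    rw [h0, zero_dvd_iff] at hord_dvd
    omega
  -- 2^k ≡ 1 mod P gives P ∣ 2^k - 1 so k > d
  have hkd : d < k := by
    have h1 : (2 : ZMod P) ^ k = 1 := by rw [hk]; exact pow_orderOf_eq_one _
    have h2 : ((2 ^ k - 1 : ℕ) : ZMod P) = 0 := by
      rw [Nat.cast_sub Nat.one_le_two_pow]; push_cast; rw [h1, sub_self]
    have h3 : P ∣ 2 ^ k - 1 := (ZMod.natCast_eq_zero_iff _ _).mp h2
    have h4 : 0 < 2 ^ k - 1 := by
      have : 2 ^ 1 ≤ 2 ^ k := Nat.pow_le_pow_right (by norm_num) hkpos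
      omega
    have h5 : P ≤ 2 ^ k - 1 := Nat.le_of_dvd h4 h3
    by_contra hle
    have hle := not_lt.mp hle
    have : 2 ^ k ≤ 2 ^ d := Nat.pow_le_pow_right (by norm_num) hle
    omega
  obtain ⟨c, hc⟩ := hord_dvd
  have hc1 : c = 1 := by
    rcases c with _ | _ | c
    · omega
    · rfl
    · exfalso
      have : k * 2 ≤ 2 * d := by rw [hc]; exact Nat.mul_le_mul_left k (by omega)
      omega
  rw [hc1, mul_one] at hc
  rw [hc]; exact hord_dvd_e

theorem main {p d m n e : ℕ} (hp : p.Prime) (hodd : p ≠ 2) (hpm : p ^ m = 2 ^ d + 1)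
    (hmn : m ≤ n) (he : 0 < e) (hdvd : p ^ n ∣ 2 ^ e - 1) : 2 * d * p ^ (n - m) ≤ e := by
  haveI : Fact p.Prime := ⟨hp⟩
  have hp1 : Odd p := hp.odd_of_ne_two hodd
  have hd : 0 < d := by
    rcases Nat.eq_zero_or_pos d with h | h
    · exfalso
      rw [h] at hpm
      norm_num at hpm
      -- p ^ m = 2
      have : p ∣ 2 := by
        have hm : m ≠ 0 := by
          intro h0; rw [h0] at hpm; norm_num at hpm
        rw [← hpm]; exact dvd_pow_self p hm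
      have := (Nat.prime_dvd_prime_iff_eq hp Nat.prime_two).mp this
      exact hodd this
    · exact h
  have hm : m ≠ 0 := by
    intro h0; rw [h0, pow_zero] at hpm
    have : 1 ≤ 2 ^ d := Nat.one_le_two_pow
    omega
  -- P ∣ 2^e - 1
  have hP : 2 ^ d + 1 ∣ 2 ^ e - 1 := by
    rw [← hpm]; exact (pow_dvd_pow p hmn).trans hdvd
  obtain ⟨j, hj⟩ := two_mul_dvd_of_dvd hd hP
  have hj0 : j ≠ 0 := by
    intro h0; rw [h0, mul_zero] at hj; omega
  -- p ∣ 2^d + 1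
  have hpd : p ∣ 2 ^ d + 1 := by rw [← hpm]; exact dvd_pow_self p hm
  have hpnd : ¬ p ∣ 2 ^ d - 1 := by
    intro h
    have h2 : p ∣ (2 ^ d + 1) - (2 ^ d - 1) := Nat.dvd_sub hpd h
    have h3 : (2 ^ d + 1) - (2 ^ d - 1) = 2 := by
      have : 1 ≤ 2 ^ d := Nat.one_le_two_pow
      omega
    rw [h3] at h2
    exact hodd ((Nat.prime_dvd_prime_iff_eq hp Nat.prime_two).mp h2)
  -- valuation of 4^d - 1
  have hfac : (2 ^ (2 * d) - 1 : ℕ) = (2 ^ d - 1) * (2 ^ d + 1) := by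
    have h1 : 1 ≤ 2 ^ d := Nat.one_le_two_pow
    have : 2 ^ (2 * d) = 2 ^ d * 2 ^ d := by rw [two_mul, pow_add]
    rw [this]
    zify [h1, Nat.one_le_two_pow (n := d), Nat.mul_le_mul h1 h1]
    ring
  have hne1 : 2 ^ d - 1 ≠ 0 := by
    have : 2 ^ 1 ≤ 2 ^ d := Nat.pow_le_pow_right (by norm_num) hd
    omega
  have hv0 : padicValNat p (2 ^ (2 * d) - 1) = m := by
    rw [hfac, padicValNat.mul hne1 (by omega), padicValNat.eq_zero_of_not_dvd hpnd, zero_add,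
      ← hpm, padicValNat.prime_pow]
  -- LTE
  have hx1 : 1 < 2 ^ (2 * d) := by
    have : 2 ^ 1 ≤ 2 ^ (2 * d) := Nat.pow_le_pow_right (by norm_num) (by omega)
    omega
  have hpx : p ∣ 2 ^ (2 * d) - 1 := by
    rw [hfac]; exact Dvd.dvd.mul_left hpd _
  have hpnx : ¬ p ∣ 2 ^ (2 * d) := by
    intro h
    have := hp.dvd_of_dvd_pow h
    exact hodd ((Nat.prime_dvd_prime_iff_eq hp Nat.prime_two).mp this)
  have hlte := padicValNat.pow_sub_pow hp1 hx1 hpx hpnx hj0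
  rw [one_pow, ← pow_mul, ← hj, hv0] at hlte
  -- n ≤ v_p(2^e - 1)
  have hepos : 2 ^ e - 1 ≠ 0 := by
    have : 2 ^ 1 ≤ 2 ^ e := Nat.pow_le_pow_right (by norm_num) he
    omega
  have hn_le : n ≤ padicValNat p (2 ^ e - 1) :=
    (padicValNat_dvd_iff_le hepos).mp hdvd
  rw [hlte] at hn_le
  have hvj : n - m ≤ padicValNat p j := by omega
  have hpj : p ^ (n - m) ∣ j := (padicValNat_dvd_iff_le hj0).mpr hvj
  have hjle : p ^ (n - m) ≤ j := Nat.le_of_dvd (Nat.pos_of_ne_zero hj0) hpj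
  calc 2 * d * p ^ (n - m) ≤ 2 * d * j := Nat.mul_le_mul_left _ hjle
    _ = e := hj.symm

end Cfsg.Agent.Helper8.ShultP4
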