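import Mathlib
import Cfsg.Prelude.Def_KGroupFacts
import Cfsg.Agent.Helper8.HopfMult

/-!
Every finite stem extension of a finite group is a homomorphic image, over the group, of a Schur
covering group.
-/

set_option autoImplicit false

namespace Cfsg.Agent.Helper8.Hopf

open Cfsg Cfsg.Agent.Helper11.Cover

open scoped commutatorElement

universe u v

theorem exists_cover_over {Q : Type u} [Group Q] [Finite Q] {A : Type v} [CommGroup A]
    (hA : HasSchurMultiplier Q A) {Δ : Type u} [Group Δ] [Finite Δ] (τ : Δ →* Q)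
    (hτ : IsStemExtension τ) :
    ∃ (Γ : Type u) (_ : Group Γ) (_ : Finite Γ) (σ : Γ →* Q), IsStemExtension σ ∧
      Nonempty (σ.ker ≃* A) ∧ ∃ β : Γ →* Δ, Function.Surjective β ∧ τ.comp β = σ := by
  classical
  obtain ⟨φ, hφ⟩ := exists_hom_of_central τ hτ.1 hτ.2.1
  have hφv : ∀ e, τ (φ e) = pE e := fun e => DFunLike.congr_fun hφ e
  have hφs : Function.Surjective φ := by
    intro d
    obtain ⟨e, he⟩ := pE_surjective (τ d)
    have hk : (φ e)⁻¹ * d ∈ τ.ker := by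
      rw [MonoidHom.mem_ker, map_mul, map_inv, hφv, he, inv_mul_cancel]
    obtain ⟨m, -, hm⟩ := exists_mult_preimage τ hτ.2.1 φ hφ _ hk (hτ.2.2 hk)
    refine ⟨e * m, ?_⟩
    rw [map_mul, hm, mul_inv_cancel_left]
  obtain ⟨T, hTN, hT1, hT2'⟩ := exists_compl ((pE (Q := Q)).ker ⊓ φ.ker) inf_le_left
  have hT : T ≤ (pE (Q := Q)).ker := hTN.trans inf_le_left
  have hφT : T ≤ φ.ker := hTN.trans inf_le_right
  have hT2 : ∀ x ∈ (pE (Q := Q)).ker, ∃ t ∈ T, x * t⁻¹ ∈ commutator (extE Q) := by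
    intro x hx
    have hx' : φ x ∈ τ.ker := by
      rw [MonoidHom.mem_ker, hφv]
      exact MonoidHom.mem_ker.mp hx
    obtain ⟨m, hm, hmx⟩ := exists_mult_preimage τ hτ.2.1 φ hφ _ hx' (hτ.2.2 hx')
    have hm' := (mem_mult m).mp hm
    have hxm : x * m⁻¹ ∈ (pE (Q := Q)).ker ⊓ φ.ker := by
      refine Subgroup.mem_inf.mpr ⟨?_, ?_⟩
      · rw [MonoidHom.mem_ker, map_mul, map_inv, MonoidHom.mem_ker.mp hx, hm'.1, inv_one, mul_one]
      · rw [MonoidHom.mem_ker, map_mul, map_inv, hmx, mul_inv_cancel]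
    obtain ⟨t, ht, htc⟩ := hT2' _ hxm
    refine ⟨t, ht, ?_⟩
    have hmc : m ∈ Subgroup.center (extE Q) := pE_ker_le_center (MonoidHom.mem_ker.mpr hm'.1)
    have e1 : x * t⁻¹ = x * m⁻¹ * t⁻¹ * m := by
      have h1 := Subgroup.mem_center_iff.mp hmc t⁻¹
      calc x * t⁻¹ = x * (m⁻¹ * (m * t⁻¹)) := by group
        _ = x * (m⁻¹ * (t⁻¹ * m)) := by rw [← h1]
        _ = x * m⁻¹ * t⁻¹ * m := by group
    rw [e1]
    exact (commutator (extE Q)).mul_mem htc hm'.2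
  obtain ⟨Γ, i1, i2, σ, hσ, ⟨eσ⟩, mkT, β, hmk, hσmk, hβmk⟩ :=
    exists_cover_of_compl T hT hT1 hT2 φ hφT
  obtain ⟨eA⟩ := equiv_mult_of_hasSchurMultiplier hA
  refine ⟨Γ, i1, i2, σ, hσ, ⟨eσ.trans eA.symm⟩, β, ?_, ?_⟩
  · intro d
    obtain ⟨e, he⟩ := hφs d
    refine ⟨mkT e, ?_⟩
    rw [← he, ← hβmk]
    rfl
  · apply MonoidHom.ext
    intro y
    obtain ⟨e, rfl⟩ := hmk y
    have h1 : β (mkT e) = φ e := DFunLike.congr_fun hβmk e
    have h2 : σ (mkT e) = pE e := DFunLike.congr_fun hσmk e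
    rw [MonoidHom.comp_apply, h1, h2, hφv]

end Cfsg.Agent.Helper8.Hopf
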