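import Mathlib
import Cfsg.Prelude.Def_Blocks
import Cfsg.Agent.Helper8.InducedRestrict
import Cfsg.Agent.Helper8.BlockReg
import Cfsg.Agent.Helper5.PElementCongr

/-!
# Broué–Puig: nonvanishing of the subsection of a height-zero character
-/

namespace Cfsg.Agent.Helper8.Subsec

open Cfsg Cfsg.Agent.Helper24 Cfsg.Agent.Helper5.CC Cfsg.Agent.Helper5.Loc
open Cfsg.Agent.Helper8.HZI Cfsg.Agent.Helper8.IndHt

variable {G : Type*} [Group G] [Fintype G] {M : Ideal AlgInt}

/-- If `ϑ` is a class function of `C` congruent to `χ|_C` modulo the local ideal, `b^G = B` and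
`χ ∈ B` has height zero, then the `b`-part of `ϑ` does not vanish on the `p`-regular elements. -/
theorem exists_pRegular_blockPart_ne_zero [Fintype (IrrCharacter G)] {p : ℕ} [hp : Fact p.Prime]
    (hM : IsPModular p M) (C : Subgroup G) [Fintype C] [Fintype (IrrCharacter C)]
    {b : Set (IrrCharacter C)} {B : Set (IrrCharacter G)} (hind : IsInducedBlock M C b B)
    (χ : IrrCharacter G) (hχ : χ ∈ B)
    (hmin : ∀ ξ ∈ B, (irrDeg χ).factorization p ≤ (irrDeg ξ).factorization p)
    (ϑ : C → ℂ) (hcf : IsClassFunction C ϑ)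
    (hϑ : ∀ t : C, MemLocalIdeal M (ϑ t - (χ : G → ℂ) t)) :
    ∃ y : C, ¬ p ∣ orderOf y ∧ blockPart b ϑ y ≠ 0 := by
  classical
  have hMp := isPrime_of_isPModular hM
  have hb : IsPBlock M b := hind.1
  obtain ⟨ψ₀, hψ₀⟩ := IsPBlock.nonempty hMp hb
  set c₂ : C → ℂ := fun k => cfun p χ (k : G) with hc₂
  set c₁ : C → ℂ := fun t => regInd p t * ϑ t⁻¹ with hc₁
  have hreg : ∀ t : C, regInd p (t : G) = regInd p t := by
    intro t
    by_cases hd : p ∣ orderOf t
    · have hd' : p ∣ orderOf (t : G) := by rwa [Subgroup.orderOf_coe]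
      rw [regInd_of_dvd hd, regInd_of_dvd hd']
    · have hd' : ¬ p ∣ orderOf (t : G) := by rwa [Subgroup.orderOf_coe]
      rw [regInd_of_not_dvd hd, regInd_of_not_dvd hd']
  have hc₂eq : ∀ t : C, c₂ t = regInd p t * (χ : G → ℂ) ((t⁻¹ : C) : G) := by
    intro t
    simp only [hc₂, cfun]
    rw [hreg, InvMemClass.coe_inv, irr_inv χ (t : G)]
  have hdiffcf : IsClassFunction C (c₁ - c₂) := by
    intro g h
    simp only [Pi.sub_apply, hc₁, hc₂]
    have e1 : (h * g * h⁻¹)⁻¹ = h * g⁻¹ * h⁻¹ := by group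
    rw [isClassFunction_regInd p g h, e1, hcf g⁻¹ h]
    have e2 : (((h * g * h⁻¹ : C)) : G) = (h : G) * (g : G) * (h : G)⁻¹ := by
      simp
    rw [e2, isClassFunction_cfun p χ (g : G) (h : G)]
  have hdiff : ∀ t : C, MemLocalIdeal M ((c₁ - c₂) t) := by
    intro t
    simp only [Pi.sub_apply]
    rw [hc₂eq t, ← mul_sub]
    exact li_mul_left hMp (lr_regInd hMp p t) (hϑ t⁻¹)
  have h1 : MemLocalIdeal M (act c₁ ψ₀ - act c₂ ψ₀) := by
    rw [← act_sub]
    exact act_li hMp hdiffcf hdiff ψ₀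
  have hmm0 : (mm C p : ℂ) ≠ 0 := by
    have : mm C p ≠ 0 := fun h0 => (not_dvd_mm (G := C) p) (h0 ▸ dvd_zero p)
    exact_mod_cast this
  have h2 : ¬ MemLocalIdeal M (act c₂ ψ₀) := by
    intro hli
    apply (Cfsg.Agent.Helper8.IndRes.main hM C hind χ ψ₀ hψ₀).2 hχ hmin
    exact li_mul_left hMp (memLocalRing_inv_natCast hM (not_dvd_mm (G := C) p)) hli
  have h3 : act c₁ ψ₀ ≠ 0 := by
    intro h0
    apply h2
    rw [h0, zero_sub] at h1
    have := li_neg h1
    rwa [neg_neg] at this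
  by_contra hcon
  push Not at hcon
  apply h3
  -- the sum vanishes
  have hsum : ∑ t : C, c₁ t * (ψ₀ : C → ℂ) t = 0 := by
    -- reindex `t ↦ t⁻¹`
    have e1 : ∑ t : C, c₁ t * (ψ₀ : C → ℂ) t =
        ∑ t : C, regInd p t * ϑ t * (starRingEnd ℂ) ((ψ₀ : C → ℂ) t) := by
      refine Fintype.sum_equiv (Equiv.inv C) _ _ fun t => ?_
      simp only [Equiv.inv_apply, hc₁]
      rw [← irr_inv ψ₀ t⁻¹, inv_inv]
      have : regInd p (t⁻¹ : C) = regInd p t := by
        unfold regInd
        rw [orderOf_inv]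
      rw [this]
    rw [e1]
    -- expand `ϑ`
    have hexp := IsClassFunction.eq_sum_classInner hcf
    have hϑt : ∀ t : C, ϑ t = blockPart b ϑ t +
        ∑ ξ : IrrCharacter C, if ξ ∈ b then 0 else classInner ϑ (ξ : C → ℂ) * (ξ : C → ℂ) t := by
      intro t
      have h := congrFun hexp t
      rw [Finset.sum_apply] at h
      simp only [Pi.smul_apply, smul_eq_mul] at h
      have hinst : Fintype.ofFinite C = ‹Fintype C› := Subsingleton.elim _ _
      simp only [blockPart]
      rw [hinst, finsum_mem_eq_sum_ite, ← Finset.sum_add_distrib]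
      conv_lhs => rw [h]
      refine Finset.sum_congr rfl fun ξ _ => ?_
      by_cases hξ : ξ ∈ b
      · simp [hξ]
      · simp [hξ]
    have e2 : ∀ t : C, regInd p t * ϑ t * (starRingEnd ℂ) ((ψ₀ : C → ℂ) t) =
        ∑ ξ : IrrCharacter C, if ξ ∈ b then 0 else classInner ϑ (ξ : C → ℂ) *
          (regInd p t * ((ξ : C → ℂ) t * (starRingEnd ℂ) ((ψ₀ : C → ℂ) t))) := by
      intro t
      rw [hϑt t, mul_add, add_mul]
      have hz : regInd p t * blockPart b ϑ t = 0 := by
        by_cases hd : p ∣ orderOf t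
        · rw [regInd_of_dvd hd, zero_mul]
        · rw [hcon t hd, mul_zero]
      rw [hz, zero_mul, zero_add, Finset.mul_sum, Finset.sum_mul]
      refine Finset.sum_congr rfl fun ξ _ => ?_
      split_ifs
      · simp
      · ring
    rw [Finset.sum_congr rfl (fun t _ => e2 t), Finset.sum_comm]
    apply Finset.sum_eq_zero
    intro ξ _
    by_cases hξ : ξ ∈ b
    · simp [hξ]
    · simp only [if_neg hξ]
      rw [← Finset.mul_sum]
      have h0 := Cfsg.Agent.Helper8.BlockReg.sum_pRegular_eq_zero hM hb ψ₀ ξ hψ₀ hξ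
      have h0' := congrArg (starRingEnd ℂ) h0
      rw [map_sum, map_zero] at h0'
      have e3 : ∑ t : C, regInd p t * ((ξ : C → ℂ) t * (starRingEnd ℂ) ((ψ₀ : C → ℂ) t)) =
          ∑ y : C, (starRingEnd ℂ) (if p ∣ orderOf y then (0 : ℂ) else
            (ψ₀ : C → ℂ) y * (starRingEnd ℂ) ((ξ : C → ℂ) y)) := by
        refine Finset.sum_congr rfl fun t _ => ?_
        by_cases hd : p ∣ orderOf t
        · rw [regInd_of_dvd hd, if_pos hd, zero_mul, map_zero]
        · rw [regInd_of_not_dvd hd, if_neg hd, one_mul, map_mul, Complex.conj_conj, mul_comm]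
      rw [e3, h0', mul_zero]
  rw [act, hsum, zero_div]

end Cfsg.Agent.Helper8.Subsec
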