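import Mathlib
import Cfsg.Agent.Helper17.Suz2A

/-!
# Higman's theorem for Suzuki 2-groups: shared definitions

Blueprint: `departures/helper27_SUZ2_blueprint.md`.  `P` is a finite 2-group, `K` a commutative group
acting on `P` by automorphisms, regularly on the involutions (`Helper17.Suz2.RegInv`), `P` has at
least two involutions and is nonabelian.  Theorem H: all squares and commutators lie in `Om P`.

* `Star K P` : the class (*).
* `MinCex K P` : a counterexample of minimal order.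
* `Facts K P T` : the conclusions of sections 0-5 of the blueprint (F2, IRR, Maschke, F3-F6) for
  `T = Z_2(P)`; the front part proves `MinCex K P → ∃ T, Facts K P T`, the back part proves
  `MinCex K P → Facts K P T → False`.
-/

set_option autoImplicit false

namespace Cfsg.Agent.Helper8.Suz2H

open Cfsg.Agent.Helper17.Suz2

universe u v

/-- `X` is a `K`-invariant subgroup -/
def KInv (K : Type v) {P : Type u} [Group K] [Group P] [MulDistribMulAction K P]
    (X : Subgroup P) : Prop :=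
  ∀ (k : K), ∀ x ∈ X, k • x ∈ X

/-- the conclusion of Theorem H -/
def Concl (P : Type u) [Group P] : Prop :=
  ∀ x y : P, x * x ∈ Om P ∧ cm x y ∈ Om P

/-- the class (*) -/
structure Star (K : Type v) (P : Type u) [Group K] [Group P] [MulDistribMulAction K P] :
    Prop where
  hP : IsPGroup 2 P
  hreg : RegInv K P
  hinv : ∃ x y : P, x ≠ 1 ∧ y ≠ 1 ∧ x ≠ y ∧ x * x = 1 ∧ y * y = 1

/-- a counterexample to Theorem H of minimal order -/
structure MinCex (K : Type v) (P : Type u) [Group K] [Group P] [Finite P]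
    [MulDistribMulAction K P] : Prop where
  hcomm : ∀ a b : K, a * b = b * a
  star : Star K P
  hna : ∃ x y : P, x * y ≠ y * x
  hnot : ¬ Concl P
  ih : ∀ (P' : Type u) [Group P'] [Finite P'] [MulDistribMulAction K P'],
    Nat.card P' < Nat.card P → Star K P' → (∃ x y : P', x * y ≠ y * x) → Concl P'

/-- The conclusions of F2, IRR, Maschke, F3, F4, F5, F6 of the blueprint, for `T = Z_2(P)`
(`C = C_P(T)` is written `Subgroup.centralizer (T : Set P)`; `[t, g]` is `cm t g`, which lies in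
`Om P` for `t ∈ T`, so the convention does not matter; `β_g (t²) = cm t g`). -/
structure Facts (K : Type v) (P : Type u) [Group K] [Group P] [MulDistribMulAction K P]
    (T : Subgroup P) : Prop where
  /-- F2: fixed-point-freeness on sections -/
  f2 : ∀ k : K, k ≠ 1 → ∀ Y : Subgroup P, (∀ y ∈ Y, k • y ∈ Y) →
    ∀ x : P, x⁻¹ * k • x ∈ Y → x ∈ Y
  /-- IRR: minimal elementary abelian sections are lines -/
  irr : ∀ A B : Subgroup P, KInv K A → KInv K B → B < A →
    (∀ a ∈ A, ∀ b ∈ B, a * b * a⁻¹ ∈ B) → (∀ a ∈ A, a * a ∈ B) →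
    (∀ a ∈ A, ∀ a' ∈ A, cm a a' ∈ B) →
    (∀ D : Subgroup P, KInv K D → B ≤ D → D ≤ A → D = B ∨ D = A) →
    ∀ a ∈ A, a ∉ B → ∀ a' ∈ A, a' ∉ B → ∃ k : K, (k • a)⁻¹ * a' ∈ B
  /-- Maschke for sections over `Om P` -/
  maschke : ∀ A U : Subgroup P, KInv K A → KInv K U → Om P ≤ U → U ≤ A →
    (∀ a ∈ A, a * a ∈ Om P) → (∀ a ∈ A, ∀ a' ∈ A, cm a a' ∈ Om P) →
    ∃ W : Subgroup P, KInv K W ∧ Om P ≤ W ∧ W ≤ A ∧ U ⊓ W = Om P ∧ U ⊔ W = A
  /-- F3, F4: `T = Z_2(P)` is an abelian line over `Om P` -/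
  T_inv : KInv K T
  Om_le : Om P ≤ T
  T_iff : ∀ y : P, y ∈ T ↔ ∀ g : P, cm y g ∈ Om P
  T_comm : ∀ t ∈ T, ∀ t' ∈ T, t * t' = t' * t
  T_sq_mem : ∀ t ∈ T, t * t ∈ Om P
  T_sq : ∀ z ∈ Om P, ∃ t ∈ T, t * t = z
  T_reg : ∀ t ∈ T, t ∉ Om P → ∀ t' ∈ T, t' ∉ Om P → ∃ k : K, (k • t)⁻¹ * t' ∈ Om P
  /-- F5 (i) -/
  C_sq : ∀ g ∈ Subgroup.centralizer (T : Set P), g * g ∈ Om P → g ∈ T
  /-- F5 (ii) -/
  sq_C : ∀ g : P, g * g ∈ Subgroup.centralizer (T : Set P)
  cm_C : ∀ g h : P, cm g h ∈ Subgroup.centralizer (T : Set P)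
  /-- F6: for a line `L / C` and `l ∈ L ∖ C`: `β_l` is injective, has exactly one nonzero fixed
  point `m_l`, and `l ↦ m_l` is injective modulo `C` -/
  f6 : ∀ L : Subgroup P, KInv K L → Subgroup.centralizer (T : Set P) < L →
    (∀ D : Subgroup P, KInv K D → Subgroup.centralizer (T : Set P) ≤ D → D ≤ L →
      D = Subgroup.centralizer (T : Set P) ∨ D = L) →
    ∀ l ∈ L, l ∉ Subgroup.centralizer (T : Set P) →
      (∀ t ∈ T, cm t l = 1 → t ∈ Om P) ∧
      (∃ z ∈ Om P, z ≠ 1 ∧ (∀ t ∈ T, t * t = z → cm t l = z) ∧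
        ∀ z' ∈ Om P, z' ≠ 1 → (∀ t ∈ T, t * t = z' → cm t l = z') → z' = z) ∧
      (∀ l' ∈ L, l' ∉ Subgroup.centralizer (T : Set P) → ∀ z ∈ Om P, z ≠ 1 →
        (∀ t ∈ T, t * t = z → cm t l = z) → (∀ t ∈ T, t * t = z → cm t l' = z) →
        l⁻¹ * l' ∈ Subgroup.centralizer (T : Set P))

end Cfsg.Agent.Helper8.Suz2H
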