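import Mathlib
import Cfsg.Agent.Helper17.Suz2A
import Cfsg.Agent.Helper17.Suz2E
import Cfsg.Agent.Helper8.Suz2HDefs

/-!
# Higman's theorem for Suzuki 2-groups: basic consequences of `Star` and `Facts`
-/

set_option autoImplicit false
set_option linter.unusedSectionVars false

namespace Cfsg.Agent.Helper8.Suz2H

open Cfsg.Agent.Helper17.Suz2

universe u v

variable {K : Type v} {P : Type u} [Group K] [Group P] [MulDistribMulAction K P]

theorem Om_comm {z : P} (hz : z ∈ Om P) (g : P) : g * z = z * g :=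
  Subgroup.mem_center_iff.mp hz.1 g

theorem Om_sq {z : P} (hz : z ∈ Om P) : z * z = 1 := hz.2

theorem Om_inv {z : P} (hz : z ∈ Om P) : z⁻¹ = z := by
  rw [inv_eq_iff_mul_eq_one]; exact hz.2

theorem Om_kinv : KInv K (Om P) := fun k _ hx => smul_mem_Om k hx

theorem cm_one_of_Om_left {z : P} (hz : z ∈ Om P) (g : P) : cm z g = 1 :=
  cm_of_mem_center_left hz.1 g

theorem cm_one_of_Om_right {z : P} (hz : z ∈ Om P) (g : P) : cm g z = 1 :=
  cm_of_mem_center_right hz.1 g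

/-- if all squares lie in `Om P` then so do all commutators -/
theorem cm_mem_of_sq (h : ∀ g : P, g * g ∈ Om P) (g k : P) : cm g k ∈ Om P := by
  have : cm g k = (g * g) * ((g⁻¹ * k) * (g⁻¹ * k)) * (k * k)⁻¹ := by unfold cm; group
  rw [this]
  exact mul_mem (mul_mem (h _) (h _)) (inv_mem (h _))

section star

variable [Finite P]

theorem Star.mem_Om_iff (s : Star K P) {x : P} : x ∈ Om P ↔ x * x = 1 :=
  Cfsg.Agent.Helper17.Suz2.mem_Om_iff s.hP s.hreg

theorem Star.exists_ne_one (s : Star K P) : ∃ k : K, k ≠ 1 := by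
  obtain ⟨x, y, hx, hy, hxy, hx2, hy2⟩ := s.hinv
  obtain ⟨k, hk, -⟩ := s.hreg x y hx hx2 hy hy2
  refine ⟨k, ?_⟩
  rintro rfl
  rw [one_smul] at hk
  exact hxy hk

theorem Star.exists_invol (s : Star K P) : ∃ z ∈ Om P, z ≠ 1 := by
  obtain ⟨x, y, hx, hy, hxy, hx2, hy2⟩ := s.hinv
  exact ⟨x, s.mem_Om_iff.mpr hx2, hx⟩

/-- `K` is transitive on the involutions -/
theorem Star.trans (s : Star K P) {z z' : P} (hz : z ∈ Om P) (hz1 : z ≠ 1) (hz' : z' ∈ Om P)
    (hz1' : z' ≠ 1) : ∃ k : K, k • z = z' := by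
  obtain ⟨k, hk, -⟩ := s.hreg z z' hz1 hz.2 hz1' hz'.2
  exact ⟨k, hk⟩

/-- the centre is `Om P` for nonabelian `P` -/
theorem Star.center_le_Om (s : Star K P) (hcomm : ∀ a b : K, a * b = b * a)
    (hna : ∃ x y : P, x * y ≠ y * x) {z : P} (hz : z ∈ Subgroup.center P) : z ∈ Om P :=
  ⟨hz, center_sq_aux K hcomm (Nat.card P) P rfl s.hP s.hreg hna z hz⟩

end star

section facts

variable {T : Subgroup P} (f : Facts K P T)
include f

theorem Facts.cm_mem {t : P} (ht : t ∈ T) (g : P) : cm t g ∈ Om P := (f.T_iff t).mp ht g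

theorem Facts.cm_mem' {t : P} (ht : t ∈ T) (g : P) : cm g t ∈ Om P := by
  rw [← cm_inv]; exact inv_mem (f.cm_mem ht g)

theorem Facts.cm_symm {t : P} (ht : t ∈ T) (g : P) : cm g t = cm t g := by
  rw [← cm_inv t g, Om_inv (f.cm_mem ht g)]

theorem Facts.conj_mem {t : P} (ht : t ∈ T) (g : P) : g * t * g⁻¹ ∈ T := by
  have : g * t * g⁻¹ = cm g t * t := by unfold cm; group
  rw [this]; exact mul_mem (f.Om_le (f.cm_mem' ht g)) ht

theorem Facts.conj_eq {t : P} (ht : t ∈ T) (g : P) : g * t * g⁻¹ = cm t g * t := by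
  rw [← f.cm_symm ht g]; unfold cm; group

theorem Facts.cm_mul_left {t t' : P} (_ht : t ∈ T) (ht' : t' ∈ T) (g : P) :
    cm (t * t') g = cm t g * cm t' g := by
  rw [Cfsg.Agent.Helper17.Suz2.cm_mul_left (f.cm_mem ht' g).1]
  exact (Om_comm (f.cm_mem ht' g) _).symm

theorem Facts.cm_mul_right {t : P} (ht : t ∈ T) (g h : P) :
    cm t (g * h) = cm t g * cm t h :=
  Cfsg.Agent.Helper17.Suz2.cm_mul_right (f.cm_mem ht h).1

theorem Facts.cm_inv_right {t : P} (ht : t ∈ T) (g : P) : cm t g⁻¹ = cm t g := by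
  have h1 : cm t (g * g⁻¹) = cm t g * cm t g⁻¹ := f.cm_mul_right ht g g⁻¹
  have h2 : cm t (g * g⁻¹) = 1 := by rw [mul_inv_cancel]; unfold cm; group
  rw [h2] at h1
  have h3 : cm t g⁻¹ = (cm t g)⁻¹ := (inv_eq_of_mul_eq_one_right h1.symm).symm
  rw [h3, Om_inv (f.cm_mem ht g)]

theorem Facts.cm_inv_left {t : P} (ht : t ∈ T) (g : P) : cm t⁻¹ g = cm t g := by
  have h1 : cm (t * t⁻¹) g = cm t g * cm t⁻¹ g := f.cm_mul_left ht (inv_mem ht) g
  have h2 : cm (t * t⁻¹) g = 1 := by rw [mul_inv_cancel]; unfold cm; group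
  rw [h2] at h1
  have h3 : cm t⁻¹ g = (cm t g)⁻¹ := (inv_eq_of_mul_eq_one_right h1.symm).symm
  rw [h3, Om_inv (f.cm_mem ht g)]

/-- `cm t g` depends only on `t * t` -/
theorem Facts.cm_eq_of_sq_eq [Finite P] (s : Star K P) {t t' : P} (ht : t ∈ T) (ht' : t' ∈ T)
    (h : t * t = t' * t') (g : P) : cm t g = cm t' g := by
  have hz : t⁻¹ * t' ∈ Om P := by
    rw [s.mem_Om_iff]
    have hc : t' * t⁻¹ = t⁻¹ * t' := f.T_comm t' ht' t⁻¹ (inv_mem ht)
    calc t⁻¹ * t' * (t⁻¹ * t') = t⁻¹ * (t' * t⁻¹) * t' := by group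
      _ = t⁻¹ * (t⁻¹ * t') * t' := by rw [hc]
      _ = (t * t)⁻¹ * (t' * t') := by group
      _ = 1 := by rw [h, inv_mul_cancel]
  have h1 : t' = t * (t⁻¹ * t') := by group
  rw [h1, f.cm_mul_left ht (f.Om_le hz) g, cm_one_of_Om_left hz, mul_one]

theorem Facts.T_le_C : T ≤ Subgroup.centralizer (T : Set P) := by
  intro t ht
  rw [Subgroup.mem_centralizer_iff]
  intro t' ht'
  exact f.T_comm t' ht' t ht

theorem Facts.mem_C_iff {g : P} :
    g ∈ Subgroup.centralizer (T : Set P) ↔ ∀ t ∈ T, cm t g = 1 := by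
  rw [Subgroup.mem_centralizer_iff]
  constructor
  · intro h t ht
    rw [cm_eq_one_iff]
    exact h t ht
  · intro h t ht
    exact (cm_eq_one_iff _ _).mp (h t ht)

theorem Facts.C_inv : KInv K (Subgroup.centralizer (T : Set P)) := by
  intro k g hg
  rw [f.mem_C_iff] at hg ⊢
  intro t ht
  have h1 : t = k • (k⁻¹ • t) := by rw [smul_inv_smul]
  rw [h1, ← cm_smul, hg _ (f.T_inv k⁻¹ t ht), smul_one]

theorem Facts.Om_le_C : Om P ≤ Subgroup.centralizer (T : Set P) :=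
  f.Om_le.trans f.T_le_C

theorem Facts.C_conj {c : P} (hc : c ∈ Subgroup.centralizer (T : Set P)) (g : P) :
    g * c * g⁻¹ ∈ Subgroup.centralizer (T : Set P) := by
  rw [Subgroup.mem_centralizer_iff] at hc ⊢
  intro t ht
  have h1 := hc (g⁻¹ * t * g) (by
    have := f.conj_mem ht g⁻¹
    rwa [inv_inv] at this)
  calc t * (g * c * g⁻¹) = g * ((g⁻¹ * t * g) * c) * g⁻¹ := by group
    _ = g * (c * (g⁻¹ * t * g)) * g⁻¹ := by rw [h1]
    _ = g * c * g⁻¹ * t := by group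

/-- F5 (iv): the set of elements with square in `Om P` is a union of cosets of `T` -/
theorem Facts.sq_mul_mem {x t : P} (hx : x * x ∈ Om P) (ht : t ∈ T) :
    (x * t) * (x * t) ∈ Om P := by
  have h1 : (x * t) * (x * t) = (x * x) * cm x⁻¹ t * (t * t) := by unfold cm; group
  rw [h1]
  exact mul_mem (mul_mem hx (f.cm_mem' ht _)) (f.T_sq_mem t ht)

end facts

end Cfsg.Agent.Helper8.Suz2H
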