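import Mathlib
import Cfsg.Agent.Helper17.Suz2A
import Cfsg.Agent.Helper17.Suz2E
import Cfsg.Agent.Helper8.Suz2HDefs
import Cfsg.Agent.Helper8.Suz2HBasic

/-!
# Higman's theorem for Suzuki 2-groups: invariant subgroups, the quotient by `Om P`,
minimal and maximal invariant subgroups
-/

set_option autoImplicit false
set_option linter.unusedSectionVars false

namespace Cfsg.Agent.Helper8.Suz2H

open Cfsg.Agent.Helper17.Suz2

universe u v

variable {K : Type v} {P : Type u} [Group K] [Group P] [MulDistribMulAction K P]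

/-- the action on an invariant subgroup -/
@[instance_reducible]
def subAction (M : Subgroup P) (hM : KInv K M) : MulDistribMulAction K ↥M where
  smul k v := ⟨k • (v : P), hM k v v.2⟩
  one_smul v := Subtype.ext (one_smul K (v : P))
  mul_smul a b v := Subtype.ext (mul_smul a b (v : P))
  smul_mul a v w := Subtype.ext (smul_mul' a (v : P) (w : P))
  smul_one a := Subtype.ext (smul_one a)

theorem subAction_coe (M : Subgroup P) (hM : KInv K M) (k : K) (v : ↥M) :
    letI := subAction M hM
    ((k • v : ↥M) : P) = k • (v : P) := rfl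

theorem cm_coe (M : Subgroup P) (a b : ↥M) : ((cm a b : ↥M) : P) = cm (a : P) (b : P) := by
  unfold cm; simp

variable [Finite P]

/-- an invariant subgroup containing `Om P` is again in the class (*) -/
theorem Star.sub (s : Star K P) (M : Subgroup P) (hM : KInv K M) (hZM : Om P ≤ M) :
    letI := subAction M hM
    Star K ↥M := by
  letI := subAction M hM
  refine ⟨s.hP.to_subgroup M, ?_, ?_⟩
  · intro x y hx hx2 hy hy2
    have hx' : (x : P) ≠ 1 := fun h => hx (Subtype.ext h)
    have hy' : (y : P) ≠ 1 := fun h => hy (Subtype.ext h)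
    have hx2' : (x : P) * (x : P) = 1 := by
      have := congrArg Subtype.val hx2; simpa using this
    have hy2' : (y : P) * (y : P) = 1 := by
      have := congrArg Subtype.val hy2; simpa using this
    obtain ⟨k, hk, huniq⟩ := s.hreg (x : P) (y : P) hx' hx2' hy' hy2'
    refine ⟨k, Subtype.ext hk, ?_⟩
    intro k' hk'
    exact huniq k' (congrArg Subtype.val hk')
  · obtain ⟨x, y, hx, hy, hxy, hx2, hy2⟩ := s.hinv
    have hxM : x ∈ M := hZM (s.mem_Om_iff.mpr hx2)
    have hyM : y ∈ M := hZM (s.mem_Om_iff.mpr hy2)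
    refine ⟨⟨x, hxM⟩, ⟨y, hyM⟩, ?_, ?_, ?_, Subtype.ext hx2, Subtype.ext hy2⟩
    · intro h; exact hx (congrArg Subtype.val h)
    · intro h; exact hy (congrArg Subtype.val h)
    · intro h; exact hxy (congrArg Subtype.val h)

/-- transfer of the conclusion from an invariant subgroup -/
theorem Concl.of_sub (s : Star K P) (M : Subgroup P) (h : Concl ↥M) {m m' : P} (hm : m ∈ M)
    (hm' : m' ∈ M) : m * m ∈ Om P ∧ cm m m' ∈ Om P := by
  obtain ⟨h1, h2⟩ := h ⟨m, hm⟩ ⟨m', hm'⟩
  constructor
  · rw [s.mem_Om_iff]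
    have := congrArg Subtype.val h1.2
    simpa using this
  · rw [s.mem_Om_iff]
    have := congrArg Subtype.val h2.2
    rw [Subgroup.coe_mul, cm_coe] at this
    simpa using this

/-- a minimal invariant subgroup over `B` inside `A` -/
theorem exists_min_over (A B : Subgroup P) (hA : KInv K A) (hBA : B < A) :
    ∃ L : Subgroup P, KInv K L ∧ B < L ∧ L ≤ A ∧
      ∀ D : Subgroup P, KInv K D → B ≤ D → D ≤ L → D = B ∨ D = L := by
  classical
  have hne : {L : Subgroup P | KInv K L ∧ B < L ∧ L ≤ A}.Nonempty := ⟨A, hA, hBA, le_rfl⟩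
  obtain ⟨L, hL, hmin⟩ := WellFounded.has_min (measure (fun L : Subgroup P => Nat.card L)).wf _ hne
  refine ⟨L, hL.1, hL.2.1, hL.2.2, ?_⟩
  intro D hD hBD hDL
  by_cases hDB : D = B
  · exact Or.inl hDB
  · right
    have hBD' : B < D := lt_of_le_of_ne hBD (Ne.symm hDB)
    have h1 := hmin D ⟨hD, hBD', hDL.trans hL.2.2⟩
    have h2 : ¬ Nat.card D < Nat.card L := h1
    exact Subgroup.eq_of_le_of_card_ge hDL (not_lt.mp h2)

/-- a maximal proper invariant subgroup containing `B` -/
theorem exists_max_under (B : Subgroup P) (hB : KInv K B) (hBtop : B ≠ ⊤) :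
    ∃ M : Subgroup P, KInv K M ∧ B ≤ M ∧ M ≠ ⊤ ∧
      ∀ D : Subgroup P, KInv K D → M ≤ D → D = M ∨ D = ⊤ := by
  classical
  have hne : {L : Subgroup P | KInv K L ∧ B ≤ L ∧ L ≠ ⊤}.Nonempty := ⟨B, hB, le_rfl, hBtop⟩
  obtain ⟨M, hM, hmax⟩ := WellFounded.has_min
    (measure (fun L : Subgroup P => Nat.card P - Nat.card L)).wf _ hne
  refine ⟨M, hM.1, hM.2.1, hM.2.2, ?_⟩
  intro D hD hMD
  by_cases hDtop : D = ⊤
  · exact Or.inr hDtop
  · left
    have h1 := hmax D ⟨hD, hM.2.1.trans hMD, hDtop⟩
    have h2 : ¬ Nat.card P - Nat.card D < Nat.card P - Nat.card M := h1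
    have h3 : Nat.card D ≤ Nat.card P := Subgroup.card_le_card_group D
    have h4 : Nat.card M ≤ Nat.card D := Subgroup.card_le_of_le hMD
    have h5 : Nat.card D < Nat.card P := by
      rcases Nat.lt_or_ge (Nat.card D) (Nat.card P) with h | h
      · exact h
      · exact absurd (Subgroup.card_eq_iff_eq_top D |>.mp (le_antisymm h3 h)) hDtop
    exact (Subgroup.eq_of_le_of_card_ge hMD (by omega)).symm

end Cfsg.Agent.Helper8.Suz2H
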