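import Mathlib
import Cfsg.Agent.Helper17.Suz2A
import Cfsg.Agent.Helper17.Suz2E
import Cfsg.Agent.Helper8.Suz2HDefs
import Cfsg.Agent.Helper8.Suz2HBasic
import Cfsg.Agent.Helper8.Suz2HSub

/-!
# Higman's theorem for Suzuki 2-groups: section 6 of the blueprint (case H')
-/

set_option autoImplicit false
set_option linter.unusedSectionVars false

namespace Cfsg.Agent.Helper8.Suz2H

open Cfsg.Agent.Helper17.Suz2

universe u v

variable {K : Type v} {P : Type u} [Group K] [Group P] [MulDistribMulAction K P] [Finite P]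

/-- `T ≠ Om P`: there is an element of `T` outside `Om P` -/
theorem Facts.exists_T_not_Om {T : Subgroup P} (f : Facts K P T) (s : Star K P) :
    ∃ t ∈ T, t ∉ Om P := by
  obtain ⟨z, hz, hz1⟩ := s.exists_invol
  obtain ⟨t, ht, htz⟩ := f.T_sq z hz
  refine ⟨t, ht, ?_⟩
  intro h
  rw [s.mem_Om_iff, htz] at h
  exact hz1 h

/-- `C ≠ ⊤` -/
theorem Facts.C_ne_top {T : Subgroup P} (f : Facts K P T) (s : Star K P)
    (hcomm : ∀ a b : K, a * b = b * a) (hna : ∃ x y : P, x * y ≠ y * x) :
    Subgroup.centralizer (T : Set P) ≠ ⊤ := by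
  intro htop
  obtain ⟨t, ht, htZ⟩ := f.exists_T_not_Om s
  apply htZ
  apply s.center_le_Om hcomm hna
  rw [Subgroup.mem_center_iff]
  intro g
  have hg : g ∈ Subgroup.centralizer (T : Set P) := by rw [htop]; trivial
  rw [Subgroup.mem_centralizer_iff] at hg
  exact (hg t ht).symm

/-- in case H' the quotient by `Om P` is in the class (*) -/
theorem Facts.star_quot {T : Subgroup P} (f : Facts K P T) (s : Star K P)
    (hH' : ∀ x : P, x * x ∈ Om P → x ∈ T) :
    letI := quotAction (Om P) (Om_kinv (K := K))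
    Star K (P ⧸ Om P) := by
  letI := quotAction (Om P) (Om_kinv (K := K))
  have hsmul : ∀ (k : K) (x : P), k • (x : P ⧸ Om P) = ((k • x : P) : P ⧸ Om P) :=
    fun k x => rfl
  -- a fixed nontrivial coset forces `k = 1`
  have hfix : ∀ (k : K) (x : P), x ∉ Om P → k • (x : P ⧸ Om P) = (x : P ⧸ Om P) → k = 1 := by
    intro k x hx hk
    by_contra hk1
    apply hx
    apply f.f2 k hk1 (Om P) (fun y hy => smul_mem_Om k hy) x
    rw [hsmul, eq_comm, QuotientGroup.eq] at hk
    exact hk
  refine ⟨s.hP.to_quotient _, ?_, ?_⟩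
  · intro a b
    induction a using QuotientGroup.induction_on with
    | H x =>
      induction b using QuotientGroup.induction_on with
      | H y =>
        intro ha1 ha2 hb1 hb2
        rw [← QuotientGroup.mk_mul, QuotientGroup.eq_one_iff] at ha2 hb2
        have hx1 : x ∉ Om P := fun h => ha1 ((QuotientGroup.eq_one_iff x).mpr h)
        have hy1 : y ∉ Om P := fun h => hb1 ((QuotientGroup.eq_one_iff y).mpr h)
        obtain ⟨k, hk⟩ := f.T_reg x (hH' x ha2) hx1 y (hH' y hb2) hy1
        refine ⟨k, ?_, ?_⟩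
        · show k • (x : P ⧸ Om P) = (y : P ⧸ Om P)
          rw [hsmul, QuotientGroup.eq]
          exact hk
        · intro k' hk'
          have hk0 : k • (x : P ⧸ Om P) = (y : P ⧸ Om P) := by
            rw [hsmul, QuotientGroup.eq]
            exact hk
          have h1 : (k⁻¹ * k') • (x : P ⧸ Om P) = (x : P ⧸ Om P) := by
            rw [mul_smul, hk', ← hk0, inv_smul_smul]
          have h2 := hfix _ x hx1 h1
          rw [inv_mul_eq_one] at h2
          exact h2.symm
  · obtain ⟨t, ht, htZ⟩ := f.exists_T_not_Om s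
    obtain ⟨k, hk⟩ := s.exists_ne_one
    have h1 : (t : P ⧸ Om P) ≠ 1 := fun h => htZ ((QuotientGroup.eq_one_iff t).mp h)
    have h2 : (t : P ⧸ Om P) * (t : P ⧸ Om P) = 1 := by
      rw [← QuotientGroup.mk_mul, QuotientGroup.eq_one_iff]
      exact f.T_sq_mem t ht
    refine ⟨(t : P ⧸ Om P), k • (t : P ⧸ Om P), h1, ?_, ?_, h2, ?_⟩
    · intro h
      apply h1
      have := congrArg (fun q => k⁻¹ • q) h
      simpa using this
    · intro h
      exact hk (hfix k t htZ h.symm)
    · rw [← smul_mul', h2, smul_one]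

/-- Section 6: case H' is impossible -/
theorem sec6 (h : MinCex K P) {T : Subgroup P} (f : Facts K P T)
    (hH' : ∀ x : P, x * x ∈ Om P → x ∈ T) : False := by
  have s := h.star
  letI := quotAction (Om P) (Om_kinv (K := K))
  have sq : Star K (P ⧸ Om P) := f.star_quot s hH'
  -- the quotient is nonabelian
  have hnaq : ∃ a b : P ⧸ Om P, a * b ≠ b * a := by
    by_contra hab
    push Not at hab
    obtain ⟨x, y, hxy⟩ := h.hna
    apply hxy
    have hT : ∀ g : P, g ∈ T := by
      intro g
      rw [f.T_iff]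
      intro g'
      have h1 := hab (g : P ⧸ Om P) (g' : P ⧸ Om P)
      rw [← QuotientGroup.mk_mul, ← QuotientGroup.mk_mul, eq_comm, QuotientGroup.eq] at h1
      have h2 : cm g g' = (g' * g) * ((g' * g)⁻¹ * (g * g')) * (g' * g)⁻¹ := by
        unfold cm; group
      rw [h2, Om_comm h1, mul_inv_cancel_right]
      exact h1
    exact f.T_comm x (hT x) y (hT y)
  have hcard : Nat.card (P ⧸ Om P) < Nat.card P := by
    have h1 := Subgroup.card_eq_card_quotient_mul_card_subgroup (Om P)
    have h2 : 1 < Nat.card (Om P) := by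
      obtain ⟨z, hz, hz1⟩ := s.exists_invol
      rw [Finite.one_lt_card_iff_nontrivial]
      exact ⟨⟨⟨z, hz⟩, 1, fun h => hz1 (congrArg Subtype.val h)⟩⟩
    have h3 : 0 < Nat.card (P ⧸ Om P) := Nat.card_pos
    rw [h1]
    nlinarith
  have hconcl := h.ih (P ⧸ Om P) hcard sq hnaq
  -- all squares lie in `T`
  have hsqT : ∀ g : P, g * g ∈ T := by
    intro g
    apply hH'
    have h1 := (hconcl (g : P ⧸ Om P) (g : P ⧸ Om P)).1.2
    rw [← QuotientGroup.mk_mul, ← QuotientGroup.mk_mul, QuotientGroup.eq_one_iff] at h1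
    exact h1
  -- a minimal invariant subgroup over `C`
  have hCtop := f.C_ne_top s h.hcomm h.hna
  obtain ⟨L, hL, hCL, -, hLmin⟩ := exists_min_over (K := K) ⊤ (Subgroup.centralizer (T : Set P))
    (fun _ _ _ => Subgroup.mem_top _) (lt_top_iff_ne_top.mpr hCtop)
  obtain ⟨l, hlL, hlC⟩ := SetLike.exists_of_lt hCL
  obtain ⟨h6, -, -⟩ := f.f6 L hL hCL hLmin l hlL hlC
  have h1 : cm (l * l) l = 1 := by unfold cm; group
  have h2 := h6 (l * l) (hsqT l) h1
  exact hlC (f.T_le_C (hH' l h2))

end Cfsg.Agent.Helper8.Suz2H
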