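import Mathlib
import Cfsg.Agent.Helper17.Suz2A
import Cfsg.Agent.Helper17.Suz2E
import Cfsg.Agent.Helper8.Suz2HDefs
import Cfsg.Agent.Helper8.Suz2HBasic
import Cfsg.Agent.Helper8.Suz2HSub
import Cfsg.Agent.Helper8.Suz2HSec6

/-!
# Higman's theorem for Suzuki 2-groups: section 7.1 of the blueprint (finding `X`)
-/

set_option autoImplicit false
set_option linter.unusedSectionVars false
set_option linter.unusedVariables false

namespace Cfsg.Agent.Helper8.Suz2H

open Cfsg.Agent.Helper17.Suz2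

universe u v

variable {K : Type v} {P : Type u} [Group K] [Group P] [MulDistribMulAction K P]

/-- if `x * x` commutes with `u` then `[[u, x], x] = [u, x]²` -/
theorem cm_cm_of_sq_central {u x : P} (h : x * x * u = u * (x * x)) :
    cm (cm u x) x = cm u x * cm u x := by
  have e1 : x * (cm u x)⁻¹ * x⁻¹ = cm u x := by
    calc x * (cm u x)⁻¹ * x⁻¹ = (x * x * u) * x⁻¹ * u⁻¹ * x⁻¹ := by unfold cm; group
      _ = (u * (x * x)) * x⁻¹ * u⁻¹ * x⁻¹ := by rw [h]
      _ = cm u x := by unfold cm; group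
  calc cm (cm u x) x = cm u x * (x * (cm u x)⁻¹ * x⁻¹) := by
        generalize cm u x = a
        unfold cm; group
    _ = cm u x * cm u x := by rw [e1]

theorem cm_mul_left_gen (a b c : P) : cm (a * b) c = a * cm b c * a⁻¹ * cm a c := by
  unfold cm; group

theorem cm_mul_right_gen (a b c : P) : cm a (b * c) = cm a b * (b * cm a c * b⁻¹) := by
  unfold cm; group

variable [Finite P]

/-- 7.1 (β), main computation: if `C = M` is abelian and contains an element of order 8 then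
`β_x = id` for every `x` with `x² ∈ Om P`, `x ∉ T` -/
theorem beta_id (h : MinCex K P) {T : Subgroup P} (f : Facts K P T) (M : Subgroup P)
    (hM : KInv K M) (hMC : M = Subgroup.centralizer (T : Set P))
    (hMmax : ∀ D : Subgroup P, KInv K D → M ≤ D → D = M ∨ D = ⊤) (hMtop : M ≠ ⊤)
    (hab : ∀ m ∈ M, ∀ m' ∈ M, m * m' = m' * m) (u : P) (hu : u ∈ M)
    (hu8 : (u * u * (u * u)) * (u * u * (u * u)) = 1) (hu4 : u * u * (u * u) ≠ 1)
    (x : P) (hx : x * x ∈ Om P) (hxT : x ∉ T) : ∀ t ∈ T, cm t x = t * t := by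
  have s := h.star
  have hMn : ∀ m ∈ M, ∀ g : P, g * m * g⁻¹ ∈ M := by
    intro m hm g
    rw [hMC] at hm ⊢
    exact f.C_conj hm g
  -- the facts for an element of order dividing 8
  have aux : ∀ u' ∈ M, (u' * u' * (u' * u')) * (u' * u' * (u' * u')) = 1 →
      u' * u' ∈ T ∧ cm u' x ∈ T ∧ cm u' x * cm u' x = cm (u' * u') x ∧
        cm (cm u' x) x = cm u' x * cm u' x := by
    intro u' hu' h8
    have h1 : u' * u' ∈ T := by
      apply f.C_sq
      · rw [← hMC]; exact mul_mem hu' hu'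
      · rw [s.mem_Om_iff]; exact h8
    have haM : cm u' x ∈ M := by
      have : cm u' x = u' * (x * u'⁻¹ * x⁻¹) := by unfold cm; group
      rw [this]
      exact mul_mem hu' (hMn _ (inv_mem hu') x)
    have h2 : cm u' x * cm u' x = cm (u' * u') x := by
      rw [cm_mul_left_gen]
      have hc := hab u' hu' (cm u' x) haM
      rw [hc, mul_inv_cancel_right]
    have h3 : cm u' x ∈ T := by
      apply f.C_sq
      · rw [← hMC]; exact haM
      · rw [h2]; exact f.cm_mem h1 x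
    refine ⟨h1, h3, h2, ?_⟩
    exact cm_cm_of_sq_central (Om_comm hx u').symm
  -- `x` lies outside `C`
  have hxC : x ∉ Subgroup.centralizer (T : Set P) := fun hc => hxT (f.C_sq x hc hx)
  have hCtop : Subgroup.centralizer (T : Set P) < ⊤ := by
    rw [lt_top_iff_ne_top, ← hMC]; exact hMtop
  obtain ⟨h6, -, -⟩ := f.f6 ⊤ (fun _ _ _ => Subgroup.mem_top _) hCtop
    (fun D hD hCD _ => by
      rw [← hMC] at hCD ⊢
      exact hMmax D hD hCD) x (Subgroup.mem_top _) hxC
  have hz1 : u * u * (u * u) ∈ Om P := s.mem_Om_iff.mpr hu8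
  intro t ht
  by_cases htZ : t ∈ Om P
  · rw [cm_one_of_Om_left htZ, Om_sq htZ]
  · have hz' : t * t ∈ Om P := f.T_sq_mem t ht
    have hz'1 : t * t ≠ 1 := fun h1 => htZ (s.mem_Om_iff.mpr h1)
    obtain ⟨k, hk⟩ := s.trans hz1 hu4 hz' hz'1
    have hu' : k • u ∈ M := hM k u hu
    have h4 : (k • u) * (k • u) * ((k • u) * (k • u)) = t * t := by
      rw [← hk]; simp only [smul_mul']
    have h8 : ((k • u) * (k • u) * ((k • u) * (k • u))) *
        ((k • u) * (k • u) * ((k • u) * (k • u))) = 1 := by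
      rw [h4]; exact Om_sq hz'
    obtain ⟨a1, a2, a3, a4⟩ := aux (k • u) hu' h8
    have e1 : cm t x = cm ((k • u) * (k • u)) x := f.cm_eq_of_sq_eq s ht a1 h4.symm x
    set a' := cm (k • u) x with ha'
    have e2 : cm t x = a' * a' := by rw [e1, ← a3]
    have hs : a'⁻¹ * t ∈ T := mul_mem (inv_mem a2) ht
    have e3 : cm (a'⁻¹ * t) x = 1 := by
      rw [f.cm_mul_left (inv_mem a2) ht, f.cm_inv_left a2, a4, e2]
      exact Om_sq (f.T_sq_mem _ a2)
    have hsZ := h6 _ hs e3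
    have e4 : (a'⁻¹ * t) * (a'⁻¹ * t) = (a' * a')⁻¹ * (t * t) := by
      have hc : t * a'⁻¹ = a'⁻¹ * t := f.T_comm t ht a'⁻¹ (inv_mem a2)
      calc (a'⁻¹ * t) * (a'⁻¹ * t) = a'⁻¹ * (t * a'⁻¹) * t := by group
        _ = a'⁻¹ * (a'⁻¹ * t) * t := by rw [hc]
        _ = (a' * a')⁻¹ * (t * t) := by group
    have e5 := Om_sq hsZ
    rw [e4, inv_mul_eq_one] at e5
    rw [e2, e5]

/-- 7.1 (β): `M` abelian with a square outside `Om P` is impossible -/
theorem sec71b (h : MinCex K P) {T : Subgroup P} (f : Facts K P T) (x₀ : P)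
    (hx₀ : x₀ * x₀ ∈ Om P) (hx₀T : x₀ ∉ T) (M : Subgroup P) (hM : KInv K M)
    (hCM : Subgroup.centralizer (T : Set P) ≤ M) (hMtop : M ≠ ⊤)
    (hMmax : ∀ D : Subgroup P, KInv K D → M ≤ D → D = M ∨ D = ⊤)
    (hab : ∀ m ∈ M, ∀ m' ∈ M, m * m' = m' * m) (m : P) (hm : m ∈ M) (hm2 : m * m ∉ Om P) :
    False := by
  have s := h.star
  have hMC : M = Subgroup.centralizer (T : Set P) := by
    apply le_antisymm _ hCM
    intro m' hm'
    rw [Subgroup.mem_centralizer_iff]
    intro t ht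
    exact hab t (hCM (f.T_le_C ht)) m' hm'
  -- an element of order 8
  have hm4 : (m * m) * (m * m) ≠ 1 := fun h1 => hm2 (s.mem_Om_iff.mpr h1)
  obtain ⟨j, hj1, hj2⟩ := exists_invol_pow s.hP hm4
  have hpow : ∀ y : P, (y * y * (y * y)) = y ^ 4 := fun y => by
    rw [show (4 : ℕ) = 2 + 2 from rfl, pow_add, pow_two]
  have hu4' : (m ^ 2 ^ j) * (m ^ 2 ^ j) * ((m ^ 2 ^ j) * (m ^ 2 ^ j)) =
      (m * m * (m * m)) ^ 2 ^ j := by
    rw [hpow (m ^ 2 ^ j), hpow m, ← pow_mul, ← pow_mul, mul_comm]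
  have hu4 : (m ^ 2 ^ j) * (m ^ 2 ^ j) * ((m ^ 2 ^ j) * (m ^ 2 ^ j)) ≠ 1 := by
    rw [hu4']; exact hj1
  have hu8 : ((m ^ 2 ^ j) * (m ^ 2 ^ j) * ((m ^ 2 ^ j) * (m ^ 2 ^ j))) *
      ((m ^ 2 ^ j) * (m ^ 2 ^ j) * ((m ^ 2 ^ j) * (m ^ 2 ^ j))) = 1 := by
    rw [hu4']; exact hj2
  have hu : m ^ 2 ^ j ∈ M := pow_mem hm _
  obtain ⟨k, hk⟩ := s.exists_ne_one
  have hx₁ : (k • x₀) * (k • x₀) ∈ Om P := by
    rw [← smul_mul']; exact smul_mem_Om k hx₀
  have hx₁T : k • x₀ ∉ T := by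
    intro h1
    apply hx₀T
    have := f.T_inv k⁻¹ _ h1
    rwa [inv_smul_smul] at this
  have b0 := beta_id h f M hM hMC hMmax hMtop hab _ hu hu8 hu4 x₀ hx₀ hx₀T
  have b1 := beta_id h f M hM hMC hMmax hMtop hab _ hu hu8 hu4 (k • x₀) hx₁ hx₁T
  have hmem : x₀⁻¹ * k • x₀ ∈ Subgroup.centralizer (T : Set P) := by
    rw [f.mem_C_iff]
    intro t ht
    rw [f.cm_mul_right ht, f.cm_inv_right ht, b0 t ht, b1 t ht]
    exact Om_sq (f.T_sq_mem t ht)
  have hx₀C := f.f2 k hk _ (fun y hy => f.C_inv k y hy) x₀ hmem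
  exact hx₀T (f.C_sq x₀ hx₀C hx₀)

/-- 7.1: there is a minimal invariant subgroup `X` over `Om P` with `X ⊓ T = Om P` and `X / Om P`
elementary abelian -/
theorem sec71 (h : MinCex K P) {T : Subgroup P} (f : Facts K P T) (x₀ : P)
    (hx₀ : x₀ * x₀ ∈ Om P) (hx₀T : x₀ ∉ T) :
    ∃ X : Subgroup P, KInv K X ∧ Om P < X ∧
      (∀ D : Subgroup P, KInv K D → Om P ≤ D → D ≤ X → D = Om P ∨ D = X) ∧
      (∀ x ∈ X, x * x ∈ Om P) ∧ (∀ x ∈ X, ∀ x' ∈ X, cm x x' ∈ Om P) ∧ X ⊓ T = Om P := by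
  have s := h.star
  have hCtop := f.C_ne_top s h.hcomm h.hna
  obtain ⟨M, hM, hCM, hMtop, hMmax⟩ := exists_max_under (K := K) _ f.C_inv hCtop
  have hZM : Om P ≤ M := f.Om_le_C.trans hCM
  have hTM : T ≤ M := f.T_le_C.trans hCM
  by_cases hα : ∀ m ∈ M, ∀ m' ∈ M, m * m ∈ Om P ∧ cm m m' ∈ Om P
  · by_cases hMT : M = T
    · -- all squares lie in `Om P`: no counterexample
      exfalso
      have hCT : Subgroup.centralizer (T : Set P) = T := le_antisymm (hMT ▸ hCM) f.T_le_C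
      have hTtop : T < ⊤ := by rw [lt_top_iff_ne_top, ← hMT]; exact hMtop
      have hirr := f.irr ⊤ T (fun _ _ _ => Subgroup.mem_top _) f.T_inv hTtop
        (fun a _ b hb => f.conj_mem hb a)
        (fun a _ => by have := f.sq_C a; rwa [hCT] at this)
        (fun a _ a' _ => by have := f.cm_C a a'; rwa [hCT] at this)
        (fun D hD hTD _ => by rw [← hMT] at hTD ⊢; exact hMmax D hD hTD)
      have hsq : ∀ g : P, g * g ∈ Om P := by
        intro g
        by_cases hg : g ∈ T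
        · exact f.T_sq_mem g hg
        · obtain ⟨k, hk⟩ := hirr x₀ (Subgroup.mem_top _) hx₀T g (Subgroup.mem_top _) hg
          have h1 : g = (k • x₀) * ((k • x₀)⁻¹ * g) := by group
          rw [h1]
          apply f.sq_mul_mem _ hk
          rw [← smul_mul']; exact smul_mem_Om k hx₀
      exact h.hnot (fun x y => ⟨hsq x, cm_mem_of_sq hsq x y⟩)
    · obtain ⟨W, hW, hZW, hWM, hTW, hTWM⟩ := f.maschke M T hM f.T_inv f.Om_le hTM
        (fun a ha => (hα a ha a ha).1) (fun a ha a' ha' => (hα a ha a' ha').2)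
      have hWZ : Om P < W := by
        apply lt_of_le_of_ne hZW
        intro h1
        apply hMT
        rw [← hTWM, ← h1]
        exact sup_eq_left.mpr f.Om_le
      obtain ⟨X, hX, hZX, hXW, hXmin⟩ := exists_min_over (K := K) W (Om P) hW hWZ
      refine ⟨X, hX, hZX, hXmin, fun x hx => (hα x (hWM (hXW hx)) x (hWM (hXW hx))).1,
        fun x hx x' hx' => (hα x (hWM (hXW hx)) x' (hWM (hXW hx'))).2, ?_⟩
      apply le_antisymm
      · rw [← hTW, inf_comm]
        exact inf_le_inf_left T hXW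
      · exact le_inf hZX.le f.Om_le
  · exfalso
    -- `M` is abelian, with a square outside `Om P`
    letI := subAction M hM
    have sM : Star K ↥M := s.sub M hM hZM
    have hcard : Nat.card ↥M < Nat.card P := by
      rcases Nat.lt_or_ge (Nat.card ↥M) (Nat.card P) with h1 | h1
      · exact h1
      · exact absurd ((Subgroup.card_eq_iff_eq_top M).mp
          (le_antisymm (Subgroup.card_le_card_group M) h1)) hMtop
    have hab : ∀ m ∈ M, ∀ m' ∈ M, m * m' = m' * m := by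
      by_contra hnab
      apply hα
      have hna' : ∃ a b : ↥M, a * b ≠ b * a := by
        push Not at hnab
        obtain ⟨m, hm, m', hm', hne⟩ := hnab
        exact ⟨⟨m, hm⟩, ⟨m', hm'⟩, fun h1 => hne (congrArg Subtype.val h1)⟩
      have hc := h.ih ↥M hcard sM hna'
      intro m hm m' hm'
      exact Concl.of_sub s M hc hm hm'
    have hex : ∃ m ∈ M, m * m ∉ Om P := by
      by_contra hno
      push Not at hno
      apply hα
      intro m hm m' hm'
      refine ⟨hno m hm, ?_⟩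
      have : cm m m' = 1 := (cm_eq_one_iff _ _).mpr (hab m hm m' hm')
      rw [this]; exact one_mem _
    obtain ⟨m, hm, hm2⟩ := hex
    exact sec71b h f x₀ hx₀ hx₀T M hM hCM hMtop hMmax hab m hm hm2

end Cfsg.Agent.Helper8.Suz2H
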