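import Mathlib
import Cfsg.Agent.Helper17.Suz2A
import Cfsg.Agent.Helper17.Suz2E
import Cfsg.Agent.Helper8.Suz2HDefs
import Cfsg.Agent.Helper8.Suz2HBasic
import Cfsg.Agent.Helper8.Suz2HSub
import Cfsg.Agent.Helper8.Suz2HSec6
import Cfsg.Agent.Helper8.Suz2HSec71

/-!
# Higman's theorem for Suzuki 2-groups: sections 7.2 and 7.3 of the blueprint
(the hyperplane lemma)
-/

set_option autoImplicit false
set_option linter.unusedSectionVars false
set_option linter.unusedVariables false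

namespace Cfsg.Agent.Helper8.Suz2H

open Cfsg.Agent.Helper17.Suz2

universe u v

variable {K : Type v} {P : Type u} [Group K] [Group P] [MulDistribMulAction K P]

/-- the data of the subgroup `X` of 7.1 -/
structure XData (K : Type v) {P : Type u} [Group K] [Group P] [MulDistribMulAction K P]
    (T X : Subgroup P) : Prop where
  inv : KInv K X
  lt : Om P < X
  min : ∀ D : Subgroup P, KInv K D → Om P ≤ D → D ≤ X → D = Om P ∨ D = X
  sq : ∀ x ∈ X, x * x ∈ Om P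
  cmm : ∀ x ∈ X, ∀ x' ∈ X, cm x x' ∈ Om P
  inf : X ⊓ T = Om P

/-- `z` is a fixed point of `β_x` -/
def Fix (T : Subgroup P) (z x : P) : Prop := ∀ t ∈ T, t * t = z → cm t x = z

/-- `γ(g, x) = [g, x]²` -/
def gam (g x : P) : P := cm g x * cm g x

theorem gam_smul (k : K) (g x : P) : gam (k • g) (k • x) = k • gam g x := by
  unfold gam; rw [smul_mul', cm_smul]

theorem gam_one_left (x : P) : gam 1 x = 1 := by unfold gam cm; group

theorem gam_Om {z : P} (hz : z ∈ Om P) (g : P) : gam g z = 1 := by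
  unfold gam; rw [cm_one_of_Om_right hz, one_mul]

variable [Finite P]

/-- 7.2: the consequences of F6 for the elements of `X` -/
theorem X_f6 (h : MinCex K P) {T X : Subgroup P} (f : Facts K P T) (hX : XData K T X) :
    ∀ x ∈ X, x ∉ Om P →
      (∀ t ∈ T, cm t x = 1 → t ∈ Om P) ∧
      (∃ z ∈ Om P, z ≠ 1 ∧ Fix T z x ∧ ∀ z' ∈ Om P, z' ≠ 1 → Fix T z' x → z' = z) ∧
      (∀ x' ∈ X, x' ∉ Om P → ∀ z ∈ Om P, z ≠ 1 → Fix T z x → Fix T z x' →
        x⁻¹ * x' ∈ Om P) := by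
  have s := h.star
  have hXC : ∀ y ∈ X, y ∈ Subgroup.centralizer (T : Set P) → y ∈ Om P := by
    intro y hy hyC
    have h1 : y ∈ X ⊓ T := ⟨hy, f.C_sq y hyC (hX.sq y hy)⟩
    rwa [hX.inf] at h1
  haveI hCn : (Subgroup.centralizer (T : Set P)).Normal := ⟨fun c hc g => f.C_conj hc g⟩
  -- `L = X ⊔ C`
  have hLinv : KInv K (X ⊔ Subgroup.centralizer (T : Set P)) := by
    intro k y hy
    rw [Subgroup.mem_sup_of_normal_right] at hy ⊢
    obtain ⟨a, ha, c, hc, rfl⟩ := hy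
    exact ⟨k • a, hX.inv k a ha, k • c, f.C_inv k c hc, (smul_mul' k a c).symm⟩
  obtain ⟨x₁, hx₁X, hx₁Z⟩ := SetLike.exists_of_lt hX.lt
  have hCL : Subgroup.centralizer (T : Set P) < X ⊔ Subgroup.centralizer (T : Set P) := by
    apply lt_of_le_of_ne le_sup_right
    intro heq
    apply hx₁Z
    apply hXC x₁ hx₁X
    rw [heq]
    exact (le_sup_left : X ≤ X ⊔ Subgroup.centralizer (T : Set P)) hx₁X
  have hLmin : ∀ D : Subgroup P, KInv K D → Subgroup.centralizer (T : Set P) ≤ D →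
      D ≤ X ⊔ Subgroup.centralizer (T : Set P) →
      D = Subgroup.centralizer (T : Set P) ∨ D = X ⊔ Subgroup.centralizer (T : Set P) := by
    intro D hD hCD hDL
    have hDXinv : KInv K (D ⊓ X) := fun k y hy => ⟨hD k y hy.1, hX.inv k y hy.2⟩
    rcases hX.min (D ⊓ X) hDXinv (le_inf (f.Om_le_C.trans hCD) hX.lt.le) inf_le_right with h1 | h1
    · left
      apply le_antisymm _ hCD
      intro d hd
      have hd' := hDL hd
      rw [Subgroup.mem_sup_of_normal_right] at hd'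
      obtain ⟨a, ha, c, hc, rfl⟩ := hd'
      have haD : a ∈ D := by
        have : a = a * c * c⁻¹ := by group
        rw [this]
        exact mul_mem hd (inv_mem (hCD hc))
      have haZ : a ∈ Om P := by rw [← h1]; exact ⟨haD, ha⟩
      exact mul_mem (f.Om_le_C haZ) hc
    · right
      apply le_antisymm hDL
      apply sup_le _ hCD
      rw [← h1]
      exact inf_le_left
  intro x hx hxZ
  have hxL : x ∈ X ⊔ Subgroup.centralizer (T : Set P) :=
    (le_sup_left : X ≤ X ⊔ Subgroup.centralizer (T : Set P)) hx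
  have hxC : x ∉ Subgroup.centralizer (T : Set P) := fun hc => hxZ (hXC x hx hc)
  obtain ⟨h1, h2, h3⟩ := f.f6 _ hLinv hCL hLmin x hxL hxC
  refine ⟨h1, h2, ?_⟩
  intro x' hx' hx'Z z hz hz1 hfx hfx'
  have hx'L : x' ∈ X ⊔ Subgroup.centralizer (T : Set P) :=
    (le_sup_left : X ≤ X ⊔ Subgroup.centralizer (T : Set P)) hx'
  have hx'C : x' ∉ Subgroup.centralizer (T : Set P) := fun hc => hx'Z (hXC x' hx' hc)
  exact hXC _ (mul_mem (inv_mem hx) hx') (h3 x' hx'L hx'C z hz hz1 hfx hfx')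

/-- the square of `ζ * a * b` with `ζ ∈ Om P`, `a, b ∈ T` -/
theorem sq_mul_of_T {T : Subgroup P} (f : Facts K P T) {ζ a b : P} (hζ : ζ ∈ Om P) (ha : a ∈ T)
    (hb : b ∈ T) : (ζ * a * b) * (ζ * a * b) = (a * a) * (b * b) := by
  have h1 : a * b * ζ = ζ * (a * b) := Om_comm hζ (a * b)
  have h2 : b * a = a * b := f.T_comm b hb a ha
  calc (ζ * a * b) * (ζ * a * b) = ζ * (a * b * ζ) * a * b := by group
    _ = ζ * (ζ * (a * b)) * a * b := by rw [h1]
    _ = (ζ * ζ) * a * (b * a) * b := by group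
    _ = (ζ * ζ) * a * (a * b) * b := by rw [h2]
    _ = (a * a) * (b * b) := by rw [Om_sq hζ]; group

section hyper

variable {T X N : Subgroup P}

/-- `γ` is multiplicative in the first variable -/
theorem gam_mul_left (f : Facts K P T) (hNX : ∀ g ∈ N, ∀ x ∈ X, cm g x ∈ T) {g g' x : P}
    (hg : g ∈ N) (hg' : g' ∈ N) (hx : x ∈ X) : gam (g * g') x = gam g x * gam g' x := by
  have hc := hNX g hg x hx
  have hc' := hNX g' hg' x hx
  have h1 : cm (g * g') x = cm (cm g' x) g * cm g' x * cm g x := by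
    rw [cm_mul_left_gen, f.conj_eq hc' g]
  unfold gam
  rw [h1, sq_mul_of_T f (f.cm_mem hc' g) hc' hc]
  exact (Om_comm (f.T_sq_mem _ hc) _)

/-- `γ` is multiplicative in the second variable -/
theorem gam_mul_right (f : Facts K P T) (hNX : ∀ g ∈ N, ∀ x ∈ X, cm g x ∈ T) {g x x' : P}
    (hg : g ∈ N) (hx : x ∈ X) (hx' : x' ∈ X) : gam g (x * x') = gam g x * gam g x' := by
  have hc := hNX g hg x hx
  have hc' := hNX g hg x' hx'
  have h1 : cm g (x * x') = cm (cm g x') x * cm g x * cm g x' := by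
    rw [cm_mul_right_gen, f.conj_eq hc' x]
    have := Om_comm (f.cm_mem hc' x) (cm g x)
    rw [← mul_assoc, this]
  unfold gam
  rw [h1, sq_mul_of_T f (f.cm_mem hc' x) hc hc']

theorem gam_mem (f : Facts K P T) (hNX : ∀ g ∈ N, ∀ x ∈ X, cm g x ∈ T) {g x : P}
    (hg : g ∈ N) (hx : x ∈ X) : gam g x ∈ Om P := f.T_sq_mem _ (hNX g hg x hx)

/-- `γ(g, x)` is a fixed point of `β_x` -/
theorem gam_fix (s : Star K P) (f : Facts K P T) (hX : XData K T X)
    (hNX : ∀ g ∈ N, ∀ x ∈ X, cm g x ∈ T) {g x : P}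
    (hg : g ∈ N) (hx : x ∈ X) : Fix T (gam g x) x := by
  intro t ht htt
  have hc := hNX g hg x hx
  rw [f.cm_eq_of_sq_eq s ht hc htt x]
  exact cm_cm_of_sq_central (Om_comm (hX.sq x hx) g).symm

/-- 7.3, the hyperplane lemma -/
theorem hyperplane (h : MinCex K P) (f : Facts K P T) (hX : XData K T X) (hN : KInv K N)
    (hNX : ∀ g ∈ N, ∀ x ∈ X, cm g x ∈ T) : ∀ g ∈ N, ∀ x ∈ X, cm g x ∈ Om P := by
  have s := h.star
  have h6 := X_f6 h f hX
  -- it suffices to show that `γ` vanishes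
  suffices hgam : ∀ g ∈ N, ∀ x ∈ X, gam g x = 1 by
    intro g hg x hx
    rw [s.mem_Om_iff]
    exact hgam g hg x hx
  -- Claim A
  have claimA : ∀ g ∈ N, (∃ x₁ ∈ X, gam g x₁ ≠ 1) → ∀ x ∈ X, x ∉ Om P → gam g x ≠ 1 := by
    rintro g hg ⟨x₁, hx₁, hne⟩ x hx hxZ hgx
    have hx₁Z : x₁ ∉ Om P := fun hz => hne (gam_Om hz g)
    have hprod : gam g (x₁ * x) = gam g x₁ := by
      rw [gam_mul_right f hNX hg hx₁ hx, hgx, mul_one]
    have hx₁x : x₁ * x ∉ Om P := by
      intro hz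
      apply hne
      rw [← hprod]
      exact gam_Om hz g
    have hfix1 := gam_fix s f hX hNX hg hx₁
    have hfix2 := gam_fix s f hX hNX hg (mul_mem hx₁ hx)
    rw [hprod] at hfix2
    obtain ⟨-, -, hinj⟩ := h6 x₁ hx₁ hx₁Z
    have h1 := hinj (x₁ * x) (mul_mem hx₁ hx) hx₁x (gam g x₁) (gam_mem f hNX hg hx₁) hne hfix1 hfix2
    rw [inv_mul_cancel_left] at h1
    exact hxZ h1
  -- the kernel
  let KK : Subgroup P :=
    { carrier := {g | g ∈ N ∧ ∀ x ∈ X, gam g x = 1}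
      mul_mem' := by
        rintro a b ⟨ha, ha'⟩ ⟨hb, hb'⟩
        refine ⟨mul_mem ha hb, fun x hx => ?_⟩
        rw [gam_mul_left f hNX ha hb hx, ha' x hx, hb' x hx, one_mul]
      one_mem' := ⟨one_mem _, fun x _ => gam_one_left x⟩
      inv_mem' := by
        rintro a ⟨ha, ha'⟩
        refine ⟨inv_mem ha, fun x hx => ?_⟩
        have h1 := gam_mul_left f hNX ha (inv_mem ha) hx
        rw [mul_inv_cancel, gam_one_left, ha' x hx, one_mul] at h1
        exact h1.symm }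
  have hKK : ∀ g, g ∈ KK ↔ g ∈ N ∧ ∀ x ∈ X, gam g x = 1 := fun g => Iff.rfl
  by_contra hcon
  push Not at hcon
  obtain ⟨g₀, hg₀, x₁, hx₁, hne⟩ := hcon
  obtain ⟨k, hk⟩ := s.exists_ne_one
  have hg₁ : k • g₀ ∈ N := hN k g₀ hg₀
  have hne₁ : gam (k • g₀) (k • x₁) ≠ 1 := by
    rw [gam_smul]
    intro h1
    apply hne
    have := congrArg (fun q => k⁻¹ • q) h1
    simpa using this
  have hA0 := claimA g₀ hg₀ ⟨x₁, hx₁, hne⟩
  have hA1 := claimA (k • g₀) hg₁ ⟨k • x₁, hX.inv k x₁ hx₁, hne₁⟩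
  have hmem : g₀⁻¹ * k • g₀ ∈ KK := by
    rw [hKK]
    refine ⟨mul_mem (inv_mem hg₀) hg₁, fun x hx => ?_⟩
    by_cases hxZ : x ∈ Om P
    · exact gam_Om hxZ _
    · rw [gam_mul_left f hNX (inv_mem hg₀) hg₁ hx]
      have hinv : gam g₀⁻¹ x = gam g₀ x := by
        have h1 := gam_mul_left f hNX hg₀ (inv_mem hg₀) hx
        rw [mul_inv_cancel, gam_one_left] at h1
        have h2 : gam g₀⁻¹ x = (gam g₀ x)⁻¹ := (inv_eq_of_mul_eq_one_right h1.symm).symm
        rw [h2, Om_inv (gam_mem f hNX hg₀ hx)]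
      rw [hinv]
      obtain ⟨-, ⟨z, hz, hz1, hzfix, hzuniq⟩, -⟩ := h6 x hx hxZ
      have e0 := hzuniq _ (gam_mem f hNX hg₀ hx) (hA0 x hx hxZ) (gam_fix s f hX hNX hg₀ hx)
      have e1 := hzuniq _ (gam_mem f hNX hg₁ hx) (hA1 x hx hxZ) (gam_fix s f hX hNX hg₁ hx)
      rw [e0, e1]
      exact Om_sq hz
  have hKKinv : ∀ y ∈ KK, k • y ∈ KK := by
    intro y hy
    rw [hKK] at hy ⊢
    refine ⟨hN k y hy.1, fun x hx => ?_⟩
    have h1 : x = k • (k⁻¹ • x) := by rw [smul_inv_smul]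
    rw [h1, gam_smul, hy.2 _ (hX.inv k⁻¹ x hx), smul_one]
  have h0 := f.f2 k hk KK hKKinv g₀ hmem
  rw [hKK] at h0
  exact hne (h0.2 x₁ hx₁)

end hyper

end Cfsg.Agent.Helper8.Suz2H
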