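import Mathlib
import Cfsg.Agent.Helper17.Suz2A
import Cfsg.Agent.Helper17.Suz2E
import Cfsg.Agent.Helper8.Suz2HDefs
import Cfsg.Agent.Helper8.Suz2HBasic
import Cfsg.Agent.Helper8.Suz2HSub
import Cfsg.Agent.Helper8.Suz2HSec6
import Cfsg.Agent.Helper8.Suz2HSec71
import Cfsg.Agent.Helper8.Suz2HSec73
import Cfsg.Agent.S0065

/-!
# Higman's theorem for Suzuki 2-groups: section 7.4 of the blueprint, the back part, and the
induction wrapper (Theorem H from the front part)
-/

set_option autoImplicit false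
set_option linter.unusedSectionVars false
set_option linter.unusedVariables false

namespace Cfsg.Agent.Helper8.Suz2H

open Cfsg.Agent.Helper17.Suz2

universe u v

variable {K : Type v} {P : Type u} [Group K] [Group P] [MulDistribMulAction K P]

theorem cm_inv_left_gen (g s : P) : cm g⁻¹ s = g⁻¹ * (cm g s)⁻¹ * g := by
  unfold cm; group

theorem sq_mul_gen (g g' : P) : (g * g') * (g * g') = (g * g) * cm g⁻¹ g' * (g' * g') := by
  unfold cm; group

variable [Finite P]

/-- 7.4: the end of the proof -/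
theorem sec74 (h : MinCex K P) {T X : Subgroup P} (f : Facts K P T) (hX : XData K T X) :
    False := by
  have s := h.star
  obtain ⟨x, hxX, hxZ⟩ := SetLike.exists_of_lt hX.lt
  by_cases hCT : Subgroup.centralizer (T : Set P) ≤ T
  · -- case `C = T`
    have hNX : ∀ g ∈ (⊤ : Subgroup P), ∀ x ∈ X, cm g x ∈ T :=
      fun g _ x _ => hCT (f.cm_C g x)
    have hyp := hyperplane h f hX (fun _ _ _ => Subgroup.mem_top _) hNX
    apply hxZ
    have hxT : x ∈ T := by
      rw [f.T_iff]
      intro g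
      rw [← cm_inv]
      exact inv_mem (hyp g (Subgroup.mem_top _) x hxX)
    have : x ∈ X ⊓ T := ⟨hxX, hxT⟩
    rwa [hX.inf] at this
  · -- case `C ≠ T`
    haveI hTn : T.Normal := ⟨fun t ht g => f.conj_mem ht g⟩
    haveI hCn : (Subgroup.centralizer (T : Set P)).Normal := ⟨fun c hc g => f.C_conj hc g⟩
    haveI : Fact (Nat.Prime 2) := ⟨Nat.prime_two⟩
    have hPQ : IsPGroup 2 (P ⧸ T) := s.hP.to_quotient T
    haveI : Group.IsNilpotent (P ⧸ T) := hPQ.isNilpotent
    -- an element of `C ∖ T`, central modulo `T`, with square in `T`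
    have hex : ∃ g ∈ Subgroup.centralizer (T : Set P), g ∉ T ∧ g * g ∈ T ∧
        ∀ s' : P, cm g s' ∈ T := by
      set Cbar : Subgroup (P ⧸ T) :=
        (Subgroup.centralizer (T : Set P)).map (QuotientGroup.mk' T) with hCbar
      haveI : Cbar.Normal := Subgroup.Normal.map hCn _ (QuotientGroup.mk'_surjective T)
      have hne : Cbar ≠ ⊥ := by
        intro hbot
        apply hCT
        intro c hc
        have : (QuotientGroup.mk' T c) ∈ Cbar := Subgroup.mem_map_of_mem _ hc
        rw [hbot, Subgroup.mem_bot] at this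
        exact (QuotientGroup.eq_one_iff c).mp this
      have hmeet := Cfsg.Agent.S0065.inf_center_ne_bot Cbar hne
      obtain ⟨q, hq1⟩ := (Subgroup.ne_bot_iff_exists_ne_one).mp hmeet
      have hq1' : (q : P ⧸ T) ≠ 1 := fun h1 => hq1 (Subtype.ext h1)
      obtain ⟨j, hj1, hj2⟩ := exists_invol_pow hPQ hq1'
      have hqmem : (q : P ⧸ T) ^ 2 ^ j ∈ Cbar ⊓ Subgroup.center (P ⧸ T) := pow_mem q.2 _
      obtain ⟨hqC, hqZ⟩ := Subgroup.mem_inf.mp hqmem
      obtain ⟨g, hg, hgq⟩ := Subgroup.mem_map.mp hqC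
      have hgq' : ((g : P) : P ⧸ T) = (q : P ⧸ T) ^ 2 ^ j := hgq
      refine ⟨g, hg, ?_, ?_, ?_⟩
      · intro hgT
        apply hj1
        rw [← hgq']
        exact (QuotientGroup.eq_one_iff g).mpr hgT
      · rw [← QuotientGroup.eq_one_iff, QuotientGroup.mk_mul, hgq']
        exact hj2
      · intro s'
        rw [← QuotientGroup.eq_one_iff]
        have h1 : ((cm g s' : P) : P ⧸ T) = cm ((g : P) : P ⧸ T) ((s' : P) : P ⧸ T) := by
          unfold cm; simp
        rw [h1, hgq']
        exact cm_of_mem_center_left hqZ _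
    obtain ⟨g, hgC, hgT, hgg, hgs⟩ := hex
    -- the subgroup `N`
    let N : Subgroup P :=
      { carrier := {g | g ∈ Subgroup.centralizer (T : Set P) ∧ (∀ s' : P, cm g s' ∈ T) ∧
          g * g ∈ T}
        mul_mem' := by
          rintro a b ⟨ha1, ha2, ha3⟩ ⟨hb1, hb2, hb3⟩
          refine ⟨mul_mem ha1 hb1, fun s' => ?_, ?_⟩
          · rw [cm_mul_left_gen]
            exact mul_mem (f.conj_mem (hb2 s') a) (ha2 s')
          · rw [sq_mul_gen]
            refine mul_mem (mul_mem ha3 ?_) hb3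
            rw [cm_inv_left_gen]
            have := f.conj_mem (inv_mem (ha2 b)) a⁻¹
            rwa [inv_inv] at this
        one_mem' := by
          refine ⟨one_mem _, fun s' => ?_, ?_⟩
          · have : cm (1 : P) s' = 1 := by unfold cm; group
            rw [this]; exact one_mem _
          · rw [one_mul]; exact one_mem _
        inv_mem' := by
          rintro a ⟨ha1, ha2, ha3⟩
          refine ⟨inv_mem ha1, fun s' => ?_, ?_⟩
          · rw [cm_inv_left_gen]
            have := f.conj_mem (inv_mem (ha2 s')) a⁻¹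
            rwa [inv_inv] at this
          · have : a⁻¹ * a⁻¹ = (a * a)⁻¹ := by group
            rw [this]; exact inv_mem ha3 }
    have hNmem : ∀ a, a ∈ N ↔ a ∈ Subgroup.centralizer (T : Set P) ∧
        (∀ s' : P, cm a s' ∈ T) ∧ a * a ∈ T := fun a => Iff.rfl
    have hNinv : KInv K N := by
      intro k a ha
      rw [hNmem] at ha ⊢
      obtain ⟨ha1, ha2, ha3⟩ := ha
      refine ⟨f.C_inv k a ha1, fun s' => ?_, ?_⟩
      · have h1 : s' = k • (k⁻¹ • s') := by rw [smul_inv_smul]
        rw [h1, ← cm_smul]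
        exact f.T_inv k _ (ha2 _)
      · rw [← smul_mul']
        exact f.T_inv k _ ha3
    have hNX : ∀ a ∈ N, ∀ x ∈ X, cm a x ∈ T := fun a ha x _ => ((hNmem a).mp ha).2.1 x
    have hyp := hyperplane h f hX hNinv hNX
    have hgN : g ∈ N := (hNmem g).mpr ⟨hgC, hgs, hgg⟩
    have hz := hyp g hgN x hxX
    have h1 : cm (g * g) x = 1 := by
      rw [cm_mul_left_gen, Om_comm hz g, mul_inv_cancel_right]
      exact Om_sq hz
    obtain ⟨h6, -, -⟩ := X_f6 h f hX x hxX hxZ
    have h2 := h6 (g * g) hgg h1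
    exact hgT (f.C_sq g hgC h2)

/-- the back part: a minimal counterexample with the facts F2-F6 does not exist -/
theorem back (h : MinCex K P) {T : Subgroup P} (f : Facts K P T) : False := by
  by_cases hH' : ∀ x : P, x * x ∈ Om P → x ∈ T
  · exact sec6 h f hH'
  · push Not at hH'
    obtain ⟨x₀, hx₀, hx₀T⟩ := hH'
    obtain ⟨X, h1, h2, h3, h4, h5, h6⟩ := sec71 h f x₀ hx₀ hx₀T
    exact sec74 h f ⟨h1, h2, h3, h4, h5, h6⟩

end Cfsg.Agent.Helper8.Suz2H
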