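import Mathlib
import Cfsg.Agent.Helper17.Suz2A
import Cfsg.Agent.Helper8.Suz2HDefs
import Cfsg.Agent.Helper8.Suz2HBack

/-!
# Higman's theorem for Suzuki 2-groups: the induction wrapper

Theorem H from the front part (`MinCex K P → ∃ T, Facts K P T`).
-/

set_option autoImplicit false

namespace Cfsg.Agent.Helper8.Suz2H

open Cfsg.Agent.Helper17.Suz2

universe u v

/-- Theorem H, given the front part -/
theorem higman_of_front (K : Type v) [Group K] (hcomm : ∀ a b : K, a * b = b * a)
    (hfront : ∀ (P : Type u) [Group P] [Finite P] [MulDistribMulAction K P],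
      MinCex K P → ∃ T : Subgroup P, Facts K P T) :
    ∀ (n : ℕ) (P : Type u) [Group P] [Finite P] [MulDistribMulAction K P], Nat.card P = n →
      Star K P → (∃ x y : P, x * y ≠ y * x) → Concl P := by
  intro n
  induction n using Nat.strong_induction_on with
  | _ n ih =>
    intro P _ _ _ hn s hna
    by_contra hnot
    have hmin : MinCex K P :=
      ⟨hcomm, s, hna, hnot, fun P' _ _ _ hlt s' hna' =>
        ih (Nat.card P') (hn ▸ hlt) P' rfl s' hna'⟩
    obtain ⟨T, f⟩ := hfront P hmin
    exact back hmin f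

/-- Theorem H in unbundled form, given the front part -/
theorem higman_of_front' (K : Type v) [Group K] (hcomm : ∀ a b : K, a * b = b * a)
    (hfront : ∀ (P : Type u) [Group P] [Finite P] [MulDistribMulAction K P],
      MinCex K P → ∃ T : Subgroup P, Facts K P T)
    (P : Type u) [Group P] [Finite P] [MulDistribMulAction K P] (hP : IsPGroup 2 P)
    (hreg : RegInv K P)
    (hinv : ∃ x y : P, x ≠ 1 ∧ y ≠ 1 ∧ x ≠ y ∧ x * x = 1 ∧ y * y = 1)
    (hna : ∃ x y : P, x * y ≠ y * x) :
    ∀ x y : P, x * x ∈ Om P ∧ cm x y ∈ Om P :=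
  higman_of_front K hcomm hfront (Nat.card P) P rfl ⟨hP, hreg, hinv⟩ hna

end Cfsg.Agent.Helper8.Suz2H
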