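import Mathlib
import Cfsg.Agent.Helper17.Suz2A
import Cfsg.Agent.Helper27.Suz2Defs
import Cfsg.Agent.Helper8.Suz2HDefs
import Cfsg.Agent.Helper8.Suz2HWrap
import Cfsg.Agent.Helper19.Suz2B0
import Cfsg.Agent.Helper3.SUZ2FPF
import Cfsg.Agent.Helper9.SUZ2SECLINE
import Cfsg.Agent.Helper9.SUZ2MAS
import Cfsg.Agent.Helper18.Suz2F3
import Cfsg.Agent.Helper20.SUZ2F4C
import Cfsg.Agent.Helper20.SUZ2F5
import Cfsg.Agent.Helper27.SUZ2F6
import Cfsg.Agent.Helper8.SUZ2F6INJ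

/-!
# Higman's theorem for Suzuki 2-groups: bridge from the front pieces of the board `suz2pieces`
(namespace `Cfsg.Agent.SUZ2P`) to `Facts`, and Theorem H.
-/

set_option autoImplicit false

namespace Cfsg.Agent.Helper8.Suz2H

open Cfsg.Agent.Helper17.Suz2
open Cfsg.Agent.SUZ2P (fpf sec_line maschke B0_Om_inv Z2_inv Om_le_Z2 T_props Z2_sq F5i F5ii CT_inv F6 F6inj)

universe u v

variable {K : Type v} {P : Type u} [Group K] [Group P] [MulDistribMulAction K P]

theorem kinv_iff (X : Subgroup P) : KInv K X ↔ Cfsg.Agent.SUZ2P.KInv K X := Iff.rfl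

/-- conversion of the minimal counterexample -/
theorem MinCex.toBoard [Finite P] (h : MinCex K P) : Cfsg.Agent.SUZ2P.MinCE K P := by
  obtain ⟨x, y, hx, hy, hxy, hx2, hy2⟩ := h.star.hinv
  refine ⟨⟨inferInstance, h.star.hP, h.hcomm, h.star.hreg, ⟨x, y, hxy, hx, hx2, hy, hy2⟩⟩, h.hna,
    ?_, ?_⟩
  · intro hH
    exact h.hnot (fun a b => ⟨hH.1 a, hH.2 a b⟩)
  · intro Q _ _ sQ hna hlt
    haveI := sQ.fin
    obtain ⟨a, b, hab, ha, ha2, hb, hb2⟩ := sQ.two
    have hc := h.ih Q hlt ⟨sQ.pgrp, sQ.reg, ⟨a, b, ha, hb, hab, ha2, hb2⟩⟩ hna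
    exact ⟨fun a => (hc a a).1, fun a b => (hc a b).2⟩

/-- the front part, from the front pieces of the board -/
theorem front_of_board [Finite P] (h : MinCex K P) : Facts K P (Cfsg.Agent.SUZ2P.Z2 P) := by
  have hb := h.toBoard
  have hS := hb.star
  have hna := hb.nonab
  obtain ⟨hTmin, hTcomm, hTsq⟩ := T_props hb
  have hZ2sq := Z2_sq hS hna
  -- uniqueness of the fixed point
  have huniq : ∀ {l m z' : P}, Cfsg.Agent.SUZ2P.IsFix l m → z' ∈ Om P → z' ≠ 1 →
      (∀ t ∈ Cfsg.Agent.SUZ2P.Z2 P, t * t = z' → cm t l = z') → z' = m := by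
    intro l m z' hfix hz' hz'1 hz'fix
    obtain ⟨t, ht, htz⟩ := hTsq z' hz'
    have h1 : cm t l = t * t := by rw [hz'fix t ht htz, htz]
    rcases (hfix.2.2 t ht).mp h1 with h2 | h2
    · exact absurd (htz ▸ h2) hz'1
    · rw [← htz, h2]
  refine
    { f2 := fun k hk Y hY x hx => fpf hS hk Y hY hx
      irr := fun A B hA hB hlt _ hsq hcm hmin => sec_line hS ⟨hB, hA, hlt, hmin⟩ hsq hcm
      maschke := fun A U hA hU hBU hUA hsq hcm =>
        maschke hS B0_Om_inv hU hA hBU hUA hsq hcm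
      T_inv := Z2_inv
      Om_le := Om_le_Z2
      T_iff := fun y => Iff.rfl
      T_comm := hTcomm
      T_sq_mem := hZ2sq
      T_sq := hTsq
      T_reg := fun t ht htZ t' ht' htZ' =>
        sec_line hS hTmin hZ2sq (fun a ha a' _ => ha a') t ht htZ t' ht' htZ'
      C_sq := fun g hg hgg => F5i hb hg hgg
      sq_C := fun g => (F5ii g g).1
      cm_C := fun g g' => (F5ii g g').2
      f6 := ?_ }
  intro L hL hCL hLmin l hlL hlC
  have hKmin : Cfsg.Agent.SUZ2P.KMin K (Cfsg.Agent.SUZ2P.CT P) L := ⟨CT_inv, hL, hCL, hLmin⟩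
  obtain ⟨h1, m, hm⟩ := F6 hb hKmin hlL hlC
  refine ⟨h1, ⟨m, hm.1, hm.2.1, ?_, ?_⟩, ?_⟩
  · intro t ht htm
    rw [← htm]
    exact (hm.2.2 t ht).mpr (Or.inr htm)
  · intro z' hz' hz'1 hz'fix
    exact huniq hm hz' hz'1 hz'fix
  · intro l' hl'L hl'C z hz hz1 hzl hzl'
    obtain ⟨-, m', hm'⟩ := F6 hb hKmin hl'L hl'C
    have e1 : z = m := huniq hm hz hz1 hzl
    have e2 : z = m' := huniq hm' hz hz1 hzl'
    rw [← e1] at hm
    rw [← e2] at hm'
    exact F6inj hb hKmin hlL hlC hl'L hl'C hm hm'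

/-- **Theorem H** (Higman): in a finite nonabelian 2-group with a commutative group of
automorphisms acting regularly on the involutions (at least two of them), all squares and
commutators lie in `Om P`. -/
theorem higman (K : Type v) [Group K] (hcomm : ∀ a b : K, a * b = b * a)
    (P : Type u) [Group P] [Finite P] [MulDistribMulAction K P] (hP : IsPGroup 2 P)
    (hreg : RegInv K P)
    (hinv : ∃ x y : P, x ≠ 1 ∧ y ≠ 1 ∧ x ≠ y ∧ x * x = 1 ∧ y * y = 1)
    (hna : ∃ x y : P, x * y ≠ y * x) :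
    ∀ x y : P, x * x ∈ Om P ∧ cm x y ∈ Om P :=
  higman_of_front' K hcomm (fun _ _ _ _ h => ⟨_, front_of_board h⟩) P hP hreg hinv hna

end Cfsg.Agent.Helper8.Suz2H
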