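import Mathlib
import Cfsg.Prelude.Def_Characters
import Cfsg.Agent.Helper12.LSpWDefs
import Cfsg.Agent.Helper12.LSpWPDefs
import Cfsg.Agent.Helper12.LSLDefs
import Cfsg.Agent.Helper12.RUSpB
import Cfsg.Agent.Helper20.PermCharI
import Cfsg.Agent.Helper25.SpUH
import Cfsg.Agent.Helper12.WGDefs
import Cfsg.Agent.Helper12.WGDefsC
import Cfsg.Agent.Helper12.WGDefsD
import Cfsg.Agent.Helper12.WGStruct
import Cfsg.Agent.Helper18.WGSPECNAT
import Cfsg.Agent.Helper22.WGCLASS
import Cfsg.Agent.Helper24.RealChar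
import Cfsg.Agent.Helper24.Product
import Cfsg.Agent.Helper24.Orthogonality
import Cfsg.Agent.Helper24.CharBasic
import Cfsg.Agent.Helper8.Inner
import Cfsg.Agent.Helper7.WGQNORMAL

set_option autoImplicit false

/-! S2524 part B piece MULIN (helper8). -/

namespace Cfsg.Agent.S2524P

open Matrix Cfsg Cfsg.Agent.S2333P Cfsg.Agent.Helper2.Sp Cfsg.Agent.Helper12.LSp Cfsg.Agent.Helper25
open Cfsg.Agent.Helper12.LSL Cfsg.Agent.Helper20.PermChar

variable {F : Type*} [Field F] [Fintype F]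

/-- `lamT` has absolute value one -/
theorem mulin_lamT_mul_conj (ψ : AddChar F ℂ) {m : ℕ} (T : ↥(SymM m F))
    (Y : Multiplicative ↥(SymM m F)) :
    lamT ψ T Y * (starRingEnd ℂ) (lamT ψ T Y) = 1 := by
  have hY : Y = Multiplicative.ofAdd (Multiplicative.toAdd Y) := rfl
  rw [hY, lamT_apply, ← AddChar.map_neg_eq_conj, ← AddChar.map_add_eq_mul, add_neg_cancel,
    AddChar.map_zero_eq_one]

/-- a character with a one point spectrum is a multiple of a linear character on the Siegel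
radical -/
theorem mulin_expand (h2 : (2 : F) ≠ 0) (ψ : AddChar F ℂ) (hψ : ψ ≠ 1) {m : ℕ}
    (T₀ : ↥(SymM m F)) (μ : ↥(symplecticGroup (Fin m) F) → ℂ)
    (h : ∀ T, spec ψ μ T ≠ 0 → T = T₀) (Y : Multiplicative ↥(SymM m F)) :
    μ (US m F Y) = μ 1 * lamT ψ T₀ Y := by
  have hexp : ∀ Y : Multiplicative ↥(SymM m F), μ (US m F Y) = spec ψ μ T₀ * lamT ψ T₀ Y := by
    intro Y
    rw [specU_expand h2 ψ hψ (US m F) μ Y, Finset.sum_eq_single T₀]
    · intro T _ hT
      have : specU ψ (US m F) μ T = 0 := by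
        by_contra hne
        exact hT (h T hne)
      rw [this, zero_mul]
    · intro hne
      exact absurd (Finset.mem_univ _) hne
  have h1 := hexp 1
  rw [map_one, map_one, mul_one] at h1
  rw [hexp Y, h1]

/-- a character which is constant on a set whose normal closure is everything is constant -/
theorem mulin_const {G : Type*} [Group G] [Finite G] (Φ : G → ℂ) (hΦ : IsCharacter G Φ)
    (S : Set G) (hS : ∀ N : Subgroup G, N.Normal → S ⊆ N → N = ⊤) (hc : ∀ g ∈ S, Φ g = Φ 1)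
    (g : G) : Φ g = Φ 1 := by
  obtain ⟨n, ρ, rfl⟩ := hΦ
  have hker : ∀ g : G, ρ.character g = ρ.character 1 ↔ g ∈ MonoidHom.ker ρ := by
    intro g
    rw [Representation.char_one, Cfsg.Agent.Helper24.char_eq_finrank_iff, MonoidHom.mem_ker]
    rfl
  have htop := hS (MonoidHom.ker ρ) (MonoidHom.normal_ker ρ) (fun g hg => (hker g).mp (hc g hg))
  rw [hker, htop]
  exact Subgroup.mem_top g

/-- **MULIN**: a character whose spectrum is a single point is linear, and unique -/
theorem mu_linear (hodd : Odd (Fintype.card F)) (ψ : AddChar F ℂ) (hψ : ψ ≠ 1) {m : ℕ}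
    (hm : 1 ≤ m) (T₀ : ↥(SymM m F)) (μ μ' : ↥(symplecticGroup (Fin m) F) → ℂ)
    (hμ : IsIrrCharacter ↥(symplecticGroup (Fin m) F) μ)
    (hμ' : IsIrrCharacter ↥(symplecticGroup (Fin m) F) μ')
    (h : ∀ T, spec ψ μ T ≠ 0 → T = T₀) (h' : ∀ T, spec ψ μ' T ≠ 0 → T = T₀) :
    μ 1 = 1 ∧ μ = μ' := by
  classical
  have h2 := class_two_ne_zero hodd
  obtain ⟨d, hd0, hd⟩ := Cfsg.Agent.Helper8.irr_degree_pos hμ
  obtain ⟨d', hd0', hd'⟩ := Cfsg.Agent.Helper8.irr_degree_pos hμ'
  -- the key computation: for two such characters the inner product is the product of the degrees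
  have key : ∀ (ν ν' : ↥(symplecticGroup (Fin m) F) → ℂ),
      IsIrrCharacter ↥(symplecticGroup (Fin m) F) ν →
      IsIrrCharacter ↥(symplecticGroup (Fin m) F) ν' →
      (∀ T, spec ψ ν T ≠ 0 → T = T₀) → (∀ T, spec ψ ν' T ≠ 0 → T = T₀) →
      classInner ν ν' = ν 1 * (starRingEnd ℂ) (ν' 1) := by
    intro ν ν' hν hν' hs hs'
    have hΦ : IsCharacter ↥(symplecticGroup (Fin m) F) (ν * fun g => (starRingEnd ℂ) (ν' g)) :=
      Cfsg.Agent.Helper24.IsCharacter.mul (Cfsg.Agent.Helper24.IsIrrCharacter.isCharacter hν)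
        (Cfsg.Agent.Helper24.isCharacter_star (Cfsg.Agent.Helper24.IsIrrCharacter.isCharacter hν'))
    have hconst := mulin_const _ hΦ (Set.range (US m F))
      (fun N hN hsub => by
        have := hN
        exact normal_top_of_US hm N (fun Y => hsub ⟨Y, rfl⟩))
      (by
        rintro _ ⟨Y, rfl⟩
        show ν (US m F Y) * (starRingEnd ℂ) (ν' (US m F Y)) = ν 1 * (starRingEnd ℂ) (ν' 1)
        rw [mulin_expand h2 ψ hψ T₀ ν hs Y, mulin_expand h2 ψ hψ T₀ ν' hs' Y, map_mul]
        calc ν 1 * lamT ψ T₀ Y * ((starRingEnd ℂ) (ν' 1) * (starRingEnd ℂ) (lamT ψ T₀ Y))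
            = ν 1 * (starRingEnd ℂ) (ν' 1) * (lamT ψ T₀ Y * (starRingEnd ℂ) (lamT ψ T₀ Y)) := by
              ring
          _ = ν 1 * (starRingEnd ℂ) (ν' 1) := by rw [mulin_lamT_mul_conj, mul_one])
    unfold classInner
    have hsum : ∑ g : ↥(symplecticGroup (Fin m) F), ν g * (starRingEnd ℂ) (ν' g) =
        ∑ _g : ↥(symplecticGroup (Fin m) F), ν 1 * (starRingEnd ℂ) (ν' 1) :=
      Finset.sum_congr rfl (fun g _ => hconst g)
    rw [hsum, Finset.sum_const, Finset.card_univ, nsmul_eq_mul, Nat.card_eq_fintype_card,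
      ← mul_assoc, inv_mul_cancel₀, one_mul]
    exact_mod_cast Fintype.card_ne_zero
  have heq : μ = μ' := by
    by_contra hne
    have h0 := Cfsg.Agent.Helper24.classInner_of_isIrrCharacter hμ hμ'
    rw [if_neg hne, key μ μ' hμ hμ' h h', hd, hd', Complex.conj_natCast] at h0
    have : (d : ℂ) * (d' : ℂ) ≠ 0 := by
      apply mul_ne_zero <;> exact_mod_cast (by omega)
    exact this h0
  refine ⟨?_, heq⟩
  have h1 := Cfsg.Agent.Helper24.classInner_of_isIrrCharacter hμ hμ
  rw [if_pos rfl, key μ μ hμ hμ h h, hd, Complex.conj_natCast] at h1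
  rw [hd]
  have h3 : d * d = 1 := by exact_mod_cast h1
  have : d = 1 := by nlinarith
  rw [this, Nat.cast_one]

end Cfsg.Agent.S2524P
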