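import Mathlib
import Cfsg.Agent.Helper5.ZasCoreDefs
import Cfsg.Agent.Helper3.KleinFour

/-!
# Uniqueness of the core of a Frobenius complement (piece W1 of S4291): abstract part
-/

set_option autoImplicit false
set_option linter.style.haveILetI false

namespace Cfsg.Agent.Helper5.Zas

namespace W1

open Cfsg.Agent.Helper3

/-- a subgroup contains two distinct commuting involutions -/
def HasKlein {T : Type*} [Group T] (K : Subgroup T) : Prop :=
  ∃ a ∈ K, ∃ b ∈ K, a ≠ 1 ∧ b ≠ 1 ∧ a ≠ b ∧ a * a = 1 ∧ b * b = 1 ∧ a * b = b * a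

/-- a `Z`-group contains no Klein four-group -/
theorem not_hasKlein_of_isZGroup {T : Type*} [Group T] (K : Subgroup T) [IsZGroup K] :
    ¬ HasKlein K := by
  rintro ⟨a, ha, b, hb, ha1, hb1, hab, ha2, hb2, hc⟩
  set a' : K := ⟨a, ha⟩ with ha'
  set b' : K := ⟨b, hb⟩ with hb'
  have ha2' : a' * a' = 1 := Subtype.ext ha2
  have hb2' : b' * b' = 1 := Subtype.ext hb2
  have hc' : a' * b' = b' * a' := Subtype.ext hc
  have ha1' : a' ≠ 1 := fun h => ha1 (congrArg Subtype.val h)
  have hb1' : b' ≠ 1 := fun h => hb1 (congrArg Subtype.val h)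
  have hab' : a' ≠ b' := fun h => hab (congrArg Subtype.val h)
  set V : Subgroup K := kleinOf a' b' ha2' hb2' hc' with hV
  have hVp : IsPGroup 2 V := by
    intro v
    refine ⟨1, ?_⟩
    apply Subtype.ext
    have := sq_eq_one_of_mem_kleinOf v.2
    rw [pow_one, pow_two]
    exact this
  haveI : Fact (Nat.Prime 2) := ⟨Nat.prime_two⟩
  haveI : IsCyclic V := IsPGroup.isCyclic_of_isZGroup hVp
  have hcard : Nat.card V = 4 := card_kleinOf ha1' hb1' hab'
  obtain ⟨g, hg⟩ := IsCyclic.exists_generator (α := V)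
  have hord : orderOf g = 4 := by
    rw [orderOf_eq_card_of_forall_mem_zpowers hg, hcard]
  have hg2 : g ^ 2 = 1 := by
    apply Subtype.ext
    have := sq_eq_one_of_mem_kleinOf g.2
    rw [pow_two]
    exact this
  have := orderOf_dvd_of_pow_eq_one hg2
  rw [hord] at this
  omega

/-- abstract properties of the possible quotients -/
structure Target (T : Type*) [Group T] : Prop where
  klein : HasKlein (⊤ : Subgroup T)
  dich : ((∀ x : T, x * x = 1) ∧ Nat.card T = 4) ∨
    (4 < Nat.card T ∧ ∀ K : Subgroup T, K.Normal → K ≠ ⊥ → HasKlein K)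

end W1

end Cfsg.Agent.Helper5.Zas
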