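import Mathlib
import Cfsg.Agent.Helper8.ZasCoreUniqA

/-!
# Uniqueness of the core (piece W1 of S4291): the five target groups
-/

set_option autoImplicit false
set_option linter.style.haveILetI false

namespace Cfsg.Agent.Helper5.Zas

namespace W1

open Equiv

/-- elementwise criterion for `HasKlein` of nontrivial normal subgroups -/
theorem hasKlein_of_elementwise {T : Type*} [Group T]
    (h : ∀ x : T, x ≠ 1 → ∃ g : T,
      (x * g * x⁻¹ * g⁻¹ ≠ 1 ∧ (x * g * x⁻¹ * g⁻¹) * (x * g * x⁻¹ * g⁻¹) = 1 ∧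
        ∃ k : T, k * (x * g * x⁻¹ * g⁻¹) * k⁻¹ ≠ x * g * x⁻¹ * g⁻¹ ∧
          (x * g * x⁻¹ * g⁻¹) * (k * (x * g * x⁻¹ * g⁻¹) * k⁻¹) =
            (k * (x * g * x⁻¹ * g⁻¹) * k⁻¹) * (x * g * x⁻¹ * g⁻¹)))
    (K : Subgroup T) (hK : K.Normal) (hne : K ≠ ⊥) : HasKlein K := by
  obtain ⟨x, hx1⟩ := (Subgroup.ne_bot_iff_exists_ne_one.mp hne)
  have hx1' : (x : T) ≠ 1 := fun h => hx1 (Subtype.ext h)
  obtain ⟨g, ha1, ha2, k, hba, hcomm⟩ := h x hx1'
  have haK : (x : T) * g * (x : T)⁻¹ * g⁻¹ ∈ K := by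
    have h1 : g * (x : T)⁻¹ * g⁻¹ ∈ K := hK.conj_mem _ (K.inv_mem x.2) g
    have h2 : (x : T) * g * (x : T)⁻¹ * g⁻¹ = x * (g * (x : T)⁻¹ * g⁻¹) := by group
    rw [h2]
    exact K.mul_mem x.2 h1
  revert ha1 ha2 hba hcomm haK
  generalize (x : T) * g * (x : T)⁻¹ * g⁻¹ = a
  intro ha1 ha2 hba hcomm haK
  have hbK : k * a * k⁻¹ ∈ K := hK.conj_mem _ haK k
  refine ⟨a, haK, k * a * k⁻¹, hbK, ha1, ?_, fun h => hba h.symm, ha2, ?_, hcomm⟩
  · intro h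
    apply ha1
    have : a = k⁻¹ * (k * a * k⁻¹) * k := by group
    rw [this, h]; group
  · calc k * a * k⁻¹ * (k * a * k⁻¹) = k * (a * a) * k⁻¹ := by group
      _ = 1 := by rw [ha2]; group

set_option maxRecDepth 1000000 in
theorem elementwise_S4 : ∀ x : Perm (Fin 4), x ≠ 1 → ∃ g : Perm (Fin 4),
      (x * g * x⁻¹ * g⁻¹ ≠ 1 ∧ (x * g * x⁻¹ * g⁻¹) * (x * g * x⁻¹ * g⁻¹) = 1 ∧
        ∃ k : Perm (Fin 4), k * (x * g * x⁻¹ * g⁻¹) * k⁻¹ ≠ x * g * x⁻¹ * g⁻¹ ∧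
          (x * g * x⁻¹ * g⁻¹) * (k * (x * g * x⁻¹ * g⁻¹) * k⁻¹) =
            (k * (x * g * x⁻¹ * g⁻¹) * k⁻¹) * (x * g * x⁻¹ * g⁻¹)) := by
  decide

set_option maxRecDepth 1000000 in
theorem elementwise_A4 : ∀ x : alternatingGroup (Fin 4), x ≠ 1 → ∃ g : alternatingGroup (Fin 4),
      (x * g * x⁻¹ * g⁻¹ ≠ 1 ∧ (x * g * x⁻¹ * g⁻¹) * (x * g * x⁻¹ * g⁻¹) = 1 ∧
        ∃ k : alternatingGroup (Fin 4), k * (x * g * x⁻¹ * g⁻¹) * k⁻¹ ≠ x * g * x⁻¹ * g⁻¹ ∧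
          (x * g * x⁻¹ * g⁻¹) * (k * (x * g * x⁻¹ * g⁻¹) * k⁻¹) =
            (k * (x * g * x⁻¹ * g⁻¹) * k⁻¹) * (x * g * x⁻¹ * g⁻¹)) := by
  decide

set_option maxRecDepth 1000000 in
theorem elementwise_S5 : ∀ x : Perm (Fin 5), x ≠ 1 → ∃ g : Perm (Fin 5),
      (x * g * x⁻¹ * g⁻¹ ≠ 1 ∧ (x * g * x⁻¹ * g⁻¹) * (x * g * x⁻¹ * g⁻¹) = 1 ∧
        ∃ k : Perm (Fin 5), k * (x * g * x⁻¹ * g⁻¹) * k⁻¹ ≠ x * g * x⁻¹ * g⁻¹ ∧
          (x * g * x⁻¹ * g⁻¹) * (k * (x * g * x⁻¹ * g⁻¹) * k⁻¹) =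
            (k * (x * g * x⁻¹ * g⁻¹) * k⁻¹) * (x * g * x⁻¹ * g⁻¹)) := by
  decide +kernel

theorem hasKlein_top_of_exists {T : Type*} [Group T]
    (h : ∃ a b : T, a ≠ 1 ∧ b ≠ 1 ∧ a ≠ b ∧ a * a = 1 ∧ b * b = 1 ∧ a * b = b * a) :
    HasKlein (⊤ : Subgroup T) := by
  obtain ⟨a, b, h1, h2, h3, h4, h5, h6⟩ := h
  exact ⟨a, Subgroup.mem_top a, b, Subgroup.mem_top b, h1, h2, h3, h4, h5, h6⟩

theorem target_D2 : Target (DihedralGroup 2) where
  klein := hasKlein_top_of_exists (by decide)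
  dich := Or.inl ⟨by decide, by rw [DihedralGroup.nat_card]⟩

set_option maxRecDepth 1000000 in
theorem target_A4 : Target (alternatingGroup (Fin 4)) where
  klein := hasKlein_top_of_exists (by decide)
  dich := Or.inr ⟨by
    rw [Nat.card_eq_fintype_card]
    have : Fintype.card (alternatingGroup (Fin 4)) = 12 := by decide
    omega, hasKlein_of_elementwise elementwise_A4⟩

set_option maxRecDepth 1000000 in
theorem target_S4 : Target (Perm (Fin 4)) where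
  klein := hasKlein_top_of_exists (by decide)
  dich := Or.inr ⟨by
    rw [Nat.card_eq_fintype_card, Fintype.card_perm, Fintype.card_fin]
    decide, hasKlein_of_elementwise elementwise_S4⟩

set_option maxRecDepth 1000000 in
theorem klein_A5 : ∃ a b : alternatingGroup (Fin 5),
    a ≠ 1 ∧ b ≠ 1 ∧ a ≠ b ∧ a * a = 1 ∧ b * b = 1 ∧ a * b = b * a := by
  decide +kernel

theorem target_A5 : Target (alternatingGroup (Fin 5)) where
  klein := hasKlein_top_of_exists klein_A5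
  dich := Or.inr ⟨by
    rw [Nat.card_eq_fintype_card]
    have := two_mul_card_alternatingGroup (α := Fin 5)
    rw [Fintype.card_perm, Fintype.card_fin] at this
    have h : (5 : ℕ).factorial = 120 := by decide
    omega, by
    intro K hK hne
    haveI : IsSimpleGroup (alternatingGroup (Fin 5)) := alternatingGroup.isSimpleGroup (by simp)
    rcases hK.eq_bot_or_eq_top with h | h
    · exact absurd h hne
    · rw [h]
      exact hasKlein_top_of_exists klein_A5⟩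

set_option maxRecDepth 1000000 in
theorem klein_S5 : ∃ a b : Perm (Fin 5),
    a ≠ 1 ∧ b ≠ 1 ∧ a ≠ b ∧ a * a = 1 ∧ b * b = 1 ∧ a * b = b * a := by
  decide +kernel

theorem target_S5 : Target (Perm (Fin 5)) where
  klein := hasKlein_top_of_exists klein_S5
  dich := Or.inr ⟨by
    rw [Nat.card_eq_fintype_card, Fintype.card_perm, Fintype.card_fin]
    decide, hasKlein_of_elementwise elementwise_S5⟩

end W1

end Cfsg.Agent.Helper5.Zas
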