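import Mathlib
import Cfsg.Agent.Helper8.ZasCoreUniqB
import Cfsg.Agent.Helper16.FCS4

/-!
# Uniqueness of the core of a Frobenius complement (piece W1 of S4291)
-/

set_option autoImplicit false
set_option linter.style.haveILetI false

namespace Cfsg.Agent.Helper5.Zas

namespace W1

/-- in a group of exponent two, powers of `u` are `1` or `u` -/
theorem pow_mem_of_sq {E : Type*} [Group E] (u : E) (hu : u * u = 1) (k : ℕ) :
    u ^ k = 1 ∨ u ^ k = u := by
  induction k with
  | zero => left; simp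
  | succ k ih =>
    rcases ih with h | h
    · right; rw [pow_succ, h, one_mul]
    · left; rw [pow_succ, h, hu]

theorem zpow_mem_of_sq {E : Type*} [Group E] (u : E) (hu : u * u = 1) (k : ℤ) :
    u ^ k = 1 ∨ u ^ k = u := by
  have hinv : u⁻¹ = u := inv_eq_of_mul_eq_one_left hu
  rcases Int.eq_nat_or_neg k with ⟨m, rfl | rfl⟩
  · rw [zpow_natCast]; exact pow_mem_of_sq u hu m
  · rw [zpow_neg, zpow_natCast]
    rcases pow_mem_of_sq u hu m with h | h
    · left; rw [h, inv_one]
    · right; rw [h, hinv]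

/-- a cyclic or quaternion group has no quotient of exponent two of order more than four -/
theorem card_le_four_of_surjective {P : Type*} [Group P]
    (hP : IsCyclic P ∨ ∃ n : ℕ, Nonempty (P ≃* QuaternionGroup (2 ^ n)))
    {E : Type*} [Group E] (hE : ∀ x : E, x * x = 1) (ψ : P →* E) (hψ : Function.Surjective ψ) :
    Nat.card E ≤ 4 := by
  classical
  have hcomm : ∀ x y : E, x * y = y * x := by
    intro x y
    have h1 := hE (x * y)
    have hx : x⁻¹ = x := inv_eq_of_mul_eq_one_left (hE x)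
    have hy : y⁻¹ = y := inv_eq_of_mul_eq_one_left (hE y)
    have h2 : x * y = (x * y)⁻¹ := (inv_eq_of_mul_eq_one_left h1).symm
    rw [h2, mul_inv_rev, hx, hy]
  have key : ∃ u v : E, ∀ y : E, y = 1 ∨ y = u ∨ y = v ∨ y = u * v := by
    rcases hP with hcyc | ⟨n, ⟨e⟩⟩
    · obtain ⟨g, hg⟩ := hcyc.exists_generator
      refine ⟨ψ g, 1, fun y => ?_⟩
      obtain ⟨p, rfl⟩ := hψ y
      obtain ⟨k, rfl⟩ := Subgroup.mem_zpowers_iff.mp (hg p)
      rw [map_zpow]
      rcases zpow_mem_of_sq (ψ g) (hE _) k with h | h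
      · left; exact h
      · right; left; exact h
    · set ψ' : QuaternionGroup (2 ^ n) →* E := ψ.comp e.symm.toMonoidHom with hψ'
      have hψ's : Function.Surjective ψ' := hψ.comp e.symm.surjective
      refine ⟨ψ' (QuaternionGroup.a 1), ψ' (QuaternionGroup.xa 0), fun y => ?_⟩
      obtain ⟨q, rfl⟩ := hψ's y
      have ha : ∀ i : ZMod (2 * 2 ^ n), ψ' (QuaternionGroup.a i) = 1 ∨
          ψ' (QuaternionGroup.a i) = ψ' (QuaternionGroup.a 1) := by
        intro i
        have h1 : (QuaternionGroup.a 1 : QuaternionGroup (2 ^ n)) ^ i.val = QuaternionGroup.a i := by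
          rw [QuaternionGroup.a_one_pow, ZMod.natCast_zmod_val]
        rw [← h1, map_pow]
        exact pow_mem_of_sq _ (hE _) _
      cases q with
      | a i =>
        rcases ha i with h | h
        · left; exact h
        · right; left; exact h
      | xa i =>
        have h1 : (QuaternionGroup.xa i : QuaternionGroup (2 ^ n)) =
            QuaternionGroup.xa 0 * QuaternionGroup.a i := by
          rw [QuaternionGroup.xa_mul_a, zero_add]
        rw [h1, map_mul]
        rcases ha i with h | h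
        · right; right; left; rw [h, mul_one]
        · right; right; right; rw [h, hcomm]
  obtain ⟨u, v, huv⟩ := key
  have hsub : (Set.univ : Set E) ⊆ ({1, u, v, u * v} : Set E) := by
    intro y _
    simp only [Set.mem_insert_iff, Set.mem_singleton_iff]
    exact huv y
  have hfin : ({1, u, v, u * v} : Set E).Finite := Set.toFinite _
  calc Nat.card E = (Set.univ : Set E).ncard := (Set.ncard_univ E).symm
    _ ≤ ({1, u, v, u * v} : Set E).ncard := Set.ncard_le_ncard hsub hfin
    _ ≤ 4 := by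
      have h1 := Set.ncard_insert_le (1 : E) ({u, v, u * v} : Set E)
      have h2 := Set.ncard_insert_le u ({v, u * v} : Set E)
      have h3 := Set.ncard_insert_le v ({u * v} : Set E)
      have h4 := Set.ncard_singleton (u * v)
      omega

/-- an exponent-two quotient of a finite group whose Sylow 2-subgroups are cyclic or quaternion has order
at most four -/
theorem card_le_four_of_quotient {G : Type*} [Group G] [Finite G]
    (hS : ∀ P : Sylow 2 G, IsCyclic P ∨ ∃ n : ℕ, Nonempty (P ≃* QuaternionGroup (2 ^ n)))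
    {E : Type*} [Group E] (hE : ∀ x : E, x * x = 1) (φ : G →* E) (hφ : Function.Surjective φ) :
    Nat.card E ≤ 4 := by
  haveI : Fact (Nat.Prime 2) := ⟨Nat.prime_two⟩
  obtain ⟨P⟩ : Nonempty (Sylow 2 G) := inferInstance
  have hE2 : IsPGroup 2 E := by
    intro x
    exact ⟨1, by rw [pow_one, pow_two]; exact hE x⟩
  have hmap : (P : Subgroup G).map φ = ⊤ := by
    have h1 := (P.mapSurjective hφ).is_maximal' (Q := ⊤)
      (by
        intro x
        obtain ⟨k, hk⟩ := hE2 x.1
        exact ⟨k, Subtype.ext hk⟩)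
      le_top
    exact h1.symm
  set ψ : P →* E := φ.comp (P : Subgroup G).subtype with hψ
  have hψs : Function.Surjective ψ := by
    intro y
    have : y ∈ (P : Subgroup G).map φ := by rw [hmap]; trivial
    obtain ⟨g, hg, rfl⟩ := this
    exact ⟨⟨g, hg⟩, rfl⟩
  exact card_le_four_of_surjective (hS P) hE ψ hψs

/-- index of the kernel of a surjection -/
theorem index_ker_of_surjective {G T : Type*} [Group G] [Group T] (f : G →* T)
    (hf : Function.Surjective f) : f.ker.index = Nat.card T := by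
  rw [Subgroup.index_ker, MonoidHom.range_eq_top.mpr hf, Subgroup.card_top]

/-- a normal `Z`-subgroup lies in the kernel of a surjection onto a "big" target -/
theorem le_ker_of_big {G : Type*} [Group G] [Finite G] {T : Type*} [Group T]
    (hT : ∀ K : Subgroup T, K.Normal → K ≠ ⊥ → HasKlein K)
    (f : G →* T) (hf : Function.Surjective f) (N : Subgroup G) [hN : N.Normal] [IsZGroup N] :
    N ≤ f.ker := by
  have hKn : (N.map f).Normal := hN.map f hf
  haveI : IsZGroup (N.map f) :=
    IsZGroup.of_surjective (f := f.subgroupMap N) (f.subgroupMap_surjective N)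
  by_contra hle
  have hne : N.map f ≠ ⊥ := by
    intro h
    apply hle
    rw [Subgroup.map_eq_bot_iff] at h
    exact h
  exact not_hasKlein_of_isZGroup (N.map f) (hT _ hKn hne)

/-- the quotient data of a core, in abstract form -/
def Quot {G : Type*} [Group G] (N : Subgroup G) : Prop :=
  ∃ (T : Type) (_ : Group T), Target T ∧ ∃ f : G →* T, Function.Surjective f ∧ f.ker = N

theorem quot_of_isCore {G : Type*} [Group G] {N : Subgroup G} (h : IsCore N) :
    N.Normal ∧ IsZGroup N ∧ (N = ⊤ ∨ Quot N) := by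
  obtain ⟨hn, hz, hq⟩ := h
  refine ⟨hn, ⟨fun p hp P => ?_⟩, ?_⟩
  · haveI : Fact p.Prime := ⟨hp⟩
    exact hz p P
  · rcases hq with h | ⟨f, hf, hk⟩ | ⟨f, hf, hk⟩ | ⟨f, hf, hk⟩ | ⟨f, hf, hk⟩ | ⟨f, hf, hk⟩
    · exact Or.inl h
    · exact Or.inr ⟨_, _, target_D2, f, hf, hk⟩
    · exact Or.inr ⟨_, _, target_A4, f, hf, hk⟩
    · exact Or.inr ⟨_, _, target_S4, f, hf, hk⟩
    · exact Or.inr ⟨_, _, target_A5, f, hf, hk⟩
    · exact Or.inr ⟨_, _, target_S5, f, hf, hk⟩

/-- `⊤` and a proper core cannot coexist -/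
theorem not_quot_of_top {G : Type*} [Group G] [Finite G] [IsZGroup (⊤ : Subgroup G)]
    {N : Subgroup G} (h : Quot N) : False := by
  obtain ⟨T, _, hT, f, hf, -⟩ := h
  haveI : IsZGroup G := IsZGroup.of_surjective (f := (Subgroup.topEquiv : (⊤ : Subgroup G) ≃* G).toMonoidHom)
    Subgroup.topEquiv.surjective
  haveI : IsZGroup T := IsZGroup.of_surjective hf
  exact not_hasKlein_of_isZGroup (⊤ : Subgroup T) hT.klein

/-- two proper cores coincide -/
theorem eq_of_quot {G : Type*} [Group G] [Finite G]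
    (hS : ∀ P : Sylow 2 G, IsCyclic P ∨ ∃ n : ℕ, Nonempty (P ≃* QuaternionGroup (2 ^ n)))
    {N₁ N₂ : Subgroup G} [N₁.Normal] [N₂.Normal] [IsZGroup N₁] [IsZGroup N₂]
    (h₁ : Quot N₁) (h₂ : Quot N₂) : N₁ = N₂ := by
  obtain ⟨T₁, _, hT₁, f₁, hf₁, hk₁⟩ := h₁
  obtain ⟨T₂, _, hT₂, f₂, hf₂, hk₂⟩ := h₂
  have hi₁ : N₁.index = Nat.card T₁ := by rw [← hk₁]; exact index_ker_of_surjective f₁ hf₁
  have hi₂ : N₂.index = Nat.card T₂ := by rw [← hk₂]; exact index_ker_of_surjective f₂ hf₂
  have hpos₁ : N₁.index ≠ 0 := Subgroup.index_ne_zero_of_finite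
  have hpos₂ : N₂.index ≠ 0 := Subgroup.index_ne_zero_of_finite
  rcases hT₁.dich with ⟨hE₁, hc₁⟩ | ⟨hc₁, hb₁⟩ <;> rcases hT₂.dich with ⟨hE₂, hc₂⟩ | ⟨hc₂, hb₂⟩
  · -- both of Klein type
    set φ : G →* T₁ × T₂ := f₁.prod f₂ with hφ
    have hker : φ.ker = N₁ ⊓ N₂ := by
      rw [hφ, MonoidHom.ker_prod, hk₁, hk₂]
    have hE : ∀ x : φ.range, x * x = 1 := by
      rintro ⟨⟨x, y⟩, hx⟩
      apply Subtype.ext
      show (x, y) * (x, y) = 1
      rw [Prod.mk_mul_mk, hE₁, hE₂]
      rfl
    have h4 := card_le_four_of_quotient hS hE φ.rangeRestrict φ.rangeRestrict_surjective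
    have hidx : (N₁ ⊓ N₂).index ≤ 4 := by
      rw [← hker, Subgroup.index_ker]
      exact h4
    have hle₁ : N₁ ≤ N₂ := by
      have h1 : (N₁ ⊓ N₂).relIndex N₁ * N₁.index = (N₁ ⊓ N₂).index :=
        Subgroup.relIndex_mul_index inf_le_left
      rw [hi₁, hc₁] at h1
      have h2 : (N₁ ⊓ N₂).relIndex N₁ = 1 := by
        have h3 : (N₁ ⊓ N₂).relIndex N₁ ≠ 0 := by
          intro h0
          rw [h0, zero_mul] at h1
          exact Subgroup.index_ne_zero_of_finite h1.symm
        by_contra hne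
        have : 2 ≤ (N₁ ⊓ N₂).relIndex N₁ := by omega
        nlinarith
      rw [Subgroup.relIndex_eq_one] at h2
      exact h2.trans inf_le_right
    have hle₂ : N₂ ≤ N₁ := by
      have h1 : (N₁ ⊓ N₂).relIndex N₂ * N₂.index = (N₁ ⊓ N₂).index :=
        Subgroup.relIndex_mul_index inf_le_right
      rw [hi₂, hc₂] at h1
      have h2 : (N₁ ⊓ N₂).relIndex N₂ = 1 := by
        have h3 : (N₁ ⊓ N₂).relIndex N₂ ≠ 0 := by
          intro h0
          rw [h0, zero_mul] at h1
          exact Subgroup.index_ne_zero_of_finite h1.symm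
        by_contra hne
        have : 2 ≤ (N₁ ⊓ N₂).relIndex N₂ := by omega
        nlinarith
      rw [Subgroup.relIndex_eq_one] at h2
      exact h2.trans inf_le_left
    exact le_antisymm hle₁ hle₂
  · -- `T₁` Klein, `T₂` big
    exfalso
    have hle : N₁ ≤ N₂ := by rw [← hk₂]; exact le_ker_of_big hb₂ f₂ hf₂ N₁
    have hdvd : N₂.index ∣ N₁.index := Subgroup.index_dvd_of_le hle
    rw [hi₁, hi₂, hc₁] at hdvd
    have := Nat.le_of_dvd (by norm_num) hdvd
    omega
  · -- `T₁` big, `T₂` Klein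
    exfalso
    have hle : N₂ ≤ N₁ := by rw [← hk₁]; exact le_ker_of_big hb₁ f₁ hf₁ N₂
    have hdvd : N₁.index ∣ N₂.index := Subgroup.index_dvd_of_le hle
    rw [hi₁, hi₂, hc₂] at hdvd
    have := Nat.le_of_dvd (by norm_num) hdvd
    omega
  · -- both big
    have hle₁ : N₁ ≤ N₂ := by rw [← hk₂]; exact le_ker_of_big hb₂ f₂ hf₂ N₁
    have hle₂ : N₂ ≤ N₁ := by rw [← hk₁]; exact le_ker_of_big hb₁ f₁ hf₁ N₂
    exact le_antisymm hle₁ hle₂

end W1

/-- (W1) uniqueness of the core -/
theorem isCore_unique {G : Type*} [Group G] [Finite G]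
    (hAC : ∀ A : Subgroup G, IsMulCommutative A → IsCyclic A)
    {N₁ N₂ : Subgroup G} (h₁ : IsCore N₁) (h₂ : IsCore N₂) : N₁ = N₂ := by
  have hS : ∀ P : Sylow 2 G, IsCyclic P ∨ ∃ n : ℕ, Nonempty (P ≃* QuaternionGroup (2 ^ n)) := by
    intro P
    exact Cfsg.Agent.Helper16.FCS4.two_group_structure (fun B _ hB => hAC B hB) (P : Subgroup G)
      P.isPGroup'
  obtain ⟨hn₁, hz₁, hq₁⟩ := W1.quot_of_isCore h₁
  obtain ⟨hn₂, hz₂, hq₂⟩ := W1.quot_of_isCore h₂
  rcases hq₁ with rfl | hq₁ <;> rcases hq₂ with rfl | hq₂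
  · rfl
  · exact (W1.not_quot_of_top hq₂).elim
  · exact (W1.not_quot_of_top hq₁).elim
  · exact W1.eq_of_quot hS hq₁ hq₂

end Cfsg.Agent.Helper5.Zas
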